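import Mathlib
import Cfsg.Prelude.Def_Solvable

/-!
General facts on subgroups of finite groups: orders, coprimality, characteristic subgroups of normal subgroups,
minimal normal subgroups, decomposition of elements of finite order.
-/

namespace Cfsg.Agent.Grp

open scoped Pointwise
open Subgroup

variable {G : Type*} [Group G]

theorem card_mul_relIndex {H K : Subgroup G} (h : H ≤ K) :
    Nat.card H * H.relIndex K = Nat.card K := by
  rw [← Subgroup.relIndex_bot_left, ← Subgroup.relIndex_bot_left, Subgroup.relIndex_mul_relIndex ⊥ H K bot_le h]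

theorem relIndex_mul_card_inf (H K : Subgroup G) :
    Nat.card ↥(H ⊓ K) * K.relIndex H = Nat.card H := by
  rw [← Subgroup.inf_relIndex_left, card_mul_relIndex inf_le_left]

/-- Order formula for a product with a normalized factor. -/
theorem card_sup_mul_card_inf {H N : Subgroup G} (hH : H ≤ Subgroup.normalizer (N : Set G)) :
    Nat.card ↥(H ⊔ N) * Nat.card ↥(H ⊓ N) = Nat.card H * Nat.card N := by
  set L : Subgroup G := H ⊔ N
  have hL : L ≤ Subgroup.normalizer (N : Set G) := sup_le hH Subgroup.le_normalizer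
  have hn : (N.subgroupOf L).Normal := Subgroup.normal_subgroupOf_of_le_normalizer hL
  have h1 : N.relIndex L = N.relIndex H := by
    have := Subgroup.relIndex_sup_right (H := H.subgroupOf L) (K := N.subgroupOf L)
    rw [← Subgroup.subgroupOf_sup le_sup_left le_sup_right, Subgroup.relIndex_subgroupOf le_sup_left,
      Subgroup.relIndex_subgroupOf le_rfl] at this
    exact this
  have h2 := card_mul_relIndex (le_sup_right : N ≤ H ⊔ N)
  have h3 := relIndex_mul_card_inf H N
  calc Nat.card ↥(H ⊔ N) * Nat.card ↥(H ⊓ N) = Nat.card N * N.relIndex L * Nat.card ↥(H ⊓ N) := by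
        rw [h2]
    _ = Nat.card N * (Nat.card ↥(H ⊓ N) * N.relIndex H) := by rw [h1]; ring
    _ = Nat.card H * Nat.card N := by rw [h3]; ring

theorem card_sup_mul_card_inf_normal {H N : Subgroup G} [N.Normal] :
    Nat.card ↥(H ⊔ N) * Nat.card ↥(H ⊓ N) = Nat.card H * Nat.card N :=
  card_sup_mul_card_inf (by rw [Subgroup.normalizer_eq_top]; exact le_top)

theorem card_sup_dvd_mul {H N : Subgroup G} (hH : H ≤ Subgroup.normalizer (N : Set G)) :
    Nat.card ↥(H ⊔ N) ∣ Nat.card H * Nat.card N :=
  ⟨_, (card_sup_mul_card_inf hH).symm⟩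

theorem inf_eq_bot_of_coprime {H K : Subgroup G} (h : (Nat.card H).Coprime (Nat.card K)) :
    H ⊓ K = ⊥ :=
  Subgroup.card_eq_one.mp <| Nat.eq_one_of_dvd_coprimes h
    (Subgroup.card_dvd_of_le inf_le_left) (Subgroup.card_dvd_of_le inf_le_right)

theorem card_sup_coprime {H N : Subgroup G} (hH : H ≤ Subgroup.normalizer (N : Set G))
    (h : (Nat.card H).Coprime (Nat.card N)) :
    Nat.card ↥(H ⊔ N) = Nat.card H * Nat.card N := by
  rw [← card_sup_mul_card_inf hH, inf_eq_bot_of_coprime h, Subgroup.card_bot, mul_one]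

theorem card_sup_coprime_to {H N : Subgroup G} (hH : H ≤ Subgroup.normalizer (N : Set G)) {n : ℕ}
    (h1 : (Nat.card H).Coprime n) (h2 : (Nat.card N).Coprime n) :
    (Nat.card ↥(H ⊔ N)).Coprime n :=
  (Nat.Coprime.mul_left h1 h2).coprime_dvd_left (card_sup_dvd_mul hH)

theorem coprime_index_of_le [Finite G] {H K : Subgroup G} (h : H ≤ K) {n : ℕ}
    (hc : n.Coprime H.index) : n.Coprime K.index :=
  hc.coprime_dvd_right ⟨_, ((Subgroup.relIndex_mul_index h).symm.trans (mul_comm _ _))⟩

theorem le_of_coprime_index [Finite G] {N H : Subgroup G} [N.Normal]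
    (h : (Nat.card H).Coprime N.index) : H ≤ N := by
  intro x hx
  rw [← QuotientGroup.eq_one_iff (N := N), ← orderOf_eq_one_iff]
  refine Nat.eq_one_of_dvd_coprimes h ?_ ?_
  · exact (orderOf_map_dvd (QuotientGroup.mk' N) x).trans (Subgroup.orderOf_dvd_natCard H hx)
  · exact orderOf_dvd_natCard _

theorem normal_of_characteristic_map {N : Subgroup G} [N.Normal] (K : Subgroup N) [K.Characteristic] :
    (K.map N.subtype).Normal := by
  infer_instance

/-- A finite family closed under joins contains a greatest element. -/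
theorem sSup_mem_of_closed {α : Type*} [CompleteLattice α] [Finite α] (S : Set α) (hne : S.Nonempty)
    (hc : ∀ a ∈ S, ∀ b ∈ S, a ⊔ b ∈ S) : sSup S ∈ S :=
  SupClosed.finsetSup'_mem (f := id) (s := S) (by intro a ha b hb; exact hc a ha b hb)
    (t := (Set.toFinite S).toFinset) (by simpa using hne) (by simp) |> fun h => by
      convert h using 1
      rw [Finset.sup'_eq_sup, Finset.sup_id_eq_sSup, Set.Finite.coe_toFinset]

/-- Minimal nontrivial normal subgroups exist below any nontrivial normal subgroup. -/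
theorem exists_minimal_normal_le [Finite G] {N : Subgroup G} [hN : N.Normal] (hne : N ≠ ⊥) :
    ∃ M : Subgroup G, M.Normal ∧ M ≠ ⊥ ∧ M ≤ N ∧
      ∀ K : Subgroup G, K.Normal → K ≤ M → K = ⊥ ∨ K = M := by
  obtain ⟨M, hMN, hM⟩ := (Set.toFinite {K : Subgroup G | K.Normal ∧ K ≠ ⊥}).exists_le_minimal
    (a := N) ⟨hN, hne⟩
  refine ⟨M, hM.1.1, hM.1.2, hMN, fun K hK hKM => ?_⟩
  by_cases h : K = ⊥
  · exact Or.inl h
  · exact Or.inr (le_antisymm hKM (hM.2 ⟨hK, h⟩ hKM))

theorem card_quotient_lt [Finite G] {N : Subgroup G} [N.Normal] (hN : N ≠ ⊥) :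
    Nat.card (G ⧸ N) < Nat.card G := by
  rw [Subgroup.card_eq_card_quotient_mul_card_subgroup N]
  exact lt_mul_of_one_lt_right Nat.card_pos ((Subgroup.one_lt_card_iff_ne_bot _).mpr hN)

theorem card_lt_of_ne_top [Finite G] {H : Subgroup G} (hH : H ≠ ⊤) :
    Nat.card H < Nat.card G :=
  lt_of_le_of_ne (Subgroup.card_le_card_group H) fun h => hH (Subgroup.eq_top_of_card_eq H h)

theorem isSolvable_of_injective {H : Type*} [Group H] (f : H →* G) (hf : Function.Injective f)
    (h : Group.IsSolvable G) : Group.IsSolvable H :=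
  Group.isSolvable_of_isSolvable_injective hf

theorem isSolvable_of_le {H K : Subgroup G} (h : H ≤ K) (hK : Group.IsSolvable K) :
    Group.IsSolvable H :=
  isSolvable_of_injective (Subgroup.inclusion h) (Subgroup.inclusion_injective h) hK

theorem isSolvable_map {H : Subgroup G} (hH : Group.IsSolvable H) {G' : Type*} [Group G']
    (f : G →* G') : Group.IsSolvable ↥(H.map f) :=
  Group.isSolvable_of_surjective (f.subgroupMap_surjective H)

theorem isNilpotent_of_le {H K : Subgroup G} (h : H ≤ K) (hK : Group.IsNilpotent K) :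
    Group.IsNilpotent H :=
  Group.nilpotent_of_mulEquiv (Subgroup.subgroupOfEquivOfLe h)

theorem isNilpotent_map {H : Subgroup G} (hH : Group.IsNilpotent H) {G' : Type*} [Group G']
    (f : G →* G') : Group.IsNilpotent ↥(H.map f) :=
  Group.nilpotent_of_surjective _ (f.subgroupMap_surjective H)

/-- Writing a group element as a product of commuting powers of coprime orders. -/
theorem exists_pow_decomp {g : G} {m n : ℕ} (hmn : m.Coprime n) (hg : g ^ (m * n) = 1) :
    ∃ a b : G, a ∈ Subgroup.zpowers g ∧ b ∈ Subgroup.zpowers g ∧ a ^ m = 1 ∧ b ^ n = 1 ∧ g = a * b := by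
  have h : (1 : ℤ) = (m : ℤ) * Nat.gcdA m n + (n : ℤ) * Nat.gcdB m n := by
    rw [← Nat.gcd_eq_gcd_ab, hmn]; rfl
  refine ⟨g ^ ((n : ℤ) * Nat.gcdB m n), g ^ ((m : ℤ) * Nat.gcdA m n), ⟨_, rfl⟩, ⟨_, rfl⟩, ?_, ?_, ?_⟩
  · rw [← zpow_natCast, ← zpow_mul, show (n : ℤ) * Nat.gcdB m n * m = ((m * n : ℕ) : ℤ) * Nat.gcdB m n by
      push_cast; ring, zpow_mul, zpow_natCast, hg, one_zpow]
  · rw [← zpow_natCast, ← zpow_mul, show (m : ℤ) * Nat.gcdA m n * n = ((m * n : ℕ) : ℤ) * Nat.gcdA m n by
      push_cast; ring, zpow_mul, zpow_natCast, hg, one_zpow]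
  · rw [← zpow_add, add_comm, ← h, zpow_one]

/-- Reformulation of the normalizer of a subgroup by conjugation. -/
theorem mem_normalizer_of_map_eq {H : Subgroup G} {g : G} :
    g ∈ Subgroup.normalizer (H : Set G) ↔ H.map (MulAut.conj g).toMonoidHom = H := by
  rw [Subgroup.mem_normalizer_iff]
  constructor
  · intro h
    ext x
    simp only [Subgroup.mem_map, MulEquiv.coe_toMonoidHom, MulAut.conj_apply]
    constructor
    · rintro ⟨y, hy, rfl⟩; exact (h y).mp hy
    · intro hx
      refine ⟨g⁻¹ * x * g, (h _).mpr ?_, by group⟩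
      convert hx using 1; group
  · intro h x
    constructor
    · intro hx; rw [← h]; exact ⟨x, hx, rfl⟩
    · intro hx
      rw [← h] at hx
      obtain ⟨y, hy, hy'⟩ := hx
      simp only [MulEquiv.coe_toMonoidHom, MulAut.conj_apply, mul_left_inj, mul_right_inj] at hy'
      exact hy' ▸ hy

theorem map_conj_eq_smul (H : Subgroup G) (g : G) :
    H.map (MulAut.conj g).toMonoidHom = MulAut.conj g • H := rfl

theorem mem_normalizer_iff_smul {H : Subgroup G} {g : G} :
    g ∈ Subgroup.normalizer (H : Set G) ↔ MulAut.conj g • H = H :=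
  mem_normalizer_of_map_eq

theorem mem_smul_conj {H : Subgroup G} {g x : G} :
    x ∈ MulAut.conj g • H ↔ g⁻¹ * x * g ∈ H := by
  rw [Subgroup.mem_pointwise_smul_iff_inv_smul_mem, ← map_inv, MulAut.smul_def, MulAut.conj_apply, inv_inv]

end Cfsg.Agent.Grp
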