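import Mathlib
import Cfsg.Prelude.Def_Solvable
import Cfsg.Agent.Lib.Grp.Basic

/-!
The cores `pCore`, `pPrimeCore` and the Fitting subgroup of a finite group.
-/

namespace Cfsg.Agent.Grp

open Subgroup

variable {G : Type*} [Group G] {p : ℕ}

theorem pCore_isNormal : (Cfsg.pCore p G).Normal :=
  Subgroup.sSup_normal _ fun _ h => h.1

theorem pPrimeCore_isNormal : (Cfsg.pPrimeCore p G).Normal :=
  Subgroup.sSup_normal _ fun _ h => h.1

theorem fittingSubgroup_isNormal : (Cfsg.fittingSubgroup G).Normal :=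
  Subgroup.sSup_normal _ fun _ h => h.1

theorem le_pCore {N : Subgroup G} (hN : N.Normal) (h : IsPGroup p N) : N ≤ Cfsg.pCore p G :=
  le_sSup ⟨hN, h⟩

theorem le_pPrimeCore {N : Subgroup G} (hN : N.Normal) (h : (Nat.card N).Coprime p) :
    N ≤ Cfsg.pPrimeCore p G :=
  le_sSup ⟨hN, h⟩

theorem le_fittingSubgroup {N : Subgroup G} (hN : N.Normal) (h : Group.IsNilpotent N) :
    N ≤ Cfsg.fittingSubgroup G :=
  le_sSup ⟨hN, h⟩

theorem pCore_isPGroup [Finite G] : IsPGroup p ↥(Cfsg.pCore p G) :=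
  (sSup_mem_of_closed {N : Subgroup G | N.Normal ∧ IsPGroup p N} ⟨⊥, inferInstance, IsPGroup.of_bot⟩
    fun _ ⟨_, ha'⟩ _ ⟨_, hb'⟩ => ⟨inferInstance, ha'.to_sup_of_normal_right hb'⟩).2

theorem pPrimeCore_coprime [Finite G] : (Nat.card ↥(Cfsg.pPrimeCore p G)).Coprime p :=
  (sSup_mem_of_closed {N : Subgroup G | N.Normal ∧ (Nat.card N).Coprime p}
    ⟨⊥, inferInstance, by simp⟩
    fun _ ⟨_, ha'⟩ _ ⟨_, hb'⟩ => ⟨inferInstance,
      card_sup_coprime_to (by rw [Subgroup.normalizer_eq_top]; exact le_top) ha' hb'⟩).2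

theorem pPrimeCore_not_dvd [Finite G] [hp : Fact p.Prime] :
    ¬ p ∣ Nat.card ↥(Cfsg.pPrimeCore p G) :=
  hp.out.coprime_iff_not_dvd.mp (pPrimeCore_coprime (p := p) (G := G)).symm

theorem pPrimeCore_le_iff [Finite G] {N : Subgroup G} (hN : N.Normal) :
    N ≤ Cfsg.pPrimeCore p G ↔ (Nat.card N).Coprime p :=
  ⟨fun h => (pPrimeCore_coprime (p := p) (G := G)).coprime_dvd_left (Subgroup.card_dvd_of_le h),
    le_pPrimeCore hN⟩

theorem pCore_le_sylow [Finite G] [Fact p.Prime] (P : Sylow p G) :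
    Cfsg.pCore p G ≤ (P : Subgroup G) := by
  have := pCore_isNormal (p := p) (G := G)
  exact (pCore_isPGroup (p := p) (G := G)).le_sylow_of_normal P

/-- The trace of a Sylow subgroup on a normal subgroup has index prime to `p` there. -/
theorem sylow_inf_normal_relIndex [Finite G] [hp : Fact p.Prime] (P : Sylow p G) (N : Subgroup G)
    [N.Normal] : ¬ p ∣ (P : Subgroup G).relIndex N := by
  intro h
  apply P.not_dvd_index
  have h1 : (P : Subgroup G).relIndex N = (P : Subgroup G).relIndex ((P : Subgroup G) ⊔ N) := by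
    have e := card_sup_mul_card_inf_normal (H := (P : Subgroup G)) (N := N)
    have a := card_mul_relIndex (le_sup_left : (P : Subgroup G) ≤ (P : Subgroup G) ⊔ N)
    have b := relIndex_mul_card_inf N (P : Subgroup G)
    rw [inf_comm] at b
    have hpos : 0 < Nat.card (P : Subgroup G) * Nat.card ↥((P : Subgroup G) ⊓ N) :=
      Nat.mul_pos Nat.card_pos Nat.card_pos
    refine Nat.eq_of_mul_eq_mul_left hpos ?_
    calc Nat.card (P : Subgroup G) * Nat.card ↥((P : Subgroup G) ⊓ N) * (P : Subgroup G).relIndex N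
        = Nat.card (P : Subgroup G) * (Nat.card ↥((P : Subgroup G) ⊓ N) * (P : Subgroup G).relIndex N) := by ring
      _ = Nat.card ↥((P : Subgroup G) ⊔ N) * Nat.card ↥((P : Subgroup G) ⊓ N) := by rw [b, e]
      _ = _ := by rw [← a]; ring
  rw [h1] at h
  exact h.trans ⟨_, (Subgroup.relIndex_mul_index le_sup_left).symm⟩

theorem sylow_inf_normal_normal [Finite G] [Fact p.Prime] (P : Sylow p G) (N : Subgroup G)
    [hN : N.Normal] (hn : Group.IsNilpotent N) : ((P : Subgroup G) ⊓ N).Normal := by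
  have hpg : IsPGroup p ↥((P : Subgroup G).subgroupOf N) := P.isPGroup'.comap_subtype
  have hidx : ¬ p ∣ ((P : Subgroup G).subgroupOf N).index := sylow_inf_normal_relIndex P N
  let Q : Sylow p N := hpg.toSylow hidx
  have : (Q : Subgroup N).Characteristic := Q.characteristic_of_normal inferInstance
  have h : ((Q : Subgroup N).map N.subtype).Normal := inferInstance
  rwa [show (Q : Subgroup N) = (P : Subgroup G).subgroupOf N from rfl, Subgroup.subgroupOf_map_subtype] at h

theorem isNilpotent_iff_sylow_normal [Finite G] :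
    Group.IsNilpotent G ↔ ∀ (p : ℕ) (_ : Fact p.Prime) (P : Sylow p G), (P : Subgroup G).Normal :=
  Group.isNilpotent_of_finite_tfae.out 0 3

/-- Fitting's theorem. -/
theorem isNilpotent_sup_normal [Finite G] (M N : Subgroup G) [M.Normal] [N.Normal]
    (hM : Group.IsNilpotent M) (hN : Group.IsNilpotent N) : Group.IsNilpotent ↥(M ⊔ N) := by
  set K := M ⊔ N with hK
  let M' := M.subgroupOf K
  let N' := N.subgroupOf K
  have hM' : Group.IsNilpotent M' :=
    (Group.isNilpotent_congr (Subgroup.subgroupOfEquivOfLe (le_sup_left : M ≤ K))).mpr hM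
  have hN' : Group.IsNilpotent N' :=
    (Group.isNilpotent_congr (Subgroup.subgroupOfEquivOfLe (le_sup_right : N ≤ K))).mpr hN
  have htop : M' ⊔ N' = ⊤ := by
    rw [← Subgroup.subgroupOf_sup le_sup_left le_sup_right, Subgroup.subgroupOf_self]
  refine isNilpotent_iff_sylow_normal.mpr fun q hq P => ?_
  have hA := sylow_inf_normal_normal P M' hM'
  have hB := sylow_inf_normal_normal P N' hN'
  set A := (P : Subgroup K) ⊓ M'
  set B := (P : Subgroup K) ⊓ N'
  suffices h : (P : Subgroup K) = A ⊔ B by rw [h]; infer_instance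
  refine (Subgroup.eq_of_le_of_card_ge (sup_le inf_le_left inf_le_left) ?_).symm
  have e1 := card_sup_mul_card_inf_normal (H := A) (N := B)
  have e2 := card_sup_mul_card_inf_normal (H := M') (N := N')
  rw [htop, Subgroup.card_top] at e2
  have a1 := relIndex_mul_card_inf M' (P : Subgroup K)
  have b1 := relIndex_mul_card_inf N' (P : Subgroup K)
  rw [inf_comm] at a1 b1
  have hab : Nat.card ↥(A ⊓ B) ∣ Nat.card ↥(M' ⊓ N') :=
    Subgroup.card_dvd_of_le (inf_le_inf inf_le_right inf_le_right)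
  obtain ⟨t, ht⟩ := hab
  have key : Nat.card K * t * Nat.card ↥(A ⊓ B) =
      (P : Subgroup K).relIndex M' * (P : Subgroup K).relIndex N' * Nat.card ↥(A ⊔ B) *
        Nat.card ↥(A ⊓ B) := by
    calc Nat.card K * t * Nat.card ↥(A ⊓ B)
        = Nat.card K * (Nat.card ↥(A ⊓ B) * t) := by ring
      _ = Nat.card M' * Nat.card N' := by rw [← ht, e2]
      _ = Nat.card A * (P : Subgroup K).relIndex M' * (Nat.card B * (P : Subgroup K).relIndex N') := by
          rw [a1, b1]
      _ = (P : Subgroup K).relIndex M' * (P : Subgroup K).relIndex N' *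
            (Nat.card A * Nat.card B) := by ring
      _ = _ := by rw [← e1]; ring
  have hdvd : Nat.card (P : Subgroup K) ∣
      (P : Subgroup K).relIndex M' * (P : Subgroup K).relIndex N' * Nat.card ↥(A ⊔ B) := by
    rw [← Nat.eq_of_mul_eq_mul_right Nat.card_pos key]
    exact (Subgroup.card_subgroup_dvd_card _).mul_right _
  have hcop : (Nat.card (P : Subgroup K)).Coprime
      ((P : Subgroup K).relIndex M' * (P : Subgroup K).relIndex N') := by
    obtain ⟨n, hn⟩ := IsPGroup.iff_card.mp P.isPGroup'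
    rw [hn]
    refine Nat.Coprime.pow_left _ (hq.out.coprime_iff_not_dvd.mpr ?_)
    rw [Nat.Prime.dvd_mul hq.out, not_or]
    exact ⟨sylow_inf_normal_relIndex P M', sylow_inf_normal_relIndex P N'⟩
  exact Nat.le_of_dvd Nat.card_pos (hcop.dvd_of_dvd_mul_left hdvd)

theorem fittingSubgroup_isNilpotent [Finite G] : Group.IsNilpotent ↥(Cfsg.fittingSubgroup G) :=
  (sSup_mem_of_closed {N : Subgroup G | N.Normal ∧ Group.IsNilpotent N}
    ⟨⊥, inferInstance, inferInstance⟩
    fun _ ⟨_, ha'⟩ _ ⟨_, hb'⟩ => ⟨inferInstance, isNilpotent_sup_normal _ _ ha' hb'⟩).2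

theorem pCore_le_fittingSubgroup [Finite G] [Fact p.Prime] :
    Cfsg.pCore p G ≤ Cfsg.fittingSubgroup G :=
  le_fittingSubgroup pCore_isNormal (pCore_isPGroup (p := p)).isNilpotent

theorem commute_of_coprime_normal {M N : Subgroup G} [M.Normal] [N.Normal]
    (h : (Nat.card M).Coprime (Nat.card N)) : M ≤ Subgroup.centralizer (N : Set G) :=
  Subgroup.commutator_eq_bot_iff_le_centralizer.mp
    (Subgroup.commutator_eq_bot_of_disjoint (disjoint_iff.mpr (inf_eq_bot_of_coprime h)))

theorem fittingSubgroup_eq_iSup_pCore [Finite G] :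
    Cfsg.fittingSubgroup G = ⨆ p : Nat.Primes, Cfsg.pCore (p : ℕ) G := by
  refine le_antisymm ?_ (iSup_le fun p => ?_)
  · refine sSup_le fun N ⟨hN, hnil⟩ => ?_
    have hle : ∀ (q : ℕ) [Fact q.Prime] (P : Sylow q N),
        (P : Subgroup N).map N.subtype ≤ ⨆ p : Nat.Primes, Cfsg.pCore (p : ℕ) G := by
      intro q hq P
      have : (P : Subgroup N).Characteristic := P.characteristic_of_normal inferInstance
      have hn : ((P : Subgroup N).map N.subtype).Normal := inferInstance
      exact le_iSup_of_le ⟨q, hq.out⟩ (le_pCore hn (P.isPGroup'.map _))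
    set T := (⨆ p : Nat.Primes, Cfsg.pCore (p : ℕ) G).subgroupOf N
    suffices T = ⊤ from Subgroup.subgroupOf_eq_top.mp this
    refine Subgroup.eq_top_of_card_eq T (Nat.dvd_antisymm (Subgroup.card_subgroup_dvd_card _) ?_)
    refine (Nat.dvd_iff_prime_pow_dvd_dvd _ _).mpr fun q k hq hk => ?_
    have := Fact.mk hq
    obtain ⟨P⟩ : Nonempty (Sylow q N) := Sylow.nonempty
    have hPT : (P : Subgroup N) ≤ T := by
      intro x hx
      exact hle q P ⟨x, hx, rfl⟩
    exact (P.pow_dvd_card_of_pow_dvd_card hk).trans (Subgroup.card_dvd_of_le hPT)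
  · have := Fact.mk p.2
    exact pCore_le_fittingSubgroup

theorem pCore_eq_iInf_sylow [Finite G] [Fact p.Prime] :
    Cfsg.pCore p G = ⨅ P : Sylow p G, (P : Subgroup G) := by
  refine le_antisymm (le_iInf fun P => pCore_le_sylow P) (le_pCore ?_ ?_)
  · refine ⟨fun x hx g => ?_⟩
    rw [Subgroup.mem_iInf] at hx ⊢
    intro P
    have := hx (g⁻¹ • P)
    rw [Sylow.coe_subgroup_smul, mem_smul_conj, inv_inv] at this
    exact this
  · obtain ⟨P⟩ : Nonempty (Sylow p G) := Sylow.nonempty
    exact P.isPGroup'.to_le (iInf_le _ P)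

instance instCharPCore : (Cfsg.pCore p G).Characteristic := by
  refine Subgroup.characteristic_iff_map_le.mpr fun φ => ?_
  rw [Cfsg.pCore, Subgroup.map_le_iff_le_comap]
  refine sSup_le fun N ⟨hN, hp⟩ => ?_
  rw [← Subgroup.map_le_iff_le_comap]
  exact le_sSup ⟨hN.map φ.toMonoidHom φ.surjective, hp.map _⟩

instance instCharPPrimeCore : (Cfsg.pPrimeCore p G).Characteristic := by
  refine Subgroup.characteristic_iff_map_le.mpr fun φ => ?_
  rw [Cfsg.pPrimeCore, Subgroup.map_le_iff_le_comap]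
  refine sSup_le fun N ⟨hN, hp⟩ => ?_
  rw [← Subgroup.map_le_iff_le_comap]
  exact le_sSup ⟨hN.map φ.toMonoidHom φ.surjective, hp.coprime_dvd_left (Subgroup.card_map_dvd _ _)⟩

instance instCharFitting : (Cfsg.fittingSubgroup G).Characteristic := by
  refine Subgroup.characteristic_iff_map_le.mpr fun φ => ?_
  rw [Cfsg.fittingSubgroup, Subgroup.map_le_iff_le_comap]
  refine sSup_le fun N ⟨hN, hp⟩ => ?_
  rw [← Subgroup.map_le_iff_le_comap]
  exact le_sSup ⟨hN.map φ.toMonoidHom φ.surjective, isNilpotent_map hp _⟩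

/-- Cores of a normal subgroup lie in the cores of the group. -/
theorem pCore_map_le [Finite G] (N : Subgroup G) [N.Normal] :
    (Cfsg.pCore p N).map N.subtype ≤ Cfsg.pCore p G :=
  le_pCore inferInstance ((pCore_isPGroup (p := p)).map _)

theorem pPrimeCore_map_eq [Finite G] (N : Subgroup G) [N.Normal] :
    (Cfsg.pPrimeCore p N).map N.subtype = Cfsg.pPrimeCore p G ⊓ N := by
  have := pPrimeCore_isNormal (p := p) (G := G)
  refine le_antisymm (le_inf (le_pPrimeCore inferInstance ?_) (Subgroup.map_subtype_le _)) ?_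
  · exact (pPrimeCore_coprime (p := p)).coprime_dvd_left (Subgroup.card_map_dvd _ _)
  · have h : (Cfsg.pPrimeCore p G ⊓ N).subgroupOf N ≤ Cfsg.pPrimeCore p N := by
      refine le_pPrimeCore inferInstance ?_
      rw [Nat.card_congr (Subgroup.subgroupOfEquivOfLe inf_le_right).toEquiv]
      exact (pPrimeCore_coprime (p := p)).coprime_dvd_left (Subgroup.card_dvd_of_le inf_le_left)
    have := Subgroup.map_mono (f := N.subtype) h
    rwa [Subgroup.subgroupOf_map_subtype, inf_assoc, inf_idem] at this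

theorem fittingSubgroup_map_eq [Finite G] (N : Subgroup G) [N.Normal] :
    (Cfsg.fittingSubgroup N).map N.subtype = Cfsg.fittingSubgroup G ⊓ N := by
  have := fittingSubgroup_isNormal (G := G)
  refine le_antisymm (le_inf (le_fittingSubgroup inferInstance
    (isNilpotent_map fittingSubgroup_isNilpotent _)) (Subgroup.map_subtype_le _)) ?_
  have h : (Cfsg.fittingSubgroup G ⊓ N).subgroupOf N ≤ Cfsg.fittingSubgroup N :=
    le_fittingSubgroup inferInstance ((Group.isNilpotent_congr (Subgroup.subgroupOfEquivOfLe inf_le_right)).mpr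
      (isNilpotent_of_le inf_le_left fittingSubgroup_isNilpotent))
  have := Subgroup.map_mono (f := N.subtype) h
  rwa [Subgroup.subgroupOf_map_subtype, inf_assoc, inf_idem] at this

end Cfsg.Agent.Grp
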