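import Mathlib
import Cfsg.Prelude.Def_Solvable
import Cfsg.Agent.Lib.Grp.Cores

/-!
Minimal normal subgroups of solvable groups and the centralizer of the Fitting subgroup.
-/

namespace Cfsg.Agent.Grp

open Subgroup

variable {G : Type*} [Group G]

theorem commutator_lt_self_of_solvable [Finite G] {N : Subgroup G} (hs : Group.IsSolvable N)
    (hN : N ≠ ⊥) : ⁅N, N⁆ < N := by
  refine lt_of_le_of_ne (Subgroup.commutator_le_self N) fun h => ?_
  have hp : Group.IsPerfect N := Subgroup.isPerfect_iff.mpr h
  have : Nontrivial N := (Subgroup.nontrivial_iff_ne_bot N).mpr hN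
  exact absurd hs (Group.IsPerfect.not_isSolvable N)

/-- A minimal normal subgroup which is solvable is elementary abelian. -/
theorem minimal_normal_solvable [Finite G] {N : Subgroup G} [N.Normal] (hs : Group.IsSolvable N)
    (hN : N ≠ ⊥) (hmin : ∀ M : Subgroup G, M.Normal → M ≤ N → M = ⊥ ∨ M = N) :
    IsMulCommutative N ∧ ∃ p : ℕ, p.Prime ∧ ∀ x ∈ N, x ^ p = 1 := by
  have hlt := commutator_lt_self_of_solvable hs hN
  have hab : IsMulCommutative N := Subgroup.commutator_self_eq_bot_iff.mp
    ((hmin ⁅N, N⁆ inferInstance hlt.le).resolve_right hlt.ne)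
  refine ⟨hab, ?_⟩
  have hcomm : ∀ x ∈ N, ∀ y ∈ N, Commute x y := fun x hx y hy =>
    congrArg Subtype.val (mul_comm' (⟨x, hx⟩ : N) ⟨y, hy⟩)
  obtain ⟨p, hp, hdvd⟩ := Nat.exists_prime_and_dvd
    (fun h => hN (Subgroup.card_eq_one.mp h) : Nat.card N ≠ 1)
  refine ⟨p, hp, ?_⟩
  have := Fact.mk hp
  let K : Subgroup G :=
    { carrier := {x | x ∈ N ∧ x ^ p = 1}
      one_mem' := ⟨N.one_mem, one_pow _⟩
      mul_mem' := fun {a b} ha hb => ⟨N.mul_mem ha.1 hb.1, by
        rw [(hcomm a ha.1 b hb.1).mul_pow, ha.2, hb.2, one_mul]⟩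
      inv_mem' := fun {a} ha => ⟨N.inv_mem ha.1, by rw [inv_pow, ha.2, inv_one]⟩ }
  have hKn : K.Normal := ⟨fun x hx g => ⟨Subgroup.Normal.conj_mem inferInstance x hx.1 g, by
    rw [conj_pow, hx.2, mul_one, mul_inv_cancel]⟩⟩
  rcases hmin K hKn (fun x hx => hx.1) with h | h
  · obtain ⟨x, hx⟩ := exists_prime_orderOf_dvd_card' (G := N) p hdvd
    have hx1 : (x : G) ^ p = 1 := by rw [← hx, ← SubmonoidClass.coe_pow, pow_orderOf_eq_one]; rfl
    have : (x : G) ∈ K := ⟨x.2, hx1⟩
    rw [h, Subgroup.mem_bot] at this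
    have : x = 1 := Subtype.ext this
    rw [this, orderOf_one] at hx
    exact absurd hx.symm hp.one_lt.ne'
  · intro x hx
    rw [← h] at hx
    exact hx.2

theorem minimal_normal_solvable_isPGroup [Finite G] {N : Subgroup G} [N.Normal]
    (hs : Group.IsSolvable N) (hN : N ≠ ⊥)
    (hmin : ∀ M : Subgroup G, M.Normal → M ≤ N → M = ⊥ ∨ M = N) :
    ∃ p : ℕ, p.Prime ∧ IsPGroup p N := by
  obtain ⟨-, p, hp, hpow⟩ := minimal_normal_solvable hs hN hmin
  exact ⟨p, hp, fun x => ⟨1, by simpa using Subtype.ext (hpow x x.2)⟩⟩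

/-- A group generated by a central subgroup modulo which it is abelian is nilpotent. -/
theorem isNilpotent_of_commutator_le_center (h : commutator G ≤ Subgroup.center G) :
    Group.IsNilpotent G := by
  have hc : IsMulCommutative (G ⧸ Subgroup.center G) := by
    rw [← commutator_eq_bot_iff, commutator_def, ← map_top_of_surjective
      (QuotientGroup.mk' (Subgroup.center G)) (QuotientGroup.mk'_surjective _), ← map_commutator,
      ← commutator_def, Subgroup.map_eq_bot_iff, QuotientGroup.ker_mk']
    exact h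
  let _ : CommGroup (G ⧸ Subgroup.center G) :=
    { (inferInstance : Group (G ⧸ Subgroup.center G)) with mul_comm := mul_comm' }
  exact Group.of_quotient_center_nilpotent inferInstance

/-- In a solvable group the Fitting subgroup contains its centralizer. -/
theorem centralizer_fittingSubgroup_le [Finite G] [Group.IsSolvable G] :
    Subgroup.centralizer (Cfsg.fittingSubgroup G : Set G) ≤ Cfsg.fittingSubgroup G := by
  have hF := fittingSubgroup_isNormal (G := G)
  set C := Subgroup.centralizer (Cfsg.fittingSubgroup G : Set G) with hC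
  have hnat : ∃ n, (derivedSeries ↥C n).map C.subtype ≤ Cfsg.fittingSubgroup G := by
    obtain ⟨n, hn⟩ := (Group.isSolvable_def ↥C).mp inferInstance
    exact ⟨n, by rw [hn, Subgroup.map_bot]; exact bot_le⟩
  classical
  rcases Nat.eq_zero_or_pos (Nat.find hnat) with h0 | hpos
  · have := Nat.find_spec hnat
    rwa [h0, derivedSeries_zero, ← MonoidHom.range_eq_map, Subgroup.range_subtype] at this
  obtain ⟨k, hk⟩ := Nat.exists_eq_add_one.mpr hpos
  refine absurd ?_ (Nat.find_min hnat (m := k) (by omega))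
  have hspec := Nat.find_spec hnat
  rw [hk, derivedSeries_succ, Subgroup.map_commutator] at hspec
  set D := (derivedSeries ↥C k).map C.subtype with hD
  have hchar : (derivedSeries ↥C k).Characteristic := derivedSeries_characteristic _ k
  have hDn : D.Normal := inferInstance
  refine le_fittingSubgroup hDn (isNilpotent_of_commutator_le_center ?_)
  intro x hx
  refine Subgroup.mem_center_iff.mpr fun y => Subtype.ext ?_
  have hxF : (x : G) ∈ Cfsg.fittingSubgroup G := by
    apply hspec
    have := Subgroup.mem_map_of_mem D.subtype hx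
    rwa [commutator_def, Subgroup.map_commutator, ← MonoidHom.range_eq_map,
      Subgroup.range_subtype] at this
  exact ((Subgroup.mem_centralizer_iff.mp (Subgroup.map_subtype_le _ y.2)) x hxF).symm

/-- Hall-Higman for solvable groups. -/
theorem centralizer_pCore_le [Finite G] [Group.IsSolvable G] {p : ℕ} [hp : Fact p.Prime]
    (h : Cfsg.pPrimeCore p G = ⊥) :
    Subgroup.centralizer (Cfsg.pCore p G : Set G) ≤ Cfsg.pCore p G := by
  have hF : Cfsg.fittingSubgroup G = Cfsg.pCore p G := by
    refine le_antisymm ?_ pCore_le_fittingSubgroup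
    rw [fittingSubgroup_eq_iSup_pCore]
    refine iSup_le fun q => ?_
    by_cases hq : (q : ℕ) = p
    · rw [hq]
    · have := Fact.mk q.2
      obtain ⟨n, hn⟩ := IsPGroup.iff_card.mp (pCore_isPGroup (p := (q : ℕ)) (G := G))
      have : Cfsg.pCore (q : ℕ) G ≤ Cfsg.pPrimeCore p G := le_pPrimeCore pCore_isNormal
        (by rw [hn]; exact Nat.Coprime.pow_left _ ((Nat.coprime_primes q.2 hp.out).mpr hq))
      rw [h] at this
      exact this.trans bot_le
  rw [← hF]
  exact centralizer_fittingSubgroup_le

end Cfsg.Agent.Grp
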