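import Mathlib
import Cfsg.Agent.Lib.Grp.Solvable

/-!
Conjugacy of complements (Schur-Zassenhaus).
-/

namespace Cfsg.Agent.Grp

open scoped Pointwise
open Subgroup

universe u

variable {G : Type u} [Group G]

theorem conj_smul_conj_smul (a b : G) (H : Subgroup G) :
    MulAut.conj a • MulAut.conj b • H = MulAut.conj (a * b) • H := by
  rw [smul_smul, map_mul]

theorem conj_smul_eq_self_of_mem {a : G} {H : Subgroup G} (h : a ∈ H) : MulAut.conj a • H = H :=
  mem_normalizer_iff_smul.mp (Subgroup.le_normalizer h)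

theorem smul_le_of_le_normalizer {N H : Subgroup G} (h : H ≤ Subgroup.normalizer (N : Set G)) :
    ∀ g ∈ H, MulAut.conj g • N = N := fun _ hg => mem_normalizer_iff_smul.mp (h hg)

theorem conj_smul_map {G' : Type*} [Group G'] (f : G →* G') (g : G) (H : Subgroup G) :
    MulAut.conj (f g) • H.map f = (MulAut.conj g • H).map f := by
  rw [← map_conj_eq_smul, ← map_conj_eq_smul, Subgroup.map_map, Subgroup.map_map]
  congr 1
  ext x
  simp

theorem card_conj_smul (g : G) (H : Subgroup G) :
    Nat.card ↥(MulAut.conj g • H) = Nat.card H :=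
  (Nat.card_congr (Subgroup.equivSMul (MulAut.conj g) H).toEquiv).symm

open MulOpposite in
/-- Complements of an abelian normal Hall subgroup are conjugate under it. -/
theorem complements_conj_abelian [Finite G] (N : Subgroup G) [N.Normal] [IsMulCommutative N]
    (hN : (Nat.card N).Coprime N.index) {H K : Subgroup G} (hH : Nat.card H = N.index)
    (hK : Nat.card K = N.index) : ∃ a ∈ N, MulAut.conj a • H = K := by
  have hcomp : ∀ H : Subgroup G, Nat.card H = N.index → Subgroup.IsComplement' N H := fun H hH =>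
    Subgroup.isComplement'_of_coprime (by rw [hH, Subgroup.card_mul_index]) (by rw [hH]; exact hN)
  let q : ∀ H : Subgroup G, Nat.card H = N.index → N.QuotientDiff := fun H hH =>
    Quotient.mk'' ⟨(H : Set G), (hcomp H hH).symm⟩
  have hst : ∀ (H : Subgroup G) (hH : Nat.card H = N.index),
      H = MulAction.stabilizer G (q H hH) := by
    intro H hH
    refine Subgroup.eq_of_le_of_card_ge (fun k hk => ?_) ?_
    · show k • q H hH = q H hH
      refine congrArg Quotient.mk'' (Subtype.ext ?_)
      show op k⁻¹ • (H : Set G) = H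
      exact op_smul_coe_set (H.inv_mem hk)
    · have := (Subgroup.isComplement'_stabilizer_of_coprime (α := q H hH) hN).card_mul_card
      rw [hH, ← Nat.eq_of_mul_eq_mul_left Nat.card_pos (this.trans (Subgroup.card_mul_index N).symm)]
  obtain ⟨a, ha⟩ := Subgroup.exists_smul_eq hN (q H hH) (q K hK)
  refine ⟨a, a.2, ?_⟩
  have e := MulAction.stabilizer_smul_eq_stabilizer_map_conj (a : G) (q H hH)
  rw [show (a : G) • q H hH = q K hK from ha, ← hst H hH, ← hst K hK] at e
  exact e.symm

/-- `SZConj G`: complements of normal Hall subgroups with one solvable factor are conjugate in `G`. -/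
def SZConj (G : Type u) [Group G] : Prop :=
  ∀ N : Subgroup G, N.Normal → (Nat.card N).Coprime N.index → ∀ H K : Subgroup G,
    Nat.card H = N.index → Nat.card K = N.index →
    (Group.IsSolvable N ∨ Group.IsSolvable H) → ∃ g : G, MulAut.conj g • H = K

theorem szConj_internal [Finite G] {N H K : Subgroup G} (hL : SZConj ↥(N ⊔ H))
    (hH : H ≤ Subgroup.normalizer (N : Set G)) (hle : K ≤ N ⊔ H)
    (hcard : Nat.card K = Nat.card H) (hcop : (Nat.card N).Coprime (Nat.card H))
    (hsolv : Group.IsSolvable N ∨ Group.IsSolvable H) :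
    ∃ n ∈ N, MulAut.conj n • H = K := by
  set L := N ⊔ H
  have hn : (N.subgroupOf L).Normal :=
    Subgroup.normal_subgroupOf_of_le_normalizer (sup_le Subgroup.le_normalizer hH)
  have hidx : (N.subgroupOf L).index = Nat.card H := by
    have e1 := Subgroup.card_mul_index (N.subgroupOf L)
    rw [Nat.card_congr (Subgroup.subgroupOfEquivOfLe (le_sup_left : N ≤ L)).toEquiv] at e1
    have e2 : Nat.card ↥L = Nat.card N * Nat.card H := by
      show Nat.card ↥(N ⊔ H) = _
      rw [sup_comm, card_sup_coprime hH hcop.symm, mul_comm]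
    exact Nat.eq_of_mul_eq_mul_left Nat.card_pos (e1.trans e2)
  have cN := Nat.card_congr (Subgroup.subgroupOfEquivOfLe (le_sup_left : N ≤ L)).toEquiv
  have cH := Nat.card_congr (Subgroup.subgroupOfEquivOfLe (le_sup_right : H ≤ L)).toEquiv
  have cK := Nat.card_congr (Subgroup.subgroupOfEquivOfLe hle).toEquiv
  obtain ⟨g, hg⟩ := hL _ hn (by rw [cN, hidx]; exact hcop) (H.subgroupOf L) (K.subgroupOf L)
    (by rw [cH, hidx]) (by rw [cK, hcard, hidx]) (hsolv.imp
      (fun h => isSolvable_of_injective (Subgroup.subgroupOfEquivOfLe (le_sup_left : N ≤ L)).toMonoidHom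
        (Subgroup.subgroupOfEquivOfLe (le_sup_left : N ≤ L)).injective h)
      (fun h => isSolvable_of_injective (Subgroup.subgroupOfEquivOfLe (le_sup_right : H ≤ L)).toMonoidHom
        (Subgroup.subgroupOfEquivOfLe (le_sup_right : H ≤ L)).injective h))
  have hg' : MulAut.conj (g : G) • H = K := by
    have := congrArg (Subgroup.map L.subtype) hg
    rwa [← conj_smul_map, Subgroup.map_subgroupOf_eq_of_le le_sup_right,
      Subgroup.map_subgroupOf_eq_of_le hle] at this
  have hmem : (g : G) ∈ ((N ⊔ H : Subgroup G) : Set G) := g.2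
  rw [sup_comm, Subgroup.coe_mul_of_left_le_normalizer_right H N hH] at hmem
  obtain ⟨h, hh, n, hn', e⟩ := hmem
  refine ⟨h * n * h⁻¹, (Subgroup.mem_normalizer_iff.mp (hH hh) n).mp hn', ?_⟩
  rw [← hg', ← e]
  conv_lhs => rw [← conj_smul_eq_self_of_mem hh, conj_smul_conj_smul, inv_mul_cancel_right]

theorem szConj_aux : ∀ (n : ℕ) (G : Type u) [Group G] [Finite G], Nat.card G = n → SZConj G := by
  intro n
  induction n using Nat.strong_induction_on with
  | _ n ih =>
  intro G _ _ hn N hN hcop H K hH hK hsolv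
  have sub : ∀ L : Subgroup G, L ≠ ⊤ → SZConj ↥L := fun L hL =>
    ih _ (hn ▸ card_lt_of_ne_top hL) L rfl
  have quo : ∀ (M : Subgroup G) [M.Normal], M ≠ ⊥ → SZConj (G ⧸ M) := fun M _ hM =>
    ih _ (hn ▸ card_quotient_lt hM) (G ⧸ M) rfl
  rcases eq_or_ne N ⊥ with rfl | hNbot
  · rw [Subgroup.index_bot] at hH hK
    exact ⟨1, by rw [map_one, one_smul, Subgroup.eq_top_of_card_eq H hH, Subgroup.eq_top_of_card_eq K hK]⟩
  have hdisj : ∀ H : Subgroup G, Nat.card H = N.index → H ⊓ N = ⊥ := fun H hH =>
    inf_eq_bot_of_coprime (by rw [hH]; exact hcop.symm)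
  have hsup : ∀ H : Subgroup G, Nat.card H = N.index → N ⊔ H = ⊤ := fun H hH =>
    (Subgroup.isComplement'_of_coprime (by rw [hH, Subgroup.card_mul_index])
      (by rw [hH]; exact hcop)).sup_eq_top
  rcases eq_or_ne N ⊤ with rfl | hNtop
  · rw [Subgroup.index_top, Subgroup.card_eq_one] at hH hK
    exact ⟨1, by rw [map_one, one_smul, hH, hK]⟩
  have quoN : ∀ (M : Subgroup G) [M.Normal], M ≠ ⊥ → M ≤ N ∨ Group.IsSolvable H →
      ∃ g : G, (MulAut.conj g • H) ⊔ M = K ⊔ M := by
    intro M _ hM hcase
    set f := QuotientGroup.mk' M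
    have hf : Function.Surjective f := QuotientGroup.mk'_surjective _
    have hN' : (N.map f).Normal := hN.map f hf
    have hidx : (N.map f).index ∣ N.index := Subgroup.index_map_dvd N hf
    have hc : (Nat.card (N.map f)).Coprime (N.map f).index :=
      (hcop.coprime_dvd_left (Subgroup.card_map_dvd N f)).coprime_dvd_right hidx
    have himg : ∀ H : Subgroup G, Nat.card H = N.index → Nat.card ↥(H.map f) = (N.map f).index := by
      intro H hH
      have hH'cop : (Nat.card ↥(H.map f)).Coprime (Nat.card ↥(N.map f)) :=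
        (hcop.symm.coprime_dvd_left (hH ▸ Subgroup.card_map_dvd H f)).coprime_dvd_right
          (Subgroup.card_map_dvd N f)
      have e := card_sup_coprime (H := H.map f) (N := N.map f)
        (by rw [Subgroup.normalizer_eq_top]; exact le_top) hH'cop
      rw [← Subgroup.map_sup, sup_comm, hsup H hH, Subgroup.map_top_of_surjective f hf,
        Subgroup.card_top, mul_comm] at e
      exact Nat.eq_of_mul_eq_mul_left Nat.card_pos (e.symm.trans (Subgroup.card_mul_index _).symm)
    obtain ⟨gbar, hg⟩ := quo M hM (N.map f) hN' hc (H.map f) (K.map f) (himg H hH) (himg K hK)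
      (hsolv.imp (isSolvable_map · f) (isSolvable_map · f))
    obtain ⟨g, rfl⟩ := hf gbar
    refine ⟨g, ?_⟩
    rw [conj_smul_map] at hg
    have := congrArg (Subgroup.comap f) hg
    rwa [Subgroup.comap_map_eq, Subgroup.comap_map_eq, QuotientGroup.ker_mk'] at this
  by_cases hNs : Group.IsSolvable N
  · obtain ⟨M, hMn, hMbot, hMN, hMmin⟩ := exists_minimal_normal_le hNbot
    obtain ⟨hMab, -⟩ := minimal_normal_solvable (isSolvable_of_le hMN hNs) hMbot hMmin
    obtain ⟨g, hg⟩ := quoN M hMbot (Or.inl hMN)
    have hcop' : (Nat.card M).Coprime (Nat.card ↥(MulAut.conj g • H)) := by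
      rw [card_conj_smul, hH]; exact hcop.coprime_dvd_left (Subgroup.card_dvd_of_le hMN)
    by_cases htop : M ⊔ MulAut.conj g • H = ⊤
    · have e1 := card_sup_coprime (H := MulAut.conj g • H) (N := M)
        (by rw [Subgroup.normalizer_eq_top]; exact le_top) hcop'.symm
      rw [sup_comm, htop, Subgroup.card_top, mul_comm] at e1
      have hMidx : M.index = N.index := by
        rw [← hH, ← card_conj_smul g H]
        exact (Nat.eq_of_mul_eq_mul_left Nat.card_pos (e1.symm.trans (Subgroup.card_mul_index M).symm)).symm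
      obtain ⟨a, -, ha⟩ := complements_conj_abelian M
        (by rw [hMidx]; exact hcop.coprime_dvd_left (Subgroup.card_dvd_of_le hMN))
        (H := MulAut.conj g • H) (K := K) (by rw [card_conj_smul, hMidx, hH]) (by rw [hMidx, hK])
      exact ⟨a * g, by rw [← conj_smul_conj_smul, ha]⟩
    · obtain ⟨a, -, ha⟩ := szConj_internal (sub _ htop)
        (by rw [Subgroup.normalizer_eq_top]; exact le_top)
        (show K ≤ M ⊔ MulAut.conj g • H by rw [sup_comm, hg]; exact le_sup_left)
        (by rw [card_conj_smul, hH, hK]) hcop' (Or.inl (isSolvable_of_le hMN hNs))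
      exact ⟨a * g, by rw [← conj_smul_conj_smul, ha]⟩
  · have hHs : Group.IsSolvable H := hsolv.resolve_left hNs
    have hQs : Group.IsSolvable (G ⧸ N) := by
      refine Group.isSolvable_of_surjective (f := (QuotientGroup.mk' N).comp H.subtype) ?_
      intro x
      obtain ⟨y, rfl⟩ := QuotientGroup.mk'_surjective N x
      have hy : y ∈ ((N ⊔ H : Subgroup G) : Set G) := by rw [hsup H hH]; trivial
      rw [Subgroup.normal_mul] at hy
      obtain ⟨a, ha, b, hb, rfl⟩ := hy
      refine ⟨⟨b, hb⟩, ?_⟩
      simp only [MonoidHom.comp_apply, map_mul, Subgroup.coe_subtype]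
      rw [show QuotientGroup.mk' N a = 1 from (QuotientGroup.eq_one_iff a).mpr ha, one_mul]
    have : Nontrivial (G ⧸ N) := QuotientGroup.nontrivial_iff.mpr hNtop
    obtain ⟨Mb, hMbn, hMbbot, -, hMbmin⟩ :=
      exists_minimal_normal_le (N := (⊤ : Subgroup (G ⧸ N))) top_ne_bot
    obtain ⟨p, hp, hMbp⟩ := minimal_normal_solvable_isPGroup inferInstance hMbbot hMbmin
    have := Fact.mk hp
    set M := Mb.comap (QuotientGroup.mk' N) with hM
    have hMn : M.Normal := hMbn.comap _
    have hNM : N ≤ M := fun x hx => by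
      rw [hM, Subgroup.mem_comap, show QuotientGroup.mk' N x = 1 from (QuotientGroup.eq_one_iff x).mpr hx]
      exact one_mem _
    have hMrel : ∃ k, N.relIndex M = p ^ k := by
      obtain ⟨k, hk⟩ := IsPGroup.iff_card.mp hMbp
      refine ⟨k, ?_⟩
      rw [← hk, ← Subgroup.relIndex_bot_left]
      conv_lhs => rw [← QuotientGroup.ker_mk' N, ← MonoidHom.comap_bot (QuotientGroup.mk' N), hM,
        Subgroup.relIndex_comap, Subgroup.map_comap_eq_self_of_surjective (QuotientGroup.mk'_surjective N)]
    obtain ⟨k, hk⟩ := hMrel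
    have hk0 : k ≠ 0 := by
      rintro rfl
      rw [pow_zero, Subgroup.relIndex_eq_one] at hk
      apply hMbbot
      rw [eq_bot_iff]
      intro x hx
      obtain ⟨y, rfl⟩ := QuotientGroup.mk'_surjective N x
      exact (QuotientGroup.eq_one_iff y).mpr (hk (show y ∈ M from hx))
    have hpN : ¬ p ∣ Nat.card N := by
      intro h
      refine hp.one_lt.ne' (Nat.eq_one_of_dvd_coprimes hcop h ?_)
      exact (hk ▸ dvd_pow_self p hk0 : p ∣ N.relIndex M).trans
        ⟨_, (Subgroup.relIndex_mul_index hNM).symm⟩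
    have hsyl : ∀ H : Subgroup G, Nat.card H = N.index → Nat.card ↥(H ⊓ M) = p ^ k := by
      intro H hH
      have e := card_sup_coprime (H := H ⊓ M) (N := N) (by rw [Subgroup.normalizer_eq_top]; exact le_top)
        ((hcop.symm.coprime_dvd_left (hH ▸ Subgroup.card_dvd_of_le inf_le_left)))
      have hsupM : (H ⊓ M) ⊔ N = M := by
        refine le_antisymm (sup_le inf_le_right hNM) fun x hx => ?_
        have hx' : x ∈ ((H ⊔ N : Subgroup G) : Set G) := by rw [sup_comm, hsup H hH]; trivial
        rw [Subgroup.mul_normal] at hx'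
        obtain ⟨a, ha, b, hb, rfl⟩ := hx'
        refine Subgroup.mul_mem_sup ⟨ha, ?_⟩ hb
        simpa using M.mul_mem hx (M.inv_mem (hNM hb))
      rw [hsupM, ← card_mul_relIndex hNM, hk, mul_comm] at e
      exact (Nat.eq_of_mul_eq_mul_right Nat.card_pos e).symm
    have mkS : ∀ H : Subgroup G, Nat.card H = N.index → ∃ P : Sylow p M, (P : Subgroup M) = (H ⊓ M).subgroupOf M := by
      intro H hH
      have hc : Nat.card ↥((H ⊓ M).subgroupOf M) = p ^ k := by
        rw [Nat.card_congr (Subgroup.subgroupOfEquivOfLe inf_le_right).toEquiv, hsyl H hH]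
      refine ⟨(IsPGroup.of_card hc).toSylow ?_, rfl⟩
      intro h
      apply hpN
      have e1 := Subgroup.card_mul_index ((H ⊓ M).subgroupOf M)
      rw [hc, ← card_mul_relIndex hNM, hk, mul_comm (Nat.card N)] at e1
      rwa [Nat.eq_of_mul_eq_mul_left (pow_pos hp.pos k) e1] at h
    obtain ⟨P, hP⟩ := mkS H hH
    obtain ⟨Q, hQ⟩ := mkS K hK
    obtain ⟨m, hm⟩ := MulAction.exists_smul_eq M P Q
    have hm' : MulAut.conj (m : G) • (H ⊓ M) = K ⊓ M := by
      have := congrArg (fun S : Sylow p M => (S : Subgroup M).map M.subtype) hm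
      simp only [Sylow.coe_subgroup_smul, hP, hQ] at this
      rwa [← conj_smul_map, Subgroup.map_subgroupOf_eq_of_le inf_le_right,
        Subgroup.map_subgroupOf_eq_of_le inf_le_right] at this
    set S := K ⊓ M with hS
    have hSbot : S ≠ ⊥ := by
      intro h
      have := hsyl K hK
      rw [← hS, h, Subgroup.card_bot] at this
      exact absurd this.symm (Nat.one_lt_pow hk0 hp.one_lt).ne'
    set H' := MulAut.conj (m : G) • H with hH'
    have hH'c : Nat.card H' = N.index := by rw [hH', card_conj_smul, hH]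
    have hH'M : H' ⊓ M = S := by
      rw [← hm', Subgroup.smul_inf]
      congr 1
      exact (conj_smul_eq_self_of_mem m.2).symm
    have normS : ∀ H : Subgroup G, H ⊓ M = S → H ≤ Subgroup.normalizer (S : Set G) := by
      intro H hHS h hh
      rw [mem_normalizer_iff_smul, ← hHS, Subgroup.smul_inf, conj_smul_eq_self_of_mem hh]
      congr 1
      exact mem_normalizer_iff_smul.mp (by rw [Subgroup.normalizer_eq_top]; trivial)
    by_cases htop : Subgroup.normalizer (S : Set G) = ⊤
    · have : S.Normal := Subgroup.normalizer_eq_top_iff.mp htop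
      obtain ⟨g, hg⟩ := quoN S hSbot (Or.inr hHs)
      refine ⟨g, ?_⟩
      rw [sup_eq_left.mpr (inf_le_left : S ≤ K), sup_eq_left.mpr] at hg
      · exact hg
      · rw [← smul_eq_self_of_normal (g := g) (N := S)]
        refine Subgroup.pointwise_smul_le_pointwise_smul_iff.mpr ?_
        have h1 : MulAut.conj (m : G)⁻¹ • S = H ⊓ M := by
          rw [← hm', conj_smul_conj_smul, inv_mul_cancel, map_one, one_smul]
        rw [smul_eq_self_of_normal] at h1
        rw [h1]; exact inf_le_left
    · set L := Subgroup.normalizer (S : Set G)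
      have hHL : H' ≤ L := normS H' hH'M
      have hKL : K ≤ L := normS K rfl
      have hcov : (N ⊓ L) ⊔ H' = L := by
        refine le_antisymm (sup_le inf_le_right hHL) fun x hx => ?_
        have hx' : x ∈ ((N ⊔ H' : Subgroup G) : Set G) := by rw [hsup H' hH'c]; trivial
        rw [Subgroup.normal_mul] at hx'
        obtain ⟨a, ha, b, hb, rfl⟩ := hx'
        refine Subgroup.mul_mem_sup ⟨ha, ?_⟩ hb
        simpa using L.mul_mem hx (L.inv_mem (hHL hb))
      obtain ⟨a, -, ha⟩ := szConj_internal (N := N ⊓ L) (H := H') (K := K)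
        (sub _ (by rw [hcov]; exact htop))
        (fun h hh => by
          rw [mem_normalizer_iff_smul, Subgroup.smul_inf,
            mem_normalizer_iff_smul.mp (by rw [Subgroup.normalizer_eq_top]; trivial),
            conj_smul_eq_self_of_mem (hHL hh)])
        (by rw [hcov]; exact hKL) (by rw [hH'c, hK])
        (by rw [hH'c]; exact hcop.coprime_dvd_left (Subgroup.card_dvd_of_le inf_le_left))
        (Or.inr (isSolvable_map hHs _))
      exact ⟨a * m, by rw [← conj_smul_conj_smul, ha]⟩
where
  smul_eq_self_of_normal {G : Type u} [Group G] {g : G} {N : Subgroup G} [N.Normal] :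
      MulAut.conj g • N = N :=
    mem_normalizer_iff_smul.mp (by rw [Subgroup.normalizer_eq_top]; trivial)

theorem szConj (G : Type u) [Group G] [Finite G] : SZConj G := szConj_aux _ G rfl

/-- Conjugacy of complements inside a product of coprime subgroups, under the normalized factor. -/
theorem exists_conj_of_le_sup [Finite G] {N H K : Subgroup G}
    (hH : H ≤ Subgroup.normalizer (N : Set G)) (hle : K ≤ N ⊔ H)
    (hcard : Nat.card K = Nat.card H) (hcop : (Nat.card N).Coprime (Nat.card H))
    (hsolv : Group.IsSolvable N ∨ Group.IsSolvable H) :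
    ∃ n ∈ N, MulAut.conj n • H = K :=
  szConj_internal (szConj _) hH hle hcard hcop hsolv

end Cfsg.Agent.Grp
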