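import Mathlib
import Cfsg.Agent.Lib.Grp.SchurZassenhaus

/-!
Coprime action. `A` normalizes `K`; the orders are coprime and `A` or `K` is solvable.
-/

namespace Cfsg.Agent.Grp

open scoped Pointwise commutatorElement
open Subgroup

variable {G : Type*} [Group G]

theorem card_pos_ne_one_iff {H : Subgroup G} : Nat.card H = 1 ↔ H = ⊥ := Subgroup.card_eq_one

theorem normalizer_le_smul {A K : Subgroup G} (hAK : A ≤ Subgroup.normalizer (K : Set G)) {a : G}
    (ha : a ∈ A) : MulAut.conj a • K = K :=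
  mem_normalizer_iff_smul.mp (hAK ha)

theorem mem_conj_normalizer {K : Subgroup G} {a x : G} (ha : a ∈ Subgroup.normalizer (K : Set G))
    (hx : x ∈ K) : a * x * a⁻¹ ∈ K :=
  (Subgroup.mem_normalizer_iff.mp ha x).mp hx

theorem mem_conj_normalizer' {K : Subgroup G} {a x : G} (ha : a ∈ Subgroup.normalizer (K : Set G))
    (hx : x ∈ K) : a⁻¹ * x * a ∈ K := by
  simpa using mem_conj_normalizer ((Subgroup.normalizer (K : Set G)).inv_mem ha) hx

/-- An element of `K` normalizing `A` centralizes it, as soon as `A ⊓ K = ⊥`. -/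
theorem mem_centralizer_of_normalizes {A K : Subgroup G}
    (hAK : A ≤ Subgroup.normalizer (K : Set G)) (hinf : A ⊓ K = ⊥) {c : G} (hc : c ∈ K)
    (hn : c ∈ Subgroup.normalizer (A : Set G)) : c ∈ Subgroup.centralizer (A : Set G) := by
  rw [Subgroup.mem_centralizer_iff]
  intro a ha
  have h1 : c * a * c⁻¹ * a⁻¹ ∈ A := A.mul_mem (mem_conj_normalizer hn ha) (A.inv_mem ha)
  have h2 : c * a * c⁻¹ * a⁻¹ ∈ K := by
    have : c * (a * c⁻¹ * a⁻¹) ∈ K := K.mul_mem hc (mem_conj_normalizer (hAK ha) (K.inv_mem hc))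
    simpa [mul_assoc] using this
  have : c * a * c⁻¹ * a⁻¹ ∈ A ⊓ K := ⟨h1, h2⟩
  rw [hinf, Subgroup.mem_bot, mul_inv_eq_one, mul_inv_eq_iff_eq_mul] at this
  exact this.symm

section GlaubermanLemma

variable {X : Type*} [MulAction G X] (A K : Subgroup G) (s : Set X)

/-- Glauberman's lemma on fixed points. -/
theorem exists_fixed_point [Finite G] (hAK : A ≤ Subgroup.normalizer (K : Set G))
    (hcop : (Nat.card A).Coprime (Nat.card K))
    (hsolv : Group.IsSolvable A ∨ Group.IsSolvable K) (hne : s.Nonempty)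
    (hA : ∀ a ∈ A, ∀ x ∈ s, a • x ∈ s) (hK : ∀ k ∈ K, ∀ x ∈ s, k • x ∈ s)
    (htr : ∀ x ∈ s, ∀ y ∈ s, ∃ k ∈ K, k • x = y) : ∃ x ∈ s, ∀ a ∈ A, a • x = x := by
  obtain ⟨x, hx⟩ := hne
  set L := A ⊔ K
  set St := L ⊓ MulAction.stabilizer G x
  set N := K ⊓ St
  have hLK : L ≤ Subgroup.normalizer (K : Set G) := sup_le hAK Subgroup.le_normalizer
  have hNn : St ≤ Subgroup.normalizer (N : Set G) := fun b hb => by
    rw [mem_normalizer_iff_smul, Subgroup.smul_inf, normalizer_le_smul hLK hb.1,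
      conj_smul_eq_self_of_mem hb]
  have hcover : ∀ a ∈ A, ∃ k ∈ K, k * a ∈ St := by
    intro a ha
    obtain ⟨k, hk, hk'⟩ := htr (a • x) (hA a ha x hx) x hx
    refine ⟨k, hk, L.mul_mem (Subgroup.mem_sup_right hk) (Subgroup.mem_sup_left ha), ?_⟩
    show (k * a) • x = x
    rw [mul_smul, hk']
  have htop : St ⊔ K = L := by
    refine le_antisymm (sup_le inf_le_left le_sup_right) (sup_le (fun a ha => ?_) le_sup_right)
    obtain ⟨k, hk, hka⟩ := hcover a ha
    simpa using Subgroup.mul_mem _ (Subgroup.mem_sup_right (S := St) (K.inv_mem hk))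
      (Subgroup.mem_sup_left (T := K) hka)
  have e1 := card_sup_mul_card_inf (H := St) (N := K) (inf_le_left.trans hLK)
  rw [htop, show Nat.card ↥L = Nat.card ↥(A ⊔ K) from rfl, card_sup_coprime hAK hcop] at e1
  have hStcard : Nat.card St = Nat.card A * Nat.card N := by
    rw [show N = St ⊓ K from inf_comm _ _]
    refine Nat.eq_of_mul_eq_mul_right (Nat.card_pos (α := K)) ?_
    rw [← e1]; ring
  let N' := N.subgroupOf St
  have : N'.Normal := Subgroup.normal_subgroupOf_of_le_normalizer hNn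
  have hN'c : Nat.card N' = Nat.card N :=
    Nat.card_congr (Subgroup.subgroupOfEquivOfLe inf_le_right).toEquiv
  have hN'i : N'.index = Nat.card A := by
    refine Nat.eq_of_mul_eq_mul_left (Nat.card_pos (α := N')) ?_
    rw [Subgroup.card_mul_index, hStcard, hN'c, mul_comm]
  have hNK : Nat.card N ∣ Nat.card K := Subgroup.card_dvd_of_le inf_le_left
  obtain ⟨B, hB⟩ := Subgroup.exists_right_complement'_of_coprime (N := N')
    (by rw [hN'c, hN'i]; exact (hcop.symm).coprime_dvd_left hNK)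
  have hBc : Nat.card B = Nat.card A := by
    refine Nat.eq_of_mul_eq_mul_left (Nat.card_pos (α := N')) ?_
    rw [hB.card_mul_card, hStcard, hN'c, mul_comm]
  obtain ⟨n, hn, hn'⟩ := exists_conj_of_le_sup (N := K) (H := A) (K := B.map St.subtype) hAK
    (by rw [sup_comm]; exact (Subgroup.map_subtype_le B).trans inf_le_left)
    (by rw [Subgroup.card_map_of_injective (Subgroup.subtype_injective St), hBc]) hcop.symm hsolv.symm
  refine ⟨n⁻¹ • x, hK _ (K.inv_mem hn) x hx, fun a ha => ?_⟩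
  have hmem : n * a * n⁻¹ ∈ St := by
    refine Subgroup.map_subtype_le B ?_
    rw [← hn', mem_smul_conj]; simpa [mul_assoc] using ha
  have := MulAction.mem_stabilizer_iff.mp hmem.2
  rw [mul_smul, mul_smul] at this
  exact eq_inv_smul_iff.mpr this

/-- Glauberman's lemma: fixed points are conjugate under the centralizer. -/
theorem exists_centralizer_smul [Finite G] (hAK : A ≤ Subgroup.normalizer (K : Set G))
    (hcop : (Nat.card A).Coprime (Nat.card K))
    (hsolv : Group.IsSolvable A ∨ Group.IsSolvable K)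
    (htr : ∀ x ∈ s, ∀ y ∈ s, ∃ k ∈ K, k • x = y) {x y : X} (hx : x ∈ s) (hy : y ∈ s)
    (hfx : ∀ a ∈ A, a • x = x) (hfy : ∀ a ∈ A, a • y = y) :
    ∃ c ∈ K ⊓ Subgroup.centralizer (A : Set G), c • x = y := by
  obtain ⟨k, hk, hkxy⟩ := htr x hx y hy
  set N := K ⊓ MulAction.stabilizer G y
  have hNn : A ≤ Subgroup.normalizer (N : Set G) := fun a ha => by
    rw [mem_normalizer_iff_smul, Subgroup.smul_inf, normalizer_le_smul hAK ha,
      conj_smul_eq_self_of_mem (show a ∈ MulAction.stabilizer G y from hfy a ha)]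
  have hle : MulAut.conj k • A ≤ N ⊔ A := by
    intro b hb
    rw [mem_smul_conj] at hb
    obtain ⟨a, ha, rfl⟩ : ∃ a ∈ A, k * a * k⁻¹ = b := ⟨_, hb, by group⟩
    have hmK : k * a * k⁻¹ * a⁻¹ ∈ K := by
      have : k * (a * k⁻¹ * a⁻¹) ∈ K := K.mul_mem hk (mem_conj_normalizer (hAK ha) (K.inv_mem hk))
      simpa [mul_assoc] using this
    have hmy : k * a * k⁻¹ * a⁻¹ ∈ MulAction.stabilizer G y := by
      refine Subgroup.mul_mem _ ?_ (Subgroup.inv_mem _ (hfy a ha))
      rw [MulAction.mem_stabilizer_iff, mul_smul, mul_smul, ← hkxy, inv_smul_smul, hfx a ha]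
    have := Subgroup.mul_mem_sup (S := N) (T := A) ⟨hmK, hmy⟩ ha
    simpa using this
  obtain ⟨t, ht, ht'⟩ := exists_conj_of_le_sup hNn hle (card_conj_smul k A)
    (hcop.symm.coprime_dvd_left (Subgroup.card_dvd_of_le inf_le_left))
    (hsolv.symm.imp_left fun h => isSolvable_of_le inf_le_left h)
  refine ⟨t⁻¹ * k, ⟨K.mul_mem (K.inv_mem ht.1) hk, ?_⟩, ?_⟩
  · refine mem_centralizer_of_normalizes hAK (inf_eq_bot_of_coprime hcop)
      (K.mul_mem (K.inv_mem ht.1) hk) (mem_normalizer_iff_smul.mpr ?_)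
    rw [← conj_smul_conj_smul, ← ht', conj_smul_conj_smul, inv_mul_cancel, map_one, one_smul]
  · rw [mul_smul, hkxy]
    exact MulAction.mem_stabilizer_iff.mp ((MulAction.stabilizer G y).inv_mem ht.2)

end GlaubermanLemma

/-- `X` is a Sylow `p`-subgroup of the subgroup `K`. -/
def IsSylowIn (p : ℕ) (X K : Subgroup G) : Prop :=
  X ≤ K ∧ IsPGroup p X ∧ ¬ p ∣ X.relIndex K

theorem relIndex_smul (g : G) (H K : Subgroup G) :
    (MulAut.conj g • H).relIndex (MulAut.conj g • K) = H.relIndex K :=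
  Subgroup.relIndex_map_map_of_injective H K (MulAut.conj g).injective

theorem IsSylowIn.smul {p : ℕ} {X K : Subgroup G} (h : IsSylowIn p X K) {g : G}
    (hg : MulAut.conj g • K = K) : IsSylowIn p (MulAut.conj g • X) K := by
  refine ⟨hg ▸ Subgroup.pointwise_smul_le_pointwise_smul_iff.mpr h.1, h.2.1.map _, ?_⟩
  rw [← hg, relIndex_smul]; exact h.2.2

theorem isSylowIn_iff [Finite G] {p : ℕ} [Fact p.Prime] {X K : Subgroup G} :
    IsSylowIn p X K ↔ ∃ P : Sylow p K, (P : Subgroup K).map K.subtype = X := by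
  constructor
  · rintro ⟨hle, hp, hidx⟩
    refine ⟨(hp.comap_subtype (K := K)).toSylow hidx, ?_⟩
    exact Subgroup.map_subgroupOf_eq_of_le hle
  · rintro ⟨P, rfl⟩
    refine ⟨Subgroup.map_subtype_le _, P.isPGroup'.map _, ?_⟩
    rw [Subgroup.relIndex, Subgroup.subgroupOf, Subgroup.comap_map_eq_self_of_injective
      (Subgroup.subtype_injective K)]
    exact P.not_dvd_index

theorem exists_isSylowIn [Finite G] (p : ℕ) [Fact p.Prime] (K : Subgroup G) :
    ∃ X, IsSylowIn p X K := by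
  obtain ⟨P⟩ : Nonempty (Sylow p K) := Sylow.nonempty
  exact ⟨_, isSylowIn_iff.mpr ⟨P, rfl⟩⟩

theorem IsSylowIn.conj [Finite G] {p : ℕ} [Fact p.Prime] {X Y K : Subgroup G}
    (hX : IsSylowIn p X K) (hY : IsSylowIn p Y K) : ∃ k ∈ K, MulAut.conj k • X = Y := by
  obtain ⟨P, rfl⟩ := isSylowIn_iff.mp hX
  obtain ⟨Q, rfl⟩ := isSylowIn_iff.mp hY
  obtain ⟨k, hk⟩ := MulAction.exists_smul_eq K P Q
  refine ⟨k, k.2, ?_⟩
  rw [← hk, Sylow.coe_subgroup_smul, ← conj_smul_map]
  rfl

theorem IsSylowIn.card [Finite G] {p : ℕ} [Fact p.Prime] {X K : Subgroup G} (h : IsSylowIn p X K) :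
    Nat.card X = p ^ (Nat.card K).factorization p := by
  obtain ⟨P, rfl⟩ := isSylowIn_iff.mp h
  rw [Subgroup.card_map_of_injective (Subgroup.subtype_injective K), P.card_eq_multiplicity]

theorem IsSylowIn.eq_of_le [Finite G] {p : ℕ} [Fact p.Prime] {X Y K : Subgroup G}
    (h : IsSylowIn p X K) (hXY : X ≤ Y) (hYK : Y ≤ K) (hY : IsPGroup p Y) : X = Y := by
  refine le_antisymm hXY (Subgroup.relIndex_eq_one.mp ?_)
  obtain ⟨n, hn⟩ : ∃ n, X.relIndex Y = p ^ n := (hY.index (X.subgroupOf Y))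
  rcases n with _ | n
  · rw [hn, pow_zero]
  · exact absurd ((hn ▸ dvd_pow_self p n.succ_ne_zero : p ∣ X.relIndex Y).trans
      ⟨_, (Subgroup.relIndex_mul_relIndex X Y K hXY hYK).symm⟩) h.2.2

/-- A subgroup containing a Sylow subgroup for every prime is everything. -/
theorem le_of_forall_sylow [Finite G] {H K : Subgroup G} (hHK : H ≤ K)
    (h : ∀ (q : ℕ) [Fact q.Prime], ∃ X, IsSylowIn q X K ∧ X ≤ H) : K ≤ H := by
  refine (Subgroup.eq_of_le_of_card_ge hHK (Nat.le_of_dvd Nat.card_pos ?_)).ge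
  refine (Nat.dvd_iff_prime_pow_dvd_dvd _ _).mpr fun q k hq hk => ?_
  have := Fact.mk hq
  obtain ⟨X, hX, hXH⟩ := h q
  refine (dvd_trans ?_ (Subgroup.card_dvd_of_le hXH))
  rw [hX.card]
  exact pow_dvd_pow q ((hq.pow_dvd_iff_le_factorization Nat.card_pos.ne').mp hk)

/-- Conjugation action on subgroups. -/
@[reducible] def conjActSubgroup (G : Type*) [Group G] : MulAction G (Subgroup G) :=
  MulAction.compHom (Subgroup G) (MulAut.conj : G →* MulAut G)

theorem exists_invariant_sylow [Finite G] (A K : Subgroup G)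
    (hAK : A ≤ Subgroup.normalizer (K : Set G))
    (hcop : (Nat.card A).Coprime (Nat.card K))
    (hsolv : Group.IsSolvable A ∨ Group.IsSolvable K) (p : ℕ) [Fact p.Prime] :
    ∃ X, IsSylowIn p X K ∧ A ≤ Subgroup.normalizer (X : Set G) := by
  let _ := conjActSubgroup G
  obtain ⟨X, hX, hfix⟩ := exists_fixed_point A K {X : Subgroup G | IsSylowIn p X K} hAK hcop hsolv
    (exists_isSylowIn p K)
    (fun a ha X hX => hX.smul (normalizer_le_smul hAK ha))
    (fun k hk X hX => hX.smul (conj_smul_eq_self_of_mem hk)) (fun X hX Y hY => hX.conj hY)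
  exact ⟨X, hX, fun a ha => mem_normalizer_iff_smul.mpr (hfix a ha)⟩

theorem invariant_sylow_conj [Finite G] (A K : Subgroup G)
    (hAK : A ≤ Subgroup.normalizer (K : Set G))
    (hcop : (Nat.card A).Coprime (Nat.card K))
    (hsolv : Group.IsSolvable A ∨ Group.IsSolvable K) {p : ℕ} [Fact p.Prime] {X Y : Subgroup G}
    (hX : IsSylowIn p X K) (hY : IsSylowIn p Y K) (hXA : A ≤ Subgroup.normalizer (X : Set G))
    (hYA : A ≤ Subgroup.normalizer (Y : Set G)) :
    ∃ c ∈ K ⊓ Subgroup.centralizer (A : Set G), MulAut.conj c • X = Y := by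
  let _ := conjActSubgroup G
  exact exists_centralizer_smul A K {X : Subgroup G | IsSylowIn p X K} hAK hcop hsolv
    (fun X hX Y hY => hX.conj hY) hX hY (fun a ha => normalizer_le_smul hXA ha)
    (fun a ha => normalizer_le_smul hYA ha)

theorem exists_invariant_sylow_ge [Finite G] (A K : Subgroup G)
    (hAK : A ≤ Subgroup.normalizer (K : Set G))
    (hcop : (Nat.card A).Coprime (Nat.card K))
    (hsolv : Group.IsSolvable A ∨ Group.IsSolvable K) {p : ℕ} [hp : Fact p.Prime] {U : Subgroup G}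
    (hUK : U ≤ K) (hU : IsPGroup p U) (hUA : A ≤ Subgroup.normalizer (U : Set G)) :
    ∃ X, IsSylowIn p X K ∧ A ≤ Subgroup.normalizer (X : Set G) ∧ U ≤ X := by
  obtain ⟨V, hUV, hV⟩ := (Set.toFinite {V : Subgroup G | V ≤ K ∧ IsPGroup p V ∧
    A ≤ Subgroup.normalizer (V : Set G)}).exists_le_maximal (a := U) ⟨hUK, hU, hUA⟩
  obtain ⟨hVK, hVp, hVA⟩ := hV.1
  set N := K ⊓ Subgroup.normalizer (V : Set G)
  have hAN : A ≤ Subgroup.normalizer (N : Set G) := fun a ha => by
    rw [mem_normalizer_iff_smul, Subgroup.smul_inf, normalizer_le_smul hAK ha,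
      conj_smul_eq_self_of_mem (hVA ha)]
  obtain ⟨Q, hQ, hQA⟩ := exists_invariant_sylow A N hAN
    (hcop.coprime_dvd_right (Subgroup.card_dvd_of_le inf_le_left))
    (hsolv.imp_right (isSolvable_of_le inf_le_left)) p
  have hVQ : V ≤ Q := by
    have hn : Q ≤ Subgroup.normalizer (V : Set G) := hQ.1.trans inf_le_right
    have hp' : IsPGroup p ↥(V ⊔ Q) :=
      hVp.to_sup_of_normal_left' hQ.2.1 hn
    have := hQ.eq_of_le le_sup_right (sup_le (le_inf hVK Subgroup.le_normalizer) hQ.1) hp'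
    rw [this]; exact le_sup_left
  have hQV : Q = V :=
    le_antisymm (hV.2 ⟨hQ.1.trans inf_le_left, hQ.2.1, hQA⟩ hVQ) hVQ
  refine ⟨V, ⟨hVK, hVp, fun hdvd => ?_⟩, hVA, hUV⟩
  obtain ⟨S, hS⟩ : ∃ S : Sylow p K, V.subgroupOf K ≤ (S : Subgroup K) :=
    hVp.comap_subtype.exists_le_sylow
  have hSK := isSylowIn_iff.mpr ⟨S, rfl⟩
  set S' := (S : Subgroup K).map K.subtype
  have hVS : V ≤ S' := by
    rw [← Subgroup.map_subgroupOf_eq_of_le hVK]; exact Subgroup.map_mono hS
  rcases eq_or_lt_of_le hVS with heq | hlt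
  · exact hSK.2.2 (heq ▸ hdvd)
  have hnc := @Group.normalizerCondition_of_isNilpotent ↥S' _ hSK.2.1.isNilpotent
  obtain ⟨x, hx, hxV⟩ : ∃ x ∈ Subgroup.normalizer ((V.subgroupOf S') : Set S'), x ∉ V.subgroupOf S' := by
    have := hnc (V.subgroupOf S') (lt_top_iff_ne_top.mpr fun h => hlt.not_ge (Subgroup.subgroupOf_eq_top.mp h))
    exact Set.exists_of_ssubset this
  have hxn : (x : G) ∈ Subgroup.normalizer (V : Set G) := by
    rw [Subgroup.mem_normalizer_iff] at hx ⊢
    intro y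
    constructor
    · intro hy; exact (hx ⟨y, hVS hy⟩).mp hy
    · intro hy
      have hy' : y ∈ S' := by
        have := S'.mul_mem (S'.mul_mem (S'.inv_mem x.2) (hVS hy)) x.2
        simpa [mul_assoc] using this
      exact (hx ⟨y, hy'⟩).mpr hy
  set W := V ⊔ Subgroup.zpowers (x : G)
  have hWS : W ≤ S' := sup_le hVS ((Subgroup.zpowers_le).mpr x.2)
  have := hQ
  rw [hQV] at this
  have hW := this.eq_of_le (Y := W) le_sup_left
    (sup_le this.1 ((Subgroup.zpowers_le).mpr ⟨hSK.1 x.2, hxn⟩)) (hSK.2.1.to_le hWS)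
  exact hxV (hW ▸ Subgroup.mem_sup_right (Subgroup.mem_zpowers _))

/-- Lifting fixed points modulo an invariant normal subgroup of coprime order. -/
theorem exists_fixed_rep [Finite G] (A K N : Subgroup G)
    (hAK : A ≤ Subgroup.normalizer (K : Set G)) (hinf : A ⊓ K = ⊥)
    (hcop : (Nat.card A).Coprime (Nat.card N))
    (hsolv : Group.IsSolvable A ∨ Group.IsSolvable N) (hNK : N ≤ K)
    (hKN : K ≤ Subgroup.normalizer (N : Set G)) (hAN : A ≤ Subgroup.normalizer (N : Set G))
    {k : G} (hk : k ∈ K) (hfix : ∀ a ∈ A, a * k * a⁻¹ * k⁻¹ ∈ N) :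
    ∃ c ∈ K ⊓ Subgroup.centralizer (A : Set G), k⁻¹ * c ∈ N := by
  have hle : MulAut.conj k⁻¹ • A ≤ N ⊔ A := by
    intro b hb
    rw [mem_smul_conj, inv_inv] at hb
    obtain ⟨a, ha, rfl⟩ : ∃ a ∈ A, k⁻¹ * a * k = b := ⟨_, hb, by group⟩
    have h1 := mem_conj_normalizer' (hKN hk) (hfix a ha)
    convert Subgroup.mul_mem_sup (S := N) (T := A) h1 ha using 1
    group
  obtain ⟨n, hn, hn'⟩ := exists_conj_of_le_sup hAN hle (card_conj_smul _ _) hcop.symm hsolv.symm
  refine ⟨k * n, ⟨K.mul_mem hk (hNK hn), ?_⟩, by simpa using hn⟩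
  refine mem_centralizer_of_normalizes hAK hinf (K.mul_mem hk (hNK hn))
    (mem_normalizer_iff_smul.mpr ?_)
  rw [← conj_smul_conj_smul, hn', conj_smul_conj_smul, mul_inv_cancel, map_one, one_smul]

theorem commutator_le_left_of_le_normalizer {A K : Subgroup G}
    (hAK : A ≤ Subgroup.normalizer (K : Set G)) : ⁅K, A⁆ ≤ K :=
  Subgroup.le_normalizer_iff_commutator_le_left.mp hAK

theorem left_le_normalizer_commutator (A K : Subgroup G) :
    K ≤ Subgroup.normalizer ((⁅K, A⁆ : Subgroup G) : Set G) := by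
  intro k hk
  rw [mem_normalizer_iff_smul]
  have key : ∀ g ∈ K, MulAut.conj g • ⁅K, A⁆ ≤ ⁅K, A⁆ := by
    intro g hg
    rw [← map_conj_eq_smul, Subgroup.map_le_iff_le_comap, Subgroup.commutator_le]
    intro k' hk' a ha
    show g * ⁅k', a⁆ * g⁻¹ ∈ ⁅K, A⁆
    have e : g * ⁅k', a⁆ * g⁻¹ = ⁅g * k', a⁆ * ⁅g, a⁆⁻¹ := by
      simp only [commutatorElement_def]; group
    rw [e]
    exact Subgroup.mul_mem _ (Subgroup.commutator_mem_commutator (K.mul_mem hg hk') ha)
      (Subgroup.inv_mem _ (Subgroup.commutator_mem_commutator hg ha))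
  refine le_antisymm (key k hk) ?_
  have := Subgroup.pointwise_smul_le_pointwise_smul_iff (a := MulAut.conj k) |>.mpr (key k⁻¹ (K.inv_mem hk))
  rwa [conj_smul_conj_smul, mul_inv_cancel, map_one, one_smul] at this

theorem right_le_normalizer_commutator (A K : Subgroup G) :
    A ≤ Subgroup.normalizer ((⁅K, A⁆ : Subgroup G) : Set G) := by
  rw [Subgroup.commutator_comm]
  exact left_le_normalizer_commutator K A

/-- `K = [K, A] C_K(A)`. -/
theorem exists_commutator_mul_fixed [Finite G] (A K : Subgroup G)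
    (hAK : A ≤ Subgroup.normalizer (K : Set G))
    (hcop : (Nat.card A).Coprime (Nat.card K))
    (hsolv : Group.IsSolvable A ∨ Group.IsSolvable K) {k : G} (hk : k ∈ K) :
    ∃ m ∈ ⁅K, A⁆, ∃ c ∈ K ⊓ Subgroup.centralizer (A : Set G), k = m * c := by
  have hle := commutator_le_left_of_le_normalizer hAK
  obtain ⟨c, hc, hc'⟩ := exists_fixed_rep A K ⁅K, A⁆ hAK (inf_eq_bot_of_coprime hcop)
    (hcop.coprime_dvd_right (Subgroup.card_dvd_of_le hle)) (hsolv.imp_right (isSolvable_of_le hle))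
    hle (left_le_normalizer_commutator A K) (right_le_normalizer_commutator A K) hk
    (fun a ha => by
      rw [show a * k * a⁻¹ * k⁻¹ = ⁅k, a⁆⁻¹ by simp [commutatorElement_def, mul_assoc]]
      exact Subgroup.inv_mem _ (Subgroup.commutator_mem_commutator hk ha))
  refine ⟨k * c⁻¹, ?_, c, hc, by group⟩
  have := mem_conj_normalizer (left_le_normalizer_commutator A K hk) (Subgroup.inv_mem _ hc')
  convert this using 1
  group

theorem commutator_sup_fixed [Finite G] (A K : Subgroup G)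
    (hAK : A ≤ Subgroup.normalizer (K : Set G))
    (hcop : (Nat.card A).Coprime (Nat.card K))
    (hsolv : Group.IsSolvable A ∨ Group.IsSolvable K) :
    ⁅K, A⁆ ⊔ (K ⊓ Subgroup.centralizer (A : Set G)) = K := by
  refine le_antisymm (sup_le (commutator_le_left_of_le_normalizer hAK) inf_le_left) fun k hk => ?_
  obtain ⟨m, hm, c, hc, rfl⟩ := exists_commutator_mul_fixed A K hAK hcop hsolv hk
  exact Subgroup.mul_mem_sup hm hc

theorem commutator_commutator_eq [Finite G] (A K : Subgroup G)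
    (hAK : A ≤ Subgroup.normalizer (K : Set G))
    (hcop : (Nat.card A).Coprime (Nat.card K))
    (hsolv : Group.IsSolvable A ∨ Group.IsSolvable K) : ⁅⁅K, A⁆, A⁆ = ⁅K, A⁆ := by
  refine le_antisymm (Subgroup.commutator_mono (commutator_le_left_of_le_normalizer hAK) le_rfl) ?_
  rw [Subgroup.commutator_le]
  intro k hk a ha
  obtain ⟨m, hm, c, hc, rfl⟩ := exists_commutator_mul_fixed A K hAK hcop hsolv hk
  have e : ⁅m * c, a⁆ = ⁅m, a⁆ := by
    rw [commutatorElement_mul_left_eq_conj_mul,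
      commutatorElement_eq_one_iff_mul_comm.mpr (Subgroup.mem_centralizer_iff.mp hc.2 a ha).symm]
    simp
  rw [e]
  exact Subgroup.commutator_mem_commutator hm ha

/-- An action trivial on both factors of an invariant series of length two is trivial. -/
theorem le_centralizer_of_series [Finite G] (A K N : Subgroup G)
    (hAK : A ≤ Subgroup.normalizer (K : Set G))
    (hcop : (Nat.card A).Coprime (Nat.card K))
    (hsolv : Group.IsSolvable A ∨ Group.IsSolvable K)
    (h1 : ⁅K, A⁆ ≤ N) (h2 : ⁅N, A⁆ = ⊥) : A ≤ Subgroup.centralizer (K : Set G) := by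
  have := Subgroup.commutator_mono h1 (le_refl A)
  rw [commutator_commutator_eq A K hAK hcop hsolv, h2, le_bot_iff, Subgroup.commutator_comm] at this
  exact Subgroup.commutator_eq_bot_iff_le_centralizer.mp this

end Cfsg.Agent.Grp
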