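import Mathlib
import Cfsg.Agent.Lib.Grp.Coprime

/-!
Coprime action on abelian groups and its consequences: generation by centralizers, the A×B lemma.
-/

namespace Cfsg.Agent.Grp

open scoped Pointwise commutatorElement
open Subgroup

variable {G : Type*} [Group G]

/-- Conjugation of `A` on an invariant subgroup `V`. -/
def conjEnd (A V : Subgroup G) (hAV : A ≤ Subgroup.normalizer (V : Set G)) (a : A) : V →* V where
  toFun v := ⟨(a : G) * v * (a : G)⁻¹, mem_conj_normalizer (hAV a.2) v.2⟩
  map_one' := Subtype.ext (by simp)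
  map_mul' x y := Subtype.ext (by simp [mul_assoc])

/-- For coprime action on an abelian group, `[V,A]` meets the fixed points trivially. -/
theorem abelian_commutator_inf_fixed [Finite G] (A V : Subgroup G) [IsMulCommutative V]
    (hAV : A ≤ Subgroup.normalizer (V : Set G)) (hcop : (Nat.card A).Coprime (Nat.card V)) :
    (V ⊓ Subgroup.centralizer (A : Set G)) ⊓ ⁅V, A⁆ = ⊥ := by
  classical
  open scoped IsMulCommutative in
  let _ : Fintype A := Fintype.ofFinite A
  open scoped IsMulCommutative in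
  let θ : V →* V := ∏ a : A, conjEnd A V hAV a
  have happ : ∀ v : V, θ v = ∏ a : A, conjEnd A V hAV a v := by
    intro v
    open scoped IsMulCommutative in
    exact MonoidHom.finsetProd_apply _ _ v
  have hle : ⁅V, A⁆ ≤ θ.ker.map V.subtype := by
    rw [Subgroup.commutator_le]
    intro v hv a ha
    have hmem : ⁅v, a⁆ ∈ V :=
      commutator_le_left_of_le_normalizer hAV (Subgroup.commutator_mem_commutator hv ha)
    refine ⟨⟨⁅v, a⁆, hmem⟩, ?_, rfl⟩
    show θ ⟨⁅v, a⁆, hmem⟩ = 1
    have e : (⟨⁅v, a⁆, hmem⟩ : V) = ⟨v, hv⟩ * (conjEnd A V hAV ⟨a, ha⟩ ⟨v, hv⟩)⁻¹ :=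
      Subtype.ext (by simp [conjEnd, commutatorElement_def, mul_assoc])
    rw [e, map_mul, map_inv, mul_inv_eq_one, happ, happ]
    open scoped IsMulCommutative in
    refine (Fintype.prod_equiv (Equiv.mulRight (⟨a, ha⟩ : A)) _ _ fun b => ?_).symm
    exact Subtype.ext (by simp [conjEnd, mul_assoc])
  rw [eq_bot_iff]
  rintro x ⟨⟨hxV, hxC⟩, hx⟩
  obtain ⟨y, hy, rfl⟩ := hle hx
  have hfix : ∀ a : A, conjEnd A V hAV a y = y := fun a => Subtype.ext (by
    have := Subgroup.mem_centralizer_iff.mp hxC a a.2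
    simp only [Subgroup.coe_subtype] at this
    simp [conjEnd, this])
  have hpow : y ^ Nat.card A = 1 := by
    rw [← show θ y = 1 from hy, happ]
    simp [hfix, Nat.card_eq_fintype_card]
  have : orderOf y ∣ 1 := hcop ▸ Nat.dvd_gcd (orderOf_dvd_of_pow_eq_one hpow) (orderOf_dvd_natCard y)
  simp only [Nat.dvd_one, orderOf_eq_one_iff] at this
  simp [this]

theorem exists_prime_order_mem [Finite G] {H : Subgroup G} (hH : H ≠ ⊥) :
    ∃ x ∈ H, (orderOf x).Prime := by
  obtain ⟨p, hp, hdvd⟩ := Nat.exists_prime_and_dvd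
    (fun h => hH (Subgroup.card_eq_one.mp h) : Nat.card H ≠ 1)
  have := Fact.mk hp
  obtain ⟨x, hx⟩ := exists_prime_orderOf_dvd_card' (G := H) p hdvd
  exact ⟨x, x.2, by rw [Subgroup.orderOf_coe, hx]; exact hp⟩

/-- A noncyclic abelian group of coprime order contains a nonidentity element fixing a nonidentity
element of any nontrivial invariant abelian group. -/
theorem exists_centralizer_ne_bot [Finite G] (A V : Subgroup G) [IsMulCommutative A]
    [IsMulCommutative V] (hA : ¬ IsCyclic A) (hV : V ≠ ⊥)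
    (hAV : A ≤ Subgroup.normalizer (V : Set G)) :
    ∃ a ∈ A, a ≠ 1 ∧ V ⊓ Subgroup.centralizer {a} ≠ ⊥ := by
  by_contra hcon
  push Not at hcon
  obtain ⟨p, hp, a, ha, b, hb, hab⟩ : ∃ p : ℕ, p.Prime ∧ ∃ a : A, a ^ p = 1 ∧ ∃ b : A, b ^ p = 1 ∧
      (a ≠ 1 ∧ b ∉ Subgroup.zpowers a) := by
    by_contra hc
    push Not at hc
    apply hA
    classical
    let _ : Fintype A := Fintype.ofFinite A
    open scoped IsMulCommutative in
    refine isCyclic_of_card_pow_eq_one_le fun n hn => ?_
    have hbound : ∀ (n : ℕ), 0 < n → Nat.card {x : A // x ^ n = 1} ≤ n := by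
      intro n
      induction n using Nat.strong_induction_on with
      | _ n ihn =>
      intro hn
      rcases eq_or_ne n 1 with rfl | hn1
      · simp
      obtain ⟨p, hp, m, rfl⟩ := Nat.exists_prime_and_dvd hn1
      have hm : 0 < m := Nat.pos_of_mul_pos_left hn
      have hker : Nat.card {x : A // x ^ p = 1} ≤ p := by
        by_cases h : ∃ a : A, a ^ p = 1 ∧ a ≠ 1
        · obtain ⟨a, ha, ha1⟩ := h
          calc Nat.card {x : A // x ^ p = 1} ≤ Nat.card (Subgroup.zpowers a) :=
                Nat.card_le_card_of_injective (fun x => ⟨x.1, hc p hp a ha x.1 x.2 ha1⟩)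
                  (fun x y e => Subtype.ext (by simpa using e))
            _ = orderOf a := Nat.card_zpowers a
            _ ≤ p := orderOf_le_of_pow_eq_one hp.pos ha
        · push Not at h
          calc Nat.card {x : A // x ^ p = 1} ≤ Nat.card PUnit.{1} :=
                Nat.card_le_card_of_injective (fun _ => ⟨⟩) (fun x y _ => Subtype.ext (by rw [h _ x.2, h _ y.2]))
            _ ≤ p := by simp [hp.one_le]
      have hsec : ∀ y : {x : A // x ^ m = 1}, ∀ z : {x : A // x ^ (p * m) = 1}, z.1 ^ p = y.1 →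
          True := fun _ _ _ => trivial
      calc Nat.card {x : A // x ^ (p * m) = 1}
          ≤ Nat.card ({x : A // x ^ p = 1} × {x : A // x ^ m = 1}) := by
            refine Nat.card_le_card_of_injective (fun z => (⟨z.1 * (Classical.choose (⟨z.1, rfl⟩ : ∃ w : A, w ^ p = z.1 ^ p))⁻¹, ?_⟩,
              ⟨z.1 ^ p, by rw [← pow_mul]; exact z.2⟩)) ?_
            · open scoped IsMulCommutative in
              rw [mul_pow, inv_pow, Classical.choose_spec (⟨z.1, rfl⟩ : ∃ w : A, w ^ p = z.1 ^ p), mul_inv_cancel]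
            · intro z w e
              simp only [Prod.mk.injEq, Subtype.mk.injEq] at e
              have hch : Classical.choose (⟨z.1, rfl⟩ : ∃ v : A, v ^ p = z.1 ^ p) =
                  Classical.choose (⟨w.1, rfl⟩ : ∃ v : A, v ^ p = w.1 ^ p) := by
                congr 1; rw [e.2]
              have e1 := e.1
              rw [hch] at e1
              exact Subtype.ext (mul_right_cancel e1)
        _ = Nat.card {x : A // x ^ p = 1} * Nat.card {x : A // x ^ m = 1} := Nat.card_prod _ _
        _ ≤ p * m := Nat.mul_le_mul hker (ihn m (lt_mul_of_one_lt_left hm hp.one_lt) hm)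
    simpa [Fintype.card_subtype, Nat.card_eq_fintype_card] using hbound n hn
  have := Fact.mk hp
  obtain ⟨ha1, hbz⟩ := hab
  have hnot : ∀ c : A, c ≠ 1 → ∀ v : V, conjEnd A V hAV c v = v → v = 1 := by
    intro c hc v hv
    have hmem : (v : G) ∈ V ⊓ Subgroup.centralizer {(c : G)} := by
      refine ⟨v.2, Subgroup.mem_centralizer_iff.mpr fun x hx => ?_⟩
      rw [Set.mem_singleton_iff] at hx
      subst hx
      exact mul_inv_eq_iff_eq_mul.mp (congrArg Subtype.val hv)
    rw [hcon c c.2 (fun h => hc (Subtype.ext h))] at hmem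
    exact Subtype.ext hmem
  open scoped IsMulCommutative in
  let E : A → V →* V := conjEnd A V hAV
  have hmul : ∀ x y : A, ∀ v : V, conjEnd A V hAV (x * y) v = conjEnd A V hAV x (conjEnd A V hAV y v) :=
    fun x y v => Subtype.ext (by simp [conjEnd, mul_assoc])
  have hnorm : ∀ c : A, c ≠ 1 → c ^ p = 1 → ∀ v : V,
      (open scoped IsMulCommutative in ∏ i ∈ Finset.range p, conjEnd A V hAV (c ^ i) v) = 1 := by
    intro c hc hcp v
    open scoped IsMulCommutative in
    refine hnot c hc _ ?_
    open scoped IsMulCommutative in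
    rw [map_prod]
    simp only [← hmul, ← pow_succ']
    obtain ⟨q, hq⟩ : ∃ q, p = q + 1 := ⟨p - 1, by have := hp.pos; omega⟩
    rw [hq]
    open scoped IsMulCommutative in
    rw [Finset.prod_range_succ, Finset.prod_range_succ']
    rw [← hq, hcp, pow_zero]
  have hvp : ∀ v : V, v ^ p = 1 := by
    intro v
    have hb1 : b ≠ 1 := fun h => hbz (h ▸ one_mem _)
    open scoped IsMulCommutative in
    have h1 : (∏ j ∈ Finset.range p, ∏ i ∈ Finset.range p, conjEnd A V hAV ((b * a ^ j) ^ i) v) = 1 := by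
      refine Finset.prod_eq_one fun j _ => hnorm _ ?_ ?_ v
      · intro h
        exact hbz ((eq_inv_of_mul_eq_one_left h) ▸ Subgroup.inv_mem _ (Subgroup.pow_mem _ (Subgroup.mem_zpowers a) j))
      · rw [mul_pow, hb, ← pow_mul, mul_comm j, pow_mul, ha, one_pow, one_mul]
    open scoped IsMulCommutative in
    rw [Finset.prod_comm, Finset.prod_eq_single_of_mem 0 (Finset.mem_range.mpr hp.pos)] at h1
    · open scoped IsMulCommutative in
      simpa [conjEnd] using h1
    · intro i hi hi0
      open scoped IsMulCommutative in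
      have hai : a ^ i ≠ 1 := by
        intro h
        have hd := orderOf_dvd_of_pow_eq_one h
        rw [orderOf_eq_prime ha ha1] at hd
        exact hi0 (Nat.eq_zero_of_dvd_of_lt hd (Finset.mem_range.mp hi))
      open scoped IsMulCommutative in
      have hx := hnorm (a ^ i) hai (by rw [← pow_mul, mul_comm, pow_mul, ha, one_pow])
        (conjEnd A V hAV (b ^ i) v)
      simp only [← hmul] at hx
      refine Eq.trans (Finset.prod_congr rfl fun j _ => ?_) hx
      open scoped IsMulCommutative in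
      rw [mul_pow, ← pow_mul, ← pow_mul, mul_comm j i, mul_comm (b ^ i)]
  obtain ⟨v, hvV, hvord⟩ := exists_prime_order_mem hV
  have hVp : IsPGroup p V := fun w => ⟨1, by simpa using hvp w⟩
  have hZ : IsPGroup p ↥(Subgroup.zpowers (a : G)) := IsPGroup.of_card (n := 1)
    (by rw [pow_one, Nat.card_zpowers, Subgroup.orderOf_coe, orderOf_eq_prime ha ha1])
  let _ : MulAction ↥(Subgroup.zpowers (a : G)) V :=
    { smul := fun z v => ⟨(z : G) * v * (z : G)⁻¹,
        mem_conj_normalizer (hAV ((Subgroup.zpowers_le.mpr a.2) z.2)) v.2⟩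
      one_smul := fun v => Subtype.ext (show ((1 : ↥(Subgroup.zpowers (a : G))) : G) * v * _ = v by simp)
      mul_smul := fun x y v => Subtype.ext (show ((x * y : ↥(Subgroup.zpowers (a : G))) : G) * v * _ = _ by
        simp [HSMul.hSMul, SMul.smul, mul_assoc]) }
  obtain ⟨n, hn⟩ := IsPGroup.iff_card.mp hVp
  have hn0 : n ≠ 0 := fun h => hV (Subgroup.card_eq_one.mp (by rw [hn, h, pow_zero]))
  obtain ⟨w, hw, hw1⟩ := hZ.exists_fixed_point_of_prime_dvd_card_of_fixed_point V
    (hn ▸ dvd_pow_self p hn0) (a := (1 : V)) (fun z => Subtype.ext (show (z : G) * (1 : V) * _ = ((1 : V) : G) by simp))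
  refine hw1 (hnot a ha1 w ?_).symm
  exact hw ⟨a, Subgroup.mem_zpowers _⟩

theorem exists_centralizer_ne_bot_aux [Finite G] (A V : Subgroup G) [IsMulCommutative A]
    [IsMulCommutative V] (hV : V ≠ ⊥)
    (hAV : A ≤ Subgroup.normalizer (V : Set G))
    (hfpf : ∀ a ∈ A, a ≠ 1 → V ⊓ Subgroup.centralizer {a} = ⊥) : IsCyclic A := by
  by_contra hA
  obtain ⟨a, ha, ha1, h⟩ := exists_centralizer_ne_bot A V hA hV hAV
  exact h (hfpf a ha ha1)

theorem centralizer_singleton_eq_zpowers (a : G) :
    Subgroup.centralizer {a} = Subgroup.centralizer ((Subgroup.zpowers a : Subgroup G) : Set G) := by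
  rw [Subgroup.zpowers_eq_closure, Subgroup.centralizer_closure]

/-- Generation by centralizers for a noncyclic abelian coprime operator group. -/
theorem generated_by_centralizers [Finite G] (A K : Subgroup G) [IsMulCommutative A]
    (hA : ¬ IsCyclic A) (hAK : A ≤ Subgroup.normalizer (K : Set G))
    (hcop : (Nat.card A).Coprime (Nat.card K)) :
    (⨆ a ∈ {a : G | a ∈ A ∧ a ≠ 1}, K ⊓ Subgroup.centralizer {a}) = K := by
  set H := ⨆ a ∈ {a : G | a ∈ A ∧ a ≠ 1}, K ⊓ Subgroup.centralizer {a} with hHdef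
  have hHK : H ≤ K := iSup₂_le fun a _ => inf_le_left
  have hAH : A ≤ Subgroup.normalizer (H : Set G) := by
    intro b hb
    rw [mem_normalizer_iff_smul]
    have hfix : ∀ a ∈ {a : G | a ∈ A ∧ a ≠ 1},
        MulAut.conj b • (K ⊓ Subgroup.centralizer {a}) = K ⊓ Subgroup.centralizer {a} := by
      intro a ha
      have : b ∈ Subgroup.centralizer {a} := Subgroup.mem_centralizer_iff.mpr fun x hx => by
        rw [Set.mem_singleton_iff] at hx
        subst hx
        exact congrArg Subtype.val (mul_comm' (⟨x, ha.1⟩ : A) ⟨b, hb⟩)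
      rw [Subgroup.smul_inf, normalizer_le_smul hAK hb, conj_smul_eq_self_of_mem this]
    rw [hHdef, ← map_conj_eq_smul]
    simp only [Subgroup.map_iSup]
    exact iSup_congr fun a => iSup_congr fun ha => hfix a ha
  have hsolv : Group.IsSolvable A := Group.isSolvable_of_comm mul_comm'
  refine le_antisymm hHK (le_of_forall_sylow hHK fun q hq => ?_)
  obtain ⟨P, hP, hPA⟩ := exists_invariant_sylow A K hAK hcop (Or.inl hsolv) q
  refine ⟨P, hP, ?_⟩
  by_contra hPH
  set Q := H ⊓ P
  have hQP : Q < P := lt_of_le_of_ne inf_le_right fun h => hPH (h ▸ inf_le_left)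
  have hnc := @Group.normalizerCondition_of_isNilpotent ↥P _ hP.2.1.isNilpotent
  set R := P ⊓ Subgroup.normalizer (Q : Set G)
  have hQR : Q < R := by
    refine lt_of_le_of_ne (le_inf inf_le_right Subgroup.le_normalizer) fun h => ?_
    have hlt := hnc (Q.subgroupOf P) (lt_top_iff_ne_top.mpr fun e =>
      hQP.not_ge (Subgroup.subgroupOf_eq_top.mp e))
    obtain ⟨x, hx, hxQ⟩ := Set.exists_of_ssubset hlt
    apply hxQ
    show (x : G) ∈ Q
    rw [h]
    refine ⟨x.2, Subgroup.mem_normalizer_iff.mpr fun y => ?_⟩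
    constructor
    · intro hy; exact (Subgroup.mem_normalizer_iff.mp hx ⟨y, hy.2⟩).mp hy
    · intro hy
      have hy' : y ∈ P := by
        have := P.mul_mem (P.mul_mem (P.inv_mem x.2) hy.2) x.2
        simpa [mul_assoc] using this
      exact (Subgroup.mem_normalizer_iff.mp hx ⟨y, hy'⟩).mpr hy
  have hAQ : A ≤ Subgroup.normalizer (Q : Set G) := fun b hb => by
    rw [mem_normalizer_iff_smul, Subgroup.smul_inf, normalizer_le_smul hAH hb, normalizer_le_smul hPA hb]
  have hAR : A ≤ Subgroup.normalizer (R : Set G) := fun b hb => by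
    rw [mem_normalizer_iff_smul, Subgroup.smul_inf, normalizer_le_smul hPA hb,
      conj_smul_eq_self_of_mem (hAQ hb)]
  -- work modulo `Q`
  set L := Subgroup.normalizer (Q : Set G)
  set f := QuotientGroup.mk' (Q.subgroupOf L)
  set RR := (R.subgroupOf L).map f with hRR
  have hRRp : IsPGroup q RR := ((hP.2.1.to_le inf_le_left).comap_subtype).map f
  have hRRne : RR ≠ ⊥ := by
    rw [hRR, Ne, Subgroup.map_eq_bot_iff, QuotientGroup.ker_mk']
    intro h
    exact hQR.not_ge fun x hx => h (show (⟨x, hx.2⟩ : L) ∈ R.subgroupOf L from hx)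
  have : Nontrivial RR := (Subgroup.nontrivial_iff_ne_bot _).mpr hRRne
  set V := (Subgroup.center RR).map RR.subtype
  have hV : V ≠ ⊥ := by
    rw [Ne, Subgroup.map_eq_bot_iff_of_injective _ (Subgroup.subtype_injective RR)]
    exact hRRp.bot_lt_center.ne'
  set A' := (A.subgroupOf L).map f
  have hA'RR : A' ≤ Subgroup.normalizer (RR : Set (L ⧸ Q.subgroupOf L)) := by
    refine le_trans (Subgroup.map_mono ?_) (Subgroup.le_normalizer_map f)
    intro b hb
    exact Subgroup.le_normalizer_comap L.subtype (show (b : G) ∈ _ from hAR hb)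
  have hA'V : A' ≤ Subgroup.normalizer (V : Set (L ⧸ Q.subgroupOf L)) := by
    intro b hb
    rw [mem_normalizer_iff_smul]
    refine Subgroup.eq_of_le_of_card_ge ?_ (card_conj_smul b V).ge
    rintro y hy
    rw [mem_smul_conj] at hy
    obtain ⟨z, hz, hze⟩ := hy
    have hyRR : y ∈ RR := by
      have := mem_conj_normalizer (hA'RR hb) z.2
      simp only [Subgroup.coe_subtype] at hze
      rw [hze] at this
      simpa [mul_assoc] using this
    refine ⟨⟨y, hyRR⟩, Subgroup.mem_center_iff.mpr fun w => Subtype.ext ?_, rfl⟩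
    have hw := mem_conj_normalizer' (hA'RR hb) w.2
    have e : b⁻¹ * (w : L ⧸ Q.subgroupOf L) * b * z = z * (b⁻¹ * w * b) :=
      congrArg Subtype.val (Subgroup.mem_center_iff.mp hz ⟨_, hw⟩)
    simp only [Subgroup.coe_subtype] at hze
    rw [hze] at e
    show (w : L ⧸ Q.subgroupOf L) * y = y * w
    have := congrArg (fun t => b * t * b⁻¹) e
    simpa [mul_assoc] using this
  have hVc : IsMulCommutative V := Subgroup.map_isMulCommutative _ _
  have hinjA : ∀ b ∈ A, b ∈ Q → b = 1 := fun b hb hbQ => by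
    have : b ∈ A ⊓ K := ⟨hb, hP.1 hbQ.2⟩
    rwa [inf_eq_bot_of_coprime hcop, Subgroup.mem_bot] at this
  have hAc : IsMulCommutative A' := inferInstance
  have hA'nc : ¬ IsCyclic A' := by
    intro h
    let g : A →* A' := ((f.comp (Subgroup.inclusion hAQ)).codRestrict A' fun b =>
      ⟨Subgroup.inclusion hAQ b, b.2, rfl⟩)
    refine hA (isCyclic_of_injective g ?_)
    rw [injective_iff_map_eq_one]
    intro b hb
    have := congrArg Subtype.val hb
    exact Subtype.ext (hinjA b b.2 ((QuotientGroup.eq_one_iff (Subgroup.inclusion hAQ b)).mp this))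
  obtain ⟨a', ha', ha'1, hcen⟩ := exists_centralizer_ne_bot A' V hA'nc hV hA'V
  obtain ⟨x, ⟨hxV, hxC⟩, hx1⟩ := (Subgroup.ne_bot_iff_exists_ne_one.mp hcen) |> fun ⟨x, hx⟩ =>
    (⟨x.1, x.2, fun h => hx (Subtype.ext h)⟩ : ∃ x, x ∈ V ⊓ Subgroup.centralizer {a'} ∧ x ≠ 1)
  obtain ⟨a, haA, rfl⟩ := ha'
  obtain ⟨r, hrR, rfl⟩ := Subgroup.map_subtype_le _ hxV
  have ha1 : (a : G) ≠ 1 := fun h => ha'1 (by rw [show a = 1 from Subtype.ext h, map_one])
  set Z := Subgroup.zpowers (a : G)
  have hZA : Z ≤ A := Subgroup.zpowers_le.mpr haA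
  have hfix : ∀ z ∈ Z, z * r * z⁻¹ * (r : G)⁻¹ ∈ Q := by
    intro z hz
    obtain ⟨n, rfl⟩ := hz
    have hcomm : Commute (f a) (f r) := (Subgroup.mem_centralizer_iff.mp hxC (f a) rfl)
    have he : f (a ^ n * r * (a ^ n)⁻¹ * r⁻¹) = 1 := by
      rw [map_mul, map_mul, map_mul, map_inv, map_inv, map_zpow, (hcomm.zpow_left n).eq]
      group
    exact (QuotientGroup.eq_one_iff (a ^ n * r * (a ^ n)⁻¹ * r⁻¹)).mp he
  obtain ⟨c, hc, hcQ⟩ := exists_fixed_rep Z R Q (hZA.trans hAR)
    (eq_bot_iff.mpr fun z hz => by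
      have : z ∈ A ⊓ K := ⟨hZA hz.1, hP.1 hz.2.1⟩
      rwa [inf_eq_bot_of_coprime hcop] at this)
    ((hcop.coprime_dvd_left (Subgroup.card_dvd_of_le hZA)).coprime_dvd_right
      (Subgroup.card_dvd_of_le (inf_le_left.trans hHK)))
    (Or.inl (isSolvable_of_le hZA hsolv)) hQR.le inf_le_right (hZA.trans hAQ) hrR hfix
  have hcH : c ∈ H := by
    refine le_iSup₂ (f := fun a _ => K ⊓ Subgroup.centralizer {a}) (a : G) ⟨haA, ha1⟩ ?_
    exact ⟨hP.1 hc.1.1, centralizer_singleton_eq_zpowers (a : G) ▸ hc.2⟩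
  apply hx1
  refine (QuotientGroup.eq_one_iff r).mpr ?_
  show (r : G) ∈ Q
  have hcQ' : c ∈ Q := ⟨hcH, hc.1.1⟩
  simpa using Q.mul_mem hcQ' (Q.inv_mem hcQ)

/-- Thompson's `A × B` lemma. -/
theorem thompson_PQ [Finite G] {p : ℕ} [hp : Fact p.Prime] (P Q : Subgroup G) (hP : IsPGroup p P)
    (hQ : (Nat.card Q).Coprime p) (hPQ : P ≤ Subgroup.centralizer (Q : Set G)) :
    ∀ U : Subgroup G, IsPGroup p U → P ≤ Subgroup.normalizer (U : Set G) →
      Q ≤ Subgroup.normalizer (U : Set G) →
      U ⊓ Subgroup.centralizer (P : Set G) ≤ Subgroup.centralizer (Q : Set G) →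
      Q ≤ Subgroup.centralizer (U : Set G) := by
  intro U
  induction U using (wellFounded_lt (α := Subgroup G)).induction with
  | _ U ih =>
  intro hU hPU hQU hC
  have hcop : (Nat.card Q).Coprime (Nat.card U) := by
    obtain ⟨n, hn⟩ := IsPGroup.iff_card.mp hU
    rw [hn]; exact hQ.pow_right n
  have hsolv : Group.IsSolvable Q ∨ Group.IsSolvable U :=
    Or.inr (have := hU.isNilpotent; inferInstance)
  have key : ∀ W : Subgroup G, W ≤ U → P ≤ Subgroup.normalizer (W : Set G) →
      Q ≤ Subgroup.normalizer (W : Set G) → W ≠ U → ⁅W, Q⁆ = ⊥ := by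
    intro W hW hPW hQW hne
    rw [Subgroup.commutator_comm, Subgroup.commutator_eq_bot_iff_le_centralizer]
    exact ih W (lt_of_le_of_ne hW hne) (hU.to_le hW) hPW hQW
      ((inf_le_inf_right _ hW).trans hC)
  have conj_comm : ∀ (R S T : Subgroup G), T ≤ Subgroup.normalizer (R : Set G) →
      T ≤ Subgroup.normalizer (S : Set G) → T ≤ Subgroup.normalizer ((⁅R, S⁆ : Subgroup G) : Set G) := by
    intro R S T hR hS t ht
    rw [mem_normalizer_iff_smul, ← map_conj_eq_smul, Subgroup.map_commutator, map_conj_eq_smul,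
      map_conj_eq_smul, normalizer_le_smul hR ht, normalizer_le_smul hS ht]
  have hQP : Q ≤ Subgroup.centralizer (P : Set G) := Subgroup.le_centralizer_iff.mp hPQ
  have hPnQ : P ≤ Subgroup.normalizer (Q : Set G) := hPQ.trans (Subgroup.centralizer_le_normalizer _)
  have hQnP : Q ≤ Subgroup.normalizer (P : Set G) := hQP.trans (Subgroup.centralizer_le_normalizer _)
  have hUQle := commutator_le_left_of_le_normalizer hQU
  by_cases h1 : ⁅U, Q⁆ = U
  · have hUPle := commutator_le_left_of_le_normalizer hPU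
    by_cases h2 : ⁅U, P⁆ = U
    · -- then `U` is trivial
      have hUb : U = ⊥ := by
        set W := U ⊔ P
        have hW : IsPGroup p W := hU.to_sup_of_normal_left' hP hPU
        have := hW.isNilpotent
        obtain ⟨n, hn⟩ := (Subgroup.nilpotent_iff_lowerCentralSeries (G := ↥W)).mp this
        have hall : ∀ k, U ≤ (((⊤ : Subgroup ↥W).lowerCentralSeries k).map W.subtype) := by
          intro k
          induction k with
          | zero =>
            rw [Subgroup.lowerCentralSeries_zero, ← MonoidHom.range_eq_map, Subgroup.range_subtype]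
            exact le_sup_left
          | succ k ihk =>
            rw [Subgroup.lowerCentralSeries_succ, Subgroup.map_commutator, ← MonoidHom.range_eq_map,
              Subgroup.range_subtype]
            exact h2.symm.le.trans (Subgroup.commutator_mono ihk le_sup_right)
        exact le_bot_iff.mp ((hall n).trans (by rw [hn, Subgroup.map_bot]))
      subst hUb
      intro q _
      simp [Subgroup.mem_centralizer_iff]
    · have h3 : ⁅⁅U, P⁆, Q⁆ = ⊥ := key _ hUPle (right_le_normalizer_commutator P U)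
        (conj_comm U P Q hQU hQnP) h2
      have h4 : ⁅⁅P, Q⁆, U⁆ = ⊥ := by
        rw [Subgroup.commutator_eq_bot_iff_le_centralizer.mpr hPQ, Subgroup.commutator_bot_left]
      have h5 : ⁅⁅Q, U⁆, P⁆ = ⊥ := Subgroup.commutator_commutator_eq_bot_of_rotate h3 h4
      rw [Subgroup.commutator_comm Q U, h1, Subgroup.commutator_eq_bot_iff_le_centralizer] at h5
      exact Subgroup.le_centralizer_iff.mp (fun u hu => hC ⟨hu, h5 hu⟩)
  · have := key _ hUQle (conj_comm U Q P hPU hPnQ) (right_le_normalizer_commutator Q U) h1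
    rw [commutator_commutator_eq Q U hQU hcop hsolv, Subgroup.commutator_comm,
      Subgroup.commutator_eq_bot_iff_le_centralizer] at this
    exact this

end Cfsg.Agent.Grp
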