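import Mathlib
import Cfsg.Agent.Lib.Grp.Solvable

/-!
The Frattini subgroup, nilpotent groups, cores of quotients.
-/

namespace Cfsg.Agent.Grp

open scoped Pointwise commutatorElement
open Subgroup

variable {G : Type*} [Group G]

theorem coatom_normal_of_nilpotent [Finite G] [Group.IsNilpotent G] {M : Subgroup G} (hM : IsCoatom M) :
    M.Normal :=
  Subgroup.NormalizerCondition.normal_of_coatom M Group.normalizerCondition_of_isNilpotent hM

theorem normal_index_prime_of_coatom {M : Subgroup G} [M.Normal] (hM : IsCoatom M) [Finite G] :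
    M.index.Prime := by
  have hsimp : ∀ H : Subgroup (G ⧸ M), H = ⊥ ∨ H = ⊤ := by
    intro H
    have hle : M ≤ H.comap (QuotientGroup.mk' M) := fun x hx => by
      show QuotientGroup.mk' M x ∈ H
      rw [show QuotientGroup.mk' M x = 1 from (QuotientGroup.eq_one_iff x).mpr hx]
      exact one_mem _
    rcases eq_or_lt_of_le hle with h | h
    · left
      rw [← Subgroup.map_comap_eq_self_of_surjective (QuotientGroup.mk'_surjective M) H, ← h,
        Subgroup.map_eq_bot_iff, QuotientGroup.ker_mk']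
    · right
      rw [← Subgroup.map_comap_eq_self_of_surjective (QuotientGroup.mk'_surjective M) H,
        hM.2 _ h, Subgroup.map_top_of_surjective _ (QuotientGroup.mk'_surjective M)]
  have : Nontrivial (G ⧸ M) := QuotientGroup.nontrivial_iff.mpr hM.1
  obtain ⟨p, hp, hdvd⟩ := Nat.exists_prime_and_dvd (Finite.one_lt_card (α := G ⧸ M)).ne'
  have := Fact.mk hp
  obtain ⟨x, hx⟩ := exists_prime_orderOf_dvd_card' (G := G ⧸ M) p hdvd
  rcases hsimp (Subgroup.zpowers x) with h | h
  · rw [Subgroup.zpowers_eq_bot] at h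
    rw [h, orderOf_one] at hx
    exact absurd hx.symm hp.one_lt.ne'
  · rw [Subgroup.index, ← Subgroup.card_top (G := G ⧸ M), ← h, Nat.card_zpowers, hx]
    exact hp

theorem coatom_index_eq_of_pGroup [Finite G] {p : ℕ} [hp : Fact p.Prime] (hG : IsPGroup p G)
    {M : Subgroup G} (hM : IsCoatom M) : M.Normal ∧ M.index = p := by
  have := hG.isNilpotent
  have hn := coatom_normal_of_nilpotent hM
  refine ⟨hn, ?_⟩
  have h1 := normal_index_prime_of_coatom hM
  obtain ⟨n, hn'⟩ := hG.index M
  rw [hn'] at h1 ⊢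
  rw [h1.eq_one_of_pow, pow_one]

theorem pGroup_pow_mem_frattini [Finite G] {p : ℕ} [Fact p.Prime] (hG : IsPGroup p G) (x : G) :
    x ^ p ∈ frattini G := by
  rw [frattini, Order.radical, Subgroup.mem_iInf]
  intro M
  rw [Subgroup.mem_iInf]
  intro hM
  obtain ⟨hn, hidx⟩ := coatom_index_eq_of_pGroup hG hM
  rw [← QuotientGroup.eq_one_iff, QuotientGroup.mk_pow, ← hidx, Subgroup.index, pow_card_eq_one']

theorem pGroup_commutator_le_frattini [Finite G] {p : ℕ} [hp : Fact p.Prime] (hG : IsPGroup p G) :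
    commutator G ≤ frattini G := by
  rw [frattini, Order.radical]
  refine le_iInf₂ fun M hM => ?_
  obtain ⟨hn, hidx⟩ := coatom_index_eq_of_pGroup hG hM
  rw [← Subgroup.Normal.quotient_commutative_iff_commutator_le]
  have : IsCyclic (G ⧸ M) := isCyclic_of_prime_card (p := p) hidx
  exact ⟨⟨fun a b => (IsCyclic.commGroup (α := G ⧸ M)).mul_comm a b⟩⟩

/-- In an abelian group of prime exponent the Frattini subgroup is trivial. -/
theorem frattini_eq_bot_of_exponent [Finite G] {p : ℕ} (hp : p.Prime)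
    (hc : ∀ a b : G, a * b = b * a) (hexp : ∀ x : G, x ^ p = 1) : frattini G = ⊥ := by
  rw [eq_bot_iff]
  intro x hx
  by_contra hx1
  rw [Subgroup.mem_bot] at hx1
  obtain ⟨M, hM⟩ := (Set.toFinite {M : Subgroup G | x ∉ M}).exists_maximal ⟨⊥, by simpa using hx1⟩
  have hco : IsCoatom M := by
    refine ⟨fun h => hM.1 (h ▸ Subgroup.mem_top x), fun H hH => ?_⟩
    rw [eq_top_iff]
    intro y _
    by_contra hy
    have hxH : x ∈ H := by
      by_contra h; exact hH.not_ge (hM.2 h hH.le)
    have hxM' : x ∈ M ⊔ Subgroup.zpowers y := by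
      by_contra h
      exact hy (hH.le (hM.2 h le_sup_left (Subgroup.mem_sup_right (Subgroup.mem_zpowers y))))
    have hn : (Subgroup.zpowers y).Normal := ⟨fun a ha g => by rw [hc g a, mul_inv_cancel_right]; exact ha⟩
    have hm : x ∈ ((M ⊔ Subgroup.zpowers y : Subgroup G) : Set G) := hxM'
    rw [Subgroup.mul_normal] at hm
    obtain ⟨m, hm, z, ⟨i, rfl⟩, e⟩ := hm
    have hzH : y ^ i ∈ H := by
      have := H.mul_mem (H.inv_mem (hH.le hm)) hxH
      rw [← e] at this
      simpa using this
    by_cases hdvd : (p : ℤ) ∣ i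
    · obtain ⟨j, rfl⟩ := hdvd
      simp only [zpow_mul, zpow_natCast, hexp, one_zpow, mul_one] at e
      exact hM.1 (e ▸ hm)
    · apply hy
      have hcop : Int.gcd (p : ℤ) i = 1 := by
        rw [Int.gcd_eq_natAbs, Int.natAbs_natCast]
        exact hp.coprime_iff_not_dvd.mpr (fun h => hdvd (Int.ofNat_dvd_left.mpr h))
      obtain ⟨u, v, huv⟩ : ∃ u v : ℤ, (1 : ℤ) = p * u + i * v :=
        ⟨_, _, by rw [← Int.gcd_eq_gcd_ab, hcop]; rfl⟩
      rw [← zpow_one y, huv, zpow_add, zpow_mul, zpow_natCast, hexp, one_zpow, one_mul, zpow_mul]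
      exact H.zpow_mem hzH v
  exact hM.1 (frattini_le_coatom hco hx)

theorem frattini_le_of_elementary [Finite G] {p : ℕ} (hp : p.Prime) {N : Subgroup G} [N.Normal]
    (hcomm : commutator G ≤ N) (hpow : ∀ x : G, x ^ p ∈ N) : frattini G ≤ N := by
  have hle := frattini_le_comap_frattini_of_surjective (φ := QuotientGroup.mk' N)
    (QuotientGroup.mk'_surjective N)
  have := Subgroup.Normal.quotient_commutative_iff_commutator_le.mpr hcomm
  have hc : ∀ a b : G ⧸ N, a * b = b * a := mul_comm'
  rw [frattini_eq_bot_of_exponent hp hc (fun x => by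
    obtain ⟨x, rfl⟩ := QuotientGroup.mk'_surjective N x
    rw [← map_pow]; exact (QuotientGroup.eq_one_iff _).mpr (hpow x)),
    MonoidHom.comap_bot, QuotientGroup.ker_mk'] at hle
  exact hle

/-- Gaschütz: a normal subgroup nilpotent modulo the Frattini subgroup is nilpotent. -/
theorem nilpotent_of_quotient_frattini [Finite G] (A B : Subgroup G) [A.Normal] [B.Normal]
    (hB : B ≤ frattini G) (h : Group.IsNilpotent ↥(A.map (QuotientGroup.mk' B))) :
    Group.IsNilpotent A := by
  refine isNilpotent_iff_sylow_normal.mpr fun q hq P => ?_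
  set P' := (P : Subgroup A).map A.subtype with hP'
  set f := QuotientGroup.mk' B
  set Q := (P.mapSurjective (f.subgroupMap_surjective A) : Sylow q ↥(A.map f))
  have hQn : (Q : Subgroup ↥(A.map f)).Normal := inferInstance
  have hQc : (Q : Subgroup ↥(A.map f)).Characteristic := Q.characteristic_of_normal hQn
  have hPB : (P' ⊔ B).Normal := by
    have hn : ((Q : Subgroup ↥(A.map f)).map (A.map f).subtype).Normal := by
      have : (A.map f).Normal := Subgroup.Normal.map inferInstance f (QuotientGroup.mk'_surjective B)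
      infer_instance
    have e : (Q : Subgroup ↥(A.map f)).map (A.map f).subtype = P'.map f := by
      rw [show (Q : Subgroup ↥(A.map f)) = (P : Subgroup A).map (f.subgroupMap A) from
        Sylow.coe_mapSurjective (f.subgroupMap_surjective A) P, hP', Subgroup.map_map,
        Subgroup.map_map]
      rfl
    have := (e ▸ hn).comap f
    rwa [Subgroup.comap_map_eq, QuotientGroup.ker_mk'] at this
  have hPsyl : ¬ q ∣ P'.relIndex (P' ⊔ B ⊓ A) := by
    intro hd
    apply P.not_dvd_index
    have e : P'.relIndex A = (P : Subgroup A).index := by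
      rw [Subgroup.relIndex, Subgroup.subgroupOf, hP',
        Subgroup.comap_map_eq_self_of_injective (Subgroup.subtype_injective A)]
    rw [← e]
    exact hd.trans ⟨_, (Subgroup.relIndex_mul_relIndex P' (P' ⊔ B ⊓ A) A le_sup_left
      (sup_le (Subgroup.map_subtype_le _) inf_le_right)).symm⟩
  have hn : (P' ⊔ B ⊓ A).Normal := by
    have : P' ⊔ B ⊓ A = (P' ⊔ B) ⊓ A := by
      refine le_antisymm (sup_le (le_inf le_sup_left (Subgroup.map_subtype_le _))
        (inf_le_inf le_sup_right le_rfl)) fun x hx => ?_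
      have hx' : x ∈ ((P' ⊔ B : Subgroup G) : Set G) := hx.1
      rw [Subgroup.mul_normal] at hx'
      obtain ⟨a, ha, b, hb, rfl⟩ := hx'
      refine Subgroup.mul_mem_sup ha ⟨hb, ?_⟩
      simpa using A.mul_mem (A.inv_mem (Subgroup.map_subtype_le _ ha)) hx.2
    rw [this]; infer_instance
  let S : Sylow q ↥(P' ⊔ B ⊓ A) := (P.isPGroup'.map A.subtype).comap_subtype.toSylow hPsyl
  have hF := Sylow.normalizer_sup_eq_top S
  have hS : (S : Subgroup ↥(P' ⊔ B ⊓ A)).map (P' ⊔ B ⊓ A).subtype = P' :=
    Subgroup.map_subgroupOf_eq_of_le le_sup_left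
  rw [hS, sup_eq_left.mpr] at hF
  · have : P'.Normal := Subgroup.normalizer_eq_top_iff.mp hF
    exact this.of_map_subtype
  · refine sup_le Subgroup.le_normalizer ?_
    have := frattini_nongenerating (K := Subgroup.normalizer (P' : Set G)) (eq_top_iff.mpr (hF.ge.trans
      (sup_le le_sup_left (sup_le (Subgroup.le_normalizer.trans le_sup_left)
        ((inf_le_left.trans hB).trans le_sup_right)))))
    rw [this]; exact le_top

/-- The `p'`-core of the quotient by the `p'`-core is trivial. -/
theorem pPrimeCore_quotient_eq_bot [Finite G] {p : ℕ} [(Cfsg.pPrimeCore p G).Normal] :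
    Cfsg.pPrimeCore p (G ⧸ Cfsg.pPrimeCore p G) = ⊥ := by
  set N := Cfsg.pPrimeCore p G
  set f := QuotientGroup.mk' N
  set M := Cfsg.pPrimeCore p (G ⧸ N)
  have hMn : M.Normal := pPrimeCore_isNormal
  have hle : N ≤ M.comap f := fun x hx => by
    show f x ∈ M
    rw [show f x = 1 from (QuotientGroup.eq_one_iff x).mpr hx]
    exact one_mem _
  have hc : (Nat.card ↥(M.comap f)).Coprime p := by
    rw [← card_mul_relIndex hle]
    have e : N.relIndex (M.comap f) = Nat.card M := by
      have hker : N = (⊥ : Subgroup (G ⧸ N)).comap f := by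
        rw [MonoidHom.comap_bot]; exact (QuotientGroup.ker_mk' N).symm
      refine Eq.trans (congrArg (fun X : Subgroup G => X.relIndex (M.comap f)) hker) ?_
      rw [Subgroup.relIndex_comap, Subgroup.map_comap_eq_self_of_surjective (QuotientGroup.mk'_surjective N),
        Subgroup.relIndex_bot_left]
    rw [e]
    exact Nat.Coprime.mul_left pPrimeCore_coprime pPrimeCore_coprime
  have := le_pPrimeCore (hMn.comap f) hc
  rw [← Subgroup.map_comap_eq_self_of_surjective (QuotientGroup.mk'_surjective N) M,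
    Subgroup.map_eq_bot_iff, QuotientGroup.ker_mk']
  exact this

/-- A nontrivial normal subgroup of a nilpotent group meets the centre. -/
theorem inf_center_ne_bot [Group.IsNilpotent G] (N : Subgroup G) [N.Normal] (hN : N ≠ ⊥) :
    N ⊓ Subgroup.center G ≠ ⊥ := by
  classical
  obtain ⟨n, hn⟩ := Group.IsNilpotent.nilpotent G
  have hex : ∃ k, N ⊓ Subgroup.upperCentralSeries G k ≠ ⊥ := ⟨n, by rw [hn, inf_top_eq]; exact hN⟩
  have hk := Nat.find_spec hex
  rcases Nat.eq_zero_or_pos (Nat.find hex) with h0 | hpos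
  · rw [h0, Subgroup.upperCentralSeries_zero, inf_bot_eq] at hk; exact absurd rfl hk
  obtain ⟨j, hj⟩ := Nat.exists_eq_add_one.mpr hpos
  have hmin := Nat.find_min hex (m := j) (by omega)
  push Not at hmin
  rw [hj] at hk
  refine fun h => hk (le_bot_iff.mp fun x hx => ?_)
  rw [← h]
  refine ⟨hx.1, Subgroup.mem_center_iff.mpr fun g => ?_⟩
  have hc : x * g * x⁻¹ * g⁻¹ ∈ N ⊓ Subgroup.upperCentralSeries G j := by
    refine ⟨?_, Subgroup.mem_upperCentralSeries_succ_iff.mp hx.2 g⟩
    have : x * (g * x⁻¹ * g⁻¹) ∈ N :=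
      N.mul_mem hx.1 (Subgroup.Normal.conj_mem inferInstance _ (N.inv_mem hx.1) g)
    simpa [mul_assoc] using this
  rw [hmin, Subgroup.mem_bot, mul_inv_eq_one, mul_inv_eq_iff_eq_mul] at hc
  exact hc.symm

end Cfsg.Agent.Grp
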