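import Mathlib
import Cfsg.Prelude.Def_Local
import Cfsg.Agent.Lib.Grp.Basic

/-!
Quasisimple groups: normal and subnormal subgroups, images, isomorphic copies.
-/

namespace Cfsg.Agent.Grp

open scoped commutatorElement
open Subgroup

variable {X Y : Type*} [Group X] [Group Y]

theorem eq_bot_of_perfect_of_comm {H : Subgroup X} (hp : ⁅H, H⁆ = H)
    (hc : H ≤ Subgroup.centralizer (H : Set X)) : H = ⊥ := by
  rw [← hp]; exact Subgroup.commutator_eq_bot_iff_le_centralizer.mpr hc

theorem eq_bot_of_perfect_of_solvable {H : Subgroup X} (hp : ⁅H, H⁆ = H)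
    (hs : Group.IsSolvable H) : H = ⊥ := by
  have : Group.IsPerfect H := Subgroup.isPerfect_iff.mpr hp
  by_contra hne
  have := (Subgroup.nontrivial_iff_ne_bot H).mpr hne
  exact Group.IsPerfect.not_isSolvable _ hs

theorem IsQuasisimple.nontrivial (h : Cfsg.IsQuasisimple X) : Nontrivial X := by
  have := h.2.toNontrivial
  exact (QuotientGroup.mk'_surjective (Subgroup.center X)).nontrivial

theorem IsQuasisimple.not_isSolvable (h : Cfsg.IsQuasisimple X) : ¬ Group.IsSolvable X := by
  have := h.1
  have := IsQuasisimple.nontrivial h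
  exact Group.IsPerfect.not_isSolvable _

theorem IsQuasisimple.center_ne_top (h : Cfsg.IsQuasisimple X) : Subgroup.center X ≠ ⊤ := by
  intro e
  have := h.2.toNontrivial
  exact not_subsingleton _ (QuotientGroup.subsingleton_iff.mpr e)

theorem IsQuasisimple.eq_top_or_le_center (h : Cfsg.IsQuasisimple X) (N : Subgroup X) [N.Normal] :
    N = ⊤ ∨ N ≤ Subgroup.center X := by
  set f := QuotientGroup.mk' (Subgroup.center X)
  have hf : Function.Surjective f := QuotientGroup.mk'_surjective _
  have := h.2
  rcases (Subgroup.Normal.map (inferInstance : N.Normal) f hf).eq_bot_or_eq_top with e | e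
  · right
    rwa [Subgroup.map_eq_bot_iff, QuotientGroup.ker_mk'] at e
  · left
    have htop : N ⊔ Subgroup.center X = ⊤ := by
      rw [← QuotientGroup.ker_mk' (Subgroup.center X), ← Subgroup.comap_map_eq, e, Subgroup.comap_top]
    have hp : commutator X = ⊤ := h.1.commutator_eq_top
    rw [eq_top_iff, ← hp, commutator_def, Subgroup.commutator_le]
    intro x _ y _
    obtain ⟨n, hn, z, hz, rfl⟩ := Subgroup.mem_sup_of_normal_right.mp
      (show x ∈ N ⊔ Subgroup.center X by rw [htop]; trivial)
    have e1 : ⁅n * z, y⁆ = ⁅n, y⁆ := by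
      rw [commutatorElement_mul_left_eq_conj_mul,
        commutatorElement_eq_one_iff_mul_comm.mpr (Subgroup.mem_center_iff.mp hz y).symm]
      simp
    rw [e1, commutatorElement_def, mul_assoc n, mul_assoc n]
    exact N.mul_mem hn (Subgroup.Normal.conj_mem inferInstance _ (N.inv_mem hn) y)

theorem isQuasisimple_of (hp : Group.IsPerfect X) [Nontrivial X]
    (h : ∀ N : Subgroup X, N.Normal → N = ⊤ ∨ N ≤ Subgroup.center X) : Cfsg.IsQuasisimple X := by
  refine ⟨hp, ?_⟩
  have hne : Subgroup.center X ≠ ⊤ := fun e => Group.IsPerfect.not_isMulCommutative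
    X ⟨⟨fun a b => Subgroup.mem_center_iff.mp (e.ge (Subgroup.mem_top b)) a⟩⟩
  have : Nontrivial (X ⧸ Subgroup.center X) := by
    rw [← not_subsingleton_iff_nontrivial, QuotientGroup.subsingleton_iff]
    exact hne
  refine ⟨fun N hN => ?_⟩
  set f := QuotientGroup.mk' (Subgroup.center X)
  have hf : Function.Surjective f := QuotientGroup.mk'_surjective _
  rw [← Subgroup.map_comap_eq_self_of_surjective hf N]
  rcases h (N.comap f) (hN.comap f) with e | e
  · exact Or.inr (by rw [e, Subgroup.map_top_of_surjective f hf])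
  · exact Or.inl ((Subgroup.map_eq_bot_iff _).mpr (by rwa [QuotientGroup.ker_mk']))

theorem IsQuasisimple.eq_top_or_le_center_of_subnormal (h : Cfsg.IsQuasisimple X) {H : Subgroup X}
    (hH : H.IsSubnormal) : H = ⊤ ∨ H ≤ Subgroup.center X := by
  rcases hH.lt_normal with e | ⟨K, hK, hle, hlt⟩
  · exact Or.inl e
  · exact Or.inr (hle.trans ((IsQuasisimple.eq_top_or_le_center h K).resolve_left hlt.ne))

theorem IsQuasisimple.of_surjective (h : Cfsg.IsQuasisimple X) {f : X →* Y}
    (hf : Function.Surjective f) [Nontrivial Y] : Cfsg.IsQuasisimple Y := by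
  have := h.1
  refine isQuasisimple_of (Group.IsPerfect.ofSurjective hf) fun N hN => ?_
  rw [← Subgroup.map_comap_eq_self_of_surjective hf N]
  rcases IsQuasisimple.eq_top_or_le_center h (N.comap f) with e | e
  · exact Or.inl (by rw [e, Subgroup.map_top_of_surjective f hf])
  · refine Or.inr ((Subgroup.map_mono e).trans ?_)
    rintro _ ⟨z, hz, rfl⟩
    rw [Subgroup.mem_center_iff]
    intro y
    obtain ⟨x, rfl⟩ := hf y
    rw [← map_mul, ← map_mul, Subgroup.mem_center_iff.mp hz x]

theorem isQuasisimple_congr (e : X ≃* Y) : Cfsg.IsQuasisimple X ↔ Cfsg.IsQuasisimple Y := by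
  constructor <;> intro h
  · have := IsQuasisimple.nontrivial h
    have : Nontrivial Y := e.injective.nontrivial
    exact IsQuasisimple.of_surjective h (f := e.toMonoidHom) e.surjective
  · have := IsQuasisimple.nontrivial h
    have : Nontrivial X := e.symm.injective.nontrivial
    exact IsQuasisimple.of_surjective h (f := e.symm.toMonoidHom) e.symm.surjective

end Cfsg.Agent.Grp
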