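import Mathlib
import Cfsg.Agent.Lib.Grp.Cores
import Cfsg.Agent.Lib.Grp.Coprime

/-!
Subnormal nilpotent subgroups lie in the Fitting subgroup; Baer's theorem and the Baer–Suzuki theorem.
-/

namespace Cfsg.Agent.Grp

open scoped Pointwise
open Subgroup

universe u

variable {G : Type*} [Group G]

theorem isSubnormal_of_nilpotent [Finite G] [Group.IsNilpotent G] (H : Subgroup G) :
    H.IsSubnormal := by
  suffices ∀ n (H : Subgroup G), H.index = n → H.IsSubnormal from this _ H rfl
  intro n
  induction n using Nat.strong_induction_on with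
  | _ n ih =>
  intro H hH
  rcases eq_or_ne H ⊤ with rfl | hne
  · exact IsSubnormal.top
  · have hlt := Group.normalizerCondition_of_isNilpotent H hne.lt_top
    refine IsSubnormal.step _ _ Subgroup.le_normalizer (ih _ ?_ _ rfl) inferInstance
    exact hH ▸ Subgroup.index_strictAnti hlt

/-- The Fitting subgroup of a subgroup, as a subgroup of the ambient group. -/
def fittingIn (H : Subgroup G) : Subgroup G := (Cfsg.fittingSubgroup H).map H.subtype

theorem fittingIn_le (H : Subgroup G) : fittingIn H ≤ H := Subgroup.map_subtype_le _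

theorem fittingIn_isNilpotent [Finite G] (H : Subgroup G) :
    Group.IsNilpotent (fittingIn H : Subgroup G) :=
  isNilpotent_map fittingSubgroup_isNilpotent _

theorem le_normalizer_fittingIn (H : Subgroup G) :
    H ≤ Subgroup.normalizer (fittingIn H : Set G) := by
  have := (fittingSubgroup_isNormal (G := H))
  intro x hx
  rw [Subgroup.mem_normalizer_iff]
  refine fun y => ⟨?_, fun h => ?_⟩
  · rintro ⟨z, hz, rfl⟩
    exact ⟨⟨x, hx⟩ * z * ⟨x, hx⟩⁻¹, this.conj_mem z hz ⟨x, hx⟩, rfl⟩
  · obtain ⟨z, hz, he⟩ := h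
    refine ⟨⟨x, hx⟩⁻¹ * z * ⟨x, hx⟩, this.conj_mem' z hz ⟨x, hx⟩, ?_⟩
    simp only [Subgroup.coe_subtype] at he
    simp [he, mul_assoc]

theorem le_fittingIn {N H : Subgroup G} (hNH : N ≤ H)
    (hn : H ≤ Subgroup.normalizer (N : Set G)) (hnil : Group.IsNilpotent N) : N ≤ fittingIn H := by
  have := Subgroup.normal_subgroupOf_of_le_normalizer hn
  have h := le_fittingSubgroup (G := H) this
    ((Group.isNilpotent_congr (Subgroup.subgroupOfEquivOfLe hNH)).mpr hnil)
  have := Subgroup.map_mono (f := H.subtype) h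
  rwa [Subgroup.subgroupOf_map_subtype, inf_eq_left.mpr hNH] at this

theorem conj_smul_fittingIn_le [Finite G] (g : G) (H : Subgroup G) :
    MulAut.conj g • fittingIn H ≤ fittingIn (MulAut.conj g • H) := by
  refine le_fittingIn (Subgroup.pointwise_smul_le_pointwise_smul_iff.mpr (fittingIn_le H)) ?_ ?_
  · intro x hx
    rw [mem_smul_conj] at hx
    rw [mem_normalizer_iff_smul]
    have e := mem_normalizer_iff_smul.mp (le_normalizer_fittingIn H hx)
    calc MulAut.conj x • MulAut.conj g • fittingIn H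
        = MulAut.conj g • MulAut.conj (g⁻¹ * x * g) • fittingIn H := by
          rw [conj_smul_conj_smul, conj_smul_conj_smul]; congr 2; group
      _ = MulAut.conj g • fittingIn H := by rw [e]
  · rw [← map_conj_eq_smul]; exact isNilpotent_map (fittingIn_isNilpotent H) _

theorem fittingIn_top [Finite G] : fittingIn (⊤ : Subgroup G) = Cfsg.fittingSubgroup G := by
  rw [fittingIn, fittingSubgroup_map_eq, inf_top_eq]

theorem fittingIn_le_of_isSubnormal [Finite G] {H : Subgroup G} (h : H.IsSubnormal) :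
    fittingIn H ≤ Cfsg.fittingSubgroup G := by
  induction h with
  | top => exact fittingIn_top.le
  | step H K hle _ hN ih =>
    refine le_trans (le_fittingIn ((fittingIn_le H).trans hle) (fun g hg => ?_)
      (fittingIn_isNilpotent H)) ih
    have hn := (Subgroup.normal_subgroupOf_iff_le_normalizer hle).mp hN hg
    rw [mem_normalizer_iff_smul] at hn ⊢
    refine Subgroup.eq_of_le_of_card_ge ?_ (card_conj_smul _ _).ge
    exact (conj_smul_fittingIn_le g H).trans_eq (by rw [hn])

theorem le_fitting_of_isSubnormal [Finite G] {A : Subgroup G} (h : A.IsSubnormal)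
    (hn : Group.IsNilpotent A) : A ≤ Cfsg.fittingSubgroup G :=
  (le_fittingIn le_rfl Subgroup.le_normalizer hn).trans (fittingIn_le_of_isSubnormal h)

theorem isSubnormal_of_le_fitting [Finite G] {A : Subgroup G} (h : A ≤ Cfsg.fittingSubgroup G) :
    A.IsSubnormal := by
  have := fittingSubgroup_isNilpotent (G := G)
  exact IsSubnormal.trans h (isSubnormal_of_nilpotent _)
    (fittingSubgroup_isNormal (G := G)).isSubnormal

theorem conj_le_fittingIn [Finite G] (A : Subgroup G)
    (hyp : ∀ H : Subgroup G, H ≠ ⊤ → A ≤ H → A ≤ fittingIn H) (x : G) (H : Subgroup G) (hH : H ≠ ⊤)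
    (hAH : MulAut.conj x • A ≤ H) : MulAut.conj x • A ≤ fittingIn H := by
  have hle : A ≤ MulAut.conj x⁻¹ • H := by
    have := (Subgroup.pointwise_smul_le_pointwise_smul_iff (a := MulAut.conj x⁻¹)).mpr hAH
    rwa [conj_smul_conj_smul, inv_mul_cancel, map_one, one_smul] at this
  have hne : MulAut.conj x⁻¹ • H ≠ ⊤ := fun h =>
    hH ((Subgroup.card_eq_iff_eq_top H).mp (by rw [← card_conj_smul x⁻¹ H, h, Subgroup.card_top]))
  refine (Subgroup.pointwise_smul_le_pointwise_smul_iff.mpr (hyp _ hne hle)).trans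
    ((conj_smul_fittingIn_le x _).trans_eq ?_)
  rw [conj_smul_conj_smul, mul_inv_cancel, map_one, one_smul]

/-- The zipper lemma, in Fitting-subgroup form. -/
theorem fitting_zipper [Finite G] : ∀ (n : ℕ) (A : Subgroup G), Nat.card G - Nat.card A = n →
    Group.IsNilpotent A → ¬ A ≤ Cfsg.fittingSubgroup G →
    (∀ H : Subgroup G, H ≠ ⊤ → A ≤ H → A ≤ fittingIn H) →
    ∀ M K : Subgroup G, IsCoatom M → IsCoatom K → A ≤ M → A ≤ K → M = K := by
  intro n
  induction n using Nat.strong_induction_on with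
  | _ n ih =>
  intro A hn hA hnot hyp
  set NA := Subgroup.normalizer (A : Set G)
  have hNA : NA ≠ ⊤ := fun h => hnot (le_fittingSubgroup (Subgroup.normalizer_eq_top_iff.mp h) hA)
  obtain ⟨M₀, hM₀, hNAM⟩ := (eq_top_or_exists_le_coatom NA).resolve_left hNA
  suffices ∀ K, IsCoatom K → A ≤ K → K = M₀ from
    fun M K hM hK h1 h2 => (this M hM h1).trans (this K hK h2).symm
  intro K hK hAK
  by_cases hKN : K ≤ NA
  · exact le_antisymm (hKN.trans hNAM)
      ((hK.le_iff.mp (hKN.trans hNAM)).resolve_left hM₀.1).le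
  set FK := fittingIn K
  have hAFK : A ≤ FK := hyp K hK.1 hAK
  obtain ⟨x, hxK, hxN, hxA⟩ : ∃ x ∈ K, x ∉ NA ∧ MulAut.conj x • A ≤ NA := by
    by_cases hF : FK ≤ NA
    · obtain ⟨x, hxK, hxN⟩ := SetLike.not_le_iff_exists.mp hKN
      refine ⟨x, hxK, hxN, le_trans ?_ hF⟩
      calc MulAut.conj x • A ≤ MulAut.conj x • FK :=
            Subgroup.pointwise_smul_le_pointwise_smul_iff.mpr hAFK
        _ = FK := mem_normalizer_iff_smul.mp (le_normalizer_fittingIn K hxK)
    · have := fittingIn_isNilpotent K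
      have hlt : (NA.subgroupOf FK) < ⊤ :=
        lt_top_iff_ne_top.mpr fun h => hF (Subgroup.subgroupOf_eq_top.mp h)
      obtain ⟨y, hy, hyN⟩ := SetLike.exists_of_lt (Group.normalizerCondition_of_isNilpotent _ hlt)
      refine ⟨y, fittingIn_le K y.2, hyN, fun z hz => ?_⟩
      rw [mem_smul_conj] at hz
      have h1 := (Subgroup.mem_normalizer_iff.mp hy ⟨(y : G)⁻¹ * z * y, hAFK hz⟩).mp
        (Subgroup.le_normalizer (H := A) hz)
      change (y : G) * ((y : G)⁻¹ * z * y) * (y : G)⁻¹ ∈ NA at h1
      simpa [mul_assoc] using h1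
  set T := A ⊔ MulAut.conj x • A
  have hTK : T ≤ K := sup_le hAK ((Subgroup.pointwise_smul_le_pointwise_smul_iff.mpr hAK).trans_eq
    (conj_smul_eq_self_of_mem hxK))
  have hTM : T ≤ M₀ := (sup_le Subgroup.le_normalizer hxA).trans hNAM
  have hAT : A < T := by
    refine lt_of_le_of_ne le_sup_left fun h => hxN (mem_normalizer_iff_smul.mpr ?_)
    exact Subgroup.eq_of_le_of_card_ge (le_sup_right.trans_eq h.symm) (card_conj_smul _ _).ge
  have hTF : ∀ H : Subgroup G, H ≠ ⊤ → T ≤ H → T ≤ fittingIn H := fun H hH hTH =>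
    sup_le (hyp H hH (le_sup_left.trans hTH)) (conj_le_fittingIn A hyp x H hH (le_sup_right.trans hTH))
  refine ih _ ?_ T rfl (isNilpotent_of_le (hTF K hK.1 hTK) (fittingIn_isNilpotent K))
    (fun h => hnot (le_sup_left.trans h)) hTF K M₀ hK hM₀ hTK hTM
  have h1 : Nat.card A < Nat.card T := by
    rcases (Subgroup.card_le_of_le hAT.le).lt_or_eq with h | h
    · exact h
    · exact absurd (Subgroup.eq_of_le_of_card_ge hAT.le h.ge) hAT.ne
  have h2 := Subgroup.card_le_card_group T
  omega

/-- Baer's theorem: if `A` generates a nilpotent subgroup with each of its conjugates, then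
`A ≤ F(G)`. -/
theorem baer_le_fitting : ∀ (n : ℕ) (G : Type u) [Group G] [Finite G], Nat.card G = n →
    ∀ A : Subgroup G, (∀ g : G, Group.IsNilpotent (A ⊔ MulAut.conj g • A : Subgroup G)) →
    A ≤ Cfsg.fittingSubgroup G := by
  intro n
  induction n using Nat.strong_induction_on with
  | _ n ih =>
  intro G _ _ hn A h
  by_contra hnot
  have hA : Group.IsNilpotent A := isNilpotent_of_le le_sup_left (h 1)
  have hyp : ∀ H : Subgroup G, H ≠ ⊤ → A ≤ H → A ≤ fittingIn H := by
    intro H hH hAH
    have key := ih (Nat.card H) (hn ▸ card_lt_of_ne_top hH) H rfl (A.subgroupOf H) (fun k => by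
      have hsm : MulAut.conj (k : G) • A ≤ H :=
        (Subgroup.pointwise_smul_le_pointwise_smul_iff.mpr hAH).trans_eq
          (conj_smul_eq_self_of_mem k.2)
      have hle : A ⊔ MulAut.conj (k : G) • A ≤ H := sup_le hAH hsm
      have e : A.subgroupOf H ⊔ MulAut.conj k • A.subgroupOf H =
          (A ⊔ MulAut.conj (k : G) • A).subgroupOf H := by
        rw [Subgroup.subgroupOf_sup hAH hsm]
        congr 1
        ext z
        simp [mem_smul_conj, Subgroup.mem_subgroupOf]
      rw [e]
      exact (Group.isNilpotent_congr (Subgroup.subgroupOfEquivOfLe hle)).mpr (h k))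
    have := Subgroup.map_mono (f := H.subtype) key
    rwa [Subgroup.subgroupOf_map_subtype, inf_eq_left.mpr hAH] at this
  have hnil : ∀ T : Subgroup G, Group.IsNilpotent T → T ≠ ⊤ := fun T hT e => hnot (by
    subst e
    exact le_top.trans (le_fittingSubgroup inferInstance hT))
  obtain ⟨M, hM, hAM⟩ := (eq_top_or_exists_le_coatom A).resolve_left (hnil A hA)
  have hnc : Subgroup.normalClosure (A : Set G) ≤ M := by
    rw [Subgroup.normalClosure, Subgroup.closure_le]
    intro y hy
    obtain ⟨a, ha, hay⟩ := Group.mem_conjugatesOfSet_iff.mp hy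
    obtain ⟨c, rfl⟩ := isConj_iff.mp hay
    obtain ⟨M', hM', hTM⟩ := (eq_top_or_exists_le_coatom _).resolve_left (hnil _ (h c))
    rw [fitting_zipper _ A rfl hA hnot hyp M M' hM hM' hAM (le_sup_left.trans hTM)]
    exact hTM (Subgroup.mem_sup_right (mem_smul_conj.mpr (by simpa [mul_assoc] using ha)))
  refine hnot ((hyp _ (fun e => hM.1 (top_unique (e ▸ hnc))) Subgroup.le_normalClosure).trans
    (fittingIn_le_of_isSubnormal Subgroup.normalClosure_normal.isSubnormal))

/-- A `p`-element of the Fitting subgroup lies in the `p`-core. -/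
theorem mem_pCore_of_mem_fitting [Finite G] {p : ℕ} [Fact p.Prime] {x : G}
    (hx : x ∈ Cfsg.fittingSubgroup G) (hp : IsPGroup p (Subgroup.zpowers x)) :
    x ∈ Cfsg.pCore p G := by
  set F := Cfsg.fittingSubgroup G
  have hFn := fittingSubgroup_isNormal (G := G)
  obtain ⟨P, hP⟩ := (hp.comap_subtype (K := F)).exists_le_sylow
  have hPn : (P : Subgroup F).Normal :=
    isNilpotent_iff_sylow_normal.mp fittingSubgroup_isNilpotent p inferInstance P
  have := P.characteristic_of_normal hPn
  have hxP : x ∈ (P : Subgroup F).map F.subtype :=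
    ⟨⟨x, hx⟩, hP (Subgroup.mem_zpowers x), rfl⟩
  exact le_pCore inferInstance (P.isPGroup'.map _) hxP

/-- The Baer–Suzuki theorem. -/
theorem baer_suzuki {G : Type u} [Group G] [Finite G] {p : ℕ} [Fact p.Prime] (x : G)
    (h : ∀ g : G, IsPGroup p (Subgroup.closure {x, g * x * g⁻¹})) : x ∈ Cfsg.pCore p G := by
  have hA : IsPGroup p (Subgroup.zpowers x) :=
    (h 1).to_le (Subgroup.zpowers_le.mpr (Subgroup.subset_closure (Set.mem_insert _ _)))
  refine mem_pCore_of_mem_fitting (baer_le_fitting _ G rfl (Subgroup.zpowers x) (fun g => ?_)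
    (Subgroup.mem_zpowers x)) hA
  have hle : Subgroup.zpowers x ⊔ MulAut.conj g • Subgroup.zpowers x ≤
      Subgroup.closure {x, g * x * g⁻¹} := by
    rw [← map_conj_eq_smul, MonoidHom.map_zpowers]
    exact sup_le (Subgroup.zpowers_le.mpr (Subgroup.subset_closure (Set.mem_insert _ _)))
      (Subgroup.zpowers_le.mpr (Subgroup.subset_closure (by simp)))
  exact ((h g).to_le hle).isNilpotent

end Cfsg.Agent.Grp
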