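import Mathlib
import Cfsg.Agent.Lib.Grp.Cores
import Cfsg.Agent.Lib.Grp.Baer

/-!
Subnormal subgroups: p-subgroups, p'-subgroups, Sylow subgroups.
-/

namespace Cfsg.Agent.Grp

open scoped Pointwise
open Subgroup

universe u

variable {G : Type*} [Group G]

theorem le_pPrimeCore_aux : ∀ (n : ℕ) (G : Type u) [Group G] [Finite G], Nat.card G = n →
    ∀ (p : ℕ) (H : Subgroup G), H.IsSubnormal → (Nat.card H).Coprime p →
      H ≤ Cfsg.pPrimeCore p G := by
  intro n
  induction n using Nat.strong_induction_on with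
  | _ n ih =>
  intro G _ _ hn p H hH hc
  rcases hH.lt_normal with e | ⟨N, hN, hle, hlt⟩
  · subst e; exact le_pPrimeCore inferInstance hc
  · have := ih _ (hn ▸ card_lt_of_ne_top hlt.ne) N rfl p (H.subgroupOf N) hH.subgroupOf
      (by rw [Nat.card_congr (Subgroup.subgroupOfEquivOfLe hle).toEquiv]; exact hc)
    have := Subgroup.map_mono (f := N.subtype) this
    rw [Subgroup.subgroupOf_map_subtype, inf_eq_left.mpr hle, pPrimeCore_map_eq] at this
    exact this.trans inf_le_left

/-- A subnormal `p'`-subgroup lies in the `p'`-core. -/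
theorem le_pPrimeCore_of_isSubnormal {G : Type u} [Group G] [Finite G] {p : ℕ} {H : Subgroup G}
    (hH : H.IsSubnormal) (hc : (Nat.card H).Coprime p) : H ≤ Cfsg.pPrimeCore p G :=
  le_pPrimeCore_aux _ G rfl p H hH hc

/-- A subnormal `p`-subgroup lies in the `p`-core. -/
theorem le_pCore_of_isSubnormal [Finite G] {p : ℕ} [Fact p.Prime] {H : Subgroup G}
    (hH : H.IsSubnormal) (hp : IsPGroup p H) : H ≤ Cfsg.pCore p G := fun x hx =>
  mem_pCore_of_mem_fitting (le_fitting_of_isSubnormal hH hp.isNilpotent hx)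
    (hp.to_le (Subgroup.zpowers_le.mpr hx))

/-- A Sylow subgroup meets a subnormal subgroup in a subgroup of index prime to `p`. -/
theorem not_dvd_relIndex_sylow [Finite G] {p : ℕ} [Fact p.Prime] (S : Sylow p G) {H : Subgroup G}
    (hH : H.IsSubnormal) : ¬ p ∣ (S : Subgroup G).relIndex H := by
  induction hH with
  | top => simpa using S.not_dvd_index
  | step H K hle _ hn ih =>
    set SK := (S : Subgroup G) ⊓ K
    have hSK : ¬ p ∣ SK.relIndex K := by rwa [Subgroup.inf_relIndex_right]
    rw [← show SK.relIndex H = (S : Subgroup G).relIndex H by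
      rw [← Subgroup.inf_relIndex_right, ← Subgroup.inf_relIndex_right (H := (S : Subgroup G)),
        inf_assoc, inf_eq_right.mpr hle]]
    have hnorm : SK ≤ Subgroup.normalizer (H : Set G) :=
      inf_le_right.trans ((Subgroup.normal_subgroupOf_iff_le_normalizer hle).mp hn)
    have e1 := card_sup_mul_card_inf hnorm
    have e2 := card_mul_relIndex (le_sup_left : SK ≤ SK ⊔ H)
    have e3 := relIndex_mul_card_inf H SK
    rw [← e2, ← e3, inf_comm H SK] at e1
    have : SK.relIndex (SK ⊔ H) = SK.relIndex H := by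
      refine Nat.eq_of_mul_eq_mul_left (Nat.mul_pos (Nat.card_pos (α := SK))
        (Nat.card_pos (α := ↥(SK ⊓ H)))) ?_
      linarith [e1]
    exact fun h => hSK ((this ▸ h).trans (Dvd.intro _
      (Subgroup.relIndex_mul_relIndex SK (SK ⊔ H) K le_sup_left (sup_le inf_le_right hle))))

/-- A subnormal subgroup of index prime to `p` contains every Sylow `p`-subgroup. -/
theorem sylow_le_of_isSubnormal [Finite G] {p : ℕ} [Fact p.Prime] (S : Sylow p G)
    {H : Subgroup G} (hH : H.IsSubnormal) (hidx : ¬ p ∣ H.index) : (S : Subgroup G) ≤ H := by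
  obtain ⟨k, hk⟩ : ∃ k, H.relIndex (S : Subgroup G) = p ^ k := S.isPGroup'.index _
  rcases k with _ | k
  · exact Subgroup.relIndex_eq_one.mp (by rw [hk, pow_zero])
  · exfalso
    have e1 := relIndex_mul_card_inf (S : Subgroup G) H
    have e2 := relIndex_mul_card_inf H (S : Subgroup G)
    rw [inf_comm H (S : Subgroup G)] at e2
    have e3 := (S : Subgroup G).card_mul_index
    rw [← H.card_mul_index, ← e1, ← e2, hk] at e3
    have e4 : p ^ (k + 1) * (S : Subgroup G).index = (S : Subgroup G).relIndex H * H.index :=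
      Nat.eq_of_mul_eq_mul_left (Nat.card_pos (α := ↥((S : Subgroup G) ⊓ H))) (by linarith [e3])
    have hd : p ∣ (S : Subgroup G).relIndex H * H.index :=
      e4 ▸ dvd_mul_of_dvd_left (dvd_pow_self p k.succ_ne_zero) _
    rcases (Fact.out : p.Prime).dvd_mul.mp hd with h | h
    · exact not_dvd_relIndex_sylow S hH h
    · exact hidx h

end Cfsg.Agent.Grp
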