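import Mathlib
import Cfsg.Prelude.Def_Local
import Cfsg.Agent.Lib.Grp.Quasisimple
import Cfsg.Agent.Lib.Grp.Subnormal
import Cfsg.Agent.Lib.Grp.Solvable
import Cfsg.Agent.Lib.Grp.Coprime

/-!
Components, the layer and the generalized Fitting subgroup of a finite group.
-/

namespace Cfsg.Agent.Grp

open scoped Pointwise commutatorElement
open Subgroup

universe u

variable {G : Type*} [Group G]

theorem isQuasisimple_map_iff {H : Type*} [Group H] {f : G →* H} (hf : Function.Injective f)
    (K : Subgroup G) : Cfsg.IsQuasisimple (K.map f) ↔ Cfsg.IsQuasisimple K :=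
  (isQuasisimple_congr (Subgroup.equivMapOfInjective K f hf)).symm

theorem isQuasisimple_subgroupOf_iff {K H : Subgroup G} (h : K ≤ H) :
    Cfsg.IsQuasisimple (K.subgroupOf H) ↔ Cfsg.IsQuasisimple K :=
  isQuasisimple_congr (Subgroup.subgroupOfEquivOfLe h)

theorem IsComponent.perfect {L : Subgroup G} (h : Cfsg.IsComponent L) : ⁅L, L⁆ = L :=
  Subgroup.isPerfect_iff.mp h.2.1

theorem IsComponent.ne_bot {L : Subgroup G} (h : Cfsg.IsComponent L) : L ≠ ⊥ :=
  (Subgroup.nontrivial_iff_ne_bot L).mp (IsQuasisimple.nontrivial h.2)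

theorem IsComponent.subgroupOf {L H : Subgroup G} (h : Cfsg.IsComponent L) (hle : L ≤ H) :
    Cfsg.IsComponent (L.subgroupOf H) :=
  ⟨h.1.subgroupOf, (isQuasisimple_subgroupOf_iff hle).mpr h.2⟩

theorem IsComponent.map_subtype {H : Subgroup G} (hH : H.IsSubnormal) {K : Subgroup H}
    (h : Cfsg.IsComponent K) : Cfsg.IsComponent (K.map H.subtype) :=
  ⟨h.1.trans' hH, (isQuasisimple_map_iff (Subgroup.subtype_injective H) K).mpr h.2⟩

theorem isComponent_map_subtype_iff {H : Subgroup G} (hH : H.IsSubnormal) (K : Subgroup H) :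
    Cfsg.IsComponent K ↔ Cfsg.IsComponent (K.map H.subtype) := by
  refine ⟨IsComponent.map_subtype hH, fun h => ?_⟩
  have := IsComponent.subgroupOf h (Subgroup.map_subtype_le K)
  rwa [← Subgroup.comap_subtype, Subgroup.comap_map_eq_self_of_injective
    (Subgroup.subtype_injective H)] at this

theorem IsComponent.map_iso {H : Type*} [Group H] (e : G ≃* H) {L : Subgroup G}
    (h : Cfsg.IsComponent L) : Cfsg.IsComponent (L.map e.toMonoidHom) :=
  ⟨h.1.map e.surjective, (isQuasisimple_map_iff e.injective L).mpr h.2⟩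

theorem IsComponent.conj {L : Subgroup G} (h : Cfsg.IsComponent L) (g : G) :
    Cfsg.IsComponent (MulAut.conj g • L) := by
  rw [← map_conj_eq_smul]; exact IsComponent.map_iso (MulAut.conj g) h

theorem component_le_or_commute_aux : ∀ (n : ℕ) (G : Type u) [Group G] [Finite G], Nat.card G = n →
    ∀ L H : Subgroup G, Cfsg.IsComponent L → H.IsSubnormal → L ≤ H ∨ ⁅L, H⁆ = ⊥ := by
  intro n
  induction n using Nat.strong_induction_on with
  | _ n ih =>
  intro G _ _ hn L H hL hH
  by_cases hLH : L ≤ H
  · exact Or.inl hLH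
  right
  rcases hH.lt_normal with e | ⟨M, hM, hHM, hMlt⟩
  · exact absurd le_top (e ▸ hLH)
  have hMn : (M.subgroupOf (⊤ : Subgroup G)).Normal := inferInstance
  by_cases hLM : L ≤ M
  · rcases ih _ (hn ▸ card_lt_of_ne_top hMlt.ne) M rfl _ (H.subgroupOf M)
      (IsComponent.subgroupOf hL hLM) hH.subgroupOf with h | h
    · exfalso; apply hLH
      have := Subgroup.map_mono (f := M.subtype) h
      rwa [Subgroup.subgroupOf_map_subtype, Subgroup.subgroupOf_map_subtype, inf_eq_left.mpr hLM,
        inf_eq_left.mpr hHM] at this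
    · have := congrArg (Subgroup.map M.subtype) h
      rwa [Subgroup.map_commutator, Subgroup.subgroupOf_map_subtype, Subgroup.subgroupOf_map_subtype,
        inf_eq_left.mpr hLM, inf_eq_left.mpr hHM, Subgroup.map_bot] at this
  suffices h : ⁅L, M⁆ = ⊥ from le_bot_iff.mp (h ▸ Subgroup.commutator_mono le_rfl hHM)
  rcases hL.1.lt_normal with e | ⟨N, hN, hLN, hNlt⟩
  · subst e
    have hq : Cfsg.IsQuasisimple G := (isQuasisimple_congr Subgroup.topEquiv).mp hL.2
    rw [Subgroup.commutator_comm, Subgroup.commutator_top_right_eq_bot_iff_le_center]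
    exact (IsQuasisimple.eq_top_or_le_center hq M).resolve_left hMlt.ne
  rcases ih _ (hn ▸ card_lt_of_ne_top hNlt.ne) N rfl _ ((N ⊓ M).subgroupOf N)
    (IsComponent.subgroupOf hL hLN) (IsSubnormal.subgroupOf
      (show (N ⊓ M).Normal from inferInstance).isSubnormal) with h | h
  · exfalso; apply hLM
    have := Subgroup.map_mono (f := N.subtype) h
    rw [Subgroup.subgroupOf_map_subtype, Subgroup.subgroupOf_map_subtype, inf_eq_left.mpr hLN,
      inf_eq_left.mpr inf_le_left] at this
    exact this.trans inf_le_right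
  · have := congrArg (Subgroup.map N.subtype) h
    rw [Subgroup.map_commutator, Subgroup.subgroupOf_map_subtype, Subgroup.subgroupOf_map_subtype,
      inf_eq_left.mpr hLN, inf_eq_left.mpr inf_le_left, Subgroup.map_bot] at this
    have h1 : ⁅⁅L, M⁆, L⁆ = ⊥ := by
      refine le_bot_iff.mp (le_trans (Subgroup.commutator_mono ?_ le_rfl)
        (by rw [Subgroup.commutator_comm, this]))
      exact le_inf ((Subgroup.commutator_mono hLN le_rfl).trans (Subgroup.commutator_le_left N M))
        (Subgroup.commutator_le_right L M)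
    have h2 : ⁅⁅L, L⁆, M⁆ = ⊥ :=
      Subgroup.commutator_commutator_eq_bot_of_rotate h1 (by rw [Subgroup.commutator_comm M L]; exact h1)
    rwa [IsComponent.perfect hL] at h2

/-- A component lies in a given subnormal subgroup or centralizes it. -/
theorem component_le_or_commute {G : Type u} [Group G] [Finite G] {L H : Subgroup G}
    (hL : Cfsg.IsComponent L) (hH : H.IsSubnormal) : L ≤ H ∨ ⁅L, H⁆ = ⊥ :=
  component_le_or_commute_aux _ G rfl L H hL hH

theorem IsComponent.eq_of_le [Finite G] {L K : Subgroup G} (hL : Cfsg.IsComponent L)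
    (hK : Cfsg.IsComponent K) (h : L ≤ K) : L = K := by
  rcases IsQuasisimple.eq_top_or_le_center_of_subnormal hK.2 (hL.1.subgroupOf (K := K)) with e | e
  · exact le_antisymm h (Subgroup.subgroupOf_eq_top.mp e)
  · exfalso
    refine IsComponent.ne_bot hL (eq_bot_of_perfect_of_comm (IsComponent.perfect hL) fun x hx => ?_)
    exact Subgroup.mem_centralizer_iff.mpr fun y hy =>
      congrArg Subtype.val (Subgroup.mem_center_iff.mp (e (show ⟨x, h hx⟩ ∈ L.subgroupOf K from hx))
        ⟨y, h hy⟩)

theorem IsComponent.commute [Finite G] {L K : Subgroup G} (hL : Cfsg.IsComponent L)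
    (hK : Cfsg.IsComponent K) (hne : L ≠ K) : L ≤ Subgroup.centralizer (K : Set G) :=
  Subgroup.commutator_eq_bot_iff_le_centralizer.mp
    ((component_le_or_commute hL hK.1).resolve_left fun h => hne (IsComponent.eq_of_le hL hK h))

/-- A solvable subgroup normalized by a component centralizes it. -/
theorem component_centralizes_solvable [Finite G] {L H : Subgroup G} (hL : Cfsg.IsComponent L)
    (hs : Group.IsSolvable H) (hn : L ≤ Subgroup.normalizer (H : Set G)) : ⁅L, H⁆ = ⊥ := by
  set X := L ⊔ H
  have hX : X ≤ Subgroup.normalizer (H : Set G) := sup_le hn Subgroup.le_normalizer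
  have hHX : (H.subgroupOf X).Normal := Subgroup.normal_subgroupOf_of_le_normalizer hX
  rcases component_le_or_commute (IsComponent.subgroupOf hL (le_sup_left : L ≤ X)) hHX.isSubnormal
    with h | h
  · exfalso
    have := Subgroup.map_mono (f := X.subtype) h
    rw [Subgroup.subgroupOf_map_subtype, Subgroup.subgroupOf_map_subtype,
      inf_eq_left.mpr (le_sup_left : L ≤ X), inf_eq_left.mpr (le_sup_right : H ≤ X)] at this
    exact IsQuasisimple.not_isSolvable hL.2 (isSolvable_of_le this hs)
  · have := congrArg (Subgroup.map X.subtype) h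
    rwa [Subgroup.map_commutator, Subgroup.subgroupOf_map_subtype, Subgroup.subgroupOf_map_subtype,
      inf_eq_left.mpr (le_sup_left : L ≤ X), inf_eq_left.mpr (le_sup_right : H ≤ X),
      Subgroup.map_bot] at this

theorem IsComponent.le_layer {L : Subgroup G} (h : Cfsg.IsComponent L) : L ≤ Cfsg.layer G :=
  le_sSup h

theorem layer_map_le {H : Type*} [Group H] (e : G ≃* H) :
    (Cfsg.layer G).map e.toMonoidHom ≤ Cfsg.layer H := by
  rw [Cfsg.layer, Subgroup.map_le_iff_le_comap]
  refine sSup_le fun L hL => ?_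
  rw [← Subgroup.map_le_iff_le_comap]
  exact IsComponent.le_layer (IsComponent.map_iso e hL)

instance instCharLayer : (Cfsg.layer G).Characteristic :=
  Subgroup.characteristic_iff_map_le.mpr fun e => layer_map_le e

theorem layer_perfect : ⁅Cfsg.layer G, Cfsg.layer G⁆ = Cfsg.layer G := by
  refine le_antisymm (Subgroup.commutator_le_self _) (sSup_le fun L hL => ?_)
  calc L = ⁅L, L⁆ := (IsComponent.perfect hL).symm
    _ ≤ _ := Subgroup.commutator_mono (IsComponent.le_layer hL) (IsComponent.le_layer hL)

theorem layer_le_centralizer_solvable [Finite G] (H : Subgroup G) [H.Normal]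
    (hs : Group.IsSolvable H) : Cfsg.layer G ≤ Subgroup.centralizer (H : Set G) :=
  sSup_le fun L hL => Subgroup.commutator_eq_bot_iff_le_centralizer.mp
    (component_centralizes_solvable hL hs (le_top.trans (Subgroup.normalizer_eq_top (H := H)).ge))

theorem layer_le_centralizer_fitting [Finite G] :
    Cfsg.layer G ≤ Subgroup.centralizer (Cfsg.fittingSubgroup G : Set G) := by
  have := fittingSubgroup_isNilpotent (G := G)
  exact layer_le_centralizer_solvable _ inferInstance

theorem center_map_subtype (H : Subgroup G) :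
    (Subgroup.center H).map H.subtype = H ⊓ Subgroup.centralizer (H : Set G) := by
  ext x
  constructor
  · rintro ⟨z, hz, rfl⟩
    exact ⟨z.2, Subgroup.mem_centralizer_iff.mpr fun y hy =>
      congrArg Subtype.val (Subgroup.mem_center_iff.mp hz ⟨y, hy⟩)⟩
  · rintro ⟨hx, hc⟩
    exact ⟨⟨x, hx⟩, Subgroup.mem_center_iff.mpr fun y =>
      Subtype.ext (Subgroup.mem_centralizer_iff.mp hc y y.2), rfl⟩

theorem components_finset [Finite G] :
    ∃ S : Finset (Subgroup G), (∀ L, L ∈ S ↔ Cfsg.IsComponent L) ∧ S.sup id = Cfsg.layer G := by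
  classical
  let _ : Fintype (Subgroup G) := Fintype.ofFinite _
  refine ⟨Finset.univ.filter fun L => Cfsg.IsComponent L, fun L => by simp, le_antisymm ?_ ?_⟩
  · exact Finset.sup_le fun L hL => IsComponent.le_layer (by simpa using hL)
  · exact sSup_le fun L hL => Finset.le_sup (f := id) (by simpa using hL)

theorem center_sup_components [Finite G] (S : Finset (Subgroup G))
    (hS : ∀ L ∈ S, Cfsg.IsComponent L) :
    S.sup id ⊓ Subgroup.centralizer ((S.sup id : Subgroup G) : Set G) ≤
      ⨆ L ∈ S, L ⊓ Subgroup.centralizer (L : Set G) := by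
  classical
  induction S using Finset.induction_on with
  | empty => simp
  | insert L S hLS ih =>
    rw [Finset.sup_insert, id]
    rintro x ⟨hx, hxc⟩
    have hE : L ≤ Subgroup.centralizer ((S.sup id : Subgroup G) : Set G) := by
      rw [Subgroup.le_centralizer_iff]
      refine Finset.sup_le fun K hK => ?_
      exact IsComponent.commute (hS K (Finset.mem_insert_of_mem hK))
        (hS L (Finset.mem_insert_self L S)) (fun e => hLS (e ▸ hK))
    have hn : L ≤ Subgroup.normalizer ((S.sup id : Subgroup G) : Set G) :=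
      hE.trans (Subgroup.centralizer_le_normalizer _)
    have hx' : x ∈ ((L ⊔ S.sup id : Subgroup G) : Set G) := hx
    rw [Subgroup.coe_mul_of_left_le_normalizer_right _ _ hn] at hx'
    obtain ⟨l, hl, m, hm, rfl⟩ := hx'
    have hxl : ∀ y ∈ L, Commute y (l * m) := fun y hy =>
      Subgroup.mem_centralizer_iff.mp hxc y (Subgroup.mem_sup_left hy)
    have hlC : l ∈ L ⊓ Subgroup.centralizer (L : Set G) := by
      refine ⟨hl, Subgroup.mem_centralizer_iff.mpr fun y hy => ?_⟩
      have hym : Commute y m := (Subgroup.mem_centralizer_iff.mp (hE hy) m hm).symm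
      have := (hxl y hy).mul_right hym.inv_right
      rw [mul_inv_cancel_right] at this
      exact this.eq
    have hmC : m ∈ S.sup id ⊓ Subgroup.centralizer ((S.sup id : Subgroup G) : Set G) := by
      refine ⟨hm, Subgroup.mem_centralizer_iff.mpr fun y hy => ?_⟩
      have h1 : Commute y (l * m) :=
        Subgroup.mem_centralizer_iff.mp hxc y (Subgroup.mem_sup_right hy)
      have h2 : Commute y l := Subgroup.mem_centralizer_iff.mp (hE hl) y hy
      have := h2.inv_right.mul_right h1
      rw [inv_mul_cancel_left] at this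
      exact this.eq
    refine Subgroup.mul_mem _ ?_ ?_
    · exact le_iSup₂ (f := fun K (_ : K ∈ insert L S) => K ⊓ Subgroup.centralizer (K : Set G))
        L (Finset.mem_insert_self L S) hlC
    · have hmono : (⨆ K ∈ S, K ⊓ Subgroup.centralizer (K : Set G)) ≤
          ⨆ K ∈ insert L S, K ⊓ Subgroup.centralizer (K : Set G) :=
        iSup₂_le fun K hK => le_iSup₂ (f := fun K (_ : K ∈ insert L S) =>
          K ⊓ Subgroup.centralizer (K : Set G)) K (Finset.mem_insert_of_mem hK)
      exact hmono (ih (fun K hK => hS K (Finset.mem_insert_of_mem hK)) hmC)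

theorem component_centralizer_inf_le_fitting [Finite G] {L : Subgroup G} (hL : Cfsg.IsComponent L) :
    L ⊓ Subgroup.centralizer (L : Set G) ≤ Cfsg.fittingSubgroup G := by
  set Z := L ⊓ Subgroup.centralizer (L : Set G)
  have : IsMulCommutative Z := ⟨⟨fun a b => Subtype.ext
    (Subgroup.mem_centralizer_iff.mp b.2.2 a a.2.1)⟩⟩
  refine le_fitting_of_isSubnormal (IsSubnormal.step _ L inf_le_left hL.1 ?_)
    (by open scoped IsMulCommutative in infer_instance)
  refine (Subgroup.normal_subgroupOf_iff_le_normalizer inf_le_left).mpr fun l hl => ?_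
  exact Subgroup.centralizer_le_normalizer _
    (Subgroup.mem_centralizer_iff.mpr fun z hz => (Subgroup.mem_centralizer_iff.mp hz.2 l hl).symm)

theorem layer_center_le_fitting [Finite G] :
    Cfsg.layer G ⊓ Subgroup.centralizer (Cfsg.layer G : Set G) ≤ Cfsg.fittingSubgroup G := by
  obtain ⟨S, hS, e⟩ := components_finset (G := G)
  rw [← e]
  exact (center_sup_components S fun L hL => (hS L).mp hL).trans
    (iSup₂_le fun L hL => component_centralizer_inf_le_fitting ((hS L).mp hL))

/-- A solvable subnormal subgroup centralizing `F(G)` lies in `F(G)`. -/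
theorem solvable_subnormal_le_fitting [Finite G] : ∀ (n : ℕ) (R : Subgroup G), Nat.card R = n →
    R.IsSubnormal → Group.IsSolvable R →
    R ≤ Subgroup.centralizer (Cfsg.fittingSubgroup G : Set G) → R ≤ Cfsg.fittingSubgroup G := by
  intro n
  induction n using Nat.strong_induction_on with
  | _ n ih =>
  intro R hn hR hs hC
  rcases eq_or_ne R ⊥ with rfl | hne
  · exact bot_le
  have hlt : ⁅R, R⁆ < R := commutator_lt_self_of_solvable hs hne
  have hle := hlt.le
  have hR' : ⁅R, R⁆.IsSubnormal := by
    refine IsSubnormal.step _ R hle hR ?_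
    exact (Subgroup.normal_subgroupOf_iff_le_normalizer hle).mpr (left_le_normalizer_commutator R R)
  have hc : Nat.card ↥⁅R, R⁆ < n := by
    rcases (Subgroup.card_le_of_le hle).lt_or_eq with h | h
    · exact hn ▸ h
    · exact absurd (Subgroup.eq_of_le_of_card_ge hle h.ge) hlt.ne
  have hF := ih _ hc _ rfl hR' (isSolvable_of_le hle hs) (hle.trans hC)
  refine le_fitting_of_isSubnormal hR ?_
  have hcen : commutator R ≤ Subgroup.center R := fun x hx => by
    rw [Subgroup.mem_center_iff]
    intro y
    have hx' : (x : G) ∈ ⁅R, R⁆ := by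
      rw [← Subgroup.map_subtype_commutator]; exact ⟨x, hx, rfl⟩
    exact Subtype.ext (Subgroup.mem_centralizer_iff.mp (hC y.2) x (hF hx')).symm
  exact isNilpotent_of_commutator_le_center hcen

/-- A nonsolvable subnormal subgroup centralizing `F(G)` contains a component. -/
theorem exists_component_le [Finite G] {M : Subgroup G} (hM : M.IsSubnormal)
    (hC : M ≤ Subgroup.centralizer (Cfsg.fittingSubgroup G : Set G)) (hns : ¬ Group.IsSolvable M) :
    ∃ K, Cfsg.IsComponent K ∧ K ≤ M := by
  classical
  obtain ⟨K, ⟨hKM, hK, hKns⟩, hmin⟩ := exists_minimal_of_wellFoundedLT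
    (fun K : Subgroup G => K ≤ M ∧ K.IsSubnormal ∧ ¬ Group.IsSolvable K) ⟨M, le_rfl, hM, hns⟩
  refine ⟨K, ⟨hK, ?_⟩, hKM⟩
  have hsmall : ∀ N : Subgroup K, N.Normal → N ≠ ⊤ → Group.IsSolvable N := by
    intro N hN hne
    by_contra hN'
    have hle : N.map K.subtype ≤ K := Subgroup.map_subtype_le N
    have h1 : K ≤ N.map K.subtype := hmin ⟨hle.trans hKM, hN.isSubnormal.trans' hK, fun h => hN'
      (isSolvable_of_injective (Subgroup.equivMapOfInjective N K.subtype
        (Subgroup.subtype_injective K)).toMonoidHom (MulEquiv.injective _) h)⟩ hle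
    refine hne (top_unique fun x _ => ?_)
    obtain ⟨y, hy, e⟩ := h1 x.2
    rwa [Subtype.ext e] at hy
  have hKne : Nontrivial K := by
    by_contra h
    rw [not_nontrivial_iff_subsingleton] at h
    exact hKns inferInstance
  have hperf : Group.IsPerfect K := by
    refine ⟨by_contra fun hne => hKns ?_⟩
    have h1 := hsmall (commutator K) inferInstance hne
    rw [Group.isSolvable_iff_commutator_lt]
    intro H hH
    by_contra hnlt
    have hHp : ⁅H, H⁆ = H := (Subgroup.commutator_le_self H).eq_or_lt.resolve_right hnlt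
    exact hH (eq_bot_of_perfect_of_solvable hHp (isSolvable_of_le
      (hHp ▸ (Subgroup.commutator_mono le_top le_top) : H ≤ commutator K) h1))
  refine isQuasisimple_of hperf fun N hN => or_iff_not_imp_left.mpr fun hne x hx => ?_
  have hNs : Group.IsSolvable (N.map K.subtype : Subgroup G) :=
    isSolvable_map (hsmall N hN hne) _
  have hle : N.map K.subtype ≤ Cfsg.fittingSubgroup G := solvable_subnormal_le_fitting _ _ rfl
    (hN.isSubnormal.trans' hK) hNs ((Subgroup.map_subtype_le N).trans (hKM.trans hC))
  rw [Subgroup.mem_center_iff]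
  intro y
  exact Subtype.ext (Subgroup.mem_centralizer_iff.mp (hC (hKM y.2)) x (hle ⟨x, hx, rfl⟩)).symm

/-- `C_G(F*(G))` is contained in `F(G)`. -/
theorem centralizer_gfitting_le_fitting [Finite G] :
    Subgroup.centralizer (Cfsg.generalizedFittingSubgroup G : Set G) ≤ Cfsg.fittingSubgroup G := by
  have hF := fittingSubgroup_isNormal (G := G)
  have hE : (Cfsg.layer G).Normal := inferInstance
  have hCn : (Subgroup.centralizer (Cfsg.generalizedFittingSubgroup G : Set G)).Normal := by
    rw [Cfsg.generalizedFittingSubgroup]; infer_instance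
  have hC : Subgroup.centralizer (Cfsg.generalizedFittingSubgroup G : Set G) ≤
      Subgroup.centralizer (Cfsg.fittingSubgroup G : Set G) :=
    Subgroup.centralizer_le (SetLike.coe_subset_coe.mpr le_sup_right)
  refine solvable_subnormal_le_fitting _ _ rfl hCn.isSubnormal ?_ hC
  by_contra hns
  obtain ⟨K, hK, hKC⟩ := exists_component_le hCn.isSubnormal hC hns
  exact IsComponent.ne_bot hK (eq_bot_of_perfect_of_comm (IsComponent.perfect hK)
    (hKC.trans (Subgroup.centralizer_le (SetLike.coe_subset_coe.mpr ((IsComponent.le_layer hK).trans le_sup_left)))))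

theorem centralizer_gfitting_le [Finite G] :
    Subgroup.centralizer (Cfsg.generalizedFittingSubgroup G : Set G) ≤
      Cfsg.generalizedFittingSubgroup G :=
  centralizer_gfitting_le_fitting.trans le_sup_right

theorem layer_eq_bot_of_centralizer_fitting_le [Finite G]
    (h : Subgroup.centralizer (Cfsg.fittingSubgroup G : Set G) ≤ Cfsg.fittingSubgroup G) :
    Cfsg.layer G = ⊥ := by
  refine eq_bot_of_perfect_of_comm layer_perfect ?_
  exact layer_le_centralizer_fitting.trans
    (Subgroup.centralizer_le (SetLike.coe_subset_coe.mpr (layer_le_centralizer_fitting.trans h)))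

theorem centralizer_fitting_le_of_layer_eq_bot [Finite G] (h : Cfsg.layer G = ⊥) :
    Subgroup.centralizer (Cfsg.fittingSubgroup G : Set G) ≤ Cfsg.fittingSubgroup G := by
  have := centralizer_gfitting_le_fitting (G := G)
  rwa [Cfsg.generalizedFittingSubgroup, h, bot_sup_eq] at this

theorem fitting_inf_subnormal [Finite G] {S : Subgroup G} (hS : S.IsSubnormal) :
    fittingIn S = Cfsg.fittingSubgroup G ⊓ S := by
  have := fittingSubgroup_isNormal (G := G)
  refine le_antisymm (le_inf (fittingIn_le_of_isSubnormal hS) (fittingIn_le S)) ?_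
  refine le_fittingIn inf_le_right (fun s hs => ?_)
    (isNilpotent_of_le inf_le_left fittingSubgroup_isNilpotent)
  rw [mem_normalizer_iff_smul, Subgroup.smul_inf, conj_smul_eq_self_of_mem hs,
    normalizer_le_smul (le_top.trans
      (Subgroup.normalizer_eq_top (H := Cfsg.fittingSubgroup G)).ge) (Subgroup.mem_top s)]

/-- The layer of a subgroup, as a subgroup of the ambient group. -/
def layerIn (S : Subgroup G) : Subgroup G := (Cfsg.layer S).map S.subtype

theorem layerIn_eq [Finite G] {S : Subgroup G} (hS : S.IsSubnormal) :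
    layerIn S = sSup {L | Cfsg.IsComponent L ∧ L ≤ S} := by
  refine le_antisymm ?_ (sSup_le fun L ⟨hL, hLS⟩ => ?_)
  · rw [layerIn, Cfsg.layer, Subgroup.map_le_iff_le_comap]
    refine sSup_le fun K hK => ?_
    rw [← Subgroup.map_le_iff_le_comap]
    exact le_sSup ⟨IsComponent.map_subtype hS hK, Subgroup.map_subtype_le K⟩
  · rw [← inf_eq_left.mpr hLS, ← Subgroup.subgroupOf_map_subtype]
    exact Subgroup.map_mono (IsComponent.le_layer (IsComponent.subgroupOf hL hLS))

/-- A subnormal subgroup of `F*(G)` is its own generalized Fitting subgroup. -/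
theorem subnormal_le_gfitting [Finite G] {S : Subgroup G} (hS : S.IsSubnormal)
    (hle : S ≤ Cfsg.generalizedFittingSubgroup G) :
    S = fittingIn S ⊔ layerIn S := by
  have hF := fittingSubgroup_isNormal (G := G)
  refine le_antisymm ?_ (sup_le (fittingIn_le S) (Subgroup.map_subtype_le _))
  set E1 := sSup {L | Cfsg.IsComponent L ∧ L ≤ S} with hE1
  set E2 := sSup {L | Cfsg.IsComponent L ∧ ¬ L ≤ S} with hE2
  rw [layerIn_eq hS, ← hE1, fitting_inf_subnormal hS]
  have hE : Cfsg.layer G = E1 ⊔ E2 := by
    refine le_antisymm (sSup_le fun L hL => ?_)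
      (sup_le (sSup_le fun L hL => IsComponent.le_layer hL.1)
        (sSup_le fun L hL => IsComponent.le_layer hL.1))
    by_cases h : L ≤ S
    · exact le_sup_of_le_left (le_sSup ⟨hL, h⟩)
    · exact le_sup_of_le_right (le_sSup ⟨hL, h⟩)
  have hE2S : E2 ≤ Subgroup.centralizer (S : Set G) := sSup_le fun L hL =>
    Subgroup.commutator_eq_bot_iff_le_centralizer.mp
      ((component_le_or_commute hL.1 hS).resolve_left hL.2)
  have hE1S : E1 ≤ S := sSup_le fun L hL => hL.2
  have hE12 : E1 ≤ Subgroup.normalizer (E2 : Set G) :=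
    ((Subgroup.le_centralizer_iff.mp hE2S).trans' hE1S).trans (Subgroup.centralizer_le_normalizer _)
  intro x hx
  obtain ⟨e, he, f, hf, rfl⟩ := Subgroup.mem_sup_of_normal_right.mp (show x ∈ Cfsg.layer G ⊔ _ from hle hx)
  rw [hE, ← SetLike.mem_coe, Subgroup.coe_mul_of_left_le_normalizer_right _ _ hE12] at he
  obtain ⟨a, ha, b, hb, rfl⟩ := he
  have hbf : b * f ∈ S := by
    simpa [mul_assoc] using S.mul_mem (S.inv_mem (hE1S ha)) hx
  have hfc : ∀ y ∈ Cfsg.layer G, Commute y f := fun y hy =>
    (Subgroup.mem_centralizer_iff.mp (layer_le_centralizer_fitting hy) f hf).symm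
  have hbE : b ∈ Cfsg.layer G := hE ▸ Subgroup.mem_sup_right hb
  have hbC : b ∈ Cfsg.layer G ⊓ Subgroup.centralizer (Cfsg.layer G : Set G) := by
    refine ⟨hbE, ?_⟩
    have h1 : E1 ≤ Subgroup.centralizer {b} := fun y hy => by
      rw [Subgroup.mem_centralizer_singleton_iff]
      exact Subgroup.mem_centralizer_iff.mp (hE2S hb) y (hE1S hy)
    have h2 : E2 ≤ Subgroup.centralizer {b} := fun y hy => by
      rw [Subgroup.mem_centralizer_singleton_iff]
      have hybf : Commute y (b * f) := (Subgroup.mem_centralizer_iff.mp (hE2S hy) _ hbf).symm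
      have := hybf.mul_right (hfc y (hE ▸ Subgroup.mem_sup_right hy)).inv_right
      rw [mul_inv_cancel_right] at this
      exact this.eq
    exact Subgroup.mem_centralizer_iff.mpr fun y hy =>
      Subgroup.mem_centralizer_singleton_iff.mp (sup_le h1 h2 (hE ▸ hy : y ∈ E1 ⊔ E2))
  rw [mul_assoc a b f]
  exact Subgroup.mul_mem _ (Subgroup.mem_sup_right ha) (Subgroup.mem_sup_left
    ⟨Subgroup.mul_mem _ (layer_center_le_fitting hbC) hf, hbf⟩)

theorem gfittingIn_eq (S : Subgroup G) :
    (Cfsg.generalizedFittingSubgroup S).map S.subtype = layerIn S ⊔ fittingIn S :=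
  Subgroup.map_sup _ _ _

/-- `F*(N) = F*(G) ∩ N` for normal `N`. -/
theorem gfitting_inf_normal [Finite G] (N : Subgroup G) [N.Normal] :
    Cfsg.generalizedFittingSubgroup G ⊓ N =
      (Cfsg.generalizedFittingSubgroup N).map N.subtype := by
  have hF := fittingSubgroup_isNormal (G := G)
  have hNs : N.IsSubnormal := (inferInstance : N.Normal).isSubnormal
  rw [gfittingIn_eq]
  refine le_antisymm ?_ (sup_le (le_inf ?_ (Subgroup.map_subtype_le _))
    (le_inf ((fittingIn_le_of_isSubnormal hNs).trans le_sup_right) (fittingIn_le N)))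
  · have : (Cfsg.generalizedFittingSubgroup G).Normal := by
      rw [Cfsg.generalizedFittingSubgroup]; infer_instance
    set S := Cfsg.generalizedFittingSubgroup G ⊓ N
    have hS : S.IsSubnormal := (inferInstance : S.Normal).isSubnormal
    conv_lhs => rw [subnormal_le_gfitting hS inf_le_left]
    rw [sup_comm]
    refine sup_le_sup ?_ ?_
    · rw [layerIn_eq hS, layerIn_eq hNs]
      exact sSup_le_sSup fun L hL => ⟨hL.1, hL.2.trans inf_le_right⟩
    · rw [fitting_inf_subnormal hS, fitting_inf_subnormal hNs]
      exact inf_le_inf_left _ inf_le_right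
  · rw [layerIn_eq hNs]
    exact sSup_le fun L hL => (IsComponent.le_layer hL.1).trans le_sup_left

end Cfsg.Agent.Grp
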