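import Mathlib
import Cfsg.Agent.Lib.Grp.Components
import Cfsg.Agent.Lib.Grp.CoprimeAbelian

/-!
Local subgroups and the generalized Fitting subgroup: consequences of the A×B lemma.
-/

namespace Cfsg.Agent.Grp

open scoped Pointwise
open Subgroup

variable {G : Type*} [Group G]

/-- A perfect subgroup is generated by its elements of order prime to `p`. -/
theorem perfect_le_of_coprime_elements [Finite G] {p : ℕ} [Fact p.Prime] {K C : Subgroup G}
    (hK : ⁅K, K⁆ = K) (h : ∀ y ∈ K, (orderOf y).Coprime p → y ∈ C) : K ≤ C := by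
  set R := Subgroup.closure {y : K | (orderOf y).Coprime p} with hR
  have hRn : R.Normal := by
    refine ⟨fun r hr g => ?_⟩
    induction hr using Subgroup.closure_induction with
    | mem y hy =>
      refine Subgroup.subset_closure ?_
      show (orderOf (g * y * g⁻¹)).Coprime p
      rw [show g * y * g⁻¹ = MulAut.conj g y from rfl, MulEquiv.orderOf_eq]
      exact hy
    | one => simp
    | mul x y _ _ hx hy =>
      rw [show g * (x * y) * g⁻¹ = (g * x * g⁻¹) * (g * y * g⁻¹) by group]; exact R.mul_mem hx hy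
    | inv x _ hx => rw [show g * x⁻¹ * g⁻¹ = (g * x * g⁻¹)⁻¹ by group]; exact R.inv_mem hx
  have hperf : Group.IsPerfect K := Subgroup.isPerfect_iff.mpr hK
  have hp : IsPGroup p (K ⧸ R) := by
    intro q
    obtain ⟨y, rfl⟩ := QuotientGroup.mk_surjective q
    obtain ⟨k, m, hm, hkm⟩ := Nat.exists_eq_pow_mul_and_not_dvd (orderOf_pos y).ne' p
      (Fact.out : p.Prime).ne_one
    obtain ⟨a, b, -, -, ha, hb, hab⟩ := exists_pow_decomp (g := y) (m := p ^ k) (n := m)
      (Nat.Coprime.pow_left _ ((Fact.out : p.Prime).coprime_iff_not_dvd.mpr hm))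
      (by rw [← hkm, pow_orderOf_eq_one])
    refine ⟨k, ?_⟩
    have hbR : b ∈ R := Subgroup.subset_closure
      (((Fact.out : p.Prime).coprime_iff_not_dvd.mpr hm).symm.coprime_dvd_left
        (orderOf_dvd_of_pow_eq_one hb))
    show (QuotientGroup.mk' R y) ^ p ^ k = 1
    rw [hab, map_mul, show QuotientGroup.mk' R b = 1 from (QuotientGroup.eq_one_iff b).mpr hbR,
      mul_one, ← map_pow, ha, map_one]
  have hsub : Subsingleton (K ⧸ R) := by
    by_contra hne
    rw [not_subsingleton_iff_nontrivial] at hne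
    have := hp.isNilpotent
    exact Group.IsPerfect.not_isSolvable (K ⧸ R) inferInstance
  have htop : R = ⊤ := QuotientGroup.subsingleton_iff.mp hsub
  intro x hx
  have hxR : (⟨x, hx⟩ : K) ∈ R := by rw [htop]; trivial
  have hle : R ≤ C.subgroupOf K := by
    rw [hR, Subgroup.closure_le]
    exact fun y hy => h y y.2 (by rw [Subgroup.orderOf_coe]; exact hy)
  exact hle hxR

/-- A `p'`-element centralizing `P` and `O_p(G) ⊓ C(P)` centralizes `O_p(G)`. -/
theorem mem_centralizer_pCore [Finite G] {p : ℕ} [Fact p.Prime] {P : Subgroup G} (hP : IsPGroup p P)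
    {y : G} (hy : (orderOf y).Coprime p) (hyP : y ∈ Subgroup.centralizer (P : Set G))
    (hyU : Cfsg.pCore p G ⊓ Subgroup.centralizer (P : Set G) ≤ Subgroup.centralizer {y}) :
    y ∈ Subgroup.centralizer (Cfsg.pCore p G : Set G) := by
  have hn := pCore_isNormal (p := p) (G := G)
  refine thompson_PQ P (Subgroup.zpowers y) hP (by rwa [Nat.card_zpowers]) ?_
    (Cfsg.pCore p G) pCore_isPGroup (le_top.trans (Subgroup.normalizer_eq_top (H := Cfsg.pCore p G)).ge)
    (le_top.trans (Subgroup.normalizer_eq_top (H := Cfsg.pCore p G)).ge) ?_ (Subgroup.mem_zpowers y)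
  · rw [Subgroup.le_centralizer_iff, Subgroup.zpowers_le]; exact hyP
  · exact hyU.trans (by rw [Subgroup.zpowers_eq_closure, Subgroup.centralizer_closure])

/-- A subgroup of `N_G(P)` centralizing `O_p(N_G(P))` has its `p'`-elements centralizing `O_p(G)`. -/
theorem mem_centralizer_pCore_of_local [Finite G] {p : ℕ} [Fact p.Prime] {P : Subgroup G}
    (hP : IsPGroup p P) {y : G} (hy : (orderOf y).Coprime p)
    (hyC : y ∈ Subgroup.centralizer
      ((Cfsg.pCore p (Subgroup.normalizer (P : Set G))).map
        (Subgroup.normalizer (P : Set G)).subtype : Set G)) :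
    y ∈ Subgroup.centralizer (Cfsg.pCore p G : Set G) := by
  set N := Subgroup.normalizer (P : Set G)
  set R := (Cfsg.pCore p N).map N.subtype
  have hPR : P ≤ R := by
    rw [← inf_eq_left.mpr (Subgroup.le_normalizer : P ≤ N), ← Subgroup.subgroupOf_map_subtype]
    exact Subgroup.map_mono (le_pCore (Subgroup.normal_subgroupOf_of_le_normalizer le_rfl)
      (hP.of_equiv (Subgroup.subgroupOfEquivOfLe Subgroup.le_normalizer).symm))
  have hn := pCore_isNormal (p := p) (G := G)
  refine mem_centralizer_pCore hP hy ?_ ?_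
  · exact Subgroup.centralizer_le (SetLike.coe_subset_coe.mpr hPR) hyC
  · intro u hu
    have huN : u ∈ N := Subgroup.centralizer_le_normalizer _ hu.2
    have huR : u ∈ R := by
      refine ⟨⟨u, huN⟩, le_pCore (N := (Cfsg.pCore p G).subgroupOf N) inferInstance ?_ hu.1, rfl⟩
      exact (pCore_isPGroup (p := p)).comap_subtype
    rw [Subgroup.mem_centralizer_singleton_iff]
    exact Subgroup.mem_centralizer_iff.mp hyC u huR

theorem layer_le_centralizer_pCore [Finite G] {p : ℕ} [Fact p.Prime] :
    Cfsg.layer G ≤ Subgroup.centralizer (Cfsg.pCore p G : Set G) :=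
  layer_le_centralizer_fitting.trans
    (Subgroup.centralizer_le (SetLike.coe_subset_coe.mpr pCore_le_fittingSubgroup))

theorem component_map_le_centralizer [Finite G] {p : ℕ} [Fact p.Prime] {N : Subgroup G} {K : Subgroup N}
    (hK : Cfsg.IsComponent K) :
    K.map N.subtype ≤ Subgroup.centralizer ((Cfsg.pCore p N).map N.subtype : Set G) := by
  rintro _ ⟨k, hk, rfl⟩
  rw [Subgroup.mem_centralizer_iff]
  rintro _ ⟨r, hr, rfl⟩
  exact congrArg Subtype.val
    (Subgroup.mem_centralizer_iff.mp (layer_le_centralizer_pCore (IsComponent.le_layer hK hk)) r hr)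

/-- If `F*(G) = O_p(G)` then the same holds for every `p`-local subgroup. -/
theorem gfitting_normalizer_eq_pCore [Finite G] {p : ℕ} [Fact p.Prime]
    (h : Cfsg.generalizedFittingSubgroup G = Cfsg.pCore p G) (P : Subgroup G) (hP : IsPGroup p P) :
    Cfsg.generalizedFittingSubgroup (Subgroup.normalizer (P : Set G)) =
      Cfsg.pCore p (Subgroup.normalizer (P : Set G)) := by
  set N := Subgroup.normalizer (P : Set G)
  have hC : Subgroup.centralizer (Cfsg.pCore p G : Set G) ≤ Cfsg.pCore p G := h ▸ centralizer_gfitting_le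
  have hzero : ∀ y : N, (orderOf y).Coprime p →
      (y : G) ∈ Subgroup.centralizer ((Cfsg.pCore p N).map N.subtype : Set G) → y = 1 := by
    intro y hy hyC
    have h1 := hC (mem_centralizer_pCore_of_local hP (by rwa [Subgroup.orderOf_coe]) hyC)
    obtain ⟨k, hk⟩ := (pCore_isPGroup (p := p) (G := G)) ⟨(y : G), h1⟩
    have h2 : orderOf y ∣ p ^ k := by
      rw [← Subgroup.orderOf_coe y]
      exact orderOf_dvd_of_pow_eq_one (by simpa using congrArg Subtype.val hk)
    exact orderOf_eq_one_iff.mp (Nat.eq_one_of_dvd_coprimes (hy.pow_right k) dvd_rfl h2)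
  refine le_antisymm (sup_le (sSup_le fun K hK => ?_) ?_) (pCore_le_fittingSubgroup.trans le_sup_right)
  · exfalso
    refine IsComponent.ne_bot hK (le_bot_iff.mp (perfect_le_of_coprime_elements (p := p)
      (IsComponent.perfect hK) fun y hy hyo => ?_))
    exact Subgroup.mem_bot.mpr (hzero y hyo (component_map_le_centralizer hK ⟨y, hy, rfl⟩))
  · rw [fittingSubgroup_eq_iSup_pCore]
    refine iSup_le fun q => ?_
    by_cases hqp : (q : ℕ) = p
    · rw [hqp]
    · intro y hy
      have := Fact.mk q.2
      obtain ⟨k, hk⟩ := (pCore_isPGroup (p := (q : ℕ)) (G := N)) ⟨y, hy⟩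
      have hco : (Nat.card (Cfsg.pCore (q : ℕ) N)).Coprime (Nat.card (Cfsg.pCore p N)) :=
        IsPGroup.coprime_card_of_ne (q : ℕ) p hqp _ _ pCore_isPGroup pCore_isPGroup
      have hn1 := pCore_isNormal (p := (q : ℕ)) (G := N)
      have hn2 := pCore_isNormal (p := p) (G := N)
      have : y = 1 := by
        refine hzero y (Nat.Coprime.coprime_dvd_left (orderOf_dvd_of_pow_eq_one (n := (q : ℕ) ^ k)
          (by simpa using congrArg Subtype.val hk))
          (Nat.Coprime.pow_left k ((Nat.coprime_primes q.2 Fact.out).mpr hqp))) ?_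
        rw [Subgroup.mem_centralizer_iff]
        rintro _ ⟨r, hr, rfl⟩
        exact congrArg Subtype.val
          (Subgroup.mem_centralizer_iff.mp (commute_of_coprime_normal hco hy) r hr)
      rw [this]; exact Subgroup.one_mem _

end Cfsg.Agent.Grp
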