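import Mathlib
import Cfsg.Agent.Lib.Grp.LocalFitting
import Cfsg.Agent.Lib.Grp.Frattini
import Cfsg.Agent.Lib.Grp.SchurZassenhaus

/-!
`p`-components, the `p`-layer and their images modulo `O_{p'}`.
-/

namespace Cfsg.Agent.Grp

open scoped Pointwise commutatorElement
open Subgroup

variable {G : Type*} [Group G] {p : ℕ}

/-- The subgroup generated by the `p`-elements of `P`. -/
def pRes (p : ℕ) (P : Subgroup G) : Subgroup G :=
  Subgroup.closure {x : G | x ∈ P ∧ IsPGroup p (Subgroup.zpowers x)}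

theorem pRes_le (P : Subgroup G) : pRes p P ≤ P :=
  (Subgroup.closure_le _).mpr fun _ hx => hx.1

theorem mem_pRes {P : Subgroup G} {x : G} (hx : x ∈ P) (hp : IsPGroup p (Subgroup.zpowers x)) :
    x ∈ pRes p P := Subgroup.subset_closure ⟨hx, hp⟩

theorem le_normalizer_pRes (P : Subgroup G) : P ≤ Subgroup.normalizer (pRes p P : Set G) := by
  intro g hg
  have key : ∀ g ∈ P, MulAut.conj g • pRes p P ≤ pRes p P := by
    intro g hg
    rw [← map_conj_eq_smul, pRes, Subgroup.map_le_iff_le_comap, Subgroup.closure_le]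
    rintro x ⟨hx, hxp⟩
    show g * x * g⁻¹ ∈ pRes p P
    refine Subgroup.subset_closure ⟨P.mul_mem (P.mul_mem hg hx) (P.inv_mem hg), ?_⟩
    have := hxp.map (MulAut.conj g).toMonoidHom
    rwa [MonoidHom.map_zpowers] at this
  rw [mem_normalizer_iff_smul]
  refine le_antisymm (key g hg) ?_
  have := (Subgroup.pointwise_smul_le_pointwise_smul_iff (a := MulAut.conj g)).mpr
    (key g⁻¹ (P.inv_mem hg))
  rwa [conj_smul_conj_smul, mul_inv_cancel, map_one, one_smul] at this

theorem pRes_isSubnormal {P : Subgroup G} (hP : P.IsSubnormal) : (pRes p P).IsSubnormal :=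
  IsSubnormal.step _ P (pRes_le P) hP
    ((Subgroup.normal_subgroupOf_iff_le_normalizer (pRes_le P)).mpr (le_normalizer_pRes P))

/-- A subnormal subgroup of index prime to `p` contains all `p`-elements. -/
theorem pRes_le_of_relIndex [Finite G] [Fact p.Prime] {K P : Subgroup G} (hKP : K ≤ P)
    (hK : (K.subgroupOf P).IsSubnormal) (hi : ¬ p ∣ K.relIndex P) : pRes p P ≤ K := by
  rw [pRes, Subgroup.closure_le]
  rintro x ⟨hx, hp⟩
  have h1 : IsPGroup p (Subgroup.zpowers (⟨x, hx⟩ : P)) := by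
    refine IsPGroup.of_injective ((hp.map (MonoidHom.id G))) (
      MonoidHom.codRestrict ((P.subtype).comp (Subgroup.zpowers (⟨x, hx⟩ : P)).subtype) _ ?_) ?_
    · rintro ⟨y, k, rfl⟩
      exact ⟨x ^ k, ⟨k, rfl⟩, by simp⟩
    · intro a b hab
      exact Subtype.ext (Subtype.ext (congrArg Subtype.val hab :))
  obtain ⟨S, hS⟩ := h1.exists_le_sylow
  exact sylow_le_of_isSubnormal S hK hi (hS (Subgroup.mem_zpowers _))

theorem pPrimeCore_quotient_bot [Finite G] :
    Cfsg.pPrimeCore p (G ⧸ Cfsg.pPrimeCore p G) = ⊥ :=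
  pPrimeCore_quotient_eq_bot

/-- `p`-elements lift through a quotient map. -/
theorem exists_pElement_lift [Finite G] [Fact p.Prime] {H : Type*} [Group H] (f : G →* H) {y : G}
    (hy : IsPGroup p (Subgroup.zpowers (f y))) :
    ∃ a ∈ Subgroup.zpowers y, IsPGroup p (Subgroup.zpowers a) ∧ f a = f y := by
  obtain ⟨k, m, hm, hkm⟩ := Nat.exists_eq_pow_mul_and_not_dvd (orderOf_pos y).ne' p
    (Fact.out : p.Prime).ne_one
  have hco : (p ^ k).Coprime m :=
    Nat.Coprime.pow_left _ ((Fact.out : p.Prime).coprime_iff_not_dvd.mpr hm)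
  obtain ⟨a, b, haz, hbz, ha, hb, hab⟩ := exists_pow_decomp (g := y) hco
    (by rw [← hkm, pow_orderOf_eq_one])
  refine ⟨a, haz, ?_, ?_⟩
  · obtain ⟨i, -, hi⟩ := (Nat.dvd_prime_pow (Fact.out : p.Prime)).mp (orderOf_dvd_of_pow_eq_one ha)
    exact IsPGroup.of_card (n := i) (by rw [Nat.card_zpowers, hi])
  · obtain ⟨n, hn⟩ := hy ⟨f y, Subgroup.mem_zpowers _⟩
    have hfy : f y ^ p ^ n = 1 := by simpa using congrArg Subtype.val hn
    obtain ⟨i, hi⟩ := haz
    obtain ⟨j, hj⟩ := hbz
    have hcm : Commute a b := by rw [← hi, ← hj]; exact Commute.zpow_zpow_self y i j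
    have h1 : orderOf (f b) ∣ m := orderOf_dvd_of_pow_eq_one (by rw [← map_pow, hb, map_one])
    have h2 : orderOf (f b) ∣ p ^ (k + n) := by
      refine orderOf_dvd_of_pow_eq_one ?_
      have e : f b = (f a)⁻¹ * f y := by rw [hab, map_mul, inv_mul_cancel_left]
      have hc : Commute (f a)⁻¹ (f y) :=
        (Commute.map (show Commute a y by rw [hab]; exact (Commute.refl a).mul_right hcm) f).inv_left
      rw [e, hc.mul_pow, pow_add, inv_pow, pow_mul, ← map_pow, ha, map_one, one_pow, inv_one,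
        one_mul, mul_comm (p ^ k), pow_mul, hfy, one_pow]
    have h3 : orderOf (f b) ∣ 1 := by
      have : (p ^ (k + n)).Coprime m :=
        Nat.Coprime.pow_left _ ((Fact.out : p.Prime).coprime_iff_not_dvd.mpr hm)
      exact this ▸ Nat.dvd_gcd h2 h1
    rw [hab, map_mul, orderOf_eq_one_iff.mp (Nat.dvd_one.mp h3), mul_one]

/-- A component of a group with trivial `p'`-core has no central subgroup of index prime to `p`. -/
theorem component_dvd_index [Finite G] [Fact p.Prime] (hbot : Cfsg.pPrimeCore p G = ⊥)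
    {K : Subgroup G} (hK : Cfsg.IsComponent K) (N : Subgroup K) (hN : N ≤ Subgroup.center K) :
    p ∣ N.index := by
  by_contra hidx
  have hNn : N.Normal := ⟨fun n hn g => by
    rw [Subgroup.mem_center_iff.mp (hN hn) g, mul_inv_cancel_right]; exact hn⟩
  obtain ⟨S⟩ : Nonempty (Sylow p K) := Sylow.nonempty
  have hSZ : (S : Subgroup K) ≤ Subgroup.center K :=
    (sylow_le_of_isSubnormal S hNn.isSubnormal hidx).trans hN
  have hSn : (S : Subgroup K).Normal := ⟨fun n hn g => by
    rw [Subgroup.mem_center_iff.mp (hSZ hn) g, mul_inv_cancel_right]; exact hn⟩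
  obtain ⟨B, hB⟩ := Subgroup.exists_right_complement'_of_coprime (N := (S : Subgroup K))
    S.card_coprime_index
  have htop : B = ⊤ := by
    have hp' : Group.IsPerfect K := hK.2.1
    rw [eq_top_iff, ← hp'.commutator_eq_top, commutator_def, Subgroup.commutator_le]
    intro x _ y _
    obtain ⟨s, hs, b, hb, rfl⟩ := Subgroup.mem_sup_of_normal_left.mp
      (show x ∈ (S : Subgroup K) ⊔ B by rw [hB.sup_eq_top]; trivial)
    obtain ⟨s', hs', b', hb', rfl⟩ := Subgroup.mem_sup_of_normal_left.mp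
      (show y ∈ (S : Subgroup K) ⊔ B by rw [hB.sup_eq_top]; trivial)
    have e : ⁅s * b, s' * b'⁆ = ⁅b, b'⁆ := by
      have hz : ∀ z ∈ Subgroup.center K, ∀ a c : K, ⁅z * a, c⁆ = ⁅a, c⁆ ∧ ⁅a, z * c⁆ = ⁅a, c⁆ := by
        intro z hz a c
        have hz' := Subgroup.mem_center_iff.mp hz
        constructor
        · rw [commutatorElement_mul_left_eq_conj_mul, commutatorElement_eq_one_iff_mul_comm.mpr (hz' c).symm,
            mul_one, ← hz', mul_inv_cancel_right]
        · rw [commutatorElement_mul_right_eq_mul_conj, commutatorElement_eq_one_iff_mul_comm.mpr (hz' a),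
            one_mul, ← hz', mul_inv_cancel_right]
      rw [(hz s (hSZ hs) _ _).1, (hz s' (hSZ hs') _ _).2]
    rw [e, commutatorElement_def]
    exact B.mul_mem (B.mul_mem (B.mul_mem hb hb') (B.inv_mem hb)) (B.inv_mem hb')
  have hS1 : (S : Subgroup K) = ⊥ := by
    have := disjoint_iff.mp hB.disjoint
    rwa [htop, inf_top_eq] at this
  refine IsComponent.ne_bot hK (le_bot_iff.mp (hbot ▸ le_pPrimeCore_of_isSubnormal hK.1 ?_))
  refine ((Fact.out : p.Prime).coprime_iff_not_dvd.mpr fun hd => ?_).symm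
  exact (S.ne_bot_of_dvd_card hd) hS1

section Lift

variable [Finite G] [Fact p.Prime]

local notation "O" => Cfsg.pPrimeCore p G
local notation "qmap" => QuotientGroup.mk' (Cfsg.pPrimeCore p G)

theorem lift_pRes_isPComponent {Kbar : Subgroup (G ⧸ Cfsg.pPrimeCore p G)}
    (hK : Cfsg.IsComponent Kbar) :
    (pRes p (Kbar.comap qmap)).map qmap = Kbar ∧ Cfsg.IsPComponent p (pRes p (Kbar.comap qmap)) := by
  have hfs : Function.Surjective qmap := QuotientGroup.mk'_surjective _
  set P := Kbar.comap qmap with hP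
  have hPs : P.IsSubnormal := hK.1.comap _
  set R := pRes p P with hR
  have hle : R.map qmap ≤ Kbar := by
    rw [Subgroup.map_le_iff_le_comap]; exact pRes_le P
  have hmap : R.map qmap = Kbar := by
    refine le_antisymm hle ?_
    have hn : ((R.map qmap).subgroupOf Kbar).Normal := by
      rw [Subgroup.normal_subgroupOf_iff_le_normalizer hle]
      conv_lhs => rw [← Subgroup.map_comap_eq_self_of_surjective hfs Kbar]
      exact (Subgroup.map_mono (le_normalizer_pRes P)).trans (Subgroup.le_normalizer_map qmap)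
    rcases IsQuasisimple.eq_top_or_le_center hK.2 ((R.map qmap).subgroupOf Kbar) with e | e
    · exact Subgroup.subgroupOf_eq_top.mp e
    · exfalso
      set N := (R.map qmap).subgroupOf Kbar with hN
      refine ?_ |> fun h : ¬ p ∣ N.index => h (component_dvd_index pPrimeCore_quotient_bot hK N e)
      intro hd
      obtain ⟨S⟩ : Nonempty (Sylow p Kbar) := Sylow.nonempty
      have hSN : (S : Subgroup Kbar) ≤ N := by
        rintro ⟨z, hz⟩ hzS
        obtain ⟨y, rfl⟩ := hfs z
        have h1 : IsPGroup p (Subgroup.zpowers (qmap y)) := by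
          have := (S.isPGroup'.to_le (Subgroup.zpowers_le.mpr hzS)).map Kbar.subtype
          rwa [MonoidHom.map_zpowers] at this
        obtain ⟨a, ⟨i, hai⟩, hap, hfa⟩ := exists_pElement_lift qmap h1
        exact ⟨a, mem_pRes (show qmap a ∈ Kbar by rw [hfa]; exact hz) hap, hfa⟩
      exact S.not_dvd_index (hd.trans (Subgroup.index_dvd_of_le hSN))
  refine ⟨hmap, pRes_isSubnormal hPs, by rwa [hmap], fun H hH hHR hHm => ?_⟩
  have hHP : H ≤ P := hHR.trans (pRes_le P)
  refine le_antisymm hHR (pRes_le_of_relIndex hHP hH.subgroupOf fun hd => ?_)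
  have hPle : P ≤ H ⊔ Cfsg.pPrimeCore p G := by
    rw [hP, ← hmap, ← hHm, Subgroup.comap_map_eq, QuotientGroup.ker_mk']
  have h1 : p ∣ H.relIndex (H ⊔ Cfsg.pPrimeCore p G) :=
    hd.trans (Dvd.intro _ (Subgroup.relIndex_mul_relIndex H P _ hHP hPle))
  have e1 := card_sup_mul_card_inf_normal (H := H) (N := Cfsg.pPrimeCore p G)
  rw [← card_mul_relIndex (le_sup_left : H ≤ H ⊔ Cfsg.pPrimeCore p G), mul_assoc] at e1
  have e2 := Nat.eq_of_mul_eq_mul_left Nat.card_pos e1
  exact pPrimeCore_not_dvd (p := p) (G := G) (e2 ▸ h1.mul_right _)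

theorem IsPComponent.eq_pRes {K : Subgroup G} (hK : Cfsg.IsPComponent p K) :
    K = pRes p ((K.map qmap).comap qmap) := by
  obtain ⟨hKs, hKc, hmin⟩ := hK
  obtain ⟨hmap, hR⟩ := lift_pRes_isPComponent hKc
  set P := (K.map qmap).comap qmap
  have hKP : K ≤ P := Subgroup.le_comap_map _ _
  have hle : pRes p P ≤ K := by
    refine pRes_le_of_relIndex hKP hKs.subgroupOf fun hd => ?_
    have hPle : P ≤ K ⊔ Cfsg.pPrimeCore p G := by
      show (K.map qmap).comap qmap ≤ _
      rw [Subgroup.comap_map_eq, QuotientGroup.ker_mk']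
    have h1 : p ∣ K.relIndex (K ⊔ Cfsg.pPrimeCore p G) :=
      hd.trans (Dvd.intro _ (Subgroup.relIndex_mul_relIndex K P _ hKP hPle))
    have e1 := card_sup_mul_card_inf_normal (H := K) (N := Cfsg.pPrimeCore p G)
    rw [← card_mul_relIndex (le_sup_left : K ≤ K ⊔ Cfsg.pPrimeCore p G), mul_assoc] at e1
    have e2 := Nat.eq_of_mul_eq_mul_left Nat.card_pos e1
    exact pPrimeCore_not_dvd (p := p) (G := G) (e2 ▸ h1.mul_right _)
  exact (hmin _ hR.1 hle hmap).symm

theorem IsPComponent.eq_of_map_eq {K L : Subgroup G} (hK : Cfsg.IsPComponent p K)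
    (hL : Cfsg.IsPComponent p L) (h : K.map qmap = L.map qmap) : K = L := by
  rw [IsPComponent.eq_pRes hK, IsPComponent.eq_pRes hL, h]

theorem IsPComponent.perfect {K : Subgroup G} (hK : Cfsg.IsPComponent p K) : ⁅K, K⁆ = K := by
  obtain ⟨hKs, hKc, hmin⟩ := hK
  refine hmin _ ?_ (Subgroup.commutator_le_self K) (by rw [Subgroup.map_commutator, IsComponent.perfect hKc])
  exact IsSubnormal.step _ K (Subgroup.commutator_le_self K) hKs
    ((Subgroup.normal_subgroupOf_iff_le_normalizer (Subgroup.commutator_le_self K)).mpr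
      (left_le_normalizer_commutator K K))

theorem pPrimeCore_component_map {K : Subgroup G} (hK : K.IsSubnormal) :
    (Cfsg.pPrimeCore p K).map K.subtype = K ⊓ O := by
  refine le_antisymm (le_inf (Subgroup.map_subtype_le _) ?_) ?_
  · refine le_pPrimeCore_of_isSubnormal (pPrimeCore_isNormal.isSubnormal.trans' hK) ?_
    rw [Subgroup.card_map_of_injective (Subgroup.subtype_injective K)]
    exact pPrimeCore_coprime
  · have h : (O).subgroupOf K ≤ Cfsg.pPrimeCore p K := by
      refine le_pPrimeCore inferInstance (Nat.Coprime.coprime_dvd_left ?_ (pPrimeCore_coprime (p := p) (G := G)))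
      rw [← Subgroup.inf_subgroupOf_right, Nat.card_congr (Subgroup.subgroupOfEquivOfLe inf_le_right).toEquiv]
      exact Subgroup.card_dvd_of_le inf_le_left
    have := Subgroup.map_mono (f := K.subtype) h
    rwa [Subgroup.subgroupOf_map_subtype, inf_comm] at this

theorem IsPComponent.quotient_quasisimple {K : Subgroup G} (hK : Cfsg.IsPComponent p K) :
    Cfsg.IsQuasisimple (K ⧸ Cfsg.pPrimeCore p K) := by
  let φ : K →* (K.map qmap : Subgroup (G ⧸ Cfsg.pPrimeCore p G)) :=
    MonoidHom.codRestrict ((qmap).comp K.subtype) _ fun k => ⟨k, k.2, rfl⟩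
  have hφ : Function.Surjective φ := fun ⟨z, k, hk, e⟩ => ⟨⟨k, hk⟩, Subtype.ext e⟩
  have hker : φ.ker = Cfsg.pPrimeCore p K := by
    refine Subgroup.map_injective (Subgroup.subtype_injective K) ?_
    rw [pPrimeCore_component_map hK.1]
    ext x
    constructor
    · rintro ⟨k, hk, rfl⟩
      exact ⟨k.2, (QuotientGroup.eq_one_iff (k : G)).mp (congrArg Subtype.val hk)⟩
    · rintro ⟨hx, hxO⟩
      exact ⟨⟨x, hx⟩, Subtype.ext ((QuotientGroup.eq_one_iff x).mpr hxO), rfl⟩
  exact (isQuasisimple_congr ((QuotientGroup.quotientMulEquivOfEq hker.symm).trans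
    (QuotientGroup.quotientKerEquivOfSurjective φ hφ))).mpr hK.2.1.2

theorem IsPComponent.conj {K : Subgroup G} (hK : Cfsg.IsPComponent p K) (g : G) :
    Cfsg.IsPComponent p (MulAut.conj g • K) := by
  have e : ∀ (g : G) (H : Subgroup G),
      (MulAut.conj g • H).map qmap = MulAut.conj (qmap g) • H.map qmap := by
    intro g H
    rw [← map_conj_eq_smul, ← map_conj_eq_smul, Subgroup.map_map, Subgroup.map_map]
    congr 1
  obtain ⟨hKs, hKc, hmin⟩ := hK
  refine ⟨hKs.smul _, by rw [e]; exact IsComponent.conj hKc _, fun H hH hle hm => ?_⟩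
  have h1 := hmin (MulAut.conj g⁻¹ • H) (hH.smul _) ?_ ?_
  · rw [← h1, conj_smul_conj_smul, mul_inv_cancel, map_one, one_smul]
  · have := (Subgroup.pointwise_smul_le_pointwise_smul_iff (a := MulAut.conj g⁻¹)).mpr hle
    rwa [conj_smul_conj_smul, inv_mul_cancel, map_one, one_smul] at this
  · rw [e, hm, e, conj_smul_conj_smul, ← map_mul qmap, inv_mul_cancel, map_one, map_one, one_smul]

theorem pLayer_normal : (Cfsg.pLayer p G).Normal := by
  refine ⟨fun n hn g => ?_⟩
  have : MulAut.conj g • Cfsg.pLayer p G ≤ Cfsg.pLayer p G := by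
    rw [← map_conj_eq_smul, Cfsg.pLayer, Subgroup.map_le_iff_le_comap]
    refine sSup_le fun K hK => ?_
    rw [← Subgroup.map_le_iff_le_comap, map_conj_eq_smul]
    exact le_sSup (IsPComponent.conj hK g)
  exact this (mem_smul_conj.mpr (by simpa [mul_assoc] using hn))

theorem pLayer_map : (Cfsg.pLayer p G).map qmap = Cfsg.layer (G ⧸ Cfsg.pPrimeCore p G) := by
  refine le_antisymm ?_ (sSup_le fun K hK => ?_)
  · rw [Cfsg.pLayer, Subgroup.map_le_iff_le_comap]
    refine sSup_le fun K hK => ?_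
    rw [← Subgroup.map_le_iff_le_comap]
    exact IsComponent.le_layer hK.2.1
  · obtain ⟨h1, h2⟩ := lift_pRes_isPComponent hK
    rw [← h1]
    exact Subgroup.map_mono (le_sSup h2)

theorem mem_normalizer_of_image {K : Subgroup G} (hK : Cfsg.IsPComponent p K) {g : G}
    (hg : qmap g ∈ Subgroup.normalizer (K.map qmap : Set (G ⧸ Cfsg.pPrimeCore p G))) :
    g ∈ Subgroup.normalizer (K : Set G) := by
  rw [mem_normalizer_iff_smul] at hg ⊢
  refine IsPComponent.eq_of_map_eq (IsPComponent.conj hK g) hK ?_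
  rw [← hg, ← map_conj_eq_smul, ← map_conj_eq_smul, Subgroup.map_map, Subgroup.map_map]
  congr 1

theorem pLayer_le_normalizer {K : Subgroup G} (hK : Cfsg.IsPComponent p K) :
    Cfsg.pLayer p G ≤ Subgroup.normalizer (K : Set G) := by
  refine sSup_le fun L hL g hg => mem_normalizer_of_image hK ?_
  rcases eq_or_ne (L.map qmap) (K.map qmap) with e | e
  · exact Subgroup.le_normalizer (e ▸ Subgroup.mem_map_of_mem qmap hg)
  · exact Subgroup.centralizer_le_normalizer _
      (IsComponent.commute hL.2.1 hK.2.1 e (Subgroup.mem_map_of_mem qmap hg))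

theorem pLayer_eq_bot_iff :
    Cfsg.pLayer p G = ⊥ ↔ Cfsg.layer (G ⧸ Cfsg.pPrimeCore p G) = ⊥ := by
  refine ⟨fun h => by rw [← pLayer_map, h, Subgroup.map_bot], fun h => ?_⟩
  rw [eq_bot_iff]
  refine sSup_le fun K hK => ?_
  exact absurd (le_bot_iff.mp (h ▸ IsComponent.le_layer hK.2.1)) (IsComponent.ne_bot hK.2.1)

/-- The normalizer of a `p`-subgroup covers the normalizer of its image. -/
theorem map_normalizer_pGroup {P : Subgroup G} (hP : IsPGroup p P) :
    (Subgroup.normalizer (P : Set G)).map qmap =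
      Subgroup.normalizer (P.map qmap : Set (G ⧸ Cfsg.pPrimeCore p G)) := by
  refine le_antisymm (Subgroup.le_normalizer_map _) fun z hz => ?_
  obtain ⟨g, rfl⟩ := QuotientGroup.mk'_surjective (Cfsg.pPrimeCore p G) z
  have hcop : (Nat.card O).Coprime (Nat.card P) := by
    obtain ⟨k, hk⟩ := IsPGroup.iff_card.mp hP
    rw [hk]
    exact (pPrimeCore_coprime (p := p)).pow_right k
  have hle : MulAut.conj g • P ≤ O ⊔ P := by
    have h1 : (MulAut.conj g • P).map qmap ≤ P.map qmap := by
      rw [mem_normalizer_iff_smul] at hz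
      conv_rhs => rw [← hz]
      rw [← map_conj_eq_smul, ← map_conj_eq_smul, Subgroup.map_map, Subgroup.map_map]
      exact le_of_eq (by congr 1)
    rw [Subgroup.map_le_iff_le_comap, Subgroup.comap_map_eq, QuotientGroup.ker_mk', sup_comm] at h1
    exact h1
  obtain ⟨n, hn, hn'⟩ := exists_conj_of_le_sup (le_top.trans (Subgroup.normalizer_eq_top (H := O)).ge)
    hle (card_conj_smul _ _) hcop (Or.inr (by have := hP.isNilpotent; infer_instance))
  refine ⟨n⁻¹ * g, ?_, ?_⟩
  · rw [SetLike.mem_coe, mem_normalizer_iff_smul, ← conj_smul_conj_smul, ← hn', conj_smul_conj_smul,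
      inv_mul_cancel, map_one, one_smul]
  · rw [map_mul, map_inv, show qmap n = 1 from (QuotientGroup.eq_one_iff n).mpr hn, inv_one, one_mul]

/-- The centralizer of a `p`-subgroup covers the centralizer of its image. -/
theorem map_centralizer_pGroup {P : Subgroup G} (hP : IsPGroup p P) :
    (Subgroup.centralizer (P : Set G)).map qmap =
      Subgroup.centralizer (P.map qmap : Set (G ⧸ Cfsg.pPrimeCore p G)) := by
  refine le_antisymm ?_ fun z hz => ?_
  · rintro _ ⟨c, hc, rfl⟩
    rw [Subgroup.mem_centralizer_iff]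
    rintro _ ⟨x, hx, rfl⟩
    rw [← map_mul, ← map_mul, Subgroup.mem_centralizer_iff.mp hc x hx]
  obtain ⟨n, hn, rfl⟩ : z ∈ (Subgroup.normalizer (P : Set G)).map qmap := by
    rw [map_normalizer_pGroup hP]; exact Subgroup.centralizer_le_normalizer _ hz
  refine ⟨n, Subgroup.mem_centralizer_iff.mpr fun x hx => ?_, rfl⟩
  have h1 : n * x * n⁻¹ * x⁻¹ ∈ P ⊓ O := by
    refine ⟨P.mul_mem ((Subgroup.mem_normalizer_iff.mp hn x).mp hx) (P.inv_mem hx),
      (QuotientGroup.eq_one_iff _).mp (show qmap _ = 1 from ?_)⟩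
    rw [map_mul, map_mul, map_mul, ← Subgroup.mem_centralizer_iff.mp hz (qmap x) ⟨x, hx, rfl⟩,
      map_inv, map_inv, mul_inv_cancel_right, mul_inv_cancel]
  have hcop : (Nat.card P).Coprime (Nat.card O) := by
    obtain ⟨k, hk⟩ := IsPGroup.iff_card.mp hP
    rw [hk]
    exact (pPrimeCore_coprime (p := p)).symm.pow_left k
  rw [inf_eq_bot_of_coprime hcop, Subgroup.mem_bot, mul_inv_eq_one, mul_inv_eq_iff_eq_mul] at h1
  exact h1.symm

/-- If `O_{p'}(G) = 1` then `F(G) = O_p(G)`. -/
theorem fitting_eq_pCore {G : Type*} [Group G] [Finite G] (h : Cfsg.pPrimeCore p G = ⊥) :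
    Cfsg.fittingSubgroup G = Cfsg.pCore p G := by
  refine le_antisymm ?_ pCore_le_fittingSubgroup
  rw [fittingSubgroup_eq_iSup_pCore]
  refine iSup_le fun q => ?_
  by_cases hqp : (q : ℕ) = p
  · rw [hqp]
  · have := Fact.mk q.2
    refine le_trans (le_trans (le_pPrimeCore (p := p) pCore_isNormal ?_) h.le) bot_le
    obtain ⟨k, hk⟩ := IsPGroup.iff_card.mp (pCore_isPGroup (p := (q : ℕ)) (G := G))
    rw [hk]
    exact Nat.Coprime.pow_left k ((Nat.coprime_primes q.2 Fact.out).mpr hqp)

theorem gfitting_quotient_eq_pCore (h : Cfsg.pLayer p G = ⊥) :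
    Cfsg.generalizedFittingSubgroup (G ⧸ Cfsg.pPrimeCore p G) =
      Cfsg.pCore p (G ⧸ Cfsg.pPrimeCore p G) := by
  rw [Cfsg.generalizedFittingSubgroup, pLayer_eq_bot_iff.mp h, bot_sup_eq,
    fitting_eq_pCore pPrimeCore_quotient_bot]

end Lift

end Cfsg.Agent.Grp
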