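import Mathlib
import Cfsg.Prelude.Def_Balance
import Cfsg.Agent.Lib.Grp.CoprimeAbelian
import Cfsg.Agent.Lib.Grp.PComponents

/-!
Signalizer functors: generation by centralizers of hyperplanes, the family of a solvable
functor, transitivity of maximal q-members, factorization of coprime operator groups.
-/

namespace Cfsg.Agent.Grp

set_option linter.unusedSectionVars false
set_option linter.unusedVariables false

open scoped Pointwise commutatorElement
open Subgroup

variable {G : Type*} [Group G] {p : ℕ}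

theorem invariant_iff {A X : Subgroup G} :
    (∀ b ∈ A, ∀ x ∈ X, b * x * b⁻¹ ∈ X) ↔ A ≤ Subgroup.normalizer (X : Set G) := by
  refine ⟨fun h b hb => Subgroup.mem_normalizer_iff.mpr fun x => ⟨h b hb x, fun hx => ?_⟩,
    fun h b hb x hx => mem_conj_normalizer (h hb) hx⟩
  have := h b⁻¹ (A.inv_mem hb) _ hx
  simpa [mul_assoc] using this

theorem le_normalizer_centralizer_of_commute {A B : Subgroup G}
    (h : ∀ a ∈ A, ∀ b ∈ B, a * b = b * a) :
    A ≤ Subgroup.normalizer ((Subgroup.centralizer (B : Set G) : Subgroup G) : Set G) := by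
  rw [← invariant_iff]
  intro a ha x hx
  rw [Subgroup.mem_centralizer_iff] at hx ⊢
  intro b hb
  have h2 : a⁻¹ * b = b * a⁻¹ := h _ (A.inv_mem ha) b hb
  calc b * (a * x * a⁻¹) = (b * a) * x * a⁻¹ := by group
    _ = (a * b) * x * a⁻¹ := by rw [h a ha b hb]
    _ = a * (b * x) * a⁻¹ := by group
    _ = a * (x * b) * a⁻¹ := by rw [hx b hb]
    _ = a * x * (b * a⁻¹) := by group
    _ = a * x * (a⁻¹ * b) := by rw [h2]
    _ = a * x * a⁻¹ * b := by group

theorem le_normalizer_inf' {A H K : Subgroup G} (h1 : A ≤ Subgroup.normalizer (H : Set G))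
    (h2 : A ≤ Subgroup.normalizer (K : Set G)) :
    A ≤ Subgroup.normalizer ((H ⊓ K : Subgroup G) : Set G) := fun b hb => by
  rw [mem_normalizer_iff_smul, Subgroup.smul_inf, mem_normalizer_iff_smul.mp (h1 hb),
    mem_normalizer_iff_smul.mp (h2 hb)]

theorem le_normalizer_sup' {A H K : Subgroup G} (h1 : A ≤ Subgroup.normalizer (H : Set G))
    (h2 : A ≤ Subgroup.normalizer (K : Set G)) :
    A ≤ Subgroup.normalizer ((H ⊔ K : Subgroup G) : Set G) := fun b hb => by
  rw [mem_normalizer_iff_smul, Subgroup.smul_sup, mem_normalizer_iff_smul.mp (h1 hb),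
    mem_normalizer_iff_smul.mp (h2 hb)]

theorem mem_inf_centralizer {K : Subgroup G} {x a : G} :
    x ∈ K ⊓ Subgroup.centralizer {a} ↔ x ∈ K ∧ a * x = x * a := by
  rw [Subgroup.mem_inf, Subgroup.mem_centralizer_iff]
  refine and_congr Iff.rfl ⟨fun h => h a rfl, fun h b hb => ?_⟩
  rw [Set.mem_singleton_iff] at hb
  rwa [hb]

section ElemAbelian

variable [Fact p.Prime] {A : Subgroup G}

theorem elemAb_isPGroup (hA : Cfsg.IsElementaryAbelian p A) : IsPGroup p A :=
  fun a => ⟨1, by rw [pow_one]; exact Subtype.ext (by simpa using hA.2 a a.2)⟩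

theorem elemAb_mono {B : Subgroup G} (hA : Cfsg.IsElementaryAbelian p A) (hB : B ≤ A) :
    Cfsg.IsElementaryAbelian p B :=
  ⟨⟨⟨fun x y => Subtype.ext (congrArg (fun t : A => (t : G))
    (hA.1.is_comm.comm ⟨x, hB x.2⟩ ⟨y, hB y.2⟩))⟩⟩, fun a ha => hA.2 a (hB ha)⟩

theorem elemAb_comm (hA : Cfsg.IsElementaryAbelian p A) :
    ∀ a ∈ A, ∀ b ∈ A, a * b = b * a := fun a ha b hb =>
  congrArg (fun t : A => (t : G)) (hA.1.is_comm.comm ⟨a, ha⟩ ⟨b, hb⟩)

theorem elemAb_not_isCyclic [Finite G] (hA : Cfsg.IsElementaryAbelian p A)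
    (h : p ^ 2 ≤ Nat.card A) : ¬ IsCyclic A := by
  intro hc
  obtain ⟨g, hg⟩ := hc.exists_generator
  have h1 : Nat.card A = orderOf g := by
    rw [← Nat.card_zpowers, (Subgroup.eq_top_iff' _).mpr hg, Subgroup.card_top]
  have h2 : orderOf g ≤ p := orderOf_le_of_pow_eq_one (Fact.out : p.Prime).pos
    (Subtype.ext (by simpa using hA.2 g g.2))
  have := (Fact.out : p.Prime).two_le
  nlinarith

theorem coprime_elemAb [Finite G] {X : Subgroup G} (hA : Cfsg.IsElementaryAbelian p A)
    (hX : ¬ p ∣ Nat.card X) : (Nat.card A).Coprime (Nat.card X) := by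
  obtain ⟨n, hn⟩ := (IsPGroup.iff_card).mp (elemAb_isPGroup hA)
  rw [hn]
  exact ((Fact.out : p.Prime).coprime_iff_not_dvd.mpr hX).pow_left n

theorem elemAb_zpowers_inf [Finite G] (hA : Cfsg.IsElementaryAbelian p A) {F : Subgroup G} {x : G}
    (hx : x ∈ A) (hxF : x ∉ F) : F ⊓ Subgroup.zpowers x = ⊥ := by
  have hx1 : x ≠ 1 := fun h => hxF (h ▸ F.one_mem)
  have hp : Nat.card (Subgroup.zpowers x) = p := by
    rw [Nat.card_zpowers]; exact orderOf_eq_prime (hA.2 x hx) hx1
  rcases (Nat.dvd_prime (Fact.out : p.Prime)).mp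
    (hp ▸ Subgroup.card_dvd_of_le (inf_le_right : F ⊓ Subgroup.zpowers x ≤ _)) with h | h
  · exact Subgroup.card_eq_one.mp h
  · refine absurd ?_ hxF
    have e : F ⊓ Subgroup.zpowers x = Subgroup.zpowers x :=
      Subgroup.eq_of_le_of_card_ge inf_le_right (by rw [hp, h])
    have hx' : x ∈ F ⊓ Subgroup.zpowers x := by rw [e]; exact Subgroup.mem_zpowers x
    exact hx'.1

theorem elemAb_exists_mem_inf [Finite G] (hA : Cfsg.IsElementaryAbelian p A)
    (h : p ^ 3 ≤ Nat.card A) {B D : Subgroup G} (hB : B ≤ A) (hD : D ≤ A)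
    (hBi : B.relIndex A = p) (hDi : D.relIndex A = p) : ∃ a ∈ B ⊓ D, a ≠ 1 := by
  suffices B ⊓ D ≠ ⊥ by
    by_contra h
    push Not at h
    exact this ((Subgroup.eq_bot_iff_forall _).mpr h)
  intro hbot
  have h1 := Subgroup.relIndex_inf_le (H := B) (K := D) (L := A)
  rw [hbot, Subgroup.relIndex_bot_left, hBi, hDi] at h1
  have := (Fact.out : p.Prime).two_le
  nlinarith [h, h1, pow_succ p 2]

/-- Fixed points of a subgroup are generated by fixed points of the hyperplanes containing it. -/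
theorem inf_centralizer_eq_iSup_aux [Finite G] (hA : Cfsg.IsElementaryAbelian p A) (X : Subgroup G)
    (hX : ¬ p ∣ Nat.card X) (hAX : A ≤ Subgroup.normalizer (X : Set G)) {T : Subgroup G} :
    ∀ (n : ℕ) (F : Subgroup G), Nat.card A - Nat.card F = n → F ≤ A → F ≠ A →
      (∀ D : Subgroup G, F ≤ D → D ≤ A → D.relIndex A = p →
        X ⊓ Subgroup.centralizer (D : Set G) ≤ T) →
      X ⊓ Subgroup.centralizer (F : Set G) ≤ T := by
  intro n
  induction n using Nat.strong_induction_on with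
  | _ n ih =>
  intro F hn hFA hne hD
  obtain ⟨x, hx, hxF⟩ : ∃ x ∈ A, x ∉ F := by
    by_contra h
    push Not at h
    exact hne (le_antisymm hFA h)
  by_cases htop : F ⊔ Subgroup.zpowers x = A
  · refine hD F le_rfl hFA ?_
    have hx1 : x ≠ 1 := fun h => hxF (h ▸ F.one_mem)
    have hcomm : Subgroup.zpowers x ≤ Subgroup.normalizer (F : Set G) := by
      rw [← invariant_iff]
      intro b hb f hf
      have hbA : b ∈ A := Subgroup.zpowers_le.mpr hx hb
      rw [elemAb_comm hA b hbA f (hFA hf), mul_assoc, mul_inv_cancel, mul_one]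
      exact hf
    have hc := card_sup_mul_card_inf hcomm
    rw [sup_comm, htop, inf_comm, elemAb_zpowers_inf hA hx hxF, Subgroup.card_bot, mul_one,
      Nat.card_zpowers, orderOf_eq_prime (hA.2 x hx) hx1] at hc
    have h2 := card_mul_relIndex hFA
    rw [hc, mul_comm p] at h2
    exact Nat.eq_of_mul_eq_mul_left Nat.card_pos h2
  · obtain ⟨y, hy, hyF⟩ : ∃ y ∈ A, y ∉ F ⊔ Subgroup.zpowers x := by
      by_contra h
      push Not at h
      exact htop (le_antisymm (sup_le hFA (Subgroup.zpowers_le.mpr hx)) h)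
    set E := Subgroup.zpowers x ⊔ Subgroup.zpowers y with hE
    have hEA : E ≤ A := sup_le (Subgroup.zpowers_le.mpr hx) (Subgroup.zpowers_le.mpr hy)
    have hEF : ∀ e ∈ E, e ∈ F → e = 1 := by
      intro e he heF
      have hn' : Subgroup.zpowers x ≤ Subgroup.normalizer ((Subgroup.zpowers y : Subgroup G) : Set G) := by
        rw [← invariant_iff]
        intro b hb f hf
        rw [elemAb_comm hA b (Subgroup.zpowers_le.mpr hx hb) f (Subgroup.zpowers_le.mpr hy hf),
          mul_assoc, mul_inv_cancel, mul_one]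
        exact hf
      rw [hE] at he
      rw [← SetLike.mem_coe, Subgroup.coe_mul_of_left_le_normalizer_right _ _ hn'] at he
      obtain ⟨u, hu, v, hv, rfl⟩ := he
      have hv' : v ∈ (F ⊔ Subgroup.zpowers x) ⊓ Subgroup.zpowers y := by
        refine ⟨?_, hv⟩
        have := Subgroup.mul_mem _ (Subgroup.inv_mem _ (Subgroup.mem_sup_right hu : u ∈ F ⊔ _))
          (Subgroup.mem_sup_left heF : u * v ∈ F ⊔ Subgroup.zpowers x)
        simpa [← mul_assoc] using this
      rw [elemAb_zpowers_inf hA hy hyF, Subgroup.mem_bot] at hv'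
      subst hv'
      simp only [mul_one] at heF ⊢
      exact (Subgroup.mem_bot.mp ((elemAb_zpowers_inf hA hx hxF) ▸
        (⟨heF, hu⟩ : u ∈ F ⊓ Subgroup.zpowers x)))
    have hEc : ¬ IsCyclic E := by
      intro hc
      obtain ⟨g, hg⟩ := hc.exists_generator
      have hxE : x ∈ E := Subgroup.mem_sup_left (Subgroup.mem_zpowers x)
      have hyE : y ∈ E := Subgroup.mem_sup_right (Subgroup.mem_zpowers y)
      have hsub : Subgroup.zpowers (g : G) = E := by
        refine le_antisymm (Subgroup.zpowers_le.mpr g.2) fun e he => ?_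
        obtain ⟨k, hk⟩ := Subgroup.mem_zpowers_iff.mp (hg ⟨e, he⟩)
        exact Subgroup.mem_zpowers_iff.mpr ⟨k, by simpa using congrArg Subtype.val hk⟩
      have hx1 : x ≠ 1 := fun h => hxF (h ▸ F.one_mem)
      have hle : Nat.card E ≤ p := by
        rw [← hsub, Nat.card_zpowers]
        exact orderOf_le_of_pow_eq_one (Fact.out : p.Prime).pos (hA.2 _ (hEA g.2))
      have heq : Subgroup.zpowers x = E := Subgroup.eq_of_le_of_card_ge le_sup_left
        (by rw [Nat.card_zpowers, orderOf_eq_prime (hA.2 x hx) hx1]; exact hle)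
      exact hyF (Subgroup.mem_sup_right (heq ▸ hyE))
    set X' := X ⊓ Subgroup.centralizer (F : Set G)
    have hAX' : A ≤ Subgroup.normalizer (X' : Set G) := le_normalizer_inf' hAX
      (le_normalizer_centralizer_of_commute fun a ha b hb => elemAb_comm hA a ha b (hFA hb))
    have : IsMulCommutative E := (elemAb_mono hA hEA).1
    have hgen := generated_by_centralizers E X' hEc (hEA.trans hAX')
      (coprime_elemAb (elemAb_mono hA hEA)
        (fun h => hX (h.trans (Subgroup.card_dvd_of_le inf_le_left))))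
    rw [← hgen]
    refine iSup₂_le fun a ha => ?_
    obtain ⟨haE, ha1⟩ := ha
    have haF : a ∉ F := fun h => ha1 (hEF a haE h)
    have hlt : F < F ⊔ Subgroup.zpowers a := lt_of_le_of_ne le_sup_left fun h =>
      haF (h ▸ Subgroup.mem_sup_right (Subgroup.mem_zpowers a))
    have hle' : F ⊔ Subgroup.zpowers a ≤ A := sup_le hFA (Subgroup.zpowers_le.mpr (hEA haE))
    have hcardlt : Nat.card F < Nat.card (F ⊔ Subgroup.zpowers a : Subgroup G) :=
      not_le.mp fun hcard => hlt.ne (Subgroup.eq_of_le_of_card_ge hlt.le hcard)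
    have hXle : X' ⊓ Subgroup.centralizer {a} ≤
        X ⊓ Subgroup.centralizer ((F ⊔ Subgroup.zpowers a : Subgroup G) : Set G) := by
      refine le_inf (inf_le_left.trans inf_le_left) ?_
      rw [Subgroup.le_centralizer_iff]
      refine sup_le (Subgroup.le_centralizer_iff.mp (inf_le_left.trans inf_le_right)) ?_
      rw [Subgroup.le_centralizer_iff, ← centralizer_singleton_eq_zpowers]
      exact inf_le_right
    refine hXle.trans ?_
    by_cases htop' : F ⊔ Subgroup.zpowers a = A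
    · -- `F` has index `p`
      refine (inf_le_inf_left X (Subgroup.centralizer_le (SetLike.coe_subset_coe.mpr le_sup_left))).trans
        (hD F le_rfl hFA ?_)
      have hcomm : Subgroup.zpowers a ≤ Subgroup.normalizer (F : Set G) := by
        rw [← invariant_iff]
        intro b hb f hf
        rw [elemAb_comm hA b (Subgroup.zpowers_le.mpr (hEA haE) hb) f (hFA hf), mul_assoc,
          mul_inv_cancel, mul_one]
        exact hf
      have hc := card_sup_mul_card_inf hcomm
      rw [sup_comm, htop', inf_comm, elemAb_zpowers_inf hA (hEA haE) haF, Subgroup.card_bot,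
        mul_one, Nat.card_zpowers, orderOf_eq_prime (hA.2 a (hEA haE)) ha1] at hc
      have h2 := card_mul_relIndex hFA
      rw [hc, mul_comm p] at h2
      exact Nat.eq_of_mul_eq_mul_left Nat.card_pos h2
    · refine ih _ ?_ _ rfl hle' htop' fun D h1 h2 h3 => hD D (le_sup_left.trans h1) h2 h3
      have := Subgroup.card_le_of_le hle'
      omega

theorem inf_centralizer_le_of_hyperplanes [Finite G] (hA : Cfsg.IsElementaryAbelian p A)
    (X : Subgroup G) (hX : ¬ p ∣ Nat.card X) (hAX : A ≤ Subgroup.normalizer (X : Set G))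
    {T : Subgroup G} {F : Subgroup G} (hFA : F ≤ A) (hne : F ≠ A)
    (h : ∀ D : Subgroup G, F ≤ D → D ≤ A → D.relIndex A = p →
      X ⊓ Subgroup.centralizer (D : Set G) ≤ T) :
    X ⊓ Subgroup.centralizer (F : Set G) ≤ T :=
  inf_centralizer_eq_iSup_aux hA X hX hAX _ F rfl hFA hne h

theorem le_of_hyperplanes [Finite G] (hA : Cfsg.IsElementaryAbelian p A) (hA1 : A ≠ ⊥)
    (X : Subgroup G) (hX : ¬ p ∣ Nat.card X) (hAX : A ≤ Subgroup.normalizer (X : Set G))
    {T : Subgroup G}
    (h : ∀ D : Subgroup G, D ≤ A → D.relIndex A = p → X ⊓ Subgroup.centralizer (D : Set G) ≤ T) :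
    X ≤ T :=
  fun x hx => inf_centralizer_le_of_hyperplanes hA X hX hAX bot_le (Ne.symm hA1)
    (fun D _ => h D) ⟨hx, Subgroup.mem_centralizer_iff.mpr fun y hy => by
      rw [SetLike.mem_coe, Subgroup.mem_bot] at hy; simp [hy]⟩

theorem ne_bot_of_relIndex [Finite G] {B D : Subgroup G} (hB : p ^ 2 ≤ Nat.card B)
    (hD : D.relIndex B = p) : D ≠ ⊥ := by
  rintro rfl
  rw [Subgroup.relIndex_bot_left] at hD
  have := (Fact.out : p.Prime).two_le
  nlinarith

theorem ne_bot_of_card [Finite G] {n : ℕ} (hn : n ≠ 0) (hB : p ^ n ≤ Nat.card A) : A ≠ ⊥ := by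
  rintro rfl
  rw [Subgroup.card_bot] at hB
  exact absurd hB (not_le.mpr (Nat.one_lt_pow hn (Fact.out : p.Prime).one_lt))

end ElemAbelian

/-! ### The family of a solvable signalizer functor -/

section Family

variable {A : Subgroup G} {θ : G → Subgroup G} [hp : Fact p.Prime]

theorem signalizerInf_le {B : Subgroup G} {a : G} (ha : a ∈ B) (ha1 : a ≠ 1) :
    Cfsg.signalizerInf B θ ≤ θ a :=
  iInf_le (fun b : {a : G // a ∈ B ∧ a ≠ 1} => θ b) ⟨a, ha, ha1⟩

theorem le_signalizerInf {B X : Subgroup G} (h : ∀ a ∈ B, a ≠ 1 → X ≤ θ a) :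
    X ≤ Cfsg.signalizerInf B θ :=
  le_iInf fun a => h a a.2.1 a.2.2

theorem signalizerInf_anti {B D : Subgroup G} (h : D ≤ B) :
    Cfsg.signalizerInf B θ ≤ Cfsg.signalizerInf D θ :=
  le_signalizerInf fun _ ha ha1 => signalizerInf_le (h ha) ha1

theorem signalizerInf_le_centralizer (hθ : Cfsg.IsSignalizerFunctor p A θ) {B : Subgroup G}
    (hB : B ≤ A) : B ≤ Subgroup.centralizer (Cfsg.signalizerInf B θ : Set G) := by
  intro b hb
  rcases eq_or_ne b 1 with rfl | hb1
  · exact Subgroup.one_mem _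
  rw [Subgroup.mem_centralizer_iff]
  intro x hx
  exact (Subgroup.mem_centralizer_iff.mp (hθ.1 b (hB hb) hb1 (signalizerInf_le hb hb1 hx)) b rfl).symm

theorem IsSignalizer.invariant (hθ : Cfsg.IsSignalizerFunctor p A θ) {a : G} (ha : a ∈ A)
    (ha1 : a ≠ 1) : A ≤ Subgroup.normalizer (θ a : Set G) :=
  invariant_iff.mp (hθ.2.2.1 a ha ha1)

theorem theta_mem_family (hθ : Cfsg.IsSolvableSignalizerFunctor p A θ) {a : G} (ha : a ∈ A)
    (ha1 : a ≠ 1) : θ a ∈ Cfsg.signalizerFamily p A θ :=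
  ⟨hθ.2 a ha ha1, hθ.1.2.1 a ha ha1, hθ.1.2.2.1 a ha ha1, fun b hb hb1 => hθ.1.2.2.2 a ha ha1 b hb hb1⟩

theorem family_mono [Finite G] {U V : Subgroup G} (hU : U ∈ Cfsg.signalizerFamily p A θ)
    (hVU : V ≤ U) (hV : A ≤ Subgroup.normalizer (V : Set G)) :
    V ∈ Cfsg.signalizerFamily p A θ :=
  ⟨isSolvable_of_le hVU hU.1, fun h => hU.2.1 (h.trans (Subgroup.card_dvd_of_le hVU)),
    invariant_iff.mpr hV, fun a ha ha1 => (inf_le_inf_right _ hVU).trans (hU.2.2.2 a ha ha1)⟩

theorem family_coprime [Finite G] (hA : Cfsg.IsElementaryAbelian p A) {U : Subgroup G}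
    (hU : U ∈ Cfsg.signalizerFamily p A θ) : (Nat.card A).Coprime (Nat.card U) :=
  coprime_elemAb hA hU.2.1

theorem le_normalizer_signalizerInf (hθ : Cfsg.IsSignalizerFunctor p A θ) {B : Subgroup G}
    (hB : B ≤ A) : A ≤ Subgroup.normalizer ((Cfsg.signalizerInf B θ : Subgroup G) : Set G) := by
  rw [← invariant_iff]
  intro b hb x hx
  rw [Cfsg.signalizerInf, Subgroup.mem_iInf] at hx ⊢
  exact fun a => hθ.2.2.1 a (hB a.2.1) a.2.2 b hb x (hx a)

theorem signalizerInf_mem_family [Finite G] (hθ : Cfsg.IsSolvableSignalizerFunctor p A θ)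
    {B : Subgroup G} (hB : B ≤ A) (hB1 : B ≠ ⊥) :
    Cfsg.signalizerInf B θ ∈ Cfsg.signalizerFamily p A θ := by
  obtain ⟨b, hb, hb1⟩ : ∃ b ∈ B, b ≠ 1 := by
    by_contra h
    push Not at h
    exact hB1 ((Subgroup.eq_bot_iff_forall _).mpr h)
  exact family_mono (theta_mem_family hθ (hB hb) hb1) (signalizerInf_le hb hb1)
    (le_normalizer_signalizerInf hθ.1 hB)

theorem family_centralizer_le {U : Subgroup G} (hU : U ∈ Cfsg.signalizerFamily p A θ)
    {B : Subgroup G} (hB : B ≤ A) :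
    U ⊓ Subgroup.centralizer (B : Set G) ≤ Cfsg.signalizerInf B θ :=
  le_signalizerInf fun a ha ha1 => le_trans
    (inf_le_inf_left _ (Subgroup.centralizer_le (Set.singleton_subset_iff.mpr ha)))
    (hU.2.2.2 a (hB ha) ha1)

theorem family_conj [Finite G] (hA1 : A ≠ ⊥) (hθ : Cfsg.IsSignalizerFunctor p A θ)
    {U : Subgroup G} (hU : U ∈ Cfsg.signalizerFamily p A θ) {c : G}
    (hc : c ∈ Cfsg.signalizerInf A θ) :
    MulAut.conj c • U ∈ Cfsg.signalizerFamily p A θ := by
  have hcomm : ∀ a ∈ A, a * c = c * a := fun a ha =>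
    (Subgroup.mem_centralizer_iff.mp (signalizerInf_le_centralizer hθ le_rfl ha) c hc).symm
  refine ⟨?_, by rw [card_conj_smul]; exact hU.2.1, ?_, ?_⟩
  · rw [← map_conj_eq_smul]; exact isSolvable_map hU.1 _
  · intro b hb x hx
    rw [mem_smul_conj] at hx ⊢
    have h1 := hU.2.2.1 b hb _ hx
    have e1 : c⁻¹ * b = b * c⁻¹ := by
      rw [eq_mul_inv_iff_mul_eq, mul_assoc, hcomm b hb, inv_mul_cancel_left]
    have e2 : b⁻¹ * c = c * b⁻¹ := hcomm _ (A.inv_mem hb)
    convert h1 using 1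
    calc c⁻¹ * (b * x * b⁻¹) * c = (c⁻¹ * b) * x * (b⁻¹ * c) := by group
      _ = b * (c⁻¹ * x * c) * b⁻¹ := by rw [e1, e2]; group
  · intro a ha ha1 x hx
    obtain ⟨hxU, hxa⟩ := mem_inf_centralizer.mp hx
    rw [mem_smul_conj] at hxU
    have hcθ : c ∈ θ a := signalizerInf_le ha ha1 hc
    have h1 : c⁻¹ * x * c ∈ θ a := hU.2.2.2 a ha ha1 (mem_inf_centralizer.mpr ⟨hxU, by
      have e1 : a * c⁻¹ = c⁻¹ * a := by
        rw [eq_inv_mul_iff_mul_eq, ← mul_assoc, ← hcomm a ha, mul_inv_cancel_right]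
      calc a * (c⁻¹ * x * c) = (a * c⁻¹) * x * c := by group
        _ = c⁻¹ * (a * x) * c := by rw [e1]; group
        _ = c⁻¹ * (x * a) * c := by rw [hxa]
        _ = c⁻¹ * x * (a * c) := by group
        _ = c⁻¹ * x * c * a := by rw [hcomm a ha]; group⟩)
    have := (θ a).mul_mem ((θ a).mul_mem hcθ h1) ((θ a).inv_mem hcθ)
    simpa [mul_assoc] using this

/-- Coprime fixed points of a product `X Y` with `Y` normalizing `X`. -/
theorem family_sup [Finite G] (hA : Cfsg.IsElementaryAbelian p A)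
    (hθ : Cfsg.IsSolvableSignalizerFunctor p A θ) {X Y : Subgroup G}
    (hX : X ∈ Cfsg.signalizerFamily p A θ) (hY : Y ∈ Cfsg.signalizerFamily p A θ)
    (hn : Y ≤ Subgroup.normalizer (X : Set G)) : X ⊔ Y ∈ Cfsg.signalizerFamily p A θ := by
  refine ⟨?_, ?_, invariant_iff.mpr
    (le_normalizer_sup' (invariant_iff.mp hX.2.2.1) (invariant_iff.mp hY.2.2.1)), ?_⟩
  · have hle : X ⊔ Y ≤ Subgroup.normalizer (X : Set G) := sup_le Subgroup.le_normalizer hn
    have : (X.subgroupOf (X ⊔ Y)).Normal := Subgroup.normal_subgroupOf_of_le_normalizer hle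
    have h1 : Group.IsSolvable (X.subgroupOf (X ⊔ Y)) :=
      isSolvable_of_injective ((Subgroup.subgroupOfEquivOfLe (le_sup_left : X ≤ X ⊔ Y)).toMonoidHom)
        (MulEquiv.injective _) hX.1
    let f : Y →* (↥(X ⊔ Y) ⧸ X.subgroupOf (X ⊔ Y)) :=
      (QuotientGroup.mk' _).comp (Subgroup.inclusion le_sup_right)
    have hf : Function.Surjective f := by
      rintro ⟨⟨z, hz⟩⟩
      have hz' : z ∈ ((X ⊔ Y : Subgroup G) : Set G) := hz
      rw [Subgroup.coe_mul_of_right_le_normalizer_left _ _ hn] at hz'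
      obtain ⟨x, hx, y, hy, rfl⟩ := hz'
      refine ⟨⟨y, hy⟩, QuotientGroup.eq.mpr ?_⟩
      rw [Subgroup.mem_subgroupOf]
      simp only [Subgroup.coe_mul, Subgroup.coe_inv, Subgroup.coe_inclusion]
      have := mem_conj_normalizer' (hn hy) hx
      convert this using 1
      group
    have h2 : Group.IsSolvable (↥(X ⊔ Y) ⧸ X.subgroupOf (X ⊔ Y)) := by
      have := hY.1
      exact Group.isSolvable_of_surjective hf
    exact Group.isSolvable_of_ker_le_range (X.subgroupOf (X ⊔ Y)).subtype (QuotientGroup.mk' (X.subgroupOf (X ⊔ Y)))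
      (by rw [QuotientGroup.ker_mk', Subgroup.range_subtype])
  · rw [sup_comm]
    intro h
    exact ((Fact.out : p.Prime).dvd_mul.mp (h.trans (card_sup_dvd_mul hn))).elim hY.2.1 hX.2.1
  · intro a ha ha1 k hk
    obtain ⟨hkU, hka⟩ := mem_inf_centralizer.mp hk
    have hkU' : k ∈ ((X ⊔ Y : Subgroup G) : Set G) := hkU
    rw [Subgroup.coe_mul_of_right_le_normalizer_left _ _ hn] at hkU'
    obtain ⟨x, hx, y, hy, rfl⟩ := hkU'
    have haA : Subgroup.zpowers a ≤ A := Subgroup.zpowers_le.mpr ha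
    have hXA := invariant_iff.mp hX.2.2.1
    have hYA := invariant_iff.mp hY.2.2.1
    have hfix : ∀ b ∈ Subgroup.zpowers a, b * y * b⁻¹ * y⁻¹ ∈ X ⊓ Y := by
      intro b hb
      have hby : b * (x * y) = (x * y) * b := by
        have : b ∈ Subgroup.centralizer {x * y} := Subgroup.zpowers_le.mpr
          (Subgroup.mem_centralizer_iff.mpr fun z hz => by
            rw [Set.mem_singleton_iff] at hz; rw [hz]; exact hka.symm) hb
        exact (Subgroup.mem_centralizer_iff.mp this _ rfl).symm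
      refine ⟨?_, Y.mul_mem (hY.2.2.1 b (haA hb) y hy) (Y.inv_mem hy)⟩
      have e : b * y * b⁻¹ * y⁻¹ = (b * x * b⁻¹)⁻¹ * x := by
        have e2 : b * y = (b * x⁻¹ * b⁻¹) * (x * y * b) := by
          rw [← hby]; group
        rw [e2]; group
      rw [e]
      exact X.mul_mem (X.inv_mem (hX.2.2.1 b (haA hb) x hx)) hx
    obtain ⟨c, ⟨hcY, hca⟩, hc⟩ := exists_fixed_rep (Subgroup.zpowers a) Y (X ⊓ Y)
      (haA.trans hYA)
      (inf_eq_bot_of_coprime ((family_coprime hA hY).coprime_dvd_left (Subgroup.card_dvd_of_le haA)))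
      (((family_coprime hA hY).coprime_dvd_left (Subgroup.card_dvd_of_le haA)).coprime_dvd_right
        (Subgroup.card_dvd_of_le inf_le_right))
      (Or.inr (isSolvable_of_le inf_le_right hY.1)) inf_le_right
      (le_normalizer_inf' hn Subgroup.le_normalizer)
      (le_normalizer_inf' (haA.trans hXA) (haA.trans hYA)) hy hfix
    rw [← centralizer_singleton_eq_zpowers] at hca
    have h1 : c ∈ θ a := hY.2.2.2 a ha ha1 ⟨hcY, hca⟩
    have h2 : x * y * c⁻¹ ∈ θ a := hX.2.2.2 a ha ha1 ⟨by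
      have : y * c⁻¹ ∈ X := by
        have h3 := mem_conj_normalizer (hn hy) (X.inv_mem hc.1)
        convert h3 using 1
        group
      simpa [mul_assoc] using X.mul_mem hx this,
      Subgroup.mul_mem _ hk.2 (Subgroup.inv_mem _ hca)⟩
    have := (θ a).mul_mem h2 h1
    simpa [mul_assoc] using this

end Family

end Cfsg.Agent.Grp
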