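import Mathlib
import Cfsg.Agent.Lib.Grp.Signalizer

/-!
Representations of groups with fixed-point-free operators of prime or prime square order.
-/

namespace Cfsg.Agent.Grp

set_option linter.unusedSectionVars false

open scoped Pointwise commutatorElement
open Subgroup

variable {X : Type*} [Group X] [Finite X] {k : Type*} [Field k] {M : Type*} [AddCommGroup M]
  [Module k M] (ρ : Representation k X M)

theorem rep_mul_apply (x y : X) (m : M) : ρ (x * y) m = ρ x (ρ y m) := by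
  rw [map_mul]; rfl

/-- Eigenvectors for a character of a subgroup. -/
def IsEigen {Z : Subgroup X} (χ : Z →* kˣ) (m : M) : Prop :=
  ∀ z : Z, ρ (z : X) m = ((χ z : kˣ) : k) • m

/-- The elements of `Q` acting centrally on `M`. -/
def repCenter (Q : Subgroup X) : Subgroup X where
  carrier := {z | z ∈ Q ∧ ∀ x ∈ Q, ρ (z * x) = ρ (x * z)}
  one_mem' := ⟨Q.one_mem, fun x _ => by simp⟩
  mul_mem' := by
    rintro a b ⟨ha, ha'⟩ ⟨hb, hb'⟩
    refine ⟨Q.mul_mem ha hb, fun x hx => ?_⟩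
    rw [mul_assoc, map_mul, hb' x hx, ← map_mul, ← mul_assoc, map_mul, ha' x hx, ← map_mul, mul_assoc]
  inv_mem' := by
    rintro a ⟨ha, ha'⟩
    refine ⟨Q.inv_mem ha, fun x hx => ?_⟩
    calc ρ (a⁻¹ * x) = ρ (a⁻¹ * ((x * a) * a⁻¹)) := by rw [mul_inv_cancel_right]
      _ = ρ a⁻¹ * ρ (x * a) * ρ a⁻¹ := by simp only [← map_mul, mul_assoc]
      _ = ρ a⁻¹ * ρ (a * x) * ρ a⁻¹ := by rw [ha' x hx]
      _ = ρ (x * a⁻¹) := by rw [← map_mul, ← map_mul, ← mul_assoc, inv_mul_cancel, one_mul]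

variable {Q : Subgroup X}

theorem repCenter_le : repCenter ρ Q ≤ Q := fun _ h => h.1

theorem le_normalizer_repCenter {H : Subgroup X} (hH : H ≤ Subgroup.normalizer (Q : Set X)) :
    H ≤ Subgroup.normalizer ((repCenter ρ Q : Subgroup X) : Set X) := by
  rw [← invariant_iff]
  rintro b hb z ⟨hz, hz'⟩
  refine ⟨mem_conj_normalizer (hH hb) hz, fun x hx => ?_⟩
  have h := hz' _ (mem_conj_normalizer' (hH hb) hx)
  calc ρ (b * z * b⁻¹ * x) = ρ b * ρ (z * (b⁻¹ * x * b)) * ρ b⁻¹ := by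
        rw [← map_mul, ← map_mul]; congr 1; group
    _ = ρ b * ρ ((b⁻¹ * x * b) * z) * ρ b⁻¹ := by rw [h]
    _ = ρ (x * (b * z * b⁻¹)) := by rw [← map_mul, ← map_mul]; congr 1; group

/-- A nilpotent group acting nontrivially has a nontrivially acting central element. -/
theorem exists_repCenter_ne (hQ : Group.IsNilpotent Q) (h : ∃ x ∈ Q, ρ x ≠ 1) :
    ∃ z ∈ repCenter ρ Q, ρ z ≠ 1 := by
  set f : Q →* _ := ρ.comp Q.subtype
  set N := f.ker
  have : Group.IsNilpotent (↥Q ⧸ N) :=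
    Group.nilpotent_of_surjective (QuotientGroup.mk' N) (QuotientGroup.mk'_surjective N)
  have : Nontrivial (↥Q ⧸ N) := QuotientGroup.nontrivial_iff.mpr fun e => by
    obtain ⟨x, hx, hx'⟩ := h
    exact hx' (MonoidHom.mem_ker.mp (e ▸ Subgroup.mem_top _ : (⟨x, hx⟩ : Q) ∈ N))
  obtain ⟨v, hv, hv1⟩ : ∃ v ∈ Subgroup.center (↥Q ⧸ N), v ≠ 1 := by
    by_contra hc
    push Not at hc
    exact Group.IsNilpotent.center_ne_bot (G := ↥Q ⧸ N) ((Subgroup.eq_bot_iff_forall _).mpr hc)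
  obtain ⟨z, rfl⟩ := QuotientGroup.mk'_surjective N v
  refine ⟨z, ⟨z.2, fun x hx => ?_⟩, fun e => hv1 ((QuotientGroup.eq_one_iff _).mpr
    (MonoidHom.mem_ker.mpr e))⟩
  have h1 := Subgroup.mem_center_iff.mp hv (QuotientGroup.mk' N ⟨x, hx⟩)
  rw [← map_mul, ← map_mul] at h1
  have h2 := MonoidHom.mem_ker.mp (QuotientGroup.eq.mp h1)
  have h3 : f (⟨x, hx⟩ * z) * f ((⟨x, hx⟩ * z)⁻¹ * (z * ⟨x, hx⟩)) = f (⟨x, hx⟩ * z) := by
    rw [h2, mul_one]
  rw [← map_mul, mul_inv_cancel_left] at h3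
  exact h3

section Eigen

variable {Z : Subgroup X}

/-- The projection on the eigenspace of `χ`. -/
noncomputable def eigenProj (χ : Z →* kˣ) [Fintype Z] : M →ₗ[k] M :=
  (Nat.card Z : k)⁻¹ • ∑ z : Z, (((χ z)⁻¹ : kˣ) : k) • ρ (z : X)

theorem eigenProj_isEigen [Fintype Z] (χ : Z →* kˣ) (m : M) : IsEigen ρ χ (eigenProj ρ χ m) := by
  intro w
  simp only [eigenProj, LinearMap.smul_apply, LinearMap.sum_apply, map_smul, map_sum, Finset.smul_sum]
  refine Fintype.sum_equiv (Equiv.mulLeft w) _ _ fun z => ?_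
  show _ = _ • _ • _ • ρ ((w * z : Z) : X) m
  rw [Subgroup.coe_mul, rep_mul_apply, smul_smul, smul_smul, smul_smul]
  congr 1
  show _ = _ * _ * (((χ (w * z))⁻¹ : kˣ) : k)
  rw [map_mul]
  simp only [Units.val_mul, mul_inv_rev]
  rw [Units.val_inv_eq_inv_val (χ w)]
  field_simp

theorem eigenProj_self [Fintype Z] (hZ : (Nat.card Z : k) ≠ 0) {χ : Z →* kˣ} {m : M}
    (hm : IsEigen ρ χ m) : eigenProj ρ χ m = m := by
  simp only [eigenProj, LinearMap.smul_apply, LinearMap.sum_apply]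
  rw [Finset.sum_congr rfl fun z _ => show (((χ z)⁻¹ : kˣ) : k) • ρ (z : X) m = m by
    rw [hm z, smul_smul, Units.inv_mul, one_smul]]
  rw [Finset.sum_const, Finset.card_univ, ← Nat.cast_smul_eq_nsmul k, smul_smul,
    ← Nat.card_eq_fintype_card, inv_mul_cancel₀ hZ, one_smul]

theorem eigenProj_of_ne [Fintype Z] {χ ψ : Z →* kˣ} {m : M} (hm : IsEigen ρ ψ m) (h : χ ≠ ψ) :
    eigenProj ρ χ m = 0 := by
  obtain ⟨z₀, hz₀⟩ : ∃ z, χ z ≠ ψ z := by
    by_contra hc
    push Not at hc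
    exact h (MonoidHom.ext hc)
  simp only [eigenProj, LinearMap.smul_apply, LinearMap.sum_apply]
  rw [Finset.sum_congr rfl fun (z : Z) _ => show (((χ z)⁻¹ : kˣ) : k) • ρ (z : X) m =
    ((((χ z)⁻¹ * ψ z : kˣ)) : k) • m by rw [hm z, smul_smul, Units.val_mul]]
  rw [← Finset.sum_smul]
  set s := ∑ z : Z, ((((χ z)⁻¹ * ψ z : kˣ)) : k)
  have e : ((((χ z₀)⁻¹ * ψ z₀ : kˣ)) : k) * s = s := by
    rw [Finset.mul_sum]
    refine Fintype.sum_equiv (Equiv.mulLeft z₀) _ _ fun z => ?_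
    show _ = ((((χ (z₀ * z))⁻¹ * ψ (z₀ * z) : kˣ)) : k)
    rw [← Units.val_mul]
    congr 1
    rw [map_mul, map_mul, mul_inv, mul_mul_mul_comm]
  have hs : s = 0 := (mul_left_eq_self₀.mp e).resolve_left fun h1 => hz₀ (by
    rw [Units.val_eq_one, inv_mul_eq_one] at h1; exact h1)
  rw [hs, zero_smul, smul_zero]

theorem exists_eigen_ne_one [IsSepClosed k] (hZ : (Nat.card Z : k) ≠ 0)
    (hcomm : ∀ z ∈ Z, ∀ w ∈ Z, ρ (z * w) = ρ (w * z)) {z₀ : X} (hz₀ : z₀ ∈ Z) {m : M}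
    (hm : ρ z₀ m ≠ m) : ∃ χ : Z →* kˣ, χ ≠ 1 ∧ ∃ φ : M, φ ≠ 0 ∧ IsEigen ρ χ φ := by
  classical
  have : Fintype Z := Fintype.ofFinite Z
  set f : Z →* _ := ρ.comp Z.subtype
  set N := f.ker
  let _ : CommGroup (↥Z ⧸ N) :=
    { (inferInstance : Group (↥Z ⧸ N)) with
      mul_comm := fun a b => by
        obtain ⟨a, rfl⟩ := QuotientGroup.mk_surjective a
        obtain ⟨b, rfl⟩ := QuotientGroup.mk_surjective b
        rw [← QuotientGroup.mk_mul, ← QuotientGroup.mk_mul, QuotientGroup.eq, MonoidHom.mem_ker, map_mul]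
        have e : f (a * b) = f (b * a) := hcomm a a.2 b b.2
        rw [← e, ← map_mul, inv_mul_cancel, map_one] }
  have hexp : NeZero ((Monoid.exponent (↥Z ⧸ N) : ℕ) : k) := ⟨fun h => hZ (by
    obtain ⟨c, hc⟩ := (Group.exponent_dvd_nat_card (G := ↥Z ⧸ N)).trans
      (Subgroup.card_quotient_dvd_card N)
    rw [hc, Nat.cast_mul, h, zero_mul])⟩
  have : Finite ((↥Z ⧸ N) →* kˣ) := Finite.of_equiv (↥Z ⧸ N)
    (CommGroup.monoidHom_mulEquiv_of_hasEnoughRootsOfUnity (↥Z ⧸ N) k).some.toEquiv.symm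
  have : Fintype ((↥Z ⧸ N) →* kˣ) := Fintype.ofFinite _
  let up : ((↥Z ⧸ N) →* kˣ) → (Z →* kˣ) := fun χ => χ.comp (QuotientGroup.mk' N)
  have hsum : ∀ z : Z, ∑ χ : (↥Z ⧸ N) →* kˣ, (((up χ z)⁻¹ : kˣ) : k) =
      if z ∈ N then (Nat.card (↥Z ⧸ N) : k) else 0 := by
    intro z
    split_ifs with hz
    · have : ∀ χ : (↥Z ⧸ N) →* kˣ, (((up χ z)⁻¹ : kˣ) : k) = 1 := fun χ => by
        show (((χ (QuotientGroup.mk' N z))⁻¹ : kˣ) : k) = 1
        rw [show QuotientGroup.mk' N z = 1 from (QuotientGroup.eq_one_iff _).mpr hz, map_one, inv_one,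
          Units.val_one]
      rw [Finset.sum_congr rfl fun χ _ => this χ, Finset.sum_const, Finset.card_univ, nsmul_eq_mul,
        mul_one, ← Nat.card_eq_fintype_card,
        Nat.card_congr (CommGroup.monoidHom_mulEquiv_of_hasEnoughRootsOfUnity (↥Z ⧸ N) k).some.toEquiv]
    · obtain ⟨φ, hφ⟩ := CommGroup.exists_apply_ne_one_of_hasEnoughRootsOfUnity (↥Z ⧸ N) k
        (a := QuotientGroup.mk' N z) (fun e => hz ((QuotientGroup.eq_one_iff _).mp e))
      set s := ∑ χ : (↥Z ⧸ N) →* kˣ, (((up χ z)⁻¹ : kˣ) : k)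
      have e : (((φ (QuotientGroup.mk' N z))⁻¹ : kˣ) : k) * s = s := by
        rw [Finset.mul_sum]
        refine Fintype.sum_equiv (Equiv.mulLeft φ) _ _ fun χ => ?_
        show _ = ((((φ * χ) (QuotientGroup.mk' N z))⁻¹ : kˣ) : k)
        rw [← Units.val_mul, MonoidHom.mul_apply, mul_inv]
        rfl
      exact (mul_left_eq_self₀.mp e).resolve_left fun h1 => hφ (by
        rwa [Units.val_eq_one, inv_eq_one] at h1)
  have hN : ∑ z : Z, (if z ∈ N then (Nat.card (↥Z ⧸ N) : k) else 0) • ρ (z : X) m = (Nat.card Z : k) • m := by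
    rw [Finset.sum_congr rfl fun z _ => show
      (if z ∈ N then (Nat.card (↥Z ⧸ N) : k) else 0) • ρ (z : X) m =
        if z ∈ N then (Nat.card (↥Z ⧸ N) : k) • m else 0 by
      split_ifs with hz
      · rw [show ρ (z : X) = 1 from hz]; rfl
      · rw [zero_smul]]
    rw [← Finset.sum_filter, Finset.sum_const, ← Fintype.card_subtype, ← Nat.card_eq_fintype_card,
      ← Nat.cast_smul_eq_nsmul k, smul_smul, Subgroup.card_eq_card_quotient_mul_card_subgroup N,
      Nat.cast_mul, mul_comm]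
  have htotal : ∑ χ : (↥Z ⧸ N) →* kˣ, eigenProj ρ (up χ) m = m := by
    simp only [eigenProj, LinearMap.smul_apply, LinearMap.sum_apply, ← Finset.smul_sum]
    rw [Finset.sum_comm, Finset.sum_congr rfl fun z _ => (Finset.sum_smul).symm,
      Finset.sum_congr rfl fun z _ => by rw [hsum z], hN, smul_smul, inv_mul_cancel₀ hZ, one_smul]
  by_contra hcon
  push Not at hcon
  have hzero : ∀ χ : (↥Z ⧸ N) →* kˣ, χ ≠ 1 → eigenProj ρ (up χ) m = 0 := fun χ hχ => by
    by_contra hne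
    refine hcon (up χ) (fun e => hχ (MonoidHom.ext fun v => ?_)) _ hne (eigenProj_isEigen ρ (up χ) m)
    obtain ⟨z, rfl⟩ := QuotientGroup.mk'_surjective N v
    exact DFunLike.congr_fun e z
  rw [Finset.sum_eq_single 1 (fun χ _ h => hzero χ h) (by simp)] at htotal
  have := eigenProj_isEigen ρ (up 1) m ⟨z₀, hz₀⟩
  rw [htotal] at this
  exact hm (by simpa [up] using this)

/-- Conjugate of a character by an element normalizing `Z`. -/
def conjChar (g : Subgroup.normalizer (Z : Set X)) (χ : Z →* kˣ) : Z →* kˣ where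
  toFun z := χ ⟨(g : X)⁻¹ * z * g, mem_conj_normalizer' g.2 z.2⟩
  map_one' := by
    rw [show (⟨(g : X)⁻¹ * ((1 : Z) : X) * g, mem_conj_normalizer' g.2 (1 : Z).2⟩ : Z) = 1 from
      Subtype.ext (by simp), map_one]
  map_mul' z w := by
    rw [← map_mul]; congr 1; exact Subtype.ext (by simp [mul_assoc])

theorem conjChar_one (χ : Z →* kˣ) : conjChar (1 : Subgroup.normalizer (Z : Set X)) χ = χ :=
  MonoidHom.ext fun z => congrArg χ (Subtype.ext (by simp))

theorem conjChar_mul (g h : Subgroup.normalizer (Z : Set X)) (χ : Z →* kˣ) :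
    conjChar (g * h) χ = conjChar g (conjChar h χ) :=
  MonoidHom.ext fun z => congrArg χ (Subtype.ext (by simp [mul_assoc]))

/-- Conjugation action on the characters of `Z`. -/
@[reducible] def charAction : MulAction (Subgroup.normalizer (Z : Set X)) (Z →* kˣ) where
  smul := conjChar
  one_smul := conjChar_one
  mul_smul := conjChar_mul

theorem IsEigen.conj {χ : Z →* kˣ} {m : M} (hm : IsEigen ρ χ m)
    (g : Subgroup.normalizer (Z : Set X)) : IsEigen ρ (conjChar g χ) (ρ (g : X) m) := by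
  intro z
  show ρ (z : X) (ρ (g : X) m) = _
  rw [← rep_mul_apply, show (z : X) * g = g * ((g : X)⁻¹ * z * g) by group, rep_mul_apply,
    show ρ ((g : X)⁻¹ * z * g) m = _ from hm ⟨_, mem_conj_normalizer' g.2 z.2⟩, map_smul]
  rfl

theorem eigenProj_comm [Fintype Z] {x : X} (hx : ∀ z ∈ Z, ρ (z * x) = ρ (x * z)) (χ : Z →* kˣ) (m : M) :
    ρ x (eigenProj ρ χ m) = eigenProj ρ χ (ρ x m) := by
  simp only [eigenProj, LinearMap.smul_apply, LinearMap.sum_apply, map_smul, map_sum]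
  congr 1
  refine Finset.sum_congr rfl fun z _ => ?_
  rw [← rep_mul_apply, ← rep_mul_apply, hx z z.2]

/-- If `b` of prime order moves `χ`, an eigenvector is the projection of a fixed point of `b`. -/
theorem exists_fixed_proj [Fintype Z] (hZk : (Nat.card Z : k) ≠ 0) {p : ℕ} [Fact p.Prime]
    {b : Subgroup.normalizer (Z : Set X)} (hb : (b : X) ^ p = 1) {χ : Z →* kˣ}
    (hχ : conjChar b χ ≠ χ) {φ : M} (hφ : IsEigen ρ χ φ) :
    ∃ w : M, ρ (b : X) w = w ∧ eigenProj ρ χ w = φ := by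
  classical
  let act := charAction (X := X) (k := k) (Z := Z)
  set w := ∑ i ∈ Finset.range p, ρ ((b : X) ^ i) φ with hw
  have hbw : ρ (b : X) w = w := by
    have e := Finset.sum_range_succ' (fun i => ρ ((b : X) ^ i) φ) p
    rw [Finset.sum_range_succ, pow_zero, hb, ← hw] at e
    rw [hw, map_sum, Finset.sum_congr rfl fun i _ =>
      show ρ (b : X) (ρ ((b : X) ^ i) φ) = ρ ((b : X) ^ (i + 1)) φ by rw [← rep_mul_apply, ← pow_succ']]
    exact (add_right_cancel e).symm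
  refine ⟨w, hbw, ?_⟩
  rw [hw, map_sum, Finset.sum_eq_single 0 (fun i hi hi0 => ?_)
    (fun h => absurd (Finset.mem_range.mpr (Fact.out : p.Prime).pos) h), pow_zero, map_one,
    Module.End.one_apply, eigenProj_self ρ hZk hφ]
  have h1 : IsEigen ρ (conjChar (b ^ i) χ) (ρ ((b : X) ^ i) φ) := by
    have := hφ.conj ρ (b ^ i)
    rwa [SubmonoidClass.coe_pow] at this
  refine eigenProj_of_ne ρ h1 fun e => hχ ?_
  have hcop : i.Coprime p := ((Fact.out : p.Prime).coprime_iff_not_dvd.mpr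
    (Nat.not_dvd_of_pos_of_lt (Nat.pos_of_ne_zero hi0) (Finset.mem_range.mp hi))).symm
  have hbp : b ^ p = 1 := Subtype.ext (by simpa using hb)
  have hmem : b ∈ Subgroup.zpowers (b ^ i) :=
    mem_zpowers_pow_iff.mpr (Nat.Coprime.coprime_dvd_right (orderOf_dvd_of_pow_eq_one hbp) hcop)
  exact (Subgroup.zpowers_le.mpr (show b ^ i ∈ MulAction.stabilizer _ χ from e.symm)) hmem

/-- If `b` of prime order moves `χ`, whatever fixes the fixed points of `b` fixes the eigenvectors. -/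
theorem eigen_fixed_of_moved (hZk : (Nat.card Z : k) ≠ 0) {p : ℕ} [Fact p.Prime]
    {b : Subgroup.normalizer (Z : Set X)} (hb : (b : X) ^ p = 1) {χ : Z →* kˣ}
    (hχ : conjChar b χ ≠ χ) {x : X} (hxZ : ∀ z ∈ Z, ρ (z * x) = ρ (x * z))
    (hfix : ∀ m : M, ρ (b : X) m = m → ρ x m = m) {φ : M} (hφ : IsEigen ρ χ φ) : ρ x φ = φ := by
  have : Fintype Z := Fintype.ofFinite Z
  obtain ⟨w, hbw, hproj⟩ := exists_fixed_proj ρ hZk hb hχ hφ
  calc ρ x φ = ρ x (eigenProj ρ χ w) := by rw [hproj]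
    _ = eigenProj ρ χ (ρ x w) := eigenProj_comm ρ hxZ χ w
    _ = φ := by rw [hfix w hbw, hproj]

/-- A character fixed by a coprime operator group is trivial on `[Z, H]`. -/
theorem eq_one_of_fixed_fpf {H : Subgroup X} (hH : H ≤ Subgroup.normalizer (Z : Set X))
    (hcop : (Nat.card H).Coprime (Nat.card Z)) (hsolv : Group.IsSolvable H)
    (hfpf : Z ⊓ Subgroup.centralizer (H : Set X) = ⊥) {χ : Z →* kˣ}
    (hfix : ∀ a : Subgroup.normalizer (Z : Set X), (a : X) ∈ H → conjChar a χ = χ) : χ = 1 := by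
  have hgen := commutator_sup_fixed H Z hH hcop (Or.inl hsolv)
  rw [hfpf, sup_bot_eq] at hgen
  have hker : ⁅Z, H⁆ ≤ χ.ker.map Z.subtype := by
    rw [Subgroup.commutator_le]
    intro z hz a ha
    have hmem : a * z⁻¹ * a⁻¹ ∈ Z := mem_conj_normalizer (hH ha) (Z.inv_mem hz)
    refine ⟨⟨z, hz⟩ * ⟨_, hmem⟩, ?_, by simp [commutatorElement_def, mul_assoc]⟩
    show χ (⟨z, hz⟩ * ⟨_, hmem⟩) = 1
    have e := DFunLike.congr_fun (hfix ⟨a, hH ha⟩ ha) ⟨_, hmem⟩
    rw [map_mul, ← e]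
    show χ _ * χ _ = 1
    rw [← map_mul, ← map_one χ]
    congr 1
    exact Subtype.ext (by simp [mul_assoc])
  refine MonoidHom.ext fun z => ?_
  obtain ⟨w, hw, e⟩ := hker (hgen.ge z.2)
  rw [show z = w from Subtype.ext e.symm]
  exact hw

end Eigen

/-- A nilpotent group with a fixed-point-free operator of prime order is trivial on a module
where the operator has no fixed points. -/
theorem rep_trivial_of_fpf [IsSepClosed k] {p : ℕ} [Fact p.Prime] {b : X}
    (hb : b ^ p = 1) (hbQ : b ∈ Subgroup.normalizer (Q : Set X)) (hQn : Group.IsNilpotent Q)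
    (hQk : (Nat.card Q : k) ≠ 0) (hQp : ¬ p ∣ Nat.card Q)
    (hQfix : Q ⊓ Subgroup.centralizer {b} = ⊥) (hfix : ∀ m : M, ρ b m = m → m = 0) :
    ∀ x ∈ Q, ρ x = 1 := by
  by_contra hcon
  push Not at hcon
  obtain ⟨z₀, hz₀, hz₁⟩ := exists_repCenter_ne ρ hQn hcon
  obtain ⟨m, hm⟩ : ∃ m, ρ z₀ m ≠ m := by
    by_contra h
    push Not at h
    exact hz₁ (LinearMap.ext h)
  set Z := repCenter ρ Q
  have hZQ : Z ≤ Q := repCenter_le ρ
  have hZk : (Nat.card Z : k) ≠ 0 := fun h => hQk (by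
    obtain ⟨c, hc⟩ := Subgroup.card_dvd_of_le hZQ
    rw [hc, Nat.cast_mul, h, zero_mul])
  obtain ⟨χ, hχ1, φ, hφ0, hφ⟩ := exists_eigen_ne_one ρ hZk
    (fun z hz w hw => hz.2 w (hZQ hw)) hz₀ hm
  have hb' : Subgroup.zpowers b ≤ Subgroup.normalizer (Z : Set X) :=
    le_normalizer_repCenter ρ (Subgroup.zpowers_le.mpr hbQ)
  let bb : Subgroup.normalizer (Z : Set X) := ⟨b, hb' (Subgroup.mem_zpowers b)⟩
  by_cases hfixχ : conjChar bb χ = χ
  · have hcop : (Nat.card (Subgroup.zpowers b)).Coprime (Nat.card Z) := by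
      rw [Nat.card_zpowers]
      refine Nat.Coprime.coprime_dvd_left (orderOf_dvd_of_pow_eq_one hb) ?_
      exact (Fact.out : p.Prime).coprime_iff_not_dvd.mpr fun h => hQp (h.trans (Subgroup.card_dvd_of_le hZQ))
    let act := charAction (X := X) (k := k) (Z := Z)
    refine hχ1 (eq_one_of_fixed_fpf hb' hcop (Group.isSolvable_of_comm mul_comm') ?_ fun a ha => ?_)
    · rw [← centralizer_singleton_eq_zpowers]
      exact le_bot_iff.mp (hQfix ▸ inf_le_inf_right _ hZQ)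
    · obtain ⟨i, hi⟩ := Subgroup.mem_zpowers_iff.mp ha
      have : a ∈ MulAction.stabilizer _ χ := by
        rw [show a = bb ^ i from Subtype.ext (by rw [SubgroupClass.coe_zpow]; exact hi.symm)]
        exact Subgroup.zpow_mem _ (show bb ∈ MulAction.stabilizer _ χ from hfixχ) i
      exact this
  · have : Fintype Z := Fintype.ofFinite Z
    obtain ⟨w, hbw, hproj⟩ := exists_fixed_proj ρ hZk (b := bb) hb hfixχ hφ
    rw [hfix w hbw, map_zero] at hproj
    exact hφ0 hproj.symm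

/-- Ward's representation lemma for an elementary abelian operator group of order `p ^ 2`. -/
theorem rep_trivial_of_elemAb [IsSepClosed k] {p : ℕ} [Fact p.Prime] {A S : Subgroup X}
    (hA : Cfsg.IsElementaryAbelian p A) (hcard : Nat.card A = p ^ 2)
    (hAQ : A ≤ Subgroup.normalizer (Q : Set X)) (hAS : A ≤ Subgroup.normalizer (S : Set X))
    (hSQ : S ≤ Subgroup.normalizer (Q : Set X)) (hQn : Group.IsNilpotent Q)
    (hQk : (Nat.card Q : k) ≠ 0) (hQp : ¬ p ∣ Nat.card Q) (hSp : ¬ p ∣ Nat.card S)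
    (hQS : ⁅Q, S⁆ = Q) (hQfix : Q ⊓ Subgroup.centralizer (A : Set X) = ⊥)
    (hSfix : S ⊓ Subgroup.centralizer (A : Set X) = ⊥)
    (hcomm : ∀ a ∈ A, a ≠ 1 → ∀ y ∈ Q ⊓ Subgroup.centralizer {a},
      ∀ s ∈ S ⊓ Subgroup.centralizer {a}, y * s = s * y)
    (hfix : ∀ a ∈ A, a ≠ 1 → ∀ y ∈ Q ⊓ Subgroup.centralizer {a},
      ∀ m : M, ρ a m = m → ρ y m = m) :
    ∀ x ∈ Q, ρ x = 1 := by
  by_contra hcon
  push Not at hcon
  obtain ⟨z₀, hz₀, hz₁⟩ := exists_repCenter_ne ρ hQn hcon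
  obtain ⟨m, hm⟩ : ∃ m, ρ z₀ m ≠ m := by
    by_contra h
    push Not at h
    exact hz₁ (LinearMap.ext h)
  set Z := repCenter ρ Q with hZdef
  have hZQ : Z ≤ Q := repCenter_le ρ
  have hZk : (Nat.card Z : k) ≠ 0 := fun h => hQk (by
    obtain ⟨c, hc⟩ := Subgroup.card_dvd_of_le hZQ
    rw [hc, Nat.cast_mul, h, zero_mul])
  obtain ⟨χ, hχ1, φ, hφ0, hφ⟩ := exists_eigen_ne_one ρ hZk
    (fun z hz w hw => hz.2 w (hZQ hw)) hz₀ hm
  have hAN : A ≤ Subgroup.normalizer (Z : Set X) := le_normalizer_repCenter ρ hAQ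
  have hSN : S ≤ Subgroup.normalizer (Z : Set X) := le_normalizer_repCenter ρ hSQ
  have hQN : Q ≤ Subgroup.normalizer (Z : Set X) := le_normalizer_repCenter ρ Subgroup.le_normalizer
  have hAcomm := elemAb_comm hA
  have : IsMulCommutative A := hA.1
  have hAcyc : ¬ IsCyclic A := elemAb_not_isCyclic hA hcard.ge
  have hcopA : ∀ {Y : Subgroup X}, ¬ p ∣ Nat.card Y → (Nat.card A).Coprime (Nat.card Y) :=
    fun h => coprime_elemAb hA h
  have hZp : ¬ p ∣ Nat.card Z := fun h => hQp (h.trans (Subgroup.card_dvd_of_le hZQ))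
  let act := charAction (X := X) (k := k) (Z := Z)
  have hAsolv : Group.IsSolvable A := Group.isSolvable_of_comm mul_comm'
  -- the stabilizer in `A` of a character with eigenvectors has order `p`
  have key : ∀ ψ : Z →* kˣ, ψ ≠ 1 → (∃ φ' : M, φ' ≠ 0 ∧ IsEigen ρ ψ φ') →
      ∃ c ∈ A, c ≠ 1 ∧ ∀ a : Subgroup.normalizer (Z : Set X), (a : X) ∈ A →
        (conjChar a ψ = ψ ↔ (a : X) ∈ Subgroup.zpowers c) := by
    intro ψ hψ1 hψ
    obtain ⟨φ', hφ'0, hφ'⟩ := hψ
    obtain ⟨T, hT⟩ : ∃ T : Subgroup X, T =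
        A ⊓ (MulAction.stabilizer _ ψ).map (Subgroup.normalizer (Z : Set X)).subtype := ⟨_, rfl⟩
    have hTmem : ∀ a : Subgroup.normalizer (Z : Set X), (a : X) ∈ A →
        (conjChar a ψ = ψ ↔ (a : X) ∈ T) := fun a ha => by
      rw [hT]
      refine ⟨fun h => ⟨ha, a, h, rfl⟩, ?_⟩
      rintro ⟨-, a', h', e⟩
      rw [show a = a' from Subtype.ext e.symm]
      exact h'
    have hTA : T ≤ A := hT ▸ inf_le_left
    have hne : T ≠ A := fun e => hψ1 (eq_one_of_fixed_fpf hAN (hcopA hZp) hAsolv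
      (le_bot_iff.mp (hQfix ▸ inf_le_inf_right _ hZQ)) fun a ha => (hTmem a ha).mpr (e.symm ▸ ha))
    obtain ⟨c, hc, hc1⟩ : ∃ c ∈ T, c ≠ 1 := by
      by_contra hbot
      push Not at hbot
      refine hψ1 (MonoidHom.ext fun z => ?_)
      have hgen := generated_by_centralizers A Z hAcyc hAN (hcopA hZp)
      have hle : (Z : Subgroup X) ≤ ψ.ker.map Z.subtype := by
        conv_lhs => rw [← hgen]
        refine iSup₂_le fun a ha y hy => ⟨⟨y, hy.1⟩, ?_, rfl⟩
        obtain ⟨haA, ha1⟩ := ha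
        have h1 := eigen_fixed_of_moved ρ hZk (b := ⟨a, hAN haA⟩) (hA.2 a haA) (χ := ψ)
          (fun e => ha1 (hbot a ((hTmem ⟨a, hAN haA⟩ haA).mp e))) (x := y)
          (fun z hz => hz.2 y (hZQ hy.1)) (hfix a haA ha1 y ⟨hZQ hy.1, hy.2⟩) hφ'
        rw [show ρ y φ' = _ from hφ' ⟨y, hy.1⟩] at h1
        exact Units.ext (smul_left_injective k hφ'0 (h1.trans (one_smul k φ').symm))
      obtain ⟨w, hw, e⟩ := hle z.2
      rw [show z = w from Subtype.ext e.symm]
      exact hw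
    refine ⟨c, hTA hc, hc1, fun a ha => (hTmem a ha).trans ?_⟩
    suffices T = Subgroup.zpowers c by rw [this]
    have hcard_c : Nat.card (Subgroup.zpowers c) = p := by
      rw [Nat.card_zpowers]; exact orderOf_eq_prime (hA.2 c (hTA hc)) hc1
    have hle : Subgroup.zpowers c ≤ T := Subgroup.zpowers_le.mpr hc
    refine (Subgroup.eq_of_le_of_card_ge hle ?_).symm
    obtain ⟨i, hi, e⟩ := (Nat.dvd_prime_pow (Fact.out : p.Prime)).mp
      (hcard ▸ Subgroup.card_dvd_of_le hTA)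
    have hi2 : i ≠ 2 := fun h => hne (Subgroup.eq_of_le_of_card_ge hTA (by rw [e, h, hcard]))
    rw [e, hcard_c]
    calc p ^ i ≤ p ^ 1 := Nat.pow_le_pow_right (Fact.out : p.Prime).pos (by omega)
      _ = p := pow_one p
  obtain ⟨c, hcA, hc1, hc⟩ := key χ hχ1 ⟨φ, hφ0, hφ⟩
  set cc : Subgroup.normalizer (Z : Set X) := ⟨c, hAN hcA⟩
  have hcc : conjChar cc χ = χ := (hc cc hcA).mpr (Subgroup.mem_zpowers c)
  -- the orbit of `χ` under `S`
  set O : Set (Z →* kˣ) := {ψ | ∃ s : Subgroup.normalizer (Z : Set X), (s : X) ∈ S ∧ s • χ = ψ}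
  have hconjS : ∀ a s : Subgroup.normalizer (Z : Set X), (a : X) ∈ A → (s : X) ∈ S →
      ((a * s * a⁻¹ : Subgroup.normalizer (Z : Set X)) : X) ∈ S := fun a s ha hs => by
    simpa using mem_conj_normalizer (hAS ha) hs
  have hOne : ∀ ψ ∈ O, ψ ≠ 1 ∧ ∃ φ' : M, φ' ≠ 0 ∧ IsEigen ρ ψ φ' := by
    rintro ψ ⟨s, hs, rfl⟩
    refine ⟨fun e => hχ1 (MonoidHom.ext fun z => ?_), ρ (s : X) φ, fun e => hφ0 ?_, hφ.conj ρ s⟩
    · have e2 : χ = s⁻¹ • (1 : Z →* kˣ) := by rw [← e, inv_smul_smul]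
      rw [e2]; rfl
    · have := congrArg (ρ (s : X)⁻¹) e
      rwa [← rep_mul_apply, inv_mul_cancel, map_one, Module.End.one_apply, map_zero] at this
  have hmove : ∀ a : Subgroup.normalizer (Z : Set X), (a : X) ∈ A → (a : X) ∉ Subgroup.zpowers c →
      a • χ ∉ O := by
    rintro a ha hac ⟨s, hs, e⟩
    have hO : ∀ b : Subgroup.normalizer (Z : Set X), (b : X) ∈ A → b • χ ∈ O →
        ∀ ψ ∈ O, b • ψ ∈ O := by
      rintro b hb ⟨t, ht, et⟩ ψ ⟨u, hu, rfl⟩
      refine ⟨b * u * b⁻¹ * t, ?_, ?_⟩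
      · rw [Subgroup.coe_mul]; exact S.mul_mem (hconjS b u hb hu) ht
      · rw [mul_smul, et]; simp [← mul_smul]
    set A' := A.subgroupOf (Subgroup.normalizer (Z : Set X))
    set S' := S.subgroupOf (Subgroup.normalizer (Z : Set X))
    have hA' : Nat.card A' = Nat.card A := Nat.card_congr (Subgroup.subgroupOfEquivOfLe hAN).toEquiv
    have hS' : Nat.card S' = Nat.card S := Nat.card_congr (Subgroup.subgroupOfEquivOfLe hSN).toEquiv
    -- the elements of `A` keeping the orbit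
    have hall : ∀ b ∈ A', b • χ ∈ O := by
      intro b hb
      let U : Subgroup (Subgroup.normalizer (Z : Set X)) :=
        A' ⊓ MulAction.stabilizer _ O
      have hstab : ∀ d : Subgroup.normalizer (Z : Set X), (d : X) ∈ A → d • χ ∈ O → d ∈ U := by
        intro d hd hdO
        refine ⟨hd, MulAction.mem_stabilizer_set.mpr fun ψ => ⟨fun h => ?_, hO d hd hdO ψ⟩⟩
        have hord : d⁻¹ = d ^ (p - 1) := inv_eq_of_mul_eq_one_left (Subtype.ext (by
          rw [← pow_succ, Nat.sub_add_cancel (Fact.out : p.Prime).pos]; simpa using hA.2 _ hd))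
        have : ∀ n : ℕ, ∀ ψ ∈ O, d ^ n • ψ ∈ O := by
          intro n
          induction n with
          | zero => intro ψ hψ; simpa using hψ
          | succ n ih => intro ψ hψ; rw [pow_succ', mul_smul]; exact hO d hd hdO _ (ih ψ hψ)
        have := this (p - 1) _ h
        rwa [← hord, inv_smul_smul] at this
      have hcU : cc ∈ U := hstab cc hcA (by
        show cc • χ ∈ O
        exact ⟨1, S.one_mem, by rw [one_smul]; exact hcc.symm⟩)
      have haU : a ∈ U := hstab a ha ⟨s, hs, e⟩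
      have hU : U = A' := by
        refine Subgroup.eq_of_le_of_card_ge inf_le_left ?_
        obtain ⟨i, hi, ei⟩ := (Nat.dvd_prime_pow (Fact.out : p.Prime)).mp
          (hcard ▸ hA' ▸ Subgroup.card_dvd_of_le (inf_le_left : U ≤ A'))
        have hoc : orderOf cc = p := orderOf_eq_prime (Subtype.ext (by simpa using hA.2 c hcA))
          fun h => hc1 (congrArg Subtype.val h)
        rw [hA', hcard, ei]
        by_contra hlt
        refine hac ?_
        have hzc : Subgroup.zpowers cc = U := Subgroup.eq_of_le_of_card_ge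
          (Subgroup.zpowers_le.mpr hcU) (by
            rw [Nat.card_zpowers, hoc, ei]
            calc p ^ i ≤ p ^ 1 := Nat.pow_le_pow_right (Fact.out : p.Prime).pos (by
                  by_contra h
                  exact hlt (Nat.pow_le_pow_right (Fact.out : p.Prime).pos (by omega)))
              _ = p := pow_one p)
        obtain ⟨j, hj⟩ := Subgroup.mem_zpowers_iff.mp (hzc.symm ▸ haU)
        exact Subgroup.mem_zpowers_iff.mpr ⟨j, by rw [← hj, SubgroupClass.coe_zpow]⟩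
      have := MulAction.mem_stabilizer_set.mp ((hU ▸ hb : b ∈ U)).2 χ
      exact this.mpr ⟨1, S.one_mem, one_smul _ _⟩
    obtain ⟨ψ, hψ, hψfix⟩ := exists_fixed_point (G := Subgroup.normalizer (Z : Set X)) A' S' O
      (fun b hb => by
        rw [mem_normalizer_iff_smul]
        refine Subgroup.map_injective (Subgroup.subtype_injective _) ?_
        rw [← conj_smul_map, Subgroup.subgroupOf_map_subtype, inf_eq_left.mpr hSN]
        exact normalizer_le_smul hAS hb)
      (by rw [hA', hS']; exact hcopA hSp)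
      (Or.inl (Group.isSolvable_of_comm fun u v => Subtype.ext (Subtype.ext (hAcomm _ u.2 _ v.2))))
      ⟨χ, 1, S.one_mem, one_smul _ _⟩
      (fun b hb ψ hψ => hO b hb (hall b hb) ψ hψ)
      (by
        rintro t ht ψ ⟨u, hu, rfl⟩
        exact ⟨t * u, by rw [Subgroup.coe_mul]; exact S.mul_mem ht hu, mul_smul t u χ⟩)
      (by
        rintro ψ ⟨u, hu, rfl⟩ ψ' ⟨v, hv, rfl⟩
        exact ⟨v * u⁻¹, S.mul_mem hv (S.inv_mem hu), by simp [mul_smul]⟩)
    obtain ⟨hψ1, hψe⟩ := hOne ψ hψ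
    obtain ⟨d, hdA, hd1, hd⟩ := key ψ hψ1 hψe
    refine hAcyc ?_
    have : A ≤ Subgroup.zpowers d := fun b hb =>
      (hd ⟨b, hAN hb⟩ hb).mp (hψfix ⟨b, hAN hb⟩ hb)
    rw [le_antisymm this (Subgroup.zpowers_le.mpr hdA)]
    exact inferInstance
  -- the whole orbit has the stabilizer `⟨c⟩`
  have hOfix : ∀ ψ ∈ O, ∀ a : Subgroup.normalizer (Z : Set X), (a : X) ∈ A →
      (a • ψ = ψ ↔ (a : X) ∈ Subgroup.zpowers c) := by
    intro ψ hψ
    obtain ⟨d, hdA, hd1, hd⟩ := key ψ (hOne ψ hψ).1 (hOne ψ hψ).2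
    obtain ⟨s, hs, rfl⟩ := hψ
    set dd : Subgroup.normalizer (Z : Set X) := ⟨d, hAN hdA⟩
    have hdd : dd • (s • χ) = s • χ := (hd dd hdA).mpr (Subgroup.mem_zpowers d)
    have hdc : d ∈ Subgroup.zpowers c := by
      by_contra h
      refine hmove dd hdA h ⟨dd * s⁻¹ * dd⁻¹ * s, ?_, ?_⟩
      · rw [Subgroup.coe_mul]; exact S.mul_mem (hconjS dd _ hdA (by simpa using hs)) hs
      · have e' : dd⁻¹ • (s • χ) = s • χ := by rw [inv_smul_eq_iff]; exact hdd.symm
        simp only [mul_smul]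
        rw [e', inv_smul_smul]
    have hz : Subgroup.zpowers d = Subgroup.zpowers c :=
      Subgroup.eq_of_le_of_card_ge (Subgroup.zpowers_le.mpr hdc) (by
        rw [Nat.card_zpowers, Nat.card_zpowers, orderOf_eq_prime (hA.2 d hdA) hd1,
          orderOf_eq_prime (hA.2 c hcA) hc1])
    intro a ha
    rw [← hz]
    exact hd a ha
  have hb1 : ∀ a ∈ A, a ∉ Subgroup.zpowers c → a ≠ 1 := fun a _ h e => h (e ▸ Subgroup.one_mem _)
  have hfixed : ∀ ψ ∈ O, ∀ a ∈ A, a ∉ Subgroup.zpowers c → ∀ y ∈ Q ⊓ Subgroup.centralizer {a},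
      ∀ φ' : M, IsEigen ρ ψ φ' → ρ y φ' = φ' := fun ψ hψ a ha hac y hy φ' hφ' =>
    eigen_fixed_of_moved ρ hZk (b := ⟨a, hAN ha⟩) (hA.2 a ha) (χ := ψ)
      (fun e => hac ((hOfix ψ hψ ⟨a, hAN ha⟩ ha).mp e)) (fun z hz => hz.2 y hy.1)
      (hfix a ha (hb1 a ha hac) y hy) hφ'
  have hkill : ∀ ψ ∈ O, ∀ a ∈ A, a ∉ Subgroup.zpowers c → ∀ z : Z,
      (z : X) ∈ Subgroup.centralizer {a} → ψ z = 1 := by
    intro ψ hψ a ha hac z hz
    obtain ⟨φ', hφ'0, hφ'⟩ := (hOne ψ hψ).2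
    have h1 := hfixed ψ hψ a ha hac z ⟨hZQ z.2, hz⟩ φ' hφ'
    rw [hφ' z] at h1
    exact Units.ext (smul_left_injective k hφ'0 (h1.trans (one_smul k φ').symm))
  have hfixc : ∀ a ∈ A, a ≠ 1 → a ∈ Subgroup.zpowers c →
      Subgroup.centralizer {a} = Subgroup.centralizer {c} := fun a ha ha1 hac => by
    rw [centralizer_singleton_eq_zpowers, centralizer_singleton_eq_zpowers c,
      Subgroup.eq_of_le_of_card_ge (Subgroup.zpowers_le.mpr hac) (by
        rw [Nat.card_zpowers, Nat.card_zpowers, orderOf_eq_prime (hA.2 a ha) ha1,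
          orderOf_eq_prime (hA.2 c hcA) hc1])]
  -- elements of `S` commuting with `a ∉ ⟨c⟩` are commutators with `c`
  have hsurj : ∀ a ∈ A, a ∉ Subgroup.zpowers c → ∀ x ∈ S ⊓ Subgroup.centralizer {a},
      ∃ y ∈ S, x = y⁻¹ * (c * y * c⁻¹) := by
    intro a ha hac x hx
    set Sa := S ⊓ Subgroup.centralizer {a}
    have hcSa : ∀ y ∈ Sa, c * y * c⁻¹ ∈ Sa := fun y hy => by
      rw [mem_inf_centralizer] at hy ⊢
      refine ⟨mem_conj_normalizer (hAS hcA) hy.1, ?_⟩
      have h2 : a * c⁻¹ = c⁻¹ * a := hAcomm a ha _ (A.inv_mem hcA)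
      calc a * (c * y * c⁻¹) = (a * c) * y * c⁻¹ := by group
        _ = (c * a) * y * c⁻¹ := by rw [hAcomm a ha c hcA]
        _ = c * (a * y) * c⁻¹ := by group
        _ = c * (y * a) * c⁻¹ := by rw [hy.2]
        _ = c * y * (a * c⁻¹) := by group
        _ = c * y * (c⁻¹ * a) := by rw [h2]
        _ = c * y * c⁻¹ * a := by group
    let f : Sa → Sa := fun y =>
      ⟨(y : X)⁻¹ * (c * y * c⁻¹), Sa.mul_mem (Sa.inv_mem y.2) (hcSa y y.2)⟩
    have hinj : Function.Injective f := by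
      intro u v huv
      have huv' : (u : X)⁻¹ * (c * u * c⁻¹) = (v : X)⁻¹ * (c * v * c⁻¹) := congrArg Subtype.val huv
      have hw : c * ((v : X) * (u : X)⁻¹) = ((v : X) * (u : X)⁻¹) * c := by
        calc c * ((v : X) * (u : X)⁻¹) = (c * v * c⁻¹) * (c * u * c⁻¹)⁻¹ * c := by group
          _ = (v * ((v : X)⁻¹ * (c * v * c⁻¹))) * (c * u * c⁻¹)⁻¹ * c := by group
          _ = (v * ((u : X)⁻¹ * (c * u * c⁻¹))) * (c * u * c⁻¹)⁻¹ * c := by rw [huv']
          _ = ((v : X) * (u : X)⁻¹) * c := by group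
      have hmem : (v : X) * (u : X)⁻¹ ∈ S ⊓ Subgroup.centralizer (A : Set X) := by
        have hva : (v : X) * (u : X)⁻¹ ∈ Sa := Sa.mul_mem v.2 (Sa.inv_mem u.2)
        refine ⟨hva.1, Subgroup.mem_centralizer_iff.mpr fun d hd => ?_⟩
        have hgen : A ≤ Subgroup.centralizer ({(v : X) * (u : X)⁻¹} : Set X) := by
          have hT : A ⊓ Subgroup.centralizer ({(v : X) * (u : X)⁻¹} : Set X) = A := by
            refine Subgroup.eq_of_le_of_card_ge inf_le_left ?_
            obtain ⟨i, hi, ei⟩ := (Nat.dvd_prime_pow (Fact.out : p.Prime)).mp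
              (hcard ▸ Subgroup.card_dvd_of_le
                (inf_le_left : A ⊓ Subgroup.centralizer ({(v : X) * (u : X)⁻¹} : Set X) ≤ A))
            rw [hcard, ei]
            by_contra hlt
            refine hac ?_
            have hle : Subgroup.zpowers c ≤ A ⊓ Subgroup.centralizer ({(v : X) * (u : X)⁻¹} : Set X) :=
              Subgroup.zpowers_le.mpr ⟨hcA, Subgroup.mem_centralizer_iff.mpr fun g hg => by
                rw [Set.mem_singleton_iff.mp hg]; exact hw.symm⟩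
            have hzc := Subgroup.eq_of_le_of_card_ge hle (by
              rw [Nat.card_zpowers, orderOf_eq_prime (hA.2 c hcA) hc1, ei]
              calc p ^ i ≤ p ^ 1 := Nat.pow_le_pow_right (Fact.out : p.Prime).pos (by
                    by_contra h
                    exact hlt (Nat.pow_le_pow_right (Fact.out : p.Prime).pos (by omega)))
                _ = p := pow_one p)
            rw [hzc]
            exact ⟨ha, Subgroup.mem_centralizer_iff.mpr fun g hg => by
              rw [Set.mem_singleton_iff.mp hg]; exact ((mem_inf_centralizer.mp hva).2).symm⟩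
          exact hT ▸ inf_le_right
        exact (Subgroup.mem_centralizer_iff.mp (hgen hd) _ rfl).symm
      rw [hSfix, Subgroup.mem_bot, mul_inv_eq_one] at hmem
      exact Subtype.ext hmem.symm
    obtain ⟨y, hy⟩ := Finite.surjective_of_injective hinj ⟨x, hx⟩
    exact ⟨y, y.2.1, (congrArg Subtype.val hy).symm⟩
  have hgenQ := generated_by_centralizers A Q hAcyc hAQ (hcopA hQp)
  have hgenS := generated_by_centralizers A S hAcyc hAS (hcopA hSp)
  have hgenZ := generated_by_centralizers A Z hAcyc hAN (hcopA hZp)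
  -- `S` fixes `χ`
  have hSfixχ : S ≤ (MulAction.stabilizer _ χ).map (Subgroup.normalizer (Z : Set X)).subtype := by
    conv_lhs => rw [← hgenS]
    refine iSup₂_le fun a ha x hx => ?_
    obtain ⟨haA, ha1⟩ := ha
    refine ⟨⟨x, hSN hx.1⟩, ?_, rfl⟩
    show conjChar ⟨x, hSN hx.1⟩ χ = χ
    by_cases hac : a ∈ Subgroup.zpowers c
    · set xx : Subgroup.normalizer (Z : Set X) := ⟨x, hSN hx.1⟩
      have hxO : xx • χ ∈ O := ⟨xx, hx.1, rfl⟩
      have hle : Z ≤ ((conjChar xx χ).eqLocus χ).map Z.subtype := by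
        conv_lhs => rw [← hgenZ]
        refine iSup₂_le fun b hb z hz => ⟨⟨z, hz.1⟩, ?_, rfl⟩
        obtain ⟨hbA, hb1'⟩ := hb
        by_cases hbc : b ∈ Subgroup.zpowers c
        · have hzx : z * x = x * z := hcomm b hbA hb1' z ⟨hZQ hz.1, hz.2⟩ x ⟨hx.1, by
            have := hx.2
            rw [hfixc a haA ha1 hac] at this
            rwa [hfixc b hbA hb1' hbc]⟩
          show χ _ = χ _
          congr 1
          exact Subtype.ext (by simp [xx, mul_assoc, hzx])
        · show conjChar xx χ ⟨z, hz.1⟩ = χ ⟨z, hz.1⟩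
          rw [hkill χ ⟨1, S.one_mem, one_smul _ _⟩ b hbA hbc ⟨z, hz.1⟩ hz.2]
          exact hkill _ hxO b hbA hbc ⟨z, hz.1⟩ hz.2
      refine MonoidHom.ext fun z => ?_
      obtain ⟨w, hw, e⟩ := hle z.2
      rw [show z = w from Subtype.ext e.symm]
      exact hw
    · obtain ⟨y, hy, rfl⟩ := hsurj a haA hac x hx
      set yy : Subgroup.normalizer (Z : Set X) := ⟨y, hSN hy⟩
      have e : (⟨y⁻¹ * (c * y * c⁻¹), hSN hx.1⟩ : Subgroup.normalizer (Z : Set X)) =
          yy⁻¹ * (cc * yy * cc⁻¹) := Subtype.ext rfl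
      rw [e]
      show (yy⁻¹ * (cc * yy * cc⁻¹)) • χ = χ
      have e1 : cc⁻¹ • χ = χ := by rw [inv_smul_eq_iff]; exact hcc.symm
      have e2 : cc • (yy • χ) = yy • χ :=
        (hOfix _ ⟨yy, hy, rfl⟩ cc hcA).mpr (Subgroup.mem_zpowers c)
      rw [mul_smul, mul_smul, mul_smul, e1, e2, inv_smul_smul]
  -- the kernel on the eigenspace
  let K : Subgroup X :=
    { carrier := {x | x ∈ Q ∧ ∀ φ', IsEigen ρ χ φ' → ρ x φ' = φ'}
      one_mem' := ⟨Q.one_mem, fun φ' _ => by simp⟩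
      mul_mem' := by
        rintro u v ⟨hu, hu'⟩ ⟨hv, hv'⟩
        exact ⟨Q.mul_mem hu hv, fun φ' h => by rw [rep_mul_apply, hv' φ' h, hu' φ' h]⟩
      inv_mem' := by
        rintro u ⟨hu, hu'⟩
        refine ⟨Q.inv_mem hu, fun φ' h => ?_⟩
        conv_lhs => rw [← hu' φ' h, ← rep_mul_apply, inv_mul_cancel, map_one, Module.End.one_apply] }
  have hKQ : K ≤ Q := fun x hx => hx.1
  have hpres : ∀ g : X, g ∈ Q ∨ (∃ hg : g ∈ Subgroup.normalizer (Z : Set X), conjChar ⟨g, hg⟩ χ = χ) →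
      ∀ φ', IsEigen ρ χ φ' → IsEigen ρ χ (ρ g φ') := by
    rintro g (hg | ⟨hg, e⟩) φ' h
    · intro z
      rw [← rep_mul_apply, z.2.2 g hg, rep_mul_apply, h z, map_smul]
    · have := h.conj ρ ⟨g, hg⟩
      rwa [e] at this
  have hKinv : ∀ g : X, g ∈ Subgroup.normalizer (Q : Set X) →
      (g⁻¹ ∈ Q ∨ (∃ hg : g⁻¹ ∈ Subgroup.normalizer (Z : Set X), conjChar ⟨g⁻¹, hg⟩ χ = χ)) →
      ∀ x ∈ K, g * x * g⁻¹ ∈ K := by
    rintro g hg h x ⟨hx, hx'⟩
    refine ⟨mem_conj_normalizer hg hx, fun φ' hφ' => ?_⟩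
    rw [rep_mul_apply, rep_mul_apply, hx' _ (hpres _ h φ' hφ'), ← rep_mul_apply, mul_inv_cancel,
      map_one, Module.End.one_apply]
  have hQK : Q ≤ Subgroup.normalizer (K : Set X) := invariant_iff.mp fun g hg x hx =>
    hKinv g (Subgroup.le_normalizer hg) (Or.inl (Q.inv_mem hg)) x hx
  have hSK : S ≤ Subgroup.normalizer (K : Set X) := invariant_iff.mp fun g hg x hx =>
    hKinv g (hSQ hg) (Or.inr (by
      obtain ⟨g', hg', e⟩ := hSfixχ (S.inv_mem hg)
      exact ⟨hSN (S.inv_mem hg),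
        (congrArg (fun t => conjChar t χ) (Subtype.ext e.symm)).trans hg'⟩)) x hx
  have hcK : c ∈ Subgroup.normalizer (K : Set X) := by
    refine (invariant_iff (A := Subgroup.zpowers c)).mp (fun g hg x hx => ?_) (Subgroup.mem_zpowers c)
    have hgA : g⁻¹ ∈ A := A.inv_mem (Subgroup.zpowers_le.mpr hcA hg)
    exact hKinv g (hAQ (Subgroup.zpowers_le.mpr hcA hg))
      (Or.inr ⟨hAN hgA, (hc ⟨g⁻¹, hAN hgA⟩ hgA).mpr (Subgroup.inv_mem _ hg)⟩) x hx
  have hKb : ∀ a ∈ A, a ∉ Subgroup.zpowers c → Q ⊓ Subgroup.centralizer {a} ≤ K :=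
    fun a ha hac y hy => ⟨hy.1, hfixed χ ⟨1, S.one_mem, one_smul _ _⟩ a ha hac y hy⟩
  -- the group of elements trivial on `Q / K`
  let T : Subgroup X :=
    { carrier := {g | g ∈ Subgroup.normalizer (Q : Set X) ∧ g ∈ Subgroup.normalizer (K : Set X) ∧
        ∀ q ∈ Q, g * q * g⁻¹ * q⁻¹ ∈ K}
      one_mem' := ⟨Subgroup.one_mem _, Subgroup.one_mem _, fun q _ => by simp⟩
      mul_mem' := by
        rintro u v ⟨hu1, hu2, hu3⟩ ⟨hv1, hv2, hv3⟩
        refine ⟨Subgroup.mul_mem _ hu1 hv1, Subgroup.mul_mem _ hu2 hv2, fun q hq => ?_⟩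
        have := K.mul_mem (hu3 _ (mem_conj_normalizer hv1 hq)) (hv3 q hq)
        convert this using 1
        group
      inv_mem' := by
        rintro u ⟨hu1, hu2, hu3⟩
        refine ⟨Subgroup.inv_mem _ hu1, Subgroup.inv_mem _ hu2, fun q hq => ?_⟩
        have := K.inv_mem (hu3 _ (mem_conj_normalizer' hu1 hq))
        convert this using 1
        group }
  have hcT : c ∈ T := by
    refine ⟨hAQ hcA, hcK, fun q hq => ?_⟩
    let E : Subgroup X :=
      { carrier := {q | q ∈ Q ∧ c * q * c⁻¹ * q⁻¹ ∈ K}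
        one_mem' := ⟨Q.one_mem, by simp⟩
        mul_mem' := by
          rintro u v ⟨hu, hu'⟩ ⟨hv, hv'⟩
          refine ⟨Q.mul_mem hu hv, ?_⟩
          have := K.mul_mem hu' (mem_conj_normalizer (hQK hu) hv')
          convert this using 1
          group
        inv_mem' := by
          rintro u ⟨hu, hu'⟩
          refine ⟨Q.inv_mem hu, ?_⟩
          have := mem_conj_normalizer' (hQK hu) (K.inv_mem hu')
          convert this using 1
          group }
    suffices Q ≤ E from (this hq).2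
    conv_lhs => rw [← hgenQ]
    refine iSup₂_le fun a ha y hy => ⟨hy.1, ?_⟩
    obtain ⟨haA, ha1⟩ := ha
    by_cases hac : a ∈ Subgroup.zpowers c
    · have := hy.2
      rw [hfixc a haA ha1 hac] at this
      have h1 := Subgroup.mem_centralizer_iff.mp this c rfl
      rw [h1, mul_inv_cancel_right, mul_inv_cancel]
      exact K.one_mem
    · exact K.mul_mem (mem_conj_normalizer hcK (hKb a haA hac hy)) (K.inv_mem (hKb a haA hac hy))
  have hST : S ≤ T := by
    conv_lhs => rw [← hgenS]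
    refine iSup₂_le fun a ha x hx => ?_
    obtain ⟨haA, ha1⟩ := ha
    by_cases hac : a ∈ Subgroup.zpowers c
    · refine ⟨hSQ hx.1, hSK hx.1, fun q hq => ?_⟩
      let E : Subgroup X :=
        { carrier := {q | q ∈ Q ∧ x * q * x⁻¹ * q⁻¹ ∈ K}
          one_mem' := ⟨Q.one_mem, by simp⟩
          mul_mem' := by
            rintro u v ⟨hu, hu'⟩ ⟨hv, hv'⟩
            refine ⟨Q.mul_mem hu hv, ?_⟩
            have := K.mul_mem hu' (mem_conj_normalizer (hQK hu) hv')
            convert this using 1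
            group
          inv_mem' := by
            rintro u ⟨hu, hu'⟩
            refine ⟨Q.inv_mem hu, ?_⟩
            have := mem_conj_normalizer' (hQK hu) (K.inv_mem hu')
            convert this using 1
            group }
      suffices Q ≤ E from (this hq).2
      conv_lhs => rw [← hgenQ]
      refine iSup₂_le fun b hb y hy => ⟨hy.1, ?_⟩
      obtain ⟨hbA, hb1'⟩ := hb
      by_cases hbc : b ∈ Subgroup.zpowers c
      · have hzx : y * x = x * y := hcomm b hbA hb1' y hy x ⟨hx.1, by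
          have := hx.2
          rw [hfixc a haA ha1 hac] at this
          rwa [hfixc b hbA hb1' hbc]⟩
        rw [← hzx, mul_inv_cancel_right, mul_inv_cancel]
        exact K.one_mem
      · exact K.mul_mem (mem_conj_normalizer (hSK hx.1) (hKb b hbA hbc hy))
          (K.inv_mem (hKb b hbA hbc hy))
    · obtain ⟨y, hy, rfl⟩ := hsurj a haA hac x hx
      obtain ⟨h1, h2, h3⟩ := hcT
      have hy1 := hSQ hy
      have hy2 := hSK hy
      have hyT : y⁻¹ * c * y ∈ T := by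
        refine ⟨Subgroup.mul_mem _ (Subgroup.mul_mem _ (Subgroup.inv_mem _ hy1) h1) hy1,
          Subgroup.mul_mem _ (Subgroup.mul_mem _ (Subgroup.inv_mem _ hy2) h2) hy2, fun q hq => ?_⟩
        have := mem_conj_normalizer' hy2 (h3 _ (mem_conj_normalizer hy1 hq))
        convert this using 1
        group
      have := T.mul_mem hyT (T.inv_mem ⟨h1, h2, h3⟩)
      convert this using 1
      group
  have hQleK : Q ≤ K := by
    conv_lhs => rw [← hQS]
    rw [Subgroup.commutator_le]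
    intro q hq s hs
    have := K.inv_mem ((hST hs).2.2 q hq)
    convert this using 1
    simp only [commutatorElement_def]
    group
  refine hχ1 (MonoidHom.ext fun z => ?_)
  have h1 := (hQleK (hZQ z.2)).2 φ hφ
  rw [hφ z] at h1
  exact Units.ext (smul_left_injective k hφ0 (h1.trans (one_smul k φ).symm))

end Cfsg.Agent.Grp
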