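import Mathlib
import Cfsg.Agent.Lib.Grp.FpfRep
import Cfsg.Agent.Lib.Grp.Frattini

/-!
The dual module of a normal r-subgroup, and consequences: fixed-point-free operators of prime
order on solvable groups force nilpotency.
-/

namespace Cfsg.Agent.Grp

set_option linter.unusedSectionVars false

open scoped Pointwise commutatorElement
open Subgroup

variable {X : Type*} [Group X]

/-- Conjugation action on the additive characters of a normal subgroup. -/
def dualRep (V : Subgroup X) [V.Normal] (k : Type*) [Field k] :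
    Representation k X (Additive V →+ k) where
  toFun x :=
    { toFun := fun f => f.comp (MonoidHom.toAdditive (MulAut.conjNormal (H := V) x⁻¹).toMonoidHom)
      map_add' := fun _ _ => AddMonoidHom.ext fun _ => rfl
      map_smul' := fun _ _ => AddMonoidHom.ext fun _ => rfl }
  map_one' := by
    refine LinearMap.ext fun f => AddMonoidHom.ext fun v => ?_
    show f (Additive.ofMul (MulAut.conjNormal (H := V) (1 : X)⁻¹ v.toMul)) = f v
    simp
  map_mul' x y := by
    refine LinearMap.ext fun f => AddMonoidHom.ext fun v => ?_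
    show f (Additive.ofMul (MulAut.conjNormal (H := V) (x * y)⁻¹ v.toMul)) =
      f (Additive.ofMul (MulAut.conjNormal (H := V) y⁻¹ (MulAut.conjNormal (H := V) x⁻¹ v.toMul)))
    simp [mul_inv_rev]

variable {V : Subgroup X} [V.Normal] {k : Type*} [Field k]

theorem dualRep_apply (x : X) (f : Additive V →+ k) (v : V) :
    dualRep V k x f (Additive.ofMul v) = f (Additive.ofMul (MulAut.conjNormal (H := V) x⁻¹ v)) := rfl

theorem dual_commutator_eq_zero {H : Subgroup X} {f : Additive V →+ k}
    (hf : ∀ a ∈ H, dualRep V k a f = f) {v : V} (hv : (v : X) ∈ ⁅V, H⁆) :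
    f (Additive.ofMul v) = 0 := by
  set g : V →* Multiplicative k := AddMonoidHom.toMultiplicativeRight f
  have hle : ⁅V, H⁆ ≤ g.ker.map V.subtype := by
    rw [Subgroup.commutator_le]
    intro w hw a ha
    have hmem : a * w⁻¹ * a⁻¹ ∈ V := ‹V.Normal›.conj_mem _ (V.inv_mem hw) a
    refine ⟨⟨w, hw⟩ * ⟨_, hmem⟩, ?_, by simp [commutatorElement_def, mul_assoc]⟩
    show g (⟨w, hw⟩ * ⟨_, hmem⟩) = 1
    rw [map_mul]
    have e := DFunLike.congr_fun (hf a⁻¹ (H.inv_mem ha)) (Additive.ofMul (⟨w⁻¹, V.inv_mem hw⟩ : V))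
    rw [dualRep_apply] at e
    have e1 : (MulAut.conjNormal (H := V) a⁻¹⁻¹ ⟨w⁻¹, V.inv_mem hw⟩ : V) = ⟨_, hmem⟩ :=
      Subtype.ext (by simp)
    rw [e1] at e
    show Multiplicative.ofAdd _ * Multiplicative.ofAdd _ = 1
    rw [e, ← ofAdd_add, ← map_add, ← ofMul_mul]
    rw [show (⟨w, hw⟩ * ⟨w⁻¹, V.inv_mem hw⟩ : V) = 1 from Subtype.ext (mul_inv_cancel w)]
    simp
  obtain ⟨w, hw, e⟩ := hle hv
  rw [show v = w from Subtype.ext e.symm]
  exact hw

theorem dual_fixed_eq_zero [Finite X] {b : X} (hcop : (orderOf b).Coprime (Nat.card V))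
    (hfix : V ⊓ Subgroup.centralizer {b} = ⊥) {f : Additive V →+ k}
    (hf : dualRep V k b f = f) : f = 0 := by
  refine AddMonoidHom.ext fun v => ?_
  have hgen := commutator_sup_fixed (Subgroup.zpowers b) V Subgroup.le_normalizer_of_normal
    (by rwa [Nat.card_zpowers]) (Or.inl (Group.isSolvable_of_comm mul_comm'))
  rw [← centralizer_singleton_eq_zpowers, hfix, sup_bot_eq] at hgen
  have hall : ∀ a ∈ Subgroup.zpowers b, dualRep V k a f = f := by
    let St : Subgroup X :=
      { carrier := {a | dualRep V k a f = f}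
        one_mem' := by simp
        mul_mem' := by
          intro a c ha hc
          show dualRep V k (a * c) f = f
          rw [rep_mul_apply, hc, ha]
        inv_mem' := by
          intro a ha
          show dualRep V k a⁻¹ f = f
          conv_lhs => rw [← ha, ← rep_mul_apply, inv_mul_cancel, map_one, Module.End.one_apply] }
    exact fun a ha => (Subgroup.zpowers_le.mpr (show b ∈ St from hf)) ha
  exact dual_commutator_eq_zero hall (v := v.toMul) (hgen.ge v.toMul.2)

theorem dual_fixed_of_commute [Finite X] {a y : X} (hcop : (orderOf a).Coprime (Nat.card V))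
    (hay : a * y = y * a) (hy : ∀ v ∈ V ⊓ Subgroup.centralizer {a}, y * v = v * y)
    {f : Additive V →+ k} (hf : dualRep V k a f = f) : dualRep V k y f = f := by
  set g : V →* Multiplicative k := AddMonoidHom.toMultiplicativeRight f
  set g' : V →* Multiplicative k := AddMonoidHom.toMultiplicativeRight (dualRep V k y f)
  have hall : ∀ c ∈ Subgroup.zpowers a, dualRep V k c f = f := by
    let St : Subgroup X :=
      { carrier := {a | dualRep V k a f = f}
        one_mem' := by simp
        mul_mem' := by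
          intro a c ha hc
          show dualRep V k (a * c) f = f
          rw [rep_mul_apply, hc, ha]
        inv_mem' := by
          intro a ha
          show dualRep V k a⁻¹ f = f
          conv_lhs => rw [← ha, ← rep_mul_apply, inv_mul_cancel, map_one, Module.End.one_apply] }
    exact fun c hc => (Subgroup.zpowers_le.mpr (show a ∈ St from hf)) hc
  have hall' : ∀ c ∈ Subgroup.zpowers a, dualRep V k c (dualRep V k y f) = dualRep V k y f := by
    intro c hc
    obtain ⟨i, rfl⟩ := Subgroup.mem_zpowers_iff.mp hc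
    rw [← rep_mul_apply, ((show Commute a y from hay).zpow_left i).eq, rep_mul_apply, hall _ hc]
  have hgen := commutator_sup_fixed (Subgroup.zpowers a) V Subgroup.le_normalizer_of_normal
    (by rwa [Nat.card_zpowers]) (Or.inl (Group.isSolvable_of_comm mul_comm'))
  rw [← centralizer_singleton_eq_zpowers] at hgen
  have hle : V ≤ (g'.eqLocus g).map V.subtype := by
    conv_lhs => rw [← hgen]
    refine sup_le (fun w hw => ?_) fun w hw => ?_
    · have hwV : w ∈ V := commutator_le_left_of_le_normalizer Subgroup.le_normalizer_of_normal hw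
      refine ⟨⟨w, hwV⟩, ?_, rfl⟩
      show Multiplicative.ofAdd _ = Multiplicative.ofAdd _
      exact congrArg _ ((dual_commutator_eq_zero hall' (v := ⟨w, hwV⟩) hw).trans
        (dual_commutator_eq_zero hall (v := ⟨w, hwV⟩) hw).symm)
    · refine ⟨⟨w, hw.1⟩, ?_, rfl⟩
      show Multiplicative.ofAdd _ = Multiplicative.ofAdd _
      have e : (MulAut.conjNormal (H := V) y⁻¹ ⟨w, hw.1⟩ : V) = ⟨w, hw.1⟩ := by
        refine Subtype.ext ?_
        simp only [MulAut.conjNormal_apply, inv_inv]
        rw [mul_assoc, ← hy w hw, inv_mul_cancel_left]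
      rw [dualRep_apply, e]
  refine AddMonoidHom.ext fun v => ?_
  obtain ⟨w, hw, e⟩ := hle v.toMul.2
  rw [show v = Additive.ofMul w from Additive.toMul.injective (Subtype.ext e.symm)]
  exact hw

/-- A coprime group acting trivially on the dual of an r-group centralizes it. -/
theorem le_centralizer_of_dual [Finite X] {r : ℕ} [Fact r.Prime] [CharP k r] (hV : IsPGroup r V)
    {Q : Subgroup X} (hQ : ¬ r ∣ Nat.card Q) (h : ∀ x ∈ Q, dualRep V k x = 1) :
    Q ≤ Subgroup.centralizer (V : Set X) := by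
  classical
  set Φ := (frattini V).map V.subtype
  have hΦV : Φ ≤ V := Subgroup.map_subtype_le _
  -- the commutators of `V` with `Q` lie in the Frattini subgroup
  have hle : ⁅V, Q⁆ ≤ Φ := by
    rw [Subgroup.commutator_le]
    intro v hv x hx
    have hmem : ⁅v, x⁆ ∈ V :=
      commutator_le_left_of_le_normalizer Subgroup.le_normalizer_of_normal
        (Subgroup.commutator_mem_commutator hv hx)
    refine ⟨⟨_, hmem⟩, ?_, rfl⟩
    show (⟨⁅v, x⁆, hmem⟩ : V) ∈ frattini V
    rw [frattini, Order.radical, Subgroup.mem_iInf]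
    intro W
    rw [Subgroup.mem_iInf]
    intro hW
    obtain ⟨hWn, hidx⟩ := coatom_index_eq_of_pGroup hV hW
    have hcy : IsCyclic (V ⧸ W) := isCyclic_of_prime_card (p := r) hidx
    have hcard : Nat.card (V ⧸ W) = r := hidx
    let e : V ⧸ W ≃* Multiplicative (ZMod r) :=
      (zmodCyclicMulEquiv hcy).symm.trans
        (AddEquiv.toMultiplicative (ZMod.ringEquivCongr hcard).toAddEquiv)
    let g : V →* Multiplicative k :=
      ((ZMod.castHom (dvd_refl r) k).toAddMonoidHom.toMultiplicative).comp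
        (e.toMonoidHom.comp (QuotientGroup.mk' W))
    let f : Additive V →+ k := MonoidHom.toAdditiveLeft g
    have hf := DFunLike.congr_fun (LinearMap.congr_fun (h x hx) f) (Additive.ofMul (⟨v, hv⟩ : V))
    rw [dualRep_apply, Module.End.one_apply] at hf
    have hg : g (MulAut.conjNormal (H := V) x⁻¹ ⟨v, hv⟩) = g ⟨v, hv⟩ :=
      congrArg Multiplicative.ofAdd hf
    have hinj : Function.Injective ((ZMod.castHom (dvd_refl r) k).toAddMonoidHom.toMultiplicative) := by
      intro s t hst
      exact Multiplicative.toAdd.injective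
        ((ZMod.castHom (dvd_refl r) k).injective (congrArg Multiplicative.toAdd hst))
    have hq : QuotientGroup.mk' W (MulAut.conjNormal (H := V) x⁻¹ ⟨v, hv⟩) =
        QuotientGroup.mk' W ⟨v, hv⟩ := e.injective (hinj hg)
    -- `[v, x]` is the image under `x` of `(x⁻¹ v x) v⁻¹`
    have hx' := DFunLike.congr_fun (LinearMap.congr_fun (h x⁻¹ (Q.inv_mem hx)) f)
      (Additive.ofMul (⟨v, hv⟩ : V))
    rw [dualRep_apply, Module.End.one_apply] at hx'
    have hq' : QuotientGroup.mk' W (MulAut.conjNormal (H := V) x⁻¹⁻¹ ⟨v, hv⟩) =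
        QuotientGroup.mk' W ⟨v, hv⟩ := e.injective (hinj (congrArg Multiplicative.ofAdd hx'))
    rw [← QuotientGroup.eq_one_iff]
    show QuotientGroup.mk' W ⟨⁅v, x⁆, hmem⟩ = 1
    rw [show (⟨⁅v, x⁆, hmem⟩ : V) = ⟨v, hv⟩ * (MulAut.conjNormal (H := V) x⁻¹⁻¹ ⟨v, hv⟩)⁻¹ from
      Subtype.ext (by simp [commutatorElement_def, mul_assoc]), map_mul, map_inv, hq', mul_inv_cancel]
  have hcop : (Nat.card Q).Coprime (Nat.card V) := by
    obtain ⟨n, hn⟩ := IsPGroup.iff_card.mp hV
    rw [hn]
    exact ((Fact.out : r.Prime).coprime_iff_not_dvd.mpr hQ).symm.pow_right n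
  have hgen := commutator_sup_fixed Q V Subgroup.le_normalizer_of_normal hcop
    (Or.inr (@IsNilpotent.to_isSolvable _ _ hV.isNilpotent))
  have htop : (V ⊓ Subgroup.centralizer (Q : Set X)).subgroupOf V = ⊤ := by
    refine frattini_nongenerating (eq_top_iff.mpr fun w _ => ?_)
    have hw : (w : X) ∈ Φ ⊔ (V ⊓ Subgroup.centralizer (Q : Set X)) :=
      (sup_le_sup_right hle _) (hgen.ge w.2)
    have e : Φ ⊔ (V ⊓ Subgroup.centralizer (Q : Set X)) =
        ((V ⊓ Subgroup.centralizer (Q : Set X)).subgroupOf V ⊔ frattini V).map V.subtype := by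
      rw [Subgroup.map_sup, Subgroup.map_subgroupOf_eq_of_le inf_le_left, sup_comm]
    rw [e] at hw
    obtain ⟨u, hu, eu⟩ := hw
    rwa [show u = w from Subtype.ext eu] at hu
  rw [Subgroup.subgroupOf_eq_top] at htop
  exact Subgroup.le_centralizer_iff.mp (htop.trans inf_le_right)

/-- In a finite nilpotent group elements of coprime orders commute. -/
theorem commute_of_nilpotent_coprime [Finite X] (hn : Group.IsNilpotent X) {p q : ℕ}
    [Fact p.Prime] [Fact q.Prime] (hpq : p ≠ q) {x y : X} {i j : ℕ} (hx : x ^ p ^ i = 1)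
    (hy : y ^ q ^ j = 1) : x * y = y * x := by
  have hP : ∀ {r : ℕ} [Fact r.Prime] {z : X} {l : ℕ}, z ^ r ^ l = 1 → z ∈ Cfsg.pCore r X := by
    intro r _ z l hz
    have hz' : IsPGroup r (Subgroup.zpowers z) := by
      obtain ⟨m, -, hm⟩ := (Nat.dvd_prime_pow (Fact.out : r.Prime)).mp (orderOf_dvd_of_pow_eq_one hz)
      exact IsPGroup.of_card (n := m) (by rw [Nat.card_zpowers, hm])
    obtain ⟨P, hP⟩ := hz'.exists_le_sylow
    exact le_pCore ((isNilpotent_iff_sylow_normal.mp hn) r inferInstance P) P.isPGroup'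
      (hP (Subgroup.mem_zpowers z))
  have h1 := pCore_isNormal (p := p) (G := X)
  have h2 := pCore_isNormal (p := q) (G := X)
  obtain ⟨a, ha⟩ := IsPGroup.iff_card.mp (pCore_isPGroup (p := p) (G := X))
  obtain ⟨c, hc⟩ := IsPGroup.iff_card.mp (pCore_isPGroup (p := q) (G := X))
  have hle := commute_of_coprime_normal (M := Cfsg.pCore p X) (N := Cfsg.pCore q X) (by
    rw [ha, hc]
    exact Nat.Coprime.pow _ _ ((Nat.coprime_primes (Fact.out) (Fact.out)).mpr hpq))
  exact (Subgroup.mem_centralizer_iff.mp (hle (hP hx)) y (hP hy)).symm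

/-- A normal subgroup centralizing `O_r` for `r ≠ q` with all `q'`-elements in the Fitting
subgroup is contained in it. -/
theorem le_fitting_of_centralizing [Finite X] {q : ℕ} [Fact q.Prime] {D : Subgroup X} (hD : D.Normal)
    (hr : ∀ r : ℕ, r.Prime → r ≠ q → D ≤ Subgroup.centralizer (Cfsg.pCore r X : Set X))
    (hel : ∀ s : ℕ, s.Prime → s ≠ q → ∀ x ∈ D, ∀ i : ℕ, x ^ s ^ i = 1 → x ∈ Cfsg.fittingSubgroup X) :
    D ≤ Cfsg.fittingSubgroup X := by
  refine le_fittingSubgroup hD (isNilpotent_iff_sylow_normal.mpr fun t ht P => ?_)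
  have hcentral : ∀ s : ℕ, s.Prime → s ≠ q → ∀ x : D, ∀ i : ℕ, x ^ s ^ i = 1 →
      x ∈ Subgroup.center D := by
    intro s hs hsq x i hx
    have := Fact.mk hs
    have hxF := hel s hs hsq x x.2 i (by simpa using congrArg Subtype.val hx)
    have hxs : (x : X) ∈ Cfsg.pCore s X := by
      have hFn := fittingSubgroup_isNilpotent (G := X)
      have hz : IsPGroup s (Subgroup.zpowers (⟨x, hxF⟩ : Cfsg.fittingSubgroup X)) := by
        obtain ⟨m, -, hm⟩ := (Nat.dvd_prime_pow hs).mp (orderOf_dvd_of_pow_eq_one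
          (show (⟨x, hxF⟩ : Cfsg.fittingSubgroup X) ^ s ^ i = 1 from
            Subtype.ext (by simpa using congrArg Subtype.val hx)))
        exact IsPGroup.of_card (n := m) (by rw [Nat.card_zpowers, hm])
      obtain ⟨S, hS⟩ := hz.exists_le_sylow
      have hSc : (S : Subgroup (Cfsg.fittingSubgroup X)).Characteristic :=
        S.characteristic_of_normal (isNilpotent_iff_sylow_normal.mp hFn s inferInstance S)
      have := fittingSubgroup_isNormal (G := X)
      have hle : (S : Subgroup (Cfsg.fittingSubgroup X)).map (Cfsg.fittingSubgroup X).subtype ≤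
          Cfsg.pCore s X := le_pCore inferInstance (S.isPGroup'.map _)
      exact hle ⟨_, hS (Subgroup.mem_zpowers _), rfl⟩
    refine Subgroup.mem_center_iff.mpr fun y => Subtype.ext ?_
    exact (Subgroup.mem_centralizer_iff.mp (hr s hs hsq y.2) x hxs).symm
  by_cases htq : t = q
  · refine Subgroup.normalizer_eq_top_iff.mp (top_le_iff.mp (le_of_forall_sylow le_top fun s hs => ?_))
    obtain ⟨S, hS⟩ := exists_isSylowIn s (⊤ : Subgroup D)
    by_cases hsq : s = q
    · refine ⟨(P : Subgroup D), ⟨le_top, ?_, ?_⟩, Subgroup.le_normalizer⟩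
      · subst hsq; subst htq; exact P.isPGroup'
      · subst hsq; subst htq; rw [Subgroup.relIndex_top_right]; exact P.not_dvd_index
    · refine ⟨S, hS, fun x hx => ?_⟩
      obtain ⟨i, hi⟩ := hS.2.1 ⟨x, hx⟩
      exact Subgroup.center_le_normalizer _ (hcentral s hs.out hsq x i (congrArg Subtype.val hi))
  · refine ⟨fun x hx g => ?_⟩
    obtain ⟨i, hi⟩ := P.isPGroup' ⟨x, hx⟩
    rw [(Subgroup.mem_center_iff.mp (hcentral t ht.out htq x i (congrArg Subtype.val hi)) g),
      mul_inv_cancel_right]
    exact hx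

/-- A solvable group in which every Sylow subgroup centralizes `O_q` for the other primes is
nilpotent. -/
theorem isNilpotent_of_centralizes_cores [Finite X] [Group.IsSolvable X]
    (h : ∀ q s : ℕ, q.Prime → s.Prime → s ≠ q →
      ¬ s ∣ (Subgroup.centralizer (Cfsg.pCore q X : Set X)).index) :
    Group.IsNilpotent X := by
  have hel : ∀ q s : ℕ, q.Prime → s.Prime → s ≠ q → ∀ x : X, ∀ i : ℕ, x ^ s ^ i = 1 →
      x ∈ Subgroup.centralizer (Cfsg.pCore q X : Set X) := by
    intro q s hq hs hsq x i hx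
    have := pCore_isNormal (p := q) (G := X)
    have hcop : (orderOf x).Coprime (Subgroup.centralizer (Cfsg.pCore q X : Set X)).index :=
      Nat.Coprime.coprime_dvd_left (orderOf_dvd_of_pow_eq_one hx)
        ((hs.coprime_iff_not_dvd.mpr (h q s hq hs hsq)).pow_left i)
    rw [← QuotientGroup.eq_one_iff, ← orderOf_eq_one_iff]
    exact Nat.eq_one_of_dvd_coprimes hcop
      (orderOf_map_dvd (QuotientGroup.mk' (Subgroup.centralizer (Cfsg.pCore q X : Set X))) x)
      (by rw [Subgroup.index_eq_card]; exact orderOf_dvd_natCard _)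
  have hCF := centralizer_fittingSubgroup_le (G := X)
  suffices htop : (⊤ : Subgroup X) ≤ Cfsg.fittingSubgroup X by
    have := fittingSubgroup_isNilpotent (G := X)
    rw [top_le_iff.mp htop] at this
    exact Group.nilpotent_of_surjective (Subgroup.topEquiv (G := X)).toMonoidHom (Subgroup.topEquiv (G := X)).surjective
  refine le_of_forall_sylow le_top fun q hq => ?_
  obtain ⟨S, hS⟩ := exists_isSylowIn q (⊤ : Subgroup X)
  refine ⟨S, hS, ?_⟩
  let D : Subgroup X := ⨅ (r : ℕ) (_ : r.Prime ∧ r ≠ q), Subgroup.centralizer (Cfsg.pCore r X : Set X)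
  have hDn : D.Normal := by
    refine Subgroup.normal_iInf_normal fun r => Subgroup.normal_iInf_normal fun _ => ?_
    have := pCore_isNormal (p := r) (G := X)
    infer_instance
  refine le_trans (fun x hx => ?_) (le_fitting_of_centralizing (q := q) hDn
    (fun r hr hrq => iInf₂_le r ⟨hr, hrq⟩) fun s hs hsq x hx i hi => hCF ?_)
  · simp only [D, Subgroup.mem_iInf]
    intro r hr
    obtain ⟨i, hi⟩ := hS.2.1 ⟨x, hx⟩
    exact hel r q hr.1 hq.out hr.2.symm x i (congrArg Subtype.val hi)
  · rw [Subgroup.mem_centralizer_iff]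
    intro y hy
    have hle : Cfsg.fittingSubgroup X ≤ Subgroup.centralizer {x} := by
      rw [fittingSubgroup_eq_iSup_pCore]
      refine iSup_le fun r y hy => Subgroup.mem_centralizer_iff.mpr fun z hz => ?_
      rw [Set.mem_singleton_iff.mp hz]
      by_cases hrq : (r : ℕ) = q
      · rw [hrq] at hy
        exact (Subgroup.mem_centralizer_iff.mp (hel q s hq.out hs hsq x i hi) y hy).symm
      · simp only [D, Subgroup.mem_iInf] at hx
        exact (Subgroup.mem_centralizer_iff.mp (hx r ⟨r.2, hrq⟩) y hy).symm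
    exact ((Subgroup.mem_centralizer_iff.mp (hle hy)) x rfl).symm

theorem not_dvd_card_of_fpf [Finite X] {p : ℕ} [Fact p.Prime] {A K : Subgroup X} (hA : IsPGroup p A)
    (hAK : A ≤ Subgroup.normalizer (K : Set X))
    (hfpf : K ⊓ Subgroup.centralizer (A : Set X) = ⊥) : ¬ p ∣ Nat.card K := by
  intro hdvd
  let _ : MulAction A K :=
    { smul := fun a x => ⟨(a : X) * x * (a : X)⁻¹, mem_conj_normalizer (hAK a.2) x.2⟩
      one_smul := fun x => Subtype.ext (show (1 : X) * x * (1 : X)⁻¹ = x by simp)
      mul_smul := fun a c x => Subtype.ext (show ((a : X) * c) * x * ((a : X) * c)⁻¹ =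
        a * (c * x * (c : X)⁻¹) * (a : X)⁻¹ by group) }
  obtain ⟨x, hx, hne⟩ := hA.exists_fixed_point_of_prime_dvd_card_of_fixed_point K hdvd (a := (1 : K))
    (fun a => Subtype.ext (show (a : X) * (1 : X) * (a : X)⁻¹ = 1 by simp))
  have hmem : (x : X) ∈ K ⊓ Subgroup.centralizer (A : Set X) := by
    refine ⟨x.2, Subgroup.mem_centralizer_iff.mpr fun a ha => ?_⟩
    exact mul_inv_eq_iff_eq_mul.mp (congrArg Subtype.val (hx ⟨a, ha⟩))
  rw [hfpf, Subgroup.mem_bot] at hmem
  exact hne (Subtype.ext hmem.symm)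

private theorem nilpotent_of_fpf_normal [Finite X] {p : ℕ} [Fact p.Prime] (K : Subgroup X) [hKn : K.Normal]
    (hK : Group.IsSolvable K) {b : X} (hb : b ^ p = 1)
    (hfpf : K ⊓ Subgroup.centralizer {b} = ⊥) : Group.IsNilpotent K := by
  have hbp : IsPGroup p (Subgroup.zpowers b) := by
    obtain ⟨m, -, hm⟩ := (Nat.dvd_prime_pow (Fact.out : p.Prime)).mp
      (orderOf_dvd_of_pow_eq_one (show b ^ p ^ 1 = 1 by simpa using hb))
    exact IsPGroup.of_card (n := m) (by rw [Nat.card_zpowers, hm])
  have hKp : ¬ p ∣ Nat.card K :=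
    not_dvd_card_of_fpf hbp Subgroup.le_normalizer_of_normal
      (by rw [← centralizer_singleton_eq_zpowers]; exact hfpf)
  have hcop : (orderOf b).Coprime (Nat.card K) := Nat.Coprime.coprime_dvd_left
    (orderOf_dvd_of_pow_eq_one hb) ((Fact.out : p.Prime).coprime_iff_not_dvd.mpr hKp)
  have := hK
  refine isNilpotent_of_centralizes_cores fun r q hr hq hqr hdvd => ?_
  have := Fact.mk hr
  have := Fact.mk hq
  obtain ⟨Q, hQ, hbQ⟩ := exists_invariant_sylow (Subgroup.zpowers b) K Subgroup.le_normalizer_of_normal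
    (by rwa [Nat.card_zpowers]) (Or.inl (Group.isSolvable_of_comm mul_comm')) q
  set V := (Cfsg.pCore r K).map K.subtype
  have hVn : V.Normal := normal_of_characteristic_map _
  have hVK : V ≤ K := Subgroup.map_subtype_le _
  have hVp : IsPGroup r V := (pCore_isPGroup (p := r)).map _
  obtain ⟨n, hn⟩ := IsPGroup.iff_card.mp hQ.2.1
  have hQr : ¬ r ∣ Nat.card Q := by
    rw [hn]
    intro h
    exact hqr ((Nat.prime_dvd_prime_iff_eq hr hq).mp (hr.dvd_of_dvd_pow h)).symm
  have hc : Q ≤ Subgroup.centralizer (V : Set X) := by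
    refine le_centralizer_of_dual (k := AlgebraicClosure (ZMod r)) hVp hQr ?_
    refine rep_trivial_of_fpf (M := Additive V →+ AlgebraicClosure (ZMod r)) (dualRep V (AlgebraicClosure (ZMod r))) hb (hbQ (Subgroup.mem_zpowers b)) hQ.2.1.isNilpotent ?_
      (fun h => hKp (h.trans (Subgroup.card_dvd_of_le hQ.1)))
      (le_bot_iff.mp (hfpf ▸ inf_le_inf_right _ hQ.1)) ?_
    · rw [ne_eq, CharP.cast_eq_zero_iff _ r]; exact hQr
    · exact fun f hf => dual_fixed_eq_zero (hcop.coprime_dvd_right (Subgroup.card_dvd_of_le hVK))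
        (le_bot_iff.mp (hfpf ▸ inf_le_inf_right _ hVK)) hf
  refine hQ.2.2 (hdvd.trans (Subgroup.index_dvd_of_le (H := Q.subgroupOf K) fun x hx => ?_))
  rw [Subgroup.mem_centralizer_iff]
  intro y hy
  exact Subtype.ext (Subgroup.mem_centralizer_iff.mp (hc hx) y ⟨y, hy, rfl⟩)

/-- A solvable group with a fixed-point-free operator of prime order is nilpotent. -/
theorem isNilpotent_of_fpf_prime [Finite X] {p : ℕ} [Fact p.Prime] (K : Subgroup X)
    (hK : Group.IsSolvable K) {b : X} (hb : b ^ p = 1) (hbK : b ∈ Subgroup.normalizer (K : Set X))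
    (hfpf : K ⊓ Subgroup.centralizer {b} = ⊥) : Group.IsNilpotent K := by
  set N := Subgroup.normalizer (K : Set X)
  have : (K.subgroupOf N).Normal := Subgroup.normal_subgroupOf_of_le_normalizer le_rfl
  have e : K.subgroupOf N ≃* K := Subgroup.subgroupOfEquivOfLe Subgroup.le_normalizer
  have hs : Group.IsSolvable (K.subgroupOf N) :=
    isSolvable_of_injective e.toMonoidHom e.injective hK
  have := nilpotent_of_fpf_normal (K.subgroupOf N) hs (b := ⟨b, hbK⟩) (p := p)
    (Subtype.ext (by simpa using hb)) (by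
      rw [eq_bot_iff]
      intro x hx
      rw [mem_inf_centralizer] at hx
      refine Subtype.ext ?_
      have : (x : X) ∈ K ⊓ Subgroup.centralizer {b} :=
        mem_inf_centralizer.mpr ⟨hx.1, congrArg Subtype.val hx.2⟩
      rw [hfpf] at this
      exact this)
  exact Group.nilpotent_of_surjective e.toMonoidHom e.surjective

end Cfsg.Agent.Grp
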