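import Mathlib
import Cfsg.Prelude.Def_PLocal
import Cfsg.Agent.Lib.Invol.ThompsonReduction
import Cfsg.Agent.Lib.Fus.Replacement

/-!
Thompson's normal p-complement theorem for odd p: it is enough that the normalizers of the central
elements of order p and of the Thompson subgroup of a Sylow subgroup have normal p-complements.
-/

set_option autoImplicit false

namespace Cfsg.Agent.Grp

open scoped Pointwise
open Subgroup

universe u

/-- The central elements killed by `p`. -/
def omegaCenter (p : ℕ) (Q : Type u) [Group Q] : Subgroup Q where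
  carrier := {x | x ∈ Subgroup.center Q ∧ x ^ p = 1}
  one_mem' := ⟨one_mem _, one_pow p⟩
  mul_mem' := fun {a b} ha hb => ⟨mul_mem ha.1 hb.1, by
    rw [(show Commute a b from Subgroup.mem_center_iff.mp hb.1 a).mul_pow, ha.2, hb.2, one_mul]⟩
  inv_mem' := fun {a} ha => ⟨inv_mem ha.1, by rw [inv_pow, ha.2, inv_one]⟩

/-- The two functors of Thompson's criterion. -/
def thompsonFamily (p : ℕ) : Bool → ∀ (Q : Type u) [Group Q], Subgroup Q
  | false => fun Q _ => omegaCenter p Q
  | true => fun Q _ => Cfsg.thompsonSubgroupA Q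

variable {p : ℕ} [hp : Fact p.Prime]

theorem omegaCenter_isCharPFunctor :
    Cfsg.IsCharPFunctor.{u} p (fun Q _ => omegaCenter p Q) := by
  refine ⟨fun Q _ _ hQ hne => ?_, fun Q R _ _ _ _ φ => ?_⟩
  · have := hQ.center_nontrivial
    have hd : p ∣ Nat.card (Subgroup.center Q) := by
      obtain ⟨k, hk⟩ := IsPGroup.iff_card.mp (hQ.to_subgroup (Subgroup.center Q))
      have h1 : 1 < Nat.card (Subgroup.center Q) := Finite.one_lt_card
      rw [hk] at h1 ⊢
      exact dvd_pow_self p (by rintro rfl; simp at h1)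
    obtain ⟨z, hz⟩ := exists_prime_orderOf_dvd_card' p hd
    intro hbot
    replace hbot : omegaCenter p Q = ⊥ := hbot
    have hmem : (z : Q) ∈ omegaCenter p Q := ⟨z.2, by
      rw [← hz, ← SubmonoidClass.coe_pow, pow_orderOf_eq_one]; rfl⟩
    rw [hbot, Subgroup.mem_bot] at hmem
    rw [show z = 1 from Subtype.ext hmem, orderOf_one] at hz
    exact hp.out.ne_one hz.symm
  · ext y
    constructor
    · rintro ⟨x, ⟨hx, hxp⟩, rfl⟩
      refine ⟨Subgroup.mem_center_iff.mpr fun g => ?_, by rw [← map_pow, hxp, map_one]⟩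
      obtain ⟨w, rfl⟩ := φ.surjective g
      have hwx : Commute w x := Subgroup.mem_center_iff.mp hx w
      exact (hwx.map φ).eq
    · rintro ⟨hy, hyp⟩
      obtain ⟨x, rfl⟩ := φ.surjective y
      refine ⟨x, ⟨Subgroup.mem_center_iff.mpr fun g => φ.injective ?_, φ.injective ?_⟩, rfl⟩
      · rw [map_mul, map_mul]; exact Subgroup.mem_center_iff.mp hy (φ g)
      · rw [map_pow, map_one, hyp]

theorem thompsonA_isCharPFunctor :
    Cfsg.IsCharPFunctor.{u} p (fun Q _ => Cfsg.thompsonSubgroupA Q) := by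
  refine ⟨fun Q _ _ hQ hne => ?_, fun Q R _ _ _ _ φ => ?_⟩
  · obtain ⟨A, hA, hmax⟩ := Set.exists_max_image {A : Subgroup Q | IsMulCommutative A}
      (fun A => Nat.card A) (Set.toFinite _) ⟨Subgroup.center Q, by
        exact (inferInstance : IsMulCommutative (Subgroup.center Q))⟩
    have hle : A ≤ Cfsg.thompsonSubgroupA Q := le_sSup ⟨hA, fun B hB => hmax B hB⟩
    intro hbot
    have := hQ.center_nontrivial
    have h1 := hmax (Subgroup.center Q) (inferInstance : IsMulCommutative (Subgroup.center Q))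
    have h2 : 1 < Nat.card (Subgroup.center Q) := Finite.one_lt_card
    rw [le_bot_iff.mp (hle.trans hbot.le), Subgroup.card_bot] at h1
    omega
  · have key : ∀ {Q' R' : Type u} [Group Q'] [Group R'] (ψ : Q' ≃* R') (A : Subgroup Q'),
        A ∈ Cfsg.maxAbelianSubgroups Q' → A.map ψ.toMonoidHom ∈ Cfsg.maxAbelianSubgroups R' := by
      intro Q' R' _ _ ψ A hA
      refine ⟨⟨⟨?_⟩⟩, fun B hB => ?_⟩
      · rintro ⟨_, a, ha, rfl⟩ ⟨_, b, hb, rfl⟩
        refine Subtype.ext ?_
        show ψ.toMonoidHom a * ψ.toMonoidHom b = _ * _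
        rw [← map_mul, show a * b = b * a from
          congrArg Subtype.val (hA.1.is_comm.comm ⟨a, ha⟩ ⟨b, hb⟩), map_mul]
      · have hB' : IsMulCommutative (B.map ψ.symm.toMonoidHom) := by
          refine ⟨⟨?_⟩⟩
          rintro ⟨_, a, ha, rfl⟩ ⟨_, b, hb, rfl⟩
          refine Subtype.ext ?_
          show ψ.symm.toMonoidHom a * ψ.symm.toMonoidHom b = _ * _
          rw [← map_mul, show a * b = b * a from
            congrArg Subtype.val (hB.is_comm.comm ⟨a, ha⟩ ⟨b, hb⟩), map_mul]
        rw [Subgroup.card_map_of_injective ψ.injective,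
          ← Subgroup.card_map_of_injective (f := ψ.symm.toMonoidHom) ψ.symm.injective]
        exact hA.2 _ hB'
    refine le_antisymm ?_ ?_
    · rw [Subgroup.map_le_iff_le_comap]
      refine sSup_le fun A hA => Subgroup.map_le_iff_le_comap.mp (le_sSup ?_)
      exact key φ A hA
    · refine sSup_le fun B hB => ?_
      have h1 : B.map φ.symm.toMonoidHom ≤ Cfsg.thompsonSubgroupA Q := le_sSup (key φ.symm B hB)
      intro y hy
      exact ⟨φ.symm y, h1 ⟨y, hy, rfl⟩, φ.apply_symm_apply y⟩

theorem thompsonFamily_isCharPFunctor :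
    ∀ i, Cfsg.IsCharPFunctor.{u} p (thompsonFamily.{u} p i)
  | false => omegaCenter_isCharPFunctor
  | true => thompsonA_isCharPFunctor

/-- There is no minimal obstruction for Thompson's family. -/
theorem not_isThompsonMinimal (hp2 : p ≠ 2) {X : Type u} [Group X] [Finite X] :
    ¬ Invol.IsThompsonMinimal p (thompsonFamily.{u} p) X := by
  intro h
  obtain ⟨M, hd⟩ := h.data
  set P := Cfsg.pCore p X
  have hPn : P.Normal := hd.pn
  have hPp : IsPGroup p P := hd.isP
  obtain ⟨S⟩ : Nonempty (Sylow p X) := inferInstance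
  have hStop : (S : Subgroup X) ≠ ⊤ := by
    intro e
    refine h.notNPC (Transfer.hasNormalPComplement_iff_exists.mpr ⟨⊥, inferInstance, ?_, ?_⟩)
    · rw [Subgroup.card_bot]; exact hp.out.not_dvd_one
    · obtain ⟨k, hk⟩ := IsPGroup.iff_card.mp S.isPGroup'
      exact ⟨k, by rw [Subgroup.index_bot, ← hk, e, Subgroup.card_top]⟩
  have hPS : P ≤ (S : Subgroup X) := pCore_le_sylow S
  set Z0 := Cfsg.inducedFunctor (thompsonFamily.{u} p false) (S : Subgroup X)
  have hZS : Z0 ≤ (S : Subgroup X) := Invol.inducedFunctor_le _ _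
  have hZcomm : ∀ z ∈ Z0, ∀ s ∈ (S : Subgroup X), s * z = z * s := by
    rintro _ ⟨z, hz, rfl⟩ s hs
    exact congrArg Subtype.val (Subgroup.mem_center_iff.mp hz.1 ⟨s, hs⟩)
  have hZP : Z0 ≤ P := fun z hz => h.cent
    (Subgroup.mem_centralizer_iff.mpr fun x hx => hZcomm z hz x (hPS hx))
  have hZPc : Z0 ≤ P ⊓ Subgroup.centralizer (P : Set X) := fun z hz =>
    ⟨hZP hz, Subgroup.mem_centralizer_iff.mpr fun x hx => hZcomm z hz x (hPS hx)⟩
  set V := Subgroup.normalClosure (Z0 : Set X)
  have hVn : V.Normal := Subgroup.normalClosure_normal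
  have hVle : V ≤ P ⊓ Subgroup.centralizer (P : Set X) := Subgroup.normalClosure_le_normal hZPc
  have hVc : ∀ x ∈ V, ∀ y ∈ V, x * y = y * x := fun x hx y hy =>
    Subgroup.mem_centralizer_iff.mp (hVle hy).2 x (hVle hx).1
  have hPV : P ≤ Subgroup.centralizer (V : Set X) := fun x hx =>
    Subgroup.mem_centralizer_iff.mpr fun v hv => (Subgroup.mem_centralizer_iff.mp (hVle hv).2 x hx).symm
  -- `C(V) = P`
  set C := Subgroup.centralizer (V : Set X)
  have hCn : C.Normal := Subgroup.normal_centralizer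
  have hCS : C ≤ (S : Subgroup X) := by
    rcases h.maximal S ((S : Subgroup X) ⊔ C) le_sup_left with e | e
    · exact le_sup_right.trans e.le
    · exfalso
      have hle : (⊤ : Subgroup X) ≤ Subgroup.normalizer (Z0 : Set X) := by
        rw [← e]
        refine sup_le (fun s hs => Subgroup.centralizer_le_normalizer _ ?_)
          (fun c hc => Subgroup.centralizer_le_normalizer _ ?_)
        · exact Subgroup.mem_centralizer_iff.mpr fun z hz => (hZcomm z hz s hs).symm
        · exact Subgroup.mem_centralizer_iff.mpr fun z hz =>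
            Subgroup.mem_centralizer_iff.mp hc z (Subgroup.subset_normalClosure hz)
      exact hStop (le_antisymm le_top (hle.trans (h.norm false S).le))
  have hCP : C ≤ P := le_pCore hCn (S.isPGroup'.to_le hCS)
  have hVP : V ≤ P := hVle.trans inf_le_left
  -- no quadratic element outside `P`
  have hquad : ¬ ∃ x ∈ (S : Subgroup X), x ∉ P ∧ Fus.IsQuad p x V := by
    rintro ⟨x, hxS, hxP, hq⟩
    apply hxP
    obtain ⟨e, he⟩ := IsPGroup.iff_card.mp S.isPGroup'
    have hxp : x ^ p ^ e = 1 := by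
      have := pow_card_eq_one' (G := (S : Subgroup X)) (x := ⟨x, hxS⟩)
      rw [he] at this
      exact congrArg Subtype.val this
    refine Invol.mem_pCore_of_comm hd hxp fun m hm => ?_
    obtain ⟨n, hn⟩ := Invol.comm_acts_pElement hp2 hd x hm V (hPp.to_le hVP) MulAut.conjNormal
      fun r => by
        refine Subtype.ext ?_
        have e1 : (r : X)⁻¹ * (x * r * x⁻¹) = x * r * x⁻¹ * (r : X)⁻¹ :=
          hVc _ (V.inv_mem r.2) _ (hVn.conj_mem r r.2 x)
        show x * ((r : X)⁻¹ * (x * r * x⁻¹)) * x⁻¹ = (r : X)⁻¹ * (x * r * x⁻¹)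
        rw [e1]
        exact (hq r r.2).2
    set c := x * m * x⁻¹ * m⁻¹
    have hcC : c ^ p ^ n ∈ P := by
      refine hCP (Subgroup.mem_centralizer_iff.mpr fun v hv => ?_)
      have h2 := congrArg Subtype.val (DFunLike.congr_fun hn (⟨v, hv⟩ : V))
      rw [← map_pow] at h2
      simp only [MulAut.conjNormal_apply, MulAut.one_apply] at h2
      exact (mul_inv_eq_iff_eq_mul.mp h2).symm
    obtain ⟨k, hk, hk'⟩ := hd.mid c (mul_mem (hd.mn.conj_mem m hm x) (inv_mem hm))
    obtain ⟨s, t, hst⟩ : IsCoprime (k : ℤ) ((p ^ n : ℕ) : ℤ) :=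
      Nat.isCoprime_iff_coprime.mpr (hk.pow_right n)
    rw [← zpow_one c, ← hst, zpow_add, mul_comm s, zpow_mul, mul_comm t, zpow_mul,
      zpow_natCast, zpow_natCast]
    exact mul_mem (zpow_mem hk' _) (zpow_mem hcC _)
  have hJ := (Fus.exists_quad_or_thompsonA_le S.isPGroup' (hVP.trans hPS)
    Subgroup.le_normalizer_of_normal hVc hPV).resolve_left hquad
  -- the Thompson subgroup is normal
  have hJn : (Cfsg.thompsonSubgroupAOf (S : Subgroup X)).Normal := by
    have key : ∀ g : X, (Cfsg.thompsonSubgroupAOf (S : Subgroup X)).map (MulAut.conj g).toMonoidHom ≤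
        Cfsg.thompsonSubgroupAOf (S : Subgroup X) := by
      intro g
      rw [Subgroup.map_le_iff_le_comap]
      refine Fus.thompsonA_le_of fun A hA => Subgroup.map_le_iff_le_comap.mp (Fus.IsMaxAb.le_thompsonA ?_)
      refine ⟨?_, ?_, fun B hB hc => ?_⟩
      · rintro _ ⟨a, ha, rfl⟩
        exact hPS (hPn.conj_mem a (hJ (hA.le_thompsonA ha)) g)
      · rintro _ ⟨a, ha, rfl⟩ _ ⟨b, hb, rfl⟩
        rw [← map_mul, hA.2.1 a ha b hb, map_mul]
      · rw [Subgroup.card_map_of_injective (MulAut.conj g).injective]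
        exact hA.2.2 B hB hc
    exact ⟨fun y hy g => key g ⟨y, hy, rfl⟩⟩
  have h1 : Subgroup.normalizer (Cfsg.thompsonSubgroupAOf (S : Subgroup X) : Set X) = S :=
    h.norm true S
  rw [Subgroup.normalizer_eq_top] at h1
  exact hStop h1.symm

/-- Thompson's normal `p`-complement theorem. -/
theorem hasNormalPComplement_of_thompson (hp2 : p ≠ 2) {G : Type u} [Group G] [Finite G]
    (S : Sylow p G)
    (hZ : Cfsg.HasNormalPComplement p ↥(Subgroup.normalizer
      (Cfsg.inducedFunctor (thompsonFamily.{u} p false) (S : Subgroup G) : Set G)))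
    (hJ : Cfsg.HasNormalPComplement p ↥(Subgroup.normalizer
      (Cfsg.thompsonSubgroupAOf (S : Subgroup G) : Set G))) :
    Cfsg.HasNormalPComplement p G := by
  by_contra hG
  have hN := Invol.normalizersNPC_of_one (W := thompsonFamily.{u} p) thompsonFamily_isCharPFunctor S
    (fun i => match i with
      | false => hZ
      | true => hJ)
  obtain ⟨X, _, _, -, hmin⟩ := Invol.exists_thompsonMinimal thompsonFamily_isCharPFunctor hN hG
  exact not_isThompsonMinimal hp2 hmin

end Cfsg.Agent.Grp
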