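import Mathlib
import Cfsg.Agent.Lib.Grp.FpfDual
import Cfsg.Agent.Lib.Grp.ThompsonComplement

/-!
Thompson's theorem: a finite group with a fixed-point-free operator of prime order is nilpotent.
-/

set_option autoImplicit false

namespace Cfsg.Agent.Grp

open scoped Pointwise commutatorElement
open Subgroup

universe u

theorem le_normalizer_inducedFunctor {p : ℕ} {W : ∀ (Q : Type u) [Group Q], Subgroup Q}
    (hW : Cfsg.IsCharPFunctor.{u} p W) {G : Type u} [Group G] [Finite G] {P : Subgroup G}
    (hP : IsPGroup p P) :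
    Subgroup.normalizer (P : Set G) ≤ Subgroup.normalizer (Cfsg.inducedFunctor W P : Set G) := by
  intro g hg
  rw [mem_normalizer_iff_smul] at hg ⊢
  rw [← map_conj_eq_smul] at hg ⊢
  rw [← Invol.inducedFunctor_map hW hP _ (fun x _ hx => (MulAut.conj g).injective (by simpa using hx)), hg]

theorem hasNormalPComplement_of_nilpotent {p : ℕ} [Fact p.Prime] {G : Type u} [Group G] [Finite G]
    (h : Group.IsNilpotent G) : Cfsg.HasNormalPComplement p G := by
  obtain ⟨T⟩ : Nonempty (Sylow p G) := inferInstance
  have hTn : (T : Subgroup G).Normal := isNilpotent_iff_sylow_normal.mp h p inferInstance T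
  refine Transfer.hasNormalPComplement_of_control T fun x hx y hy ⟨g, hg⟩ => ?_
  have hle : (⊤ : Subgroup G) ≤ (T : Subgroup G) ⊔ Subgroup.centralizer ((T : Subgroup G) : Set G) := by
    refine le_of_forall_sylow le_top fun r hr => ?_
    by_cases hrp : r = p
    · subst hrp
      refine ⟨T, ⟨le_top, T.isPGroup', ?_⟩, le_sup_left⟩
      rw [Subgroup.relIndex_top_right]; exact T.not_dvd_index
    · obtain ⟨R, hR⟩ := exists_isSylowIn r (⊤ : Subgroup G)
      refine ⟨R, hR, le_trans (fun z hz => Subgroup.mem_centralizer_iff.mpr fun t ht => ?_) le_sup_right⟩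
      obtain ⟨i, hi⟩ := hR.2.1 ⟨z, hz⟩
      obtain ⟨j, hj⟩ := T.isPGroup' ⟨t, ht⟩
      exact commute_of_nilpotent_coprime h (Ne.symm hrp) (congrArg Subtype.val hj) (congrArg Subtype.val hi)
  obtain ⟨t, ht, c, hc, e⟩ := Subgroup.mem_sup_of_normal_left.mp (hle (Subgroup.mem_top g))
  refine ⟨t, ht, ?_⟩
  rw [← hg, ← e, show (t * c) * x * (t * c)⁻¹ = t * (c * x * c⁻¹) * t⁻¹ by group,
    ← Subgroup.mem_centralizer_iff.mp hc x hx, mul_inv_cancel_right]

theorem map_char_eq {X : Type u} [Group X] {K : Subgroup X} {g : X}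
    (hg : g ∈ Subgroup.normalizer (K : Set X)) (M : Subgroup K) [M.Characteristic] :
    (M.map K.subtype).map (MulAut.conj g).toMonoidHom = M.map K.subtype := by
  have e : K.subtype.comp (K.normalizerMonoidHom ⟨g, hg⟩).toMonoidHom =
      (MulAut.conj g).toMonoidHom.comp K.subtype := MonoidHom.ext fun _ => rfl
  rw [Subgroup.map_map, ← e, ← Subgroup.map_map,
    Subgroup.characteristic_iff_map_eq.mp inferInstance (K.normalizerMonoidHom ⟨g, hg⟩)]

theorem nilpotent_fpf_aux {p : ℕ} [Fact p.Prime] :
    ∀ (n : ℕ) (X : Type u) [Group X] [Finite X] (K : Subgroup X) (b : X), Nat.card K = n →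
      b ^ p = 1 → b ∈ Subgroup.normalizer (K : Set X) → K ⊓ Subgroup.centralizer {b} = ⊥ →
      Group.IsNilpotent K := by
  intro n
  induction n using Nat.strong_induction_on with
  | _ n ih =>
  intro X _ _ K b hn hb hbK hfpf
  suffices hs : Group.IsSolvable K from isNilpotent_of_fpf_prime K hs hb hbK hfpf
  have hbp : IsPGroup p (Subgroup.zpowers b) := by
    obtain ⟨m, -, hm⟩ := (Nat.dvd_prime_pow (Fact.out : p.Prime)).mp
      (orderOf_dvd_of_pow_eq_one (show b ^ p ^ 1 = 1 by simpa using hb))
    exact IsPGroup.of_card (n := m) (by rw [Nat.card_zpowers, hm])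
  have hbK' : Subgroup.zpowers b ≤ Subgroup.normalizer (K : Set X) := Subgroup.zpowers_le.mpr hbK
  have hKp : ¬ p ∣ Nat.card K :=
    not_dvd_card_of_fpf hbp hbK' (by rw [← centralizer_singleton_eq_zpowers]; exact hfpf)
  have hcop : (Nat.card (Subgroup.zpowers b)).Coprime (Nat.card K) := by
    rw [Nat.card_zpowers]
    exact Nat.Coprime.coprime_dvd_left
      (orderOf_dvd_of_pow_eq_one hb) ((Fact.out : p.Prime).coprime_iff_not_dvd.mpr hKp)
  have hbsolv : Group.IsSolvable (Subgroup.zpowers b) := Group.isSolvable_of_comm mul_comm'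
  have hsmall : ∀ H : Subgroup X, H ≤ K → H ≠ K → b ∈ Subgroup.normalizer (H : Set X) →
      Group.IsNilpotent H := by
    intro H hHK hne hbH
    refine ih _ ?_ X H b rfl hb hbH (le_bot_iff.mp (hfpf ▸ inf_le_inf_right _ hHK))
    rw [← hn]
    exact lt_of_not_ge fun h => hne (Subgroup.eq_of_le_of_card_ge hHK h)
  by_cases hodd : ∃ q, q.Prime ∧ q ≠ 2 ∧ q ∣ Nat.card K
  swap
  · push Not at hodd
    rcases eq_or_ne K ⊥ with rfl | hK1
    · exact Group.isSolvable_of_comm fun x y => Subsingleton.elim _ _
    have h2 : IsPGroup 2 K := by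
      refine IsPGroup.of_card (n := (Nat.card K).primeFactorsList.length) ?_
      refine Nat.eq_prime_pow_of_unique_prime_dvd (Nat.card_pos (α := K)).ne' fun {q} hq hqd => ?_
      by_contra hq2
      exact hodd q hq hq2 hqd
    have := Fact.mk Nat.prime_two
    exact @IsNilpotent.to_isSolvable _ _ h2.isNilpotent
  obtain ⟨q, hq, hq2, hqd⟩ := hodd
  have := Fact.mk hq
  obtain ⟨S, hS, hbS⟩ := exists_invariant_sylow (Subgroup.zpowers b) K hbK' hcop (Or.inl hbsolv) q
  have hSne : S ≠ ⊥ := fun e => hS.2.2 (by rw [e, Subgroup.relIndex_bot_left]; exact hqd)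
  set N := Subgroup.normalizer (K : Set X)
  -- normalizers of the functor values
  by_cases hnor : ∃ i : Bool, K ≤ Subgroup.normalizer
      (Cfsg.inducedFunctor (thompsonFamily.{u} q i) S : Set X)
  · obtain ⟨i, hi⟩ := hnor
    set N0 := Cfsg.inducedFunctor (thompsonFamily.{u} q i) S
    have hN0K : N0 ≤ K := (Invol.inducedFunctor_le _ _).trans hS.1
    have hN0ne : N0 ≠ ⊥ := Invol.inducedFunctor_ne_bot (thompsonFamily_isCharPFunctor i) hS.2.1 hSne
    have hN0p : IsPGroup q N0 := hS.2.1.to_le (Invol.inducedFunctor_le _ _)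
    have hbN0 : b ∈ Subgroup.normalizer (N0 : Set X) :=
      le_normalizer_inducedFunctor (thompsonFamily_isCharPFunctor i) hS.2.1
        (hbS (Subgroup.mem_zpowers b))
    set Y := Subgroup.normalizer (N0 : Set X)
    have hn0 : (N0.subgroupOf Y).Normal := Subgroup.normal_in_normalizer
    let π := QuotientGroup.mk' (N0.subgroupOf Y)
    set K' := (K.subgroupOf Y).map π
    have hKY : Nat.card (K.subgroupOf Y) = Nat.card K :=
      Nat.card_congr (Subgroup.subgroupOfEquivOfLe hi).toEquiv
    have hle : N0.subgroupOf Y ≤ K.subgroupOf Y := Subgroup.comap_mono hN0K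
    have hN0Y : N0.subgroupOf Y ≠ ⊥ := fun e => hN0ne (by
      rw [← Subgroup.map_subgroupOf_eq_of_le (Subgroup.le_normalizer : N0 ≤ Y), e, Subgroup.map_bot])
    have hker : π.ker ≤ K.subgroupOf Y := by rw [QuotientGroup.ker_mk']; exact hle
    have hK'lt : Nat.card K' < n := by
      rw [← hn, ← hKY]
      have h1 : K'.index = (K.subgroupOf Y).index :=
        Subgroup.index_map_eq _ (QuotientGroup.mk'_surjective _) hker
      refine Nat.lt_of_mul_lt_mul_right (a := (K.subgroupOf Y).index) ?_
      rw [Subgroup.card_mul_index, ← h1, Subgroup.card_mul_index]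
      exact card_quotient_lt hN0Y
    let bY : Y := ⟨b, hbN0⟩
    have hbKY : bY ∈ Subgroup.normalizer ((K.subgroupOf Y : Subgroup Y) : Set Y) :=
      Subgroup.mem_normalizer_iff.mpr fun y => Subgroup.mem_normalizer_iff.mp hbK (y : X)
    have hbK'n : π bY ∈ Subgroup.normalizer (K' : Set (Y ⧸ N0.subgroupOf Y)) :=
      Subgroup.le_normalizer_map π ⟨bY, hbKY, rfl⟩
    have hfix' : K' ⊓ Subgroup.centralizer {π bY} = ⊥ := by
      rw [eq_bot_iff]
      rintro _ ⟨⟨k, hk, rfl⟩, hc⟩
      have hcomm : π bY * π k = π k * π bY := Subgroup.mem_centralizer_iff.mp hc _ rfl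
      have hmem : ∀ a ∈ Subgroup.zpowers bY, ⁅a, k⁆ ∈ N0.subgroupOf Y := by
        intro a ha
        obtain ⟨i, rfl⟩ := Subgroup.mem_zpowers_iff.mp ha
        refine (QuotientGroup.eq_one_iff _).mp ?_
        show π ⁅bY ^ i, k⁆ = 1
        rw [map_commutatorElement, map_zpow, commutatorElement_eq_one_iff_mul_comm]
        exact ((show Commute (π bY) (π k) from hcomm).zpow_left i).eq
      obtain ⟨c, hc, hkc⟩ := exists_fixed_rep (Subgroup.zpowers b) K N0 hbK'
        (inf_eq_bot_of_coprime hcop) (hcop.coprime_dvd_right (Subgroup.card_dvd_of_le hN0K))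
        (Or.inl hbsolv) hN0K hi (Subgroup.zpowers_le.mpr hbN0) (k := (k : X)) hk
        (fun a ha => by
          obtain ⟨i, rfl⟩ := Subgroup.mem_zpowers_iff.mp ha
          have := hmem (bY ^ i) (Subgroup.zpow_mem _ (Subgroup.mem_zpowers _) i)
          simpa [Subgroup.mem_subgroupOf, commutatorElement_def, bY] using this)
      rw [← centralizer_singleton_eq_zpowers, hfpf, Subgroup.mem_bot] at hc
      rw [hc, mul_one] at hkc
      exact (QuotientGroup.eq_one_iff _).mpr (inv_mem_iff.mp hkc : (k : X) ∈ N0)
    have hK'n := ih _ hK'lt _ K' (π bY) rfl (by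
      rw [← map_pow, show bY ^ p = 1 from Subtype.ext (by simpa [bY] using hb), map_one]) hbK'n hfix'
    have hs' : Group.IsSolvable K' := @IsNilpotent.to_isSolvable _ _ hK'n
    have hs0 : Group.IsSolvable (N0.subgroupOf Y) :=
      isSolvable_of_injective (Subgroup.subgroupOfEquivOfLe Subgroup.le_normalizer).toMonoidHom
        (MulEquiv.injective _) (@IsNilpotent.to_isSolvable _ _ hN0p.isNilpotent)
    have hs1 : Group.IsSolvable (K.subgroupOf Y) :=
      Group.isSolvable_of_ker_le_range (Subgroup.inclusion hle) (π.subgroupMap (K.subgroupOf Y))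
        (fun x hx => by
          have : (x : Y) ∈ N0.subgroupOf Y :=
            (QuotientGroup.eq_one_iff _).mp (congrArg Subtype.val (MonoidHom.mem_ker.mp hx))
          exact ⟨⟨x, this⟩, rfl⟩)
    exact isSolvable_of_injective (Subgroup.subgroupOfEquivOfLe hi).symm.toMonoidHom
      (MulEquiv.injective _) hs1
  · -- both normalizers are proper, so `K` has a normal `q`-complement
    push Not at hnor
    obtain ⟨T, hT⟩ := isSylowIn_iff.mp hS
    have hproper : ∀ i : Bool, Cfsg.HasNormalPComplement q ↥(Subgroup.normalizer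
        (Cfsg.inducedFunctor (thompsonFamily.{u} q i) (T : Subgroup K) : Set K)) := by
      intro i
      set A := Cfsg.inducedFunctor (thompsonFamily.{u} q i) (T : Subgroup K)
      have hAS : A.map K.subtype = Cfsg.inducedFunctor (thompsonFamily.{u} q i) S := by
        rw [← hT, Invol.inducedFunctor_map (thompsonFamily_isCharPFunctor i) T.isPGroup' K.subtype
          (fun x _ hx => K.subtype_injective (hx.trans (map_one _).symm))]
      set H := K ⊓ Subgroup.normalizer (A.map K.subtype : Set X)
      have hbA : b ∈ Subgroup.normalizer (A.map K.subtype : Set X) := by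
        rw [hAS]
        exact le_normalizer_inducedFunctor (thompsonFamily_isCharPFunctor i) hS.2.1
          (hbS (Subgroup.mem_zpowers b))
      have hHn : Group.IsNilpotent H := hsmall H inf_le_left
        (fun e => hnor i (hAS ▸ (e.ge.trans inf_le_right)))
        (le_normalizer_inf' (A := Subgroup.zpowers b) hbK'
          ((Subgroup.zpowers_le.mpr hbA).trans Subgroup.le_normalizer) (Subgroup.mem_zpowers b))
      let f : Subgroup.normalizer (A : Set K) →* H :=
        (K.subtype.comp (Subgroup.normalizer (A : Set K)).subtype).codRestrict H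
          fun x => ⟨(x : K).2, Subgroup.le_normalizer_map K.subtype ⟨x, x.2, rfl⟩⟩
      have hf : Function.Injective f := fun x y hxy =>
        Subtype.ext (Subtype.ext (congrArg (fun t : H => (t : X)) hxy))
      exact Transfer.hasNormalPComplement_of_injective f hf
        (hasNormalPComplement_of_nilpotent hHn)
    have hNPC := hasNormalPComplement_of_thompson hq2 T (hproper false) (hproper true)
    obtain ⟨M, hMn, hMd, k, hMi⟩ := Transfer.hasNormalPComplement_iff_exists.mp hNPC
    have hMchar : M.Characteristic := by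
      rw [Transfer.eq_pResidual hMd hMi]
      exact Transfer.pResidual_characteristic q K
    have hbM : b ∈ Subgroup.normalizer (M.map K.subtype : Set X) := by
      rw [mem_normalizer_iff_smul, ← map_conj_eq_smul]
      exact map_char_eq hbK M
    have hMne : M.map K.subtype ≠ K := fun e => hMd (by
      rw [← Subgroup.card_map_of_injective K.subtype_injective (K := M), e]; exact hqd)
    have hMn' := hsmall _ (Subgroup.map_subtype_le M) hMne hbM
    have hMs : Group.IsSolvable M :=
      isSolvable_of_injective (Subgroup.equivMapOfInjective M _ K.subtype_injective).toMonoidHom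
        (MulEquiv.injective _) (@IsNilpotent.to_isSolvable _ _ hMn')
    have hq' : IsPGroup q (K ⧸ M) := IsPGroup.of_card (n := k) (by rw [← Subgroup.index_eq_card, hMi])
    exact (Group.isSolvable_iff_subgroup_quotient M).mpr
      ⟨hMs, @IsNilpotent.to_isSolvable _ _ hq'.isNilpotent⟩

/-- Thompson's theorem on fixed-point-free operators of prime order. -/
theorem isNilpotent_of_fpf {X : Type u} [Group X] [Finite X] {p : ℕ} [Fact p.Prime] {K : Subgroup X}
    {b : X} (hb : b ^ p = 1) (hbK : b ∈ Subgroup.normalizer (K : Set X))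
    (hfpf : K ⊓ Subgroup.centralizer {b} = ⊥) : Group.IsNilpotent K :=
  nilpotent_fpf_aux _ X K b rfl hb hbK hfpf

/-- Thompson's theorem for automorphisms. -/
theorem isNilpotent_of_fpf_aut {G : Type u} [Group G] [Finite G] {p : ℕ} [Fact p.Prime]
    (φ : MulAut G) (hord : φ ^ p = 1) (hfix : ∀ g : G, φ g = g → g = 1) : Group.IsNilpotent G := by
  let A := Subgroup.zpowers φ
  have hAfin : Finite A := Nat.finite_of_card_ne_zero (by
    rw [Nat.card_zpowers]
    exact fun h => (Fact.out : p.Prime).ne_zero (Nat.eq_zero_of_zero_dvd (h ▸ orderOf_dvd_of_pow_eq_one hord)))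
  let X := SemidirectProduct G A A.subtype
  have : Finite X := Finite.of_equiv _ SemidirectProduct.equivProd.symm
  let ι : G →* X := SemidirectProduct.inl
  let a : A := ⟨φ, Subgroup.mem_zpowers φ⟩
  let b : X := SemidirectProduct.inr a
  have hn : ι.range.Normal := by
    show (SemidirectProduct.inl : G →* X).range.Normal
    rw [SemidirectProduct.range_inl_eq_ker_rightHom]
    infer_instance
  have h := isNilpotent_of_fpf (p := p) (K := ι.range) (b := b)
    (by rw [← map_pow, show a ^ p = 1 from Subtype.ext (by simpa [a] using hord), map_one])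
    (Subgroup.le_normalizer_of_normal (Subgroup.mem_top b)) (by
      rw [eq_bot_iff]
      rintro _ ⟨⟨g, rfl⟩, hc⟩
      have h1 := Subgroup.mem_centralizer_iff.mp hc b rfl
      rw [Subgroup.mem_bot, hfix g ?_, map_one]
      refine SemidirectProduct.inl_injective (φ := A.subtype) ?_
      show SemidirectProduct.inl (A.subtype a g) = _
      rw [SemidirectProduct.inl_aut, h1, map_inv, mul_inv_cancel_right])
  exact Group.nilpotent_of_mulEquiv (_h := h) (MonoidHom.ofInjective SemidirectProduct.inl_injective).symm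

end Cfsg.Agent.Grp
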