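import Mathlib
import Cfsg.Agent.Lib.Recog.Frobenius
import Cfsg.Agent.Lib.Char.Kernel
import Cfsg.Agent.Lib.Grp.FpfPrime

/-!
Frobenius's theorem on Frobenius kernels, and their nilpotency.
-/

set_option autoImplicit false

namespace Cfsg.Agent.Grp

open scoped ComplexConjugate
open Cfsg

universe u

variable {G : Type u} [Group G] [Fintype G] {H : Subgroup G}

/-- The exceptional character attached to a function on the complement. -/
noncomputable def frobExt (H : Subgroup G) (θ : H → ℂ) : G → ℂ :=
  indFun H (fun h => θ h - θ 1) + fun _ => θ 1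

theorem indFun_zero_at_one_apply (hH : IsFrobeniusComplement H) {f : H → ℂ}
    (hf : IsClassFunction H f) (hf1 : f 1 = 0) (h : H) : indFun H f (h : G) = f h := by
  classical
  have hzero : ∀ x : G, x ∉ H → extendByZero H f (x⁻¹ * (h : G) * x) = 0 := by
    intro x hx
    by_cases hm : x⁻¹ * (h : G) * x ∈ H
    · rw [Char.extendByZero_of_mem f hm]
      have h1 : (h : G) = 1 := Frob.eq_one_of_conj_mem hH (g := x⁻¹)
        (fun hxi => hx (by simpa using H.inv_mem hxi)) h.2 (by simpa using hm)
      rw [show (⟨x⁻¹ * (h : G) * x, hm⟩ : H) = 1 from Subtype.ext (by simp [h1]), hf1]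
    · exact Char.extendByZero_not_mem f hm
  have hval : ∀ x ∈ H, extendByZero H f (x⁻¹ * (h : G) * x) = f h := by
    intro x hx
    have hm : x⁻¹ * (h : G) * x ∈ H := H.mul_mem (H.mul_mem (H.inv_mem hx) h.2) hx
    rw [Char.extendByZero_of_mem f hm, ← hf h ⟨x⁻¹, H.inv_mem hx⟩]
    exact congrArg f (Subtype.ext (by simp))
  unfold indFun
  rw [← Finset.sum_filter_add_sum_filter_not Finset.univ (fun x : G => x ∈ H),
    Finset.sum_eq_zero (s := Finset.univ.filter fun x : G => ¬ x ∈ H)
      (fun x hx => hzero x (Finset.mem_filter.mp hx).2), add_zero,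
    Finset.sum_congr rfl (fun x hx => hval x (Finset.mem_filter.mp hx).2), Finset.sum_const,
    ← Fintype.card_subtype, nsmul_eq_mul, ← Nat.card_eq_fintype_card, ← mul_assoc,
    inv_mul_cancel₀ (Nat.cast_ne_zero.mpr Nat.card_pos.ne'), one_mul]

theorem frobExt_apply (hH : IsFrobeniusComplement H) {θ : H → ℂ} (hθ : IsClassFunction H θ) (h : H) :
    frobExt H θ (h : G) = θ h := by
  show indFun H (fun h => θ h - θ 1) (h : G) + θ 1 = θ h
  rw [indFun_zero_at_one_apply hH (fun g k => by simp [hθ g k]) (sub_self _), sub_add_cancel]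

theorem frobExt_kernel {θ : H → ℂ} {x : G} (hx : x ∈ frobeniusKernel H) :
    frobExt H θ x = θ 1 := by
  show indFun H (fun h => θ h - θ 1) x + θ 1 = θ 1
  rw [Char.indFun_eq_zero_of_not_conj H _ ?_, zero_add]
  intro y hy
  rcases hx with rfl | hx
  · rw [show (⟨y⁻¹ * 1 * y, hy⟩ : H) = 1 from Subtype.ext (by simp), sub_self]
  · exact absurd ((Frob.mem_smul_conj_iff y x).mpr hy) (hx y)

theorem frobExt_irr (hH : IsFrobeniusComplement H) [Fintype H] {θ : H → ℂ}
    (hθ : IsIrrCharacter H θ) : IsIrrCharacter G (frobExt H θ) := by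
  classical
  have hθc : IsClassFunction H θ := Char.IsIrr.classFun hθ
  obtain ⟨d, hd, hθ1⟩ := Char.IsIrr.one_eq_pos hθ
  set f : H → ℂ := fun h => θ h - θ 1 with hf
  have hf1 : f 1 = 0 := sub_self _
  have hfc : IsClassFunction H f := fun g k => by simp [hf, hθc g k]
  have hFc : IsClassFunction G (indFun H f) := Char.indFun_classFun H f
  have hone : IsClassFunction G (fun _ : G => θ 1) := fun _ _ => rfl
  have hψc : IsClassFunction G (frobExt H θ) := Char.classFunction_add hFc hone
  -- inner products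
  have hres : (fun h : H => indFun H f (h : G)) = f :=
    funext fun h => indFun_zero_at_one_apply hH hfc hf1 h
  have hnorm : classInner (frobExt H θ) (frobExt H θ) = 1 := by
    have e1 : classInner (indFun H f) (indFun H f) = classInner f f := by
      rw [Char.classInner_indFun H f hFc, hres]
    have e2 : classInner (indFun H f) (fun _ : G => θ 1) = classInner f (fun _ : H => θ 1) :=
      Char.classInner_indFun H f hone
    have e3 : classInner (fun _ : G => θ 1) (indFun H f) = classInner (fun _ : H => θ 1) f := by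
      rw [← Char.classInner_conj_symm, e2, Char.classInner_conj_symm]
    have e4 : classInner (fun _ : G => θ 1) (fun _ : G => θ 1) =
        classInner (fun _ : H => θ 1) (fun _ : H => θ 1) := by
      unfold classInner
      simp only [Finset.sum_const, Finset.card_univ, nsmul_eq_mul, ← Nat.card_eq_fintype_card]
      rw [inv_mul_cancel_left₀ (Nat.cast_ne_zero.mpr Nat.card_pos.ne'),
        inv_mul_cancel_left₀ (Nat.cast_ne_zero.mpr Nat.card_pos.ne')]
    have e5 : θ = f + fun _ : H => θ 1 := funext fun h => by simp [hf]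
    have e6 := Char.classInner_self_irr hθ
    rw [e5, Char.classInner_add_left, Char.classInner_add_right, Char.classInner_add_right] at e6
    show classInner (indFun H f + fun _ => θ 1) (indFun H f + fun _ => θ 1) = 1
    rw [Char.classInner_add_left, Char.classInner_add_right, Char.classInner_add_right, e1, e2, e3, e4]
    have e7 : ((f + fun _ : H => θ 1) 1) = θ 1 := by simp [hf1]
    exact e6
  -- integrality
  have hint : ∀ χ : IrrCharacter G, ∃ z : ℤ, classInner (frobExt H θ) (χ : G → ℂ) = z := by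
    intro χ
    have hχc := Char.IsIrr.classFun χ.2
    have hres' : IsCharacter H (fun h : H => (χ : G → ℂ) h) :=
      Char.IsChar.res (Char.IsIrr.isCharacter χ.2) H
    obtain ⟨a, ha⟩ := Char.IsChar.classInner_nat (Char.IsIrr.isCharacter hθ) hres'
    obtain ⟨b, hb⟩ := Char.IsChar.classInner_nat (Char.IsChar.one (G := H)) hres'
    obtain ⟨c, hc⟩ := Char.IsChar.classInner_nat (Char.IsChar.one (G := G)) (Char.IsIrr.isCharacter χ.2)
    refine ⟨(a : ℤ) - d * b + d * c, ?_⟩
    show classInner (indFun H f + fun _ => θ 1) _ = _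
    rw [Char.classInner_add_left, Char.classInner_indFun H f hχc]
    have e8 : f = θ - θ 1 • (fun _ : H => (1 : ℂ)) := funext fun h => by simp [hf]
    have e9 : (fun _ : G => θ 1) = θ 1 • (fun _ : G => (1 : ℂ)) := funext fun g => by simp
    rw [e8, e9, Char.classInner_sub_left, Char.classInner_smul_left, Char.classInner_smul_left,
      ha, hb, hc, hθ1]
    push_cast
    ring
  choose z hz using hint
  have hexp := Char.classFunction_expansion hψc
  have hsum : ∑ χ : IrrCharacter G, z χ ^ 2 = 1 := by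
    have h1 := hnorm
    rw [hexp] at h1
    rw [Char.classInner_sum_sum] at h1
    simp only [hz, map_intCast] at h1
    have h2 : ((∑ χ : IrrCharacter G, z χ ^ 2 : ℤ) : ℂ) = 1 := by
      rw [← h1]; push_cast; exact Finset.sum_congr rfl fun χ _ => sq _
    exact_mod_cast h2
  obtain ⟨φ, hφ⟩ : ∃ φ, z φ ≠ 0 := by
    by_contra hc
    push Not at hc
    simp [hc] at hsum
  have hle : ∀ χ, z χ ^ 2 ≤ 1 := fun χ =>
    hsum ▸ Finset.single_le_sum (f := fun x => z x ^ 2) (fun x _ => sq_nonneg _) (Finset.mem_univ χ)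
  have hφ1 : z φ = 1 ∨ z φ = -1 := by
    have := hle φ
    have h3 : -1 ≤ z φ ∧ z φ ≤ 1 := ⟨by nlinarith, by nlinarith⟩
    omega
  have hother : ∀ χ, χ ≠ φ → z χ = 0 := by
    intro χ hne
    have := Finset.sum_le_sum_of_subset_of_nonneg (f := fun x => z x ^ 2) (Finset.subset_univ {φ, χ})
      (fun x _ _ => sq_nonneg _)
    rw [Finset.sum_pair hne.symm, hsum] at this
    have : z φ ^ 2 = 1 := by rcases hφ1 with h | h <;> simp [h]
    nlinarith [sq_nonneg (z χ)]
  have hψφ : frobExt H θ = (z φ : ℂ) • (φ : G → ℂ) := by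
    conv_lhs => rw [hexp]
    rw [Finset.sum_eq_single φ (fun χ _ hne => by rw [hz, hother χ hne]; simp) (by simp), hz]
  rcases hφ1 with h | h
  · rw [hψφ, h]; simpa using φ.2
  · exfalso
    obtain ⟨m, hm, hm1⟩ := Char.IsIrr.one_eq_pos φ.2
    have h1 := frobExt_apply hH hθc 1
    rw [hψφ, Pi.smul_apply, Subgroup.coe_one, hm1, hθ1, h, smul_eq_mul] at h1
    have : (-(m : ℤ) : ℤ) = d := by
      have : ((-(m : ℤ) : ℤ) : ℂ) = ((d : ℤ) : ℂ) := by push_cast at h1 ⊢; rw [← h1]; ring
      exact_mod_cast this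
    omega

/-- Frobenius's theorem: the kernel is a subgroup. -/
theorem exists_frobenius_kernel (hH : IsFrobeniusComplement H) :
    ∃ N : Subgroup G, (N : Set G) = frobeniusKernel H := by
  classical
  have : Fintype H := Fintype.ofFinite H
  let N : Subgroup G :=
    { carrier := {x | ∀ θ : IrrCharacter H, frobExt H θ x = (θ : H → ℂ) 1}
      one_mem' := fun θ => by
        have := frobExt_apply hH (Char.IsIrr.classFun θ.2) 1
        rwa [Subgroup.coe_one] at this
      mul_mem' := fun {x y} hx hy θ => by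
        obtain ⟨n, ρ, _, hρ⟩ := frobExt_irr hH θ.2
        have h1 : ρ.character 1 = (θ : H → ℂ) 1 := by
          rw [hρ]
          have := frobExt_apply hH (Char.IsIrr.classFun θ.2) 1
          rwa [Subgroup.coe_one] at this
        rw [Representation.char_one] at h1
        have h2 : ∀ w, frobExt H θ w = (θ : H → ℂ) 1 ↔ ρ w = 1 := fun w => by
          rw [← hρ, ← h1]; exact Char.character_eq_finrank_iff ρ w
        rw [h2, map_mul, (h2 x).mp (hx θ), (h2 y).mp (hy θ)]
        rfl
      inv_mem' := fun {x} hx θ => by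
        have h := Char.IsIrr.apply_inv (frobExt_irr hH θ.2) x
        rw [h, hx θ]
        obtain ⟨d, -, hd⟩ := Char.IsIrr.one_eq_pos θ.2
        rw [hd, Complex.conj_natCast] }
  refine ⟨N, Set.ext fun x => ⟨fun hx => ?_, fun hx θ => frobExt_kernel hx⟩⟩
  by_contra hxK
  obtain ⟨hx1, g, hg⟩ := Frob.exists_conj_mem_of_notMem_kernel hxK
  refine hx1 ?_
  have hconj : IsConj (⟨g⁻¹ * x * g, hg⟩ : H) 1 := by
    refine (Char.isConj_iff_irr _ _).mpr fun θ => ?_
    have h1 := frobExt_apply hH (Char.IsIrr.classFun θ.2) ⟨g⁻¹ * x * g, hg⟩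
    rw [← h1, ← hx θ]
    exact Char.IsClass.eq_of_isConj (Char.IsIrr.classFun (frobExt_irr hH θ.2))
      (isConj_iff.mpr ⟨g, by group⟩)
  have h1 : g⁻¹ * x * g = 1 := congrArg Subtype.val (isConj_one_left.mp hconj)
  calc x = g * (g⁻¹ * x * g) * g⁻¹ := by group
    _ = 1 := by rw [h1, mul_one, mul_inv_cancel]

/-- The Frobenius kernel is a nilpotent normal complement. -/
theorem frobenius_kernel_spec (hH : IsFrobeniusComplement H) :
    ∃ N : Subgroup G, (N : Set G) = frobeniusKernel H ∧ N.Normal ∧ Subgroup.IsComplement' N H ∧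
      Group.IsNilpotent N := by
  obtain ⟨N, hN⟩ := exists_frobenius_kernel hH
  have hNn := Frob.kernel_normal hN
  refine ⟨N, hN, hNn, Frob.kernel_isComplement hH hN, ?_⟩
  obtain ⟨b, hb, hbp⟩ := exists_prime_order_mem hH.1
  have := Fact.mk hbp
  refine isNilpotent_of_fpf (pow_orderOf_eq_one b)
    (Subgroup.le_normalizer_of_normal (Subgroup.mem_top b)) ?_
  rw [← le_bot_iff, ← Frob.kernel_inf_eq_bot hN]
  exact inf_le_inf_left _ (Frob.centralizer_le hH hb fun e => hbp.ne_one (by rw [e, orderOf_one]))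

end Cfsg.Agent.Grp
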