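import Mathlib
import Cfsg.Agent.Lib.Grp.Signalizer

/-!
Transitivity of maximal q-members of a signalizer family, balance of `O_{p'}` of centralizers.
-/

namespace Cfsg.Agent.Grp

set_option linter.unusedSectionVars false

open scoped Pointwise commutatorElement
open Subgroup

variable {G : Type*} [Group G] {p : ℕ} [hp : Fact p.Prime] {A : Subgroup G}

/-- The normalizer condition inside a nilpotent subgroup. -/
theorem lt_inf_normalizer [Finite G] {P D : Subgroup G} (hP : Group.IsNilpotent P) (hDP : D < P) :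
    D < P ⊓ Subgroup.normalizer (D : Set G) := by
  have hnc := @Group.normalizerCondition_of_isNilpotent ↥P _ hP
  refine lt_of_le_of_ne (le_inf hDP.le Subgroup.le_normalizer) fun h => ?_
  have hlt := hnc (D.subgroupOf P) (lt_top_iff_ne_top.mpr fun e =>
    hDP.not_ge (Subgroup.subgroupOf_eq_top.mp e))
  obtain ⟨x, hx, hxD⟩ := Set.exists_of_ssubset hlt
  apply hxD
  show (x : G) ∈ D
  rw [h]
  refine ⟨x.2, Subgroup.mem_normalizer_iff.mpr fun y => ?_⟩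
  constructor
  · intro hy; exact (Subgroup.mem_normalizer_iff.mp hx ⟨y, hDP.le hy⟩).mp hy
  · intro hy
    have hy' : y ∈ P := by
      have := P.mul_mem (P.mul_mem (P.inv_mem x.2) (hDP.le hy)) x.2
      simpa [mul_assoc] using this
    exact (Subgroup.mem_normalizer_iff.mp hx ⟨y, hy'⟩).mpr hy

/-- Two invariant q-groups grow over their intersection inside a common centralizer. -/
theorem exists_two_sided [Finite G] (hA : Cfsg.IsElementaryAbelian p A)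
    (hA3 : p ^ 3 ≤ Nat.card A) {q : ℕ} [hq : Fact q.Prime] (hqp : q ≠ p) {Q₁ Q₂ : Subgroup G}
    (h₁ : IsPGroup q Q₁) (h₂ : IsPGroup q Q₂) (hA₁ : A ≤ Subgroup.normalizer (Q₁ : Set G))
    (hA₂ : A ≤ Subgroup.normalizer (Q₂ : Set G)) (hD₁ : Q₁ ⊓ Q₂ ≠ Q₁) (hD₂ : Q₁ ⊓ Q₂ ≠ Q₂) :
    ∃ a ∈ A, a ≠ 1 ∧
      ¬ (Subgroup.normalizer ((Q₁ ⊓ Q₂ : Subgroup G) : Set G) ⊓ Q₁ ⊓ Subgroup.centralizer {a} ≤ Q₁ ⊓ Q₂) ∧
      ¬ (Subgroup.normalizer ((Q₁ ⊓ Q₂ : Subgroup G) : Set G) ⊓ Q₂ ⊓ Subgroup.centralizer {a} ≤ Q₁ ⊓ Q₂) := by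
  set D := Q₁ ⊓ Q₂ with hDdef
  have hA1 : A ≠ ⊥ := ne_bot_of_card (by norm_num) hA3
  have hAD : A ≤ Subgroup.normalizer (D : Set G) := le_normalizer_inf' hA₁ hA₂
  have hAN : A ≤ Subgroup.normalizer ((Subgroup.normalizer (D : Set G) : Subgroup G) : Set G) :=
    hAD.trans Subgroup.le_normalizer
  have key : ∀ Q : Subgroup G, IsPGroup q Q → A ≤ Subgroup.normalizer (Q : Set G) → D < Q →
      ∃ B ≤ A, B.relIndex A = p ∧
        ¬ (Subgroup.normalizer (D : Set G) ⊓ Q) ⊓ Subgroup.centralizer (B : Set G) ≤ D := by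
    intro Q hQ hAQ hlt
    by_contra hcon
    push Not at hcon
    have h' := lt_inf_normalizer hQ.isNilpotent hlt
    rw [inf_comm Q] at h'
    refine h'.not_ge (le_of_hyperplanes hA hA1 _ ?_ (le_normalizer_inf' hAN hAQ) hcon)
    intro hdvd
    obtain ⟨n, hn⟩ := IsPGroup.iff_card.mp (hQ.to_le (inf_le_right :
      Subgroup.normalizer (D : Set G) ⊓ Q ≤ Q))
    rw [hn] at hdvd
    exact hqp (((Nat.prime_dvd_prime_iff_eq hp.out hq.out).mp (hp.out.dvd_of_dvd_pow hdvd)).symm)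
  obtain ⟨B₁, hB₁, hi₁, hn₁⟩ := key Q₁ h₁ hA₁ (lt_of_le_of_ne inf_le_left hD₁)
  obtain ⟨B₂, hB₂, hi₂, hn₂⟩ := key Q₂ h₂ hA₂ (lt_of_le_of_ne inf_le_right hD₂)
  obtain ⟨a, ⟨ha1, ha2⟩, hane⟩ := elemAb_exists_mem_inf hA hA3 hB₁ hB₂ hi₁ hi₂
  refine ⟨a, hB₁ ha1, hane, fun h => hn₁ ?_, fun h => hn₂ ?_⟩
  · exact (inf_le_inf_left _ (Subgroup.centralizer_le (Set.singleton_subset_iff.mpr ha1))).trans h
  · exact (inf_le_inf_left _ (Subgroup.centralizer_le (Set.singleton_subset_iff.mpr ha2))).trans h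

/-- A maximal `q`-member of the family. -/
def IsMaxQMember (p q : ℕ) (A : Subgroup G) (θ : G → Subgroup G) (Q : Subgroup G) : Prop :=
  Q ∈ Cfsg.signalizerFamily p A θ ∧ IsPGroup q Q ∧
    ∀ R ∈ Cfsg.signalizerFamily p A θ, IsPGroup q R → Q ≤ R → R = Q

variable {θ : G → Subgroup G} {q : ℕ}

theorem exists_maxQMember [Finite G] {U : Subgroup G} (hU : U ∈ Cfsg.signalizerFamily p A θ)
    (hUq : IsPGroup q U) : ∃ Q, IsMaxQMember p q A θ Q ∧ U ≤ Q := by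
  obtain ⟨Q, ⟨h1, h2, h3⟩, hmax⟩ :=
    Set.Finite.exists_maximalFor id {R | R ∈ Cfsg.signalizerFamily p A θ ∧ IsPGroup q R ∧ U ≤ R}
      (Set.toFinite _) ⟨U, hU, hUq, le_rfl⟩
  exact ⟨Q, ⟨h1, h2, fun R hR hRq hle => le_antisymm (hmax ⟨hR, hRq, h3.trans hle⟩ hle) hle⟩, h3⟩

theorem IsMaxQMember.conj [Finite G] (hA1 : A ≠ ⊥) (hθ : Cfsg.IsSignalizerFunctor p A θ)
    {Q : Subgroup G} (hQ : IsMaxQMember p q A θ Q) {c : G} (hc : c ∈ Cfsg.signalizerInf A θ) :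
    IsMaxQMember p q A θ (MulAut.conj c • Q) := by
  refine ⟨family_conj hA1 hθ hQ.1 hc,
    hQ.2.1.map (MulAut.conj c).toMonoidHom, fun R hR hRq hle => ?_⟩
  have hle' : Q ≤ MulAut.conj c⁻¹ • R := by
    have := Subgroup.pointwise_smul_le_pointwise_smul_iff (a := MulAut.conj c⁻¹) |>.mpr hle
    rwa [conj_smul_conj_smul, inv_mul_cancel, map_one, one_smul] at this
  have := hQ.2.2 _ (family_conj hA1 hθ hR (Subgroup.inv_mem _ hc))
    (hRq.map (MulAut.conj c⁻¹).toMonoidHom) hle'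
  rw [← this, conj_smul_conj_smul, mul_inv_cancel, map_one, one_smul]

/-- Thompson's transitivity theorem for maximal `q`-members. -/
theorem maxQMember_conj [Finite G] (hA : Cfsg.IsElementaryAbelian p A)
    (hA3 : p ^ 3 ≤ Nat.card A) (hθ : Cfsg.IsSolvableSignalizerFunctor p A θ) [hq : Fact q.Prime] :
    ∀ {Q₁ Q₂ : Subgroup G}, IsMaxQMember p q A θ Q₁ → IsMaxQMember p q A θ Q₂ →
      ∃ c ∈ Cfsg.signalizerInf A θ, MulAut.conj c • Q₁ = Q₂ := by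
  have hA1 : A ≠ ⊥ := ne_bot_of_card (by norm_num) hA3
  suffices H : ∀ n, ∀ {Q₁ Q₂ : Subgroup G}, IsMaxQMember p q A θ Q₁ → IsMaxQMember p q A θ Q₂ →
      Nat.card G - Nat.card ↥(Q₁ ⊓ Q₂) = n → ∃ c ∈ Cfsg.signalizerInf A θ, MulAut.conj c • Q₁ = Q₂ from
    fun {_ _} h1 h2 => H _ h1 h2 rfl
  intro n
  induction n using Nat.strong_induction_on with
  | _ n ih =>
  intro Q₁ Q₂ h₁ h₂ hn
  by_cases hD₁ : Q₁ ⊓ Q₂ = Q₁
  · exact ⟨1, Subgroup.one_mem _, by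
      rw [map_one, one_smul]; exact (h₁.2.2 Q₂ h₂.1 h₂.2.1 (inf_eq_left.mp hD₁)).symm⟩
  by_cases hD₂ : Q₁ ⊓ Q₂ = Q₂
  · exact ⟨1, Subgroup.one_mem _, by
      rw [map_one, one_smul]; exact h₂.2.2 Q₁ h₁.1 h₁.2.1 (inf_eq_right.mp hD₂)⟩
  set D := Q₁ ⊓ Q₂ with hDdef
  have hN₁ := invariant_iff.mp h₁.1.2.2.1
  have hN₂ := invariant_iff.mp h₂.1.2.2.1
  have hAD : A ≤ Subgroup.normalizer (D : Set G) := le_normalizer_inf' hN₁ hN₂
  by_cases hq1 : Nat.card Q₁ = 1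
  · exact absurd (by rw [hDdef, Subgroup.card_eq_one.mp hq1, bot_inf_eq]) hD₁
  have hqp : q ≠ p := by
    intro h
    obtain ⟨m, hm⟩ := IsPGroup.iff_card.mp h₁.2.1
    apply h₁.1.2.1
    rw [hm, ← h]
    exact dvd_pow_self q fun h0 => hq1 (by rw [hm, h0, pow_zero])
  obtain ⟨a, ha, ha1, hg₁, hg₂⟩ := exists_two_sided hA hA3 hqp h₁.2.1 h₂.2.1 hN₁ hN₂ hD₁ hD₂
  set K := Subgroup.normalizer (D : Set G) ⊓ θ a
  have hK : K ∈ Cfsg.signalizerFamily p A θ :=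
    family_mono (theta_mem_family hθ ha ha1) inf_le_right
      (le_normalizer_inf' (hAD.trans Subgroup.le_normalizer) (IsSignalizer.invariant hθ.1 ha ha1))
  have hH : D ⊔ K ∈ Cfsg.signalizerFamily p A θ :=
    family_sup hA hθ (family_mono h₁.1 inf_le_left hAD) hK inf_le_left
  have hAH := invariant_iff.mp hH.2.2.1
  have grow : ∀ Q, IsMaxQMember p q A θ Q → D ≤ Q →
      ¬ Subgroup.normalizer (D : Set G) ⊓ Q ⊓ Subgroup.centralizer {a} ≤ D →
      ∃ S R, IsSylowIn q S (D ⊔ K) ∧ A ≤ Subgroup.normalizer (S : Set G) ∧ IsMaxQMember p q A θ R ∧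
        S ≤ R ∧ Nat.card D < Nat.card ↥(Q ⊓ R) ∧ Nat.card D < Nat.card S := by
    intro Q hQ hDQ hgr
    set P := Subgroup.normalizer (D : Set G) ⊓ Q ⊓ Subgroup.centralizer {a}
    have hPK : P ≤ K := le_inf (inf_le_left.trans inf_le_left)
      ((inf_le_inf_right _ inf_le_right).trans (hQ.1.2.2.2 a ha ha1))
    have hPQ : D ⊔ P ≤ Q := sup_le hDQ (inf_le_left.trans inf_le_right)
    have hPA : A ≤ Subgroup.normalizer ((D ⊔ P : Subgroup G) : Set G) := by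
      refine le_normalizer_sup' hAD (le_normalizer_inf' (le_normalizer_inf'
        (hAD.trans Subgroup.le_normalizer) (invariant_iff.mp hQ.1.2.2.1)) ?_)
      rw [centralizer_singleton_eq_zpowers]
      exact le_normalizer_centralizer_of_commute fun x hx y hy =>
        elemAb_comm hA x hx y (Subgroup.zpowers_le.mpr ha hy)
    obtain ⟨S, hS, hSA, hle⟩ := exists_invariant_sylow_ge A (D ⊔ K) hAH (family_coprime hA hH)
      (Or.inr hH.1) (sup_le_sup_left hPK D) (hQ.2.1.to_le hPQ) hPA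
    obtain ⟨R, hR, hSR⟩ := exists_maxQMember (family_mono hH hS.1 hSA) hS.2.1
    refine ⟨S, R, hS, hSA, hR, hSR, ?_, ?_⟩
    · exact not_le.mp fun hc => hgr ((le_sup_right.trans (le_inf hPQ (hle.trans hSR))).trans
        (Subgroup.eq_of_le_of_card_ge (le_inf hDQ (le_sup_left.trans (hle.trans hSR))) hc).ge)
    · exact not_le.mp fun hc => hgr ((le_sup_right.trans hle).trans
        (Subgroup.eq_of_le_of_card_ge (le_sup_left.trans hle) hc).ge)
  obtain ⟨S₁, R₁, hS₁, hSA₁, hR₁, hSR₁, hc₁, _⟩ := grow Q₁ h₁ inf_le_left hg₁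
  obtain ⟨S₂, R₂, hS₂, hSA₂, hR₂, hSR₂, hc₂, _⟩ := grow Q₂ h₂ inf_le_right hg₂
  obtain ⟨c, hc, hcS⟩ := invariant_sylow_conj A (D ⊔ K) hAH (family_coprime hA hH) (Or.inr hH.1)
    hS₁ hS₂ hSA₁ hSA₂
  have hcC : c ∈ Cfsg.signalizerInf A θ := family_centralizer_le hH le_rfl hc
  set R₃ := MulAut.conj c • R₁
  have hR₃ : IsMaxQMember p q A θ R₃ := hR₁.conj hA1 hθ.1 hcC
  have hS₂R₃ : S₂ ≤ R₃ := by
    rw [← hcS]; exact Subgroup.pointwise_smul_le_pointwise_smul_iff.mpr hSR₁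
  have hlt : ∀ {X Y : Subgroup G}, Nat.card D < Nat.card ↥(X ⊓ Y) →
      Nat.card G - Nat.card ↥(X ⊓ Y) < n := by
    intro X Y h
    rw [← hn]
    have := Subgroup.card_le_card_group (X ⊓ Y)
    omega
  obtain ⟨c₁, hcc₁, e₁⟩ := ih _ (hlt hc₁) h₁ hR₁ rfl
  have hc₂' : Nat.card D < Nat.card ↥(R₂ ⊓ Q₂) := by rw [inf_comm]; exact hc₂
  obtain ⟨c₂, hcc₂, e₂⟩ := ih _ (hlt hc₂') hR₂ h₂ rfl
  have hc₃ : Nat.card D < Nat.card ↥(R₃ ⊓ R₂) :=
    lt_of_lt_of_le (by assumption : Nat.card D < Nat.card S₂) (Subgroup.card_le_of_le (le_inf hS₂R₃ hSR₂))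
  obtain ⟨c₃, hcc₃, e₃⟩ := ih _ (hlt hc₃) hR₃ hR₂ rfl
  refine ⟨c₂ * c₃ * c * c₁, Subgroup.mul_mem _ (Subgroup.mul_mem _ (Subgroup.mul_mem _ hcc₂ hcc₃) hcC) hcc₁, ?_⟩
  rw [← conj_smul_conj_smul, ← conj_smul_conj_smul, ← conj_smul_conj_smul, e₁, e₃, e₂]

theorem maxQMember_inf_isSylowIn [Finite G] (hA : Cfsg.IsElementaryAbelian p A)
    (hA3 : p ^ 3 ≤ Nat.card A) (hθ : Cfsg.IsSolvableSignalizerFunctor p A θ) [hq : Fact q.Prime]
    {Q H : Subgroup G} (hQ : IsMaxQMember p q A θ Q) (hH : H ∈ Cfsg.signalizerFamily p A θ) :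
    ∃ c ∈ Cfsg.signalizerInf A θ, IsSylowIn q (MulAut.conj c • Q ⊓ H) H := by
  have hAH := invariant_iff.mp hH.2.2.1
  obtain ⟨S, hS, hSA⟩ := exists_invariant_sylow A H hAH (family_coprime hA hH) (Or.inr hH.1) q
  obtain ⟨R, hR, hSR⟩ := exists_maxQMember (family_mono hH hS.1 hSA) hS.2.1
  obtain ⟨c, hc, e⟩ := maxQMember_conj hA hA3 hθ hQ hR
  refine ⟨c, hc, ?_⟩
  rw [e, show R ⊓ H = S from
    (hS.eq_of_le (le_inf hSR hS.1) inf_le_right (hR.2.1.to_le inf_le_left)).symm]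
  exact hS

theorem maxQMember_inf_signalizerInf [Finite G] (hA : Cfsg.IsElementaryAbelian p A)
    (hA3 : p ^ 3 ≤ Nat.card A) (hθ : Cfsg.IsSolvableSignalizerFunctor p A θ) [hq : Fact q.Prime]
    {Q : Subgroup G} (hQ : IsMaxQMember p q A θ Q) {B : Subgroup G} (hB : B ≤ A) (hB1 : B ≠ ⊥) :
    IsSylowIn q (Q ⊓ Subgroup.centralizer (B : Set G)) (Cfsg.signalizerInf B θ) := by
  have hH := signalizerInf_mem_family hθ hB hB1
  obtain ⟨c, hc, hS⟩ := maxQMember_inf_isSylowIn hA hA3 hθ hQ hH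
  have hcH : c⁻¹ ∈ Cfsg.signalizerInf B θ := Subgroup.inv_mem _ (signalizerInf_anti hB hc)
  have hS' := hS.smul (g := c⁻¹) (conj_smul_eq_self_of_mem hcH)
  rw [Subgroup.smul_inf, conj_smul_conj_smul, inv_mul_cancel, map_one, one_smul,
    conj_smul_eq_self_of_mem hcH] at hS'
  have e : Q ⊓ Subgroup.centralizer (B : Set G) = Q ⊓ Cfsg.signalizerInf B θ := by
    refine le_antisymm (le_inf inf_le_left (family_centralizer_le hQ.1 hB)) (inf_le_inf_left _ ?_)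
    exact Subgroup.le_centralizer_iff.mp (signalizerInf_le_centralizer hθ.1 hB)
  rwa [e]

/-- `O_{p'}` of the centralizer of a `p`-element of a solvable group is in `O_{p'}`. -/
theorem centralizerPPrimeCore_le [Finite G] [Group.IsSolvable G] {x : G}
    (hx : IsPGroup p (Subgroup.zpowers x)) :
    Cfsg.centralizerPPrimeCore p x ≤ Cfsg.pPrimeCore p G := by
  have hn := pPrimeCore_isNormal (p := p) (G := G)
  set f := QuotientGroup.mk' (Cfsg.pPrimeCore p G)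
  set Cx := Subgroup.centralizer ({x} : Set G) with hCx
  have hXn := pPrimeCore_isNormal (p := p) (G := Cx)
  have hbot : Cfsg.pPrimeCore p (G ⧸ Cfsg.pPrimeCore p G) = ⊥ := pPrimeCore_quotient_bot
  have := pCore_isNormal (p := p) (G := G ⧸ Cfsg.pPrimeCore p G)
  have : Group.IsSolvable (G ⧸ Cfsg.pPrimeCore p G) :=
    Group.isSolvable_of_surjective (f := f) (QuotientGroup.mk'_surjective _)
  have himg : Cx.map f = Subgroup.centralizer ((Subgroup.zpowers x).map f : Set _) := by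
    rw [hCx, centralizer_singleton_eq_zpowers]; exact map_centralizer_pGroup hx
  rintro z ⟨y, hy, rfl⟩
  rw [← QuotientGroup.ker_mk' (Cfsg.pPrimeCore p G), MonoidHom.mem_ker]
  set g : Cx →* _ := f.comp Cx.subtype
  show g y = 1
  set Y := (Cfsg.pPrimeCore p Cx).map g
  have hYcop : (Nat.card Y).Coprime p :=
    (pPrimeCore_coprime (p := p) (G := Cx)).coprime_dvd_left (Subgroup.card_map_dvd _ g)
  have hyY : g y ∈ Y := ⟨y, hy, rfl⟩
  have hord : (orderOf (g y)).Coprime p := hYcop.coprime_dvd_left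
    ((Subgroup.orderOf_mk (g y) hyY).symm ▸ orderOf_dvd_natCard _)
  have h1 : g y ∈ Subgroup.centralizer
      (Cfsg.pCore p (G ⧸ Cfsg.pPrimeCore p G) : Set (G ⧸ Cfsg.pPrimeCore p G)) := by
    refine mem_centralizer_pCore (hx.map f) hord (himg ▸ Subgroup.mem_map_of_mem f y.2) ?_
    rintro u ⟨huC, huP⟩
    rw [← himg] at huP
    obtain ⟨w, hw, rfl⟩ := huP
    rw [Subgroup.mem_centralizer_iff]
    rintro t (rfl : t = g y)
    have hc1 : ⁅g y, f w⁆ ∈ Cfsg.pCore p (G ⧸ Cfsg.pPrimeCore p G) := by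
      rw [commutatorElement_def]
      exact Subgroup.mul_mem _ (Subgroup.Normal.conj_mem inferInstance _ huC _) (Subgroup.inv_mem _ huC)
    have hc2 : ⁅g y, f w⁆ ∈ Y := by
      refine ⟨⁅y, ⟨w, hw⟩⁆, ?_, by simp [g, commutatorElement_def]⟩
      rw [commutatorElement_def, mul_assoc, mul_assoc]
      refine Subgroup.mul_mem _ hy ?_
      rw [← mul_assoc]
      exact hXn.conj_mem _ (Subgroup.inv_mem _ hy) _
    obtain ⟨k, hk⟩ := IsPGroup.iff_card.mp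
      (pCore_isPGroup (p := p) (G := G ⧸ Cfsg.pPrimeCore p G))
    have hdisj := inf_eq_bot_of_coprime (H := Cfsg.pCore p (G ⧸ Cfsg.pPrimeCore p G)) (K := Y)
      (by rw [hk]; exact (hYcop.symm).pow_left k)
    have := (hdisj ▸ (Subgroup.mem_inf.mpr ⟨hc1, hc2⟩) : ⁅g y, f w⁆ ∈ (⊥ : Subgroup _))
    exact commutatorElement_eq_one_iff_mul_comm.mp (Subgroup.mem_bot.mp this)
  have h2 := centralizer_pCore_le hbot h1
  obtain ⟨k, hk⟩ := IsPGroup.iff_card.mp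
    (pCore_isPGroup (p := p) (G := G ⧸ Cfsg.pPrimeCore p G))
  have hdisj := inf_eq_bot_of_coprime (H := Cfsg.pCore p (G ⧸ Cfsg.pPrimeCore p G)) (K := Y)
    (by rw [hk]; exact (hYcop.symm).pow_left k)
  exact Subgroup.mem_bot.mp (hdisj ▸ Subgroup.mem_inf.mpr ⟨h2, hyY⟩)

end Cfsg.Agent.Grp
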