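import Mathlib
import Cfsg.Agent.S0144
import Cfsg.Agent.Lib.Grp.CoprimeAbelian
import Cfsg.Agent.Lib.Grp.SignalizerTransitive
import Cfsg.Agent.Lib.Grp.FpfPrime
import Cfsg.Agent.Lib.Transfer.Frobenius
import Cfsg.Agent.Lib.Transfer.NormalComplement

/-!
Groups in which every nontrivial element has prime order: structure of the Sylow subgroups, and the
local facts needed to identify the simple ones.
-/

set_option autoImplicit false
set_option linter.unusedSectionVars false

namespace Cfsg.Agent.Grp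

open Subgroup
open scoped commutatorElement IsMulCommutative

universe u

/-- Every nontrivial element has prime order. -/
def PrimeOrders (G : Type*) [Group G] : Prop := ∀ g : G, g ≠ 1 → (orderOf g).Prime

variable {G : Type u} [Group G]

theorem PrimeOrders.subgroup (hG : PrimeOrders G) (H : Subgroup G) : PrimeOrders H := fun g hg => by
  rw [← Subgroup.orderOf_coe]
  exact hG g (by simpa using hg)

theorem PrimeOrders.map {H : Type*} [Group H] (hG : PrimeOrders G) (f : G →* H)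
    (hf : Function.Surjective f) : PrimeOrders H := by
  intro h hh
  obtain ⟨g, rfl⟩ := hf h
  have hg : g ≠ 1 := fun e => hh (by rw [e, map_one])
  have hne : orderOf (f g) ≠ 1 := fun e => hh (orderOf_eq_one_iff.mp e)
  rw [((Nat.dvd_prime (hG g hg)).mp (orderOf_map_dvd f g)).resolve_left hne]
  exact hG g hg

theorem PrimeOrders.orderOf_eq (hG : PrimeOrders G) {g : G} {q : ℕ} (hq : q.Prime) (hg : g ≠ 1)
    (h : ∃ k, orderOf g ∣ q ^ k) : orderOf g = q := by
  obtain ⟨k, hk⟩ := h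
  exact (Nat.prime_dvd_prime_iff_eq (hG g hg) hq).mp ((hG g hg).dvd_of_dvd_pow hk)

theorem PrimeOrders.orderOf_eq_of_mem [Finite G] (hG : PrimeOrders G) {q : ℕ} [Fact q.Prime]
    {Q : Subgroup G} (hQ : IsPGroup q Q) {g : G} (hg : g ∈ Q) (hg1 : g ≠ 1) : orderOf g = q := by
  obtain ⟨k, hk⟩ := IsPGroup.iff_orderOf.mp hQ ⟨g, hg⟩
  exact hG.orderOf_eq (Fact.out : q.Prime) hg1 ⟨k, by rw [← Subgroup.orderOf_mk g hg, hk]⟩

/-- Commuting nontrivial elements have the same order. -/
theorem PrimeOrders.orderOf_eq_of_commute (hG : PrimeOrders G) {x y : G} (hx : x ≠ 1) (hy : y ≠ 1)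
    (hc : Commute x y) : orderOf x = orderOf y := by
  by_contra hne
  have hcop := (Nat.coprime_primes (hG x hx) (hG y hy)).mpr hne
  have ho := hc.orderOf_mul_eq_mul_orderOf_of_coprime hcop
  have h1 : x * y ≠ 1 := fun e => by
    rw [e, orderOf_one] at ho
    exact (hG x hx).ne_one (Nat.eq_one_of_mul_eq_one_right ho.symm)
  have := hG _ h1
  rw [ho] at this
  exact Nat.not_prime_mul (hG x hx).ne_one (hG y hy).ne_one this

/-- A centre of exponent `p` of a nontrivial `p`-subgroup. -/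
theorem exists_abelian_in [Finite G] {p : ℕ} [Fact p.Prime] {D : Subgroup G} (hD : IsPGroup p D)
    (hne : D ≠ ⊥) :
    ∃ V : Subgroup G, V ≤ D ∧ V ≠ ⊥ ∧ IsMulCommutative V ∧ IsPGroup p V ∧
      Subgroup.normalizer (D : Set G) ≤ Subgroup.normalizer (V : Set G) := by
  have : Nontrivial D := (Subgroup.nontrivial_iff_ne_bot D).mpr hne
  have := hD.center_nontrivial
  refine ⟨(Subgroup.center D).map D.subtype, Subgroup.map_subtype_le _, ?_, ?_,
    (hD.to_subgroup _).map _, ?_⟩
  · rw [Ne, Subgroup.map_eq_bot_iff_of_injective _ D.subtype_injective]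
    exact (Subgroup.nontrivial_iff_ne_bot _).mp inferInstance
  · refine ⟨⟨fun a b => ?_⟩⟩
    obtain ⟨_, a, ha, rfl⟩ := a
    obtain ⟨_, b, hb, rfl⟩ := b
    exact Subtype.ext (show (a : G) * (b : G) = (b : G) * (a : G) from congrArg Subtype.val (Subgroup.mem_center_iff.mp hb a))
  · intro g hg
    rw [mem_normalizer_iff_smul, ← map_conj_eq_smul]
    exact map_char_eq hg _

/-- The product formula for a power of a product. -/
theorem mul_pow_eq_prod {V : Subgroup G} [IsMulCommutative V] {u : G}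
    (hu : u ∈ Subgroup.normalizer (V : Set G)) (v : V) :
    ∀ n : ℕ, ((v : G) * u) ^ n =
      ((∏ i ∈ Finset.range n, V.normalizerMonoidHom ⟨u ^ i, pow_mem hu i⟩ v : V) : G) * u ^ n := by
  intro n
  induction n with
  | zero => simp
  | succ n ih =>
    rw [pow_succ, ih, Finset.prod_range_succ, Subgroup.coe_mul]
    show _ * u ^ n * ((v : G) * u) = _ * (u ^ n * (v : G) * (u ^ n)⁻¹) * u ^ (n + 1)
    rw [pow_succ]
    simp [mul_assoc]

/-- No element normalises a subgroup of prime order `q ≠ p` next to an abelian `p`-subgroup normalised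
by both, unless it has order `q`. -/
theorem PrimeOrders.orderOf_eq_of_normalizes [Finite G] (hG : PrimeOrders G) {p : ℕ} [hp : Fact p.Prime]
    {V : Subgroup G} [IsMulCommutative V] (hV : IsPGroup p V) (hV1 : V ≠ ⊥) {x y : G} (hx1 : x ≠ 1)
    (hy1 : y ≠ 1) (hxV : x ∈ Subgroup.normalizer (V : Set G)) (hyV : y ∈ Subgroup.normalizer (V : Set G))
    (hyp : orderOf y ≠ p) (hxy : x ∈ Subgroup.normalizer (Subgroup.zpowers y : Set G)) :
    orderOf x = orderOf y := by
  classical
  have : Fintype G := Fintype.ofFinite G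
  by_contra hne
  set q := orderOf y with hq
  set r := orderOf x with hr
  have hqp : q.Prime := hG y hy1
  have hrp : r.Prime := hG x hx1
  set Y := Subgroup.zpowers y
  set N := Subgroup.normalizer (V : Set G)
  have hYN : Y ≤ N := Subgroup.zpowers_le.mpr hyV
  have hYc : Nat.card Y = q := Nat.card_zpowers y
  have hYo : ∀ z ∈ Y, z ≠ 1 → orderOf z = q := fun z hz hz1 =>
    (Nat.prime_dvd_prime_iff_eq (hG z hz1) hqp).mp (hYc ▸ Y.orderOf_dvd_natCard hz)
  -- fixed points of `Y` in `V`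
  have hfix : ∀ z ∈ Y, z ≠ 1 → ∀ w ∈ V, Commute z w → w = 1 := by
    intro z hz hz1 w hw hc
    by_contra hw1
    have h1 := hG.orderOf_eq_of_commute hz1 hw1 hc
    rw [hYo z hz hz1, hG.orderOf_eq_of_mem hV hw hw1] at h1
    exact hyp h1
  -- powers of `x` commute with nothing in `Y`
  have hnc : ∀ i, 0 < i → i < r → ∀ z ∈ Y, Commute z (x ^ i) → z = 1 := by
    intro i hi0 hir z hz hc
    by_contra hz1
    have hxi : x ^ i ≠ 1 := pow_ne_one_of_lt_orderOf (by omega) hir
    have h1 := hG.orderOf_eq_of_commute hz1 hxi hc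
    rw [hYo z hz hz1] at h1
    have h2 : orderOf (x ^ i) = r :=
      (Nat.prime_dvd_prime_iff_eq (hG _ hxi) hrp).mp (orderOf_pow_dvd i)
    exact hne (h2.symm.trans h1.symm)
  set φ := fun (g : G) (hg : g ∈ N) => V.normalizerMonoidHom ⟨g, hg⟩
  have hφ : ∀ (g : G) (hg : g ∈ N) (w : V), ((φ g hg w : V) : G) = g * (w : G) * g⁻¹ := fun g hg w => rfl
  -- the sum over `Y` vanishes
  have hsumY : ∀ w : V, ∏ z : Y, φ (z : G) (hYN z.2) w = 1 := by
    intro w
    refine Subtype.ext (hfix y (Subgroup.mem_zpowers y) hy1 _ (SetLike.coe_mem _) ?_)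
    have h1 : φ y hyV (∏ z : Y, φ (z : G) (hYN z.2) w) = ∏ z : Y, φ (z : G) (hYN z.2) w := by
      rw [map_prod]
      refine Fintype.prod_equiv (Equiv.mulLeft (⟨y, Subgroup.mem_zpowers y⟩ : Y)) _ _ fun z => ?_
      refine Subtype.ext ?_
      rw [hφ, hφ, hφ]
      show _ = y * (z : G) * (w : G) * (y * (z : G))⁻¹
      group
    have h2 := congrArg Subtype.val h1
    rw [hφ] at h2
    exact mul_inv_eq_iff_eq_mul.mp h2
  -- a conjugate of `x` has norm one
  have hxV' : x ∉ V := by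
    intro hxv
    have h1 : ⁅y, x⁆ ∈ V := by
      rw [commutatorElement_def]
      exact mul_mem (mem_conj_normalizer hyV hxv) (inv_mem hxv)
    have h2 : ⁅y, x⁆ ∈ Y := by
      rw [commutatorElement_def, show y * x * y⁻¹ * x⁻¹ = y * (x * y⁻¹ * x⁻¹) by group]
      exact mul_mem (Subgroup.mem_zpowers y) (mem_conj_normalizer hxy (inv_mem (Subgroup.mem_zpowers y)))
    have h3 : ⁅y, x⁆ = 1 := by
      by_contra h
      exact hyp ((hYo _ h2 h).symm.trans (hG.orderOf_eq_of_mem hV h1 h))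
    exact hne (hG.orderOf_eq_of_commute hx1 hy1 (commutatorElement_eq_one_iff_mul_comm.mp h3).symm)
  have hnorm : ∀ (z : Y) (v : V),
      ∏ i ∈ Finset.range r, φ (((z : G) * x * (z : G)⁻¹) ^ i)
        (pow_mem (mul_mem (mul_mem (hYN z.2) hxV) (inv_mem (hYN z.2))) i) v = 1 := by
    intro z v
    set u := (z : G) * x * (z : G)⁻¹ with hudef
    have huN : u ∈ N := mul_mem (mul_mem (hYN z.2) hxV) (inv_mem (hYN z.2))
    have huo : orderOf u = r :=
      orderOf_injective (MulAut.conj (z : G)).toMonoidHom (MulAut.conj _).injective x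
    have huV : u ∉ V := fun h => hxV' (by
      have := mem_conj_normalizer (inv_mem (hYN z.2)) h
      simpa [hudef, mul_assoc] using this)
    have hvu : (v : G) * u ≠ 1 := fun e => huV (by
      rw [eq_inv_of_mul_eq_one_right e]; exact inv_mem v.2)
    have hs := hG _ hvu
    have h1 := mul_pow_eq_prod huN v (orderOf ((v : G) * u))
    rw [pow_orderOf_eq_one] at h1
    have h2 : u ^ orderOf ((v : G) * u) ∈ V := by
      rw [eq_inv_of_mul_eq_one_right h1.symm]; exact inv_mem (SetLike.coe_mem _)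
    have hsr : orderOf ((v : G) * u) = r := by
      by_contra h
      obtain ⟨m, hm⟩ := exists_pow_eq_self_of_coprime (x := u) (n := orderOf ((v : G) * u))
        (by rw [huo]; exact (Nat.coprime_primes hs hrp).mpr h)
      exact huV (hm ▸ V.pow_mem h2 m)
    have h3 := mul_pow_eq_prod huN v r
    rw [show ((v : G) * u) ^ r = 1 from hsr ▸ pow_orderOf_eq_one _,
      show u ^ r = 1 from huo ▸ pow_orderOf_eq_one _, mul_one] at h3
    exact Subtype.ext h3.symm
  -- average
  obtain ⟨v, hv1⟩ : ∃ v : V, v ≠ 1 := by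
    have : Nontrivial V := (Subgroup.nontrivial_iff_ne_bot V).mpr hV1
    exact exists_ne 1
  have h0 : ∏ i ∈ Finset.range r, ∏ z : Y, φ (((z : G) * x * (z : G)⁻¹) ^ i)
      (pow_mem (mul_mem (mul_mem (hYN z.2) hxV) (inv_mem (hYN z.2))) i) v = 1 := by
    rw [Finset.prod_comm]
    exact Finset.prod_eq_one fun z _ => hnorm z v
  rw [Finset.prod_eq_single_of_mem 0 (Finset.mem_range.mpr hrp.pos)] at h0
  · have h1 : v ^ q = 1 := by
      rw [← h0, Finset.prod_congr rfl (g := fun _ => v) fun z _ => Subtype.ext (by rw [hφ]; simp),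
        Finset.prod_const, Finset.card_univ, ← Nat.card_eq_fintype_card, hYc]
    have h2 : orderOf v ∣ q := orderOf_dvd_of_pow_eq_one h1
    rw [← Subgroup.orderOf_coe, hG.orderOf_eq_of_mem hV v.2 (by simpa using hv1)] at h2
    exact hyp ((Nat.prime_dvd_prime_iff_eq hp.out hqp).mp h2).symm
  · intro i hi hi0
    have hir := Finset.mem_range.mp hi
    have hxiY : x ^ i ∈ Subgroup.normalizer (Y : Set G) := pow_mem hxy i
    let f : Y → Y := fun z => ⟨(z : G) * x ^ i * (z : G)⁻¹ * (x ^ i)⁻¹, by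
      rw [show (z : G) * x ^ i * (z : G)⁻¹ * (x ^ i)⁻¹ = (z : G) * (x ^ i * (z : G)⁻¹ * (x ^ i)⁻¹) by group]
      exact mul_mem z.2 (mem_conj_normalizer hxiY (inv_mem z.2))⟩
    have hf : Function.Bijective f := by
      refine Finite.injective_iff_bijective.mp fun a b e => ?_
      have e' := mul_right_cancel (congrArg Subtype.val e)
      have h1 : (b : G)⁻¹ * (a : G) = 1 := by
        refine hnc i (Nat.pos_of_ne_zero hi0) hir _ (mul_mem (inv_mem b.2) a.2) ?_
        show (b : G)⁻¹ * (a : G) * x ^ i = x ^ i * ((b : G)⁻¹ * (a : G))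
        calc (b : G)⁻¹ * (a : G) * x ^ i = (b : G)⁻¹ * ((a : G) * x ^ i * (a : G)⁻¹) * (a : G) := by group
          _ = (b : G)⁻¹ * ((b : G) * x ^ i * (b : G)⁻¹) * (a : G) := by rw [e']
          _ = x ^ i * ((b : G)⁻¹ * (a : G)) := by group
      exact Subtype.ext (inv_mul_eq_one.mp h1).symm
    refine (Fintype.prod_bijective f hf _ _ fun z => ?_).trans (hsumY (φ (x ^ i) (pow_mem hxV i) v))
    refine Subtype.ext ?_
    rw [hφ, hφ, hφ, conj_pow]
    simp only [f]
    group

/-- Beside a normal `p`-subgroup, the `q`-subgroups have order at most `q`. -/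
theorem PrimeOrders.card_dvd_prime [Finite G] (hG : PrimeOrders G) {p q : ℕ} [Fact p.Prime] [hq : Fact q.Prime]
    (hqp : q ≠ p) {V : Subgroup G} [IsMulCommutative V] (hV : IsPGroup p V) (hV1 : V ≠ ⊥) {Q : Subgroup G}
    (hQ : IsPGroup q Q) (hQV : Q ≤ Subgroup.normalizer (V : Set G)) : Nat.card Q ∣ q := by
  rcases eq_or_ne Q ⊥ with rfl | hQ1
  · simp
  have : Nontrivial Q := (Subgroup.nontrivial_iff_ne_bot Q).mpr hQ1
  have := hQ.center_nontrivial
  obtain ⟨⟨z, hzc⟩, hz1⟩ := exists_ne (1 : Subgroup.center Q)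
  have hz1' : (z : G) ≠ 1 := by simpa using hz1
  have hzo : orderOf (z : G) = q := hG.orderOf_eq_of_mem hQ z.2 hz1'
  suffices Q ≤ Subgroup.zpowers (z : G) by
    have h := Subgroup.card_dvd_of_le this
    rwa [Nat.card_zpowers, hzo] at h
  intro w hw
  by_contra hwz
  have hc : Commute (z : G) w := congrArg Subtype.val (Subgroup.mem_center_iff.mp hzc ⟨w, hw⟩).symm
  set E := Subgroup.closure ({(z : G), w} : Set G)
  have hEab : IsMulCommutative E := by
    refine Subgroup.isMulCommutative_closure ?_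
    rintro a (rfl | rfl) b (rfl | rfl)
    exacts [rfl, hc.eq, hc.eq.symm, rfl]
  have hzE : (z : G) ∈ E := Subgroup.subset_closure (by simp)
  have hwE : w ∈ E := Subgroup.subset_closure (by simp)
  have hEQ : E ≤ Q := (Subgroup.closure_le _).mpr (by rintro a (rfl | rfl); exacts [z.2, hw])
  have hEnc : ¬ IsCyclic E := by
    intro hcyc
    obtain ⟨g, hg⟩ := hcyc.exists_generator
    have hg1 : (g : G) ≠ 1 := by
      intro e
      obtain ⟨n, hn⟩ := Subgroup.mem_zpowers_iff.mp (hg ⟨(z : G), hzE⟩)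
      exact hz1' (by have := congrArg Subtype.val hn; simpa [e] using this.symm)
    have hzg : Subgroup.zpowers (z : G) = E := by
      refine Subgroup.eq_of_le_of_card_ge (Subgroup.zpowers_le.mpr hzE) ?_
      rw [Nat.card_zpowers, hzo, ← orderOf_eq_card_of_forall_mem_zpowers hg, ← Subgroup.orderOf_coe,
        hG.orderOf_eq_of_mem hQ (hEQ g.2) hg1]
    exact hwz (hzg ▸ hwE)
  obtain ⟨a, ha, ha1, hne⟩ := exists_centralizer_ne_bot E V hEnc hV1 (hEQ.trans hQV)
  obtain ⟨v, hv1⟩ := (Subgroup.ne_bot_iff_exists_ne_one.mp hne)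
  · have h1 := hG.orderOf_eq_of_commute ha1 (show (v : G) ≠ 1 by simpa using hv1)
      ((Subgroup.mem_centralizer_iff.mp v.2.2 a rfl))
    rw [hG.orderOf_eq_of_mem hQ (hEQ ha) ha1, hG.orderOf_eq_of_mem hV v.2.1 (by simpa using hv1)] at h1
    exact hqp h1

/-- Beside a normal `p`-subgroup, Sylow subgroups for other primes are self-normalizing with a normal
complement. -/
theorem PrimeOrders.complement_of_normal [Finite G] (hG : PrimeOrders G) {p q : ℕ} [Fact p.Prime] [hq : Fact q.Prime]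
    (hqp : q ≠ p) {D : Subgroup G} [D.Normal] (hD : IsPGroup p D) (hD1 : D ≠ ⊥) :
    (∀ (Q : Sylow q G) (x : G), x ≠ 1 → (Q : Subgroup G) ≠ ⊥ →
      x ∈ Subgroup.normalizer ((Q : Subgroup G) : Set G) → x ∈ (Q : Subgroup G)) ∧
    ∃ K : Subgroup G, K.Normal ∧ ¬ q ∣ Nat.card K ∧ ∃ k, K.index = q ^ k := by
  obtain ⟨V, -, hV1, hVab, hV, hVn⟩ := exists_abelian_in hD hD1
  have hnV : ∀ g : G, g ∈ Subgroup.normalizer (V : Set G) := fun g => hVn (by
    rw [Subgroup.normalizer_eq_top]; exact Subgroup.mem_top g)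
  have hself : ∀ (Q : Sylow q G) (x : G), x ≠ 1 → (Q : Subgroup G) ≠ ⊥ →
      x ∈ Subgroup.normalizer ((Q : Subgroup G) : Set G) → x ∈ (Q : Subgroup G) := by
    intro Q x hx hQ1 hxQ
    have hQc := hG.card_dvd_prime hqp hV hV1 Q.isPGroup' (fun g _ => hnV g)
    obtain ⟨y, hy1⟩ := Subgroup.ne_bot_iff_exists_ne_one.mp hQ1
    have hy1' : (y : G) ≠ 1 := by simpa using hy1
    have hyo : orderOf (y : G) = q := hG.orderOf_eq_of_mem Q.isPGroup' y.2 hy1'
    have hQy : Subgroup.zpowers (y : G) = Q :=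
      Subgroup.eq_of_le_of_card_ge (Subgroup.zpowers_le.mpr y.2)
        (by rw [Nat.card_zpowers, hyo]; exact Nat.le_of_dvd hq.out.pos hQc)
    have hxo := hG.orderOf_eq_of_normalizes hV hV1 hx hy1' (hnV x) (hnV _) (by rw [hyo]; exact hqp)
      (by rw [hQy]; exact hxQ)
    rw [hyo] at hxo
    have hxq : IsPGroup q (Subgroup.zpowers x) := IsPGroup.of_card (n := 1) (by rw [Nat.card_zpowers, hxo, pow_one])
    have hsup := Q.is_maximal' (IsPGroup.to_sup_of_normal_right'  hxq Q.isPGroup' (Subgroup.zpowers_le.mpr hxQ)) le_sup_right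
    exact hsup ▸ Subgroup.mem_sup_left (Subgroup.mem_zpowers x)
  refine ⟨hself, ?_⟩
  obtain ⟨Q⟩ : Nonempty (Sylow q G) := inferInstance
  by_cases hQ1 : (Q : Subgroup G) = ⊥
  · refine ⟨⊤, inferInstance, ?_, 0, by simp⟩
    intro hd
    exact Q.ne_bot_of_dvd_card (by rwa [Subgroup.card_top] at hd) hQ1
  have hQab : ∀ u ∈ (Q : Subgroup G), ∀ v ∈ (Q : Subgroup G), Commute u v := by
    intro u hu v hv
    have hQc := hG.card_dvd_prime hqp hV hV1 Q.isPGroup' (fun g _ => hnV g)
    rcases eq_or_ne u 1 with rfl | hu1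
    · exact Commute.one_left v
    have hQu : Subgroup.zpowers u = Q :=
      Subgroup.eq_of_le_of_card_ge (Subgroup.zpowers_le.mpr hu)
        (by rw [Nat.card_zpowers, hG.orderOf_eq_of_mem Q.isPGroup' hu hu1]; exact Nat.le_of_dvd hq.out.pos hQc)
    obtain ⟨n, rfl⟩ := Subgroup.mem_zpowers_iff.mp (hQu.ge hv)
    exact (Commute.refl u).zpow_right n
  have hle : Subgroup.normalizer ((Q : Subgroup G) : Set G) ≤ Subgroup.centralizer ((Q : Subgroup G) : Set G) := by
    intro x hx
    rcases eq_or_ne x 1 with rfl | hx1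
    · exact one_mem _
    exact Subgroup.mem_centralizer_iff.mpr fun v hv => hQab v hv x (hself Q x hx1 hQ1 hx)
  obtain ⟨k, hk⟩ := IsPGroup.iff_card.mp Q.isPGroup'
  exact ⟨_, inferInstance, MonoidHom.not_dvd_card_ker_transferSylow Q hle, k,
    by rw [(MonoidHom.ker_transferSylow_isComplement' Q hle).symm.index_eq_card, hk]⟩

/-- With a nontrivial normal `p`-subgroup, the Sylow `p`-subgroup is normal. -/
theorem PrimeOrders.sylow_unique [Finite G] (hG : PrimeOrders G) {p : ℕ} [hp : Fact p.Prime] {D : Subgroup G}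
    [D.Normal] (hD : IsPGroup p D) (hD1 : D ≠ ⊥) : ∀ P P' : Sylow p G, P = P' := by
  classical
  set S : Set (Subgroup G) := {K | ∃ q : ℕ, q.Prime ∧ q ≠ p ∧ K.Normal ∧ ¬ q ∣ Nat.card K ∧ ∃ k, K.index = q ^ k}
  set M := sInf S
  have hMn : M.Normal := ⟨fun a ha g => Subgroup.mem_sInf.mpr fun K hK => by
    have hKS := hK
    obtain ⟨q, -, -, hKn, -, -⟩ := hK
    exact hKn.conj_mem a (Subgroup.mem_sInf.mp ha K hKS) g⟩
  have hall : ∀ P : Sylow p G, (P : Subgroup G) ≤ M := by
    intro P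
    refine le_sInf fun K hK => ?_
    obtain ⟨q, hq, hqp, hKn, -, k, hk⟩ := hK
    obtain ⟨a, ha⟩ := IsPGroup.iff_card.mp P.isPGroup'
    exact le_of_coprime_index (by rw [ha, hk]; exact Nat.coprime_pow_primes a k hp.out hq hqp.symm)
  have hMp : IsPGroup p M := by
    rw [IsPGroup.iff_orderOf]
    intro g
    rcases eq_or_ne g 1 with rfl | hg
    · exact ⟨0, by simp⟩
    refine ⟨1, ?_⟩
    rw [pow_one]
    by_contra hne
    have ho := hG.subgroup M g hg
    have : Fact (orderOf g).Prime := ⟨ho⟩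
    obtain ⟨K, hKn, hKq, hk⟩ := (hG.complement_of_normal (q := orderOf g) hne hD hD1).2
    refine hKq ?_
    have hgK : (g : G) ∈ K := Subgroup.mem_sInf.mp g.2 K ⟨_, ho, hne, hKn, hKq, hk⟩
    rw [← Subgroup.orderOf_coe]
    exact K.orderOf_dvd_natCard hgK
  intro P P'
  exact Sylow.ext ((P.is_maximal' hMp (hall P)).symm.trans (P'.is_maximal' hMp (hall P')))

/-- Only one prime besides `p` divides the order if there is a nontrivial normal `p`-subgroup. -/
theorem PrimeOrders.prime_unique [Finite G] (hG : PrimeOrders G) {p q r : ℕ} [hp : Fact p.Prime] (hq : q.Prime) (hr : r.Prime)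
    (hqp : q ≠ p) (hrp : r ≠ p) (hqd : q ∣ Nat.card G) (hrd : r ∣ Nat.card G) {D : Subgroup G}
    [D.Normal] (hD : IsPGroup p D) (hD1 : D ≠ ⊥) : q = r := by
  by_contra hne
  have : Fact q.Prime := ⟨hq⟩
  have : Fact r.Prime := ⟨hr⟩
  obtain ⟨K, hKn, hKq, k, hk⟩ := (hG.complement_of_normal (q := q) hqp hD hD1).2
  obtain ⟨R⟩ : Nonempty (Sylow r G) := inferInstance
  have hR1 : (R : Subgroup G) ≠ ⊥ := R.ne_bot_of_dvd_card hrd
  have hRK : (R : Subgroup G) ≤ K := by
    obtain ⟨a, ha⟩ := IsPGroup.iff_card.mp R.isPGroup'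
    exact le_of_coprime_index (by rw [ha, hk]; exact Nat.coprime_pow_primes a k hr hq (Ne.symm hne))
  set N := Subgroup.normalizer ((R : Subgroup G) : Set G)
  have hNK : N ⊔ K = ⊤ := Sylow.normalizer_sup_eq_top' R hRK
  have hqN : q ∣ Nat.card N := by
    have h1 := card_sup_mul_card_inf_normal (H := N) (N := K)
    rw [hNK, Subgroup.card_top] at h1
    exact (hq.dvd_mul.mp (h1 ▸ Dvd.dvd.mul_right hqd _)).resolve_right hKq
  obtain ⟨x, hx⟩ := exists_prime_orderOf_dvd_card' q hqN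
  have hx1 : (x : G) ≠ 1 := fun e => by
    rw [← Subgroup.orderOf_coe, e, orderOf_one] at hx
    exact hq.ne_one hx.symm
  have hxR := (hG.complement_of_normal (q := r) hrp hD hD1).1 R x hx1 hR1 x.2
  have h1 := hG.orderOf_eq_of_mem R.isPGroup' hxR hx1
  rw [Subgroup.orderOf_coe, hx] at h1
  exact hne h1

theorem PrimeOrders.solvable_of_normal [Finite G] (hG : PrimeOrders G) {p : ℕ} [hp : Fact p.Prime] {D : Subgroup G}
    [D.Normal] (hD : IsPGroup p D) (hD1 : D ≠ ⊥) : Group.IsSolvable G := by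
  classical
  by_cases h : ∃ q, q.Prime ∧ q ≠ p ∧ q ∣ Nat.card G
  · obtain ⟨q, hq, hqp, hqd⟩ := h
    refine Cfsg.Agent.S0144.result p q ((Nat.card G).factorization p) ((Nat.card G).factorization q) hp.out hq ?_
    refine Nat.eq_of_factorization_eq Nat.card_pos.ne' (mul_ne_zero (pow_ne_zero _ hp.out.ne_zero) (pow_ne_zero _ hq.ne_zero))
      fun r => ?_
    rw [Nat.factorization_mul (pow_ne_zero _ hp.out.ne_zero) (pow_ne_zero _ hq.ne_zero),
      hp.out.factorization_pow, hq.factorization_pow, Finsupp.add_apply]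
    by_cases h1 : r = p
    · subst h1; simp [hqp]
    by_cases h2 : r = q
    · subst h2; simp [Ne.symm h1]
    rw [Finsupp.single_eq_of_ne h1, Finsupp.single_eq_of_ne h2, add_zero, Nat.factorization_eq_zero_iff]
    by_cases hr : r.Prime
    · exact Or.inr (Or.inl fun hrd => h2 (hG.prime_unique hr hq h1 hqp hrd hqd hD hD1))
    · exact Or.inl hr
  · push Not at h
    have : IsPGroup p G := IsPGroup.of_card (n := (Nat.card G).primeFactorsList.length)
      (Nat.eq_prime_pow_of_unique_prime_dvd Nat.card_pos.ne' fun {r} hr hd => by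
        by_contra hne
        exact h r hr hne hd)
    exact @IsNilpotent.to_isSolvable _ _ this.isNilpotent

/-- Sylow subgroups intersect trivially unless some nontrivial `p`-subgroup is normal in the whole group. -/
theorem PrimeOrders.sylow_inf [Finite G] (hG : PrimeOrders G) {p : ℕ} [hp : Fact p.Prime] :
    ∀ P Q : Sylow p G, P ≠ Q → (P : Subgroup G) ⊓ (Q : Subgroup G) = ⊥ := by
  classical
  by_contra hcon
  push Not at hcon
  have hfin : ({D : Subgroup G | ∃ P Q : Sylow p G, P ≠ Q ∧ D = (P : Subgroup G) ⊓ Q ∧ D ≠ ⊥}).Finite :=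
    Set.toFinite _
  obtain ⟨D, ⟨P, Q, hPQ, hDeq, hD1⟩, hmax⟩ := hfin.exists_maximal (by
    obtain ⟨P, Q, hPQ, h⟩ := hcon
    exact ⟨_, P, Q, hPQ, rfl, h⟩)
  set N := Subgroup.normalizer (D : Set G)
  set D' := D.subgroupOf N
  have hD'n : D'.Normal := Subgroup.normal_in_normalizer
  have hD'1 : D' ≠ ⊥ := by
    intro h
    rw [Subgroup.subgroupOf_eq_bot] at h
    exact hD1 (by simpa using h.eq_bot_of_le Subgroup.le_normalizer)
  have hD'p : IsPGroup p D' := (P.isPGroup'.to_le (hDeq ▸ inf_le_left)).comap_subtype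
  have huniq := (hG.subgroup N).sylow_unique hD'p hD'1
  obtain ⟨S⟩ : Nonempty (Sylow p N) := inferInstance
  obtain ⟨R, hR⟩ := (S.isPGroup'.map N.subtype).exists_le_sylow
  have hkey : ∀ T : Sylow p G, D ≤ (T : Subgroup G) → D ≠ (T : Subgroup G) → R = T := by
    intro T hDT hne
    have hlt : D < (T : Subgroup G) ⊓ N :=
      lt_inf_normalizer T.isPGroup'.isNilpotent (lt_of_le_of_ne hDT hne)
    obtain ⟨S', hS'⟩ := (T.isPGroup'.comap_subtype : IsPGroup p ((T : Subgroup G).subgroupOf N)).exists_le_sylow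
    rw [huniq S' S] at hS'
    have hle : (T : Subgroup G) ⊓ N ≤ (R : Subgroup G) := by
      intro a ha
      exact hR ⟨⟨a, ha.2⟩, hS' ha.1, rfl⟩
    by_contra hRT
    have hDlt : D < (T : Subgroup G) ⊓ R := lt_of_lt_of_le hlt (le_inf inf_le_left hle)
    exact hDlt.not_ge (hmax ⟨T, R, Ne.symm hRT, rfl, ne_bot_of_gt hDlt⟩ hDlt.le)
  have hneP : D ≠ (P : Subgroup G) := fun e => hPQ (Sylow.ext (P.is_maximal' Q.isPGroup'
    ((e ▸ hDeq).le.trans inf_le_right)).symm)
  have hneQ : D ≠ (Q : Subgroup G) := fun e => hPQ (Sylow.ext (Q.is_maximal' P.isPGroup'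
    ((e ▸ hDeq).le.trans inf_le_left)))
  exact hPQ ((hkey P (hDeq ▸ inf_le_left) hneP).symm.trans (hkey Q (hDeq ▸ inf_le_right) hneQ))

end Cfsg.Agent.Grp
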