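import Mathlib

/-!
The arithmetic of the class equation of a simple group with all element orders prime.
-/

set_option autoImplicit false
set_option maxHeartbeats 2000000

namespace Cfsg.Agent.Grp

/-- The arithmetic of the class equation, `2, p, q` with `e₂ = p`. -/
theorem arith_case {p q a b c e₁ e₂ : ℕ} (hp : p.Prime) (hq : q.Prime) (hp2 : p ≠ 2) (hq2 : q ≠ 2) (hpq : p ≠ q)
    (ha : 1 ≤ a) (hb : 1 ≤ b) (hc : 1 ≤ c) (he1 : e₁ = 2 ∨ e₁ = q) (he2 : e₂ = 2 ∨ e₂ = p)
    (hTd : p ∣ 2 ^ a - 1) (hPd : e₁ ∣ p ^ b - 1) (hQd : e₂ ∣ q ^ c - 1) (n₀ n₁ n₂ : ℕ)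
    (h0 : n₀ * p = p ^ b * q ^ c) (h1 : n₁ * e₁ = 2 ^ a * q ^ c) (h2 : n₂ * e₂ = 2 ^ a * p ^ b)
    (hm1 : n₁ ≡ 1 [MOD p])
    (heq : 2 ^ a * p ^ b * q ^ c = 1 + (n₀ * (2 ^ a - 1) + n₁ * (p ^ b - 1) + n₂ * (q ^ c - 1))) :
    (a = 2 ∧ p = 3 ∧ b = 1 ∧ q = 5 ∧ c = 1) ∨ (a = 3 ∧ p = 7 ∧ b = 1 ∧ q = 3 ∧ c = 2 ∧ e₁ = 2 ∧ e₂ = 2) := by
  have hp3 : 3 ≤ p := by have := hp.two_le; omega
  have hq3 : 3 ≤ q := by have := hq.two_le; omega
  obtain ⟨T, hT⟩ : ∃ T, T = 2 ^ a := ⟨_, rfl⟩
  obtain ⟨P, hP⟩ : ∃ P, P = p ^ b := ⟨_, rfl⟩
  obtain ⟨Q, hQ⟩ : ∃ Q, Q = q ^ c := ⟨_, rfl⟩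
  rw [← hT] at hTd h1 h2 heq
  rw [← hP] at hPd h0 h2 heq
  rw [← hQ] at hQd h0 h1 heq
  have hPp : p ≤ P := hP ▸ Nat.le_self_pow (by omega) p
  have hQq : q ≤ Q := hQ ▸ Nat.le_self_pow (by omega) q
  have hT2 : 2 ≤ T := hT ▸ Nat.le_self_pow (by omega) 2
  have hTp : p + 1 ≤ T := by
    have := Nat.le_of_dvd (by omega) hTd
    omega
  have hT4 : 4 ≤ T := by omega
  have hgT : (T : ℚ) ≠ 0 := by positivity
  have hgP : (P : ℚ) ≠ 0 := by
    have : 0 < P := by omega
    positivity
  have hgQ : (Q : ℚ) ≠ 0 := by
    have : 0 < Q := by omega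
    positivity
  -- the rational form of the equation
  have key : (1 : ℚ) - 1 / (T * P * Q) = (1 - 1 / T) / p + (1 - 1 / P) / e₁ + (1 - 1 / Q) / e₂ := by
    have he10 : (e₁ : ℚ) ≠ 0 := by
      exact Nat.cast_ne_zero.mpr (by rcases he1 with rfl | rfl <;> omega)
    have he20 : (e₂ : ℚ) ≠ 0 := by
      exact Nat.cast_ne_zero.mpr (by rcases he2 with rfl | rfl <;> omega)
    have hp0 : (p : ℚ) ≠ 0 := by exact_mod_cast (by omega : p ≠ 0)
    have c0 : (n₀ : ℚ) = P * Q / p := by rw [eq_div_iff hp0]; exact_mod_cast h0
    have c1 : (n₁ : ℚ) = T * Q / e₁ := by rw [eq_div_iff he10]; exact_mod_cast h1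
    have c2 : (n₂ : ℚ) = T * P / e₂ := by rw [eq_div_iff he20]; exact_mod_cast h2
    have h := congrArg (Nat.cast (R := ℚ)) heq
    push_cast [Nat.cast_sub (by omega : 1 ≤ T), Nat.cast_sub (by omega : 1 ≤ P),
      Nat.cast_sub (by omega : 1 ≤ Q), c0, c1, c2] at h
    field_simp at h ⊢
    linarith
  have hbound : ∀ (X : ℕ) (m : ℚ), 0 < m → m ≤ X → (0 : ℚ) < 1 / X ∧ (1 : ℚ) / X ≤ 1 / m := fun X m hm h =>
    ⟨one_div_pos.mpr (hm.trans_le h), one_div_le_one_div_of_le hm h⟩
  have hTb := hbound T 4 (by norm_num) (by exact_mod_cast hT4)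
  have hPb := hbound P p (by positivity) (by exact_mod_cast hPp)
  have hQb := hbound Q q (by positivity) (by exact_mod_cast hQq)
  have hg : (0 : ℚ) < 1 / (T * P * Q) := by
    have : 0 < P := by omega
    have : 0 < Q := by omega
    positivity
  have hgle : (1 : ℚ) / (T * P * Q) ≤ 1 / 4 * (1 / p) * (1 / q) := by
    rw [show (1 : ℚ) / (T * P * Q) = 1 / T * (1 / P) * (1 / Q) by field_simp]
    exact mul_le_mul (mul_le_mul hTb.2 hPb.2 hPb.1.le (by norm_num)) hQb.2 hQb.1.le (by positivity)
  have hp' : (3 : ℚ) ≤ p := by exact_mod_cast hp3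
  have hq' : (3 : ℚ) ≤ q := by exact_mod_cast hq3
  rcases he1.imp Eq.symm Eq.symm with rfl | rfl
  · rcases he2.imp Eq.symm Eq.symm with rfl | rfl
    · -- the main case
      have hmodp : T * Q ≡ 2 [MOD p] := by
        rw [← h1]
        simpa using hm1.mul_right 2
      have hT1 : T ≡ 1 [MOD p] := ((Nat.modEq_iff_dvd' (by omega)).mpr hTd).symm
      have hQ2 : Q ≡ 2 [MOD p] := by
        have := (hT1.mul_right Q).symm.trans hmodp
        simpa using this
      by_cases hb2 : 2 ≤ b
      · exfalso
        have hPp2 : p * p ≤ P := hP ▸ (sq p ▸ Nat.pow_le_pow_right (by omega) hb2)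
        have hQlt : Q < p := by
          by_contra hQp
          push Not at hQp
          have hP2 := hbound P ((p : ℚ) * p) (by positivity) (by exact_mod_cast hPp2)
          have hQ2' := hbound Q p (by positivity) (by exact_mod_cast hQp)
          have hT' : (1 : ℚ) / T / p ≤ 1 / 4 / p := div_le_div_of_nonneg_right hTb.2 (by positivity)
          have hpp : (1 : ℚ) / ((p : ℚ) * p) ≤ 1 / 3 / p := by
            rw [div_div]
            exact one_div_le_one_div_of_le (by positivity) (by nlinarith)
          push_cast at key
          have e1 : (1 - 1 / (T : ℚ)) / p = 1 / p - 1 / T / p := by ring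
          have e3 : (1 : ℚ) / 4 / p = 1 / p * (1 / 4) := by ring
          have e4 : (1 : ℚ) / 3 / p = 1 / p * (1 / 3) := by ring
          have hp0 : (0 : ℚ) < 1 / p := by positivity
          rw [e1] at key
          linarith [hP2.2, hQ2'.2]
        have hQeq : Q = 2 := by
          have := hQ2
          rw [Nat.ModEq, Nat.mod_eq_of_lt hQlt, Nat.mod_eq_of_lt (by omega)] at this
          exact this
        omega
      · have hb1 : b = 1 := by omega
        have hPeq : P = p := by rw [hP, hb1, pow_one]
        rw [hPeq] at key
        have hrel : (Q : ℚ) * (T - 2) = T * p - 2 := by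
          have hp0 : (p : ℚ) ≠ 0 := by positivity
          push_cast at key
          field_simp at key
          nlinarith [key]
        have hrelN : Q * (T - 2) + 2 = T * p := by
          have : (Q : ℚ) * ((T - 2 : ℕ) : ℚ) + 2 = T * p := by
            rw [Nat.cast_sub (by omega : 2 ≤ T)]; push_cast; linarith
          exact_mod_cast this
        -- `Q = p + 2`, `T = p + 1`
        obtain ⟨d, rfl⟩ : ∃ d, T = d + 2 := ⟨T - 2, by omega⟩
        simp only [Nat.add_sub_cancel] at hrelN
        have hQp : p < Q := by
          by_contra h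
          have : Q * d ≤ p * d := Nat.mul_le_mul_right d (by omega)
          nlinarith
        obtain ⟨k, rfl⟩ : ∃ k, Q = p + k := ⟨Q - p, by omega⟩
        have hkd : k * d + 2 = 2 * p := by nlinarith
        have hodd : Odd (p + k) := hQ ▸ (hq.odd_of_ne_two hq2).pow
        have hpodd := hp.odd_of_ne_two hp2
        have hk2 : k = 2 := by
          have hkeven : Even k := by
            rcases hodd with ⟨i, hi⟩; rcases hpodd with ⟨j, hj⟩
            exact ⟨i - j, by omega⟩
          have hd1 : p - 1 ≤ d := by omega
          by_contra hk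
          have h4 : 4 ≤ k := by
            rcases hkeven with ⟨i, hi⟩
            have : 0 < k := by
              rcases Nat.eq_zero_or_pos k with rfl | h
              · omega
              · exact h
            omega
          have := Nat.mul_le_mul h4 hd1
          omega
        subst hk2
        have hd : d = p - 1 := by omega
        subst hd
        have hTeq : p + 1 = 2 ^ a := by omega
        have hQeq : p + 2 = q ^ c := by omega
        -- 3 divides one of `p`, `p + 1`, `p + 2`
        by_cases h3 : p = 3
        · subst h3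
          have ha2 : a = 2 := Nat.pow_right_injective le_rfl (show 2 ^ a = 2 ^ 2 by omega)
          have hq5 : q = 5 := (Nat.prime_dvd_prime_iff_eq hq (by norm_num)).mp (by
            rw [show (5 : ℕ) = q ^ c by omega]; exact dvd_pow_self q (by omega))
          subst hq5
          have hc1 : c = 1 := Nat.pow_right_injective (by norm_num : 2 ≤ 5) (show 5 ^ c = 5 ^ 1 by omega)
          exact Or.inl ⟨ha2, rfl, hb1, rfl, hc1⟩
        · right
          have hq3' : q = 3 := by
            have h3p : ¬ 3 ∣ p := fun h => h3 ((Nat.prime_dvd_prime_iff_eq Nat.prime_three hp).mp h).symm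
            have h3T : ¬ 3 ∣ p + 1 := by
              rw [hTeq]
              exact fun h => absurd (Nat.prime_three.dvd_of_dvd_pow h) (by norm_num)
            have h3Q : 3 ∣ q ^ c := by omega
            exact ((Nat.prime_dvd_prime_iff_eq Nat.prime_three hq).mp (Nat.prime_three.dvd_of_dvd_pow h3Q)).symm
          subst hq3'
          have hpow : 3 ^ c = 2 ^ a + 1 := by omega
          -- `c` is even
          have hmod : ∀ m : ℕ, (3 ^ (2 * m + 1)) % 8 = 3 := by
            intro m
            rw [pow_succ, pow_mul, Nat.mul_mod, Nat.pow_mod]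
            norm_num
          have ha3 : 3 ≤ a := by
            by_contra hlt
            interval_cases a <;> omega
          obtain ⟨m, rfl | rfl⟩ := Nat.even_or_odd' c
          swap
          · exfalso
            have := hmod m
            rw [hpow] at this
            have h8 : 8 ∣ 2 ^ a := by
              have := Nat.pow_dvd_pow 2 ha3
              simpa using this
            omega
          rw [mul_comm, pow_mul] at hpow
          have hsq : (3 ^ m - 1) * (3 ^ m + 1) = 2 ^ a := by
            rw [mul_comm, ← Nat.sq_sub_sq, one_pow, hpow, Nat.add_sub_cancel]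
          obtain ⟨i, -, hi⟩ := (Nat.dvd_prime_pow Nat.prime_two).mp (Dvd.intro _ hsq)
          obtain ⟨j, -, hj⟩ := (Nat.dvd_prime_pow Nat.prime_two).mp (Dvd.intro_left _ hsq)
          have h3m : 3 ≤ 3 ^ m := Nat.le_self_pow (by omega) 3
          have hij : 2 ^ j = 2 ^ i + 2 := by omega
          have hi1 : i = 1 := by
            by_contra hi1
            rcases Nat.lt_or_ge i 2 with hi2 | hi2
            · interval_cases i <;> omega
            · have hj2 : 2 ≤ j := by
                by_contra h
                have : 2 ^ i ≥ 2 ^ 2 := Nat.pow_le_pow_right (by norm_num) hi2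
                interval_cases j <;> omega
              have h4i : 4 ∣ 2 ^ i := by simpa using Nat.pow_dvd_pow 2 hi2
              have h4j : 4 ∣ 2 ^ j := by simpa using Nat.pow_dvd_pow 2 hj2
              omega
          subst hi1
          have hm : m = 1 := Nat.pow_right_injective (by norm_num : 2 ≤ 3) (show 3 ^ m = 3 ^ 1 by omega)
          subst hm
          have hp7 : p = 7 := by omega
          exact ⟨Nat.pow_right_injective le_rfl (show 2 ^ a = 2 ^ 3 by omega), hp7, hb1, rfl, rfl, rfl, rfl⟩
    · -- `e₁ = 2`, `e₂ = p`
      exfalso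
      rcases Nat.lt_or_ge p 4 with hp4 | hp4
      · obtain rfl : p = 3 := by omega
        push_cast at key
        have hq5 : 5 ≤ q := by
          have : q ≠ 4 := by rintro rfl; norm_num at hq
          omega
        have hQ5 : (5 : ℚ) ≤ Q := by exact_mod_cast hq5.trans hQq
        have hQ7 : 7 ≤ Q := by
          by_contra h
          have h1' : Q = 5 ∨ Q = 6 := by omega
          rcases h1' with h' | h' <;> rw [h'] at hQd <;> omega
        have hQ7' := hbound Q 7 (by norm_num) (by exact_mod_cast hQ7)
        by_cases hP3 : P = 3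
        · subst hP3
          have hkey' : (1 : ℚ) / (3 * T) + 1 / (3 * Q) = 1 / (T * 3 * Q) := by
            push_cast at key
            ring_nf at key ⊢
            linarith
          have : (Q : ℚ) + T = 1 := by
            field_simp at hkey'
            linarith
          have : (4 : ℚ) ≤ T := by exact_mod_cast hT4
          linarith
        have hP9 : 9 ≤ P := by
          rcases Nat.lt_or_ge b 2 with h | h
          · exfalso
            apply hP3
            rw [hP, show b = 1 by omega, pow_one]
          · exact hP ▸ le_trans (by norm_num) (Nat.pow_le_pow_right (by norm_num) h)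
        have hP9' := hbound P 9 (by norm_num) (by exact_mod_cast hP9)
        by_cases hT16 : 16 ≤ T
        · have hT16' := hbound T 16 (by norm_num) (by exact_mod_cast hT16)
          linarith [hP9'.2, hQ7'.2, hT16'.2]
        have hTeq : T = 4 := by
          have ha4 : a < 4 := by
            by_contra h
            exact hT16 (hT ▸ le_trans (by norm_num) (Nat.pow_le_pow_right (by norm_num) (not_lt.mp h)))
          interval_cases a <;> omega
        rw [hTeq] at key hg
        push_cast at key
        by_cases hP27 : 27 ≤ P
        · have hP27' := hbound P 27 (by norm_num) (by exact_mod_cast hP27)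
          linarith [hP27'.2, hQ7'.2]
        have hPeq : P = 9 := by
          have hb3 : b < 3 := by
            by_contra h
            exact hP27 (hP ▸ le_trans (by norm_num) (Nat.pow_le_pow_right (by norm_num) (not_lt.mp h)))
          interval_cases b <;> omega
        rw [hPeq] at key
        push_cast at key
        field_simp at key
        ring_nf at key
        have : (12 : ℚ) * Q ≥ 84 := by
          have : (7 : ℚ) ≤ Q := by exact_mod_cast hQ7
          linarith
        have hQn : (Q : ℕ) * 1 = Q := mul_one Q
        have h2' := hQd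
        rcases Nat.lt_or_ge Q 12 with hQ12 | hQ12
        · interval_cases Q <;> first | omega | (push_cast at key; norm_num at key)
        · have : (12 : ℚ) ≤ Q := by exact_mod_cast hQ12
          nlinarith
      · have hp5 : (5 : ℚ) ≤ p := by
          have : p ≠ 4 := by rintro rfl; norm_num at hp
          exact_mod_cast (by omega : 5 ≤ p)
        push_cast at key
        have hpb : (1 : ℚ) / p ≤ 1 / 5 := one_div_le_one_div_of_le (by norm_num) hp5
        have hqb : (1 : ℚ) / q ≤ 1 / 3 := one_div_le_one_div_of_le (by norm_num) hq'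
        have hpos : (0 : ℚ) < 1 / p := by positivity
        have hqpos : (0 : ℚ) < 1 / q := by positivity
        have hgle' : (1 : ℚ) / 4 * (1 / p) * (1 / q) ≤ 1 / 4 * (1 / 5) * (1 / 3) := by gcongr
        have e1 : (1 - 1 / (T : ℚ)) / p ≤ 1 / p := by
          gcongr; linarith [hTb.1]
        have e2 : (1 - 1 / (Q : ℚ)) / p ≤ 1 / p := by
          gcongr; linarith [hQb.1]
        linarith [hPb.1]
  · rcases he2.imp Eq.symm Eq.symm with rfl | rfl
    · -- `e₁ = q`, `e₂ = 2`
      exfalso
      push_cast at key
      have hodd : q * 2 ∣ P - 1 := by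
        refine (Nat.coprime_two_right.mpr (hq.odd_of_ne_two hq2)).mul_dvd_of_dvd_of_dvd hPd ?_
        obtain ⟨i, hi⟩ := (hP ▸ (hp.odd_of_ne_two hp2).pow : Odd P)
        exact ⟨i, by omega⟩
      have hsmall : (p = 3 ∧ q = 5) ∨ (p = 5 ∧ q = 3) := by
        have hp4 : p ≠ 4 := by rintro rfl; norm_num at hp
        have hq4 : q ≠ 4 := by rintro rfl; norm_num at hq
        have hq6 : q ≠ 6 := by rintro rfl; norm_num at hq
        have hp6 : p ≠ 6 := by rintro rfl; norm_num at hp
        by_contra hcon
        have e1 : (1 - 1 / (T : ℚ)) / p ≤ 1 / p := by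
          gcongr; linarith [hTb.1]
        have e2 : (1 - 1 / (P : ℚ)) / q ≤ 1 / q := by
          gcongr; linarith [hPb.1]
        have hQle : (1 : ℚ) / (T * P * Q) < 1 / Q / 2 := by
          rw [div_div]
          refine one_div_lt_one_div_of_lt (by positivity) ?_
          have : (4 : ℚ) ≤ T := by exact_mod_cast hT4
          have : (3 : ℚ) ≤ P := by exact_mod_cast hp3.trans hPp
          have : (0 : ℚ) < Q := by exact_mod_cast (by omega : 0 < Q)
          nlinarith [mul_le_mul (by assumption : (4 : ℚ) ≤ T) (by assumption : (3 : ℚ) ≤ P) (by norm_num) (by positivity)]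
        have hs : (1 : ℚ) / 2 < 1 / p + 1 / q := by linarith
        by_cases hp5 : 5 ≤ p
        · by_cases hq5 : 5 ≤ q
          · have : (1 : ℚ) / p ≤ 1 / 5 := one_div_le_one_div_of_le (by norm_num) (by exact_mod_cast hp5)
            have : (1 : ℚ) / q ≤ 1 / 5 := one_div_le_one_div_of_le (by norm_num) (by exact_mod_cast hq5)
            linarith
          · have hq_eq : q = 3 := by omega
            by_cases hp7 : 6 ≤ p
            · have : (1 : ℚ) / p ≤ 1 / 6 := one_div_le_one_div_of_le (by norm_num) (by exact_mod_cast hp7)
              rw [hq_eq] at hs; push_cast at hs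
              linarith
            · exact hcon (Or.inr ⟨by omega, hq_eq⟩)
        · have hp_eq : p = 3 := by omega
          by_cases hq7 : 6 ≤ q
          · have : (1 : ℚ) / q ≤ 1 / 6 := one_div_le_one_div_of_le (by norm_num) (by exact_mod_cast hq7)
            rw [hp_eq] at hs; push_cast at hs
            linarith
          · exact hcon (Or.inl ⟨hp_eq, by omega⟩)
      rcases hsmall with ⟨rfl, rfl⟩ | ⟨rfl, rfl⟩
      · -- p = 3, q = 5
        push_cast at key
        have hP81 : 81 ≤ P := by
          by_contra h
          have hb4 : b < 4 := by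
            by_contra h'
            exact h (hP ▸ le_trans (by norm_num) (Nat.pow_le_pow_right (by norm_num) (not_lt.mp h')))
          interval_cases b <;> omega
        have hP81' := hbound P 81 (by norm_num) (by exact_mod_cast hP81)
        have hQ5' := hbound Q 5 (by norm_num) (by exact_mod_cast hQq)
        have hglt : (1 : ℚ) / (T * P * Q) ≤ 1 / (4 * 81 * 5) := by
          refine one_div_le_one_div_of_le (by norm_num) ?_
          have : (4 : ℚ) ≤ T := by exact_mod_cast hT4
          have : (81 : ℚ) ≤ P := by exact_mod_cast hP81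
          have : (5 : ℚ) ≤ Q := by exact_mod_cast hQq
          gcongr
        by_cases hT16 : 16 ≤ T
        swap
        · have hTeq : T = 4 := by
            have ha4 : a < 4 := by
              by_contra h
              exact hT16 (hT ▸ le_trans (by norm_num) (Nat.pow_le_pow_right (by norm_num) (not_lt.mp h)))
            interval_cases a <;> omega
          rw [hTeq] at key hglt
          push_cast at key hglt
          linarith [hP81'.1, hQ5'.1]
        have hT16' := hbound T 16 (by norm_num) (by exact_mod_cast hT16)
        rcases Nat.lt_or_ge c 3 with hc3 | hc3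
        · interval_cases c
          · have hQeq : Q = 5 := by omega
            rw [hQeq] at key hglt
            push_cast at key hglt
            linarith [hP81'.1, hT16'.1]
          · have hQeq : Q = 25 := by omega
            rw [hQeq] at key hg hglt
            push_cast at key hg hglt
            by_cases hT64 : 64 ≤ T
            · have hT64' := hbound T 64 (by norm_num) (by exact_mod_cast hT64)
              linarith [hP81'.2, hT64'.2]
            · have hTeq : T = 16 := by
                have ha6 : a < 6 := by
                  by_contra h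
                  exact hT64 (hT ▸ le_trans (by norm_num) (Nat.pow_le_pow_right (by norm_num) (not_lt.mp h)))
                interval_cases a <;> omega
              rw [hTeq] at key hglt
              push_cast at key hglt
              linarith [hP81'.1]
        · have hQ125 : 125 ≤ Q := hQ ▸ le_trans (by norm_num) (Nat.pow_le_pow_right (by norm_num) hc3)
          have hQ125' := hbound Q 125 (by norm_num) (by exact_mod_cast hQ125)
          linarith [hP81'.2, hT16'.2, hQ125'.2]
      · -- p = 5, q = 3
        push_cast at key
        have hT16 : 16 ≤ T := by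
          by_contra h
          have ha4 : a < 4 := by
            by_contra h'
            exact h (hT ▸ le_trans (by norm_num) (Nat.pow_le_pow_right (by norm_num) (not_lt.mp h')))
          interval_cases a <;> omega
        have hP25 : 25 ≤ P := by
          by_contra h
          have hb2 : b < 2 := by
            by_contra h'
            exact h (hP ▸ le_trans (by norm_num) (Nat.pow_le_pow_right (by norm_num) (not_lt.mp h')))
          interval_cases b <;> omega
        have hT16' := hbound T 16 (by norm_num) (by exact_mod_cast hT16)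
        have hP25' := hbound P 25 (by norm_num) (by exact_mod_cast hP25)
        have hglt : (1 : ℚ) / (T * P * Q) ≤ 1 / (16 * 25 * 3) := by
          refine one_div_le_one_div_of_le (by norm_num) ?_
          have : (16 : ℚ) ≤ T := by exact_mod_cast hT16
          have : (25 : ℚ) ≤ P := by exact_mod_cast hP25
          have : (3 : ℚ) ≤ Q := by exact_mod_cast hQq
          gcongr
        have hQmod : Q ≡ 3 [MOD 5] := by
          have h' : T * Q ≡ 3 [MOD 5] := by
            rw [← h1]
            simpa using hm1.mul_right 3
          have hT1 : T ≡ 1 [MOD 5] := ((Nat.modEq_iff_dvd' (by omega)).mpr hTd).symm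
          simpa using (hT1.mul_right Q).symm.trans h'
        unfold Nat.ModEq at hQmod
        rcases Nat.lt_or_ge c 5 with hc5 | hc5
        · interval_cases c
          · have hQeq : Q = 3 := by omega
            rw [hQeq] at key
            rw [hQeq] at hglt
            push_cast at key hglt
            linarith [hT16'.1, hP25'.1]
          all_goals (rw [hQ] at hQmod; norm_num at hQmod)
        · have hQ243 : 243 ≤ Q := hQ ▸ le_trans (by norm_num) (Nat.pow_le_pow_right (by norm_num) hc5)
          have hQ243' := hbound Q 243 (by norm_num) (by exact_mod_cast hQ243)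
          linarith [hP25'.2, hT16'.2, hQ243'.2]
    · -- `e₁ = q`, `e₂ = p`
      exfalso
      push_cast at key
      have e1 : (1 - 1 / (T : ℚ)) / p ≤ 1 / p := by
        gcongr; linarith [hTb.1]
      have e2 : (1 - 1 / (P : ℚ)) / q ≤ 1 / q := by
        gcongr; linarith [hPb.1]
      have e3 : (1 - 1 / (Q : ℚ)) / p ≤ 1 / p := by
        gcongr; linarith [hQb.1]
      have hpq5 : 5 ≤ p ∨ 5 ≤ q := by
        rcases Nat.lt_or_ge p 5 with h | h
        · refine Or.inr ?_
          have : p ≠ 4 := by rintro rfl; norm_num at hp
          have : q ≠ 4 := by rintro rfl; norm_num at hq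
          omega
        · exact Or.inl h
      have hp3' : (1 : ℚ) / p ≤ 1 / 3 := one_div_le_one_div_of_le (by norm_num) hp'
      have hq3' : (1 : ℚ) / q ≤ 1 / 3 := one_div_le_one_div_of_le (by norm_num) hq'
      have hg' : (1 : ℚ) / (T * P * Q) ≤ 1 / (4 * 3 * 3) := by
        refine one_div_le_one_div_of_le (by norm_num) ?_
        have : (4 : ℚ) ≤ T := by exact_mod_cast hT4
        have : (3 : ℚ) ≤ P := by exact_mod_cast hp3.trans hPp
        have : (3 : ℚ) ≤ Q := by exact_mod_cast hq3.trans hQq
        gcongr
      rcases hpq5 with h | h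
      · have : (1 : ℚ) / p ≤ 1 / 5 := one_div_le_one_div_of_le (by norm_num) (by exact_mod_cast h)
        linarith
      · have : (1 : ℚ) / q ≤ 1 / 5 := one_div_le_one_div_of_le (by norm_num) (by exact_mod_cast h)
        linarith

end Cfsg.Agent.Grp
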