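import Mathlib
import Cfsg.Agent.Lib.Grp.PrimeOrder
import Cfsg.Agent.Lib.Grp.PrimeOrderArith

/-!
A simple group with all element orders prime and three prime divisors is the alternating group of degree five.
-/

set_option autoImplicit false
set_option linter.unusedSectionVars false

namespace Cfsg.Agent.Grp

open Subgroup

universe u

variable {G : Type u} [Group G]

theorem sylow_ne_bot_of_prime_dvd [Finite G] {s : ℕ} [Fact s.Prime] (hd : s ∣ Nat.card G) (P : Sylow s G) :
    s ∣ Nat.card (P : Subgroup G) := P.dvd_card_of_dvd_card hd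

/-- The normalizer of a Sylow subgroup in the simple case. -/
theorem PrimeOrders.sylow_normalizer [Finite G] [IsSimpleGroup G] (hna : ¬ IsMulCommutative G)
    (hG : PrimeOrders G) {s : ℕ} [hs : Fact s.Prime] (hd : s ∣ Nat.card G) (P : Sylow s G) :
    ∃ e : ℕ, e.Prime ∧ e ≠ s ∧ e ∣ Nat.card G ∧
      Nat.card (Subgroup.normalizer ((P : Subgroup G) : Set G)) = e * Nat.card (P : Subgroup G) ∧
      e ∣ Nat.card (P : Subgroup G) - 1 := by
  classical
  have hP1 : (P : Subgroup G) ≠ ⊥ := P.ne_bot_of_dvd_card hd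
  have hnsol : ¬ Group.IsSolvable G := fun h => by
    have := h
    exact hna ⟨⟨fun a b => IsSimpleGroup.comm_iff_isSolvable.mpr h a b⟩⟩
  set N := Subgroup.normalizer ((P : Subgroup G) : Set G) with hN
  set D := (P : Subgroup G).subgroupOf N
  have hPN : (P : Subgroup G) ≤ N := Subgroup.le_normalizer
  have hDn : D.Normal := Subgroup.normal_in_normalizer
  have hD1 : D ≠ ⊥ := fun h => hP1 (by
    rw [Subgroup.subgroupOf_eq_bot] at h
    simpa using h.eq_bot_of_le hPN)
  have hDp : IsPGroup s D := P.isPGroup'.comap_subtype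
  have hGN := hG.subgroup N
  have hDc : Nat.card D = Nat.card (P : Subgroup G) := Nat.card_congr (Subgroup.subgroupOfEquivOfLe hPN).toEquiv
  have hidx : ¬ s ∣ D.index := by
    intro h
    exact P.not_dvd_index (h.trans (Dvd.intro _ (Subgroup.relIndex_mul_index hPN)))
  -- some prime other than `s` divides the index
  by_cases hDi : D.index = 1
  · exfalso
    have hNP : N = (P : Subgroup G) := le_antisymm (fun x hx => by
      have := (Subgroup.index_eq_one.mp hDi).ge (Subgroup.mem_top (⟨x, hx⟩ : N))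
      exact this) hPN
    have hloc : Cfsg.HasNormalPComplement s G := by
      rw [Cfsg.Agent.Transfer.hasNormalPComplement_iff_local]
      intro U hU hU1
      obtain ⟨R, hR⟩ := hU.exists_le_sylow
      obtain ⟨g, hg⟩ := MulAction.exists_smul_eq G P R
      have hNU : Subgroup.normalizer (U : Set G) ≤ (R : Subgroup G) := by
        intro x hx
        have hxR : x • R = R := by
          by_contra hne
          refine hU1 (le_bot_iff.mp ?_)
          rw [← hG.sylow_inf R (x • R) (Ne.symm hne)]
          refine le_inf hR fun u hu => ?_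
          rw [Sylow.coe_subgroup_smul, mem_smul_conj]
          exact hR (by simpa using mem_conj_normalizer (inv_mem hx) hu)
        rw [Sylow.smul_eq_iff_mem_normalizer] at hxR
        have hsub : Subgroup.normalizer ((R : Subgroup G) : Set G) = (R : Subgroup G) := by
          rw [← hg, Sylow.coe_subgroup_smul, ← map_conj_eq_smul, ← Subgroup.map_equiv_normalizer_eq, ← hN, hNP]
        exact hsub.le hxR
      exact Cfsg.Agent.Transfer.hasNormalPComplement_iff_exists.mpr ⟨⊥, inferInstance, by
        rw [Subgroup.card_bot]; exact hs.out.not_dvd_one, by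
        obtain ⟨k, hk⟩ := IsPGroup.iff_card.mp (R.isPGroup'.to_le hNU)
        exact ⟨k, by rw [Subgroup.index_bot, hk]⟩⟩
    obtain ⟨K, hK, hKs, k, hk⟩ := Cfsg.Agent.Transfer.hasNormalPComplement_iff_exists.mp hloc
    rcases IsSimpleGroup.eq_bot_or_eq_top_of_normal K hK with rfl | rfl
    · rw [Subgroup.index_bot] at hk
      exact hnsol (@IsNilpotent.to_isSolvable _ _ (IsPGroup.of_card hk).isNilpotent)
    · exact hKs (by rwa [Subgroup.card_top])
  obtain ⟨e, he, hed⟩ := Nat.exists_prime_and_dvd hDi
  have hes : e ≠ s := fun h => hidx (h ▸ hed)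
  have : Fact e.Prime := ⟨he⟩
  have heN : e ∣ Nat.card N := hed.trans (Subgroup.index_dvd_card D)
  have huniq : ∀ r : ℕ, r.Prime → r ∣ D.index → r = e := fun r hr hrd =>
    hGN.prime_unique hr he (fun h : r = s => hidx (h ▸ hrd)) hes (hrd.trans (Subgroup.index_dvd_card D)) heN hDp hD1
  -- the index is exactly `e`
  obtain ⟨V, -, hV1, hVab, hV, hVn⟩ := exists_abelian_in hDp hD1
  have hDe : D.index = e := by
    have h1 := Nat.eq_prime_pow_of_unique_prime_dvd (p := e) Subgroup.index_ne_zero_of_finite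
      (fun {r} hr hrd => huniq r hr hrd)
    obtain ⟨E⟩ : Nonempty (Sylow e N) := inferInstance
    have h2 := hGN.card_dvd_prime hes hV hV1 E.isPGroup'
      (fun g _ => hVn (by rw [Subgroup.normalizer_eq_top]; exact Subgroup.mem_top g))
    have h3 : D.index ∣ Nat.card (E : Subgroup N) := by
      rw [h1] at hed ⊢
      exact E.pow_dvd_card_of_pow_dvd_card (h1 ▸ Subgroup.index_dvd_card D)
    exact Nat.dvd_antisymm (h3.trans h2) hed
  refine ⟨e, he, hes, heN.trans (Subgroup.card_subgroup_dvd_card N), ?_, ?_⟩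
  · rw [← Subgroup.card_mul_index D, hDc, hDe, mul_comm]
  -- orbits of an element of order `e` on the nontrivial elements of `P`
  obtain ⟨y, hy⟩ := exists_prime_orderOf_dvd_card' e heN
  have hy1 : (y : G) ≠ 1 := fun h => by
    rw [← Subgroup.orderOf_coe, h, orderOf_one] at hy
    exact he.ne_one hy.symm
  set Y := Subgroup.zpowers (y : G)
  have hYp : IsPGroup e Y := IsPGroup.of_card (n := 1) (by rw [Nat.card_zpowers, Subgroup.orderOf_coe, hy, pow_one])
  have hYN : Y ≤ Subgroup.normalizer ((P : Subgroup G) : Set G) := Subgroup.zpowers_le.mpr y.2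
  let φ : Y →* MulAut (P : Subgroup G) :=
    (Subgroup.normalizerMonoidHom (P : Subgroup G)).comp (Subgroup.inclusion hYN)
  let act : MulAction Y (P : Subgroup G) := MulAction.compHom _ φ
  have hmod := hYp.card_modEq_card_fixedPoints (α := (P : Subgroup G))
  have hfix : Nat.card (MulAction.fixedPoints Y (P : Subgroup G)) = 1 := by
    rw [Nat.card_eq_one_iff_unique]
    refine ⟨⟨fun a b => ?_⟩, ⟨1, fun z => map_one (φ z)⟩⟩
    have key : ∀ w : MulAction.fixedPoints Y (P : Subgroup G), (w : (P : Subgroup G)) = 1 := by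
      intro w
      by_contra hw
      have hw' : ((w : (P : Subgroup G)) : G) ≠ 1 := by simpa using hw
      have h1 := congrArg Subtype.val (w.2 (⟨(y : G), Subgroup.mem_zpowers _⟩ : Y))
      have hc : Commute (y : G) ((w : (P : Subgroup G)) : G) := mul_inv_eq_iff_eq_mul.mp h1
      have h2 := hG.orderOf_eq_of_commute hy1 hw' hc
      rw [Subgroup.orderOf_coe, hy, hG.orderOf_eq_of_mem P.isPGroup' (SetLike.coe_mem _) hw'] at h2
      exact hes h2
    exact Subtype.ext ((key a).trans (key b).symm)
  rw [hfix] at hmod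
  exact (Nat.modEq_iff_dvd' Nat.card_pos).mp hmod.symm

theorem PrimeOrders.card_orderOf [Finite G] (hG : PrimeOrders G) {s : ℕ} [hs : Fact s.Prime]
    (P : Sylow s G) :
    Nat.card {g : G // orderOf g = s} = Nat.card (Sylow s G) * (Nat.card (P : Subgroup G) - 1) := by
  classical
  have : Fintype G := Fintype.ofFinite G
  have : Fintype (Sylow s G) := Fintype.ofFinite _
  have e1 : ∀ R : Sylow s G, Nat.card {x : (R : Subgroup G) // x ≠ 1} = Nat.card (P : Subgroup G) - 1 := by
    intro R
    rw [Nat.card_eq_fintype_card, Fintype.card_subtype_compl, Fintype.card_subtype_eq,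
      ← Nat.card_eq_fintype_card, R.card_eq_multiplicity, ← P.card_eq_multiplicity]
  have e2 : Nat.card (Σ R : Sylow s G, {x : (R : Subgroup G) // x ≠ 1}) =
      Nat.card (Sylow s G) * (Nat.card (P : Subgroup G) - 1) := by
    rw [Nat.card_sigma, Finset.sum_congr rfl fun R _ => e1 R, Finset.sum_const, smul_eq_mul,
      Finset.card_univ, ← Nat.card_eq_fintype_card]
  rw [← e2]
  refine (Nat.card_congr (Equiv.ofBijective
    (fun z : (Σ R : Sylow s G, {x : (R : Subgroup G) // x ≠ 1}) =>
      (⟨((z.2 : (z.1 : Subgroup G)) : G), hG.orderOf_eq_of_mem z.1.isPGroup' (SetLike.coe_mem _) (by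
        simpa using z.2.2)⟩ : {g : G // orderOf g = s})) ⟨?_, ?_⟩)).symm
  · rintro ⟨R, ⟨a, ha⟩⟩ ⟨R', ⟨b, hb⟩⟩ e
    have e' : (a : G) = b := congrArg Subtype.val e
    obtain rfl : R = R' := by
      by_contra hne
      refine ha (Subtype.ext (Subgroup.mem_bot.mp ?_))
      rw [← hG.sylow_inf R R' hne]
      exact ⟨a.2, by rw [e']; exact b.2⟩
    exact Sigma.ext rfl (heq_of_eq (Subtype.ext (Subtype.ext e')))
  · rintro ⟨g, hg⟩
    have hz : IsPGroup s (Subgroup.zpowers g) := IsPGroup.of_card (n := 1) (by rw [Nat.card_zpowers, hg, pow_one])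
    obtain ⟨R, hR⟩ := hz.exists_le_sylow
    exact ⟨⟨R, ⟨⟨g, hR (Subgroup.mem_zpowers g)⟩, fun h => by
      have h' : g = 1 := congrArg Subtype.val h
      rw [h', orderOf_one] at hg
      exact hs.out.ne_one hg.symm⟩⟩, rfl⟩

theorem PrimeOrders.class_equation [Finite G] (hG : PrimeOrders G) :
    Nat.card G = 1 + ∑ s ∈ (Nat.card G).primeFactors, Nat.card {g : G // orderOf g = s} := by
  classical
  have : Fintype G := Fintype.ofFinite G
  have h1 : (Finset.univ.erase (1 : G)).card =
      ∑ s ∈ (Nat.card G).primeFactors, ((Finset.univ.erase (1 : G)).filter (fun g => orderOf g = s)).card :=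
    Finset.card_eq_sum_card_fiberwise fun g hg =>
      Finset.mem_coe.mpr (Nat.mem_primeFactors.mpr
        ⟨hG g (Finset.mem_erase.mp hg).1, orderOf_dvd_natCard g, Nat.card_pos.ne'⟩)
  rw [Finset.card_erase_of_mem (Finset.mem_univ _), Finset.card_univ, ← Nat.card_eq_fintype_card] at h1
  have h2 : ∀ s ∈ (Nat.card G).primeFactors,
      ((Finset.univ.erase (1 : G)).filter (fun g => orderOf g = s)).card = Nat.card {g : G // orderOf g = s} := by
    intro s hs
    rw [Nat.card_eq_fintype_card, Fintype.card_subtype]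
    congr 1
    ext g
    simp only [Finset.mem_filter, Finset.mem_erase, Finset.mem_univ, and_true]
    refine ⟨fun h => ⟨trivial, h.2⟩, fun h => ⟨fun h' => ?_, h.2⟩⟩
    rw [h', orderOf_one] at h
    exact (Nat.prime_of_mem_primeFactors hs).ne_one h.2.symm
  rw [Finset.sum_congr rfl h2] at h1
  have : 0 < Nat.card G := Nat.card_pos
  omega

/-- A simple group with element orders prime having three prime divisors `2, p, q` and the
parameters `(8, 7, 9)` does not exist. -/
theorem no_simple_504 [Finite G] [IsSimpleGroup G] (hG : PrimeOrders G) (hcard : Nat.card G = 504)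
    (h2 : ∀ T : Sylow 2 G, Nat.card (Subgroup.normalizer ((T : Subgroup G) : Set G)) = 56)
    (h3 : ∀ Q : Sylow 3 G, Nat.card (Subgroup.normalizer ((Q : Subgroup G) : Set G)) = 18) : False := by
  classical
  have : Fact (Nat.Prime 2) := ⟨Nat.prime_two⟩
  have : Fact (Nat.Prime 3) := ⟨Nat.prime_three⟩
  have : Fintype (Sylow 2 G) := Fintype.ofFinite _
  have : Fintype G := Fintype.ofFinite G
  obtain ⟨o⟩ : Nonempty (Sylow 2 G) := inferInstance
  obtain ⟨Q⟩ : Nonempty (Sylow 3 G) := inferInstance
  have hn : Nat.card (Sylow 2 G) = 9 := by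
    have := Subgroup.card_mul_index (Subgroup.normalizer ((o : Subgroup G) : Set G))
    rw [Sylow.card_eq_index_normalizer o]
    rw [h2 o, hcard] at this
    show (Subgroup.normalizer ((o : Subgroup G) : Set G)).index = 9
    omega
  -- elements of order three fix no point
  have hfree : ∀ (x : G) (T : Sylow 2 G), orderOf x = 3 → x • T ≠ T := by
    intro x T hx h
    rw [Sylow.smul_eq_iff_mem_normalizer] at h
    have := Subgroup.orderOf_dvd_natCard _ h
    erw [hx, h2 T] at this
    omega
  -- the action is faithful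
  have hker : ∀ g : G, (∀ T : Sylow 2 G, g • T = T) → g = 1 := by
    intro g hg
    have : (MulAction.toPermHom G (Sylow 2 G)).ker = ⊥ := by
      refine (IsSimpleGroup.eq_bot_or_eq_top_of_normal _ inferInstance).resolve_right fun h => ?_
      obtain ⟨x, hx⟩ := exists_prime_orderOf_dvd_card' (G := G) 3 (by rw [hcard]; norm_num)
      have h' := congrArg (fun σ : Equiv.Perm (Sylow 2 G) => σ o) (MonoidHom.mem_ker.mp (h.ge (Subgroup.mem_top x)))
      exact hfree x o hx h'
    exact Subgroup.mem_bot.mp (this ▸ MonoidHom.mem_ker.mpr (Equiv.ext hg))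
  -- an element fixing three points is trivial
  have hthree : ∀ (g : G) (a b c : Sylow 2 G), a ≠ b → a ≠ c → b ≠ c →
      g • a = a → g • b = b → g • c = c → g = 1 := by
    intro g a b c hab hac hbc ha hb hc
    by_contra hg1
    have hgN := Sylow.smul_eq_iff_mem_normalizer.mp ha
    have hdvd : orderOf g ∣ 56 := h2 a ▸ Subgroup.orderOf_dvd_natCard _ hgN
    rcases (hG g hg1).eq_two_or_odd' with ho | ho
    · -- involutions lie in a unique Sylow subgroup
      have hmem : ∀ T : Sylow 2 G, g • T = T → g ∈ (T : Subgroup G) := by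
        intro T hT
        have hz : IsPGroup 2 (Subgroup.zpowers g) := IsPGroup.of_card (n := 1) (by rw [Nat.card_zpowers, ho, pow_one])
        have h := T.is_maximal' (IsPGroup.to_sup_of_normal_right' hz T.isPGroup'
          (Subgroup.zpowers_le.mpr (Sylow.smul_eq_iff_mem_normalizer.mp hT))) le_sup_right
        exact h ▸ Subgroup.mem_sup_left (Subgroup.mem_zpowers g)
      exact hg1 (Subgroup.mem_bot.mp (hG.sylow_inf a b hab ▸ ⟨hmem a ha, hmem b hb⟩))
    · have ho7 : orderOf g = 7 := by
        have hp := hG g hg1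
        have hle : orderOf g ≤ 56 := Nat.le_of_dvd (by norm_num) hdvd
        interval_cases h : orderOf g <;> first | rfl | omega | exact absurd ho (by decide) | norm_num at hp
      have hY : IsPGroup 7 (Subgroup.zpowers g) := IsPGroup.of_card (n := 1) (by rw [Nat.card_zpowers, ho7, pow_one])
      have : Fact (Nat.Prime 7) := ⟨by norm_num⟩
      have hmod := hY.card_modEq_card_fixedPoints (α := Sylow 2 G)
      rw [hn] at hmod
      have hmem : ∀ T : Sylow 2 G, g • T = T → T ∈ MulAction.fixedPoints (Subgroup.zpowers g) (Sylow 2 G) := by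
        intro T hT z
        show (z : G) • T = T
        exact (Subgroup.zpowers_le.mpr (show g ∈ MulAction.stabilizer G T from hT) z.2)
      have h3le : 3 ≤ Nat.card (MulAction.fixedPoints (Subgroup.zpowers g) (Sylow 2 G)) := by
        rw [Nat.card_coe_set_eq]
        refine le_trans (le_of_eq ?_) (Set.ncard_le_ncard (s := {a, b, c}) ?_ (Set.toFinite _))
        · rw [Set.ncard_eq_toFinset_card']
          simp [hab, hac, hbc]
        · rintro T (rfl | rfl | rfl)
          exacts [hmem _ ha, hmem _ hb, hmem _ hc]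
      have hle9 : Nat.card (MulAction.fixedPoints (Subgroup.zpowers g) (Sylow 2 G)) ≤ 9 :=
        hn ▸ Nat.card_le_card_of_injective _ Subtype.val_injective
      have h9 : Nat.card (MulAction.fixedPoints (Subgroup.zpowers g) (Sylow 2 G)) = 9 := by
        unfold Nat.ModEq at hmod
        omega
      refine hg1 (hker g fun T => ?_)
      have huniv : MulAction.fixedPoints (Subgroup.zpowers g) (Sylow 2 G) = Set.univ := by
        refine Set.eq_of_subset_of_ncard_le (Set.subset_univ _) ?_ (Set.toFinite _)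
        rw [Set.ncard_univ, hn, ← Nat.card_coe_set_eq, h9]
      exact (huniv.ge (Set.mem_univ T)) ⟨g, Subgroup.mem_zpowers g⟩
  -- `G` is simply transitive on triples of distinct points
  let F : G → (Fin 3 ↪ Sylow 2 G) → (Fin 3 ↪ Sylow 2 G) := fun g t =>
    t.trans (MulAction.toPerm g).toEmbedding
  have hcardT : Nat.card (Fin 3 ↪ Sylow 2 G) = 504 := by
    rw [Nat.card_eq_fintype_card, Fintype.card_embedding_eq, ← Nat.card_eq_fintype_card, ← Nat.card_eq_fintype_card, hn]
    simp [Nat.descFactorial]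
  have htrans : ∀ t t' : Fin 3 ↪ Sylow 2 G, ∃ g : G, ∀ i, g • t i = t' i := by
    intro t t'
    have hinj : Function.Injective (fun g : G => F g t) := by
      intro g g' h
      refine inv_mul_eq_one.mp (hthree (g⁻¹ * g') (t 0) (t 1) (t 2) (t.injective.ne (by decide))
        (t.injective.ne (by decide)) (t.injective.ne (by decide)) ?_ ?_ ?_)
      all_goals
        rw [mul_smul, inv_smul_eq_iff]
        exact (congrFun (congrArg (fun e : Fin 3 ↪ Sylow 2 G => (e : Fin 3 → Sylow 2 G)) h) _).symm
    obtain ⟨g, hg⟩ := (hinj.bijective_of_nat_card_le (by rw [hcardT, hcard])).2 t'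
    exact ⟨g, fun i => by rw [← hg]; rfl⟩
  -- two subgroups of order three of `Q`
  have hQc : Nat.card (Q : Subgroup G) = 9 := by
    rw [Q.card_eq_multiplicity, hcard, show (504 : ℕ) = 3 ^ 2 * 56 by norm_num,
      Nat.factorization_mul (by norm_num) (by norm_num), Finsupp.add_apply,
      Nat.prime_three.factorization_pow, Finsupp.single_eq_same,
      Nat.factorization_eq_zero_of_not_dvd (by norm_num)]
    norm_num
  obtain ⟨x₁, hx₁⟩ : ∃ x : (Q : Subgroup G), x ≠ 1 := by
    have : Nontrivial (Q : Subgroup G) := Finite.one_lt_card_iff_nontrivial.mp (by rw [hQc]; norm_num)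
    exact exists_ne 1
  have hx₁' : (x₁ : G) ≠ 1 := by simpa using hx₁
  have ho₁ : orderOf (x₁ : G) = 3 := hG.orderOf_eq_of_mem Q.isPGroup' x₁.2 hx₁'
  obtain ⟨x₂, hx₂Q, hx₂⟩ : ∃ x ∈ (Q : Subgroup G), x ∉ Subgroup.zpowers (x₁ : G) := by
    by_contra h
    push Not at h
    have := Subgroup.card_le_of_le (K := Subgroup.zpowers (x₁ : G)) (H := (Q : Subgroup G)) h
    rw [hQc, Nat.card_zpowers, ho₁] at this
    omega
  have hx₂' : x₂ ≠ 1 := fun h => hx₂ (h ▸ one_mem _)
  have ho₂ : orderOf x₂ = 3 := hG.orderOf_eq_of_mem Q.isPGroup' hx₂Q hx₂'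
  -- their triples through `o`
  have hemb : ∀ x : G, orderOf x = 3 → Function.Injective (fun i : Fin 3 => x ^ (i : ℕ) • o) := by
    intro x hx i j h
    by_contra hij
    have h3 : x ^ 3 = 1 := hx ▸ pow_orderOf_eq_one x
    have hfr : ∀ n : ℕ, x ^ n • o = o → x ^ n = 1 := by
      intro n hn'
      by_contra hne
      exact hfree (x ^ n) o ((Nat.prime_dvd_prime_iff_eq (hG _ hne) Nat.prime_three).mp (hx ▸ orderOf_pow_dvd n)) hn'
    have key : ∀ i j : Fin 3, (i : ℕ) < j → x ^ (i : ℕ) • o = x ^ (j : ℕ) • o → False := by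
      intro i j hlt h
      have h' : x ^ ((j : ℕ) - i) • o = o := by
        have hsplit : x ^ (j : ℕ) = x ^ (i : ℕ) * x ^ ((j : ℕ) - i) := by rw [← pow_add]; congr 1; omega
        rw [hsplit, mul_smul] at h
        exact (MulAction.injective (x ^ (i : ℕ)) h).symm
      have h1 := orderOf_dvd_of_pow_eq_one (hfr _ h')
      rw [hx] at h1
      have := Nat.le_of_dvd (by omega) h1
      omega
    rcases lt_or_gt_of_ne (fun e : (i : ℕ) = j => hij (Fin.ext e)) with h' | h'
    · exact key i j h' h
    · exact key j i h' h.symm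
  obtain ⟨g, hg⟩ := htrans ⟨_, hemb _ ho₁⟩ ⟨_, hemb _ ho₂⟩
  have hg0 : g • o = o := by simpa using hg 0
  have hg1 : g • ((x₁ : G) • o) = x₂ • o := by simpa using hg 1
  have hg2 : g • ((x₁ : G) ^ 2 • o) = x₂ ^ 2 • o := by simpa using hg 2
  have h31 : (x₁ : G) ^ 3 = 1 := orderOf_dvd_iff_pow_eq_one.mp (dvd_of_eq ho₁)
  have h32 : x₂ ^ 3 = 1 := orderOf_dvd_iff_pow_eq_one.mp (dvd_of_eq ho₂)
  have hconj : g * (x₁ : G) * g⁻¹ = x₂ := by
    have hga : g⁻¹ • o = o := inv_smul_eq_iff.mpr hg0.symm
    have hgb : g⁻¹ • (x₂ • o) = (x₁ : G) • o := inv_smul_eq_iff.mpr hg1.symm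
    have hgc : g⁻¹ • (x₂ ^ 2 • o) = (x₁ : G) ^ 2 • o := inv_smul_eq_iff.mpr hg2.symm
    have hinj := hemb x₂ ho₂
    refine (inv_mul_eq_one.mp (hthree (x₂⁻¹ * (g * (x₁ : G) * g⁻¹)) o (x₂ • o) (x₂ ^ 2 • o)
      (fun h => absurd (@hinj 0 1 (by simpa using h)) (by decide))
      (fun h => absurd (@hinj 0 2 (by simpa using h)) (by decide))
      (fun h => absurd (@hinj 1 2 (by simpa using h)) (by decide)) ?_ ?_ ?_)).symm
    · rw [mul_smul, inv_smul_eq_iff, mul_smul, hga, mul_smul]
      exact hg1
    · rw [mul_smul, inv_smul_eq_iff, mul_smul, hgb, mul_smul, ← mul_smul (x₁ : G), ← sq, hg2,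
        ← mul_smul, ← sq]
    · rw [mul_smul, inv_smul_eq_iff, mul_smul, hgc, mul_smul, ← mul_smul (x₁ : G), ← pow_succ', h31,
        one_smul, hg0, ← mul_smul, ← pow_succ', h32, one_smul]
  -- so they are conjugate in the normalizer of `Q`
  have hgQ : g • Q = Q := by
    by_contra hne
    refine hx₂' (Subgroup.mem_bot.mp ?_)
    rw [← hG.sylow_inf Q (g • Q) (Ne.symm hne)]
    refine ⟨hx₂Q, ?_⟩
    show x₂ ∈ ((g • Q : Sylow 3 G) : Subgroup G)
    rw [Sylow.coe_subgroup_smul, ← map_conj_eq_smul]
    exact ⟨x₁, x₁.2, hconj⟩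
  rw [Sylow.smul_eq_iff_mem_normalizer] at hgQ
  have hQab : ∀ a ∈ (Q : Subgroup G), ∀ b ∈ (Q : Subgroup G), a * b = b * a := by
    have h := IsPGroup.isMulCommutative_of_card_eq_prime_sq (G := (Q : Subgroup G)) (p := 3) (by rw [hQc]; norm_num)
    exact fun a ha b hb => congrArg Subtype.val (h.1.1 ⟨a, ha⟩ ⟨b, hb⟩)
  rcases eq_or_ne g 1 with rfl | hgne
  · rw [one_mul, inv_one, mul_one] at hconj
    exact hx₂ (hconj ▸ Subgroup.mem_zpowers _)
  have hgo : orderOf g ∣ 18 := by rw [← h3 Q]; exact Subgroup.orderOf_dvd_natCard _ hgQ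
  rcases (hG g hgne).eq_two_or_odd' with ho | ho
  · -- an involution inverts `Q`
    have hgi : g⁻¹ = g := inv_eq_of_mul_eq_one_right (by
      have := pow_orderOf_eq_one g; rwa [ho, sq] at this)
    have hw : (x₁ : G) * x₂ ∈ (Q : Subgroup G) := mul_mem x₁.2 hx₂Q
    by_cases hw1 : (x₁ : G) * x₂ = 1
    · rw [mul_eq_one_iff_inv_eq] at hw1
      exact hx₂ (hw1 ▸ inv_mem (Subgroup.mem_zpowers _))
    have hconj2 : g * x₂ * g⁻¹ = x₁ := by
      rw [← hconj, hgi]
      have hgg : g * g = 1 := by have := pow_orderOf_eq_one g; rwa [ho, sq] at this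
      calc g * (g * (x₁ : G) * g) * g = (g * g) * x₁ * (g * g) := by simp [mul_assoc]
        _ = x₁ := by rw [hgg, one_mul, mul_one]
    have hc : Commute g ((x₁ : G) * x₂) := by
      show g * ((x₁ : G) * x₂) = (x₁ : G) * x₂ * g
      calc g * ((x₁ : G) * x₂) = (g * (x₁ : G) * g⁻¹) * (g * x₂ * g⁻¹) * g := by group
        _ = x₂ * x₁ * g := by rw [hconj, hconj2]
        _ = (x₁ : G) * x₂ * g := by rw [hQab _ hx₂Q _ x₁.2]
    have h1 := hG.orderOf_eq_of_commute hgne hw1 hc
    rw [ho, hG.orderOf_eq_of_mem Q.isPGroup' hw hw1] at h1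
    omega
  · have ho3 : orderOf g = 3 := by
      have hp := hG g hgne
      have hle : orderOf g ≤ 18 := Nat.le_of_dvd (by norm_num) hgo
      interval_cases h : orderOf g <;> first | rfl | omega | exact absurd ho (by decide) | norm_num at hp
    have hgmem : g ∈ (Q : Subgroup G) := by
      have hz : IsPGroup 3 (Subgroup.zpowers g) := IsPGroup.of_card (n := 1) (by rw [Nat.card_zpowers, ho3, pow_one])
      exact (Q.is_maximal' (IsPGroup.to_sup_of_normal_right' hz Q.isPGroup'
        (Subgroup.zpowers_le.mpr hgQ)) le_sup_right) ▸ Subgroup.mem_sup_left (Subgroup.mem_zpowers g)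
    rw [hQab g hgmem _ x₁.2, mul_inv_cancel_right] at hconj
    exact hx₂ (hconj ▸ Subgroup.mem_zpowers _)

/-- A simple group of order sixty with five Sylow 2-subgroups is alternating. -/
theorem alternating_five_of_sylow [Finite G] [IsSimpleGroup G] (hcard : Nat.card G = 60)
    (hn : Nat.card (Sylow 2 G) = 5) : Nonempty (G ≃* alternatingGroup (Fin 5)) := by
  classical
  have : Fact (Nat.Prime 2) := ⟨Nat.prime_two⟩
  have : Fintype (Sylow 2 G) := Fintype.ofFinite _
  set f := MulAction.toPermHom G (Sylow 2 G) with hf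
  have hk : f.ker = ⊥ := by
    refine (IsSimpleGroup.eq_bot_or_eq_top_of_normal _ inferInstance).resolve_right fun h => ?_
    have : Subsingleton (Sylow 2 G) := ⟨fun a b => by
      obtain ⟨g, hg⟩ := MulAction.exists_smul_eq G a b
      rw [← hg]
      exact (congrArg (fun σ : Equiv.Perm (Sylow 2 G) => σ a) (MonoidHom.mem_ker.mp (h.ge (Subgroup.mem_top g)))).symm⟩
    have := Finite.card_le_one_iff_subsingleton.mpr this
    omega
  have hinj : Function.Injective f := (MonoidHom.ker_eq_bot_iff f).mp hk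
  have hrange : f.range = alternatingGroup (Sylow 2 G) := by
    refine Equiv.Perm.eq_alternatingGroup_of_index_eq_two ?_
    have h1 := Subgroup.card_mul_index f.range
    rw [← Nat.card_congr (MonoidHom.ofInjective hinj).toEquiv, hcard, Nat.card_perm, hn] at h1
    simp [Nat.factorial] at h1
    omega
  exact ⟨(MonoidHom.ofInjective hinj).trans ((MulEquiv.subgroupCongr hrange).trans
    (Equiv.altCongrHom (Fintype.equivFinOfCardEq (by rw [← Nat.card_eq_fintype_card, hn]))))⟩

/-- A simple group with all element orders prime and three prime divisors is alternating of degree five. -/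
theorem PrimeOrders.alternating_five [Finite G] [IsSimpleGroup G] (hna : ¬ IsMulCommutative G)
    (hG : PrimeOrders G) (h3 : (Nat.card G).primeFactors.card = 3) :
    Nonempty (G ≃* alternatingGroup (Fin 5)) := by
  classical
  set g := Nat.card G with hg
  have hne : g ≠ 0 := Nat.card_pos.ne'
  have hdata : ∀ s ∈ g.primeFactors, ∃ e n : ℕ, e ∈ g.primeFactors ∧ e ≠ s ∧ e ∣ s ^ g.factorization s - 1 ∧
      n * e * s ^ g.factorization s = g ∧ n ≡ 1 [MOD s] ∧ 1 ≤ g.factorization s ∧
      Nat.card {x : G // orderOf x = s} = n * (s ^ g.factorization s - 1) ∧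
      (∀ P : Sylow s G, Nat.card (Subgroup.normalizer ((P : Subgroup G) : Set G)) = e * s ^ g.factorization s) ∧
      Nat.card (Sylow s G) = n := by
    intro s hs
    have hsp := Nat.prime_of_mem_primeFactors hs
    have : Fact s.Prime := ⟨hsp⟩
    have hsd := Nat.dvd_of_mem_primeFactors hs
    obtain ⟨P⟩ : Nonempty (Sylow s G) := inferInstance
    obtain ⟨e, he, hes, hed, hN, hed'⟩ := hG.sylow_normalizer hna hsd P
    rw [P.card_eq_multiplicity, ← hg] at hN hed'
    refine ⟨e, Nat.card (Sylow s G), Nat.mem_primeFactors.mpr ⟨he, hed, hne⟩, hes, hed', ?_,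
      card_sylow_modEq_one s G, hsp.factorization_pos_of_dvd hne hsd, ?_, ?_, rfl⟩
    · rw [mul_assoc, ← hN, mul_comm, Sylow.card_eq_index_normalizer P]
      exact Subgroup.card_mul_index _
    · rw [hG.card_orderOf P, P.card_eq_multiplicity, ← hg]
    · intro R
      obtain ⟨x, hx⟩ := MulAction.exists_smul_eq G P R
      rw [← hx, Sylow.coe_subgroup_smul, ← map_conj_eq_smul, ← Subgroup.map_equiv_normalizer_eq,
        Subgroup.card_map_of_injective (MulAut.conj x).injective, hN]
  choose! e n he hes hed hn hmod ha hE hN hcardS using hdata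
  have hclass := hG.class_equation
  rw [← hg] at hclass
  rw [Finset.sum_congr rfl hE] at hclass
  have hprod : ∏ s ∈ g.primeFactors, s ^ g.factorization s = g := by
    conv_rhs => rw [← Nat.prod_factorization_pow_eq_self hne]
    rfl
  -- an odd order is impossible
  have h2mem : 2 ∈ g.primeFactors := by
    by_contra h2
    have key : ∀ s ∈ g.primeFactors, 3 * (n s * (s ^ g.factorization s - 1)) + 3 ≤ g := by
      intro s hs
      have h3e : 3 ≤ e s := by
        have := (Nat.prime_of_mem_primeFactors (he s hs)).two_le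
        have : e s ≠ 2 := fun h => h2 (h ▸ he s hs)
        omega
      have hpos : 0 < n s := Nat.pos_of_ne_zero fun h => by
        have := hn s hs
        rw [h, zero_mul, zero_mul] at this
        exact hne this.symm
      have hX : 0 < s ^ g.factorization s := pow_pos (Nat.prime_of_mem_primeFactors hs).pos _
      have h1 : 3 * (n s * (s ^ g.factorization s - 1)) + 3 * n s = 3 * (n s * s ^ g.factorization s) := by
        rw [← Nat.mul_add, Nat.mul_sub_one, Nat.sub_add_cancel (Nat.le_mul_of_pos_right _ hX)]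
      have h2 : 3 * (n s * s ^ g.factorization s) ≤ g :=
        (Nat.mul_le_mul_right _ h3e).trans (le_of_eq ((by ring : _ = n s * e s * _).trans (hn s hs)))
      omega
    have h1 : ∑ s ∈ g.primeFactors, (3 * (n s * (s ^ g.factorization s - 1)) + 3) ≤ ∑ s ∈ g.primeFactors, g :=
      Finset.sum_le_sum fun s hs => key s hs
    rw [Finset.sum_add_distrib, Finset.sum_const, Finset.sum_const, smul_eq_mul, smul_eq_mul, h3,
      ← Finset.mul_sum] at h1
    omega
  obtain ⟨p, q, hpq, hrest⟩ := Finset.card_eq_two.mp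
    (show (g.primeFactors.erase 2).card = 2 by rw [Finset.card_erase_of_mem h2mem, h3])
  have hS : g.primeFactors = {2, p, q} := by rw [← Finset.insert_erase h2mem, hrest]
  -- orient so that the normalizer of a Sylow 2-subgroup has index `p`
  wlog h2p : e 2 = p generalizing p q with Hsym
  · refine Hsym q p hpq.symm (by rw [hrest, Finset.pair_comm]) (by rw [hS, Finset.pair_comm]) ?_
    have h := he 2 h2mem
    rw [hS] at h
    simp only [Finset.mem_insert, Finset.mem_singleton] at h
    exact ((h.resolve_left (hes 2 h2mem)).resolve_left h2p)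
  have hpm : p ∈ g.primeFactors := by rw [hS]; simp
  have hqm : q ∈ g.primeFactors := by rw [hS]; simp
  have hp2 : p ≠ 2 := fun h => by
    have : p ∈ g.primeFactors.erase 2 := by rw [hrest]; simp
    exact (Finset.mem_erase.mp this).1 h
  have hq2 : q ≠ 2 := fun h => by
    have : q ∈ g.primeFactors.erase 2 := by rw [hrest]; simp
    exact (Finset.mem_erase.mp this).1 h
  have hep : e p = 2 ∨ e p = q := by
    have h := he p hpm
    rw [hS] at h
    simp only [Finset.mem_insert, Finset.mem_singleton] at h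
    rcases h with h | h | h
    exacts [Or.inl h, absurd h (hes p hpm), Or.inr h]
  have heq : e q = 2 ∨ e q = p := by
    have h := he q hqm
    rw [hS] at h
    simp only [Finset.mem_insert, Finset.mem_singleton] at h
    rcases h with h | h | h
    exacts [Or.inl h, Or.inr h, absurd h (hes q hqm)]
  have hgprod : g = 2 ^ g.factorization 2 * p ^ g.factorization p * q ^ g.factorization q := by
    conv_lhs => rw [← hprod, hS]
    rw [Finset.prod_insert (by simp [hp2.symm, hq2.symm]), Finset.prod_pair hpq, mul_assoc]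
  have h0 : n 2 * p = p ^ g.factorization p * q ^ g.factorization q := by
    have := hn 2 h2mem
    rw [h2p] at this
    nth_rw 2 [hgprod] at this
    rw [mul_assoc (2 ^ g.factorization 2), mul_comm (2 ^ g.factorization 2)] at this
    exact Nat.eq_of_mul_eq_mul_right (by positivity) this
  have h1 : n p * e p = 2 ^ g.factorization 2 * q ^ g.factorization q := by
    have := hn p hpm
    nth_rw 2 [hgprod] at this
    rw [mul_right_comm (2 ^ g.factorization 2)] at this
    exact Nat.eq_of_mul_eq_mul_right (pow_pos (Nat.prime_of_mem_primeFactors hpm).pos _) this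
  have h2' : n q * e q = 2 ^ g.factorization 2 * p ^ g.factorization p := by
    have := hn q hqm
    nth_rw 2 [hgprod] at this
    exact Nat.eq_of_mul_eq_mul_right (pow_pos (Nat.prime_of_mem_primeFactors hqm).pos _) this
  rw [hS, Finset.sum_insert (by simp [hp2.symm, hq2.symm]), Finset.sum_pair hpq, ← add_assoc (n 2 * _)] at hclass
  nth_rw 1 [hgprod] at hclass
  have ar := arith_case (Nat.prime_of_mem_primeFactors hpm) (Nat.prime_of_mem_primeFactors hqm) hp2 hq2 hpq
    (ha 2 h2mem) (ha p hpm) (ha q hqm) hep heq (h2p ▸ hed 2 h2mem) (hed p hpm) (hed q hqm)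
    (n 2) (n p) (n q) h0 h1 h2' (hmod p hpm) hclass
  rcases ar with ⟨ea, rfl, eb, rfl, ec⟩ | ⟨ea, rfl, eb, rfl, ec, e1, e2⟩
  · rw [ea, eb, ec] at hgprod
    rw [eb, ec] at h0
    refine alternating_five_of_sylow (hgprod.trans (by norm_num)) ?_
    rw [hcardS 2 h2mem]
    norm_num at h0
    omega
  · rw [ea, eb, ec] at hgprod
    exfalso
    refine no_simple_504 hG (hgprod.trans (by norm_num)) (fun T => ?_) fun Q => ?_
    · rw [hN 2 h2mem T, h2p, ea]; norm_num
    · rw [hN 3 hqm Q, e2, ec]; norm_num

end Cfsg.Agent.Grp
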