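import Mathlib
import Cfsg.Prelude.Def_Local
import Cfsg.Agent.Lib.Grp.Cores
import Cfsg.Agent.Lib.Grp.SchurZassenhaus

/-!
Basics of p-soluble groups: quotients, Hall-Higman centralizer lemma, p-length one criterion.
-/

set_option autoImplicit false
set_option linter.unusedSectionVars false

namespace Cfsg.Agent.Grp

open Subgroup

variable {G : Type*} [Group G] [Finite G] {p : ℕ} [hp : Fact p.Prime]

theorem relIndex_dvd_of_normal_le {M D K : Subgroup G} (hM : M.Normal) (hD : D ≤ K) :
    M.relIndex D ∣ M.relIndex K := by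
  have := hM.subgroupOf K
  rw [← Subgroup.relIndex_subgroupOf (H := M) hD]
  exact Subgroup.relIndex_dvd_index_of_normal _ _

theorem relIndex_map_dvd {G' : Type*} [Group G'] (f : G →* G') {H K : Subgroup G} (h : H ≤ K) :
    (H.map f).relIndex (K.map f) ∣ H.relIndex K := by
  have e : (H.map f).subgroupOf (K.map f) = (H.subgroupOf K).map (f.subgroupMap K) := by
    ext ⟨y, hy⟩
    constructor
    · rintro ⟨x, hx, e⟩
      exact ⟨⟨x, h hx⟩, hx, Subtype.ext e⟩
    · rintro ⟨⟨x, hxK⟩, hx, e⟩
      exact ⟨x, hx, congrArg Subtype.val e⟩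
  rw [Subgroup.relIndex, Subgroup.relIndex, e]
  exact Subgroup.index_map_dvd _ (f.subgroupMap_surjective K)

theorem isPSolvable_map {G' : Type*} [Group G'] (hG : Cfsg.IsPSolvable p G) (f : G →* G')
    (hf : Function.Surjective f) : Cfsg.IsPSolvable p G' := by
  obtain ⟨n, H, h0, hl, hm, hn, hi⟩ := hG
  refine ⟨n, fun i => (H i).map f, by simp [h0], by simp [hl, Subgroup.map_top_of_surjective f hf],
    fun i j hij => Subgroup.map_mono (hm hij), fun i => (hn i).map f hf, fun i => ?_⟩
  have hd : ((H i.castSucc).map f).relIndex ((H i.succ).map f) ∣ (H i.castSucc).relIndex (H i.succ) :=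
    relIndex_map_dvd f (hm i.castSucc_le_succ)
  rcases hi i with ⟨m, hm'⟩ | hc
  · rw [hm'] at hd
    obtain ⟨j, -, hj⟩ := (Nat.dvd_prime_pow hp.out).mp hd
    exact Or.inl ⟨j, hj⟩
  · exact Or.inr (hc.coprime_dvd_left hd)

theorem isPSolvable_eq_top_of_cores (hG : Cfsg.IsPSolvable p G) (h1 : Cfsg.pCore p G = ⊥)
    (h2 : Cfsg.pPrimeCore p G = ⊥) : (⊤ : Subgroup G) = ⊥ := by
  obtain ⟨n, H, h0, hl, hm, hn, hi⟩ := hG
  suffices ∀ i : Fin (n + 1), H i = ⊥ from hl ▸ this (Fin.last n)
  intro i
  induction i using Fin.induction with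
  | zero => exact h0
  | succ i ih =>
    have h := hi i
    rw [ih, Subgroup.relIndex_bot_left] at h
    rcases h with ⟨m, hm'⟩ | hc
    · exact le_bot_iff.mp (h1 ▸ le_pCore (hn _) (IsPGroup.of_card hm'))
    · exact le_bot_iff.mp (h2 ▸ le_pPrimeCore (hn _) hc)

/-- The Hall-Higman centralizer lemma for p-soluble groups. -/
theorem centralizer_pCore_le_of_pSolvable (hG : Cfsg.IsPSolvable p G)
    (h : Cfsg.pPrimeCore p G = ⊥) :
    Subgroup.centralizer (Cfsg.pCore p G : Set G) ≤ Cfsg.pCore p G := by
  obtain ⟨n, H, h0, hl, hm, hn, hi⟩ := hG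
  set P := Cfsg.pCore p G
  have hPn : P.Normal := pCore_isNormal
  set C := Subgroup.centralizer (P : Set G)
  have hCn : C.Normal := Subgroup.normal_centralizer
  suffices ∀ i : Fin (n + 1), C ⊓ H i ≤ P by simpa [hl] using this (Fin.last n)
  intro i
  induction i using Fin.induction with
  | zero => rw [h0, inf_bot_eq]; exact bot_le
  | succ i ih =>
    set D := C ⊓ H i.succ with hD
    have hDn : D.Normal := Subgroup.normal_inf_normal C (H i.succ)
    have hd : (H i.castSucc).relIndex D ∣ (H i.castSucc).relIndex (H i.succ) :=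
      relIndex_dvd_of_normal_le (hn _) inf_le_right
    have hle : H i.castSucc ⊓ D ≤ P := by
      refine le_trans (le_inf ?_ inf_le_left) ih
      exact inf_le_right.trans inf_le_left
    have hidx : P.relIndex D ∣ (H i.castSucc).relIndex D := by
      rw [← Subgroup.inf_relIndex_right (H i.castSucc) D]
      exact Subgroup.relIndex_dvd_of_le_left D hle
    rcases hi i with ⟨m, hm'⟩ | hc
    · refine le_pCore hDn ?_
      obtain ⟨j, -, hj⟩ := (Nat.dvd_prime_pow hp.out).mp (hm' ▸ hidx.trans hd)
      obtain ⟨a, ha⟩ := IsPGroup.iff_card.mp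
        ((pCore_isPGroup (p := p) (G := G)).to_le (inf_le_left : P ⊓ D ≤ P))
      refine IsPGroup.of_card (n := a + j) ?_
      rw [← relIndex_mul_card_inf D P, inf_comm, hj, ha, ← pow_add]
    · -- a central normal `p`-subgroup of index prime to `p`
      set Z := P.subgroupOf D
      have hZn : Z.Normal := hPn.subgroupOf D
      have hZc : ∀ z ∈ Z, ∀ d : D, d * z = z * d := fun z hz d => Subtype.ext
        (Subgroup.mem_centralizer_iff.mp d.2.1 z hz).symm
      obtain ⟨a, ha⟩ := IsPGroup.iff_card.mp
        ((pCore_isPGroup (p := p) (G := G)).comap_subtype (K := D))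
      have hcop : (Z.index).Coprime p := hc.coprime_dvd_left (hidx.trans hd)
      obtain ⟨K, hK⟩ := Subgroup.exists_right_complement'_of_coprime (N := Z)
        (show (Nat.card Z).Coprime Z.index by rw [show Nat.card Z = p ^ a from ha]; exact hcop.symm.pow_left a)
      have hKn : K.Normal := by
        rw [← Subgroup.normalizer_eq_top_iff, eq_top_iff, ← hK.sup_eq_top]
        refine sup_le (fun z hz => Subgroup.centralizer_le_normalizer _ ?_) Subgroup.le_normalizer
        exact Subgroup.mem_centralizer_iff.mpr fun d _ => hZc z hz d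
      have hKc : (Nat.card K).Coprime p := by rwa [← hK.symm.index_eq_card]
      have hKbot : K = ⊥ := by
        have h3 := Subgroup.map_mono (f := D.subtype) (le_pPrimeCore hKn hKc)
        rw [pPrimeCore_map_eq, h, bot_inf_eq, le_bot_iff] at h3
        exact (Subgroup.map_eq_bot_iff_of_injective _ D.subtype_injective).mp h3
      have htop := hK.sup_eq_top
      rw [hKbot, sup_bot_eq, Subgroup.subgroupOf_eq_top] at htop
      exact htop

/-- The p-length is at most one once the p-core of the quotient by the p'-core has p'-index. -/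
theorem pLengthLE_one_of_index
    (h : ∀ [(Cfsg.pPrimeCore p G).Normal],
      ¬ p ∣ (Cfsg.pCore p (G ⧸ Cfsg.pPrimeCore p G)).index) :
    Cfsg.PLengthLE p 1 G := by
  have hN := pPrimeCore_isNormal (p := p) (G := G)
  have h' := h
  show (Cfsg.upperPSeries p G 3).1 = ⊤
  set U1 := (Cfsg.upperPSeries p G 1).1
  set U2 := (Cfsg.upperPSeries p G 2).1
  have hU2n : U2.Normal := (Cfsg.upperPSeries p G 2).2
  have hU1n : U1.Normal := (Cfsg.upperPSeries p G 1).2
  have hU1 : U1 = Cfsg.pPrimeCore p G := by
    have hb : (Cfsg.upperPSeries p G 0).1 = ⊥ := rfl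
    have e : U1 = (Cfsg.pPrimeCore p (G ⧸ (Cfsg.upperPSeries p G 0).1)).comap
        (QuotientGroup.mk' (Cfsg.upperPSeries p G 0).1) := by
      show (Cfsg.upperPSeries p G (0 + 1)).1 = _
      rw [Cfsg.upperPSeries]
      simp
    set f := QuotientGroup.mk' (Cfsg.upperPSeries p G 0).1
    have hinj : Function.Injective f := by
      rw [← MonoidHom.ker_eq_bot_iff, QuotientGroup.ker_mk', hb]
    have hsurj : Function.Surjective f := QuotientGroup.mk'_surjective _
    have hM := pPrimeCore_isNormal (p := p) (G := G ⧸ (Cfsg.upperPSeries p G 0).1)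
    rw [e]
    refine le_antisymm (le_pPrimeCore (hM.comap f) ?_) ?_
    · rw [← Subgroup.card_map_of_injective hinj (K := Subgroup.comap f _),
        Subgroup.map_comap_eq_self_of_surjective hsurj]
      exact pPrimeCore_coprime
    · rw [← Subgroup.map_le_iff_le_comap]
      refine le_pPrimeCore (hN.map f hsurj) ?_
      rw [Subgroup.card_map_of_injective hinj]
      exact pPrimeCore_coprime
  have hU2 : U2 = (Cfsg.pCore p (G ⧸ U1)).comap (QuotientGroup.mk' U1) := by
    show (Cfsg.upperPSeries p G (1 + 1)).1 = _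
    rw [Cfsg.upperPSeries]
    simp [U1]
  have hidx : ¬ p ∣ U2.index := by
    rw [hU2, Subgroup.index_comap_of_surjective _ (QuotientGroup.mk'_surjective U1)]
    clear_value U1
    subst hU1
    exact h'
  show (Cfsg.upperPSeries p G (2 + 1)).1 = ⊤
  rw [Cfsg.upperPSeries]
  have htop : (Cfsg.pPrimeCore p (G ⧸ U2)) = ⊤ :=
    top_le_iff.mp (le_pPrimeCore inferInstance (by
      rw [Subgroup.card_top, ← Subgroup.index_eq_card]
      exact (hp.out.coprime_iff_not_dvd.mpr hidx).symm))
  simp only [show Even 2 from even_two, if_true]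
  show (Cfsg.pPrimeCore p (G ⧸ U2)).comap _ = ⊤
  rw [htop, Subgroup.comap_top]

end Cfsg.Agent.Grp
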