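import Mathlib
import Cfsg.Agent.Lib.Grp.Baer

/-!
Real elements of odd order and normality of the Sylow 2-subgroup; Jordan's covering lemma.
-/

namespace Cfsg.Agent.Grp

open scoped Pointwise
open Subgroup

variable {G : Type*} [Group G]

theorem conj_sq_of_inv {g x : G} (h : g * x * g⁻¹ = x⁻¹) : g * g * x * (g * g)⁻¹ = x := by
  have e : g * g * x * (g * g)⁻¹ = g * (g * x * g⁻¹) * g⁻¹ := by group
  rw [e, h, show g * x⁻¹ * g⁻¹ = (g * x * g⁻¹)⁻¹ by group, h, inv_inv]

theorem sq_mem_centralizer {g x : G} (h : g * x * g⁻¹ = x⁻¹) :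
    g * g ∈ Subgroup.centralizer {x} := by
  rw [Subgroup.mem_centralizer_singleton_iff]
  exact mul_inv_eq_iff_eq_mul.mp (conj_sq_of_inv h)

theorem eq_one_of_odd_of_sq {x : G} (hodd : Odd (orderOf x)) (h : x * x = 1) : x = 1 := by
  rw [← orderOf_eq_one_iff]
  refine (Nat.dvd_prime Nat.prime_two).mp (orderOf_dvd_of_pow_eq_one (by rw [sq, h])) |>.resolve_right ?_
  intro h2
  rw [h2] at hodd
  exact absurd hodd (by decide)

/-- An element inverted by some element has a centralizer of even index in any group normalizing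
`⟨x⟩` and containing the inverting element. -/
theorem two_dvd_relIndex_centralizer_of_real [Finite G] {g x : G} (hx : x * x ≠ 1)
    (h : g * x * g⁻¹ = x⁻¹) (N : Subgroup G) (hg : g ∈ N) (hC : Subgroup.centralizer {x} ≤ N) :
    2 ∣ (Subgroup.centralizer {x}).relIndex N := by
  set C := Subgroup.centralizer {x}
  have hgN : g ∈ Subgroup.normalizer (C : Set G) := by
    rw [Subgroup.mem_normalizer_iff]
    intro y
    simp only [C, Subgroup.mem_centralizer_singleton_iff]
    have e1 : x = g * x⁻¹ * g⁻¹ := by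
      rw [show g * x⁻¹ * g⁻¹ = (g * x * g⁻¹)⁻¹ by group, h, inv_inv]
    constructor <;> intro hy
    · have hy' : Commute y x⁻¹ := (show Commute y x from hy).inv_right
      calc g * y * g⁻¹ * x = g * y * g⁻¹ * (g * x⁻¹ * g⁻¹) := by rw [← e1]
        _ = g * (y * x⁻¹) * g⁻¹ := by group
        _ = g * (x⁻¹ * y) * g⁻¹ := by rw [hy'.eq]
        _ = g * x⁻¹ * g⁻¹ * (g * y * g⁻¹) := by group
        _ = x * (g * y * g⁻¹) := by rw [← e1]
    · have hy' : Commute (g * y * g⁻¹) x⁻¹ := (show Commute _ x from hy).inv_right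
      have e2 : x = g⁻¹ * x⁻¹ * g := by rw [← h]; group
      calc y * x = y * (g⁻¹ * x⁻¹ * g) := by rw [← e2]
        _ = g⁻¹ * (g * y * g⁻¹ * x⁻¹) * g := by group
        _ = g⁻¹ * (x⁻¹ * (g * y * g⁻¹)) * g := by rw [hy'.eq]
        _ = g⁻¹ * x⁻¹ * g * y := by group
        _ = x * y := by rw [← e2]
  have hH : C ⊔ Subgroup.zpowers g ≤ N := sup_le hC (Subgroup.zpowers_le.mpr hg)
  refine dvd_trans ?_ (Dvd.intro _ (Subgroup.relIndex_mul_relIndex _ _ _ le_sup_left hH))
  have hsq : g * g ∈ C := sq_mem_centralizer h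
  have hgC : g ∉ C := by
    intro hgC
    rw [Subgroup.mem_centralizer_singleton_iff] at hgC
    rw [hgC, mul_inv_cancel_right] at h
    exact hx (mul_eq_one_iff_eq_inv.mpr h)
  have hbase : C.relIndex (Subgroup.zpowers g) = 2 := by
    rw [Subgroup.relIndex, Subgroup.index_eq_two_iff]
    refine ⟨⟨g, Subgroup.mem_zpowers g⟩, ?_⟩
    rintro ⟨b, ⟨k, rfl⟩⟩
    simp only [Subgroup.mem_subgroupOf, Subgroup.coe_mul]
    rcases Int.even_or_odd' k with ⟨j, rfl | rfl⟩
    · have he : g ^ (2 * j) ∈ C := by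
        rw [zpow_mul, zpow_two]
        exact Subgroup.zpow_mem _ hsq _
      exact Or.inr ⟨he, fun h' => hgC (by simpa using C.mul_mem (C.inv_mem he) h')⟩
    · have he : g ^ (2 * j + 1) * g ∈ C := by
        rw [← zpow_add_one, show 2 * j + 1 + 1 = 2 * (j + 1) by ring, zpow_mul,
          zpow_two]
        exact Subgroup.zpow_mem _ hsq _
      exact Or.inl ⟨he, fun h' => hgC (by simpa using C.mul_mem (C.inv_mem h') he)⟩
  have e1 := card_sup_mul_card_inf (H := Subgroup.zpowers g) (N := C) (Subgroup.zpowers_le.mpr hgN)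
  rw [sup_comm (Subgroup.zpowers g) C] at e1
  have e2 := card_mul_relIndex (le_sup_left : C ≤ C ⊔ Subgroup.zpowers g)
  have e3 := relIndex_mul_card_inf (Subgroup.zpowers g) C
  rw [hbase] at e3
  rw [← e2, ← e3] at e1
  have key : C.relIndex (C ⊔ Subgroup.zpowers g) = 2 := by
    refine Nat.eq_of_mul_eq_mul_left (Nat.mul_pos (Nat.card_pos (α := C))
      (Nat.card_pos (α := ↥(Subgroup.zpowers g ⊓ C)))) ?_
    linarith [e1]
  rw [key]

theorem not_two_dvd_card_of_pCore_bot [Finite G]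
    (hbot : Cfsg.pCore 2 G = ⊥) (h : ∀ x : G, x ≠ 1 → Odd (orderOf x) → ¬ IsConj x x⁻¹) :
    ¬ 2 ∣ Nat.card G := by
  intro h2
  obtain ⟨t, ht⟩ := exists_prime_orderOf_dvd_card' (G := G) 2 h2
  have htt : t * t = 1 := by rw [← sq, ← ht, pow_orderOf_eq_one]
  have htinv : t⁻¹ = t := inv_eq_of_mul_eq_one_right htt
  have ht1 : t ≠ 1 := fun e => by simp [e] at ht
  refine ht1 (Subgroup.mem_bot.mp (hbot ▸ baer_suzuki t fun g => ?_))
  set t' := g * t * g⁻¹ with ht'
  have ht't' : t' * t' = 1 := by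
    rw [ht']; simp [mul_assoc]; rw [← mul_assoc t t, htt]; simp
  have hinv' : t'⁻¹ = t' := inv_eq_of_mul_eq_one_right ht't'
  set r := t * t' with hr
  have hrconj : t * r * t⁻¹ = r⁻¹ := by
    rw [hr, mul_inv_rev, htinv, hinv', ← mul_assoc t t t', htt, one_mul]
  obtain ⟨k, m, hm, hkm⟩ := Nat.exists_eq_two_pow_mul_odd (orderOf_pos r).ne'
  have hy : r ^ 2 ^ k = 1 := by
    by_contra hne
    have ho : orderOf (r ^ 2 ^ k) = m := by
      rw [orderOf_pow' r (pow_ne_zero k two_ne_zero), hkm, Nat.gcd_mul_right_left,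
        Nat.mul_div_cancel_left _ (Nat.two_pow_pos k)]
    refine h _ hne (ho ▸ hm) (isConj_iff.mpr ⟨t, ?_⟩)
    rw [← conj_pow, hrconj, inv_pow]
  have hR : IsPGroup 2 (Subgroup.zpowers r) := by
    obtain ⟨j, -, hj⟩ := (Nat.dvd_prime_pow Nat.prime_two).mp (orderOf_dvd_of_pow_eq_one hy)
    exact IsPGroup.of_card (n := j) (by rw [Nat.card_zpowers, hj])
  have hT : IsPGroup 2 (Subgroup.zpowers t) :=
    IsPGroup.of_card (n := 1) (by rw [Nat.card_zpowers, ht, pow_one])
  have hN : Subgroup.zpowers t ≤ Subgroup.normalizer (Subgroup.zpowers r : Set G) := by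
    rw [Subgroup.zpowers_le, mem_normalizer_iff_smul, ← map_conj_eq_smul, MonoidHom.map_zpowers]
    simp only [MulEquiv.coe_toMonoidHom, MulAut.conj_apply]
    rw [hrconj, Subgroup.zpowers_inv]
  refine (IsPGroup.to_sup_of_normal_right' hT hR hN).to_le ((Subgroup.closure_le _).mpr ?_)
  rintro z (rfl | rfl)
  · exact Subgroup.mem_sup_left (Subgroup.mem_zpowers _)
  · have e : t' = t⁻¹ * r := by rw [hr]; group
    rw [e]
    exact Subgroup.mul_mem_sup (S := Subgroup.zpowers t)
      (Subgroup.inv_mem _ (Subgroup.mem_zpowers t)) (Subgroup.mem_zpowers r)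

/-- If no nontrivial element of odd order is real, the Sylow 2-subgroup is normal. -/
theorem two_sylow_normal_of_no_real [Finite G]
    (h : ∀ x : G, x ≠ 1 → Odd (orderOf x) → ¬ IsConj x x⁻¹) (P : Sylow 2 G) :
    (P : Subgroup G).Normal := by
  set N := Cfsg.pCore 2 G with hNdef
  have hNn : N.Normal := pCore_isNormal
  have hNp : IsPGroup 2 N := pCore_isPGroup
  set f := QuotientGroup.mk' N
  have hf : Function.Surjective f := QuotientGroup.mk'_surjective N
  have hbot : Cfsg.pCore 2 (G ⧸ N) = ⊥ := by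
    have hn := pCore_isNormal (p := 2) (G := G ⧸ N)
    have h1 : (Cfsg.pCore 2 (G ⧸ N)).comap f ≤ N :=
      le_pCore inferInstance (pCore_isPGroup.comap_of_ker_isPGroup f
        (by rw [QuotientGroup.ker_mk']; exact hNp))
    rw [eq_bot_iff]
    intro z hz
    obtain ⟨y, rfl⟩ := hf z
    exact (QuotientGroup.eq_one_iff y).mpr (h1 hz)
  have hq : ∀ z : G ⧸ N, z ≠ 1 → Odd (orderOf z) → ¬ IsConj z z⁻¹ := by
    intro z hz hodd hc
    obtain ⟨x₀, rfl⟩ := hf z
    obtain ⟨k, m, hm, hkm⟩ := Nat.exists_eq_two_pow_mul_odd (orderOf_pos x₀).ne'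
    obtain ⟨a, b, -, hbz, ha, hb, hab⟩ := exists_pow_decomp (g := x₀) (m := 2 ^ k) (n := m)
      (Nat.Coprime.pow_left _ (Nat.coprime_two_left.mpr hm)) (by rw [← hkm, pow_orderOf_eq_one])
    have hcm : Commute x₀ b := by
      obtain ⟨i, hi⟩ := hbz
      rw [← hi]; exact Commute.self_zpow x₀ i
    have ho : Odd (orderOf b) := hm.of_dvd_nat (orderOf_dvd_of_pow_eq_one hb)
    have hfa : f a = 1 := by
      have h1 : orderOf (f a) ∣ 2 ^ k := orderOf_dvd_of_pow_eq_one (by rw [← map_pow, ha, map_one])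
      have h2 : orderOf (f a) ∣ orderOf (f x₀) * m := by
        refine orderOf_dvd_of_pow_eq_one ?_
        have e : f a = f x₀ * (f b)⁻¹ := by rw [hab, map_mul, mul_inv_cancel_right]
        have hc' : Commute (f x₀) (f b)⁻¹ := (hcm.map f).inv_right
        rw [e, hc'.mul_pow, pow_mul, pow_orderOf_eq_one, one_pow, one_mul, inv_pow,
          mul_comm, pow_mul, ← map_pow, hb, map_one, one_pow, inv_one]
      have h3 : orderOf (f a) ∣ 1 := by
        have : Nat.Coprime (2 ^ k) (orderOf (f x₀) * m) :=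
          Nat.Coprime.pow_left _ (Nat.coprime_two_left.mpr (hodd.mul hm))
        exact this ▸ Nat.dvd_gcd h1 h2
      exact orderOf_eq_one_iff.mp (Nat.dvd_one.mp h3)
    rw [hab, map_mul, hfa, one_mul] at hz hc
    obtain ⟨w, hw⟩ := isConj_iff.mp hc
    obtain ⟨g, rfl⟩ := hf w
    set B := Subgroup.zpowers b
    have hBc : Nat.card B = orderOf b := Nat.card_zpowers b
    have hcop : (Nat.card N).Coprime (Nat.card B) := by
      obtain ⟨j, hj⟩ := IsPGroup.iff_card.mp hNp
      rw [hj, hBc]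
      exact Nat.Coprime.pow_left _ (Nat.coprime_two_left.mpr ho)
    have hle : MulAut.conj g • B ≤ N ⊔ B := by
      rw [← map_conj_eq_smul, MonoidHom.map_zpowers, Subgroup.zpowers_le]
      simp only [MulEquiv.coe_toMonoidHom, MulAut.conj_apply]
      have hmem : g * b * g⁻¹ * b ∈ N :=
        (QuotientGroup.eq_one_iff _).mp (show f (g * b * g⁻¹ * b) = 1 by
          rw [map_mul, map_mul, map_mul, map_inv, hw, inv_mul_cancel])
      simpa [mul_assoc] using Subgroup.mul_mem_sup (S := N) (T := B) hmem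
        (B.inv_mem (Subgroup.mem_zpowers b))
    obtain ⟨n, hn, hn'⟩ := exists_conj_of_le_sup
      (le_top.trans (Subgroup.normalizer_eq_top (H := N)).ge) hle (card_conj_smul _ _) hcop
      (Or.inl (by have := hNp.isNilpotent; infer_instance))
    refine h b (fun e => hz (by rw [e, map_one])) ho (isConj_iff.mpr ⟨n⁻¹ * g, ?_⟩)
    have hmem : n⁻¹ * g * b * (n⁻¹ * g)⁻¹ ∈ B := by
      have : g * b * g⁻¹ ∈ MulAut.conj n • B := by
        rw [hn', mem_smul_conj, show g⁻¹ * (g * b * g⁻¹) * g = b by group]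
        exact Subgroup.mem_zpowers b
      rw [mem_smul_conj] at this
      simpa [mul_assoc] using this
    have hfn : f (n⁻¹ * g) = f g := by
      rw [map_mul, map_inv, show f n = 1 from (QuotientGroup.eq_one_iff n).mpr hn, inv_one, one_mul]
    have key : ∀ a : G, f (a * b * a⁻¹ * b) = f a * f b * (f a)⁻¹ * f b := fun a => by simp
    have h1 : (n⁻¹ * g * b * (n⁻¹ * g)⁻¹) * b ∈ N ⊓ B :=
      ⟨(QuotientGroup.eq_one_iff _).mp (show f _ = 1 by rw [key, hfn, hw, inv_mul_cancel]),
        B.mul_mem hmem (Subgroup.mem_zpowers b)⟩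
    rw [inf_eq_bot_of_coprime hcop, Subgroup.mem_bot] at h1
    exact eq_inv_of_mul_eq_one_left h1
  have hodd2 := not_two_dvd_card_of_pCore_bot hbot hq
  have hPN : (P : Subgroup G) ≤ N := by
    have h1 : (P : Subgroup G).map f = ⊥ := by
      refine Subgroup.card_eq_one.mp ?_
      obtain ⟨j, hj⟩ := IsPGroup.iff_card.mp (P.isPGroup'.map f)
      rcases j.eq_zero_or_pos with rfl | hpos
      · simpa using hj
      · exact absurd ((dvd_pow_self 2 hpos.ne').trans
          (hj ▸ Subgroup.card_subgroup_dvd_card _)) hodd2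
    rw [Subgroup.map_eq_bot_iff, QuotientGroup.ker_mk'] at h1
    exact h1
  rw [← le_antisymm (pCore_le_sylow P) hPN]
  exact hNn

/-- Jordan: a finite group is not the union of the conjugates of a proper subgroup. -/
theorem eq_top_of_conj_cover [Finite G] (H : Subgroup G)
    (h : ∀ x : G, ∃ g : G, g * x * g⁻¹ ∈ H) : H = ⊤ := by
  classical
  have := Fintype.ofFinite G
  have := Fintype.ofFinite (G ⧸ H)
  by_contra hne
  have hpos : ∀ x : G, 0 < Nat.card (MulAction.fixedBy (G ⧸ H) x) := by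
    intro x
    obtain ⟨g, hg⟩ := h x
    have : Nonempty (MulAction.fixedBy (G ⧸ H) x) := by
      refine ⟨⟨((g⁻¹ : G) : G ⧸ H), ?_⟩⟩
      show ((x * g⁻¹ : G) : G ⧸ H) = ((g⁻¹ : G) : G ⧸ H)
      refine QuotientGroup.eq.mpr ?_
      have := H.inv_mem hg
      simpa [mul_assoc] using this
    exact Nat.card_pos
  have hburn := MulAction.sum_card_fixedBy_eq_card_orbits_mul_card_group G (G ⧸ H)
  have horb : Fintype.card (Quotient (MulAction.orbitRel G (G ⧸ H))) = 1 := by
    rw [Fintype.card_eq_one_iff]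
    refine ⟨Quotient.mk'' ((1 : G) : G ⧸ H), fun q => ?_⟩
    induction q using Quotient.inductionOn' with
    | h y => exact Quotient.sound' (MulAction.exists_smul_eq G ((1 : G) : G ⧸ H) y)
  rw [horb, one_mul] at hburn
  simp only [← Nat.card_eq_fintype_card] at hburn
  have h1 : 1 < Nat.card (MulAction.fixedBy (G ⧸ H) (1 : G)) := by
    rw [show MulAction.fixedBy (G ⧸ H) (1 : G) = Set.univ from MulAction.fixedBy_one_eq_univ _ _,
      Nat.card_univ, ← Subgroup.index_eq_card]
    exact Subgroup.one_lt_index_of_ne_top hne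
  have hlt : ∑ _x : G, 1 < ∑ x : G, Nat.card (MulAction.fixedBy (G ⧸ H) x) :=
    Finset.sum_lt_sum (fun x _ => hpos x) ⟨1, Finset.mem_univ _, h1⟩
  rw [hburn, Finset.sum_const, Finset.card_univ, Nat.card_eq_fintype_card, smul_eq_mul,
    mul_one] at hlt
  exact lt_irrefl _ hlt

end Cfsg.Agent.Grp
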