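import Cfsg.Agent.Lib.Char.Constituent
import Cfsg.Agent.Lib.Char.Schur
import Cfsg.Agent.Lib.Char.Induce
import Cfsg.Agent.Lib.Char.Complete

/-!
# One class of involutions with generalised dihedral centralizer over a TI subgroup

A finite group in which the centralizer `N` of an involution `t` is generalised dihedral of order
`4 * m` (`m` odd, divisible by 3) over an abelian trivial-intersection subgroup `C` of index two, and
in which every product of two involutions is an involution or conjugate into `C`, does not exist.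
-/

set_option autoImplicit false

namespace Cfsg.Agent.Grp.GenDihedral

open Cfsg Cfsg.Agent.Char Finset
open scoped ComplexConjugate

universe u

variable {G : Type u} [Group G] [Finite G]

omit [Finite G] in
theorem orderOf_conj' (g z : G) : orderOf (g * z * g⁻¹) = orderOf z :=
  orderOf_injective (MulAut.conj g).toMonoidHom (MulAut.conj g).injective z

/-- The value of a character at an involution is an integer. -/
theorem int_value {χ : G → ℂ} (h : IsIrrCharacter G χ) {z : G} (hz : z * z = 1) :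
    ∃ n : ℤ, χ z = n := by
  classical
  obtain ⟨d, ρ, hρ, rfl⟩ := h
  obtain ⟨b, c, -, hc, hk⟩ := exists_rep_eigenbasis ρ z
  have h1 := hk 1
  simp only [pow_one] at h1
  have h2 : ∀ i, c i = 1 ∨ c i = -1 := fun i => by
    obtain ⟨j, hj⟩ := orderOf_dvd_of_pow_eq_one (x := z) (n := 2) (by rw [pow_two, hz])
    have : c i ^ 2 = 1 := by rw [hj, pow_mul, hc i, one_pow]
    rwa [sq_eq_one_iff] at this
  refine ⟨∑ i, (if c i = 1 then (1 : ℤ) else -1), ?_⟩
  rw [h1]
  push_cast
  refine Finset.sum_congr rfl fun i _ => ?_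
  rcases h2 i with h | h <;> rw [h] <;> norm_num

/-- A generalized character of norm two is a signed sum of two distinct irreducibles. -/
theorem norm_two_signs [Fintype G] {α : G → ℂ} (ha : IsGeneralizedCharacter G α)
    (h : classInner α α = 2) :
    ∃ (φ ψ : G → ℂ) (ε δ : ℤ), IsIrrCharacter G φ ∧ IsIrrCharacter G ψ ∧ φ ≠ ψ ∧
      (ε = 1 ∨ ε = -1) ∧ (δ = 1 ∨ δ = -1) ∧ ∀ g, α g = ε * φ g + δ * ψ g := by
  classical
  obtain ⟨a, -, rfl⟩ := IsGenChar.exists_decomp ha
  rw [IsGenChar.classInner_self_int] at h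
  have hs : ∑ φ : IrrCharacter G, a φ ^ 2 = 2 := by exact_mod_cast h
  have hle : ∀ φ, a φ = 0 ∨ a φ = 1 ∨ a φ = -1 := by
    intro φ
    have := Finset.single_le_sum (f := fun x => a x ^ 2) (fun x _ => sq_nonneg _)
      (Finset.mem_univ φ)
    rw [hs] at this
    have h5 : -1 ≤ a φ ∧ a φ ≤ 1 := ⟨by nlinarith, by nlinarith⟩
    omega
  have hcard : ({φ | a φ ≠ 0} : Finset (IrrCharacter G)).card = 2 := by
    have : ∑ φ : IrrCharacter G, a φ ^ 2 =
        ∑ φ : IrrCharacter G, (if a φ ≠ 0 then (1 : ℤ) else 0) :=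
      Finset.sum_congr rfl fun φ _ => by rcases hle φ with h | h | h <;> simp [h]
    rw [this, Finset.sum_boole] at hs
    exact_mod_cast hs
  obtain ⟨x, y, hxy, hset⟩ := Finset.card_eq_two.mp hcard
  have hsum : (∑ φ : IrrCharacter G, (a φ : ℂ) • (φ : G → ℂ)) =
      (a x : ℂ) • (x : G → ℂ) + (a y : ℂ) • (y : G → ℂ) := by
    rw [← Finset.sum_subset (Finset.subset_univ ({x, y} : Finset (IrrCharacter G))) fun φ _ hφ => by
      rw [← hset] at hφ
      simp only [Finset.mem_filter, Finset.mem_univ, true_and, not_not] at hφ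
      simp [hφ], Finset.sum_pair hxy]
  have hx : a x ≠ 0 := (Finset.mem_filter.mp (hset ▸ (by simp) :
    x ∈ ({φ | a φ ≠ 0} : Finset (IrrCharacter G)))).2
  have hy : a y ≠ 0 := (Finset.mem_filter.mp (hset ▸ (by simp) :
    y ∈ ({φ | a φ ≠ 0} : Finset (IrrCharacter G)))).2
  exact ⟨x, y, a x, a y, x.2, y.2, Subtype.coe_ne_coe.mpr hxy, (hle x).resolve_left hx,
    (hle y).resolve_left hy, fun g => by
    have := congrFun hsum g
    simpa [Finset.sum_apply] using this⟩

/-- The configuration. -/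
structure Config (C N : Subgroup G) (t : G) (m : ℕ) : Prop where
  le : C ≤ N
  cardC : Nat.card C = 2 * m
  cardN : Nat.card N = 4 * m
  comm : ∀ a ∈ C, ∀ b ∈ C, a * b = b * a
  three : ∃ c ∈ C, c ≠ 1 ∧ c ^ 3 = 1
  three_le : 3 ≤ m
  mem : t ∈ C
  order : orderOf t = 2
  unique : ∀ c ∈ C, orderOf c = 2 → c = t
  inverts : ∀ a ∈ N, a ∉ C → ∀ c ∈ C, a * c * a⁻¹ = c⁻¹
  outside : ∀ a ∈ N, a ∉ C → orderOf a = 2
  ti : ∀ g : G, ∀ c ∈ C, c ≠ 1 → g * c * g⁻¹ ∈ C → g ∈ N
  centralizer : Subgroup.centralizer ({t} : Set G) = N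
  conjugate : ∀ z : G, orderOf z = 2 → ∃ g : G, g * t * g⁻¹ = z
  prod : ∀ a b : G, orderOf a = 2 → orderOf b = 2 → (a * b) ^ 2 ≠ 1 →
    ∃ g : G, g * (a * b) * g⁻¹ ∈ C

set_option maxHeartbeats 1600000 in
theorem Config.false {C N : Subgroup G} {t : G} {m : ℕ} (H : Config C N t m) : False := by
  classical
  let _ := Fintype.ofFinite G
  obtain ⟨hle, hcC, hcN, hcomm, ⟨c3, hc3C, hc31, hc3⟩, hm, htC, ht, huniq, hinv, hout, hTI, hcent,
    hconj, hprod⟩ := H
  have ht2 : t * t = 1 := by rw [← pow_two, ← ht, pow_orderOf_eq_one]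
  have hm0 : (m : ℂ) ≠ 0 := Nat.cast_ne_zero.mpr (by omega)
  -- the involutions
  set K : Finset G := Finset.univ.filter fun z => orderOf z = 2 with hK
  set i := K.card with hi
  have hiG : 4 * m * i = Nat.card G := by
    have h1 := MulAction.index_stabilizer (ConjAct G) t
    rw [ConjAct.stabilizer_eq_centralizer] at h1
    erw [hcent] at h1
    have h2 : MulAction.orbit (ConjAct G) t = {z : G | orderOf z = 2} := by
      ext z
      rw [ConjAct.mem_orbit_conjAct, Set.mem_setOf_eq]
      constructor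
      · intro h
        obtain ⟨g, hg⟩ := isConj_iff.mp h.symm
        rw [← hg, orderOf_conj', ht]
      · intro h
        obtain ⟨g, hg⟩ := hconj z h
        exact (isConj_iff.mpr ⟨g, hg⟩).symm
    rw [h2, Set.ncard_eq_toFinset_card', Set.toFinset_setOf] at h1
    change i = _ at *
    have h3 := Subgroup.index_mul_card N
    rw [hi, hK, ← hcN, mul_comm, ← h3]
    exact congrArg (fun n => n * Nat.card N) h1.symm
  have hi0 : i ≠ 0 := by rintro h; rw [h, mul_zero] at hiG; exact Nat.card_pos.ne hiG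
  have hidx : C.index = 2 * i := by
    have h := C.index_mul_card
    rw [hcC, ← hiG] at h
    have : C.index * (2 * m) = 2 * i * (2 * m) := by rw [h]; ring
    exact Nat.eq_of_mul_eq_mul_right (by omega) this
  -- the function counting the ways to write an element as a product of two involutions
  set c : G → ℂ := fun y => ((K.filter fun a => orderOf (a * y) = 2).card : ℂ) with hc
  have hKconj : ∀ g z : G, z ∈ K → g * z * g⁻¹ ∈ K := fun g z hz => by
    simp only [hK, mem_filter, mem_univ, true_and, orderOf_conj'] at hz ⊢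
    exact hz
  have hccl : IsClassFunction G c := by
    intro y g
    simp only [hc]
    congr 1
    refine Finset.card_bij' (fun a _ => g⁻¹ * a * g) (fun a _ => g * a * g⁻¹) ?_ ?_ ?_ ?_
    · intro a ha
      rw [mem_filter] at ha ⊢
      refine ⟨by simpa using hKconj g⁻¹ a ha.1, ?_⟩
      rw [← orderOf_conj' g (g⁻¹ * a * g * y)]
      rw [show g * (g⁻¹ * a * g * y) * g⁻¹ = a * (g * y * g⁻¹) by group]
      exact ha.2
    · intro a ha
      rw [mem_filter] at ha ⊢
      refine ⟨hKconj g a ha.1, ?_⟩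
      rw [show g * a * g⁻¹ * (g * y * g⁻¹) = g * (a * y) * g⁻¹ by group, orderOf_conj']
      exact ha.2
    · intro a _; simp [mul_assoc]
    · intro a _; simp [mul_assoc]
  have hc1 : c 1 = i := by
    simp only [hc, mul_one]
    rw [Finset.filter_true_of_mem fun a ha => (mem_filter.mp ha).2]
  have hcC' : ∀ y ∈ C, y ≠ 1 → c y = 2 * m := by
    intro y hy hy1
    have hset : (K.filter fun a => orderOf (a * y) = 2) =
        Finset.univ.filter fun a => a ∈ N ∧ a ∉ C := by
      ext a
      simp only [hK, mem_filter, mem_univ, true_and]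
      constructor
      · rintro ⟨ha, hay⟩
        have ha2 : a * a = 1 := by rw [← pow_two, ← ha, pow_orderOf_eq_one]
        have hay2 : a * y * (a * y) = 1 := by rw [← pow_two, ← hay, pow_orderOf_eq_one]
        have hconjy : a * y * a⁻¹ = y⁻¹ := by
          rw [inv_eq_of_mul_eq_one_right ha2]
          calc a * y * a = a * y * (a * y) * y⁻¹ := by group
            _ = y⁻¹ := by rw [hay2, one_mul]
        refine ⟨hTI a y hy hy1 (hconjy ▸ inv_mem hy), fun haC => hy1 ?_⟩
        have e := huniq a haC ha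
        subst e
        have e := huniq _ (mul_mem haC hy) hay
        exact mul_left_cancel (e.trans (mul_one a).symm)
      · rintro ⟨haN, haC⟩
        refine ⟨hout a haN haC, hout _ (mul_mem haN (hle hy)) fun h => haC ?_⟩
        simpa using mul_mem h (inv_mem hy)
    simp only [hc, hset]
    have hcount : (Finset.univ.filter fun a => a ∈ N ∧ a ∉ C).card = 2 * m := by
      have hsd : (Finset.univ.filter fun a => a ∈ N ∧ a ∉ C) =
          (N : Set G).toFinset \ (C : Set G).toFinset := by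
        ext a; simp
      rw [hsd, Finset.card_sdiff_of_subset (by intro a ha; simpa using hle (by simpa using ha))]
      rw [Set.toFinset_card, Set.toFinset_card, ← Nat.card_eq_fintype_card,
        ← Nat.card_eq_fintype_card]
      rw [show Nat.card (N : Set G) = Nat.card N from rfl,
        show Nat.card (C : Set G) = Nat.card C from rfl, hcN, hcC]
      omega
    rw [hcount]
    push_cast
    ring
  -- sums against the counting function
  have hsumc : ∀ F : G → ℂ, ∑ y, c y * F y = ∑ a ∈ K, ∑ b ∈ K, F (a * b) := by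
    intro F
    have h1 : ∀ a ∈ K, ∑ b ∈ K, F (a * b) = ∑ y, if orderOf (a * y) = 2 then F y else 0 := by
      intro a ha
      have ha2 : a * a = 1 := by
        rw [← pow_two, ← (mem_filter.mp ha).2, pow_orderOf_eq_one]
      rw [hK, Finset.sum_filter]
      refine Fintype.sum_equiv (Equiv.mulLeft a) _ _ fun b => ?_
      simp [← mul_assoc, ha2]
    rw [Finset.sum_congr rfl h1, Finset.sum_comm]
    refine Finset.sum_congr rfl fun y _ => ?_
    rw [← Finset.sum_filter, Finset.sum_const, nsmul_eq_mul]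
  let f1 : G → ℂ := fun z => if orderOf z = 2 then 1 else 0
  have hf1 : IsClassFunction G f1 := fun a b => by simp only [f1, orderOf_conj']
  have hirr : ∀ χ : G → ℂ, IsIrrCharacter G χ →
      ∑ y, c y * χ y = (i : ℂ) ^ 2 * χ t ^ 2 / χ 1 := by
    intro χ hχ
    have hval : ∀ z ∈ K, χ z = χ t := fun z hz => by
      obtain ⟨g, hg⟩ := hconj z (mem_filter.mp hz).2
      rw [← hg]
      exact IsIrr.classFun hχ t g
    have h1 : ∀ b ∈ K, ∑ a ∈ K, χ (a * b) = (i : ℂ) * χ t / χ 1 * χ t := by
      intro b hb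
      have h := sum_classFun_mul_apply hχ hf1 b
      simp only [f1, ite_mul, one_mul, zero_mul, ← Finset.sum_filter, ← hK] at h
      rw [h, Finset.sum_congr rfl hval, Finset.sum_const, nsmul_eq_mul, hval b hb]
    rw [hsumc, Finset.sum_comm, Finset.sum_congr rfl h1, Finset.sum_const, nsmul_eq_mul, ← hi]
    ring
  -- values of functions induced from `C`
  have hind : ∀ θ : C → ℂ, θ 1 = 0 → ∀ h : C, indFun C θ (h : G) = θ h + θ h⁻¹ := by
    intro θ hθ h
    by_cases h1 : h = 1
    · subst h1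
      rw [Subgroup.coe_one, indFun_one_eq, inv_one, hθ, mul_zero, add_zero]
    have hval : ∀ x : G, extendByZero C θ (x⁻¹ * h * x) =
        (if x ∈ C then θ h else 0) + (if x ∈ N ∧ x ∉ C then θ h⁻¹ else 0) := by
      intro x
      by_cases hxC : x ∈ C
      · have : x⁻¹ * (h : G) * x = h := by
          rw [mul_assoc, hcomm _ h.2 _ hxC, inv_mul_cancel_left]
        rw [this, extendByZero_apply]
        simp [hxC]
      by_cases hxN : x ∈ N
      · have : x⁻¹ * (h : G) * x = ((h⁻¹ : C) : G) := by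
          have := hinv x⁻¹ (inv_mem hxN) (fun e => hxC (by simpa using inv_mem e)) h h.2
          simpa using this
        rw [this, extendByZero_apply]
        simp [hxC, hxN]
      · rw [extendByZero_not_mem θ]
        · simp [hxC, hxN]
        · intro hm'
          have h2 := inv_mem (hTI x⁻¹ h h.2 (fun e => h1 (Subtype.ext e)) (by rwa [inv_inv]))
          exact hxN (by rwa [inv_inv] at h2)
    simp only [indFun, hval, Finset.sum_add_distrib, ← Finset.sum_filter, Finset.sum_const,
      nsmul_eq_mul]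
    have hA : (Finset.univ.filter fun x => x ∈ C).card = 2 * m := by
      rw [← hcC, Nat.card_eq_fintype_card, ← Fintype.card_subtype]
    have hB : (Finset.univ.filter fun x => x ∈ N ∧ x ∉ C).card = 2 * m := by
      have h2 := Finset.card_filter_add_card_filter_not
        (s := Finset.univ.filter fun x => x ∈ N) (fun x => x ∈ C)
      rw [Finset.filter_filter, Finset.filter_filter] at h2
      have h3 : (Finset.univ.filter fun x => x ∈ N ∧ x ∈ C) = Finset.univ.filter fun x => x ∈ C := by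
        ext x; simpa using fun hx => hle hx
      rw [h3, hA] at h2
      have h4 : (Finset.univ.filter fun x => x ∈ N).card = 4 * m := by
        rw [← hcN, Nat.card_eq_fintype_card, ← Fintype.card_subtype]
      omega
    rw [hA, hB, hcC]
    push_cast
    field_simp
  have hsumind : ∀ θ : C → ℂ, θ 1 = 0 →
      ∑ y, indFun C θ y * c y = (2 * i : ℕ) * (2 * m) * ∑ h : C, θ h := by
    intro θ hθ
    rw [sum_indFun_mul C θ hccl, hidx, mul_assoc]
    congr 1
    rw [Finset.mul_sum]
    refine Finset.sum_congr rfl fun h _ => ?_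
    by_cases h1 : h = 1
    · subst h1; rw [hθ, zero_mul, mul_zero]
    · rw [hcC' h h.2 (fun e => h1 (Subtype.ext e))]; ring
  -- the number of involutions
  have hiEq : (i : ℂ) - 1 = 2 * m * (2 * m - 1) := by
    let θ0 : C → ℂ := fun h => if h = 1 then 0 else 1
    have h := hsumind θ0 (by simp [θ0])
    have hval : ∀ y, indFun C θ0 y * c y = 2 * c y - (if y = 1 then 2 * c 1 else 0) := by
      intro y
      by_cases hy : y = 1
      · subst hy
        rw [indFun_one_eq, if_pos rfl]
        simp [θ0]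
      rw [if_neg hy, sub_zero]
      by_cases hcy : c y = 0
      · rw [hcy]; ring
      obtain ⟨g, hg⟩ : ∃ g : G, g * y * g⁻¹ ∈ C := by
        simp only [hc, Nat.cast_eq_zero, Finset.card_eq_zero] at hcy
        obtain ⟨a, ha⟩ := Finset.nonempty_iff_ne_empty.mpr hcy
        rw [mem_filter, hK, mem_filter] at ha
        have ha2 : a * a = 1 := by rw [← pow_two, ← ha.1.2, pow_orderOf_eq_one]
        by_cases hsq : y ^ 2 = 1
        · obtain ⟨g, hg⟩ := hconj y (orderOf_eq_prime hsq hy)
          exact ⟨g⁻¹, by rw [← hg]; simpa [mul_assoc] using htC⟩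
        · have e : a * (a * y) = y := by rw [← mul_assoc, ha2, one_mul]
          have := hprod a (a * y) ha.1.2 ha.2 (by rwa [e])
          rwa [e] at this
      have hne : (⟨_, hg⟩ : C) ≠ 1 := fun e => hy (by
        have := congrArg Subtype.val e
        simpa using this)
      have e : indFun C θ0 y = 2 := by
        rw [← indFun_classFun C θ0 y g]
        refine (hind θ0 (by simp [θ0]) ⟨_, hg⟩).trans ?_
        simp only [θ0, inv_eq_one, if_neg hne]
        norm_num
      rw [e]
    rw [Finset.sum_congr rfl fun y _ => hval y, Finset.sum_sub_distrib, Finset.sum_ite_eq',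
      if_pos (Finset.mem_univ _), ← Finset.mul_sum, hc1] at h
    have h2 : ∑ y, c y = (i : ℂ) ^ 2 := by
      have := hsumc fun _ => 1
      simp only [mul_one, Finset.sum_const, nsmul_eq_mul, ← hi] at this
      rw [this]; ring
    have h3 : ∑ h : C, θ0 h = 2 * m - 1 := by
      have h4 : ∀ h : C, θ0 h = 1 - (if h = 1 then 1 else 0) := fun h => by
        simp only [θ0]; split_ifs <;> ring
      rw [Finset.sum_congr rfl fun h _ => h4 h, Finset.sum_sub_distrib, Finset.sum_ite_eq',
        if_pos (Finset.mem_univ _), Finset.sum_const, Finset.card_univ,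
        ← Nat.card_eq_fintype_card, hcC]
      simp
    rw [h2, h3] at h
    push_cast at h
    have hic : (i : ℂ) ≠ 0 := Nat.cast_ne_zero.mpr hi0
    apply mul_left_cancel₀ (mul_ne_zero two_ne_zero hic)
    linear_combination h
  -- a linear character
  have hCab : ∀ a b : C, a * b = b * a := fun a b => Subtype.ext (hcomm a a.2 b b.2)
  obtain ⟨l0, hl0⟩ : ∃ l : C →* ℂˣ, l ⟨c3, hc3C⟩ ≠ 1 := by
    by_contra hno
    push Not at hno
    exact hc31 (congrArg Subtype.val (eq_one_of_forall_linear hCab fun l => hno l))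
  let l : C →* ℂˣ := l0 ^ 2
  have hlt : l ⟨t, htC⟩ = 1 := by
    simp only [l, MonoidHom.pow_apply, ← map_pow]
    rw [show (⟨t, htC⟩ : C) ^ 2 = 1 from Subtype.ext (by simpa [pow_two] using ht2), map_one]
  have hl2 : l ^ 2 ≠ 1 := fun e => hl0 (by
    have h := DFunLike.congr_fun e ⟨c3, hc3C⟩
    simp only [l, MonoidHom.pow_apply, MonoidHom.one_apply] at h
    have h3 : l0 ⟨c3, hc3C⟩ ^ 3 = 1 := by
      rw [← map_pow, show (⟨c3, hc3C⟩ : C) ^ 3 = 1 from Subtype.ext (by simpa using hc3), map_one]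
    calc l0 ⟨c3, hc3C⟩ = l0 ⟨c3, hc3C⟩ ^ 3 * l0 ⟨c3, hc3C⟩ := by rw [h3, one_mul]
      _ = (l0 ⟨c3, hc3C⟩ ^ 2) ^ 2 := by rw [← pow_succ, ← pow_mul]
      _ = 1 := h)
  have hl1 : l ≠ 1 := fun e => hl2 (MonoidHom.ext fun h => by simp [e, MonoidHom.pow_apply])
  let θ : C → ℂ := fun h => 1 - (l h : ℂ)
  have hθ1 : θ 1 = 0 := by simp [θ]
  have hsumθ : ∑ h : C, θ h = 2 * m := by
    simp only [θ, Finset.sum_sub_distrib, linear_sum l hl1, Finset.sum_const, Finset.card_univ,
      ← Nat.card_eq_fintype_card, hcC]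
    simp
  set Φ := indFun C θ with hΦ
  have hΦgen : IsGeneralizedCharacter G Φ :=
    IsGenChar.ind C (IsGenChar.sub (IsGenChar.of_isCharacter IsChar.one)
      (IsGenChar.of_isCharacter (IsIrr.isCharacter (isIrr_linear l))))
  have hone : IsIrrCharacter G (fun _ => (1 : ℂ)) := isIrr_one
  have h2m : (2 * (m : ℂ)) ≠ 0 := mul_ne_zero two_ne_zero hm0
  have hΦ1 : classInner Φ (fun _ => (1 : ℂ)) = 1 := by
    rw [hΦ, classInner_indFun C θ (IsIrr.classFun hone), classInner, hcC]
    simp only [map_one, mul_one, hsumθ]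
    push_cast
    exact inv_mul_cancel₀ h2m
  have hΦΦ : classInner Φ Φ = 3 := by
    rw [hΦ, classInner_indFun C θ (indFun_classFun C θ), classInner, hcC]
    have hcj : ∀ h : C, conj (l h : ℂ) = (l h⁻¹ : ℂ) := fun h =>
      (IsIrr.apply_inv (isIrr_linear l) h).symm
    have hval : ∀ h : C, θ h * conj (indFun C θ (h : G)) =
        3 - 3 * (l h : ℂ) - (l h⁻¹ : ℂ) + ((l ^ 2) h : ℂ) := by
      intro h
      have hll : (l h : ℂ) * (l h⁻¹ : ℂ) = 1 := by
        rw [← Units.val_mul, ← map_mul, mul_inv_cancel, map_one, Units.val_one]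
      rw [hind θ hθ1 h]
      simp only [θ, map_add, map_sub, map_one, hcj, inv_inv, MonoidHom.pow_apply, Units.val_pow_eq_pow_val]
      linear_combination hll
    rw [Finset.sum_congr rfl fun h _ => hval h]
    simp only [Finset.sum_add_distrib, Finset.sum_sub_distrib, ← Finset.mul_sum]
    have hinvsum : ∑ h : C, (l h⁻¹ : ℂ) = ∑ h : C, (l h : ℂ) :=
      Fintype.sum_equiv (Equiv.inv C) _ _ fun h => rfl
    rw [hinvsum, linear_sum l hl1, linear_sum (l ^ 2) hl2, Finset.sum_const, Finset.card_univ,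
      ← Nat.card_eq_fintype_card, hcC]
    push_cast
    field_simp
    ring
  set Ψ : G → ℂ := Φ - fun _ => (1 : ℂ) with hΨ
  have hΨgen : IsGeneralizedCharacter G Ψ :=
    IsGenChar.sub hΦgen (IsGenChar.of_isCharacter IsChar.one)
  have h1Φ : classInner (fun _ => (1 : ℂ)) Φ = 1 := by
    rw [← classInner_conj_symm, hΦ1, map_one]
  have hΨΨ : classInner Ψ Ψ = 2 := by
    rw [hΨ, classInner_sub_left, classInner_sub_right, classInner_sub_right, hΦΦ, hΦ1, h1Φ,
      classInner_self_irr hone]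
    norm_num
  have hΨ1 : classInner Ψ (fun _ => (1 : ℂ)) = 0 := by
    rw [hΨ, classInner_sub_left, hΦ1, classInner_self_irr hone, sub_self]
  obtain ⟨φ, ψ, ε, δ, hφ, hψ, hφψ, hε, hδ, hdec⟩ := norm_two_signs hΨgen hΨΨ
  have hne1 : φ ≠ (fun _ => (1 : ℂ)) ∧ ψ ≠ fun _ => (1 : ℂ) := by
    have h : classInner Ψ (fun _ => (1 : ℂ)) =
        (ε : ℂ) * classInner φ (fun _ => (1 : ℂ)) + (δ : ℂ) * classInner ψ fun _ => (1 : ℂ) := by
      rw [← classInner_smul_left, ← classInner_smul_left, ← classInner_add_left]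
      congr 1
      funext g
      simp [hdec g]
    rw [hΨ1, classInner_irr_eq_ite hφ hone, classInner_irr_eq_ite hψ hone] at h
    constructor <;> intro e
    · rw [if_pos e, if_neg (fun e' => hφψ (e.trans e'.symm))] at h
      rcases hε with rfl | rfl <;> simp at h
    · rw [if_pos e, if_neg (fun e' => hφψ (e'.trans e.symm))] at h
      rcases hδ with rfl | rfl <;> simp at h
  have hdeg : Ψ 1 = -1 := by
    simp [hΨ, hΦ, indFun_one_eq, hθ1]
  -- arrange the signs
  obtain ⟨χ, ξ, hχ, hξ, hχξ, hχ1, hξ1, hsplit⟩ : ∃ χ ξ : G → ℂ, IsIrrCharacter G χ ∧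
      IsIrrCharacter G ξ ∧ χ ≠ ξ ∧ χ ≠ (fun _ => (1 : ℂ)) ∧ ξ ≠ (fun _ => (1 : ℂ)) ∧
      ∀ g, Ψ g = χ g - ξ g := by
    obtain ⟨d, hd, hd'⟩ := IsIrr.one_eq_pos hφ
    obtain ⟨e, he, he'⟩ := IsIrr.one_eq_pos hψ
    have h := hdec 1
    rw [hdeg, hd', he'] at h
    have h2 : (-1 : ℤ) = ε * d + δ * e := by exact_mod_cast h
    rcases hε with rfl | rfl <;> rcases hδ with rfl | rfl
    · exfalso; omega
    · exact ⟨φ, ψ, hφ, hψ, hφψ, hne1.1, hne1.2, fun g => by rw [hdec g]; push_cast; ring⟩
    · exact ⟨ψ, φ, hψ, hφ, hφψ.symm, hne1.2, hne1.1, fun g => by rw [hdec g]; push_cast; ring⟩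
    · exfalso; omega
  obtain ⟨d, hd0, hd⟩ := IsIrr.one_eq_pos hχ
  have hd1 : ξ 1 = (d : ℂ) + 1 := by
    have := hsplit 1
    rw [hdeg, hd] at this
    linear_combination this
  obtain ⟨x, hx⟩ := int_value hχ ht2
  have hz : ξ t = (x : ℂ) + 1 := by
    have h := hsplit t
    have hΦt : Φ t = 0 := by
      rw [hΦ]
      refine (hind θ hθ1 ⟨t, htC⟩).trans ?_
      simp only [θ, map_inv, hlt, inv_one, Units.val_one]
      norm_num
    rw [hx] at h
    simp only [hΨ, Pi.sub_apply, hΦt] at h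
    linear_combination h
  -- the second orthogonality relation at `t`
  have hbound : x * x + (x + 1) * (x + 1) + 1 ≤ 4 * (m : ℤ) := by
    have h := sum_irr_mul_conj t t
    rw [if_pos (IsConj.refl t), hcent, hcN] at h
    have hre : ∑ η : IrrCharacter G, Complex.normSq ((η : G → ℂ) t) = (4 * m : ℕ) := by
      have h2 : ((∑ η : IrrCharacter G, Complex.normSq ((η : G → ℂ) t) : ℝ) : ℂ) =
          ((4 * m : ℕ) : ℂ) := by
        rw [← h, Complex.ofReal_sum]
        exact Finset.sum_congr rfl fun η _ => (Complex.mul_conj _).symm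
      exact_mod_cast h2
    let e1 : IrrCharacter G := ⟨_, hone⟩
    let e2 : IrrCharacter G := ⟨_, hχ⟩
    let e3 : IrrCharacter G := ⟨_, hξ⟩
    have hsub : ∑ η ∈ ({e1, e2, e3} : Finset (IrrCharacter G)), Complex.normSq ((η : G → ℂ) t) ≤
        ∑ η : IrrCharacter G, Complex.normSq ((η : G → ℂ) t) :=
      Finset.sum_le_sum_of_subset_of_nonneg (fun η _ => Finset.mem_univ η)
        (fun η _ _ => Complex.normSq_nonneg _)
    rw [hre, Finset.sum_insert (by
        simp only [mem_insert, mem_singleton, not_or, e1, e2, e3, Subtype.mk.injEq]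
        exact ⟨hχ1.symm, hξ1.symm⟩),
      Finset.sum_pair (fun e => hχξ (congrArg Subtype.val e))] at hsub
    have v1 : Complex.normSq ((e1 : G → ℂ) t) = ((1 : ℤ) : ℝ) := by simp [e1]
    have v2 : Complex.normSq ((e2 : G → ℂ) t) = ((x * x : ℤ) : ℝ) := by
      simp [e2, hx, Complex.normSq_intCast]
    have v3 : Complex.normSq ((e3 : G → ℂ) t) = (((x + 1) * (x + 1) : ℤ) : ℝ) := by
      have : (e3 : G → ℂ) t = ((x + 1 : ℤ) : ℂ) := by simp [e3, hz]
      rw [this, Complex.normSq_intCast]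
      push_cast; rfl
    rw [v1, v2, v3] at hsub
    have : ((x * x + (x + 1) * (x + 1) + 1 : ℤ) : ℝ) ≤ ((4 * m : ℤ) : ℝ) := by
      push_cast at hsub ⊢; linarith
    exact_mod_cast this
  -- the main equation
  have heq : (i : ℤ) * (x - d) ^ 2 = 8 * (m : ℤ) ^ 2 * ((d : ℤ) * (d + 1)) := by
    have h := hsumind θ hθ1
    rw [← hΦ, hsumθ] at h
    have hsum : ∑ y, Φ y * c y = ∑ y, c y * (fun _ : G => (1 : ℂ)) y + ∑ y, c y * χ y -
        ∑ y, c y * ξ y := by
      rw [← Finset.sum_add_distrib, ← Finset.sum_sub_distrib]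
      refine Finset.sum_congr rfl fun y _ => ?_
      have := hsplit y
      simp only [hΨ, Pi.sub_apply] at this
      linear_combination (c y) * this
    rw [hsum, hirr _ hone, hirr _ hχ, hirr _ hξ, hx, hd, hz, hd1] at h
    simp only [one_pow, mul_one, div_one] at h
    have hdC : (d : ℂ) ≠ 0 := Nat.cast_ne_zero.mpr hd0.ne'
    have hdC' : (d : ℂ) + 1 ≠ 0 := by exact_mod_cast Nat.succ_ne_zero d
    have hic : (i : ℂ) ≠ 0 := Nat.cast_ne_zero.mpr hi0
    push_cast at h
    field_simp at h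
    have key : ((i : ℂ) * ((x : ℂ) - d) ^ 2) = 8 * (m : ℂ) ^ 2 * ((d : ℂ) * (d + 1)) := by
      apply mul_left_cancel₀ hic
      first
        | linear_combination h
        | linear_combination (i : ℂ) * h
    exact_mod_cast key
  have hiZ : (i : ℤ) = 4 * (m : ℤ) ^ 2 - 2 * m + 1 := by
    have : (i : ℂ) = ((4 * (m : ℤ) ^ 2 - 2 * m + 1 : ℤ) : ℂ) := by
      push_cast; linear_combination hiEq
    exact_mod_cast this
  have hcop : IsCoprime (i : ℤ) (8 * (m : ℤ) ^ 2) := by
    have h1 : IsCoprime (i : ℤ) (2 * m) := ⟨1, -(2 * (m : ℤ) - 1), by rw [hiZ]; ring⟩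
    have h2 : (8 * (m : ℤ) ^ 2) ∣ (2 * (m : ℤ)) ^ 3 := ⟨m, by ring⟩
    exact (h1.pow_right (n := 3)).of_isCoprime_of_dvd_right h2
  obtain ⟨s, hs⟩ : (i : ℤ) ∣ (d : ℤ) * (d + 1) :=
    hcop.dvd_of_dvd_mul_left ⟨(x - d) ^ 2, heq.symm⟩
  have hiz0 : (i : ℤ) ≠ 0 := by exact_mod_cast hi0
  have hsq : (x - d) ^ 2 = 8 * (m : ℤ) ^ 2 * s := by
    apply mul_left_cancel₀ hiz0
    rw [heq, hs]; ring
  have hs1 : 1 ≤ s := by
    have : 0 < (d : ℤ) * (d + 1) := by positivity
    have hipos : 0 < (i : ℤ) := by exact_mod_cast Nat.pos_of_ne_zero hi0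
    rw [hs] at this
    nlinarith
  have hm3 : (3 : ℤ) ≤ m := by exact_mod_cast hm
  have hd2 : (d : ℤ) ^ 2 < 4 * (m : ℤ) ^ 2 * s := by
    have : (0 : ℤ) < d := by exact_mod_cast hd0
    nlinarith [hs, hiZ]
  obtain ⟨r, hr0, hr⟩ : ∃ r : ℤ, 0 ≤ r ∧ (x = r ∨ x = -r) :=
    ⟨|x|, abs_nonneg x, by rcases abs_choice x with h | h <;> omega⟩
  have hrb : r ^ 2 - r + 1 ≤ 2 * (m : ℤ) := by rcases hr with rfl | rfl <;> nlinarith
  have hdr : (x - d) ^ 2 ≤ ((d : ℤ) + r) ^ 2 := by
    rcases hr with rfl | rfl <;> nlinarith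
  have hkey : 2 * (m : ℤ) ^ 2 < 3 * r ^ 2 := by
    nlinarith [sq_nonneg ((d : ℤ) - 2 * r)]
  by_cases hm5 : (m : ℤ) ≤ 5
  · have hr3 : r ≤ 3 := by nlinarith
    interval_cases r <;> interval_cases (m : ℤ) <;> omega
  · have hr4 : 3 ≤ r := by nlinarith
    nlinarith

end Cfsg.Agent.Grp.GenDihedral
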