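import Mathlib
import Cfsg.Agent.Lib.Grp.FpfDual

/-!
Ward's theorem: an elementary abelian fixed-point-free operator group of order p² on a solvable
group forces Fitting height at most two.
-/

namespace Cfsg.Agent.Grp

set_option linter.unusedSectionVars false

open scoped Pointwise commutatorElement
open Subgroup

variable {X : Type*} [Group X]

theorem le_normalizer_commutator' {A Q S : Subgroup X} (hQ : A ≤ Subgroup.normalizer (Q : Set X))
    (hS : A ≤ Subgroup.normalizer (S : Set X)) :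
    A ≤ Subgroup.normalizer ((⁅Q, S⁆ : Subgroup X) : Set X) := fun a ha => by
  rw [mem_normalizer_iff_smul, ← map_conj_eq_smul, Subgroup.map_commutator, map_conj_eq_smul,
    map_conj_eq_smul, normalizer_le_smul hQ ha, normalizer_le_smul hS ha]

/-- Two elements generating an elementary abelian group of order `p ^ 2`. -/
theorem elemAb_le_of_two [Finite X] {p : ℕ} [Fact p.Prime] {A B : Subgroup X}
    (hA : Cfsg.IsElementaryAbelian p A) (hcard : Nat.card A = p ^ 2) {a b : X} (ha : a ∈ A)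
    (ha1 : a ≠ 1) (hbA : b ∈ A) (hb : b ∉ Subgroup.zpowers a) (haB : a ∈ B) (hbB : b ∈ B) :
    A ≤ B := by
  have hp := (Fact.out : p.Prime)
  suffices A ⊓ B = A from this ▸ inf_le_right
  refine Subgroup.eq_of_le_of_card_ge inf_le_left ?_
  obtain ⟨i, hi, ei⟩ := (Nat.dvd_prime_pow hp).mp
    (hcard ▸ Subgroup.card_dvd_of_le (inf_le_left : A ⊓ B ≤ A))
  rw [hcard, ei]
  by_contra hlt
  refine hb ?_
  have hle : Subgroup.zpowers a ≤ A ⊓ B := Subgroup.zpowers_le.mpr ⟨ha, haB⟩
  have := Subgroup.eq_of_le_of_card_ge hle (by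
    rw [Nat.card_zpowers, orderOf_eq_prime (hA.2 a ha) ha1, ei]
    calc p ^ i ≤ p ^ 1 := Nat.pow_le_pow_right hp.pos (by
          by_contra h
          exact hlt (Nat.pow_le_pow_right hp.pos (by omega)))
      _ = p := pow_one p)
  rw [this]
  exact ⟨hbA, hbB⟩

/-- The centralizer of a nontrivial element of a fixed-point-free group of order `p ^ 2` is
nilpotent. -/
theorem isNilpotent_inf_centralizer [Finite X] {p : ℕ} [Fact p.Prime] {G A : Subgroup X} [G.Normal]
    (hG : Group.IsSolvable G) (hA : Cfsg.IsElementaryAbelian p A) (hcard : Nat.card A = p ^ 2)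
    (hfpf : G ⊓ Subgroup.centralizer (A : Set X) = ⊥) {a : X} (ha : a ∈ A) (ha1 : a ≠ 1) :
    Group.IsNilpotent ↥(G ⊓ Subgroup.centralizer {a}) := by
  obtain ⟨b, hb, hba⟩ : ∃ b ∈ A, b ∉ Subgroup.zpowers a := by
    by_contra h
    push Not at h
    have := Subgroup.card_dvd_of_le (show A ≤ Subgroup.zpowers a from h)
    rw [hcard, Nat.card_zpowers, orderOf_eq_prime (hA.2 a ha) ha1] at this
    have h2 := Nat.le_of_dvd (Fact.out : p.Prime).pos this
    have := (Fact.out : p.Prime).two_le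
    nlinarith
  refine isNilpotent_of_fpf_prime (p := p) _ (isSolvable_of_le inf_le_left hG) (hA.2 b hb) ?_ ?_
  · refine (invariant_iff (A := Subgroup.zpowers b)).mp (fun c hc x hx => ?_) (Subgroup.mem_zpowers b)
    have hcA : c ∈ A := (Subgroup.zpowers_le.mpr hb) hc
    rw [mem_inf_centralizer] at hx ⊢
    refine ⟨‹G.Normal›.conj_mem _ hx.1 c, ?_⟩
    have h1 : (Commute a c) := elemAb_comm hA a ha c hcA
    exact ((h1.mul_right hx.2).mul_right h1.inv_right).eq
  · rw [eq_bot_iff, ← hfpf]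
    rintro x ⟨hx, hxb⟩
    refine ⟨hx.1, Subgroup.mem_centralizer_iff.mpr fun c hc => ?_⟩
    have hle : A ≤ Subgroup.centralizer {x} := by
      refine elemAb_le_of_two hA hcard ha ha1 hb hba ?_ ?_
      · exact Subgroup.mem_centralizer_iff.mpr fun g hg => by
          rw [Set.mem_singleton_iff.mp hg]; exact (Subgroup.mem_centralizer_iff.mp hx.2 a rfl).symm
      · exact Subgroup.mem_centralizer_iff.mpr fun g hg => by
          rw [Set.mem_singleton_iff.mp hg]; exact (Subgroup.mem_centralizer_iff.mp hxb b rfl).symm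
    exact (Subgroup.mem_centralizer_iff.mp (hle hc) x rfl).symm

theorem characteristic_comap_mk {H : Type*} [Group H] {N : Subgroup H} [N.Normal] [hN : N.Characteristic]
    (K : Subgroup (H ⧸ N)) [hK : K.Characteristic] :
    (K.comap (QuotientGroup.mk' N)).Characteristic := by
  refine Subgroup.characteristic_iff_comap_eq.mpr fun φ => ?_
  have hmap : N.map (φ : H ≃* H).toMonoidHom = N := Subgroup.characteristic_iff_map_eq.mp hN φ
  have e := Subgroup.characteristic_iff_comap_eq.mp hK (QuotientGroup.congr N N φ hmap)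
  ext x
  simp only [Subgroup.mem_comap]
  conv_rhs => rw [← e]
  rfl

/-- Ward's theorem inside an ambient group. -/
theorem ward_quotient_fitting_isNilpotent [Finite X] {p : ℕ} [Fact p.Prime] {G A : Subgroup X} [G.Normal]
    (hG : Group.IsSolvable G) (hA : Cfsg.IsElementaryAbelian p A) (hcard : Nat.card A = p ^ 2)
    (hfpf : G ⊓ Subgroup.centralizer (A : Set X) = ⊥) :
    ∃ N : Subgroup G, N.Normal ∧ Group.IsNilpotent N ∧
      ∃ n, (⊤ : Subgroup G).lowerCentralSeries n ≤ N := by
  have hFn : (Cfsg.fittingSubgroup G).Normal := fittingSubgroup_isNormal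
  refine ⟨Cfsg.fittingSubgroup G, hFn, fittingSubgroup_isNilpotent, ?_⟩
  suffices hnil : Group.IsNilpotent (↥G ⧸ Cfsg.fittingSubgroup G) by
    obtain ⟨n, hn⟩ := Subgroup.nilpotent_iff_lowerCentralSeries.mp hnil
    refine ⟨n, fun x hx => ?_⟩
    rw [← QuotientGroup.eq_one_iff]
    have h := Subgroup.map_lowerCentralSeries (S := (⊤ : Subgroup G))
      (QuotientGroup.mk' (Cfsg.fittingSubgroup G)) n
    rw [Subgroup.map_top_of_surjective _ (QuotientGroup.mk'_surjective _), hn] at h
    exact (h.le ⟨x, hx, rfl⟩ : _)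
  have := hG
  have hAG : A ≤ Subgroup.normalizer (G : Set X) := Subgroup.le_normalizer_of_normal
  have hGp : ¬ p ∣ Nat.card G := not_dvd_card_of_fpf (elemAb_isPGroup hA) hAG hfpf
  have : IsMulCommutative A := hA.1
  have hAsolv : Group.IsSolvable A := Group.isSolvable_of_comm mul_comm'
  have hcopA : ∀ {Y : Subgroup X}, Y ≤ G → (Nat.card A).Coprime (Nat.card Y) := fun h =>
    coprime_elemAb hA fun h' => hGp (h'.trans (Subgroup.card_dvd_of_le h))
  refine isNilpotent_of_centralizes_cores fun q s hq hs hsq hdvd => ?_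
  have := Fact.mk hq
  have := Fact.mk hs
  set F := Cfsg.fittingSubgroup G
  set π := QuotientGroup.mk' F
  have hπ : Function.Surjective π := QuotientGroup.mk'_surjective F
  set L := (Cfsg.pCore q (↥G ⧸ F)).comap π
  have : L.Characteristic := characteristic_comap_mk _
  set Lx := L.map G.subtype
  have hLxn : Lx.Normal := normal_of_characteristic_map L
  have hLG : Lx ≤ G := Subgroup.map_subtype_le L
  obtain ⟨Q, hQ, hAQ⟩ := exists_invariant_sylow A Lx Subgroup.le_normalizer_of_normal (hcopA hLG)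
    (Or.inl hAsolv) q
  set N := G ⊓ Subgroup.normalizer (Q : Set X)
  have hAN : A ≤ Subgroup.normalizer (N : Set X) :=
    le_normalizer_inf' hAG (hAQ.trans Subgroup.le_normalizer)
  obtain ⟨S, hS, hAS⟩ := exists_invariant_sylow A N hAN (hcopA inf_le_left) (Or.inl hAsolv) s
  have hQG : Q ≤ G := hQ.1.trans hLG
  have hSG : S ≤ G := hS.1.trans inf_le_left
  have hSQ : S ≤ Subgroup.normalizer (Q : Set X) := hS.1.trans inf_le_right
  obtain ⟨m, hm⟩ := IsPGroup.iff_card.mp hQ.2.1
  obtain ⟨l, hl⟩ := IsPGroup.iff_card.mp hS.2.1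
  have hcopSQ : (Nat.card S).Coprime (Nat.card Q) := by
    rw [hl, hm]; exact Nat.Coprime.pow _ _ ((Nat.coprime_primes hs hq).mpr hsq)
  have hSsolv : Group.IsSolvable S := @IsNilpotent.to_isSolvable _ _ hS.2.1.isNilpotent
  set Q1 := ⁅Q, S⁆
  have hQ1Q : Q1 ≤ Q := commutator_le_left_of_le_normalizer hSQ
  have hAQ1 : A ≤ Subgroup.normalizer (Q1 : Set X) := le_normalizer_commutator' hAQ hAS
  have hSQ1 : S ≤ Subgroup.normalizer (Q1 : Set X) := right_le_normalizer_commutator S Q
  have hQ1G : Q1 ≤ G := hQ1Q.trans hQG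
  have hQ1p : IsPGroup q Q1 := hQ.2.1.to_le hQ1Q
  have hcomm : ∀ a ∈ A, a ≠ 1 → ∀ (u w : ℕ), u.Prime → w.Prime → u ≠ w →
      ∀ Y Z : Subgroup X, IsPGroup u Y → IsPGroup w Z → Y ≤ G → Z ≤ G →
      ∀ y ∈ Y ⊓ Subgroup.centralizer {a}, ∀ z ∈ Z ⊓ Subgroup.centralizer {a}, y * z = z * y := by
    intro a ha ha1 u w hu hw huw Y Z hY hZ hYG hZG y hy z hz
    have := Fact.mk hu
    have := Fact.mk hw
    have hn := isNilpotent_inf_centralizer hG hA hcard hfpf ha ha1
    obtain ⟨i, hi⟩ := hY ⟨y, hy.1⟩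
    obtain ⟨j, hj⟩ := hZ ⟨z, hz.1⟩
    exact congrArg Subtype.val (commute_of_nilpotent_coprime hn huw
      (x := (⟨y, hYG hy.1, hy.2⟩ : ↥(G ⊓ Subgroup.centralizer {a})))
      (y := (⟨z, hZG hz.1, hz.2⟩ : ↥(G ⊓ Subgroup.centralizer {a}))) (i := i) (j := j)
      (Subtype.ext (by simpa using congrArg Subtype.val hi))
      (Subtype.ext (by simpa using congrArg Subtype.val hj)))
  -- `[Q, S]` centralizes the cores for the other primes
  have hcent : ∀ r : ℕ, r.Prime → r ≠ q →
      Q1 ≤ Subgroup.centralizer (((Cfsg.pCore r G).map G.subtype : Subgroup X) : Set X) := by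
    intro r hr hrq
    have := Fact.mk hr
    set V := (Cfsg.pCore r G).map G.subtype
    have hVn : V.Normal := normal_of_characteristic_map _
    have hVG : V ≤ G := Subgroup.map_subtype_le _
    have hVp : IsPGroup r V := (pCore_isPGroup (p := r)).map _
    obtain ⟨i, hi⟩ := IsPGroup.iff_card.mp hQ1p
    have hQr : ¬ r ∣ Nat.card Q1 := by
      rw [hi]
      intro h
      exact hrq ((Nat.prime_dvd_prime_iff_eq hr hq).mp (hr.dvd_of_dvd_pow h))
    refine le_centralizer_of_dual (k := AlgebraicClosure (ZMod r)) hVp hQr ?_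
    refine rep_trivial_of_elemAb (M := Additive V →+ AlgebraicClosure (ZMod r)) (dualRep V _) hA hcard
      hAQ1 hAS hSQ1 hQ1p.isNilpotent ?_ (fun h => hGp (h.trans (Subgroup.card_dvd_of_le hQ1G)))
      (fun h => hGp (h.trans (Subgroup.card_dvd_of_le hSG)))
      (commutator_commutator_eq S Q hSQ hcopSQ (Or.inl hSsolv))
      (le_bot_iff.mp (hfpf ▸ inf_le_inf_right _ hQ1G))
      (le_bot_iff.mp (hfpf ▸ inf_le_inf_right _ hSG))
      (fun a ha ha1 y hy z hz => hcomm a ha ha1 q s hq hs hsq.symm Q1 S hQ1p hS.2.1 hQ1G hSG y hy z hz)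
      ?_
    · rw [ne_eq, CharP.cast_eq_zero_iff _ r]; exact hQr
    · intro a ha ha1 y hy f hf
      refine dual_fixed_of_commute ?_ (Subgroup.mem_centralizer_iff.mp hy.2 a rfl)
        (fun v hv => hcomm a ha ha1 q r hq hr hrq.symm Q1 V hQ1p hVp hQ1G hVG y hy v hv) hf
      exact Nat.Coprime.coprime_dvd_left
        (by rw [← Nat.card_zpowers]; exact Subgroup.card_dvd_of_le (Subgroup.zpowers_le.mpr ha))
        (hcopA hVG)
  -- hence `[Q, S]` lies in the Fitting subgroup
  have hLel : ∀ t : ℕ, t.Prime → t ≠ q → ∀ x ∈ L, ∀ i : ℕ, x ^ t ^ i = 1 → x ∈ F := by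
    intro t ht htq x hx i hi
    rw [← QuotientGroup.eq_one_iff, ← orderOf_eq_one_iff]
    have hxc : π x ∈ Cfsg.pCore q (↥G ⧸ F) := hx
    obtain ⟨j, hj⟩ := pCore_isPGroup (p := q) (⟨π x, hxc⟩ : Cfsg.pCore q (↥G ⧸ F))
    refine Nat.eq_one_of_dvd_coprimes
      (Nat.Coprime.pow i j ((Nat.coprime_primes ht hq).mpr htq)) ?_ ?_
    · exact orderOf_dvd_of_pow_eq_one (show π x ^ t ^ i = 1 by rw [← map_pow, hi, map_one])
    · exact orderOf_dvd_of_pow_eq_one (show π x ^ q ^ j = 1 by simpa using congrArg Subtype.val hj)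
  have hQ1F : ∀ y : G, (y : X) ∈ Q1 → y ∈ F := by
    intro y hy
    let D : Subgroup G := L ⊓ ⨅ (r : ℕ) (_ : r.Prime ∧ r ≠ q),
      Subgroup.centralizer (Cfsg.pCore r G : Set G)
    have hDn : D.Normal := by
      have : (⨅ (r : ℕ) (_ : r.Prime ∧ r ≠ q),
          Subgroup.centralizer (Cfsg.pCore r G : Set G)).Normal := by
        refine Subgroup.normal_iInf_normal fun r => Subgroup.normal_iInf_normal fun _ => ?_
        have := pCore_isNormal (p := r) (G := G)
        infer_instance
      infer_instance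
    refine le_fitting_of_centralizing (q := q) hDn
      (fun r hr hrq => inf_le_right.trans (iInf₂_le r ⟨hr, hrq⟩))
      (fun t ht htq x hx i hi => hLel t ht htq x hx.1 i hi) ⟨?_, ?_⟩
    · obtain ⟨z, hz, e⟩ := hQ.1 (hQ1Q hy)
      rw [show y = z from Subtype.ext e.symm]
      exact hz
    · refine Subgroup.mem_iInf.mpr fun r => Subgroup.mem_iInf.mpr fun hr => ?_
      exact Subgroup.mem_centralizer_iff.mpr fun v hv => Subtype.ext
        (Subgroup.mem_centralizer_iff.mp (hcent r hr.1 hr.2 hy) v ⟨v, hv, rfl⟩)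
  -- `L = F Q`
  have hLQ : Cfsg.pCore q (↥G ⧸ F) ≤ (Q.subgroupOf G).map π := by
    intro x hx
    obtain ⟨y, rfl⟩ := hπ x
    have hle : L ≤ F ⊔ Q.subgroupOf G := by
      have hFL : F ≤ L := fun z hz => by
        show π z ∈ Cfsg.pCore q (↥G ⧸ F)
        rw [show π z = 1 from (QuotientGroup.eq_one_iff z).mpr hz]
        exact Subgroup.one_mem _
      have hQL : Q.subgroupOf G ≤ L := fun z hz => by
        obtain ⟨w, hw, e⟩ := hQ.1 (show (z : X) ∈ Q from hz)
        rw [show z = w from Subtype.ext e.symm]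
        exact hw
      refine le_of_forall_sylow (sup_le hFL hQL) fun t ht => ?_
      by_cases htq : t = q
      · subst htq
        refine ⟨Q.subgroupOf G, ⟨hQL, hQ.2.1.comap_subtype, ?_⟩, le_sup_right⟩
        have e : Lx.subgroupOf G = L := Subgroup.comap_map_eq_self_of_injective
          (Subgroup.subtype_injective G) L
        rw [← e, Subgroup.relIndex_subgroupOf hLG]
        exact hQ.2.2
      · obtain ⟨T, hT⟩ := exists_isSylowIn t L
        refine ⟨T, hT, le_trans (fun z hz => ?_) le_sup_left⟩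
        obtain ⟨i, hi⟩ := hT.2.1 ⟨z, hz⟩
        exact hLel t ht.out htq z (hT.1 hz) i (congrArg Subtype.val hi)
    have := Subgroup.mem_map_of_mem π (hle (show y ∈ L from hx))
    rwa [Subgroup.map_sup, QuotientGroup.map_mk'_self, bot_sup_eq] at this
  -- the image of `S` centralizes `O_q`
  have hSc : (S.subgroupOf G).map π ≤
      Subgroup.centralizer (Cfsg.pCore q (↥G ⧸ F) : Set (↥G ⧸ F)) := by
    rintro _ ⟨z, hz, rfl⟩
    rw [Subgroup.mem_centralizer_iff]
    intro x hx
    obtain ⟨y, hy, rfl⟩ := hLQ hx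
    rw [← commutatorElement_eq_one_iff_mul_comm, ← map_commutatorElement]
    refine (QuotientGroup.eq_one_iff _).mpr (hQ1F _ ?_)
    exact Subgroup.commutator_mem_commutator (show (y : X) ∈ Q from hy) (show (z : X) ∈ S from hz)
  -- Frattini argument
  have hNsurj : Function.Surjective (π.comp (N.subgroupOf G).subtype) := by
    intro x
    obtain ⟨g, rfl⟩ := hπ x
    have hsm : MulAut.conj (g : X) • Lx = Lx := by
      rw [← mem_normalizer_iff_smul]
      exact Subgroup.le_normalizer_of_normal (Subgroup.mem_top (g : X))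
    obtain ⟨u, hu, hu'⟩ := hQ.conj (hQ.smul (g := (g : X)) hsm)
    obtain ⟨u, huL, rfl⟩ := hu
    obtain ⟨v, hv, hv'⟩ := hLQ (show π u ∈ _ from huL)
    have hn : ((u⁻¹ * g : G) : X) ∈ Subgroup.normalizer (Q : Set X) := by
      rw [mem_normalizer_iff_smul]
      show MulAut.conj ((u : X)⁻¹ * g) • Q = Q
      rw [← conj_smul_conj_smul, ← hu', conj_smul_conj_smul]
      simp
    refine ⟨⟨v * (u⁻¹ * g), G.mul_mem v.2 (u⁻¹ * g).2, ?_⟩, ?_⟩
    · exact Subgroup.mul_mem _ (Subgroup.le_normalizer hv) hn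
    · show π (v * (u⁻¹ * g)) = π g
      rw [map_mul, hv', ← map_mul, mul_inv_cancel_left]
  refine hS.2.2 (hdvd.trans ((Subgroup.index_dvd_of_le hSc).trans ?_))
  have h1 := Subgroup.index_map_dvd ((S.subgroupOf G).subgroupOf (N.subgroupOf G)) hNsurj
  have hSN' : S.subgroupOf G ≤ N.subgroupOf G := Subgroup.comap_mono hS.1
  rw [← Subgroup.map_map, Subgroup.subgroupOf_map_subtype, inf_eq_left.mpr hSN'] at h1
  refine h1.trans (dvd_of_eq ?_)
  show (S.subgroupOf G).relIndex (N.subgroupOf G) = _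
  rw [Subgroup.relIndex_subgroupOf inf_le_left]

/-- Ward's theorem for automorphism groups. -/
theorem ward_mulAut {G : Type*} [Group G] [Finite G] (hG : Group.IsSolvable G) {p : ℕ}
    [Fact p.Prime] (A : Subgroup (MulAut G)) (hA : Cfsg.IsElementaryAbelian p A)
    (hcard : Nat.card A = p ^ 2) (hfpf : ∀ g : G, (∀ a ∈ A, a g = g) → g = 1) :
    ∃ N : Subgroup G, N.Normal ∧ Group.IsNilpotent N ∧
      ∃ n, (⊤ : Subgroup G).lowerCentralSeries n ≤ N := by
  have : Finite A := Nat.finite_of_card_ne_zero (by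
    rw [hcard]; exact pow_ne_zero _ (Fact.out : p.Prime).ne_zero)
  let X := SemidirectProduct G A A.subtype
  have : Finite X := Finite.of_equiv _ SemidirectProduct.equivProd.symm
  let ι : G →* X := SemidirectProduct.inl
  have hι : Function.Injective ι := SemidirectProduct.inl_injective
  let Gi := ι.range
  have : Gi.Normal := by
    show (SemidirectProduct.inl : G →* X).range.Normal
    rw [SemidirectProduct.range_inl_eq_ker_rightHom]
    infer_instance
  let e : G ≃* Gi := MonoidHom.ofInjective hι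
  let Ai : Subgroup X := (SemidirectProduct.inr : A →* X).range
  have hAi : Cfsg.IsElementaryAbelian p Ai := by
    refine ⟨⟨⟨?_⟩⟩, ?_⟩
    · rintro ⟨_, a, rfl⟩ ⟨_, b, rfl⟩
      refine Subtype.ext ?_
      show SemidirectProduct.inr a * SemidirectProduct.inr b = _ * _
      rw [← map_mul, show a * b = b * a from hA.1.is_comm.comm a b, map_mul]
    · rintro _ ⟨a, rfl⟩
      rw [← map_pow, show a ^ p = 1 from Subtype.ext (by simpa using hA.2 a a.2), map_one]
  have hcardi : Nat.card Ai = p ^ 2 := by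
    rw [← hcard]
    exact (Nat.card_congr (MonoidHom.ofInjective SemidirectProduct.inr_injective).toEquiv).symm
  have hfpfi : Gi ⊓ Subgroup.centralizer (Ai : Set X) = ⊥ := by
    rw [eq_bot_iff]
    rintro _ ⟨⟨g, rfl⟩, hg⟩
    rw [Subgroup.mem_bot, hfpf g fun a ha => ?_, map_one]
    have := Subgroup.mem_centralizer_iff.mp hg _ ⟨⟨a, ha⟩, rfl⟩
    refine SemidirectProduct.inl_injective (φ := A.subtype) ?_
    show SemidirectProduct.inl (A.subtype ⟨a, ha⟩ g) = _
    rw [SemidirectProduct.inl_aut, this, map_inv, mul_inv_cancel_right]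
  have hGi : Group.IsSolvable Gi := isSolvable_of_injective e.symm.toMonoidHom e.symm.injective hG
  obtain ⟨N, hNn, hNnil, n, hn⟩ := ward_quotient_fitting_isNilpotent hGi hAi hcardi hfpfi
  refine ⟨N.comap e.toMonoidHom, hNn.comap _, ?_, n, fun x hx => ?_⟩
  · have hmap : (N.comap e.toMonoidHom).map e.toMonoidHom = N :=
      Subgroup.map_comap_eq_self_of_surjective e.surjective N
    exact Group.nilpotent_of_mulEquiv ((Subgroup.equivMapOfInjective _ _ e.injective).trans
      (MulEquiv.subgroupCongr hmap)).symm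
  · have h := Subgroup.map_lowerCentralSeries (S := (⊤ : Subgroup G)) e.toMonoidHom n
    have htop : (⊤ : Subgroup G).map e.toMonoidHom = ⊤ :=
      Subgroup.map_top_of_surjective _ e.surjective
    rw [htop] at h
    exact hn (h.le ⟨x, hx, rfl⟩)

end Cfsg.Agent.Grp
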