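import Mathlib
import Cfsg.Agent.Lib.Grp.PSolvable
import Cfsg.Agent.Lib.Grp.Coprime
import Cfsg.Agent.Lib.Grp.Frattini
import Cfsg.Agent.Lib.Grp.FpfWard
import Cfsg.Agent.Lib.Grp.FpfPrime

/-!
Coprime operators fixing the elements of order p (p odd), and the Gaschütz-Yen theorem.
-/

set_option autoImplicit false
set_option linter.unusedSectionVars false

namespace Cfsg.Agent.Grp

open Subgroup
open scoped commutatorElement Pointwise

universe u

variable {G : Type u} [Group G]

theorem mul_pow_class_two {x y c : G} (hyx : y * x = c * x * y) (hcx : Commute c x) (hcy : Commute c y) :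
    ∀ n : ℕ, (x * y) ^ n = c ^ (n.choose 2) * x ^ n * y ^ n := by
  have hmove : ∀ n : ℕ, y ^ n * x = c ^ n * x * y ^ n := by
    intro n
    induction n with
    | zero => simp
    | succ n ih =>
      calc y ^ (n + 1) * x = y * (y ^ n * x) := by rw [pow_succ', mul_assoc]
        _ = y * c ^ n * x * y ^ n := by rw [ih]; simp [mul_assoc]
        _ = c ^ n * (y * x) * y ^ n := by rw [← (hcy.pow_left n).eq]; simp [mul_assoc]
        _ = c ^ n * c * x * (y * y ^ n) := by rw [hyx]; simp [mul_assoc]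
        _ = c ^ (n + 1) * x * y ^ (n + 1) := by rw [← pow_succ, ← pow_succ']
  intro n
  induction n with
  | zero => simp
  | succ n ih =>
    calc (x * y) ^ (n + 1) = c ^ n.choose 2 * x ^ n * (y ^ n * x) * y := by
          rw [pow_succ, ih]; simp [mul_assoc]
      _ = c ^ n.choose 2 * (x ^ n * c ^ n) * x * (y ^ n * y) := by rw [hmove]; simp [mul_assoc]
      _ = c ^ n.choose 2 * c ^ n * (x ^ n * x) * (y ^ n * y) := by
        rw [← (hcx.pow_pow n n).eq]; simp [mul_assoc]
      _ = c ^ (n + 1).choose 2 * x ^ (n + 1) * y ^ (n + 1) := by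
        rw [← pow_add, ← pow_succ, ← pow_succ, Nat.choose_succ_succ', Nat.choose_one_right,
          add_comm (n.choose 2) n]

/-- For odd `p`, coprime operators fixing the elements of order `p` of a `p`-group fix everything. -/
theorem le_centralizer_of_order_p [Finite G] {p : ℕ} [hp : Fact p.Prime] (hp2 : p ≠ 2)
    (A : Subgroup G) (hA : (Nat.card A).Coprime p) :
    ∀ U : Subgroup G, IsPGroup p U → A ≤ Subgroup.normalizer (U : Set G) →
      (∀ u ∈ U, u ^ p = 1 → ∀ a ∈ A, a * u = u * a) → A ≤ Subgroup.centralizer (U : Set G) := by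
  intro U
  induction U using (wellFounded_lt (α := Subgroup G)).induction with
  | _ U ih =>
  intro hU hAU hfix
  obtain ⟨m, hm⟩ := IsPGroup.iff_card.mp hU
  have hcop : (Nat.card A).Coprime (Nat.card U) := by rw [hm]; exact hA.pow_right m
  have hsolv : Group.IsSolvable A ∨ Group.IsSolvable U :=
    Or.inr (@IsNilpotent.to_isSolvable _ _ hU.isNilpotent)
  have key : ∀ W : Subgroup G, W ≤ U → A ≤ Subgroup.normalizer (W : Set G) → W ≠ U →
      A ≤ Subgroup.centralizer (W : Set G) := fun W hW hAW hne =>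
    ih W (lt_of_le_of_ne hW hne) (hU.to_le hW) hAW fun u hu => hfix u (hW hu)
  by_cases hUA : ⁅U, A⁆ = U
  swap
  · have h1 := key _ (commutator_le_left_of_le_normalizer hAU) (right_le_normalizer_commutator A U) hUA
    rw [← Subgroup.commutator_eq_bot_iff_le_centralizer, Subgroup.commutator_comm A,
      commutator_commutator_eq A U hAU hcop hsolv] at h1
    rw [← Subgroup.commutator_eq_bot_iff_le_centralizer, Subgroup.commutator_comm]
    exact h1
  set Φ := (frattini U).map U.subtype
  have hΦU : Φ ≤ U := Subgroup.map_subtype_le _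
  have hAΦ : A ≤ Subgroup.normalizer (Φ : Set G) := fun a ha => by
    rw [mem_normalizer_iff_smul, ← map_conj_eq_smul]
    exact map_char_eq (hAU ha) _
  rcases eq_or_ne U ⊥ with rfl | hne
  · intro a _
    rw [Subgroup.mem_centralizer_iff]
    intro g hg
    rw [Subgroup.mem_bot.mp hg, one_mul, mul_one]
  have hΦne : Φ ≠ U := by
    intro e
    have : Nontrivial U := (Subgroup.nontrivial_iff_ne_bot U).mpr hne
    obtain ⟨M, hM⟩ := (eq_top_or_exists_le_coatom (⊥ : Subgroup U)).resolve_left bot_ne_top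
    refine hM.1.1 (top_le_iff.mp fun u _ => ?_)
    obtain ⟨v, hv, hv'⟩ := (e.ge u.2 : (u : G) ∈ Φ)
    rw [show u = v from Subtype.ext hv'.symm]
    exact frattini_le_coatom hM.1 hv
  have hAΦc := key Φ hΦU hAΦ hΦne
  -- `Φ` is central in `U`
  have hUΦ : U ≤ Subgroup.normalizer (Φ : Set G) := fun u hu => by
    rw [mem_normalizer_iff_smul, ← map_conj_eq_smul]
    exact map_char_eq (Subgroup.le_normalizer hu) _
  have h1 : ⁅⁅A, Φ⁆, U⁆ = ⊥ := by
    rw [Subgroup.commutator_eq_bot_iff_le_centralizer.mpr hAΦc, Subgroup.commutator_bot_left]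
  have hΦUle : ⁅Φ, U⁆ ≤ Φ := commutator_le_left_of_le_normalizer hUΦ
  have h2 : ⁅⁅Φ, U⁆, A⁆ = ⊥ := by
    rw [← le_bot_iff, Subgroup.commutator_comm]
    exact le_trans (Subgroup.commutator_mono le_rfl hΦUle)
      (Subgroup.commutator_eq_bot_iff_le_centralizer.mpr hAΦc).le
  have hΦc : Φ ≤ Subgroup.centralizer (U : Set G) := by
    have h3 : ⁅⁅U, A⁆, Φ⁆ = ⊥ := Subgroup.commutator_commutator_eq_bot_of_rotate h1 h2
    rw [hUA, Subgroup.commutator_comm, Subgroup.commutator_eq_bot_iff_le_centralizer] at h3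
    exact h3
  have hpow : ∀ u ∈ U, u ^ p ∈ Φ := fun u hu =>
    ⟨_, pGroup_pow_mem_frattini hU ⟨u, hu⟩, by simp⟩
  have hcomm : ∀ u ∈ U, ∀ v ∈ U, ⁅u, v⁆ ∈ Φ := fun u hu v hv =>
    ⟨_, pGroup_commutator_le_frattini hU (Subgroup.commutator_mem_commutator
      (Subgroup.mem_top (⟨u, hu⟩ : U)) (Subgroup.mem_top (⟨v, hv⟩ : U))), by simp [commutatorElement_def]⟩
  have hexp : ∀ u ∈ U, ∀ v ∈ U, ⁅u, v⁆ ^ p = 1 := by
    intro u hu v hv
    set c := ⁅u, v⁆ with hc
    have hcu : ∀ w ∈ U, Commute c w := fun w hw =>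
      (Subgroup.mem_centralizer_iff.mp (hΦc (hcomm u hu v hv)) w hw).symm
    have hn : ∀ n : ℕ, u * v ^ n * u⁻¹ = c ^ n * v ^ n := by
      intro n
      rw [← (hcu v hv).mul_pow, ← conj_pow]
      congr 1
      rw [hc, commutatorElement_def]; group
    have h4 := hn p
    rw [show u * v ^ p * u⁻¹ = v ^ p from mul_inv_eq_iff_eq_mul.mpr
      (Subgroup.mem_centralizer_iff.mp (hΦc (hpow v hv)) u hu)] at h4
    exact mul_eq_right.mp h4.symm
  -- the generators of `[U, A] = U` are fixed
  have hall : U ≤ Subgroup.centralizer (A : Set G) := by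
    rw [← hUA, Subgroup.commutator_le]
    intro u hu a ha
    have hy : a * u⁻¹ * a⁻¹ ∈ U := mem_conj_normalizer (hAU ha) (inv_mem hu)
    set y := a * u⁻¹ * a⁻¹ with hydef
    have hord : (u * y) ^ p = 1 := by
      have hcy : ∀ w ∈ U, Commute ⁅y, u⁆ w := fun w hw =>
        (Subgroup.mem_centralizer_iff.mp (hΦc (hcomm y hy u hu)) w hw).symm
      rw [mul_pow_class_two (c := ⁅y, u⁆) (by rw [commutatorElement_def]; group) (hcy u hu) (hcy y hy)]
      have hdvd : p ∣ p.choose 2 := hp.out.dvd_choose_self two_ne_zero (by have := hp.out.two_le; omega)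
      obtain ⟨k, hk⟩ := hdvd
      rw [hk, pow_mul, hexp y hy u hu, one_pow, one_mul, hydef, conj_pow, inv_pow]
      have hfix' : a * (u ^ p)⁻¹ = (u ^ p)⁻¹ * a :=
        (Subgroup.mem_centralizer_iff.mp (hAΦc ha) _ (inv_mem (hpow u hu))).symm
      rw [hfix', mul_inv_cancel_right, mul_inv_cancel]
    have e : ⁅u, a⁆ = u * y := by rw [hydef, commutatorElement_def]; group
    rw [e]
    exact Subgroup.mem_centralizer_iff.mpr fun b hb => hfix _ (mul_mem hu hy) hord b hb
  exact Subgroup.le_centralizer_iff.mp hall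

/-- The Gaschütz-Yen theorem. -/
theorem gaschutz_yen [Finite G] {p : ℕ} [hp : Fact p.Prime] (hp2 : p ≠ 2) (hdvd : p ∣ Nat.card G)
    (hG : Cfsg.IsPSolvable p G)
    (htrans : ∀ U V : Subgroup G, Nat.card U = p → Nat.card V = p →
      ∃ a : MulAut G, U.map a.toMonoidHom = V) : Cfsg.PLengthLE p 1 G := by
  refine pLengthLE_one_of_index fun {hN} => ?_
  have : (Cfsg.pPrimeCore p G).Characteristic := inferInstance
  set N := Cfsg.pPrimeCore p G
  set π := QuotientGroup.mk' N
  have hπ : Function.Surjective π := QuotientGroup.mk'_surjective N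
  -- characteristic subgroups contain all or no elements of order p
  have hchar : ∀ W : Subgroup (G ⧸ N), W.Characteristic → ∀ w ∈ W, orderOf w = p →
      ∀ x : G ⧸ N, orderOf x = p → x ∈ W := by
    intro W hW w hw hwp x hxp
    have hWc := characteristic_comap_mk W
    have hlift : ∀ z : G ⧸ N, orderOf z = p →
        ∃ y : G, orderOf y = p ∧ π y ∈ Subgroup.zpowers z ∧ Subgroup.zpowers (π y) = Subgroup.zpowers z := by
      intro z hz
      set Z := (Subgroup.zpowers z).comap π
      have hpd : p ∣ Nat.card Z := by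
        obtain ⟨g, hg⟩ := hπ z
        have hgZ : g ∈ Z := show π g ∈ Subgroup.zpowers z from hg ▸ Subgroup.mem_zpowers _
        refine dvd_trans ?_ (Z.orderOf_dvd_natCard hgZ)
        rw [← hz, ← hg]
        exact orderOf_map_dvd π g
      obtain ⟨y, hy⟩ := exists_prime_orderOf_dvd_card' (G := Z) p hpd
      have hne : π (y : G) ≠ 1 := fun e => by
        have h1 : orderOf (y : G) ∣ Nat.card N := N.orderOf_dvd_natCard ((QuotientGroup.eq_one_iff _).mp e)
        rw [Subgroup.orderOf_coe, hy] at h1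
        exact pPrimeCore_not_dvd h1
      refine ⟨y, by rw [Subgroup.orderOf_coe, hy], y.2, ?_⟩
      refine Subgroup.eq_of_le_of_card_ge (Subgroup.zpowers_le.mpr y.2) ?_
      rw [Nat.card_zpowers, Nat.card_zpowers, hz]
      refine le_of_eq (orderOf_eq_prime ?_ hne).symm
      rw [← map_pow, show (y : G) ^ p = 1 by rw [← hy, ← Subgroup.orderOf_coe]; exact pow_orderOf_eq_one _,
        map_one]
    obtain ⟨a, ha, ha', -⟩ := hlift w hwp
    obtain ⟨b, hb, -, hb'⟩ := hlift x hxp
    obtain ⟨σ, hσ⟩ := htrans (Subgroup.zpowers a) (Subgroup.zpowers b)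
      (by rw [Nat.card_zpowers, ha]) (by rw [Nat.card_zpowers, hb])
    have hab : Subgroup.zpowers a ≤ W.comap π :=
      Subgroup.zpowers_le.mpr (show π a ∈ W from Subgroup.zpowers_le.mpr hw ha')
    have hbW : π b ∈ W := by
      have h1 := Subgroup.map_mono (f := σ.toMonoidHom) hab
      rw [hσ, Subgroup.characteristic_iff_map_eq.mp hWc σ] at h1
      exact h1 (Subgroup.mem_zpowers b)
    exact (hb' ▸ Subgroup.zpowers_le.mpr hbW : Subgroup.zpowers x ≤ W) (Subgroup.mem_zpowers x)
  set G' := G ⧸ N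
  have hG' : Cfsg.IsPSolvable p G' := isPSolvable_map hG π hπ
  have hbot : Cfsg.pPrimeCore p G' = ⊥ := pPrimeCore_quotient_eq_bot
  set Q := Cfsg.pCore p G'
  have hQn : Q.Normal := pCore_isNormal
  have hQp : IsPGroup p Q := pCore_isPGroup
  have hCQ := centralizer_pCore_le_of_pSolvable hG' hbot
  -- the elements of order p are central in `Q`
  set V := (Subgroup.center Q).map Q.subtype
  have hVQ : V ≤ Q := Subgroup.map_subtype_le _
  have hVc : V.Characteristic := by
    refine Subgroup.characteristic_iff_map_eq.mpr fun σ => le_antisymm ?_ ?_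
    · rintro _ ⟨_, ⟨v, hv, rfl⟩, rfl⟩
      have hQ' : Q.map σ.toMonoidHom = Q := Subgroup.characteristic_iff_map_eq.mp inferInstance σ
      refine ⟨⟨σ v, hQ'.le ⟨v, v.2, rfl⟩⟩, Subgroup.mem_center_iff.mpr fun w => Subtype.ext ?_, rfl⟩
      obtain ⟨u, hu, hu'⟩ := hQ'.ge w.2
      show (w : G') * σ v = σ v * w
      rw [← hu']
      show σ u * σ (v : G') = σ (v : G') * σ u
      rw [← map_mul, ← map_mul]
      exact congrArg σ (congrArg Subtype.val (Subgroup.mem_center_iff.mp hv ⟨u, hu⟩))
    · rintro _ ⟨v, hv, rfl⟩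
      have hQ' : Q.map σ.symm.toMonoidHom = Q := Subgroup.characteristic_iff_map_eq.mp inferInstance σ.symm
      refine ⟨σ.symm v, ⟨⟨σ.symm v, hQ'.le ⟨v, v.2, rfl⟩⟩, Subgroup.mem_center_iff.mpr fun w =>
        Subtype.ext ?_, rfl⟩, σ.apply_symm_apply _⟩
      obtain ⟨u, hu, hu'⟩ := hQ'.ge w.2
      show (w : G') * σ.symm v = σ.symm v * w
      rw [← hu']
      show σ.symm u * σ.symm (v : G') = σ.symm (v : G') * σ.symm u
      rw [← map_mul, ← map_mul]
      exact congrArg σ.symm (congrArg Subtype.val (Subgroup.mem_center_iff.mp hv ⟨u, hu⟩))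
  have hQ1 : Q ≠ ⊥ := by
    intro e
    have htop := isPSolvable_eq_top_of_cores hG' e hbot
    have : p ∣ Nat.card (⊤ : Subgroup G') := by
      rw [Subgroup.card_top]
      by_contra h
      refine pPrimeCore_not_dvd (p := p) (G := G) (?_ : p ∣ Nat.card N)
      have := Subgroup.card_eq_card_quotient_mul_card_subgroup N
      rcases hp.out.dvd_mul.mp (this ▸ hdvd) with h' | h'
      · exact absurd h' h
      · exact h'
    rw [htop, Subgroup.card_bot] at this
    exact hp.out.not_dvd_one this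
  have hVall : ∀ x : G', orderOf x = p → x ∈ V := by
    have : Nontrivial Q := (Subgroup.nontrivial_iff_ne_bot Q).mpr hQ1
    have := hQp.center_nontrivial
    have hd : p ∣ Nat.card (Subgroup.center Q) := by
      obtain ⟨k, hk⟩ := IsPGroup.iff_card.mp (hQp.to_subgroup (Subgroup.center Q))
      have h1 : 1 < Nat.card (Subgroup.center Q) := Finite.one_lt_card
      rw [hk] at h1 ⊢
      exact dvd_pow_self p (by rintro rfl; simp at h1)
    obtain ⟨z, hz⟩ := exists_prime_orderOf_dvd_card' p hd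
    exact hchar V hVc ((z : Q) : G') ⟨z, z.2, rfl⟩ (by rw [Subgroup.orderOf_coe, Subgroup.orderOf_coe, hz])
  have hpow : ∀ u : G', u ^ p = 1 → u ∈ V := by
    intro u hu
    rcases eq_or_ne u 1 with rfl | h
    · exact one_mem _
    · exact hVall u (orderOf_eq_prime hu h)
  -- the `p'`-part above `Q`
  set K1 := (Cfsg.pPrimeCore p (G' ⧸ Q)).comap (QuotientGroup.mk' Q)
  have hK1c : K1.Characteristic := characteristic_comap_mk _
  have hK1n : K1.Normal := inferInstance
  have hQK : Q ≤ K1 := fun x hx => by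
    show QuotientGroup.mk' Q x ∈ Cfsg.pPrimeCore p (G' ⧸ Q)
    rw [show QuotientGroup.mk' Q x = 1 from (QuotientGroup.eq_one_iff x).mpr hx]
    exact one_mem _
  have hK1idx : (Q.relIndex K1).Coprime p := by
    have e : Q.relIndex K1 = Nat.card (Cfsg.pPrimeCore p (G' ⧸ Q)) := by
      have h1 : (⊥ : Subgroup (G' ⧸ Q)).comap (QuotientGroup.mk' Q) = Q := by
        rw [MonoidHom.comap_bot, QuotientGroup.ker_mk']
      conv_lhs => rw [← h1]
      rw [Subgroup.relIndex_comap, Subgroup.map_comap_eq_self_of_surjective (QuotientGroup.mk'_surjective Q),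
        Subgroup.relIndex_bot_left]
    rw [e]; exact pPrimeCore_coprime
  -- a complement of `Q` in `K1`
  set Q' := Q.subgroupOf K1
  obtain ⟨m, hm⟩ := IsPGroup.iff_card.mp hQp
  obtain ⟨K0, hK0⟩ := Subgroup.exists_right_complement'_of_coprime (N := Q') (by
    rw [Nat.card_congr (Subgroup.subgroupOfEquivOfLe hQK).toEquiv, hm]
    exact hK1idx.symm.pow_left m)
  set K := K0.map K1.subtype
  have hKK1 : K ≤ K1 := Subgroup.map_subtype_le _
  have hKc : Nat.card K = Q.relIndex K1 := by
    rw [Subgroup.card_map_of_injective K1.subtype_injective, ← hK0.symm.index_eq_card]; rfl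
  have hKp : (Nat.card K).Coprime p := hKc ▸ hK1idx
  have hsup : Q ⊔ K = K1 := by
    have := congrArg (Subgroup.map K1.subtype) hK0.sup_eq_top
    rwa [Subgroup.map_sup, Subgroup.map_subgroupOf_eq_of_le hQK, ← MonoidHom.range_eq_map,
      Subgroup.range_subtype] at this
  have hKn : K ≤ Subgroup.normalizer (Q : Set G') := Subgroup.le_normalizer_of_normal
  have hK1ne : ∀ h : K ≤ Q, ¬ p ∣ Q.index := by
    intro hKQ
    have hK1Q : K1 ≤ Q := hsup ▸ sup_le le_rfl hKQ
    have hb : Cfsg.pPrimeCore p (G' ⧸ Q) = ⊥ := by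
      rw [← Subgroup.map_comap_eq_self_of_surjective (QuotientGroup.mk'_surjective Q)
        (Cfsg.pPrimeCore p (G' ⧸ Q)), Subgroup.map_eq_bot_iff, QuotientGroup.ker_mk']
      exact hK1Q
    have hb2 : Cfsg.pCore p (G' ⧸ Q) = ⊥ := by
      have hM := pCore_isNormal (p := p) (G := G' ⧸ Q)
      rw [← Subgroup.map_comap_eq_self_of_surjective (QuotientGroup.mk'_surjective Q)
        (Cfsg.pCore p (G' ⧸ Q)), Subgroup.map_eq_bot_iff, QuotientGroup.ker_mk']
      exact le_pCore (hM.comap _) ((pCore_isPGroup (p := p)).comap_of_ker_isPGroup _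
        (by rw [QuotientGroup.ker_mk']; exact hQp))
    have htop := isPSolvable_eq_top_of_cores
      (isPSolvable_map hG' _ (QuotientGroup.mk'_surjective Q)) hb2 hb
    rw [Subgroup.index_eq_card, ← Subgroup.card_top (G := G' ⧸ Q), htop, Subgroup.card_bot]
    exact hp.out.not_dvd_one
  by_cases hex : ∃ u ∈ Q ⊓ Subgroup.centralizer (K1 : Set G'), orderOf u = p
  · -- then `K` centralizes `Q`
    obtain ⟨u, hu, hup⟩ := hex
    have hall : ∀ v : G', v ^ p = 1 → ∀ a ∈ K, a * v = v * a := by
      intro v hv a ha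
      rcases eq_or_ne v 1 with rfl | hne
      · rw [mul_one, one_mul]
      have hc : (Q ⊓ Subgroup.centralizer (K1 : Set G')).Characteristic := by
        refine Subgroup.characteristic_iff_map_eq.mpr fun σ => ?_
        rw [Subgroup.map_inf _ _ _ σ.injective, Subgroup.characteristic_iff_map_eq.mp inferInstance σ,
          Subgroup.characteristic_iff_map_eq.mp inferInstance σ]
      exact Subgroup.mem_centralizer_iff.mp
        (hchar _ hc u hu hup v (orderOf_eq_prime hv hne)).2 a (hKK1 ha)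
    have hKC := le_centralizer_of_order_p hp2 K hKp Q hQp hKn fun v _ hv a ha => hall v hv a ha
    exact hK1ne (hKC.trans hCQ)
  -- otherwise the normalizer of the complement has order prime to `p`
  push Not at hex
  have hnorm : ∀ g : G', ∃ q ∈ Q, q⁻¹ * g ∈ Subgroup.normalizer (K : Set G') := by
    intro g
    have hK1g : MulAut.conj g • K1 = K1 :=
      mem_normalizer_iff_smul.mp (Subgroup.le_normalizer_of_normal (Subgroup.mem_top g))
    have hle : MulAut.conj g • K ≤ Q ⊔ K := by
      rw [hsup, ← hK1g]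
      exact Subgroup.pointwise_smul_le_pointwise_smul_iff.mpr hKK1
    obtain ⟨q, hq, hq'⟩ := exists_conj_of_le_sup hKn hle (card_conj_smul g K)
      (by rw [hm]; exact hKp.symm.pow_left m) (Or.inl (@IsNilpotent.to_isSolvable _ _ hQp.isNilpotent))
    refine ⟨q, hq, mem_normalizer_iff_smul.mpr ?_⟩
    rw [← conj_smul_conj_smul, ← hq', conj_smul_conj_smul, inv_mul_cancel, map_one, one_smul]
  have hNp : ¬ p ∣ Nat.card (Subgroup.normalizer (K : Set G')) := by
    intro hd
    obtain ⟨t, ht⟩ := exists_prime_orderOf_dvd_card' p hd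
    have htp : orderOf (t : G') = p := by rw [Subgroup.orderOf_coe, ht]
    refine hex (t : G') ⟨hVQ (hVall _ htp), ?_⟩ htp
    refine Subgroup.mem_centralizer_iff.mpr fun z hz => ?_
    have htV := hVall _ htp
    have htK : (t : G') ∈ Subgroup.centralizer (K : Set G') :=
      mem_centralizer_of_normalizes hKn (inf_eq_bot_of_coprime (by rw [hm]; exact hKp.pow_right m))
        (hVQ htV) t.2
    have hz' : z ∈ Q ⊔ K := hsup.ge hz
    have hle : Q ⊔ K ≤ Subgroup.centralizer {(t : G')} := by
      refine sup_le (fun w hw => Subgroup.mem_centralizer_iff.mpr fun y hy => ?_)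
        (fun w hw => Subgroup.mem_centralizer_iff.mpr fun y hy => ?_)
      · rw [Set.mem_singleton_iff.mp hy]
        obtain ⟨v, hv, hv'⟩ := htV
        have := congrArg Subtype.val (Subgroup.mem_center_iff.mp hv ⟨w, hw⟩)
        rw [← hv']
        exact this.symm
      · rw [Set.mem_singleton_iff.mp hy]
        exact (Subgroup.mem_centralizer_iff.mp htK w hw).symm
    exact (Subgroup.mem_centralizer_iff.mp (hle hz') (t : G') rfl).symm
  intro hd
  have hsurj : Function.Surjective ((QuotientGroup.mk' Q).comp (Subgroup.normalizer (K : Set G')).subtype) := by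
    intro x
    obtain ⟨g, rfl⟩ := QuotientGroup.mk'_surjective Q x
    obtain ⟨q, hq, hqn⟩ := hnorm g
    refine ⟨⟨q⁻¹ * g, hqn⟩, ?_⟩
    show QuotientGroup.mk' Q (q⁻¹ * g) = _
    rw [map_mul, map_inv, show QuotientGroup.mk' Q q = 1 from (QuotientGroup.eq_one_iff q).mpr hq,
      inv_one, one_mul]
  exact hNp (hd.trans (Subgroup.index_eq_card (H := Q) ▸ Subgroup.card_dvd_of_surjective _ hsurj))

end Cfsg.Agent.Grp
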