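import Mathlib
import Cfsg.Agent.Lib.Classical.SLGroup

/-!
Two by two matrices of determinant one over a field of odd characteristic: unipotent elements,
commuting elements, and the pairs of unipotent elements generating a copy of `SL(2, p)`.
-/

set_option autoImplicit false
set_option linter.unusedSectionVars false

namespace Cfsg.Agent.Grp.SL2

open Matrix

variable {F : Type*} [Field F]

local notation "SL₂" => Matrix.SpecialLinearGroup (Fin 2) F

/-- The trace of an element of `SL(2, F)`. -/
def tr (x : SL₂) : F := (x : Matrix (Fin 2) (Fin 2) F) 0 0 + (x : Matrix (Fin 2) (Fin 2) F) 1 1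

theorem det_eq (x : SL₂) :
    (x : Matrix (Fin 2) (Fin 2) F) 0 0 * (x : Matrix (Fin 2) (Fin 2) F) 1 1 -
      (x : Matrix (Fin 2) (Fin 2) F) 0 1 * (x : Matrix (Fin 2) (Fin 2) F) 1 0 = 1 := by
  have := x.2
  rwa [Matrix.det_fin_two] at this

theorem cayley (x : SL₂) :
    (x : Matrix (Fin 2) (Fin 2) F) * x = tr x • (x : Matrix (Fin 2) (Fin 2) F) - 1 := by
  have h := det_eq x
  ext i j
  fin_cases i <;> fin_cases j <;>
    simp [Matrix.mul_apply, Fin.sum_univ_two, tr] <;> first | ring1 | linear_combination -h | linear_combination h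

theorem tr_conj (g x : SL₂) : tr (g * x * g⁻¹) = tr x := by
  have e : ∀ y : SL₂, tr y = Matrix.trace (y : Matrix (Fin 2) (Fin 2) F) := fun y => by
    simp [tr, Matrix.trace_fin_two]
  rw [e, e, Matrix.SpecialLinearGroup.coe_mul, Matrix.trace_mul_comm, ← Matrix.SpecialLinearGroup.coe_mul,
    ← mul_assoc, inv_mul_cancel, one_mul]

theorem tr_neg (x : SL₂) : tr (-x) = -tr x := by
  simp [tr, Matrix.SpecialLinearGroup.coe_neg]; ring

theorem tr_one : tr (1 : SL₂) = 2 := by
  simp [tr]; norm_num

theorem tr_inv (x : SL₂) : tr x⁻¹ = tr x := by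
  simp [tr, Matrix.SpecialLinearGroup.coe_inv, Matrix.adjugate_fin_two]; ring

/-- Scalar elements are `1` and `-1`. -/
def IsScalar (x : SL₂) : Prop := x = 1 ∨ x = -1

theorem isScalar_of_diag {x : SL₂} (h01 : (x : Matrix (Fin 2) (Fin 2) F) 0 1 = 0)
    (h10 : (x : Matrix (Fin 2) (Fin 2) F) 1 0 = 0)
    (hd : (x : Matrix (Fin 2) (Fin 2) F) 0 0 = (x : Matrix (Fin 2) (Fin 2) F) 1 1) : IsScalar x := by
  have h := det_eq x
  rw [h01, hd, zero_mul, sub_zero] at h
  rcases mul_self_eq_one_iff.mp h with h1 | h1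
  · refine Or.inl (Subtype.ext ?_)
    ext i j; fin_cases i <;> fin_cases j <;> simp [h01, h10, hd, h1]
  · refine Or.inr (Subtype.ext ?_)
    ext i j; fin_cases i <;> fin_cases j <;> simp [h01, h10, hd, h1]

theorem isScalar_of_coe {x : SL₂} {c : F} (h : (x : Matrix (Fin 2) (Fin 2) F) = c • 1) : IsScalar x :=
  isScalar_of_diag (by simp [h]) (by simp [h]) (by simp [h])

theorem IsScalar.commute {x : SL₂} (h : IsScalar x) (y : SL₂) : Commute x y := by
  rcases h with rfl | rfl
  · exact Commute.one_left y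
  · exact Commute.neg_one_left y

theorem IsScalar.mul {x y : SL₂} (hx : IsScalar x) (hy : IsScalar y) : IsScalar (x * y) := by
  rcases hx with rfl | rfl <;> rcases hy with rfl | rfl <;> simp [IsScalar]

theorem IsScalar.inv {x : SL₂} (hx : IsScalar x) : IsScalar x⁻¹ := by
  rcases hx with rfl | rfl
  · exact Or.inl inv_one
  · exact Or.inr (inv_eq_of_mul_eq_one_right (by simp))

theorem IsScalar.conj_iff {x : SL₂} (g : SL₂) : IsScalar (g * x * g⁻¹) ↔ IsScalar x := by
  constructor
  · intro h
    have e : x = g * x * g⁻¹ := by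
      calc x = g⁻¹ * (g * x * g⁻¹) * g := by group
        _ = g * x * g⁻¹ := by rw [mul_assoc, (h.commute g).eq]; group
    rw [e]; exact h
  · intro h
    rw [← (h.commute g).eq]
    simpa using h

/-- An element commuting with a non-scalar element is a linear expression in it. -/
theorem exists_linear {x y : SL₂} (hx : ¬ IsScalar x) (h : Commute x y) :
    ∃ α β : F, (y : Matrix (Fin 2) (Fin 2) F) = α • (x : Matrix (Fin 2) (Fin 2) F) + β • 1 := by
  set X := (x : Matrix (Fin 2) (Fin 2) F) with hX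
  set Y := (y : Matrix (Fin 2) (Fin 2) F) with hY
  have hXY : X * Y = Y * X := congrArg Subtype.val h.eq
  have e00 := congrFun (congrFun hXY 0) 0
  have e01 := congrFun (congrFun hXY 0) 1
  have e10 := congrFun (congrFun hXY 1) 0
  simp only [Matrix.mul_apply, Fin.sum_univ_two] at e00 e01 e10
  by_cases h01 : X 0 1 = 0
  · by_cases h10 : X 1 0 = 0
    · have hd : X 0 0 - X 1 1 ≠ 0 := fun e => hx (isScalar_of_diag h01 h10 (sub_eq_zero.mp e))
      refine ⟨(Y 0 0 - Y 1 1) / (X 0 0 - X 1 1), (X 0 0 * Y 1 1 - X 1 1 * Y 0 0) / (X 0 0 - X 1 1), ?_⟩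
      have y01 : Y 0 1 = 0 := by
        refine (mul_eq_zero.mp (?_ : (X 0 0 - X 1 1) * Y 0 1 = 0)).resolve_left hd
        rw [h01] at e01; linear_combination e01
      have y10 : Y 1 0 = 0 := by
        refine (mul_eq_zero.mp (?_ : (X 0 0 - X 1 1) * Y 1 0 = 0)).resolve_left hd
        rw [h10] at e10; linear_combination -e10
      ext i j; fin_cases i <;> fin_cases j <;> simp [h01, h10, y01, y10]
      all_goals (field_simp; ring)
    · refine ⟨Y 1 0 / X 1 0, Y 0 0 - Y 1 0 / X 1 0 * X 0 0, ?_⟩
      ext i j; fin_cases i <;> fin_cases j <;> simp [h01]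
      · exact (mul_eq_zero.mp (show Y 0 1 * X 1 0 = 0 by rw [h01] at e00; linear_combination -e00)).resolve_right h10
      · field_simp
      · field_simp
        linear_combination -e10
  · refine ⟨Y 0 1 / X 0 1, Y 0 0 - Y 0 1 / X 0 1 * X 0 0, ?_⟩
    ext i j; fin_cases i <;> fin_cases j <;> simp
    · field_simp
    · field_simp
      linear_combination e00
    · field_simp
      linear_combination e01

/-- Commuting is transitive on non-scalar elements. -/
theorem commute_trans {x y z : SL₂} (hy : ¬ IsScalar y) (h1 : Commute x y) (h2 : Commute y z) :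
    Commute x z := by
  obtain ⟨a, b, hx⟩ := exists_linear hy h1.symm
  obtain ⟨c, d, hz⟩ := exists_linear hy h2
  refine Subtype.ext ?_
  show (x : Matrix (Fin 2) (Fin 2) F) * z = z * x
  rw [hx, hz]
  simp [mul_add, add_mul, smul_smul, mul_comm a c, mul_comm a d, mul_comm b c, mul_comm b d]
  abel

/-- The only elements that an element and its polynomial algebra can be sent to by conjugation. -/
theorem eq_or_eq_inv {x y : SL₂} (hx : ¬ IsScalar x) (h : Commute x y) (ht : tr y = tr x)
    (h4 : tr x ^ 2 ≠ 4) (h2 : (2 : F) ≠ 0) : y = x ∨ y = x⁻¹ := by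
  obtain ⟨a, b, hy⟩ := exists_linear hx h
  set X := (x : Matrix (Fin 2) (Fin 2) F) with hX
  have hd := det_eq x
  have hdy := det_eq y
  rw [hy] at hdy
  simp at hdy
  have hty : a * tr x + 2 * b = tr x := by
    have h' := ht
    unfold tr at h'
    rw [hy] at h'
    simp at h'
    unfold tr
    linear_combination h'
  have hquad : (1 - a ^ 2) * (4 - tr x ^ 2) = 0 := by
    have hdy' : a ^ 2 + a * b * tr x + b ^ 2 = 1 := by
      rw [tr]; linear_combination hdy - a ^ 2 * hd
    linear_combination (-4 : F) * hdy' + (a * tr x + 2 * b + tr x) * hty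
  have ha : a ^ 2 = 1 := by
    rcases mul_eq_zero.mp hquad with h' | h'
    · linear_combination -h'
    · exact absurd (by linear_combination -h') h4
  rcases mul_self_eq_one_iff.mp ((sq a).symm.trans ha) with rfl | rfl
  · have hb : b = 0 := (mul_eq_zero.mp (by linear_combination hty : (2 : F) * b = 0)).resolve_left h2
    exact Or.inl (Subtype.ext (by rw [hy, hb]; simp [hX]))
  · have hb : b = tr x := mul_left_cancel₀ h2 (by linear_combination hty)
    refine Or.inr (Subtype.ext ?_)
    rw [hy, hb, Matrix.SpecialLinearGroup.coe_inv, Matrix.adjugate_fin_two, tr]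
    ext i j; fin_cases i <;> fin_cases j <;> simp [hX]

/-- Two unipotent elements whose product has trace two commute. -/
theorem commute_of_tr_mul {a b : SL₂} (ha : tr a = 2) (hb : tr b = 2) (hab : tr (a * b) = 2)
    (h2 : (2 : F) ≠ 0) : Commute a b := by
  set A := (a : Matrix (Fin 2) (Fin 2) F) with hA
  set B := (b : Matrix (Fin 2) (Fin 2) F) with hB
  have da := det_eq a
  have db := det_eq b
  rw [tr] at ha hb
  have a1 : A 1 1 = 2 - A 0 0 := by linear_combination ha
  have b1 : B 1 1 = 2 - B 0 0 := by linear_combination hb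
  rw [← hA] at da
  rw [← hB] at db
  rw [a1] at da
  rw [b1] at db
  rw [tr, Matrix.SpecialLinearGroup.coe_mul] at hab
  simp [Matrix.mul_apply, Fin.sum_univ_two] at hab
  rw [← hA, ← hB, a1, b1] at hab
  have hz : 2 * (A 0 0 - 1) * (B 0 0 - 1) + A 0 1 * B 1 0 + A 1 0 * B 0 1 = 0 := by
    linear_combination hab
  have c1 : (A 0 0 - 1) * B 0 1 - A 0 1 * (B 0 0 - 1) = 0 := by
    refine (pow_eq_zero_iff two_ne_zero).mp ?_
    linear_combination (-(B 0 1) ^ 2) * da - (A 0 1) ^ 2 * db - (A 0 1 * B 0 1) * hz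
  have c2 : (A 0 0 - 1) * B 1 0 - A 1 0 * (B 0 0 - 1) = 0 := by
    refine (pow_eq_zero_iff two_ne_zero).mp ?_
    linear_combination (-(B 1 0) ^ 2) * da - (A 1 0) ^ 2 * db - (A 1 0 * B 1 0) * hz
  have c3 : A 0 1 * B 1 0 - A 1 0 * B 0 1 = 0 := by
    refine (pow_eq_zero_iff two_ne_zero).mp ?_
    linear_combination (A 0 1 * B 1 0 + A 1 0 * B 0 1 - 2 * (A 0 0 - 1) * (B 0 0 - 1)) * hz
      + 4 * (B 0 0 - 1) ^ 2 * (-1) * da + 4 * (A 0 1 * A 1 0) * db
  refine Subtype.ext ?_
  show A * B = B * A
  ext i j; fin_cases i <;> fin_cases j <;> simp [Matrix.mul_apply, Fin.sum_univ_two, a1, b1]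
  · linear_combination c3
  · linear_combination (2 : F) * c1
  · linear_combination (-2 : F) * c2
  · linear_combination -c3

section CharP

variable (p : ℕ) [hp : Fact p.Prime] [CharP F p]

theorem two_ne_zero' (hp2 : p ≠ 2) : (2 : F) ≠ 0 := by
  intro h
  have h2 : ((2 : ℕ) : F) = 0 := by exact_mod_cast h
  exact hp2 ((Nat.prime_dvd_prime_iff_eq hp.out Nat.prime_two).mp ((CharP.cast_eq_zero_iff F p 2).mp h2))

theorem unipotent_pow {x : SL₂} (h : tr x = 2) : x ^ p = 1 := by
  refine Subtype.ext ?_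
  rw [Matrix.SpecialLinearGroup.coe_pow]
  set X := (x : Matrix (Fin 2) (Fin 2) F) with hX
  have hsq : (X - 1) ^ 2 = 0 := by
    have := cayley x
    rw [h, ← hX] at this
    rw [sq]
    simp only [sub_mul, mul_sub, mul_one, one_mul, this, two_smul]
    abel
  have : CharP (Matrix (Fin 2) (Fin 2) F) p := inferInstance
  have h1 : (X - 1) ^ p = X ^ p - 1 := by
    rw [sub_pow_char_of_commute p (Commute.one_right X), one_pow]
  rw [pow_eq_zero_of_le hp.out.two_le hsq] at h1
  exact (sub_eq_zero.mp h1.symm).trans Matrix.SpecialLinearGroup.coe_one.symm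

theorem tr_eq_two_of_pow (c : F) (hc : c = 1 ∨ c = -1) {x : SL₂} {k : ℕ} (hpodd : p ≠ 2)
    (h : ((x : Matrix (Fin 2) (Fin 2) F)) ^ p ^ k = c • 1) : tr x = 2 * c := by
  set X := (x : Matrix (Fin 2) (Fin 2) F) with hX
  have hodd : Odd (p ^ k) := (hp.out.odd_of_ne_two hpodd).pow
  have hcp : c ^ p ^ k = c := by
    rcases hc with rfl | rfl
    · rw [one_pow]
    · exact hodd.neg_one_pow
  have : CharP (Matrix (Fin 2) (Fin 2) F) p := inferInstance
  have h1 : (X - c • 1) ^ p ^ k = 0 := by
    rw [sub_pow_char_pow_of_commute p _ ((Commute.one_right X).smul_right c), smul_pow, one_pow, hcp, h,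
      sub_self]
  have h2 : (X - c • 1).det = 0 := by
    have := congrArg Matrix.det h1
    rw [Matrix.det_pow, Matrix.det_zero] at this
    exact eq_zero_of_pow_eq_zero this
  have hd := det_eq x
  rw [Matrix.det_fin_two] at h2
  simp at h2
  rw [← hX] at hd
  have hcc : c * c = 1 := by rcases hc with rfl | rfl <;> ring
  rw [tr, ← hX]
  linear_combination (-c) * h2 + c * hd + (c - (X 0 0 + X 1 1)) * hcc

theorem tr_eq_two_of_pPower (hpodd : p ≠ 2) {x : SL₂} {k : ℕ} (h : x ^ p ^ k = 1) : tr x = 2 := by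
  have := tr_eq_two_of_pow p 1 (Or.inl rfl) hpodd (x := x) (k := k) (by
    rw [← Matrix.SpecialLinearGroup.coe_pow, h, Matrix.SpecialLinearGroup.coe_one, one_smul])
  rwa [mul_one] at this

theorem not_isScalar_of_unipotent (hpodd : p ≠ 2) {x : SL₂} (h : tr x = 2) (hx : x ≠ 1) : ¬ IsScalar x := by
  rintro (rfl | rfl)
  · exact hx rfl
  · rw [tr_neg, tr_one] at h
    have h4 : (2 : F) * 2 = 0 := by linear_combination -h
    rcases mul_eq_zero.mp h4 with h' | h' <;> exact two_ne_zero' p hpodd h'

end CharP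

/-- Conjugation of `SL(2, F)` by an invertible matrix. -/
noncomputable def conjHom (P : Matrix (Fin 2) (Fin 2) F) (hP : IsUnit P.det) : SL₂ →* SL₂ where
  toFun x := ⟨P * x * P⁻¹, by
    rw [Matrix.det_mul, Matrix.det_mul, x.2, mul_one, Matrix.det_nonsing_inv, Ring.mul_inverse_cancel _ hP]⟩
  map_one' := Subtype.ext (by
    show P * ((1 : SL₂) : Matrix (Fin 2) (Fin 2) F) * P⁻¹ = _
    rw [Matrix.SpecialLinearGroup.coe_one, mul_one, Matrix.mul_nonsing_inv P hP])
  map_mul' x y := Subtype.ext (by
    show P * ((x * y : SL₂) : Matrix (Fin 2) (Fin 2) F) * P⁻¹ = _ * _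
    rw [Matrix.SpecialLinearGroup.coe_mul]
    show _ = P * x * P⁻¹ * (P * y * P⁻¹)
    simp only [Matrix.mul_assoc]
    rw [Matrix.nonsing_inv_mul_cancel_left _ _ hP])

theorem conjHom_coe (P : Matrix (Fin 2) (Fin 2) F) (hP : IsUnit P.det) (x : SL₂) :
    (conjHom P hP x : Matrix (Fin 2) (Fin 2) F) = P * x * P⁻¹ := rfl

theorem conjHom_injective (P : Matrix (Fin 2) (Fin 2) F) (hP : IsUnit P.det) :
    Function.Injective (conjHom P hP) := fun x y h => by
  have h' := congrArg Subtype.val h
  rw [conjHom_coe, conjHom_coe] at h'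
  refine Subtype.ext ?_
  have := congrArg (fun M => P⁻¹ * M * P) h'
  simp only [Matrix.mul_assoc, Matrix.nonsing_inv_mul _ hP, mul_one] at this
  rwa [Matrix.nonsing_inv_mul_cancel_left _ _ hP, Matrix.nonsing_inv_mul_cancel_left _ _ hP] at this

theorem tr_conjHom (P : Matrix (Fin 2) (Fin 2) F) (hP : IsUnit P.det) (x : SL₂) :
    tr (conjHom P hP x) = tr x := by
  have e : ∀ y : SL₂, tr y = Matrix.trace (y : Matrix (Fin 2) (Fin 2) F) := fun y => by
    simp [tr, Matrix.trace_fin_two]
  rw [e, e, conjHom_coe, Matrix.trace_mul_comm, ← Matrix.mul_assoc, Matrix.nonsing_inv_mul _ hP, one_mul]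

/-- Upper unitriangular elements. -/
def up (t : F) : SL₂ := ⟨!![1, t; 0, 1], by simp [Matrix.det_fin_two]⟩

/-- Lower unitriangular elements. -/
def low (t : F) : SL₂ := ⟨!![1, 0; t, 1], by simp [Matrix.det_fin_two]⟩

theorem up_mul (s t : F) : up s * up t = up (s + t) :=
  Subtype.ext (by rw [Matrix.SpecialLinearGroup.coe_mul]; ext i j; fin_cases i <;> fin_cases j <;> simp [up, Matrix.mul_apply, Fin.sum_univ_two, add_comm])

theorem low_mul (s t : F) : low s * low t = low (s + t) :=
  Subtype.ext (by rw [Matrix.SpecialLinearGroup.coe_mul]; ext i j; fin_cases i <;> fin_cases j <;> simp [low, Matrix.mul_apply, Fin.sum_univ_two, add_comm])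

theorem up_zero : up (0 : F) = 1 :=
  Subtype.ext (by ext i j; fin_cases i <;> fin_cases j <;> simp [up])

theorem low_zero : low (0 : F) = 1 :=
  Subtype.ext (by ext i j; fin_cases i <;> fin_cases j <;> simp [low])

theorem up_pow (t : F) (n : ℕ) : up t ^ n = up (n * t) := by
  induction n with
  | zero => simp [up_zero]
  | succ n ih => rw [pow_succ, ih, up_mul]; push_cast; ring_nf

theorem low_pow (t : F) (n : ℕ) : low t ^ n = low (n * t) := by
  induction n with
  | zero => simp [low_zero]
  | succ n ih => rw [pow_succ, ih, low_mul]; push_cast; ring_nf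

variable (F) in
/-- The copy of `SL(2, p)` in `SL(2, F)`. -/
def primeHom (p : ℕ) [CharP F p] : Matrix.SpecialLinearGroup (Fin 2) (ZMod p) →* SL₂ :=
  Matrix.SpecialLinearGroup.map (ZMod.castHom (dvd_refl p) F)

theorem primeHom_injective (p : ℕ) [CharP F p] : Function.Injective (primeHom F p) := by
  intro x y h
  refine Subtype.ext (Matrix.ext fun i j => ?_)
  exact ZMod.castHom_injective F (congrFun (congrFun (congrArg Subtype.val h) i) j)

variable [Fintype F]

/-- Two unipotent elements with the trace of the product in the prime field, other than two,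
generate a group containing a copy of `SL(2, p)`; also produced is the adapted basis. -/
theorem exists_conj_std {p : ℕ} [hp : Fact p.Prime] [CharP F p] (hpodd : p ≠ 2) {a b : SL₂} (ha : tr a = 2) (hb : tr b = 2)
    (k : ZMod p) (hk : k ≠ 0) (hab : tr (a * b) = 2 + ZMod.castHom (dvd_refl p) F k) :
    ∃ (P : Matrix (Fin 2) (Fin 2) F) (hP : IsUnit P.det),
      ((primeHom F p).range.map (conjHom P hP)) ≤ Subgroup.closure {a, b} := by
  classical
  set κ : F := ZMod.castHom (dvd_refl p) F k with hκdef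
  have hκ : κ ≠ 0 := fun h => hk (ZMod.castHom_injective F (by rw [← hκdef, h, map_zero]))
  set A := (a : Matrix (Fin 2) (Fin 2) F) with hA
  set B := (b : Matrix (Fin 2) (Fin 2) F) with hB
  have h2 := two_ne_zero' (F := F) p hpodd
  -- a nonzero vector fixed by `b`
  obtain ⟨w, hw0, hw⟩ : ∃ w : Fin 2 → F, w ≠ 0 ∧ B *ᵥ w = w := by
    have hd : (B - 1).det = 0 := by
      have := det_eq b
      rw [tr] at hb
      rw [Matrix.det_fin_two]
      simp [hB]
      linear_combination this - hb
    obtain ⟨w, hw0, hw⟩ := Matrix.exists_mulVec_eq_zero_iff.mpr hd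
    exact ⟨w, hw0, by rw [Matrix.sub_mulVec, Matrix.one_mulVec, sub_eq_zero] at hw; exact hw⟩
  set v : Fin 2 → F := A *ᵥ w - w with hv
  have hAv : A *ᵥ v = v := by
    have h := congrArg (fun M => M *ᵥ w) (cayley a)
    simp only [ha, ← hA, ← Matrix.mulVec_mulVec, Matrix.sub_mulVec, Matrix.smul_mulVec, Matrix.one_mulVec] at h
    rw [hv, Matrix.mulVec_sub, h, two_smul]
    abel
  set P : Matrix (Fin 2) (Fin 2) F := !![v 0, w 0; v 1, w 1] with hPdef
  have hP : IsUnit P.det := by
    rw [isUnit_iff_ne_zero]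
    intro h0
    obtain ⟨c, hc0, hc⟩ := Matrix.exists_mulVec_eq_zero_iff.mpr h0
    have e : c 0 • v + c 1 • w = 0 := by
      funext i
      have := congrFun hc i
      fin_cases i <;> simp [hPdef, Matrix.mulVec, dotProduct, Fin.sum_univ_two] at this ⊢ <;>
        linear_combination this
    by_cases hc00 : c 0 = 0
    · rw [hc00, zero_smul, zero_add, smul_eq_zero] at e
      rcases e with e | e
      · exact hc0 (funext fun i => by fin_cases i <;> [exact hc00; exact e])
      · exact hw0 e
    set μ := -(c 1 / c 0) with hμ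
    have hvw : v = μ • w := by
      rw [hμ, neg_smul, eq_neg_iff_add_eq_zero]
      calc v + (c 1 / c 0) • w = (c 0)⁻¹ • (c 0 • v + c 1 • w) := by
            rw [smul_add, smul_smul, smul_smul, inv_mul_cancel₀ hc00, one_smul, div_eq_inv_mul]
        _ = 0 := by rw [e, smul_zero]
    have hAw : A *ᵥ w = (1 + μ) • w := by
      rw [add_smul, one_smul, ← hvw, hv]; abel
    have hμ0 : μ = 0 := by
      have := hAv
      rw [hvw, Matrix.mulVec_smul, hAw, smul_smul] at this
      have h' : (μ * μ) • w = 0 := by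
        rw [show μ * μ = μ * (1 + μ) - μ by ring, sub_smul, this, sub_self]
      rcases smul_eq_zero.mp h' with h'' | h''
      · exact mul_self_eq_zero.mp h''
      · exact absurd h'' hw0
    rw [hμ0, add_zero, one_smul] at hAw
    have hd : ((A * B) - 1).det = 0 := Matrix.exists_mulVec_eq_zero_iff.mp ⟨w, hw0, by
      rw [Matrix.sub_mulVec, Matrix.one_mulVec, ← Matrix.mulVec_mulVec, hw, hAw, sub_self]⟩
    have hde := det_eq (a * b)
    rw [tr] at hab
    rw [Matrix.det_fin_two] at hd
    simp only [Matrix.SpecialLinearGroup.coe_mul, ← hA, ← hB] at hde hab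
    simp at hd
    exact hκ (by linear_combination -hab - hd + hde)
  have hcolA : A * P = P * (up (1 : F) : Matrix (Fin 2) (Fin 2) F) := by
    have h0 := fun i => congrFun hAv i
    have h1 := fun i => congrFun hv i
    simp [Matrix.mulVec, dotProduct, Fin.sum_univ_two] at h0 h1
    ext i j
    fin_cases i <;> fin_cases j <;> simp [hPdef, up, Matrix.mul_apply, Fin.sum_univ_two]
    · exact h0.1
    · linear_combination -h1.1
    · exact h0.2
    · linear_combination -h1.2
  set φ := conjHom P hP
  have hφa : φ (up (1 : F)) = a := Subtype.ext (by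
    rw [conjHom_coe, ← hcolA, Matrix.mul_nonsing_inv_cancel_right _ _ hP])
  -- the matrix of `b` in the new basis
  set b' : Matrix (Fin 2) (Fin 2) F := P⁻¹ * B * P with hb'
  have hcol : b' 0 1 = 0 ∧ b' 1 1 = 1 := by
    have e : b' *ᵥ ![0, 1] = ![0, 1] := by
      have hPw : P *ᵥ ![0, 1] = w := by
        funext i; fin_cases i <;> simp [hPdef, Matrix.mulVec, dotProduct, Fin.sum_univ_two]
      rw [hb', ← Matrix.mulVec_mulVec, hPw, ← Matrix.mulVec_mulVec, hw, ← hPw, Matrix.mulVec_mulVec,
        Matrix.nonsing_inv_mul _ hP, Matrix.one_mulVec]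
    have e0 := congrFun e 0
    have e1 := congrFun e 1
    simp [Matrix.mulVec, dotProduct, Fin.sum_univ_two] at e0 e1
    exact ⟨e0, e1⟩
  let bs : SL₂ := ⟨b', by rw [hb', Matrix.det_mul, Matrix.det_mul, b.2, mul_one, Matrix.det_nonsing_inv, Ring.inverse_mul_cancel _ hP]⟩
  have hφb : φ bs = b := Subtype.ext (by
    rw [conjHom_coe]
    show P * b' * P⁻¹ = B
    rw [hb', Matrix.mul_assoc, Matrix.mul_assoc, Matrix.mul_nonsing_inv _ hP, mul_one,
      Matrix.mul_nonsing_inv_cancel_left _ _ hP])
  have hbs : bs = low κ := by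
    have hd := det_eq bs
    have h1 : b' 0 0 = 1 := by
      simp only [bs, hcol.1, hcol.2] at hd
      linear_combination hd
    have hk' : b' 1 0 = κ := by
      have e : tr (up (1 : F) * bs) = tr (a * b) := by
        rw [← hφa, ← hφb, ← map_mul, tr_conjHom]
      rw [hab, tr, Matrix.SpecialLinearGroup.coe_mul] at e
      simp [Matrix.SpecialLinearGroup.coe_mul, up, bs, Matrix.mul_apply, Fin.sum_univ_two, h1, hcol.1, hcol.2] at e
      linear_combination e
    refine Subtype.ext ?_
    ext i j; fin_cases i <;> fin_cases j <;> simp [bs, low, h1, hk', hcol.1, hcol.2]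
  refine ⟨P, hP, ?_⟩
  rw [MonoidHom.range_eq_map, Subgroup.map_map, ← Cfsg.Agent.Classical.SL_closure_transvections,
    MonoidHom.map_closure, Subgroup.closure_le]
  rintro _ ⟨_, ⟨t, rfl⟩, rfl⟩
  obtain ⟨i, j, hij, c⟩ := t
  have hup : ∀ c : ZMod p, φ (up (ZMod.castHom (dvd_refl p) F c)) ∈ Subgroup.closure {a, b} := by
    intro c
    have : up (ZMod.castHom (dvd_refl p) F c) = up (1 : F) ^ c.val := by
      rw [up_pow, mul_one, ← map_natCast (ZMod.castHom (dvd_refl p) F), ZMod.natCast_zmod_val]
    rw [this, map_pow, hφa]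
    exact pow_mem (Subgroup.subset_closure (by simp)) _
  have hlow : ∀ c : ZMod p, φ (low (ZMod.castHom (dvd_refl p) F c)) ∈ Subgroup.closure {a, b} := by
    intro c
    have : low (ZMod.castHom (dvd_refl p) F c) = low κ ^ (c * k⁻¹).val := by
      rw [low_pow, ← map_natCast (ZMod.castHom (dvd_refl p) F), ZMod.natCast_zmod_val, hκdef, ← map_mul,
        mul_assoc, inv_mul_cancel₀ hk, mul_one]
    rw [this, map_pow, ← hbs, hφb]
    exact pow_mem (Subgroup.subset_closure (by simp)) _
  fin_cases i <;> fin_cases j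
  · exact absurd rfl hij
  · show φ (primeHom F p _) ∈ _
    refine (congrArg (fun z => φ z ∈ Subgroup.closure {a, b})
      (Subtype.ext ?_ : primeHom F p _ = up (ZMod.castHom (dvd_refl p) F c))).mpr (hup c)
    ext r s; fin_cases r <;> fin_cases s <;>
      simp [primeHom, up, Matrix.TransvectionStruct.toSpecialLinearGroup, Matrix.SpecialLinearGroup.transvection_coe, Matrix.transvection]
  · show φ (primeHom F p _) ∈ _
    refine (congrArg (fun z => φ z ∈ Subgroup.closure {a, b})
      (Subtype.ext ?_ : primeHom F p _ = low (ZMod.castHom (dvd_refl p) F c))).mpr (hlow c)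
    ext r s; fin_cases r <;> fin_cases s <;>
      simp [primeHom, low, Matrix.TransvectionStruct.toSpecialLinearGroup, Matrix.SpecialLinearGroup.transvection_coe, Matrix.transvection]
  · exact absurd rfl hij

end Cfsg.Agent.Grp.SL2
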