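import Mathlib
import Cfsg.Agent.Lib.Grp.SL2Basic

/-!
Coordinates adapted to a unipotent element of `SL(2, F)`, and elementary consequences for
semisimple elements (non-scalar, trace not `±2`).
-/

set_option autoImplicit false
set_option linter.unusedSectionVars false

namespace Cfsg.Agent.Grp.SL2

open Matrix
open scoped commutatorElement

variable {F : Type*} [Field F]

local notation "SL₂" => Matrix.SpecialLinearGroup (Fin 2) F

/-- Non-scalar elements with trace different from `±2`. -/
def IsSemi (x : SL₂) : Prop := ¬ IsScalar x ∧ tr x ^ 2 ≠ 4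

theorem IsSemi.conj {x : SL₂} (h : IsSemi x) (g : SL₂) : IsSemi (g * x * g⁻¹) :=
  ⟨fun h' => h.1 ((IsScalar.conj_iff g).mp h'), by rw [tr_conj]; exact h.2⟩

theorem IsSemi.of_conj {x : SL₂} {g : SL₂} (h : IsSemi (g * x * g⁻¹)) : IsSemi x := by
  have := h.conj g⁻¹
  simpa [mul_assoc] using this

theorem tr_scalar {x : SL₂} (h : IsScalar x) : tr x ^ 2 = 4 := by
  rcases h with rfl | rfl
  · rw [tr_one]; norm_num
  · rw [tr_neg, tr_one]; norm_num

/-- A non-scalar element commuting with a semisimple element is semisimple. -/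
theorem IsSemi.of_commute {x y : SL₂} (hx : IsSemi x) (hy : ¬ IsScalar y) (h : Commute x y) : IsSemi y := by
  refine ⟨hy, fun h4 => hx.2 ?_⟩
  obtain ⟨α, β, hxy⟩ := exists_linear hy h.symm
  have hd := det_eq x
  have hdy := det_eq y
  rw [hxy] at hd
  simp at hd
  unfold tr at h4 ⊢
  rw [hxy]
  simp
  linear_combination α ^ 2 * h4 + 4 * hd - 4 * α ^ 2 * hdy

theorem mul_self_eq_one {x : SL₂} (h2 : (2 : F) ≠ 0) (h : x * x = 1) : IsScalar x := by
  have hc := cayley x
  have h' : (x : Matrix (Fin 2) (Fin 2) F) * x = 1 := congrArg Subtype.val h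
  rw [h'] at hc
  have e : tr x • (x : Matrix (Fin 2) (Fin 2) F) = 2 • (1 : Matrix (Fin 2) (Fin 2) F) := by
    rw [two_smul]; exact eq_add_of_sub_eq hc.symm
  by_cases ht : tr x = 0
  · exfalso
    have := congrFun (congrFun e 0) 0
    simp [ht] at this
    exact h2 this.symm
  · refine isScalar_of_coe (c := (tr x)⁻¹ * 2) ?_
    calc (x : Matrix (Fin 2) (Fin 2) F) = (tr x)⁻¹ • (tr x • (x : Matrix (Fin 2) (Fin 2) F)) := by
          rw [smul_smul, inv_mul_cancel₀ ht, one_smul]
      _ = ((tr x)⁻¹ * 2) • 1 := by rw [e, ← Nat.cast_smul_eq_nsmul F, smul_smul]; norm_num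

theorem mul_self_eq_neg_one {x : SL₂} (hx : ¬ IsScalar x) : x * x = -1 ↔ tr x = 0 := by
  constructor
  · intro h
    have hc := cayley x
    have h' : (x : Matrix (Fin 2) (Fin 2) F) * x = -1 := by
      have := congrArg Subtype.val h
      simpa [Matrix.SpecialLinearGroup.coe_neg] using this
    rw [h'] at hc
    have e : tr x • (x : Matrix (Fin 2) (Fin 2) F) = 0 := by
      have := eq_add_of_sub_eq hc.symm
      rwa [neg_add_cancel] at this
    rcases smul_eq_zero.mp e with h0 | h0
    · exact h0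
    · exact absurd (det_eq x) (by simp [h0])
  · intro h
    refine Subtype.ext ?_
    rw [Matrix.SpecialLinearGroup.coe_mul, cayley, h, zero_smul, zero_sub]
    simp [Matrix.SpecialLinearGroup.coe_neg]

variable {p : ℕ} [hp : Fact p.Prime] [CharP F p]

include hp in
/-- A unipotent element commutes with no semisimple element and normalizes no torus. -/
theorem IsSemi.not_normalize (hp2 : p ≠ 2) {g x : SL₂} (hg : tr g = 2) (hx : IsSemi x)
    (h : Commute x (g * x * g⁻¹)) : g = 1 := by
  by_contra hg1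
  have h2 := two_ne_zero' (F := F) p hp2
  have key : ∀ z : SL₂, tr z = 2 → z ≠ 1 → ¬ Commute x z := by
    intro z hz hz1 hc
    have := (hx.of_commute (not_isScalar_of_unipotent p hp2 hz hz1) hc).2
    rw [hz] at this
    exact this (by norm_num)
  rcases eq_or_eq_inv hx.1 h (tr_conj g x) hx.2 h2 with e | e
  · exact key g hg hg1 (mul_inv_eq_iff_eq_mul.mp e).symm
  · refine key (g * g) ?_ ?_ ?_
    · have := cayley g
      unfold tr
      rw [Matrix.SpecialLinearGroup.coe_mul, this]
      simp [hg]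
      unfold tr at hg
      linear_combination (2 : F) * hg
    · intro hgg
      exact not_isScalar_of_unipotent p hp2 hg hg1 (mul_self_eq_one h2 hgg)
    · show x * (g * g) = g * g * x
      have e2 : g * x⁻¹ * g⁻¹ = x := by
        rw [show g * x⁻¹ * g⁻¹ = (g * x * g⁻¹)⁻¹ by group, e, inv_inv]
      calc x * (g * g) = (g * x⁻¹ * g⁻¹) * (g * g) := by rw [e2]
        _ = g * (g * x * g⁻¹) * g := by rw [e]; group
        _ = g * g * x := by group

/-- A coordinate system in which a given unipotent element is `up 1`. -/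
theorem exists_up {a : SL₂} (ha : tr a = 2) (ha1 : a ≠ 1) :
    ∃ (P : Matrix (Fin 2) (Fin 2) F) (hP : IsUnit P.det), conjHom P hP (up (1 : F)) = a := by
  classical
  set A := (a : Matrix (Fin 2) (Fin 2) F) with hA
  obtain ⟨w, hw⟩ : ∃ w : Fin 2 → F, A *ᵥ w - w ≠ 0 := by
    by_contra hcon
    push Not at hcon
    refine ha1 (Subtype.ext (Matrix.ext_iff_mulVec.mpr fun v => ?_))
    rw [Matrix.SpecialLinearGroup.coe_one, Matrix.one_mulVec]
    exact sub_eq_zero.mp (hcon v)
  set v : Fin 2 → F := A *ᵥ w - w with hv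
  have hAv : A *ᵥ v = v := by
    have h := congrArg (fun M => M *ᵥ w) (cayley a)
    simp only [ha, ← hA, ← Matrix.mulVec_mulVec, Matrix.sub_mulVec, Matrix.smul_mulVec, Matrix.one_mulVec] at h
    rw [hv, Matrix.mulVec_sub, h, two_smul]
    abel
  set P : Matrix (Fin 2) (Fin 2) F := !![v 0, w 0; v 1, w 1] with hPdef
  have hP : IsUnit P.det := by
    rw [isUnit_iff_ne_zero]
    intro h0
    obtain ⟨c, hc0, hc⟩ := Matrix.exists_mulVec_eq_zero_iff.mpr h0
    have e : c 0 • v + c 1 • w = 0 := by
      funext i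
      have := congrFun hc i
      fin_cases i <;> simp [hPdef, Matrix.mulVec, dotProduct, Fin.sum_univ_two] at this ⊢ <;>
        linear_combination this
    have e' : c 1 • v = 0 := by
      have h := congrArg (fun z => A *ᵥ z) e
      simp only [Matrix.mulVec_add, Matrix.mulVec_smul, Matrix.mulVec_zero, hAv] at h
      rw [hv, smul_sub]
      calc c 1 • (A *ᵥ w) - c 1 • w = (c 0 • v + c 1 • (A *ᵥ w)) - (c 0 • v + c 1 • w) := by abel
        _ = 0 := by rw [h, e, sub_zero]
    rcases smul_eq_zero.mp e' with h1 | h1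
    · rw [h1, zero_smul, add_zero] at e
      rcases smul_eq_zero.mp e with h2 | h2
      · exact hc0 (funext fun i => by fin_cases i <;> [exact h2; exact h1])
      · exact hw h2
    · exact hw h1
  refine ⟨P, hP, Subtype.ext ?_⟩
  rw [conjHom_coe]
  have hcolA : A * P = P * (up (1 : F) : Matrix (Fin 2) (Fin 2) F) := by
    have h0 := fun i => congrFun hAv i
    have h1 := fun i => congrFun hv i
    simp [Matrix.mulVec, dotProduct, Fin.sum_univ_two] at h0 h1
    ext i j
    fin_cases i <;> fin_cases j <;> simp [hPdef, up, Matrix.mul_apply, Fin.sum_univ_two]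
    · exact h0.1
    · linear_combination -h1.1
    · exact h0.2
    · linear_combination -h1.2
  rw [← hcolA, Matrix.mul_nonsing_inv_cancel_right _ _ hP]

/-- Conjugation by an invertible matrix is surjective. -/
theorem conjHom_surjective (P : Matrix (Fin 2) (Fin 2) F) (hP : IsUnit P.det) :
    Function.Surjective (conjHom P hP) := fun x => by
  refine ⟨conjHom P⁻¹ (Matrix.isUnit_nonsing_inv_det P hP) x, Subtype.ext ?_⟩
  rw [conjHom_coe, conjHom_coe, Matrix.nonsing_inv_nonsing_inv P hP]
  calc P * (P⁻¹ * (x : Matrix (Fin 2) (Fin 2) F) * P) * P⁻¹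
      = (P * P⁻¹) * x * (P * P⁻¹) := by simp only [Matrix.mul_assoc]
    _ = x := by rw [Matrix.mul_nonsing_inv _ hP, one_mul, mul_one]

/-- Upper triangular elements conjugate `up s` to `up (g₀₀² s)`. -/
theorem conj_up {g : SL₂} (hg : (g : Matrix (Fin 2) (Fin 2) F) 1 0 = 0) (s : F) :
    g * up s * g⁻¹ = up ((g : Matrix (Fin 2) (Fin 2) F) 0 0 ^ 2 * s) := by
  have hd := det_eq g
  rw [hg] at hd
  rw [mul_inv_eq_iff_eq_mul]
  refine Subtype.ext ?_
  rw [Matrix.SpecialLinearGroup.coe_mul, Matrix.SpecialLinearGroup.coe_mul]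
  ext i j
  fin_cases i <;> fin_cases j <;> simp [up, Matrix.mul_apply, Fin.sum_univ_two, hg]
  linear_combination -((g : Matrix (Fin 2) (Fin 2) F) 0 0 * s) * hd

theorem commute_up (s t : F) : Commute (up s : SL₂) (up t) := by
  show up s * up t = up t * up s
  rw [up_mul, up_mul, add_comm]

theorem lower_entry {g : SL₂} (h : Commute (g * up (1 : F) * g⁻¹) (up (1 : F))) :
    (g : Matrix (Fin 2) (Fin 2) F) 1 0 = 0 := by
  have hd := det_eq g
  have e0 := congrArg Subtype.val h.eq
  simp only [Matrix.SpecialLinearGroup.coe_mul] at e0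
  have e := congrFun (congrFun e0 0) 0
  simp [up, Matrix.SpecialLinearGroup.coe_mul, Matrix.SpecialLinearGroup.coe_inv, Matrix.adjugate_fin_two,
    Matrix.mul_apply, Fin.sum_univ_two] at e
  refine mul_self_eq_zero.mp ?_
  linear_combination -e

theorem lower_entry_iff {g : SL₂} :
    Commute (g * up (1 : F) * g⁻¹) (up (1 : F)) ↔ (g : Matrix (Fin 2) (Fin 2) F) 1 0 = 0 :=
  ⟨lower_entry, fun h => by rw [conj_up h]; exact commute_up _ _⟩

/-- Elements moving `a` into its centralizer have unipotent commutators. -/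
theorem tr_commutator {a g g' : SL₂} (ha : tr a = 2) (ha1 : a ≠ 1)
    (hg : Commute (g * a * g⁻¹) a) (hg' : Commute (g' * a * g'⁻¹) a) : tr ⁅g, g'⁆ = 2 := by
  obtain ⟨P, hP, hPa⟩ := exists_up ha ha1
  obtain ⟨u, rfl⟩ := conjHom_surjective P hP g
  obtain ⟨u', rfl⟩ := conjHom_surjective P hP g'
  rw [← hPa, ← map_inv, ← map_mul, ← map_mul] at hg hg'
  have hu := lower_entry (Commute.of_map (conjHom_injective P hP) hg)
  have hu' := lower_entry (Commute.of_map (conjHom_injective P hP) hg')
  rw [← map_commutatorElement, tr_conjHom]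
  have hd := det_eq u
  have hd' := det_eq u'
  rw [hu] at hd
  rw [hu'] at hd'
  unfold tr
  simp [commutatorElement_def, Matrix.SpecialLinearGroup.coe_mul, Matrix.SpecialLinearGroup.coe_inv,
    Matrix.adjugate_fin_two, Matrix.mul_apply, Fin.sum_univ_two, hu, hu']
  linear_combination (2 : F) * (u'.1 0 0 * u'.1 1 1) * hd + (2 : F) * hd'

/-- The centralizer of a semisimple element normalizing a line normalizes that line. -/
theorem commute_conj_of_commute {a h y : SL₂} (ha : tr a = 2) (ha1 : a ≠ 1) (hh : IsSemi h)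
    (hha : Commute (h * a * h⁻¹) a) (hy : Commute h y) : Commute (y * a * y⁻¹) a := by
  obtain ⟨P, hP, hPa⟩ := exists_up ha ha1
  obtain ⟨h', rfl⟩ := conjHom_surjective P hP h
  obtain ⟨y', rfl⟩ := conjHom_surjective P hP y
  rw [← hPa, ← map_inv, ← map_mul, ← map_mul] at hha ⊢
  refine Commute.map (lower_entry_iff.mpr ?_) _
  have h10 := lower_entry (Commute.of_map (conjHom_injective P hP) hha)
  have hns : ¬ IsScalar h' := fun hs => hh.2 (by rw [tr_conjHom]; exact tr_scalar hs)
  obtain ⟨α, β, e⟩ := exists_linear hns (Commute.of_map (conjHom_injective P hP) hy)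
  rw [e]
  simp [h10]

end Cfsg.Agent.Grp.SL2
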