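import Mathlib
import Cfsg.Agent.Lib.Grp.SL2Coord
import Cfsg.Agent.Lib.Grp.SchurZassenhaus
import Cfsg.Agent.Lib.Grp.Frattini
import Cfsg.Agent.Lib.Grp.FpfPrime
import Cfsg.Agent.Lib.Grp.SignalizerTransitive

/-!
Minimal subgroups of `SL(2, F)` with two non-commuting unipotent elements: general facts, and the
case in which no semisimple element normalizes a Sylow `p`-subgroup (then `p = 3`).
-/

set_option autoImplicit false
set_option linter.unusedSectionVars false

namespace Cfsg.Agent.Grp.SL2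

open scoped commutatorElement Pointwise

variable {F : Type*} [Field F] [Fintype F]

local notation "SL₂" => Matrix.SpecialLinearGroup (Fin 2) F

variable {p : ℕ} [hp : Fact p.Prime] [CharP F p]

variable {H : Subgroup (Matrix.SpecialLinearGroup (Fin 2) F)}

/-- The group is minimal with a non-commuting pair of unipotent elements. -/
structure MinPair (p : ℕ) (H : Subgroup (Matrix.SpecialLinearGroup (Fin 2) F)) : Prop where
  odd : p ≠ 2
  pair : ∃ a b : H, tr (a : SL₂) = 2 ∧ tr (b : SL₂) = 2 ∧ ¬ Commute a b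
  minimal : ∀ M : Subgroup H, M ≠ ⊤ → ∀ a ∈ M, ∀ b ∈ M,
    tr (a : SL₂) = 2 → tr (b : SL₂) = 2 → Commute a b

theorem commute_coe {x y : H} : Commute (x : SL₂) (y : SL₂) ↔ Commute x y :=
  ⟨fun h => Subtype.ext h.eq, fun h => congrArg Subtype.val h.eq⟩

theorem pow_p_of_tr {x : H} (hx : tr (x : SL₂) = 2) : x ^ p = 1 :=
  Subtype.ext (by rw [SubmonoidClass.coe_pow]; exact unipotent_pow p hx)

theorem orderOf_of_tr {x : H} (hx : tr (x : SL₂) = 2) (hx1 : x ≠ 1) : orderOf x = p :=
  orderOf_eq_prime (pow_p_of_tr hx) hx1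

theorem tr_of_pGroup (hodd : p ≠ 2) {P : Subgroup H} (hP : IsPGroup p P) {x : H} (hx : x ∈ P) :
    tr (x : SL₂) = 2 := by
  obtain ⟨k, hk⟩ := hP ⟨x, hx⟩
  exact tr_eq_two_of_pPower p hodd (k := k) (by
    have := congrArg (fun z : P => ((z : H) : SL₂)) hk
    simpa using this)

theorem not_scalar_of_tr (hodd : p ≠ 2) {x : H} (hx : tr (x : SL₂) = 2) (hx1 : x ≠ 1) :
    ¬ IsScalar (x : SL₂) :=
  not_isScalar_of_unipotent p hodd hx (fun h => hx1 (Subtype.ext h))

theorem commute_in_pGroup (hodd : p ≠ 2) {P : Subgroup H} (hP : IsPGroup p P) {x y : H} (hx : x ∈ P)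
    (hy : y ∈ P) : Commute x y := by
  by_cases hP1 : P = ⊥
  · rw [hP1, Subgroup.mem_bot] at hx
    rw [hx]; exact Commute.one_left y
  have : Nontrivial P := (Subgroup.nontrivial_iff_ne_bot P).mpr hP1
  have := hP.center_nontrivial
  obtain ⟨⟨z, hz⟩, hz1⟩ := exists_ne (1 : Subgroup.center P)
  have hz1' : (z : H) ≠ 1 := by simpa using hz1
  have hc : ∀ w (hw : w ∈ P), Commute (w : SL₂) ((z : H) : SL₂) := fun w hw =>
    commute_coe.mpr (congrArg Subtype.val (Subgroup.mem_center_iff.mp hz ⟨w, hw⟩) :)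
  exact commute_coe.mp (commute_trans (not_scalar_of_tr hodd (tr_of_pGroup hodd hP z.2) hz1')
    (hc x hx) (hc y hy).symm)

/-- A unipotent element commuting with a nontrivial element of a Sylow subgroup belongs to it. -/
theorem mem_sylow_of_commute (hodd : p ≠ 2) (P : Sylow p H) {x a : H} (hx : tr (x : SL₂) = 2)
    (ha : a ∈ (P : Subgroup H)) (ha1 : a ≠ 1) (hc : Commute x a) : x ∈ (P : Subgroup H) := by
  have hcent : ∀ y ∈ (P : Subgroup H), Commute x y := fun y hy =>
    commute_coe.mp (commute_trans (not_scalar_of_tr hodd (tr_of_pGroup hodd P.isPGroup' ha) ha1)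
      (commute_coe.mpr hc) (commute_coe.mpr (commute_in_pGroup hodd P.isPGroup' ha hy)))
  have hz : IsPGroup p (Subgroup.zpowers x) := by
    rcases eq_or_ne x 1 with rfl | hx1
    · rw [Subgroup.zpowers_one_eq_bot]; exact IsPGroup.of_bot
    · exact IsPGroup.of_card (n := 1) (by rw [Nat.card_zpowers, orderOf_of_tr hx hx1, pow_one])
  have hnorm : Subgroup.zpowers x ≤ Subgroup.normalizer ((P : Subgroup H) : Set H) := by
    rw [Subgroup.zpowers_le, Subgroup.mem_normalizer_iff]
    intro y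
    constructor
    · intro hy
      rw [(hcent y hy).eq, mul_inv_cancel_right]; exact hy
    · intro hy
      have e := hcent _ hy
      have e' : y = x * y * x⁻¹ := by
        have h := e.eq
        calc y = x⁻¹ * (x * y * x⁻¹ * x) := by group
          _ = x⁻¹ * (x * (x * y * x⁻¹)) := by rw [← h]
          _ = x * y * x⁻¹ := by group
      rw [e']; exact hy
  exact (P.is_maximal' (IsPGroup.to_sup_of_normal_right' hz P.isPGroup' hnorm) le_sup_right) ▸
    Subgroup.mem_sup_left (Subgroup.mem_zpowers x)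

/-- Normalizers of Sylow subgroups through a single element. -/
theorem mem_normalizer_of_commute (hodd : p ≠ 2) (P : Sylow p H) {g a : H} (ha : a ∈ (P : Subgroup H))
    (ha1 : a ≠ 1) (hc : Commute (g * a * g⁻¹) a) :
    g ∈ Subgroup.normalizer ((P : Subgroup H) : Set H) := by
  have hga : tr ((g * a * g⁻¹ : H) : SL₂) = 2 := by
    simp only [Subgroup.coe_mul, Subgroup.coe_inv, tr_conj, tr_of_pGroup hodd P.isPGroup' ha]
  have hgaP : g * a * g⁻¹ ∈ (P : Subgroup H) := mem_sylow_of_commute hodd P hga ha ha1 hc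
  refine Sylow.smul_eq_iff_mem_normalizer.mp ?_
  refine Sylow.ext (Subgroup.eq_of_le_of_card_ge ?_ ?_)
  · intro z hz
    rw [Sylow.coe_subgroup_smul, mem_smul_conj] at hz
    have hzt : tr (z : SL₂) = 2 := by
      have h := tr_of_pGroup hodd P.isPGroup' hz
      simp only [Subgroup.coe_mul, Subgroup.coe_inv] at h
      rwa [show ((g : SL₂))⁻¹ * z * g = (g : SL₂)⁻¹ * z * ((g : SL₂)⁻¹)⁻¹ by group, tr_conj] at h
    refine mem_sylow_of_commute hodd P hzt hgaP (fun h => ha1 (conj_eq_one_iff.mp h)) ?_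
    have h := (commute_in_pGroup hodd P.isPGroup' hz ha).map (MulAut.conj g).toMonoidHom
    simpa [mul_assoc] using h
  · rw [Sylow.coe_subgroup_smul, card_conj_smul]

theorem commute_conj_of_normalizer (hodd : p ≠ 2) (P : Sylow p H) {g a : H} (ha : a ∈ (P : Subgroup H))
    (hg : g ∈ Subgroup.normalizer ((P : Subgroup H) : Set H)) : Commute (g * a * g⁻¹) a :=
  commute_in_pGroup hodd P.isPGroup' (mem_conj_normalizer hg ha) ha

theorem sylow_eq_of_mem (hodd : p ≠ 2) {P Q : Sylow p H} {a : H} (ha : a ∈ (P : Subgroup H))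
    (ha' : a ∈ (Q : Subgroup H)) (ha1 : a ≠ 1) : P = Q :=
  Sylow.ext (Q.is_maximal' P.isPGroup' fun z hz => mem_sylow_of_commute hodd P
    (tr_of_pGroup hodd Q.isPGroup' hz) ha ha1 (commute_in_pGroup hodd Q.isPGroup' hz ha'))

/-- An element of order prime to `p` that is not scalar is semisimple. -/
theorem isSemi_of_coprime (hodd : p ≠ 2) {x : H} (hx : ¬ IsScalar (x : SL₂))
    (hc : (orderOf x).Coprime p) : IsSemi (x : SL₂) := by
  refine ⟨hx, fun h4 => hx ?_⟩
  have h2 := two_ne_zero' (F := F) p hodd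
  have hu : tr ((x : SL₂) * (x : SL₂)) = 2 := by
    have := cayley (x : SL₂)
    unfold tr at h4
    unfold tr
    rw [Matrix.SpecialLinearGroup.coe_mul, this]
    simp
    unfold tr
    linear_combination h4
  have hu' : (x * x) ^ p = 1 := pow_p_of_tr (x := x * x) (by rw [Subgroup.coe_mul]; exact hu)
  have h1 : orderOf (x * x) = 1 := by
    refine Nat.eq_one_of_dvd_coprimes hc ?_ (orderOf_dvd_of_pow_eq_one hu')
    rw [← sq]
    exact orderOf_pow_dvd 2
  rw [orderOf_eq_one_iff] at h1
  exact mul_self_eq_one h2 (by rw [← Subgroup.coe_mul, h1, Subgroup.coe_one])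

/-- Centralizers of semisimple elements. -/
theorem semi_centralizer {x : H} (hx : IsSemi (x : SL₂)) {y : H} (hy : y ∈ Subgroup.centralizer ({x} : Set H)) :
    IsScalar (y : SL₂) ∨ IsSemi (y : SL₂) := by
  by_cases h : IsScalar (y : SL₂)
  · exact Or.inl h
  · exact Or.inr (hx.of_commute h (commute_coe.mpr (Subgroup.mem_centralizer_iff.mp hy x rfl :)))

theorem centralizer_comm {x y z : H} (hx : ¬ IsScalar (x : SL₂))
    (hy : y ∈ Subgroup.centralizer ({x} : Set H)) (hz : z ∈ Subgroup.centralizer ({x} : Set H)) :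
    Commute y z :=
  commute_coe.mp (commute_trans hx (commute_coe.mpr (Subgroup.mem_centralizer_iff.mp hy x rfl :)).symm
    (commute_coe.mpr (Subgroup.mem_centralizer_iff.mp hz x rfl :)))

theorem centralizer_eq {x y : H} (hx : ¬ IsScalar (x : SL₂)) (hy : ¬ IsScalar (y : SL₂))
    (h : Commute x y) : Subgroup.centralizer ({x} : Set H) = Subgroup.centralizer ({y} : Set H) := by
  have key : ∀ a b : H, ¬ IsScalar (a : SL₂) → Commute a b →
      Subgroup.centralizer ({a} : Set H) ≤ Subgroup.centralizer ({b} : Set H) := by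
    intro a b ha hab z hz
    refine Subgroup.mem_centralizer_iff.mpr fun w hw => ?_
    rw [Set.mem_singleton_iff.mp hw]
    exact (centralizer_comm ha (Subgroup.mem_centralizer_iff.mpr fun w hw => by
      rw [Set.mem_singleton_iff.mp hw]; exact hab.eq) hz).eq
  exact le_antisymm (key x y hx h) (key y x hy h.symm)

theorem semi_centralizer_coprime (hodd : p ≠ 2) {x : H} (hx : IsSemi (x : SL₂)) :
    ¬ p ∣ Nat.card (Subgroup.centralizer ({x} : Set H)) := by
  intro hd
  obtain ⟨y, hy⟩ := exists_prime_orderOf_dvd_card' p hd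
  have hy' : (y : H) ^ p = 1 := by
    rw [← hy, ← Subgroup.orderOf_coe]; exact pow_orderOf_eq_one _
  have hy1 : (y : H) ≠ 1 := fun h => by
    rw [← Subgroup.orderOf_coe, h, orderOf_one] at hy
    exact hp.out.ne_one hy.symm
  have ht : tr ((y : H) : SL₂) = 2 := tr_eq_two_of_pPower p hodd (k := 1) (by
    rw [pow_one, ← SubmonoidClass.coe_pow, hy', Subgroup.coe_one])
  rcases semi_centralizer hx y.2 with h | h
  · exact not_scalar_of_tr hodd ht hy1 h
  · exact h.2 (by rw [ht]; norm_num)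

/-- Every element is scalar if all elements of prime power order are. -/
theorem isScalar_of_primePow {K : Subgroup H}
    (h : ∀ x ∈ K, ∀ r k : ℕ, r.Prime → orderOf x = r ^ k → IsScalar (x : SL₂)) :
    ∀ x ∈ K, IsScalar (x : SL₂) := by
  intro x hx
  induction hn : orderOf x using Nat.strong_induction_on generalizing x with
  | _ n ih =>
    have hn0 : n ≠ 0 := hn ▸ (orderOf_pos x).ne'
    by_cases h1 : n = 1
    · rw [h1, orderOf_eq_one_iff] at hn
      exact Or.inl (by rw [hn, Subgroup.coe_one])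
    obtain ⟨r, hr, hrn⟩ := Nat.exists_prime_and_dvd h1
    obtain ⟨k, m, hm, hkm⟩ := Nat.exists_eq_pow_mul_and_not_dvd hn0 r hr.ne_one
    by_cases hm1 : m = 1
    · exact h x hx r k hr (by rw [hn, hkm, hm1, mul_one])
    have hk0 : k ≠ 0 := by
      rintro rfl
      rw [pow_zero, one_mul] at hkm
      exact hm (hkm ▸ hrn)
    have hrk : 1 < r ^ k := Nat.one_lt_pow hk0 hr.one_lt
    have hm0 : m ≠ 0 := by rintro rfl; exact hn0 (by rw [hkm, mul_zero])
    have hcop : (r ^ k).Coprime m := (hr.coprime_iff_not_dvd.mpr hm).pow_left k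
    have ho1 : orderOf (x ^ r ^ k) = m := by
      rw [orderOf_pow' x (by omega), hn, hkm, Nat.gcd_mul_right_left, Nat.mul_div_cancel_left _ (by omega)]
    have ho2 : orderOf (x ^ m) = r ^ k := by
      rw [orderOf_pow' x hm0, hn, hkm, Nat.gcd_mul_left_left, Nat.mul_div_cancel _ (by omega)]
    have s1 := ih m (by rw [hkm]; exact lt_mul_left (by omega) hrk) (x ^ r ^ k) (K.pow_mem hx _) ho1
    have s2 := ih (r ^ k) (by rw [hkm]; exact lt_mul_right (by omega) (by omega)) (x ^ m) (K.pow_mem hx _) ho2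
    have spow : ∀ (z : SL₂), IsScalar z → ∀ j : ℤ, IsScalar (z ^ j) := by
      intro z hz j
      rcases hz with rfl | rfl
      · exact Or.inl (one_zpow j)
      · rcases Int.even_or_odd j with ⟨i, rfl⟩ | ⟨i, rfl⟩
        · refine Or.inl ?_
          rw [← two_mul, _root_.zpow_mul]; simp
        · refine Or.inr ?_
          rw [_root_.zpow_add, _root_.zpow_mul]; simp
    have e : x = (x ^ r ^ k) ^ (Nat.gcdA (r ^ k) m) * (x ^ m) ^ (Nat.gcdB (r ^ k) m) := by
      rw [← zpow_natCast x (r ^ k), ← zpow_natCast x m, ← _root_.zpow_mul, ← _root_.zpow_mul, ← _root_.zpow_add,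
        ← Nat.gcd_eq_gcd_ab, hcop.gcd_eq_one, Nat.cast_one, zpow_one]
    rw [e, Subgroup.coe_mul, SubgroupClass.coe_zpow, SubgroupClass.coe_zpow]
    exact (spow _ s1 _).mul (spow _ s2 _)

theorem MinPair.not_comm (hH : MinPair p H) (K : Subgroup H) [K.Normal] (hK : K ≠ ⊤)
    (hidx : K.index.Coprime p) : False := by
  obtain ⟨a, b, ha, hb, hab⟩ := hH.pair
  have key : ∀ x : H, tr (x : SL₂) = 2 → x ∈ K := by
    intro x hx
    have hc : (Nat.card (Subgroup.zpowers x)).Coprime K.index := by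
      rw [Nat.card_zpowers]
      exact (hidx.coprime_dvd_right (orderOf_dvd_of_pow_eq_one (pow_p_of_tr hx))).symm
    exact le_of_coprime_index hc (Subgroup.mem_zpowers x)
  exact hab (hH.minimal K hK a (key a ha) b (key b hb) ha hb)

/-- Every semisimple element is inverted. -/
theorem MinPair.exists_inverter (hH : MinPair p H) {x : H} (hx : IsSemi (x : SL₂)) :
    ∃ g : H, g * x * g⁻¹ = x⁻¹ ∧ (g : SL₂) * (g : SL₂) = -1 := by
  have h2 := two_ne_zero' (F := F) p hH.odd
  set T := Subgroup.centralizer ({x} : Set H) with hT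
  by_cases hg : ∃ g : H, g * x * g⁻¹ = x⁻¹
  · obtain ⟨g, hg⟩ := hg
    refine ⟨g, hg, ?_⟩
    have hxne : x⁻¹ ≠ x := fun h => hx.1 (mul_self_eq_one h2 (by
      rw [← Subgroup.coe_mul, mul_eq_one_iff_inv_eq.mpr h, Subgroup.coe_one]))
    have hgT : g * g ∈ T := by
      refine Subgroup.mem_centralizer_iff.mpr fun w hw => ?_
      rw [Set.mem_singleton_iff.mp hw]
      have e : g * (g * x * g⁻¹) * g⁻¹ = x := by
        rw [hg, show g * x⁻¹ * g⁻¹ = (g * x * g⁻¹)⁻¹ by group, hg, inv_inv]
      calc x * (g * g) = g * (g * x * g⁻¹) * g⁻¹ * (g * g) := by rw [e]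
        _ = g * g * x := by group
    have hgg : IsScalar ((g * g : H) : SL₂) := by
      by_contra hs
      have hxT : g ∈ Subgroup.centralizer ({x} : Set H) := by
        rw [centralizer_eq hx.1 hs (Subgroup.mem_centralizer_iff.mp hgT x rfl)]
        exact Subgroup.mem_centralizer_iff.mpr fun w hw => by rw [Set.mem_singleton_iff.mp hw, mul_assoc]
      exact hxne (hg.symm.trans (by
        rw [← (Subgroup.mem_centralizer_iff.mp hxT x rfl :), mul_inv_cancel_right]))
    rw [Subgroup.coe_mul] at hgg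
    rcases hgg with h | h
    · exfalso
      have hgs := (mul_self_eq_one h2 h).commute (x : SL₂)
      refine hxne (hg.symm.trans (Subtype.ext ?_))
      rw [Subgroup.coe_mul, Subgroup.coe_mul, hgs.eq, Subgroup.coe_inv, mul_inv_cancel_right]
    · exact h
  exfalso
  push Not at hg
  -- a primary component of the centralizer
  obtain ⟨y, hyT, r, k, hr, hyo, hys⟩ : ∃ y ∈ T, ∃ r k : ℕ, r.Prime ∧ orderOf y = r ^ k ∧ ¬ IsScalar (y : SL₂) := by
    by_contra hcon
    push Not at hcon
    exact hx.1 (isScalar_of_primePow (K := T) hcon x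
      (Subgroup.mem_centralizer_iff.mpr fun w hw => by rw [Set.mem_singleton_iff.mp hw]))
  have : Fact r.Prime := ⟨hr⟩
  have hrp : r ≠ p := by
    rintro rfl
    rcases k with _ | k
    · rw [pow_zero, orderOf_eq_one_iff] at hyo
      exact hys (Or.inl (by rw [hyo, Subgroup.coe_one]))
    · exact semi_centralizer_coprime hH.odd hx
        ((dvd_pow_self r (Nat.succ_ne_zero k)).trans (hyo ▸ T.orderOf_dvd_natCard hyT))
  obtain ⟨R₀, hR₀⟩ := (IsPGroup.of_card (G := Subgroup.zpowers (⟨y, hyT⟩ : T)) (n := k)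
    (by rw [Nat.card_zpowers, ← hyo, Subgroup.orderOf_mk])).exists_le_sylow
  set R := (R₀ : Subgroup T).map T.subtype
  have hRT : R ≤ T := Subgroup.map_subtype_le _
  have hyR : y ∈ R := ⟨⟨y, hyT⟩, hR₀ (Subgroup.mem_zpowers _), rfl⟩
  have hxy : Commute x y := Subgroup.mem_centralizer_iff.mp hyT x rfl
  have hTy : Subgroup.centralizer ({y} : Set H) = T := (centralizer_eq hx.1 hys hxy).symm
  have hNR : Subgroup.normalizer (R : Set H) ≤ T := by
    intro g hgN
    have h1 : g * y * g⁻¹ ∈ T := hRT (mem_conj_normalizer hgN hyR)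
    have hys' : ¬ IsScalar ((g * y * g⁻¹ : H) : SL₂) := by
      rw [Subgroup.coe_mul, Subgroup.coe_mul, Subgroup.coe_inv, IsScalar.conj_iff]; exact hys
    have hTy' : Subgroup.centralizer ({g * y * g⁻¹} : Set H) = T :=
      (centralizer_eq hx.1 hys' (Subgroup.mem_centralizer_iff.mp h1 x rfl)).symm
    have h2' : g * x * g⁻¹ ∈ T := by
      rw [← hTy']
      refine Subgroup.mem_centralizer_iff.mpr fun w hw => ?_
      rw [Set.mem_singleton_iff.mp hw]
      calc g * y * g⁻¹ * (g * x * g⁻¹) = g * (y * x) * g⁻¹ := by group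
        _ = g * (x * y) * g⁻¹ := by rw [hxy.eq]
        _ = g * x * g⁻¹ * (g * y * g⁻¹) := by group
    rcases eq_or_eq_inv hx.1 (commute_coe.mpr (Subgroup.mem_centralizer_iff.mp h2' x rfl :))
      (by simp only [Subgroup.coe_mul, Subgroup.coe_inv, tr_conj]) hx.2 h2 with e | e
    · exact Subgroup.mem_centralizer_iff.mpr fun w hw => by
        rw [Set.mem_singleton_iff.mp hw]; exact (mul_inv_eq_iff_eq_mul.mp (Subtype.ext e)).symm
    · exact absurd (Subtype.ext (by rw [e, Subgroup.coe_inv]) : g * x * g⁻¹ = x⁻¹) (hg g)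
  -- `R` is a Sylow subgroup
  obtain ⟨Q, hQ⟩ := (R₀.isPGroup'.map T.subtype).exists_le_sylow
  have hQR : (Q : Subgroup H) = R := by
    by_contra hne
    have hlt := lt_inf_normalizer Q.isPGroup'.isNilpotent (lt_of_le_of_ne hQ (Ne.symm hne))
    have hle : (Q : Subgroup H) ⊓ Subgroup.normalizer (R : Set H) ≤ R := by
      intro z hz
      have hzT : z ∈ T := hNR hz.2
      have := R₀.is_maximal' (Q := ((Q : Subgroup H) ⊓ Subgroup.normalizer (R : Set H)).subgroupOf T)
        ((Q.isPGroup'.to_le inf_le_left).comap_subtype) (fun w hw => hlt.le ⟨w, hw, rfl⟩)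
      exact ⟨⟨z, hzT⟩, this.le hz, rfl⟩
    exact hlt.not_ge hle
  have hle : Subgroup.normalizer ((Q : Subgroup H) : Set H) ≤ Subgroup.centralizer ((Q : Subgroup H) : Set H) := by
    rw [hQR]
    intro g hgN
    exact Subgroup.mem_centralizer_iff.mpr fun w hw => (centralizer_comm hx.1 (hRT hw) (hNR hgN)).eq
  set K := (MonoidHom.transferSylow Q hle).ker
  have hKc := MonoidHom.ker_transferSylow_isComplement' Q hle
  obtain ⟨j, hj⟩ := IsPGroup.iff_card.mp Q.isPGroup'
  refine hH.not_comm K ?_ ?_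
  · intro hKtop
    have hy1 : y ≠ 1 := fun h => hys (Or.inl (by rw [h, Subgroup.coe_one]))
    have hyK : y ∈ (⊥ : Subgroup H) := by
      rw [← (MonoidHom.ker_transferSylow_disjoint Q hle (Q : Subgroup H) Q.isPGroup').eq_bot]
      exact ⟨by rw [show (MonoidHom.transferSylow Q hle).ker = ⊤ from hKtop]; exact Subgroup.mem_top y, by rw [hQR]; exact hyR⟩
    exact hy1 (Subgroup.mem_bot.mp hyK)
  · rw [hKc.symm.index_eq_card, hj]
    exact ((Nat.coprime_primes hr hp.out).mpr hrp).pow_left j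

/-- The case in which no semisimple element normalizes a Sylow `p`-subgroup. -/
theorem MinPair.good_of_no_semi (hH : MinPair p H)
    (hno : ∀ (P : Sylow p H) (g : H), g ∈ Subgroup.normalizer ((P : Subgroup H) : Set H) → ¬ IsSemi (g : SL₂)) :
    ∃ (a b : H) (k : ZMod p), k ≠ 0 ∧ tr (a : SL₂) = 2 ∧ tr (b : SL₂) = 2 ∧
      tr ((a : SL₂) * (b : SL₂)) = 2 + ZMod.castHom (dvd_refl p) F k := by
  classical
  have hodd := hH.odd
  have h2 := two_ne_zero' (F := F) p hodd
  obtain ⟨P⟩ : Nonempty (Sylow p H) := inferInstance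
  -- normalizers centralize
  have hle : Subgroup.normalizer ((P : Subgroup H) : Set H) ≤ Subgroup.centralizer ((P : Subgroup H) : Set H) := by
    intro g hg
    refine Subgroup.mem_centralizer_iff.mpr fun u hu => ?_
    suffices h : Commute (u : SL₂) (g : SL₂) from Subtype.ext h.eq
    by_cases hs : IsScalar (g : SL₂)
    · exact (hs.commute _).symm
    have h4 : tr (g : SL₂) ^ 2 = 4 := not_not.mp fun h => hno P g hg ⟨hs, h⟩
    have hgg : tr ((g : SL₂) * (g : SL₂)) = 2 := by
      have := cayley (g : SL₂)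
      unfold tr at h4
      unfold tr
      rw [Matrix.SpecialLinearGroup.coe_mul, this]
      simp
      unfold tr
      linear_combination h4
    have hz : IsPGroup p (Subgroup.zpowers (g * g)) := by
      intro z
      refine ⟨1, Subtype.ext ?_⟩
      obtain ⟨n, hn⟩ := Subgroup.mem_zpowers_iff.mp z.2
      rw [pow_one, SubmonoidClass.coe_pow, ← hn, ← zpow_natCast, ← zpow_mul, mul_comm, zpow_mul, zpow_natCast,
        pow_p_of_tr (by rw [Subgroup.coe_mul]; exact hgg), one_zpow, Subgroup.coe_one]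
    have hggP : g * g ∈ (P : Subgroup H) :=
      (P.is_maximal' (IsPGroup.to_sup_of_normal_right' hz P.isPGroup'
        (Subgroup.zpowers_le.mpr (mul_mem hg hg))) le_sup_right) ▸
        Subgroup.mem_sup_left (Subgroup.mem_zpowers (g * g))
    have hgg1 : g * g ≠ 1 := fun h => hs (mul_self_eq_one h2 (by rw [← Subgroup.coe_mul, h, Subgroup.coe_one]))
    exact commute_trans (not_scalar_of_tr hodd (tr_of_pGroup hodd P.isPGroup' hggP) hgg1)
      (commute_coe.mpr (commute_in_pGroup hodd P.isPGroup' hu hggP))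
      (commute_coe.mpr ((Commute.refl g).mul_left (Commute.refl g)))
  set K := (MonoidHom.transferSylow P hle).ker
  have hKc := MonoidHom.ker_transferSylow_isComplement' P hle
  have hKp : ¬ p ∣ Nat.card K := MonoidHom.not_dvd_card_ker_transferSylow P hle
  -- some Sylow subgroup of `K` is not scalar
  obtain ⟨x₀, hx₀K, q, j, hq, hx₀o, hx₀s⟩ : ∃ x ∈ K, ∃ q j : ℕ, q.Prime ∧ orderOf x = q ^ j ∧ ¬ IsScalar (x : SL₂) := by
    by_contra hcon
    push Not at hcon
    have hKs := isScalar_of_primePow (K := K) hcon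
    obtain ⟨a, b, ha, hb, hab⟩ := hH.pair
    have hPn : (P : Subgroup H).Normal := by
      rw [← Subgroup.normalizer_eq_top_iff, eq_top_iff, ← hKc.sup_eq_top]
      refine sup_le (fun k hk => ?_) Subgroup.le_normalizer
      rw [Subgroup.mem_normalizer_iff]
      intro u
      rw [show k * u * k⁻¹ = u from mul_inv_eq_iff_eq_mul.mpr
        (commute_coe.mp ((hKs k hk).commute (u : SL₂))).eq]
    have hmem : ∀ z : H, tr (z : SL₂) = 2 → z ∈ (P : Subgroup H) := by
      intro z hz
      refine le_of_coprime_index ?_ (Subgroup.mem_zpowers z)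
      rw [Nat.card_zpowers]
      exact Nat.Coprime.coprime_dvd_left (orderOf_dvd_of_pow_eq_one (pow_p_of_tr hz))
        (hp.out.coprime_iff_not_dvd.mpr P.not_dvd_index)
    exact hab (commute_in_pGroup hodd P.isPGroup' (hmem a ha) (hmem b hb))
  have : Fact q.Prime := ⟨hq⟩
  have hqp : q ≠ p := by
    rintro rfl
    rcases j with _ | j
    · rw [pow_zero, orderOf_eq_one_iff] at hx₀o
      exact hx₀s (Or.inl (by rw [hx₀o, Subgroup.coe_one]))
    · exact hKp ((dvd_pow_self q (Nat.succ_ne_zero j)).trans (hx₀o ▸ K.orderOf_dvd_natCard hx₀K))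
  obtain ⟨Q, hQ0⟩ := (IsPGroup.of_card (G := Subgroup.zpowers x₀) (n := j)
    (by rw [Nat.card_zpowers, hx₀o])).exists_le_sylow
  have hx₀Q : x₀ ∈ (Q : Subgroup H) := hQ0 (Subgroup.mem_zpowers x₀)
  obtain ⟨c, hc⟩ := IsPGroup.iff_card.mp Q.isPGroup'
  obtain ⟨i, hi⟩ := IsPGroup.iff_card.mp P.isPGroup'
  have hQK : (Q : Subgroup H) ≤ K := le_of_coprime_index (by
    rw [hKc.symm.index_eq_card, hc, hi]; exact Nat.coprime_pow_primes c i hq hp.out hqp)
  have hPne : (P : Subgroup H) ≠ ⊥ := by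
    intro h
    obtain ⟨a, b, ha, hb, hab⟩ := hH.pair
    have ha1 : a ≠ 1 := fun e => hab (e ▸ Commute.one_left b)
    exact P.ne_bot_of_dvd_card (orderOf_of_tr ha ha1 ▸ orderOf_dvd_natCard a) h
  -- a unipotent element normalizing `Q`
  set N := Subgroup.normalizer ((Q : Subgroup H) : Set H)
  obtain ⟨a, haN, ha, ha1⟩ : ∃ a ∈ N, tr (a : SL₂) = 2 ∧ a ≠ 1 := by
    have hNK : N ⊔ K = ⊤ := Sylow.normalizer_sup_eq_top' Q hQK
    have hpN : p ∣ Nat.card N := by
      have h1 := card_sup_mul_card_inf_normal (H := N) (N := K)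
      rw [hNK, Subgroup.card_top] at h1
      have hpH : p ∣ Nat.card H := by
        rw [← Subgroup.card_mul_index (P : Subgroup H)]
        refine Dvd.dvd.mul_right ?_ _
        rw [hi]
        refine dvd_pow_self p fun h => hPne (Subgroup.card_eq_one.mp (by rw [hi, h, pow_zero]))
      exact (hp.out.dvd_mul.mp (h1 ▸ Dvd.dvd.mul_right hpH _)).resolve_right hKp
    obtain ⟨a, ha⟩ := exists_prime_orderOf_dvd_card' p hpN
    refine ⟨a, a.2, ?_, fun h => ?_⟩
    · refine tr_eq_two_of_pPower p hodd (k := 1) ?_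
      rw [pow_one, ← SubmonoidClass.coe_pow, ← ha, ← Subgroup.orderOf_coe, pow_orderOf_eq_one, Subgroup.coe_one]
    · rw [← Subgroup.orderOf_coe, h, orderOf_one] at ha
      exact hp.out.ne_one ha.symm
  have hQc : ∀ x ∈ (Q : Subgroup H), (orderOf x).Coprime p := fun x hx =>
    Nat.Coprime.coprime_dvd_left ((Q : Subgroup H).orderOf_dvd_natCard hx)
      (hc ▸ ((Nat.coprime_primes hq hp.out).mpr hqp).pow_left c)
  have hQsemi : ∀ x ∈ (Q : Subgroup H), ¬ IsScalar (x : SL₂) → IsSemi (x : SL₂) :=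
    fun x hx hs => isSemi_of_coprime hodd hs (hQc x hx)
  obtain ⟨A, hA⟩ := (IsPGroup.of_card (G := Subgroup.zpowers a) (n := 1)
    (by rw [Nat.card_zpowers, orderOf_of_tr ha ha1, pow_one])).exists_le_sylow
  have haA : a ∈ (A : Subgroup H) := hA (Subgroup.mem_zpowers a)
  -- invariant subgroups are scalar or give everything
  have hinv : ∀ R : Subgroup H, R ≤ (Q : Subgroup H) → a ∈ Subgroup.normalizer (R : Set H) →
      (∀ x ∈ R, IsScalar (x : SL₂)) ∨ R ⊔ Subgroup.zpowers a = ⊤ := by
    intro R hR haR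
    refine or_iff_not_imp_right.mpr fun hne x hx => by_contra fun hs => ?_
    have hm : ∀ z ∈ R, z * a * z⁻¹ ∈ R ⊔ Subgroup.zpowers a := fun z hz =>
      mul_mem (mul_mem (Subgroup.mem_sup_left hz) (Subgroup.mem_sup_right (Subgroup.mem_zpowers a)))
        (inv_mem (Subgroup.mem_sup_left hz))
    have hcom := hH.minimal _ hne _ (hm x hx) a (Subgroup.mem_sup_right (Subgroup.mem_zpowers a))
      (by simp only [Subgroup.coe_mul, Subgroup.coe_inv, tr_conj, ha]) ha
    exact hno A x (mem_normalizer_of_commute hodd A haA ha1 hcom) (hQsemi x (hR hx) hs)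
  have htop : (Q : Subgroup H) ⊔ Subgroup.zpowers a = ⊤ :=
    (hinv _ le_rfl haN).resolve_left fun h => hx₀s (h x₀ hx₀Q)
  have hproper : ∀ R : Subgroup H, R ≤ (Q : Subgroup H) → R ≠ (Q : Subgroup H) →
      a ∈ Subgroup.normalizer (R : Set H) → ∀ x ∈ R, IsScalar (x : SL₂) := by
    intro R hR hne haR
    refine (hinv R hR haR).resolve_right fun h => hne ?_
    have hcop : ∀ S : Subgroup H, S ≤ (Q : Subgroup H) → (Nat.card (Subgroup.zpowers a)).Coprime (Nat.card S) := by
      intro S hS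
      rw [Nat.card_zpowers, orderOf_of_tr ha ha1]
      exact (Nat.Coprime.coprime_dvd_left (Subgroup.card_dvd_of_le hS)
        (hc ▸ ((Nat.coprime_primes hq hp.out).mpr hqp).pow_left c)).symm
    have c1 := card_sup_coprime (H := Subgroup.zpowers a) (N := R) (Subgroup.zpowers_le.mpr haR) (hcop R hR)
    have c2 := card_sup_coprime (H := Subgroup.zpowers a) (N := (Q : Subgroup H)) (Subgroup.zpowers_le.mpr haN)
      (hcop _ le_rfl)
    rw [sup_comm, h] at c1
    rw [sup_comm, htop, c1] at c2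
    exact Subgroup.eq_of_le_of_card_ge hR (Nat.eq_of_mul_eq_mul_left Nat.card_pos c2).ge
  -- `a` normalizes no torus
  have hanorm : ∀ x : H, IsSemi (x : SL₂) → ∀ g : H, tr (g : SL₂) = 2 → g ≠ 1 → ¬ Commute x (g * x * g⁻¹) := by
    intro x hx g hg hg1 hcom
    exact hg1 (Subtype.ext (hx.not_normalize hodd hg (by
      have := commute_coe.mpr hcom
      simpa using this)))
  -- centre, commutators and powers are scalar
  have hcent : ∀ z ∈ (Q : Subgroup H), (∀ w ∈ (Q : Subgroup H), Commute z w) → IsScalar (z : SL₂) := by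
    intro z hz hzc
    set R := (Subgroup.center (Q : Subgroup H)).map (Q : Subgroup H).subtype
    have hzR : z ∈ R := ⟨⟨z, hz⟩, Subgroup.mem_center_iff.mpr fun w => Subtype.ext (hzc w w.2).eq.symm, rfl⟩
    refine hproper R (Subgroup.map_subtype_le _) ?_ ?_ z hzR
    · intro e
      have hab : ∀ u ∈ (Q : Subgroup H), ∀ v ∈ (Q : Subgroup H), Commute u v := by
        intro u hu v hv
        rw [← e] at hu
        obtain ⟨u', hu', rfl⟩ := hu
        exact (congrArg Subtype.val (Subgroup.mem_center_iff.mp hu' ⟨v, hv⟩)).symm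
      exact hanorm x₀ (hQsemi x₀ hx₀Q hx₀s) a ha ha1 (hab _ hx₀Q _ (mem_conj_normalizer haN hx₀Q))
    · rw [mem_normalizer_iff_smul, ← map_conj_eq_smul]
      exact map_char_eq haN _
  have hΦ : ∀ z ∈ (frattini (Q : Subgroup H)).map (Q : Subgroup H).subtype, IsScalar (z : SL₂) := by
    refine hproper _ (Subgroup.map_subtype_le _) ?_ ?_
    · intro e
      have : Nontrivial (Q : Subgroup H) := ⟨⟨x₀, hx₀Q⟩, 1, fun h => hx₀s (Or.inl (by
        have := congrArg Subtype.val h
        simp at this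
        rw [this]; rfl))⟩
      obtain ⟨M, hM⟩ := (eq_top_or_exists_le_coatom (⊥ : Subgroup (Q : Subgroup H))).resolve_left bot_ne_top
      refine hM.1.1 (top_le_iff.mp fun u _ => ?_)
      obtain ⟨v, hv, hv'⟩ := (e.ge u.2 : (u : H) ∈ _)
      rw [show u = v from Subtype.ext hv'.symm]
      exact frattini_le_coatom hM.1 hv
    · rw [mem_normalizer_iff_smul, ← map_conj_eq_smul]
      exact map_char_eq haN _
  have hqpow : ∀ x ∈ (Q : Subgroup H), IsScalar ((x ^ q : H) : SL₂) := fun x hx =>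
    hΦ _ ⟨_, pGroup_pow_mem_frattini Q.isPGroup' ⟨x, hx⟩, by simp⟩
  have hcommS : ∀ x ∈ (Q : Subgroup H), ∀ y ∈ (Q : Subgroup H), IsScalar ((⁅x, y⁆ : H) : SL₂) := fun x hx y hy =>
    hΦ _ ⟨_, pGroup_commutator_le_frattini Q.isPGroup' (Subgroup.commutator_mem_commutator
      (Subgroup.mem_top (⟨x, hx⟩ : (Q : Subgroup H))) (Subgroup.mem_top (⟨y, hy⟩ : (Q : Subgroup H)))),
      by simp [commutatorElement_def]⟩
  have hq2 : q = 2 := by
    by_contra hq2
    refine hx₀s (hcent x₀ hx₀Q fun w hw => ?_)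
    have hcs := hcommS x₀ hx₀Q w hw
    rcases hcs with h | h
    · exact commutatorElement_eq_one_iff_mul_comm.mp (Subtype.ext (by rw [h, Subgroup.coe_one]))
    · exfalso
      obtain ⟨m, hm⟩ := Q.isPGroup' ⟨⁅x₀, w⁆, by
        rw [commutatorElement_def]; exact mul_mem (mul_mem (mul_mem hx₀Q hw) (inv_mem hx₀Q)) (inv_mem hw)⟩
      have hm' : ((⁅x₀, w⁆ : H) : SL₂) ^ q ^ m = 1 := by
        have := congrArg (fun z : (Q : Subgroup H) => ((z : H) : SL₂)) hm
        simpa using this
      rw [h, ((hq.odd_of_ne_two hq2).pow).neg_one_pow] at hm'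
      have h' := congrArg tr hm'
      rw [tr_neg, tr_one] at h'
      exact mul_ne_zero h2 h2 (by linear_combination -h')
  subst hq2
  -- squares are `-1`
  have hsq : ∀ x ∈ (Q : Subgroup H), ¬ IsScalar (x : SL₂) → (x : SL₂) * x = -1 := by
    intro x hx hs
    have h := hqpow x hx
    rw [sq, Subgroup.coe_mul] at h
    exact h.resolve_left fun h1 => hs (mul_self_eq_one h2 h1)
  have hclass : ∀ x ∈ (Q : Subgroup H), ∀ y ∈ (Q : Subgroup H), ¬ IsScalar (x : SL₂) → Commute x y →
      ¬ IsScalar (y : SL₂) → (y : SL₂) = x ∨ (y : SL₂) = (x : SL₂)⁻¹ := by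
    intro x hx y hy hxs hxy hys
    refine eq_or_eq_inv hxs (commute_coe.mpr hxy) ?_ (hQsemi x hx hxs).2 h2
    rw [(mul_self_eq_neg_one hxs).mp (hsq x hx hxs), (mul_self_eq_neg_one hys).mp (hsq y hy hys)]
  have hanti : ∀ x ∈ (Q : Subgroup H), ∀ y ∈ (Q : Subgroup H), ¬ Commute x y →
      (x : SL₂) * y = -((y : SL₂) * x) := by
    intro x hx y hy hxy
    rcases hcommS x hx y hy with h | h
    · exact absurd (commutatorElement_eq_one_iff_mul_comm.mp (Subtype.ext (by rw [h, Subgroup.coe_one]))) hxy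
    · rw [commutatorElement_def] at h
      simp only [Subgroup.coe_mul, Subgroup.coe_inv] at h
      calc (x : SL₂) * y = (x : SL₂) * y * (x : SL₂)⁻¹ * (y : SL₂)⁻¹ * (y * x) := by group
        _ = -((y : SL₂) * x) := by rw [h, neg_one_mul]
  -- the action of `a` on the three classes
  set x := x₀
  have hxs := hx₀s
  set y := a * x * a⁻¹ with hydef
  have hyQ : y ∈ (Q : Subgroup H) := mem_conj_normalizer haN hx₀Q
  have hys : ¬ IsScalar (y : SL₂) := by
    simp only [hydef, Subgroup.coe_mul, Subgroup.coe_inv, IsScalar.conj_iff]; exact hxs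
  have hxy : ¬ Commute x y := hanorm x (hQsemi x hx₀Q hxs) a ha ha1
  set z := x * y with hzdef
  have hzQ : z ∈ (Q : Subgroup H) := mul_mem hx₀Q hyQ
  have hzs : ¬ IsScalar (z : SL₂) := by
    intro h
    refine hxy ?_
    have h' := (commute_coe.mp (h.commute (x : SL₂))).eq
    rw [hzdef] at h'
    show x * y = y * x
    exact mul_left_cancel (a := x) (by rw [← h', mul_assoc])
  have hcl : ∀ w ∈ (Q : Subgroup H), ¬ IsScalar (w : SL₂) → Commute w x ∨ Commute w y ∨ Commute w z := by
    intro w hw hws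
    by_cases h1 : Commute w x
    · exact Or.inl h1
    by_cases h2 : Commute w y
    · exact Or.inr (Or.inl h2)
    refine Or.inr (Or.inr (commute_coe.mp ?_))
    show (w : SL₂) * (z : H) = (z : H) * w
    rw [hzdef, Subgroup.coe_mul, ← mul_assoc, hanti w hw x hx₀Q h1, neg_mul, mul_assoc,
      hanti w hw y hyQ h2, mul_neg, neg_neg, mul_assoc]
  set φ := MulAut.conj a with hφ
  have hφx : φ x = y := rfl
  have hφQ : φ y ∈ (Q : Subgroup H) := mem_conj_normalizer haN hyQ
  have hφys : ¬ IsScalar ((φ y : H) : SL₂) := by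
    simp only [hφ, MulAut.conj_apply, Subgroup.coe_mul, Subgroup.coe_inv, IsScalar.conj_iff]; exact hys
  have hnfix : ∀ w ∈ (Q : Subgroup H), ¬ IsScalar (w : SL₂) → ¬ Commute w (φ w) := fun w hw hws =>
    hanorm w (hQsemi w hw hws) a ha ha1
  have ha2 : tr ((a * a : H) : SL₂) = 2 ∧ a * a ≠ 1 := by
    refine ⟨?_, fun h => ha1 ?_⟩
    · have hA2 := tr_of_pGroup hodd A.isPGroup' (mul_mem haA haA)
      exact hA2
    · have := (mul_self_eq_one h2 (by rw [← Subgroup.coe_mul, h, Subgroup.coe_one]) : IsScalar (a : SL₂))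
      exact absurd this (not_scalar_of_tr hodd ha ha1)
  have hφy_z : Commute (φ y) z := by
    rcases hcl _ hφQ hφys with h | h | h
    · refine absurd ?_ (hanorm x (hQsemi x hx₀Q hxs) (a * a) ha2.1 ha2.2)
      have e : a * a * x * (a * a)⁻¹ = φ y := by simp [hφ, hydef, mul_assoc]
      rw [e]; exact h.symm
    · exact absurd h.symm (hnfix y hyQ hys)
    · exact h
  have hφ3 : Commute x (φ (φ y)) := by
    -- `φ z = y (φ y)` commutes with `x`
    have hz' : (z : SL₂) = ((φ y : H) : SL₂) ∨ (z : SL₂) = ((φ y : H) : SL₂)⁻¹ :=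
      hclass _ hφQ z hzQ hφys hφy_z hzs
    have hc1 : Commute x (y * φ y) := by
      refine commute_coe.mp ?_
      rw [Subgroup.coe_mul]
      have hyx : (y : SL₂) * ((x : SL₂) * y) = x := by
        rw [← mul_assoc, hanti y hyQ x hx₀Q (fun h => hxy h.symm), neg_mul, mul_assoc, hsq y hyQ hys, mul_neg_one,
          neg_neg]
      rw [hzdef, Subgroup.coe_mul] at hz'
      rcases hz' with h | h
      · rw [← h, hyx]
      · rw [show ((φ y : H) : SL₂) = ((x : SL₂) * y)⁻¹ by rw [h, inv_inv], mul_inv_rev, ← mul_assoc,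
          mul_inv_cancel, one_mul]
        exact (Commute.refl (x : SL₂)).inv_right
    have hc2 : φ z = y * φ y := by rw [hzdef, map_mul, hφx]
    have hφzs : ¬ IsScalar ((φ z : H) : SL₂) := by
      simp only [hφ, MulAut.conj_apply, Subgroup.coe_mul, Subgroup.coe_inv, IsScalar.conj_iff]; exact hzs
    have hc3 : Commute (φ z) (φ (φ y)) := (hφy_z.map φ.toMonoidHom).symm
    exact commute_coe.mp (commute_trans hφzs (commute_coe.mpr (hc2 ▸ hc1)) (commute_coe.mpr hc3))
  have hp3 : p = 3 := by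
    by_contra hp3
    have ha3 : tr ((a * a * a : H) : SL₂) = 2 := tr_of_pGroup hodd A.isPGroup' (mul_mem (mul_mem haA haA) haA)
    have ha31 : a * a * a ≠ 1 := by
      intro h
      have h' : a ^ 3 = 1 := by rw [pow_succ, pow_two, h]
      have := orderOf_dvd_of_pow_eq_one h'
      rw [orderOf_of_tr ha ha1] at this
      exact hp3 ((Nat.prime_dvd_prime_iff_eq hp.out Nat.prime_three).mp this)
    refine hanorm x (hQsemi x hx₀Q hxs) (a * a * a) ha3 ha31 ?_
    have e : a * a * a * x * (a * a * a)⁻¹ = φ (φ y) := by simp [hφ, hydef, mul_assoc]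
    rw [e]; exact hφ3
  subst hp3
  -- the trace
  set b := x * a * x⁻¹ with hb
  have hbt : tr (b : SL₂) = 2 := by simp only [hb, Subgroup.coe_mul, Subgroup.coe_inv, tr_conj, ha]
  have hab : tr ((a * b : H) : SL₂) ≠ 2 := by
    intro h
    rw [Subgroup.coe_mul] at h
    have hcom := commute_coe.mp (commute_of_tr_mul ha hbt h h2)
    exact hno A x (mem_normalizer_of_commute hodd A haA ha1 hcom.symm) (hQsemi x hx₀Q hxs)
  have hQn : (Q : Subgroup H).Normal := by
    rw [← Subgroup.normalizer_eq_top_iff, eq_top_iff, ← htop]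
    exact sup_le Subgroup.le_normalizer (Subgroup.zpowers_le.mpr haN)
  have htr : ∀ h : H, tr (h : SL₂) = 2 ∨ tr (h : SL₂) = 0 ∨ tr (h : SL₂) = -2 := by
    intro h
    have hscal : ∀ g : SL₂, IsScalar g → tr g = 2 ∨ tr g = 0 ∨ tr g = -2 := by
      rintro g (rfl | rfl)
      · exact Or.inl tr_one
      · exact Or.inr (Or.inr (by rw [tr_neg, tr_one]))
    by_cases hQh : h ∈ (Q : Subgroup H)
    · by_cases hs : IsScalar (h : SL₂)
      · exact hscal _ hs
      · exact Or.inr (Or.inl ((mul_self_eq_neg_one hs).mp (hsq h hQh hs)))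
    have hidx : (Q : Subgroup H).index = 3 := by
      have hcop : (Nat.card (Subgroup.zpowers a)).Coprime (Nat.card (Q : Subgroup H)) := by
        rw [Nat.card_zpowers, orderOf_of_tr ha ha1, hc]
        exact ((Nat.coprime_primes hp.out hq).mpr (Ne.symm hqp)).pow_right c
      have h1 := card_sup_coprime (H := Subgroup.zpowers a) (N := (Q : Subgroup H)) (Subgroup.zpowers_le.mpr haN) hcop
      rw [sup_comm, htop, Subgroup.card_top, ← Subgroup.card_mul_index (Q : Subgroup H), Nat.card_zpowers,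
        orderOf_of_tr ha ha1, mul_comm] at h1
      exact Nat.eq_of_mul_eq_mul_right Nat.card_pos h1
    have h3 : h ^ 3 ∈ (Q : Subgroup H) := hidx ▸ Subgroup.pow_index_mem _ h
    by_cases hs : IsScalar ((h ^ 3 : H) : SL₂)
    · have key : ∀ c : F, c = 1 ∨ c = -1 →
          ((h : SL₂) : Matrix (Fin 2) (Fin 2) F) ^ 3 ^ 1 = c • 1 → tr (h : SL₂) = 2 * c :=
        fun c hc' h' => tr_eq_two_of_pow 3 c hc' hodd h'
      rw [SubmonoidClass.coe_pow] at hs
      rcases hs with e | e
      · refine Or.inl ((key 1 (Or.inl rfl) ?_).trans (mul_one _))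
        rw [pow_one, ← Matrix.SpecialLinearGroup.coe_pow, e, Matrix.SpecialLinearGroup.coe_one, one_smul]
      · refine Or.inr (Or.inr ((key (-1) (Or.inr rfl) ?_).trans (by ring)))
        rw [pow_one, ← Matrix.SpecialLinearGroup.coe_pow, e, Matrix.SpecialLinearGroup.coe_neg,
          Matrix.SpecialLinearGroup.coe_one, neg_one_smul]
    · exfalso
      have hsem := hQsemi _ h3 hs
      have hh : h ∈ Subgroup.centralizer ({h ^ 3} : Set H) :=
        Subgroup.mem_centralizer_iff.mpr fun w hw => by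
          rw [Set.mem_singleton_iff.mp hw, ← pow_succ, ← pow_succ']
      have hcop : (orderOf h).Coprime 3 :=
        Nat.Coprime.coprime_dvd_left (Subgroup.orderOf_dvd_natCard _ hh)
          (Nat.coprime_comm.mp (Nat.prime_three.coprime_iff_not_dvd.mpr (semi_centralizer_coprime hodd hsem)))
      obtain ⟨m, hm⟩ := exists_pow_eq_self_of_coprime hcop.symm
      exact hQh (hm ▸ (Q : Subgroup H).pow_mem h3 m)
  rcases htr (a * b) with h | h | h
  · exact absurd h hab
  · refine ⟨a, b, 1, one_ne_zero, ha, hbt, ?_⟩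
    rw [← Subgroup.coe_mul, h, map_one]
    have h3 : ((3 : ℕ) : F) = 0 := CharP.cast_eq_zero F 3
    push_cast at h3
    linear_combination -h3
  · refine ⟨a, b, 2, fun h => absurd ((ZMod.natCast_eq_zero_iff 2 3).mp (by exact_mod_cast h)) (by norm_num), ha, hbt, ?_⟩
    rw [← Subgroup.coe_mul, h, map_ofNat]
    have h3 : ((3 : ℕ) : F) = 0 := CharP.cast_eq_zero F 3
    push_cast at h3
    linear_combination (-2 : F) * h3

end Cfsg.Agent.Grp.SL2
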