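import Mathlib
import Cfsg.Agent.Lib.Grp.SL2Minimal

/-!
Minimal subgroups of `SL(2, F)` with two non-commuting unipotent elements: the case in which a
semisimple element normalizes a Sylow `p`-subgroup, settled by counting elements.
-/

set_option autoImplicit false
set_option linter.unusedSectionVars false

namespace Cfsg.Agent.Grp.SL2

open scoped commutatorElement Pointwise

variable {F : Type*} [Field F]

local notation "SL₂" => Matrix.SpecialLinearGroup (Fin 2) F

/-- A semisimple element fixing the line of `a` fixes only one further line. -/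
theorem two_lines {a x w₁ w₂ : SL₂} (ha : tr a = 2) (ha1 : a ≠ 1) (hx : IsSemi x)
    (hxa : Commute (x * a * x⁻¹) a)
    (h₁ : ¬ Commute (w₁ * a * w₁⁻¹) a) (h₁x : Commute ((w₁⁻¹ * x * w₁) * a * (w₁⁻¹ * x * w₁)⁻¹) a)
    (h₂ : ¬ Commute (w₂ * a * w₂⁻¹) a) (h₂x : Commute ((w₂⁻¹ * x * w₂) * a * (w₂⁻¹ * x * w₂)⁻¹) a) :
    Commute ((w₁⁻¹ * w₂) * a * (w₁⁻¹ * w₂)⁻¹) a := by
  obtain ⟨P, hP, rfl⟩ := exists_up ha ha1
  obtain ⟨x, rfl⟩ := conjHom_surjective P hP x
  obtain ⟨v, rfl⟩ := conjHom_surjective P hP w₁
  obtain ⟨v', rfl⟩ := conjHom_surjective P hP w₂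
  simp only [← map_inv, ← map_mul] at hxa h₁ h₁x h₂ h₂x ⊢
  rw [commute_map_iff (conjHom_injective P hP), lower_entry_iff] at hxa h₁ h₁x h₂ h₂x ⊢
  have hdet := det_eq x
  rw [hxa] at hdet
  have hne : (x : Matrix (Fin 2) (Fin 2) F) 0 0 - (x : Matrix (Fin 2) (Fin 2) F) 1 1 ≠ 0 := by
    intro h
    refine hx.2 ?_
    rw [tr_conjHom]
    unfold tr
    linear_combination (x.1 0 0 - x.1 1 1) * h + 4 * hdet
  have key : ∀ u : SL₂, (u : Matrix (Fin 2) (Fin 2) F) 1 0 ≠ 0 →
      ((u⁻¹ * x * u : SL₂) : Matrix (Fin 2) (Fin 2) F) 1 0 = 0 →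
      u.1 0 0 * (x.1 0 0 - x.1 1 1) = - (x.1 0 1 * u.1 1 0) := by
    intro u hu h
    simp [Matrix.SpecialLinearGroup.coe_mul, Matrix.SpecialLinearGroup.coe_inv, Matrix.adjugate_fin_two,
      Matrix.mul_apply, Matrix.vecMul, dotProduct, Fin.sum_univ_two, hxa] at h
    refine mul_left_cancel₀ hu ?_
    linear_combination -h
  have e₁ := key v h₁ h₁x
  have e₂ := key v' h₂ h₂x
  simp [Matrix.SpecialLinearGroup.coe_mul, Matrix.SpecialLinearGroup.coe_inv, Matrix.adjugate_fin_two,
    Matrix.mul_apply, Fin.sum_univ_two]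
  refine mul_left_cancel₀ hne ?_
  linear_combination (v'.1 1 0) * e₁ - (v.1 1 0) * e₂

/-- The pair of unipotent elements with trace of the product equal to `3`. -/
theorem tr_eq_three {a w v : SL₂} (h2 : (2 : F) ≠ 0) (ha : tr a = 2) (ha1 : a ≠ 1)
    (hw : ¬ Commute (w * a * w⁻¹) a) (hv : tr v = 2) (hva : Commute v a)
    (hc : Commute (((w * a * w⁻¹)⁻¹ * v * w) * a * ((w * a * w⁻¹)⁻¹ * v * w)⁻¹) a) :
    tr (v * (w * a * w⁻¹)) = 3 := by
  obtain ⟨P, hP, rfl⟩ := exists_up ha ha1
  obtain ⟨w, rfl⟩ := conjHom_surjective P hP w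
  obtain ⟨v, rfl⟩ := conjHom_surjective P hP v
  simp only [← map_inv, ← map_mul] at hw hc hva ⊢
  rw [commute_map_iff (conjHom_injective P hP)] at hw hc hva
  rw [tr_conjHom] at hv ⊢
  rw [lower_entry_iff] at hw hc
  have e0 := congrArg Subtype.val hva.eq
  simp only [Matrix.SpecialLinearGroup.coe_mul] at e0
  have v10 : v.1 1 0 = 0 := by
    have := congrFun (congrFun e0 0) 0
    simp [up, Matrix.mul_apply, Fin.sum_univ_two] at this
    linear_combination this
  have v11 : v.1 1 1 = v.1 0 0 := by
    have := congrFun (congrFun e0 0) 1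
    simp [up, Matrix.mul_apply, Fin.sum_univ_two] at this
    linear_combination -this
  unfold tr at hv ⊢
  rw [v11] at hv
  have v00 : v.1 0 0 = 1 := mul_left_cancel₀ h2 (by linear_combination hv)
  rw [v00] at v11
  have hd := det_eq w
  simp only [Matrix.SpecialLinearGroup.coe_mul, Matrix.SpecialLinearGroup.coe_inv] at hc ⊢
  simp [up, Matrix.adjugate_fin_two, Matrix.mul_apply, Matrix.vecMul, dotProduct, Fin.sum_univ_two, v00, v11,
    v10] at hc ⊢
  refine mul_left_cancel₀ hw ?_
  linear_combination -hc + 3 * (w.1 1 0) * hd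

variable [Fintype F] {p : ℕ} [hp : Fact p.Prime] [CharP F p]
variable {H : Subgroup (Matrix.SpecialLinearGroup (Fin 2) F)}

theorem mem_centralizer_iff' {x y : H} :
    y ∈ Subgroup.centralizer ({x} : Set H) ↔ Commute x y := by
  rw [Subgroup.mem_centralizer_iff]
  exact ⟨fun h => h x rfl, fun h w hw => by rw [Set.mem_singleton_iff.mp hw]; exact h.eq⟩

theorem mem_centralizer_self' (x : H) : x ∈ Subgroup.centralizer ({x} : Set H) :=
  mem_centralizer_iff'.mpr (Commute.refl x)

theorem isScalar_coe_iff (h2 : (2 : F) ≠ 0) {z : H} (hz : (z : SL₂) = -1) (x : H) :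
    IsScalar (x : SL₂) ↔ x = 1 ∨ x = z := by
  unfold IsScalar
  constructor
  · rintro (h | h)
    · exact Or.inl (Subtype.ext h)
    · exact Or.inr (Subtype.ext (h.trans hz.symm))
  · rintro (rfl | rfl)
    · exact Or.inl rfl
    · exact Or.inr hz

theorem ne_one_of_neg (h2 : (2 : F) ≠ 0) {z : H} (hz : (z : SL₂) = -1) : z ≠ 1 := by
  intro h
  have h1 := congrArg tr hz
  rw [h, Subgroup.coe_one, tr_one, tr_neg, tr_one] at h1
  exact mul_ne_zero h2 h2 (by linear_combination h1)

/-- Elements of trace `2` in the normalizer of a Sylow subgroup belong to it. -/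
theorem mem_sylow_of_normalizer (P : Sylow p H) {x : H} (hx : tr (x : SL₂) = 2)
    (hxN : x ∈ Subgroup.normalizer ((P : Subgroup H) : Set H)) : x ∈ (P : Subgroup H) := by
  have hz : IsPGroup p (Subgroup.zpowers x) := by
    rcases eq_or_ne x 1 with rfl | hx1
    · rw [Subgroup.zpowers_one_eq_bot]; exact IsPGroup.of_bot
    · exact IsPGroup.of_card (n := 1) (by rw [Nat.card_zpowers, orderOf_of_tr hx hx1, pow_one])
  exact (P.is_maximal' (IsPGroup.to_sup_of_normal_right' hz P.isPGroup'
    (Subgroup.zpowers_le.mpr hxN)) le_sup_right) ▸ Subgroup.mem_sup_left (Subgroup.mem_zpowers x)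

theorem smul_eq_self_iff {P : Sylow p H} {g : H} :
    g • P = P ↔ g ∈ Subgroup.normalizer ((P : Subgroup H) : Set H) := Sylow.smul_eq_iff_mem_normalizer

theorem isScalar_conj {g x : H} : IsScalar ((g * x * g⁻¹ : H) : SL₂) ↔ IsScalar (x : SL₂) := by
  rw [Subgroup.coe_mul, Subgroup.coe_mul, Subgroup.coe_inv, IsScalar.conj_iff]

theorem centralizer_conj_iff {g x y : H} :
    Commute (g * x * g⁻¹) (g * y * g⁻¹) ↔ Commute x y :=
  commute_map_iff (f := (MulAut.conj g).toMonoidHom) (MulAut.conj g).injective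

/-- Conjugate nonscalar elements of a torus are conjugate by its normalizer. -/
theorem mem_normalizer_torus {x t t' g : H} (hx : ¬ IsScalar (x : SL₂))
    (ht : t ∈ Subgroup.centralizer ({x} : Set H)) (hts : ¬ IsScalar (t : SL₂))
    (ht' : t' ∈ Subgroup.centralizer ({x} : Set H)) (hts' : ¬ IsScalar (t' : SL₂))
    (he : g * t * g⁻¹ = t') : g ∈ Subgroup.normalizer (Subgroup.centralizer ({x} : Set H) : Set H) := by
  rw [Subgroup.mem_normalizer_iff]
  intro v
  rw [mem_centralizer_iff', mem_centralizer_iff']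
  have e := centralizer_eq hx hts (mem_centralizer_iff'.mp ht)
  have e' := centralizer_eq hx hts' (mem_centralizer_iff'.mp ht')
  have a : ∀ y : H, Commute x y ↔ Commute t y := fun y => by
    rw [← mem_centralizer_iff', ← mem_centralizer_iff', e]
  have a' : ∀ y : H, Commute x y ↔ Commute t' y := fun y => by
    rw [← mem_centralizer_iff', ← mem_centralizer_iff', e']
  rw [a v, a', ← he, centralizer_conj_iff]

theorem MinPair.mem_normalizer_torus_iff (hH : MinPair p H) {x w : H} (hx : IsSemi (x : SL₂))
    (hw : w * x * w⁻¹ = x⁻¹) {g : H} :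
    g ∈ Subgroup.normalizer (Subgroup.centralizer ({x} : Set H) : Set H) ↔
      g ∈ Subgroup.centralizer ({x} : Set H) ∨ w⁻¹ * g ∈ Subgroup.centralizer ({x} : Set H) := by
  have h2 := two_ne_zero' (F := F) p hH.odd
  have hxi : ¬ IsScalar ((x⁻¹ : H) : SL₂) := fun h => hx.1 (by
    have := h.inv
    rwa [Subgroup.coe_inv, inv_inv] at this)
  have hwN : w ∈ Subgroup.normalizer (Subgroup.centralizer ({x} : Set H) : Set H) :=
    mem_normalizer_torus hx.1 (mem_centralizer_self' x) hx.1 (inv_mem (mem_centralizer_self' x)) hxi hw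
  constructor
  · intro hg
    have h := mem_centralizer_iff'.mp ((Subgroup.mem_normalizer_iff.mp hg x).mp (mem_centralizer_self' x))
    rcases eq_or_eq_inv hx.1 (commute_coe.mpr h) (by simp only [Subgroup.coe_mul, Subgroup.coe_inv, tr_conj])
        hx.2 h2 with e | e
    · refine Or.inl (mem_centralizer_iff'.mpr ?_)
      exact (mul_inv_eq_iff_eq_mul.mp (Subtype.ext e)).symm
    · refine Or.inr (mem_centralizer_iff'.mpr ?_)
      have e' : g * x * g⁻¹ = w * x * w⁻¹ := by
        rw [hw]; exact Subtype.ext (by rw [e, Subgroup.coe_inv])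
      show x * (w⁻¹ * g) = w⁻¹ * g * x
      calc x * (w⁻¹ * g) = w⁻¹ * (w * x * w⁻¹) * g := by group
        _ = w⁻¹ * (g * x * g⁻¹) * g := by rw [e']
        _ = w⁻¹ * g * x := by group
  · rintro (h | h)
    · exact Subgroup.le_normalizer h
    · have := mul_mem hwN (Subgroup.le_normalizer h)
      rwa [mul_inv_cancel_left] at this

theorem MinPair.not_mem_torus (hH : MinPair p H) {x w : H} (hx : IsSemi (x : SL₂))
    (hw : w * x * w⁻¹ = x⁻¹) : w ∉ Subgroup.centralizer ({x} : Set H) := by
  intro h
  refine hx.1 (mul_self_eq_one (two_ne_zero' (F := F) p hH.odd) ?_)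
  have e : x = x⁻¹ := by
    rw [← hw, ← (mem_centralizer_iff'.mp h).eq, mul_inv_cancel_right]
  rw [← Subgroup.coe_mul, mul_eq_one_iff_eq_inv.mpr e, Subgroup.coe_one]

/-- Tori have index two in their normalizers. -/
theorem MinPair.card_normalizer_torus (hH : MinPair p H) {x : H} (hx : IsSemi (x : SL₂)) :
    Nat.card (Subgroup.normalizer (Subgroup.centralizer ({x} : Set H) : Set H)) =
      2 * Nat.card (Subgroup.centralizer ({x} : Set H)) := by
  obtain ⟨w, hw, -⟩ := hH.exists_inverter hx
  set T := Subgroup.centralizer ({x} : Set H)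
  have hU : ((Subgroup.normalizer (T : Set H) : Subgroup H) : Set H) = (T : Set H) ∪ (w * ·) '' (T : Set H) := by
    ext g
    rw [SetLike.mem_coe, hH.mem_normalizer_torus_iff hx hw, Set.mem_union, SetLike.mem_coe]
    constructor
    · rintro (h | h)
      · exact Or.inl h
      · exact Or.inr ⟨_, h, mul_inv_cancel_left w g⟩
    · rintro (h | ⟨t, ht, rfl⟩)
      · exact Or.inl h
      · exact Or.inr (by simpa using ht)
  have hd : Disjoint (T : Set H) ((w * ·) '' (T : Set H)) := by
    rw [Set.disjoint_left]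
    rintro g hg ⟨t, ht, rfl⟩
    exact hH.not_mem_torus hx hw ((T.mul_mem_cancel_right ht).mp hg)
  have h := Set.ncard_union_eq hd (Set.toFinite _) (Set.toFinite _)
  rw [← hU, Set.ncard_image_of_injective _ (mul_right_injective w)] at h
  have e : ∀ K : Subgroup H, (K : Set H).ncard = Nat.card K := fun K => (Nat.card_coe_set_eq _).symm
  rw [e, e] at h
  rw [h, two_mul]

/-- The elements conjugate to a nonscalar element of the torus of `x`. -/
noncomputable def torusClass (x : H) : Finset H :=
  (Set.toFinite {y : H | ∃ g t : H, t ∈ Subgroup.centralizer ({x} : Set H) ∧ ¬ IsScalar (t : SL₂) ∧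
    g * t * g⁻¹ = y}).toFinset

theorem mem_torusClass {x y : H} : y ∈ torusClass x ↔
    ∃ g t : H, t ∈ Subgroup.centralizer ({x} : Set H) ∧ ¬ IsScalar (t : SL₂) ∧ g * t * g⁻¹ = y := by
  simp [torusClass]

theorem self_mem_torusClass {x : H} (hx : IsSemi (x : SL₂)) : x ∈ torusClass x :=
  mem_torusClass.mpr ⟨1, x, mem_centralizer_self' x, hx.1, by simp⟩

theorem torusClass_semi {x y : H} (hx : IsSemi (x : SL₂)) (hy : y ∈ torusClass x) : IsSemi (y : SL₂) := by
  obtain ⟨g, t, ht, hts, rfl⟩ := mem_torusClass.mp hy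
  rw [Subgroup.coe_mul, Subgroup.coe_mul, Subgroup.coe_inv]
  exact (hx.of_commute hts (commute_coe.mpr (mem_centralizer_iff'.mp ht))).conj _

theorem disjoint_torusClass {x y : H} (hx : IsSemi (x : SL₂)) (hy : IsSemi (y : SL₂))
    (h : y ∉ torusClass x) : Disjoint (torusClass x) (torusClass y) := by
  rw [Finset.disjoint_left]
  intro v hv hv'
  obtain ⟨g, t, ht, hts, rfl⟩ := mem_torusClass.mp hv
  obtain ⟨g', t', ht', hts', e⟩ := mem_torusClass.mp hv'
  refine h (mem_torusClass.mpr ⟨g'⁻¹ * g, (g'⁻¹ * g)⁻¹ * y * (g'⁻¹ * g), ?_, ?_, by group⟩)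
  · rw [centralizer_eq hx.1 hts (mem_centralizer_iff'.mp ht), mem_centralizer_iff',
      ← centralizer_conj_iff (g := g'⁻¹ * g)]
    have e' : g'⁻¹ * g * t * (g'⁻¹ * g)⁻¹ = t' := by
      calc g'⁻¹ * g * t * (g'⁻¹ * g)⁻¹ = g'⁻¹ * (g * t * g⁻¹) * g' := by group
        _ = t' := by rw [← e]; group
    rw [e', show g'⁻¹ * g * ((g'⁻¹ * g)⁻¹ * y * (g'⁻¹ * g)) * (g'⁻¹ * g)⁻¹ = y by group]
    exact (mem_centralizer_iff'.mp ht').symm
  · intro hs
    refine hy.1 ?_
    have := (isScalar_conj (g := g'⁻¹ * g)).mpr hs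
    rwa [show g'⁻¹ * g * ((g'⁻¹ * g)⁻¹ * y * (g'⁻¹ * g)) * (g'⁻¹ * g)⁻¹ = y by group] at this

theorem MinPair.card_torusClass (hH : MinPair p H) {x : H} (hx : IsSemi (x : SL₂)) {z : H}
    (hz : (z : SL₂) = -1) :
    (torusClass x).card * (2 * Nat.card (Subgroup.centralizer ({x} : Set H))) =
      Nat.card H * (Nat.card (Subgroup.centralizer ({x} : Set H)) - 2) := by
  classical
  have h2 := two_ne_zero' (F := F) p hH.odd
  set T := Subgroup.centralizer ({x} : Set H)
  set M := Subgroup.normalizer (T : Set H)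
  set A : Finset H := Finset.univ.filter fun t => t ∈ T ∧ ¬ IsScalar (t : SL₂)
  have hA : A.card = Nat.card T - 2 := by
    have hzT : z ∈ T := mem_centralizer_iff'.mpr (commute_coe.mp (IsScalar.commute (Or.inr hz) _).symm)
    have e : A = (Finset.univ.filter (· ∈ T)) \ {1, z} := by
      ext t
      simp [A, isScalar_coe_iff h2 hz]
    have hs : ({1, z} : Finset H) ⊆ Finset.univ.filter (· ∈ T) := by
      intro t ht
      simp only [Finset.mem_insert, Finset.mem_singleton] at ht
      rcases ht with rfl | rfl <;> simp [one_mem, hzT]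
    rw [e, Finset.card_sdiff_of_subset hs, Finset.card_pair (ne_one_of_neg h2 hz).symm,
      ← Fintype.card_subtype, Nat.card_eq_fintype_card]
  set f : H × H → H := fun q => q.1 * q.2 * q.1⁻¹
  have hmaps : ∀ q ∈ (Finset.univ : Finset H) ×ˢ A, f q ∈ torusClass x := by
    intro q hq
    simp only [Finset.mem_product, Finset.mem_univ, true_and, A, Finset.mem_filter] at hq
    exact mem_torusClass.mpr ⟨q.1, q.2, hq.1, hq.2, rfl⟩
  have hfib : ∀ y ∈ torusClass x, (((Finset.univ : Finset H) ×ˢ A).filter fun q => f q = y).card = Nat.card M := by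
    intro y hy
    obtain ⟨g, t, ht, hts, rfl⟩ := mem_torusClass.mp hy
    have htT : T = Subgroup.centralizer ({t} : Set H) := centralizer_eq hx.1 hts (mem_centralizer_iff'.mp ht)
    rw [Nat.card_eq_fintype_card, ← Finset.card_univ]
    refine (Finset.card_bij (fun (m : M) _ => (g * (m : H), (m : H)⁻¹ * t * (m : H))) ?_ ?_ ?_).symm
    · intro m _
      simp only [Finset.mem_filter, Finset.mem_product, Finset.mem_univ, true_and, A, f]
      refine ⟨⟨?_, ?_⟩, by group⟩
      · have := mem_conj_normalizer (M.inv_mem m.2) ht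
        rwa [inv_inv] at this
      · intro hs
        refine hts ?_
        have := (isScalar_conj (g := (m : H))).mpr hs
        rwa [show (m : H) * ((m : H)⁻¹ * t * (m : H)) * (m : H)⁻¹ = t by group] at this
    · intro m _ m' _ h
      exact Subtype.ext (mul_left_cancel (congrArg Prod.fst h))
    · rintro ⟨g', t'⟩ hq
      simp only [Finset.mem_filter, Finset.mem_product, Finset.mem_univ, true_and, A, f] at hq
      have e : g⁻¹ * g' * t' * (g⁻¹ * g')⁻¹ = t := by
        calc g⁻¹ * g' * t' * (g⁻¹ * g')⁻¹ = g⁻¹ * (g' * t' * g'⁻¹) * g := by group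
          _ = t := by rw [hq.2]; group
      refine ⟨⟨g⁻¹ * g', mem_normalizer_torus hx.1 hq.1.1 hq.1.2 ht hts e⟩, Finset.mem_univ _, ?_⟩
      simp only [Prod.mk.injEq, mul_inv_cancel_left, true_and]
      conv_lhs => rw [← e]
      group
  have h := Finset.card_eq_sum_card_fiberwise hmaps
  rw [Finset.sum_congr rfl hfib, Finset.sum_const, smul_eq_mul, Finset.card_product, Finset.card_univ,
    hA, ← Nat.card_eq_fintype_card] at h
  rw [h, hH.card_normalizer_torus hx]

/-- The arithmetic of the element count. -/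
theorem count_arith {u e n d k : ℕ} (hu : 3 ≤ u) (he : 2 ≤ e) (heu : e + 1 ≤ u)
    (hn : n = 1 + u + k * (u * e)) (hd : (d : ℤ) * ((n : ℤ) * u - 2 * n + 2) = n * u * e) :
    k = 0 ∨ (u = 3 ∧ e = 2 ∧ n = 10) := by
  rcases Nat.eq_zero_or_pos k with hk | hk
  · exact Or.inl hk
  right
  set den : ℤ := 1 + ((u : ℤ) - 2) * (1 + k * e) with hden
  have hn' : (n : ℤ) = den + 2 * (1 + k * e) := by
    rw [hn]; push_cast; rw [hden]; ring
  have h1 : (d : ℤ) * den = n * e := by
    refine mul_left_cancel₀ (show (u : ℤ) ≠ 0 by exact_mod_cast (by omega : u ≠ 0)) ?_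
    have hn0 : (n : ℤ) = 1 + u + k * (u * e) := by rw [hn]; push_cast; ring
    rw [show (u : ℤ) * (d * den) = d * (n * u - 2 * n + 2) by rw [hden, hn0]; ring, hd]
    ring
  have h2 : den ∣ 2 * (e : ℤ) * (1 + k * e) := ⟨d - e, by rw [hn'] at h1; linear_combination -h1⟩
  have hco : IsCoprime den (1 + (k : ℤ) * e) := ⟨1, -((u : ℤ) - 2), by rw [hden]; ring⟩
  have h3 : den ≤ 2 * (e : ℤ) :=
    Int.le_of_dvd (by omega) (hco.dvd_of_dvd_mul_right h2)
  have hu' : (3 : ℤ) ≤ u := by exact_mod_cast hu
  have he' : (2 : ℤ) ≤ e := by exact_mod_cast he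
  have hk' : (1 : ℤ) ≤ k := by exact_mod_cast hk
  have hu3 : u = 3 := by
    by_contra hne
    have : (4 : ℤ) ≤ u := by exact_mod_cast (by omega : 4 ≤ u)
    nlinarith [mul_le_mul_of_nonneg_right hk' (by omega : (0 : ℤ) ≤ e)]
  subst hu3
  have he2 : e = 2 := by omega
  subst he2
  have h4 : den ∣ 4 := by simpa using hco.dvd_of_dvd_mul_right h2
  have hk1 : k = 1 := by
    have hd' : den = 2 + 2 * (k : ℤ) := by rw [hden]; push_cast; ring
    rw [hd'] at h3
    omega
  subst hk1
  exact ⟨rfl, rfl, by rw [hn]⟩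

set_option maxHeartbeats 1000000 in
/-- The case in which a semisimple element normalizes a Sylow `p`-subgroup. -/
theorem MinPair.good_of_semi (hH : MinPair p H) (P : Sylow p H) {h : H}
    (hhN : h ∈ Subgroup.normalizer ((P : Subgroup H) : Set H)) (hh : IsSemi (h : SL₂)) :
    ∃ (a b : H) (k : ZMod p), k ≠ 0 ∧ tr (a : SL₂) = 2 ∧ tr (b : SL₂) = 2 ∧
      tr ((a : SL₂) * (b : SL₂)) = 2 + ZMod.castHom (dvd_refl p) F k := by
  classical
  have hodd := hH.odd
  have h2 := two_ne_zero' (F := F) p hodd
  set N := Subgroup.normalizer ((P : Subgroup H) : Set H)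
  set T := Subgroup.centralizer ({h} : Set H)
  obtain ⟨a, haP, ha1⟩ : ∃ a ∈ (P : Subgroup H), a ≠ 1 := by
    obtain ⟨a, b, ha, hb, hab⟩ := hH.pair
    have ha1 : a ≠ 1 := fun e => hab (e ▸ Commute.one_left b)
    exact Subgroup.ne_bot_iff_exists_ne_one.mp
      (P.ne_bot_of_dvd_card (orderOf_of_tr ha ha1 ▸ orderOf_dvd_natCard a))
      |>.elim fun a ha => ⟨a, a.2, fun e => ha (Subtype.ext e)⟩
  have ha : tr (a : SL₂) = 2 := tr_of_pGroup hodd P.isPGroup' haP
  have ha1' : (a : SL₂) ≠ 1 := fun e => ha1 (Subtype.ext e)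
  have hNiff : ∀ g : H, g ∈ N ↔ Commute ((g : SL₂) * a * (g : SL₂)⁻¹) (a : SL₂) := fun g => by
    rw [← Subgroup.coe_inv, ← Subgroup.coe_mul, ← Subgroup.coe_mul, commute_coe]
    exact ⟨commute_conj_of_normalizer hodd P haP, mem_normalizer_of_commute hodd P haP ha1⟩
  have hTN : T ≤ N := fun y hy => (hNiff y).mpr
    (commute_conj_of_commute ha ha1' hh ((hNiff h).mp hhN) (commute_coe.mpr (mem_centralizer_iff'.mp hy)))
  have hPT : ∀ y, y ∈ (P : Subgroup H) → y ∈ T → y = 1 := by
    intro y hyP hyT
    by_contra hy1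
    have hs := not_scalar_of_tr hodd (tr_of_pGroup hodd P.isPGroup' hyP) hy1
    exact (hh.of_commute hs (commute_coe.mpr (mem_centralizer_iff'.mp hyT))).2
      (by rw [tr_of_pGroup hodd P.isPGroup' hyP]; norm_num)
  have hcomm : ∀ x ∈ N, ∀ y ∈ N, ⁅x, y⁆ ∈ (P : Subgroup H) := by
    intro x hx y hy
    refine mem_sylow_of_normalizer P ?_ (by
      rw [commutatorElement_def]; exact mul_mem (mul_mem (mul_mem hx hy) (inv_mem hx)) (inv_mem hy))
    have := tr_commutator ha ha1' ((hNiff x).mp hx) ((hNiff y).mp hy)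
    simpa [commutatorElement_def] using this
  have hcoset : ∀ t ∈ T, ¬ IsScalar (t : SL₂) → ∀ q ∈ (P : Subgroup H),
      ∃ v ∈ (P : Subgroup H), v * t * v⁻¹ = t * q := by
    intro t ht hts q hq
    let f : ↥(P : Subgroup H) → ↥(P : Subgroup H) := fun v =>
      ⟨t⁻¹ * ((v : H) * t * (v : H)⁻¹), by
        have hv := mem_conj_normalizer (N.inv_mem (hTN ht)) v.2
        rw [inv_inv] at hv
        rw [show t⁻¹ * ((v : H) * t * (v : H)⁻¹) = t⁻¹ * (v : H) * t * (v : H)⁻¹ by group]
        exact mul_mem hv (inv_mem v.2)⟩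
    have hf : Function.Injective f := by
      intro v v' e
      have e' : (v : H) * t * (v : H)⁻¹ = (v' : H) * t * (v' : H)⁻¹ := mul_left_cancel (congrArg Subtype.val e)
      have hmem : (v' : H)⁻¹ * (v : H) ∈ T := by
        rw [show T = Subgroup.centralizer ({t} : Set H) from centralizer_eq hh.1 hts (mem_centralizer_iff'.mp ht),
          mem_centralizer_iff']
        show t * _ = _ * t
        calc t * ((v' : H)⁻¹ * v) = (v' : H)⁻¹ * ((v' : H) * t * (v' : H)⁻¹) * v := by group
          _ = (v' : H)⁻¹ * ((v : H) * t * (v : H)⁻¹) * v := by rw [e']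
          _ = (v' : H)⁻¹ * v * t := by group
      exact Subtype.ext (inv_mul_eq_one.mp (hPT _ (mul_mem (inv_mem v'.2) v.2) hmem)).symm
    obtain ⟨v, hv⟩ := (Finite.injective_iff_surjective.mp hf) ⟨q, hq⟩
    exact ⟨v, v.2, eq_mul_of_inv_mul_eq (congrArg Subtype.val hv)⟩
  have hdec : ∀ x ∈ N, ∃ v ∈ (P : Subgroup H), ∃ t ∈ T, x = v * t := by
    intro x hx
    have hq : h⁻¹ * (x * h * x⁻¹) ∈ (P : Subgroup H) := by
      have := hcomm h⁻¹ (inv_mem hhN) x hx
      rwa [commutatorElement_def, inv_inv, show h⁻¹ * x * h * x⁻¹ = h⁻¹ * (x * h * x⁻¹) by group] at this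
    obtain ⟨v, hv, e⟩ := hcoset h (mem_centralizer_self' h) hh.1 _ hq
    rw [mul_inv_cancel_left] at e
    refine ⟨v, hv, v⁻¹ * x, mem_centralizer_iff'.mpr ?_, (mul_inv_cancel_left v x).symm⟩
    show h * _ = _ * h
    calc h * (v⁻¹ * x) = v⁻¹ * (v * h * v⁻¹) * x := by group
      _ = v⁻¹ * (x * h * x⁻¹) * x := by rw [e]
      _ = v⁻¹ * x * h := by group
  have hcardN : Nat.card N = Nat.card (P : Subgroup H) * Nat.card T := by
    rw [← Nat.card_prod]
    refine (Nat.card_eq_of_bijective (fun q : ↥(P : Subgroup H) × T =>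
      (⟨(q.1 : H) * q.2, mul_mem (Subgroup.le_normalizer q.1.2) (hTN q.2.2)⟩ : N)) ⟨?_, ?_⟩).symm
    · rintro ⟨v, t⟩ ⟨v', t'⟩ e
      have e' : (v : H) * t = v' * t' := congrArg Subtype.val e
      have hm : (v' : H)⁻¹ * v = t' * (t : H)⁻¹ := by
        rw [eq_mul_inv_iff_mul_eq, mul_assoc, e', inv_mul_cancel_left]
      have := hPT _ (mul_mem (inv_mem v'.2) v.2) (hm ▸ mul_mem t'.2 (inv_mem t.2))
      have hvv : v' = v := Subtype.ext (inv_mul_eq_one.mp this)
      subst hvv
      rw [show t = t' from Subtype.ext (mul_left_cancel e')]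
    · rintro ⟨x, hx⟩
      obtain ⟨v, hv, t, ht, e⟩ := hdec x hx
      exact ⟨(⟨v, hv⟩, ⟨t, ht⟩), Subtype.ext e.symm⟩
  -- the inverting element
  obtain ⟨w, hw, hww⟩ := hH.exists_inverter hh
  set z := w * w with hzdef
  have hz : (z : SL₂) = -1 := by rw [hzdef, Subgroup.coe_mul, hww]
  have hz1 : z ≠ 1 := ne_one_of_neg h2 hz
  have hzs : ∀ x : H, IsScalar (x : SL₂) ↔ x = 1 ∨ x = z := isScalar_coe_iff h2 hz
  have hzc : ∀ x : H, Commute z x := fun x => commute_coe.mp (IsScalar.commute (Or.inr hz) _)
  have hzT : z ∈ T := mem_centralizer_iff'.mpr (hzc h).symm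
  have hzz : z * z = 1 := Subtype.ext (by rw [Subgroup.coe_mul, hz, neg_mul_neg, one_mul, Subgroup.coe_one])
  have hwN : w ∉ N := by
    intro hwN
    have hq := hcomm w hwN h hhN
    rw [commutatorElement_def, hw] at hq
    have := hPT _ hq (mul_mem (inv_mem (mem_centralizer_self' h)) (inv_mem (mem_centralizer_self' h)))
    exact hh.1 (mul_self_eq_one h2 (by
      rw [← Subgroup.coe_mul, ← inv_inv (h * h), mul_inv_rev, this, inv_one, Subgroup.coe_one]))
  have hwT : ∀ t ∈ T, w⁻¹ * t * w ∈ T := by
    intro t ht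
    have hN : w ∈ Subgroup.normalizer (T : Set H) :=
      (hH.mem_normalizer_torus_iff hh hw).mpr (Or.inr (by simp))
    have := mem_conj_normalizer (inv_mem hN) ht
    rwa [inv_inv] at this
  set W : Sylow p H := w • P
  have hWP : W ≠ P := fun e => hwN (smul_eq_self_iff.mp e)
  have hfix : ∀ (x g : H), x • (g • P) = g • P ↔ g⁻¹ * x * g ∈ N := by
    intro x g
    rw [← smul_eq_self_iff, mul_smul, mul_smul, inv_smul_eq_iff]
  -- an element of `P` fixing another Sylow subgroup
  have hPfix : ∀ (V : Sylow p H), V ≠ P → ∀ x ∈ (P : Subgroup H), x • V = V → x = 1 := by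
    intro V hV x hx hxV
    by_contra hx1
    exact hV (sylow_eq_of_mem hodd
      (mem_sylow_of_normalizer V (tr_of_pGroup hodd P.isPGroup' hx) (smul_eq_self_iff.mp hxV))
      hx hx1)
  -- semisimple elements fixing another Sylow subgroup
  have htwo : ∀ t ∈ T, ¬ IsScalar (t : SL₂) → ∀ V : Sylow p H, V ≠ P → t • V = V → V = W := by
    intro t ht hts V hV htV
    obtain ⟨g, rfl⟩ := MulAction.exists_smul_eq H P V
    have hg : g ∉ N := fun hg => hV (smul_eq_self_iff.mpr hg)
    have h1 := (hfix t g).mp htV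
    have h2' := hTN (hwT t ht)
    have hr := two_lines ha ha1' (hh.of_commute hts (commute_coe.mpr (mem_centralizer_iff'.mp ht)))
      ((hNiff t).mp (hTN ht)) (fun hc => hwN ((hNiff w).mpr hc)) (by
        have := (hNiff _).mp h2'
        simpa only [Subgroup.coe_mul, Subgroup.coe_inv] using this)
      (fun hc => hg ((hNiff g).mpr hc)) (by
        have := (hNiff _).mp h1
        simpa only [Subgroup.coe_mul, Subgroup.coe_inv] using this)
    have hm : w⁻¹ * g ∈ N := (hNiff _).mpr (by simpa only [Subgroup.coe_mul, Subgroup.coe_inv] using hr)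
    rw [← smul_eq_self_iff, mul_smul, inv_smul_eq_iff] at hm
    exact hm
  have hTW : ∀ t ∈ T, t • W = W := fun t ht => (hfix t w).mpr (hTN (hwT t ht))
  -- the orbit of `W`
  have horbW : ∀ V ∈ MulAction.orbit N W, V ≠ P ∧ ∃ v ∈ (P : Subgroup H), v • W = V := by
    rintro V ⟨⟨x, hx⟩, rfl⟩
    obtain ⟨v, hv, t, ht, rfl⟩ := hdec x hx
    refine ⟨fun e => hWP ?_, v, hv, ?_⟩
    · change (v * t) • W = P at e
      rw [← eq_inv_smul_iff] at e
      rw [e, smul_eq_self_iff]
      exact inv_mem hx
    · show v • W = (v * t) • W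
      rw [mul_smul, hTW t ht]
  set u := Nat.card (P : Subgroup H)
  set n := Nat.card (Sylow p H)
  obtain ⟨e, he⟩ : 2 ∣ Nat.card T := by
    have : orderOf z = 2 := orderOf_eq_prime (by rw [sq, hzz]) hz1
    exact (dvd_of_eq this.symm).trans (T.orderOf_dvd_natCard hzT)
  have he2 : 2 ≤ e := by
    have h3 : 3 ≤ Nat.card T := by
      have hsub : ({1, z, h} : Finset H) ⊆ Finset.univ.filter (· ∈ T) := by
        intro x hx
        simp only [Finset.mem_insert, Finset.mem_singleton] at hx
        rcases hx with rfl | rfl | rfl <;> simp [one_mem, hzT, T, mem_centralizer_self']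
      have hc : ({1, z, h} : Finset H).card = 3 := by
        have hhs := fun e => hh.1 ((hzs h).mpr e)
        rw [Finset.card_insert_of_notMem, Finset.card_pair]
        · exact fun e => hhs (Or.inr e.symm)
        · simp only [Finset.mem_insert, Finset.mem_singleton]
          rintro (e | e)
          · exact hz1 e.symm
          · exact hhs (Or.inl e.symm)
      have := Finset.card_le_card hsub
      rw [hc, ← Fintype.card_subtype, ← Nat.card_eq_fintype_card] at this
      exact this
    omega
  have hcW : (MulAction.orbit N W).toFinset.card = u := by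
    have hst : Nat.card (MulAction.stabilizer N W) = Nat.card T := by
      refine Nat.card_congr ⟨fun x => ⟨((x : N) : H), ?_⟩, fun t => ⟨⟨t, hTN t.2⟩, hTW t t.2⟩,
        fun x => rfl, fun t => rfl⟩
      obtain ⟨v, hv, t, ht, e⟩ := hdec _ (x : N).2
      have hxW : ((x : N) : H) • W = W := x.2
      rw [e, mul_smul, hTW t ht] at hxW
      rw [e, hPfix W hWP v hv hxW, one_mul]
      exact ht
    have := MulAction.card_orbit_mul_card_stabilizer_eq_card_group N W
    rw [← Nat.card_eq_fintype_card, ← Nat.card_eq_fintype_card, ← Nat.card_eq_fintype_card, hst, hcardN] at this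
    rw [Set.toFinset_card, ← Nat.card_eq_fintype_card]
    exact Nat.eq_of_mul_eq_mul_right Nat.card_pos this
  set R : Finset (Sylow p H) := Finset.univ.filter fun V => V ≠ P ∧ V ∉ MulAction.orbit N W
  have hRfix : ∀ V ∈ R, ∀ x ∈ N, x • V = V → IsScalar (x : SL₂) := by
    intro V hV x hx hxV
    obtain ⟨-, hVP, hVW⟩ := Finset.mem_filter.mp hV
    obtain ⟨v, hv, t, ht, rfl⟩ := hdec x hx
    by_cases hts : IsScalar (t : SL₂)
    · have : t • V = V := by
        rw [smul_eq_self_iff, Subgroup.mem_normalizer_iff]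
        intro y
        rw [show t * y * t⁻¹ = y from mul_inv_eq_iff_eq_mul.mpr (commute_coe.mp (hts.commute (y : SL₂))).eq]
      rw [mul_smul, this] at hxV
      rw [hPfix V hVP v hv hxV, one_mul]
      exact hts
    · exfalso
      obtain ⟨v', hv', e'⟩ := hcoset t ht hts (t⁻¹ * v * t) (by
        have := mem_conj_normalizer (inv_mem (hTN ht)) hv
        rwa [inv_inv] at this)
      rw [show t * (t⁻¹ * v * t) = v * t by group] at e'
      rw [← e', mul_smul, mul_smul, smul_eq_iff_eq_inv_smul] at hxV
      refine hVW ⟨⟨v', Subgroup.le_normalizer hv'⟩, ?_⟩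
      show v' • W = V
      rw [← htwo t ht hts (v'⁻¹ • V) (fun e => hVP ?_) hxV, smul_inv_smul]
      rw [inv_smul_eq_iff] at e
      rw [e, smul_eq_self_iff]
      exact Subgroup.le_normalizer hv'
  obtain ⟨k, hk⟩ : u * e ∣ R.card := by
    have horb : ∀ V ∈ R, ∀ V' ∈ MulAction.orbit N V, V' ∈ R := by
      intro V hV V' hV'
      obtain ⟨-, hVP, hVW⟩ := Finset.mem_filter.mp hV
      refine Finset.mem_filter.mpr ⟨Finset.mem_univ _, fun e => hVP ?_, fun e => hVW ?_⟩
      · obtain ⟨⟨x, hx⟩, e'⟩ := hV'
        change x • V = V' at e'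
        rw [e, ← eq_inv_smul_iff] at e'
        rw [e', smul_eq_self_iff]
        exact inv_mem hx
      · rw [← MulAction.orbit_eq_iff.mpr e, MulAction.orbit_eq_iff.mpr hV']
        exact MulAction.mem_orbit_self V
    have hfib : ∀ O ∈ R.image (fun V => MulAction.orbit N V),
        (R.filter fun V => MulAction.orbit N V = O).card = u * e := by
      intro O hO
      obtain ⟨V, hV, rfl⟩ := Finset.mem_image.mp hO
      have e1 : (R.filter fun V' => MulAction.orbit N V' = MulAction.orbit N V) = (MulAction.orbit N V).toFinset := by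
        ext V'
        simp only [Finset.mem_filter, Set.mem_toFinset, MulAction.orbit_eq_iff]
        exact ⟨And.right, fun h => ⟨horb V hV V' h, h⟩⟩
      have hst : Nat.card (MulAction.stabilizer N V) = 2 := by
        have hsc : ∀ x : H, IsScalar (x : SL₂) → x • V = V := fun x hx => by
          rw [smul_eq_self_iff, Subgroup.mem_normalizer_iff]
          intro y
          rw [show x * y * x⁻¹ = y from mul_inv_eq_iff_eq_mul.mpr (commute_coe.mp (hx.commute (y : SL₂))).eq]
        have e2 : (MulAction.stabilizer N V : Set N) = {1, ⟨z, hTN hzT⟩} := by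
          ext x
          simp only [SetLike.mem_coe, MulAction.mem_stabilizer_iff, Set.mem_insert_iff, Set.mem_singleton_iff]
          rw [show x = 1 ↔ (x : H) = 1 from Subtype.ext_iff,
            show x = ⟨z, hTN hzT⟩ ↔ (x : H) = z from Subtype.ext_iff, ← hzs]
          exact ⟨hRfix V hV x x.2, hsc x⟩
        rw [← SetLike.coe_sort_coe, Nat.card_coe_set_eq, e2, Set.ncard_pair]
        exact fun e => hz1 (congrArg Subtype.val e).symm
      have := MulAction.card_orbit_mul_card_stabilizer_eq_card_group N V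
      rw [← Nat.card_eq_fintype_card, ← Nat.card_eq_fintype_card, ← Nat.card_eq_fintype_card, hst, hcardN,
        he] at this
      rw [e1, Set.toFinset_card, ← Nat.card_eq_fintype_card]
      linarith
    exact ⟨(R.image fun V => MulAction.orbit N V).card, by
      rw [Finset.card_eq_sum_card_image (fun V => MulAction.orbit N V) R, Finset.sum_congr rfl hfib,
        Finset.sum_const, smul_eq_mul, mul_comm]⟩
  have hn : n = 1 + u + k * (u * e) := by
    have hsplit : (Finset.univ : Finset (Sylow p H)) = ({P} ∪ (MulAction.orbit N W).toFinset) ∪ R := by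
      ext V
      simp only [Finset.mem_univ, Finset.mem_union, Finset.mem_singleton, Set.mem_toFinset, R,
        Finset.mem_filter, true_and, true_iff]
      tauto
    have hd1 : Disjoint ({P} : Finset (Sylow p H)) (MulAction.orbit N W).toFinset := by
      rw [Finset.disjoint_singleton_left, Set.mem_toFinset]
      exact fun h => (horbW P h).1 rfl
    have hd2 : Disjoint ({P} ∪ (MulAction.orbit N W).toFinset) R := by
      rw [Finset.disjoint_left]
      intro V hV hV'
      obtain ⟨-, hVP, hVW⟩ := Finset.mem_filter.mp hV'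
      simp only [Finset.mem_union, Finset.mem_singleton, Set.mem_toFinset] at hV
      exact hV.elim hVP hVW
    have := congrArg Finset.card hsplit
    rw [Finset.card_univ, ← Nat.card_eq_fintype_card, Finset.card_union_of_disjoint hd2,
      Finset.card_union_of_disjoint hd1, Finset.card_singleton, hcW, hk] at this
    rw [mul_comm k]
    exact this
  obtain ⟨i, hi⟩ := IsPGroup.iff_card.mp P.isPGroup'
  have hu3 : 3 ≤ u := by
    have hu1 : 1 < u := Finite.one_lt_card_iff_nontrivial.mpr
      ⟨⟨⟨a, haP⟩, 1, fun e => ha1 (congrArg Subtype.val e)⟩⟩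
    have hp3 : 3 ≤ p := by
      have := hp.out.two_le
      omega
    rcases i with _ | i
    · rw [pow_zero] at hi; omega
    · calc 3 ≤ p := hp3
        _ ≤ p ^ (i + 1) := Nat.le_self_pow (by omega) p
        _ = u := hi.symm
  have heu : e + 1 ≤ u := by
    have hle := Finset.card_le_mul_card_image (f := fun t : H => t * a * t⁻¹)
      (Finset.univ.filter (· ∈ T)) 2 (by
        intro b hb
        obtain ⟨t, ht, rfl⟩ := Finset.mem_image.mp hb
        simp only [Finset.mem_filter, Finset.mem_univ, true_and] at ht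
        refine (Finset.card_le_card (t := {t, t * z}) ?_).trans Finset.card_le_two
        intro s hs
        simp only [Finset.mem_filter, Finset.mem_univ, true_and] at hs
        have hc : IsScalar ((t⁻¹ * s : H) : SL₂) := by
          by_contra hns
          have hsem := hh.of_commute hns (commute_coe.mpr (mem_centralizer_iff'.mp (mul_mem (inv_mem ht) hs.1)))
          have hca : Commute (t⁻¹ * s) a := by
            show t⁻¹ * s * a = a * (t⁻¹ * s)
            calc t⁻¹ * s * a = t⁻¹ * (s * a * s⁻¹) * s := by group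
              _ = t⁻¹ * (t * a * t⁻¹) * s := by rw [hs.2]
              _ = a * (t⁻¹ * s) := by group
          exact (hsem.of_commute (not_scalar_of_tr hodd ha ha1) (commute_coe.mpr hca)).2 (by rw [ha]; norm_num)
        simp only [Finset.mem_insert, Finset.mem_singleton]
        rcases (hzs _).mp hc with e | e
        · exact Or.inl (inv_mul_eq_one.mp e).symm
        · exact Or.inr (eq_mul_of_inv_mul_eq e))
    have hsub : ((Finset.univ.filter (· ∈ T)).image fun t : H => t * a * t⁻¹) ⊆
        (Finset.univ.filter (· ∈ (P : Subgroup H))).erase 1 := by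
      intro b hb
      obtain ⟨t, ht, rfl⟩ := Finset.mem_image.mp hb
      simp only [Finset.mem_filter, Finset.mem_univ, true_and] at ht
      simp only [Finset.mem_erase, Finset.mem_filter, Finset.mem_univ, true_and]
      exact ⟨fun e => ha1 (conj_eq_one_iff.mp e), mem_conj_normalizer (hTN ht) haP⟩
    have h1 := Finset.card_le_card hsub
    rw [Finset.card_erase_of_mem (by simp [one_mem]), ← Fintype.card_subtype,
      ← Nat.card_eq_fintype_card] at h1
    rw [← Fintype.card_subtype, ← Nat.card_eq_fintype_card, he] at hle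
    change _ ≤ u - 1 at h1
    omega
  have hcardH : Nat.card H = n * (u * (2 * e)) := by
    rw [← he, ← hcardN, show n = _ from Sylow.card_eq_index_normalizer P, mul_comm]
    exact (Subgroup.card_mul_index N).symm
  -- unipotent elements
  set Uni : Finset H := Finset.univ.filter fun x => tr (x : SL₂) = 2 ∧ x ≠ 1
  have hUni : Uni.card = n * (u - 1) := by
    have heq : Uni = (Finset.univ : Finset (Sylow p H)).biUnion fun V =>
        (Finset.univ.filter (· ∈ (V : Subgroup H))).erase 1 := by
      ext x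
      simp only [Uni, Finset.mem_filter, Finset.mem_univ, true_and, Finset.mem_biUnion, Finset.mem_erase]
      constructor
      · rintro ⟨hx, hx1⟩
        obtain ⟨V, hV⟩ := (IsPGroup.of_card (G := Subgroup.zpowers x) (n := 1)
          (by rw [Nat.card_zpowers, orderOf_of_tr hx hx1, pow_one])).exists_le_sylow
        exact ⟨V, hx1, hV (Subgroup.mem_zpowers x)⟩
      · rintro ⟨V, hx1, hV⟩
        exact ⟨tr_of_pGroup hodd V.isPGroup' hV, hx1⟩
    rw [heq, Finset.card_biUnion]
    · rw [Finset.sum_congr rfl (g := fun _ => u - 1), Finset.sum_const, Finset.card_univ, smul_eq_mul,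
        ← Nat.card_eq_fintype_card]
      intro V _
      rw [Finset.card_erase_of_mem (by simp [one_mem]), ← Fintype.card_subtype, ← Nat.card_eq_fintype_card]
      show Nat.card (V : Subgroup H) - 1 = u - 1
      rw [V.card_eq_multiplicity, show u = _ from P.card_eq_multiplicity]
    · intro V _ V' _ hne
      rw [Function.onFun, Finset.disjoint_left]
      intro x hx hx'
      simp only [Finset.mem_erase, Finset.mem_filter, Finset.mem_univ, true_and] at hx hx'
      exact hne (sylow_eq_of_mem hodd hx.2 hx'.2 hx.1)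
  set Neg : Finset H := Finset.univ.filter fun x => tr (x : SL₂) = -2 ∧ x ≠ z
  have hNeg : Neg.card = Uni.card := by
    refine Finset.card_bij (fun x _ => z * x) ?_ (fun x _ y _ e => mul_left_cancel e) ?_
    · intro x hx
      simp only [Neg, Uni, Finset.mem_filter, Finset.mem_univ, true_and] at hx ⊢
      refine ⟨?_, fun e => hx.2 ?_⟩
      · rw [Subgroup.coe_mul, hz, neg_one_mul, tr_neg, hx.1, neg_neg]
      · calc x = z * (z * x) := by rw [← mul_assoc, hzz, one_mul]
          _ = z := by rw [e, mul_one]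
    · intro y hy
      simp only [Neg, Uni, Finset.mem_filter, Finset.mem_univ, true_and] at hy ⊢
      refine ⟨z * y, ⟨?_, fun e => hy.2 (mul_eq_left.mp e)⟩, by rw [← mul_assoc, hzz, one_mul]⟩
      rw [Subgroup.coe_mul, hz, neg_one_mul, tr_neg, hy.1]
  set Semi : Finset H := Finset.univ.filter fun x => IsSemi (x : SL₂)
  have hneq : (2 : F) ≠ -2 := fun e => mul_ne_zero h2 h2 (by linear_combination e)
  have hSemi : n * (u * (2 * e)) = 2 + 2 * (n * (u - 1)) + Semi.card := by
    have hsplit : (Finset.univ : Finset H) = ((({1, z} : Finset H) ∪ Uni) ∪ Neg) ∪ Semi := by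
      ext x
      simp only [Finset.mem_univ, Finset.mem_union, Finset.mem_insert, Finset.mem_singleton, Uni, Neg, Semi,
        Finset.mem_filter, true_and, true_iff]
      by_cases hs : IsScalar (x : SL₂)
      · exact Or.inl (Or.inl (Or.inl ((hzs x).mp hs)))
      · by_cases h4 : tr (x : SL₂) ^ 2 = 4
        · have hne := fun e => hs ((hzs x).mpr e)
          rcases mul_eq_zero.mp (show (tr (x : SL₂) - 2) * (tr (x : SL₂) + 2) = 0 by linear_combination h4) with e | e
          · exact Or.inl (Or.inl (Or.inr ⟨sub_eq_zero.mp e, fun e' => hne (Or.inl e')⟩))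
          · exact Or.inl (Or.inr ⟨eq_neg_of_add_eq_zero_left e, fun e' => hne (Or.inr e')⟩)
        · exact Or.inr ⟨hs, h4⟩
    have d1 : Disjoint ({1, z} : Finset H) Uni := by
      rw [Finset.disjoint_left]
      intro x hx hx'
      simp only [Finset.mem_insert, Finset.mem_singleton, Uni, Finset.mem_filter, Finset.mem_univ, true_and] at hx hx'
      rcases hx with rfl | rfl
      · exact hx'.2 rfl
      · exact hneq (hx'.1.symm.trans (by rw [hz, tr_neg, tr_one]))
    have d2 : Disjoint (({1, z} : Finset H) ∪ Uni) Neg := by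
      rw [Finset.disjoint_left]
      intro x hx hx'
      simp only [Finset.mem_union, Finset.mem_insert, Finset.mem_singleton, Uni, Neg, Finset.mem_filter,
        Finset.mem_univ, true_and] at hx hx'
      rcases hx with (rfl | rfl) | hx
      · exact hneq (by rw [← hx'.1, Subgroup.coe_one, tr_one])
      · exact hx'.2 rfl
      · exact hneq (hx.1.symm.trans hx'.1)
    have d3 : Disjoint ((({1, z} : Finset H) ∪ Uni) ∪ Neg) Semi := by
      rw [Finset.disjoint_left]
      intro x hx hx'
      simp only [Finset.mem_union, Finset.mem_insert, Finset.mem_singleton, Uni, Neg, Semi, Finset.mem_filter,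
        Finset.mem_univ, true_and] at hx hx'
      rcases hx with (hx | hx) | hx
      · exact hx'.1 ((hzs x).mpr hx)
      · exact hx'.2 (by rw [hx.1]; norm_num)
      · exact hx'.2 (by rw [hx.1]; norm_num)
    have := congrArg Finset.card hsplit
    rw [Finset.card_univ, ← Nat.card_eq_fintype_card, hcardH, Finset.card_union_of_disjoint d3,
      Finset.card_union_of_disjoint d2, Finset.card_union_of_disjoint d1, Finset.card_pair (Ne.symm hz1),
      hNeg, hUni] at this
    omega
  -- torus classes
  have hcls : ∀ x : H, IsSemi (x : SL₂) → ∃ d : ℕ, 2 ≤ d ∧ Nat.card (Subgroup.centralizer ({x} : Set H)) = 2 * d ∧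
      ((torusClass x).card : ℤ) * d = (n : ℤ) * u * e * (d - 1) := by
    intro x hx
    have hzx : z ∈ Subgroup.centralizer ({x} : Set H) := mem_centralizer_iff'.mpr (hzc x).symm
    obtain ⟨d, hd⟩ : 2 ∣ Nat.card (Subgroup.centralizer ({x} : Set H)) := by
      have : orderOf z = 2 := orderOf_eq_prime (by rw [sq, hzz]) hz1
      exact (dvd_of_eq this.symm).trans (Subgroup.orderOf_dvd_natCard _ hzx)
    have hc := hH.card_torusClass hx hz
    have hpos := Finset.card_pos.mpr ⟨x, self_mem_torusClass hx⟩
    have hd0 : 0 < Nat.card (Subgroup.centralizer ({x} : Set H)) := Nat.card_pos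
    rw [hd, hcardH] at hc
    have hd2 : 2 ≤ d := by
      by_contra hlt
      obtain rfl : d = 1 := by omega
      rw [show 2 * 1 - 2 = 0 from rfl, mul_zero] at hc
      exact absurd hc (Nat.mul_pos hpos (by norm_num)).ne' 
    refine ⟨d, hd2, hd, mul_left_cancel₀ (show (4 : ℤ) ≠ 0 by norm_num) ?_⟩
    have hc' := congrArg (fun m : ℕ => (m : ℤ)) hc
    push_cast [show 2 ≤ 2 * d by omega] at hc'
    linear_combination hc'
  obtain ⟨e₁, he₁2, he₁, hS1⟩ := hcls h hh
  obtain rfl : e₁ = e := by
    have : 2 * e₁ = 2 * e := by rw [← he₁]; exact he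
    omega
  set S₁ := torusClass h
  have hS1' : (S₁.card : ℤ) = (n : ℤ) * u * ((e₁ : ℤ) - 1) := by
    refine mul_left_cancel₀ (show (e₁ : ℤ) ≠ 0 by exact_mod_cast (by omega : e₁ ≠ 0)) ?_
    linear_combination hS1
  have hSemi' : (Semi.card : ℤ) = 2 * n * u * e₁ - 2 - 2 * n * u + 2 * n := by
    have := congrArg (fun m : ℕ => (m : ℤ)) hSemi
    push_cast [show 1 ≤ u by omega] at this
    linear_combination -this
  have hsub : ∀ x : H, IsSemi (x : SL₂) → torusClass x ⊆ Semi := fun x hx y hy =>
    Finset.mem_filter.mpr ⟨Finset.mem_univ _, torusClass_semi hx hy⟩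
  have hn1 : 1 ≤ n := Nat.card_pos
  have hnu : (0 : ℤ) < (n : ℤ) * u * e₁ := by positivity
  obtain ⟨x₂, hx₂S, hx₂⟩ : ∃ x ∈ Semi, x ∉ S₁ := by
    refine Finset.exists_mem_notMem_of_card_lt_card ?_
    have : (S₁.card : ℤ) < Semi.card := by
      rw [hS1', hSemi']
      have : (u : ℤ) * 2 ≤ u * e₁ := mul_le_mul_of_nonneg_left (by exact_mod_cast he2) (by positivity)
      nlinarith
    exact_mod_cast this
  have hx₂' : IsSemi (x₂ : SL₂) := (Finset.mem_filter.mp hx₂S).2
  obtain ⟨d, hd2, hdc, hS2⟩ := hcls x₂ hx₂'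
  set S₂ := torusClass x₂
  have hd12 : Disjoint S₁ S₂ := disjoint_torusClass hh hx₂' hx₂
  have hall : S₁ ∪ S₂ = Semi := by
    refine Finset.Subset.antisymm (Finset.union_subset (hsub h hh) (hsub x₂ hx₂')) fun x hx => ?_
    by_contra hxn
    rw [Finset.mem_union, not_or] at hxn
    have hx' : IsSemi (x : SL₂) := (Finset.mem_filter.mp hx).2
    obtain ⟨d₃, hd₃, -, hS3⟩ := hcls x hx'
    have hle := Finset.card_le_card (Finset.union_subset (Finset.union_subset (hsub h hh) (hsub x₂ hx₂')) (hsub x hx'))
    rw [Finset.card_union_of_disjoint (Finset.disjoint_union_left.mpr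
      ⟨disjoint_torusClass hh hx' hxn.1, disjoint_torusClass hx₂' hx' hxn.2⟩),
      Finset.card_union_of_disjoint hd12] at hle
    have hle' : (S₁.card : ℤ) + S₂.card + (torusClass x).card ≤ Semi.card := by exact_mod_cast hle
    have b2 : (n : ℤ) * u * e₁ ≤ 2 * S₂.card := by
      refine le_of_mul_le_mul_right ?_ (show (0 : ℤ) < d by exact_mod_cast (by omega : 0 < d))
      have : (2 : ℤ) ≤ d := by exact_mod_cast hd2
      nlinarith
    have b3 : (n : ℤ) * u * e₁ ≤ 2 * (torusClass x).card := by
      refine le_of_mul_le_mul_right ?_ (show (0 : ℤ) < d₃ by exact_mod_cast (by omega : 0 < d₃))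
      have : (2 : ℤ) ≤ d₃ := by exact_mod_cast hd₃
      nlinarith
    have : (3 : ℤ) ≤ u := by exact_mod_cast hu3
    nlinarith
  have hkey : (d : ℤ) * ((n : ℤ) * u - 2 * n + 2) = n * u * e₁ := by
    have hsum : (S₁.card : ℤ) + S₂.card = Semi.card := by
      rw [← hall, Finset.card_union_of_disjoint hd12]; push_cast; rfl
    rw [hS1', hSemi'] at hsum
    linear_combination (d : ℤ) * hsum - hS2
  rcases count_arith hu3 he2 heu hn hkey with rfl | ⟨hu, he', hn'⟩
  · -- every other Sylow subgroup lies in the orbit of `W`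
    set g := w * a * w⁻¹
    have hgt : tr (g : SL₂) = 2 := by simp only [g, Subgroup.coe_mul, Subgroup.coe_inv, tr_conj, ha]
    have hgP : g • P ≠ P := by
      intro e
      have hgP := mem_sylow_of_normalizer P hgt (smul_eq_self_iff.mp e)
      exact hwN (mem_normalizer_of_commute hodd P haP ha1 (commute_in_pGroup hodd P.isPGroup' hgP haP))
    have hR : R = ∅ := Finset.card_eq_zero.mp (by rw [hk, mul_zero])
    have horb : g • P ∈ MulAction.orbit N W := by
      by_contra hno
      have : g • P ∈ R := Finset.mem_filter.mpr ⟨Finset.mem_univ _, hgP, hno⟩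
      rw [hR] at this
      exact Finset.notMem_empty _ this
    obtain ⟨v, hv, hvW⟩ := (horbW _ horb).2
    have hvt := tr_of_pGroup hodd P.isPGroup' hv
    refine ⟨v, g, 1, one_ne_zero, hvt, hgt, ?_⟩
    have hmem : g⁻¹ * v * w ∈ N := by
      rw [← smul_eq_self_iff, mul_smul, mul_smul, hvW, inv_smul_smul]
    have h3 := tr_eq_three h2 ha ha1' (fun hc => hwN ((hNiff w).mpr hc)) hvt
      (commute_coe.mpr (commute_in_pGroup hodd P.isPGroup' hv haP)) (by
        have := (hNiff _).mp hmem
        simpa only [g, Subgroup.coe_mul, Subgroup.coe_inv] using this)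
    simp only [g, Subgroup.coe_mul, Subgroup.coe_inv]
    rw [h3, map_one]
    norm_num
  · -- a group of order `120`
    exfalso
    subst he'
    have hd5 : d = 5 := by
      rw [hu, hn'] at hkey
      push_cast at hkey
      omega
    have hp3 : p = 3 := by
      have : p ∣ 3 := by
        rw [← hu, show u = p ^ i from hi]
        exact dvd_pow_self p (by rintro rfl; rw [pow_zero] at hi; omega)
      exact (Nat.prime_dvd_prime_iff_eq hp.out Nat.prime_three).mp this
    set Q := Subgroup.normalizer (T : Set H)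
    have hQ8 : Nat.card Q = 8 := by rw [hH.card_normalizer_torus hh, he]
    have hwQ : w ∈ Q := (hH.mem_normalizer_torus_iff hh hw).mpr (Or.inr (by simp))
    have hhQ : h ∈ Q := Subgroup.le_normalizer (mem_centralizer_self' h)
    have hsc_T : ∀ x : H, IsScalar (x : SL₂) → x ∈ T := fun x hx =>
      mem_centralizer_iff'.mpr (commute_coe.mp (hx.commute _).symm)
    have hws : ¬ IsScalar (w : SL₂) := fun hs => hH.not_mem_torus hh hw (hsc_T w hs)
    have hwsemi : IsSemi (w : SL₂) := ⟨hws, by
      rw [(mul_self_eq_neg_one hws).mp hww]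
      intro e
      exact mul_ne_zero h2 h2 (by linear_combination -e)⟩
    have hord : ∀ x : H, x * x = z → orderOf x = 2 ^ 2 := fun x hx =>
      orderOf_eq_prime_pow (by rw [pow_one, sq, hx]; exact hz1)
        (by rw [show 2 ^ (1 + 1) = 2 * 2 by norm_num, pow_mul, sq, sq, hx, hzz])
    have hw1 : w ∈ S₁ := by
      by_contra hw1
      have hwS : w ∈ S₂ := by
        have : w ∈ S₁ ∪ S₂ := by rw [hall]; exact Finset.mem_filter.mpr ⟨Finset.mem_univ _, hwsemi⟩
        exact (Finset.mem_union.mp this).resolve_left hw1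
      obtain ⟨g, t, ht, -, e⟩ := mem_torusClass.mp hwS
      have h4 : orderOf t = 2 ^ 2 := by
        rw [← hord w hzdef.symm, ← e]
        exact ((MulAut.conj g).orderOf_eq t).symm
      have := Subgroup.orderOf_dvd_natCard _ ht
      rw [h4, hdc, hd5] at this
      omega
    obtain ⟨g, t, ht, hts, hgt⟩ := mem_torusClass.mp hw1
    have hhh : h * h = z := by
      have hm : h * h ∈ T := mul_mem (mem_centralizer_self' h) (mem_centralizer_self' h)
      have h4 := orderOf_dvd_natCard (⟨h, mem_centralizer_self' h⟩ : T)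
      rw [Subgroup.orderOf_mk, he, orderOf_dvd_iff_pow_eq_one] at h4
      have hsq : IsScalar ((h * h : H) : SL₂) := by
        rw [Subgroup.coe_mul]
        refine mul_self_eq_one h2 ?_
        rw [← Subgroup.coe_mul, ← Subgroup.coe_mul, show h * h * (h * h) = h ^ (2 * 2) by rw [pow_mul, sq, sq], h4,
          Subgroup.coe_one]
      rcases (hzs _).mp hsq with e | e
      · exact absurd (mul_self_eq_one h2 (by rw [← Subgroup.coe_mul, e, Subgroup.coe_one])) hh.1
      · exact e
    have hhw : h * w * h⁻¹ = w⁻¹ := by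
      have hwi : w⁻¹ = z * w :=
        inv_eq_of_mul_eq_one_right (by rw [← mul_assoc, ← (hzc w).eq, mul_assoc, ← hzdef, hzz])
      have e : w * h⁻¹ * w⁻¹ = h := by
        rw [show w * h⁻¹ * w⁻¹ = (w * h * w⁻¹)⁻¹ by group, hw, inv_inv]
      calc h * w * h⁻¹ = h * (w * h⁻¹ * w⁻¹) * w := by group
        _ = h * h * w := by rw [e]
        _ = w⁻¹ := by rw [hhh, hwi]
    -- `g` normalizes `Q`
    set T' := Subgroup.centralizer ({w} : Set H)
    have hQle : Q ≤ Subgroup.normalizer (T' : Set H) := by
      intro q hq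
      have hwi : ¬ IsScalar ((w⁻¹ : H) : SL₂) := fun hs => hws (by
        have := hs.inv
        rwa [Subgroup.coe_inv, inv_inv] at this)
      have hhT' : h ∈ Subgroup.normalizer (T' : Set H) := mem_normalizer_torus hws (mem_centralizer_self' w) hws
        (inv_mem (mem_centralizer_self' w)) hwi hhw
      have hTle : T ≤ Subgroup.normalizer (T' : Set H) := by
        intro x hx
        have hsub : ({1, z, h, z * h} : Finset H) = Finset.univ.filter (· ∈ T) := by
          refine Finset.eq_of_subset_of_card_le ?_ ?_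
          · intro y hy
            simp only [Finset.mem_insert, Finset.mem_singleton] at hy
            rcases hy with rfl | rfl | rfl | rfl <;>
              simp [one_mem, hzT, T, mem_centralizer_self', mul_mem]
          · rw [← Fintype.card_subtype, ← Nat.card_eq_fintype_card]
            change Nat.card T ≤ _
            rw [he]
            have hhs := fun e => hh.1 ((hzs h).mpr e)
            rw [Finset.card_insert_of_notMem, Finset.card_insert_of_notMem, Finset.card_pair]
            · exact fun e => hz1 (mul_eq_right.mp e.symm)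
            · simp only [Finset.mem_insert, Finset.mem_singleton]
              rintro (e | e)
              · exact hhs (Or.inr e.symm)
              · exact hhs (Or.inl (mul_eq_left.mp e.symm))
            · simp only [Finset.mem_insert, Finset.mem_singleton]
              rintro (e | e | e)
              · exact hz1 e.symm
              · exact hhs (Or.inl e.symm)
              · exact hhs (Or.inr (mul_left_cancel (a := z) (by rw [← e, hzz])))
        have : x ∈ ({1, z, h, z * h} : Finset H) := by rw [hsub]; simpa using hx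
        simp only [Finset.mem_insert, Finset.mem_singleton] at this
        have hzN : z ∈ Subgroup.normalizer (T' : Set H) :=
          Subgroup.le_normalizer (mem_centralizer_iff'.mpr (hzc w).symm)
        rcases this with rfl | rfl | rfl | rfl
        · exact one_mem _
        · exact hzN
        · exact hhT'
        · exact mul_mem hzN hhT'
      rcases (hH.mem_normalizer_torus_iff hh hw).mp hq with hq | hq
      · exact hTle hq
      · have := mul_mem (Subgroup.le_normalizer (mem_centralizer_self' w)) (hTle hq)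
        rwa [mul_inv_cancel_left] at this
    have hconjT : ∀ v : H, v ∈ T ↔ g * v * g⁻¹ ∈ T' := fun v => by
      rw [show T = Subgroup.centralizer ({t} : Set H) from centralizer_eq hh.1 hts (mem_centralizer_iff'.mp ht)]
      show v ∈ Subgroup.centralizer ({t} : Set H) ↔ g * v * g⁻¹ ∈ Subgroup.centralizer ({w} : Set H)
      rw [mem_centralizer_iff', mem_centralizer_iff', ← hgt, centralizer_conj_iff]
    have hconjQ : ∀ q : H, q ∈ Q → g * q * g⁻¹ ∈ Subgroup.normalizer (T' : Set H) := by
      intro q hq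
      rw [Subgroup.mem_normalizer_iff]
      intro v
      have e1 : v ∈ T' ↔ g⁻¹ * v * g ∈ T := by
        rw [hconjT]; rw [show g * (g⁻¹ * v * g) * g⁻¹ = v by group]
      rw [e1, Subgroup.mem_normalizer_iff.mp hq, hconjT]
      rw [show g * (q * (g⁻¹ * v * g) * q⁻¹) * g⁻¹ = g * q * g⁻¹ * v * (g * q * g⁻¹)⁻¹ by group]
    have hT'card : Nat.card T' = Nat.card T :=
      (Nat.card_congr ((MulAut.conj g).toEquiv.subtypeEquiv (fun v => hconjT v))).symm
    have hQ' : Q = Subgroup.normalizer (T' : Set H) :=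
      Subgroup.eq_of_le_of_card_ge hQle (by rw [hH.card_normalizer_torus hwsemi, hH.card_normalizer_torus hh, hT'card])
    set M := Subgroup.normalizer (Q : Set H)
    have hgM : g ∈ M := by
      rw [mem_normalizer_iff_smul]
      refine Subgroup.eq_of_le_of_card_ge ?_ (card_conj_smul g Q).ge
      intro x hx
      rw [mem_smul_conj] at hx
      have := hconjQ _ hx
      rw [← hQ', show g * (g⁻¹ * x * g) * g⁻¹ = x by group] at this
      exact this
    have hgQ : g ∉ Q := fun hgQ => by
      have := mem_conj_normalizer hgQ ht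
      rw [hgt] at this
      exact hH.not_mem_torus hh hw this
    have hM24 : Nat.card M = 24 := by
      have h8 : 8 ∣ Nat.card M := hQ8 ▸ Subgroup.card_dvd_of_le Subgroup.le_normalizer
      have hne : Nat.card M ≠ 8 := fun e => hgQ (by
        rw [Subgroup.eq_of_le_of_card_ge (Subgroup.le_normalizer (H := Q)) (by rw [e, hQ8])]
        exact hgM)
      have h120 : Nat.card M ∣ 120 := by
        have := M.card_subgroup_dvd_card
        rwa [hcardH, hn', hu] at this
      have hle : Nat.card M ≤ 24 := by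
        have h1 := Finset.card_le_mul_card_image (f := fun m : H => m * h * m⁻¹)
          (Finset.univ.filter (· ∈ M)) 4 (by
            intro b hb
            obtain ⟨m₀, hm₀, rfl⟩ := Finset.mem_image.mp hb
            refine le_trans (Finset.card_le_card (t := (Finset.univ.filter (· ∈ T)).image (m₀ * ·)) ?_) ?_
            · intro m hm
              simp only [Finset.mem_filter, Finset.mem_univ, true_and] at hm
              refine Finset.mem_image.mpr ⟨m₀⁻¹ * m, ?_, mul_inv_cancel_left m₀ m⟩
              simp only [Finset.mem_filter, Finset.mem_univ, true_and]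
              refine mem_centralizer_iff'.mpr ?_
              show h * (m₀⁻¹ * m) = m₀⁻¹ * m * h
              calc h * (m₀⁻¹ * m) = m₀⁻¹ * (m₀ * h * m₀⁻¹) * m := by group
                _ = m₀⁻¹ * (m * h * m⁻¹) * m := by rw [hm.2]
                _ = m₀⁻¹ * m * h := by group
            · refine Finset.card_image_le.trans ?_
              rw [← Fintype.card_subtype, ← Nat.card_eq_fintype_card]
              change Nat.card T ≤ 4
              omega)
        have h2' : ((Finset.univ.filter (· ∈ M)).image fun m : H => m * h * m⁻¹) ⊆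
            Finset.univ.filter (· ∈ Q) \ {1, z} := by
          intro b hb
          obtain ⟨m, hm, rfl⟩ := Finset.mem_image.mp hb
          simp only [Finset.mem_filter, Finset.mem_univ, true_and] at hm
          simp only [Finset.mem_sdiff, Finset.mem_filter, Finset.mem_univ, true_and, Finset.mem_insert,
            Finset.mem_singleton]
          exact ⟨mem_conj_normalizer hm hhQ, fun e => hh.1 (isScalar_conj.mp ((hzs _).mpr e))⟩
        have h3 := Finset.card_le_card h2'
        have h4 : ({1, z} : Finset H) ⊆ Finset.univ.filter (· ∈ Q) := by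
          intro b hb
          simp only [Finset.mem_insert, Finset.mem_singleton] at hb
          rcases hb with rfl | rfl
          · simp [one_mem]
          · simpa using Subgroup.le_normalizer hzT
        rw [Finset.card_sdiff_of_subset h4, Finset.card_pair (Ne.symm hz1), ← Fintype.card_subtype,
          ← Nat.card_eq_fintype_card] at h3
        change _ ≤ Nat.card Q - 2 at h3
        rw [← Fintype.card_subtype, ← Nat.card_eq_fintype_card] at h1
        change Nat.card M ≤ _ at h1
        omega
      obtain ⟨c, hc⟩ := h8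
      have hpos : 0 < Nat.card M := Nat.card_pos
      rcases (show c = 1 ∨ c = 2 ∨ c = 3 by omega) with rfl | rfl | rfl
      · omega
      · rw [hc] at h120; norm_num at h120
      · omega
    obtain ⟨r, hr⟩ := exists_prime_orderOf_dvd_card' p (show p ∣ Nat.card M by rw [hM24, hp3]; norm_num)
    have hr1 : (r : H) ≠ 1 := fun e => by
      rw [← Subgroup.orderOf_coe, e, orderOf_one] at hr
      exact hp.out.ne_one hr.symm
    have hrt : tr ((r : H) : SL₂) = 2 := tr_eq_two_of_pPower p hodd (k := 1) (by
      rw [pow_one, ← SubmonoidClass.coe_pow, ← hr, ← Subgroup.orderOf_coe, pow_orderOf_eq_one, Subgroup.coe_one])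
    have hMtop : M ≠ ⊤ := fun e => by
      rw [e, Subgroup.card_top, hcardH, hn', hu] at hM24
      norm_num at hM24
    obtain ⟨V, hV⟩ := (IsPGroup.of_card (G := Subgroup.zpowers (r : H)) (n := 1)
      (by rw [Nat.card_zpowers, orderOf_of_tr hrt hr1, pow_one])).exists_le_sylow
    have hQV : Q ≤ Subgroup.normalizer ((V : Subgroup H) : Set H) := fun q hq =>
      mem_normalizer_of_commute hodd V (hV (Subgroup.mem_zpowers _)) hr1
        (hH.minimal M hMtop _ (mul_mem (mul_mem (Subgroup.le_normalizer hq) r.2)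
          (inv_mem (Subgroup.le_normalizer hq))) _ r.2
          (by simp only [Subgroup.coe_mul, Subgroup.coe_inv, tr_conj]; exact hrt) hrt)
    have h12 : Nat.card (Subgroup.normalizer ((V : Subgroup H) : Set H)) = 12 := by
      have e := Subgroup.card_mul_index (Subgroup.normalizer ((V : Subgroup H) : Set H))
      have e' : n = (Subgroup.normalizer ((V : Subgroup H) : Set H)).index := V.card_eq_index_normalizer
      rw [← e', hcardH] at e
      rw [hn', hu] at e
      omega
    have := Subgroup.card_dvd_of_le hQV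
    rw [hQ8, h12] at this
    norm_num at this

end Cfsg.Agent.Grp.SL2
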