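import Mathlib
import Cfsg.Agent.Lib.Grp.SL2Count

/-!
Two non-commuting unipotent elements of `SL(2, F)` generate a group containing a copy of `SL(2, p)`.
-/

set_option autoImplicit false
set_option linter.unusedSectionVars false

namespace Cfsg.Agent.Grp.SL2

variable {F : Type*} [Field F] [Fintype F]

local notation "SL₂" => Matrix.SpecialLinearGroup (Fin 2) F

variable {p : ℕ} [hp : Fact p.Prime] [CharP F p]

/-- A subgroup with two non-commuting unipotent elements contains a conjugate of `SL(2, p)`. -/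
theorem exists_std_of_pair (hodd : p ≠ 2) (H : Subgroup (Matrix.SpecialLinearGroup (Fin 2) F)) {a b : SL₂}
    (haH : a ∈ H) (hbH : b ∈ H) (ha : tr a = 2) (hb : tr b = 2) (hab : ¬ Commute a b) :
    ∃ (P : Matrix (Fin 2) (Fin 2) F) (hP : IsUnit P.det), (primeHom F p).range.map (conjHom P hP) ≤ H := by
  induction hn : Nat.card H using Nat.strong_induction_on generalizing H a b with
  | _ n ih =>
    by_cases hmin : MinPair p H
    · obtain ⟨a', b', k, hk, ha', hb', htr⟩ : ∃ (a b : H) (k : ZMod p), k ≠ 0 ∧ tr (a : SL₂) = 2 ∧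
          tr (b : SL₂) = 2 ∧ tr ((a : SL₂) * (b : SL₂)) = 2 + ZMod.castHom (dvd_refl p) F k := by
        by_cases hs : ∃ (P : Sylow p H) (g : H),
            g ∈ Subgroup.normalizer ((P : Subgroup H) : Set H) ∧ IsSemi (g : SL₂)
        · obtain ⟨P, g, hg, hgs⟩ := hs
          exact hmin.good_of_semi P hg hgs
        · exact hmin.good_of_no_semi fun P g hg hgs => hs ⟨P, g, hg, hgs⟩
      obtain ⟨P, hP, hle⟩ := exists_conj_std hodd ha' hb' k hk htr
      refine ⟨P, hP, hle.trans ((Subgroup.closure_le H).mpr ?_)⟩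
      rintro x (rfl | rfl)
      · exact a'.2
      · exact b'.2
    · have hpair : ∃ a b : H, tr (a : SL₂) = 2 ∧ tr (b : SL₂) = 2 ∧ ¬ Commute a b :=
        ⟨⟨a, haH⟩, ⟨b, hbH⟩, ha, hb, fun h => hab (congrArg Subtype.val h.eq)⟩
      have hnot : ¬ ∀ M : Subgroup H, M ≠ ⊤ → ∀ a ∈ M, ∀ b ∈ M,
          tr (a : SL₂) = 2 → tr (b : SL₂) = 2 → Commute a b := fun h => hmin ⟨hodd, hpair, h⟩
      push Not at hnot
      obtain ⟨M, hM, a', ha'M, b', hb'M, ha', hb', hab'⟩ := hnot
      have hlt : Nat.card (M.map H.subtype) < n := by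
        rw [Subgroup.card_map_of_injective H.subtype_injective, ← hn]
        exact lt_of_le_of_ne (Subgroup.card_le_card_group M) fun e => hM (Subgroup.eq_top_of_card_eq M e)
      obtain ⟨P, hP, hle⟩ := ih _ hlt (M.map H.subtype) (Subgroup.mem_map_of_mem _ ha'M)
        (Subgroup.mem_map_of_mem _ hb'M) ha' hb' (fun h => hab' (Subtype.ext h.eq)) rfl
      exact ⟨P, hP, hle.trans (Subgroup.map_subtype_le M)⟩

/-- A subgroup with two non-commuting unipotent elements contains `SL(2, p)`. -/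
theorem exists_equiv_of_pair (hodd : p ≠ 2) (H : Subgroup (Matrix.SpecialLinearGroup (Fin 2) F)) {a b : SL₂}
    (haH : a ∈ H) (hbH : b ∈ H) (ha : tr a = 2) (hb : tr b = 2) (hab : ¬ Commute a b) :
    ∃ K : Subgroup (Matrix.SpecialLinearGroup (Fin 2) F),
      K ≤ H ∧ Nonempty (K ≃* Matrix.SpecialLinearGroup (Fin 2) (ZMod p)) := by
  obtain ⟨P, hP, hle⟩ := exists_std_of_pair hodd H haH hbH ha hb hab
  refine ⟨_, hle, ⟨?_⟩⟩
  exact ((Subgroup.equivMapOfInjective _ _ (conjHom_injective P hP)).symm.trans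
    (MonoidHom.ofInjective (primeHom_injective (F := F) p)).symm)

end Cfsg.Agent.Grp.SL2
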