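import Mathlib
import Cfsg.Agent.Lib.Grp.SL2Core

/-!
Two endomorphisms acting quadratically: irreducible modules are natural modules for subgroups of
`SL(2)` containing `SL(2, p)`.
-/

set_option autoImplicit false
set_option linter.unusedSectionVars false

universe u v

namespace Cfsg.Agent.Grp.Quad

open Matrix SL2

variable {Γ : Type v} [Group Γ] {W : Type u} [AddCommGroup W]

section Field

variable {K : Type*} [Field K] [Module K W]

/-- An irreducible module with two quadratic generators, the sum of whose two products is scalar,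
is two dimensional. -/
theorem rank_two (ρ : Γ →* Module.End K W) {a b : Γ} (hgen : Subgroup.closure {a, b} = ⊤)
    (ha : ∀ w, ρ a (ρ a w - w) = ρ a w - w) (hb : ∀ w, ρ b (ρ b w - w) = ρ b w - w)
    (hirr : ∀ U : Submodule K W, (∀ g, ∀ x ∈ U, ρ g x ∈ U) → U = ⊥ ∨ U = ⊤)
    (hnt : ∃ g w, ρ g w ≠ w) (s : K)
    (hs : ∀ w, (ρ a (ρ b w - w) - (ρ b w - w)) + (ρ b (ρ a w - w) - (ρ a w - w)) = s • w) :
    ∃ (e : W ≃ₗ[K] (Fin 2 → K)) (φ : Γ →* Matrix.SpecialLinearGroup (Fin 2) K),
      φ a = up s ∧ φ b = low 1 ∧ s ≠ 0 ∧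
        ∀ g w, e (ρ g w) = (φ g : Matrix (Fin 2) (Fin 2) K) *ᵥ e w := by
  classical
  obtain ⟨g₀, w₀, hw₀⟩ := hnt
  have hw0 : w₀ ≠ 0 := fun e => hw₀ (by rw [e, map_zero])
  -- invariance needs checking only on the two generators
  have hinv : ∀ U : Submodule K W, Finite W ∨ True → (∀ x ∈ U, ρ a x ∈ U) → (∀ x ∈ U, ρ b x ∈ U) →
      (∀ x ∈ U, ρ a⁻¹ x ∈ U) → (∀ x ∈ U, ρ b⁻¹ x ∈ U) → U = ⊥ ∨ U = ⊤ := by
    intro U _ h1 h2 h3 h4
    refine hirr U fun g => ?_
    have hg : g ∈ Subgroup.closure ({a, b} : Set Γ) := hgen ▸ Subgroup.mem_top g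
    induction hg using Subgroup.closure_induction_left with
    | one => simp
    | mul_left x hx y hy ih =>
      intro u hu
      rw [map_mul, Module.End.mul_apply]
      rcases hx with rfl | rfl
      · exact h1 _ (ih u hu)
      · exact h2 _ (ih u hu)
    | inv_mul_cancel x hx y hy ih =>
      intro u hu
      rw [map_mul, Module.End.mul_apply]
      rcases hx with rfl | rfl
      · exact h3 _ (ih u hu)
      · exact h4 _ (ih u hu)
  have hinvact : ∀ c : Γ, (∀ w, ρ c (ρ c w - w) = ρ c w - w) → ∀ w, ρ c⁻¹ w = w - (ρ c w - w) := by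
    intro c hc w
    have h : ρ c (w - (ρ c w - w)) = w := by rw [map_sub, hc]; abel
    conv_lhs => rw [← h]
    rw [← Module.End.mul_apply, ← map_mul, inv_mul_cancel, map_one, Module.End.one_apply]
  have hinv' : ∀ U : Submodule K W, (∀ x ∈ U, ρ a x ∈ U) → (∀ x ∈ U, ρ b x ∈ U) → U = ⊥ ∨ U = ⊤ :=
    fun U h1 h2 => hinv U (Or.inr trivial) h1 h2
      (fun x hx => by rw [hinvact a ha]; exact U.sub_mem hx (U.sub_mem (h1 x hx) hx))
      (fun x hx => by rw [hinvact b hb]; exact U.sub_mem hx (U.sub_mem (h2 x hx) hx))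
  have htriv : ∀ v : W, v ≠ 0 → ρ a v = v → ρ b v = v → Submodule.span K {v} = ⊤ ∧ False := by
    intro v hv hav hbv
    have hU : Submodule.span K {v} = ⊤ := (hinv' _
      (fun x hx => by
        obtain ⟨c, rfl⟩ := Submodule.mem_span_singleton.mp hx
        rw [map_smul, hav]; exact hx)
      (fun x hx => by
        obtain ⟨c, rfl⟩ := Submodule.mem_span_singleton.mp hx
        rw [map_smul, hbv]; exact hx)).resolve_left (by simpa [Submodule.span_singleton_eq_bot] using hv)
    refine ⟨hU, hw₀ ?_⟩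
    have hfix : ∀ c : Γ, ρ c v = v := fun c => by
      have hc : c ∈ Subgroup.closure ({a, b} : Set Γ) := hgen ▸ Subgroup.mem_top c
      induction hc using Subgroup.closure_induction with
      | mem x hx => rcases hx with rfl | rfl <;> assumption
      | one => simp
      | mul x y _ _ hx hy => rw [map_mul, Module.End.mul_apply, hy, hx]
      | inv x _ hx =>
        conv_lhs => rw [← hx]
        rw [← Module.End.mul_apply, ← map_mul, inv_mul_cancel, map_one, Module.End.one_apply]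
    obtain ⟨c, rfl⟩ := Submodule.mem_span_singleton.mp (hU ▸ Submodule.mem_top : w₀ ∈ Submodule.span K {v})
    rw [map_smul, hfix]
  obtain ⟨v, hv0, hav⟩ : ∃ v : W, v ≠ 0 ∧ ρ a v = v := by
    by_cases h : ∀ w, ρ a w = w
    · exact ⟨w₀, hw0, h w₀⟩
    · push Not at h
      obtain ⟨w, hw⟩ := h
      exact ⟨_, sub_ne_zero.mpr hw, ha w⟩
  set w := ρ b v - v with hwdef
  have hbv : ρ b v = v + w := by rw [hwdef]; abel
  have hbw : ρ b w = w := hb v
  have haw : ρ a w = s • v + w := by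
    have := hs v
    rw [hav, sub_self, map_zero, sub_self, add_zero, ← hwdef, sub_eq_iff_eq_add] at this
    exact this
  have hwne : w ≠ 0 := fun e => (htriv v hv0 hav (by rw [hbv, e, add_zero])).2
  have hind : ∀ c₀ c₁ : K, c₀ • v + c₁ • w = 0 → c₀ = 0 ∧ c₁ = 0 := by
    intro c₀ c₁ h
    have h' := congrArg (ρ b) h
    rw [map_add, map_smul, map_smul, hbv, hbw, map_zero, smul_add, add_right_comm, h, zero_add] at h'
    have hc₀ : c₀ = 0 := (smul_eq_zero.mp h').resolve_right hwne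
    rw [hc₀, zero_smul, zero_add] at h
    exact ⟨hc₀, (smul_eq_zero.mp h).resolve_right hwne⟩
  let f : (Fin 2 → K) →ₗ[K] W :=
    { toFun := fun c => c 0 • v + c 1 • w
      map_add' := fun x y => by simp [add_smul]; abel
      map_smul' := fun t x => by simp [smul_add, smul_smul] }
  have hf : ∀ c, f c = c 0 • v + c 1 • w := fun c => rfl
  have hfinj : Function.Injective f := by
    refine (injective_iff_map_eq_zero f).mpr fun c hc => ?_
    obtain ⟨h0, h1⟩ := hind _ _ ((hf c).symm.trans hc)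
    funext i; fin_cases i <;> assumption
  have hfa : ∀ c, ρ a (f c) = f (up s *ᵥ c : Fin 2 → K) := by
    intro c
    simp only [hf, map_add, map_smul, hav, haw]
    simp [up, Matrix.mulVec, dotProduct, Fin.sum_univ_two, smul_add, add_smul, smul_smul, mul_comm s]
    abel
  have hfb : ∀ c, ρ b (f c) = f (low (1 : K) *ᵥ c : Fin 2 → K) := by
    intro c
    simp only [hf, map_add, map_smul, hbv, hbw]
    simp [low, Matrix.mulVec, dotProduct, Fin.sum_univ_two, smul_add, add_smul]
    abel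
  have hfsurj : Function.Surjective f := LinearMap.range_eq_top.mp <|
    (hinv' _ (by rintro _ ⟨c, rfl⟩; exact ⟨_, (hfa c).symm⟩)
      (by rintro _ ⟨c, rfl⟩; exact ⟨_, (hfb c).symm⟩)).resolve_left fun h => hv0 (by
      have hmem : f ![1, 0] ∈ LinearMap.range f := LinearMap.mem_range_self _ _
      rw [h, Submodule.mem_bot, hf] at hmem
      simpa using hmem)
  let e : W ≃ₗ[K] (Fin 2 → K) := (LinearEquiv.ofBijective f ⟨hfinj, hfsurj⟩).symm
  have hef : ∀ c, e (f c) = c := fun c => (LinearEquiv.ofBijective f ⟨hfinj, hfsurj⟩).symm_apply_apply c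
  have hfe : ∀ x, f (e x) = x := fun x => (LinearEquiv.ofBijective f ⟨hfinj, hfsurj⟩).apply_symm_apply x
  let M : Γ →* Matrix (Fin 2) (Fin 2) K :=
    { toFun := fun g => LinearMap.toMatrixAlgEquiv' (e.toLinearMap ∘ₗ ρ g ∘ₗ f)
      map_one' := by
        rw [← map_one (LinearMap.toMatrixAlgEquiv' (R := K) (n := Fin 2))]
        congr 1
        refine LinearMap.ext fun c => ?_
        simp [hef]
      map_mul' := fun g g' => by
        rw [← map_mul]
        congr 1
        refine LinearMap.ext fun c => ?_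
        simp [hfe] }
  have hM : ∀ g x, e (ρ g x) = M g *ᵥ e x := by
    intro g x
    show _ = LinearMap.toMatrixAlgEquiv' _ *ᵥ _
    rw [← Matrix.toLinAlgEquiv'_apply, Matrix.toLinAlgEquiv'_toMatrixAlgEquiv']
    simp [hfe]
  have hMeq : ∀ g (X : Matrix (Fin 2) (Fin 2) K), (∀ c, ρ g (f c) = f (X *ᵥ c)) → M g = X := by
    intro g X h
    refine Matrix.ext_iff_mulVec.mpr fun c => ?_
    have := hM g (f c)
    rw [hef, h, hef] at this
    exact this.symm
  have hMa := hMeq a _ hfa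
  have hMb := hMeq b _ hfb
  have hdet : ∀ g, (M g).det = 1 := fun g => by
    have hg : g ∈ Subgroup.closure ({a, b} : Set Γ) := hgen ▸ Subgroup.mem_top g
    induction hg using Subgroup.closure_induction with
    | mem x hx =>
      rcases hx with rfl | rfl
      · rw [hMa]; exact (up s).2
      · rw [hMb]; exact (low (1 : K)).2
    | one => simp
    | mul x y _ _ hx hy => rw [map_mul, Matrix.det_mul, hx, hy, one_mul]
    | inv x _ hx =>
      have := congrArg Matrix.det (map_mul M x⁻¹ x)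
      rw [inv_mul_cancel, map_one, Matrix.det_one, Matrix.det_mul, hx, mul_one] at this
      exact this.symm
  refine ⟨e, MonoidHom.mk' (fun g => ⟨M g, hdet g⟩) (fun g g' => Subtype.ext (map_mul M g g')),
    Subtype.ext hMa, Subtype.ext hMb, fun hs0 => ?_, fun g x => hM g x⟩
  obtain ⟨hU, hF⟩ := htriv w hwne (by rw [haw, hs0, zero_smul, zero_add]) hbw
  exact hF

end Field

variable {p : ℕ} [hp : Fact p.Prime] [Module (ZMod p) W] [Finite W]

/-- An irreducible module over the prime field with two quadratic generators. -/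
theorem exists_sl_two (hodd : p ≠ 2) (ρ : Γ →* Module.End (ZMod p) W) {a b : Γ}
    (hgen : Subgroup.closure {a, b} = ⊤)
    (ha : ∀ w, ρ a (ρ a w - w) = ρ a w - w) (hb : ∀ w, ρ b (ρ b w - w) = ρ b w - w)
    (hirr : ∀ U : Submodule (ZMod p) W, (∀ g, ∀ x ∈ U, ρ g x ∈ U) → U = ⊥ ∨ U = ⊤)
    (hnt : ∃ g w, ρ g w ≠ w) :
    ∃ (K : Type u) (_ : Field K) (_ : Fintype K) (_ : CharP K p) (φ : Γ →* Matrix.SpecialLinearGroup (Fin 2) K)
      (P : Matrix (Fin 2) (Fin 2) K) (hP : IsUnit P.det),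
      (∀ g, φ g = 1 → ρ g = 1) ∧ tr (φ a) = 2 ∧ tr (φ b) = 2 ∧ ¬ Commute (φ a) (φ b) ∧
      (primeHom K p).range.map (SL2.conjHom P hP) ≤ φ.range ∧
      ∃ (V : Submodule (ZMod p) W) (ψ : V →ₗ[ZMod p] (Fin 2 → ZMod p)), Function.Surjective ψ ∧
        ∀ A : Matrix.SpecialLinearGroup (Fin 2) (ZMod p), ∃ g, ∃ hg : ∀ x ∈ V, ρ g x ∈ V,
          ∀ x : V, ψ ⟨ρ g x, hg x x.2⟩ = (A : Matrix (Fin 2) (Fin 2) (ZMod p)) *ᵥ ψ x := by
  classical
  obtain ⟨g₀, w₀, hw₀⟩ := hnt
  have hw0 : w₀ ≠ 0 := fun e => hw₀ (by rw [e, map_zero])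
  set S : Module.End (ZMod p) W := (ρ a - 1) * (ρ b - 1) + (ρ b - 1) * (ρ a - 1) with hS
  have hq : ∀ c, (∀ w, ρ c (ρ c w - w) = ρ c w - w) → (ρ c - 1) * (ρ c - 1) = 0 := fun c hc =>
    LinearMap.ext fun w => by simp [sub_eq_zero, hc w]
  have hSa : Commute (ρ a) S := by
    have h := hq a ha
    have : Commute (ρ a - 1) S := by
      show _ * _ = _ * _
      rw [hS, mul_add, add_mul, ← mul_assoc, h, zero_mul, zero_add, mul_assoc (ρ b - 1), h, mul_zero, add_zero,
        mul_assoc]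
    simpa using this.add_left (Commute.one_left S)
  have hSb : Commute (ρ b) S := by
    have h := hq b hb
    have : Commute (ρ b - 1) S := by
      show _ * _ = _ * _
      rw [hS, mul_add, add_mul, ← mul_assoc (ρ b - 1) (ρ b - 1), h, zero_mul, add_zero, mul_assoc (ρ a - 1), h,
        mul_zero, zero_add, mul_assoc]
    simpa using this.add_left (Commute.one_left S)
  have hSg : ∀ g, Commute (ρ g) S := fun g => by
    have hg : g ∈ Subgroup.closure ({a, b} : Set Γ) := hgen ▸ Subgroup.mem_top g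
    induction hg using Subgroup.closure_induction with
    | mem x hx => rcases hx with rfl | rfl <;> assumption
    | one => simp
    | mul x y _ _ hx hy => rw [map_mul]; exact hx.mul_left hy
    | inv x _ hx =>
      show ρ x⁻¹ * S = S * ρ x⁻¹
      calc ρ x⁻¹ * S = ρ x⁻¹ * (S * ρ x) * ρ x⁻¹ := by
            rw [mul_assoc, mul_assoc, ← map_mul, mul_inv_cancel, map_one, mul_one]
        _ = ρ x⁻¹ * (ρ x * S) * ρ x⁻¹ := by rw [hx.eq]
        _ = S * ρ x⁻¹ := by rw [← mul_assoc, ← map_mul, inv_mul_cancel, map_one, one_mul]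
  let L : Subalgebra (ZMod p) (Module.End (ZMod p) W) := Algebra.adjoin (ZMod p) {S}
  have hLc : ∀ x ∈ L, ∀ g, Commute (ρ g) x := by
    intro x hx g
    have hle : L ≤ Subalgebra.centralizer (ZMod p) {ρ g} := Algebra.adjoin_le (by
      rintro y rfl
      exact Subalgebra.mem_centralizer_iff _ |>.mpr fun z hz => by
        rw [Set.mem_singleton_iff.mp hz]; exact (hSg g).eq)
    exact (Subalgebra.mem_centralizer_iff _).mp (hle hx) _ rfl
  have hLcomm : ∀ x ∈ L, ∀ y ∈ L, x * y = y * x := by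
    have hle : L ≤ Subalgebra.centralizer (ZMod p) {S} := Algebra.adjoin_le (by
      rintro y rfl
      exact Subalgebra.mem_centralizer_iff _ |>.mpr fun z hz => by rw [Set.mem_singleton_iff.mp hz])
    intro x hx y hy
    have hle' : L ≤ Subalgebra.centralizer (ZMod p) {x} := Algebra.adjoin_le (by
      rintro z rfl
      exact Subalgebra.mem_centralizer_iff _ |>.mpr fun w hw => by
        rw [Set.mem_singleton_iff.mp hw]
        exact ((Subalgebra.mem_centralizer_iff _).mp (hle hx) _ rfl).symm)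
    exact (Subalgebra.mem_centralizer_iff _).mp (hle' hy) x rfl
  letI : CommRing L := { (inferInstance : Ring L) with
    mul_comm := fun x y => Subtype.ext (hLcomm x x.2 y y.2) }
  haveI : Nontrivial W := ⟨w₀, 0, hw0⟩
  haveI : Finite (Module.End (ZMod p) W) := Finite.of_injective _ DFunLike.coe_injective
  haveI : NoZeroDivisors L := ⟨fun {x y} hxy => by
    refine or_iff_not_imp_left.mpr fun hx => Subtype.ext (LinearMap.ext fun w => ?_)
    have hk : LinearMap.ker (x : Module.End (ZMod p) W) = ⊥ := by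
      refine (hirr _ fun g z hz => ?_).resolve_right fun h => hx (Subtype.ext (LinearMap.ker_eq_top.mp h))
      rw [LinearMap.mem_ker] at hz ⊢
      rw [← Module.End.mul_apply, ← (hLc x x.2 g).eq, Module.End.mul_apply, hz, map_zero]
    have := congrArg (fun z : L => (z : Module.End (ZMod p) W) w) hxy
    simp at this
    exact LinearMap.ker_eq_bot.mp hk (by simpa using this)⟩
  haveI : IsDomain L := NoZeroDivisors.to_isDomain L
  letI : Field L := (Finite.isDomain_to_isField L).toField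
  letI : Fintype L := Fintype.ofFinite L
  haveI : CharP L p := charP_of_injective_ringHom (algebraMap (ZMod p) L).injective p
  have hsmul : ∀ (x : L) (w : W), x • w = (x : Module.End (ZMod p) W) w := fun x w => rfl
  let ρ' : Γ →* Module.End L W :=
    { toFun := fun g =>
        { toFun := ρ g
          map_add' := map_add _
          map_smul' := fun x w => by
            rw [RingHom.id_apply, hsmul, hsmul, ← Module.End.mul_apply, (hLc x x.2 g).eq, Module.End.mul_apply] }
      map_one' := LinearMap.ext fun w => by simp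
      map_mul' := fun g g' => LinearMap.ext fun w => by simp }
  have hρ' : ∀ g w, ρ' g w = ρ g w := fun g w => rfl
  have hirr' : ∀ U : Submodule L W, (∀ g, ∀ x ∈ U, ρ' g x ∈ U) → U = ⊥ ∨ U = ⊤ := by
    intro U hU
    let U₀ : Submodule (ZMod p) W :=
      { U.toAddSubmonoid with
        smul_mem' := fun c x hx => by
          have : c • x = (algebraMap (ZMod p) L c) • x := by
            rw [hsmul]; simp [Module.algebraMap_end_apply]
          show c • x ∈ U
          rw [this]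
          exact U.smul_mem _ hx }
    rcases hirr U₀ (fun g x hx => hU g x hx) with h | h
    · exact Or.inl (SetLike.ext fun x => (SetLike.ext_iff.mp h x).trans (by simp))
    · exact Or.inr (SetLike.ext fun x => (SetLike.ext_iff.mp h x).trans (by simp))
  obtain ⟨e, φ, hφa, hφb, hs0, hφ⟩ := rank_two ρ' hgen (fun w => ha w) (fun w => hb w) hirr'
    ⟨g₀, w₀, hw₀⟩ ⟨S, Algebra.subset_adjoin rfl⟩ (fun w => by
      rw [hsmul]
      show _ = ((ρ a - 1) * (ρ b - 1) + (ρ b - 1) * (ρ a - 1) : Module.End (ZMod p) W) w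
      simp only [LinearMap.add_apply, Module.End.mul_apply, LinearMap.sub_apply, Module.End.one_apply, hρ'])
  have hta : tr (φ a) = 2 := by rw [hφa]; simp [tr, up]; norm_num
  have htb : tr (φ b) = 2 := by rw [hφb]; simp [tr, low]; norm_num
  have hnc : ¬ Commute (φ a) (φ b) := by
    rw [hφa, hφb]
    intro h
    have h' := congrArg Subtype.val h.eq
    simp only [Matrix.SpecialLinearGroup.coe_mul] at h'
    have := congrFun (congrFun h' 0) 0
    simp [up, low, Matrix.mul_apply, Fin.sum_univ_two] at this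
    exact hs0 this
  obtain ⟨P, hP, hle⟩ := exists_std_of_pair hodd φ.range ⟨a, rfl⟩ ⟨b, rfl⟩ hta htb hnc
  refine ⟨L, inferInstance, inferInstance, inferInstance, φ, P, hP, ?_, hta, htb, hnc, hle, ?_⟩
  · intro g hg
    refine LinearMap.ext fun w => e.injective ?_
    rw [← hρ', hφ, hg, Matrix.SpecialLinearGroup.coe_one, Matrix.one_mulVec, Module.End.one_apply]
  let κ := ZMod.castHom (dvd_refl p) L
  let ι₀ : (Fin 2 → ZMod p) →+ W :=
    { toFun := fun c => e.symm (P *ᵥ (κ ∘ c))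
      map_zero' := by simp [Function.comp_def]
      map_add' := fun c d => by
        rw [show κ ∘ (c + d) = κ ∘ c + κ ∘ d from funext fun i => map_add κ _ _, Matrix.mulVec_add, map_add] }
  let ι := ι₀.toZModLinearMap p
  have hι : ∀ c, ι c = e.symm (P *ᵥ (κ ∘ c)) := fun c => rfl
  have hιi : Function.Injective ι := by
    intro c d h
    rw [hι, hι] at h
    exact funext fun i => ZMod.castHom_injective _
      (congrFun (Matrix.mulVec_injective_iff_isUnit.mpr ((Matrix.isUnit_iff_isUnit_det P).mpr hP)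
        (e.symm.injective h)) i)
  refine ⟨LinearMap.range ι, (LinearEquiv.ofInjective ι hιi).symm.toLinearMap,
    (LinearEquiv.ofInjective ι hιi).symm.surjective, fun A => ?_⟩
  obtain ⟨g, hg⟩ := hle ⟨primeHom L p A, ⟨A, rfl⟩, rfl⟩
  have key : ∀ c, ρ g (ι c) = ι ((A : Matrix (Fin 2) (Fin 2) (ZMod p)) *ᵥ c) := by
    intro c
    refine e.injective ?_
    rw [← hρ', hφ, hι, hι, e.apply_symm_apply, e.apply_symm_apply, hg, SL2.conjHom_coe, Matrix.mulVec_mulVec,
      Matrix.nonsing_inv_mul_cancel_right _ _ hP, ← Matrix.mulVec_mulVec]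
    congr 1
    funext i
    exact (RingHom.map_mulVec κ (A : Matrix (Fin 2) (Fin 2) (ZMod p)) c i).symm
  refine ⟨g, fun x hx => by obtain ⟨c, rfl⟩ := hx; exact ⟨_, (key c).symm⟩, fun x => ?_⟩
  obtain ⟨c, rfl⟩ := (LinearEquiv.ofInjective ι hιi).surjective x
  simp only [LinearEquiv.coe_coe, LinearEquiv.symm_apply_apply]
  rw [LinearEquiv.symm_apply_eq]
  exact Subtype.ext (key c)

omit [Module (ZMod p) W] in
/-- A minimal invariant section on which a given element acts nontrivially. -/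
theorem exists_irred_section {K : Type*} [Field K] [CharP K p] [Module K W] (ρ : Γ →* Module.End K W) {x : Γ}
    (hx : ρ x ≠ 1) (hxp : (orderOf x).Coprime p) :
    ∃ T U : Submodule K W, U < T ∧ (∀ g, ∀ v ∈ T, ρ g v ∈ T) ∧ (∀ g, ∀ v ∈ U, ρ g v ∈ U) ∧
      (∀ X : Submodule K W, U ≤ X → X ≤ T → (∀ g, ∀ v ∈ X, ρ g v ∈ X) → X = U ∨ X = T) ∧
      ∃ v ∈ T, ρ x v - v ∉ U := by
  classical
  haveI : Finite (Submodule K W) := Finite.of_injective _ SetLike.coe_injective
  obtain ⟨T, ⟨hT, hTx⟩, hTmin⟩ :=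
    (Set.toFinite {T : Submodule K W | (∀ g, ∀ v ∈ T, ρ g v ∈ T) ∧ ∃ v ∈ T, ρ x v ≠ v}).exists_minimal
      ⟨⊤, fun g v _ => Submodule.mem_top, by
        by_contra h
        push Not at h
        exact hx (LinearMap.ext fun v => h v Submodule.mem_top)⟩
  obtain ⟨v₀, hv₀T, hv₀⟩ := hTx
  obtain ⟨U, ⟨hU, hUT⟩, hUmax⟩ :=
    (Set.toFinite {U : Submodule K W | (∀ g, ∀ v ∈ U, ρ g v ∈ U) ∧ U < T}).exists_maximal
      ⟨⊥, fun g v hv => by simp_all, bot_lt_iff_ne_bot.mpr fun h => hv₀ (by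
        rw [h, Submodule.mem_bot] at hv₀T; rw [hv₀T, map_zero])⟩
  refine ⟨T, U, hUT, hT, hU, fun X h1 h2 hX => ?_, ?_⟩
  · by_cases hXT : X = T
    · exact Or.inr hXT
    · exact Or.inl (le_antisymm (hUmax ⟨hX, lt_of_le_of_ne h2 hXT⟩ h1) h1)
  by_contra hcon
  push Not at hcon
  have hfix : ∀ u ∈ U, ρ x u = u := fun u hu => by
    by_contra hne
    exact hUT.not_ge (hTmin ⟨hU, u, hu, hne⟩ hUT.le)
  set d := ρ x v₀ - v₀ with hd
  have hpow : ∀ n : ℕ, ρ (x ^ n) v₀ = v₀ + n • d := by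
    intro n
    induction n with
    | zero => simp
    | succ n ih =>
      rw [pow_succ', map_mul, Module.End.mul_apply, ih, map_add, map_nsmul, hfix d (hcon v₀ hv₀T),
        show ρ x v₀ = v₀ + d by rw [hd]; abel, add_assoc, add_comm d, succ_nsmul]
  have h1 : ρ (x ^ p) v₀ = v₀ := by
    rw [hpow, ← Nat.cast_smul_eq_nsmul K, CharP.cast_eq_zero, zero_smul, add_zero]
  obtain ⟨m, hm⟩ := exists_pow_eq_self_of_coprime (Nat.Coprime.symm hxp)
  refine hv₀ ?_
  rw [← hm]
  clear hm
  induction m with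
  | zero => simp
  | succ m ih => rw [pow_succ, map_mul, Module.End.mul_apply, h1, ih]

omit [Module (ZMod p) W] in
/-- An irreducible quotient of an invariant submodule on which a given element acts nontrivially. -/
theorem exists_irred_quot {K : Type*} [Field K] [CharP K p] [Module K W] (ρ : Γ →* Module.End K W) {x : Γ}
    (hx : ρ x ≠ 1) (hxp : (orderOf x).Coprime p) :
    ∃ (T : Submodule K W) (U' : Submodule K T) (σ : Γ →* Module.End K (T ⧸ U')),
      (∀ g (w : T), ∃ h : ρ g w ∈ T, σ g (Submodule.Quotient.mk w) = Submodule.Quotient.mk ⟨ρ g w, h⟩) ∧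
      (∀ X : Submodule K (T ⧸ U'), (∀ g, ∀ q ∈ X, σ g q ∈ X) → X = ⊥ ∨ X = ⊤) ∧ σ x ≠ 1 := by
  obtain ⟨T, U, hUT, hT, hU, hTU, v, hvT, hv⟩ := exists_irred_section ρ hx hxp
  set U' : Submodule K T := U.comap T.subtype with hU'
  have hres : ∀ g, U' ≤ U'.comap ((ρ g).restrict (hT g)) := fun g w hw => hU g _ hw
  let σ : Γ →* Module.End K (T ⧸ U') :=
    { toFun := fun g => U'.mapQ U' ((ρ g).restrict (hT g)) (hres g)
      map_one' := by
        refine Submodule.linearMap_qext _ (LinearMap.ext fun w => ?_)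
        simp [LinearMap.restrict_apply]
      map_mul' := fun g g' => by
        refine Submodule.linearMap_qext _ (LinearMap.ext fun w => ?_)
        simp [LinearMap.restrict_apply] }
  have hσ : ∀ g (w : T), σ g (Submodule.Quotient.mk w) = Submodule.Quotient.mk ⟨ρ g w, hT g w w.2⟩ :=
    fun g w => rfl
  have hirr : ∀ X : Submodule K (T ⧸ U'), (∀ g, ∀ q ∈ X, σ g q ∈ X) → X = ⊥ ∨ X = ⊤ := by
    intro X hX
    set X' := (X.comap U'.mkQ).map T.subtype with hX'
    have h1 : U ≤ X' := fun u hu => ⟨⟨u, hUT.le hu⟩, by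
      show U'.mkQ _ ∈ X
      rw [Submodule.mkQ_apply, (Submodule.Quotient.mk_eq_zero U').mpr hu]
      exact X.zero_mem, rfl⟩
    have h2 : X' ≤ T := Submodule.map_subtype_le _ _
    have h3 : ∀ g, ∀ w ∈ X', ρ g w ∈ X' := by
      rintro g _ ⟨w, hw, rfl⟩
      exact ⟨⟨ρ g w, hT g w w.2⟩, hX g _ hw, rfl⟩
    rcases hTU X' h1 h2 h3 with h | h
    · refine Or.inl ((Submodule.eq_bot_iff _).mpr fun q hq => ?_)
      obtain ⟨w, rfl⟩ := Submodule.Quotient.mk_surjective _ q
      refine (Submodule.Quotient.mk_eq_zero U').mpr ?_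
      show (w : W) ∈ U
      rw [← h]
      exact ⟨w, hq, rfl⟩
    · refine Or.inr (Submodule.eq_top_iff'.mpr fun q => ?_)
      obtain ⟨w, rfl⟩ := Submodule.Quotient.mk_surjective _ q
      obtain ⟨w', hw', e⟩ := h.ge w.2
      rw [← Subtype.ext e]
      exact hw'
  have hσx : σ x (Submodule.Quotient.mk ⟨v, hvT⟩) ≠ Submodule.Quotient.mk ⟨v, hvT⟩ := by
    intro h
    rw [hσ, Submodule.Quotient.eq] at h
    exact hv h
  exact ⟨T, U', σ, fun g w => ⟨hT g w w.2, hσ g w⟩, hirr, fun h => hσx (by rw [h, Module.End.one_apply])⟩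

/-- Two quadratic generators, one element of order prime to `p` acting nontrivially. -/
theorem exists_sl_two_of_ne (hodd : p ≠ 2) (ρ : Γ →* Module.End (ZMod p) W) {a b : Γ}
    (hgen : Subgroup.closure {a, b} = ⊤)
    (ha : ∀ w, ρ a (ρ a w - w) = ρ a w - w) (hb : ∀ w, ρ b (ρ b w - w) = ρ b w - w)
    {x : Γ} (hx : ρ x ≠ 1) (hxp : (orderOf x).Coprime p) :
    ∃ (K : Type u) (_ : Field K) (_ : Fintype K) (_ : CharP K p) (φ : Γ →* Matrix.SpecialLinearGroup (Fin 2) K)
      (P : Matrix (Fin 2) (Fin 2) K) (hP : IsUnit P.det),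
      φ x ≠ 1 ∧ tr (φ a) = 2 ∧ tr (φ b) = 2 ∧ ¬ Commute (φ a) (φ b) ∧
      (primeHom K p).range.map (SL2.conjHom P hP) ≤ φ.range ∧
      ∃ (V : Submodule (ZMod p) W) (ψ : V →ₗ[ZMod p] (Fin 2 → ZMod p)), Function.Surjective ψ ∧
        ∀ A : Matrix.SpecialLinearGroup (Fin 2) (ZMod p), ∃ g, ∃ hg : ∀ w ∈ V, ρ g w ∈ V,
          ∀ w : V, ψ ⟨ρ g w, hg w w.2⟩ = (A : Matrix (Fin 2) (Fin 2) (ZMod p)) *ᵥ ψ w := by
  obtain ⟨T, U', σ, hσ', hirr, hσx⟩ := exists_irred_quot ρ hx hxp
  have hT : ∀ g, ∀ w ∈ T, ρ g w ∈ T := fun g w hw => (hσ' g ⟨w, hw⟩).1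
  have hσ : ∀ g (w : T), σ g (Submodule.Quotient.mk w) = Submodule.Quotient.mk ⟨ρ g w, hT g w w.2⟩ :=
    fun g w => (hσ' g w).2
  have hq : ∀ c, (∀ w, ρ c (ρ c w - w) = ρ c w - w) → ∀ q, σ c (σ c q - q) = σ c q - q := by
    intro c hc q
    obtain ⟨w, rfl⟩ := Submodule.Quotient.mk_surjective _ q
    rw [hσ, ← Submodule.Quotient.mk_sub, hσ]
    exact congrArg _ (Subtype.ext (hc w))
  haveI : Finite (T ⧸ U') := Finite.of_surjective _ (Submodule.Quotient.mk_surjective U')
  obtain ⟨K, _, _, _, φ, P, hP, hker, hta, htb, hnc, hle, V, ψ, hψ, hA⟩ :=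
    exists_sl_two hodd σ hgen (hq a ha) (hq b hb) hirr (by
      obtain ⟨q, hq'⟩ := not_forall.mp (fun h => hσx (LinearMap.ext h))
      exact ⟨x, q, hq'⟩)
  refine ⟨K, inferInstance, inferInstance, inferInstance, φ, P, hP,
    fun h => hσx (hker x h), hta, htb, hnc, hle, ?_⟩
  set V' := (V.comap U'.mkQ).map T.subtype with hV'
  have hVT : V' ≤ T := Submodule.map_subtype_le _ _
  have hmk : ∀ w : V', Submodule.Quotient.mk (p := U') ⟨w, hVT w.2⟩ ∈ V := by
    rintro ⟨_, w', hw', rfl⟩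
    exact hw'
  let π : V' →ₗ[ZMod p] V :=
    { toFun := fun w => ⟨Submodule.Quotient.mk ⟨w, hVT w.2⟩, hmk w⟩
      map_add' := fun _ _ => rfl
      map_smul' := fun _ _ => rfl }
  have hπ : Function.Surjective π := by
    rintro ⟨q, hq⟩
    obtain ⟨w, rfl⟩ := Submodule.Quotient.mk_surjective _ q
    exact ⟨⟨w, w, hq, rfl⟩, rfl⟩
  refine ⟨V', ψ.comp π, hψ.comp hπ, fun A => ?_⟩
  obtain ⟨g, hg, hgA⟩ := hA A
  refine ⟨g, ?_, fun w => ?_⟩
  · rintro _ ⟨w', hw', rfl⟩
    refine ⟨⟨ρ g w', hT g w' w'.2⟩, ?_, rfl⟩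
    show Submodule.Quotient.mk _ ∈ V
    rw [← hσ]
    exact hg _ hw'
  · refine (congrArg ψ (Subtype.ext ?_)).trans (hgA (π w))
    exact (hσ g ⟨w, hVT w.2⟩).symm

end Cfsg.Agent.Grp.Quad
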