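import Mathlib
import Cfsg.Prelude.Def_Transfer
import Cfsg.Prelude.Def_PLocal
import Cfsg.Prelude.Def_LocalEven
import Cfsg.Agent.Lib.Fus.QdGroup
import Cfsg.Agent.Lib.Grp.Baer
import Cfsg.Agent.Lib.Grp.Quadratic

/-!
Quadratic action on `p`-subgroups: groups without sections `Qd(p)` are `p`-stable, and quadratic
pairs give sections `SL(2, p)`.
-/

set_option autoImplicit false
set_option linter.unusedSectionVars false

universe u

namespace Cfsg.Agent.Grp.Quad

open SL2
open scoped commutatorElement Pointwise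

variable {G : Type u} [Group G] {p : ℕ} [hp : Fact p.Prime]

/-- The element `a` fixes all commutators of `P` with `a`. -/
def QuadOn (a : G) (P : Subgroup G) : Prop := ∀ v ∈ P, Commute a (a * v * a⁻¹ * v⁻¹)

theorem quadOn_of_commutator {a : G} {P : Subgroup G}
    (h : ⁅⁅P, Subgroup.zpowers a⁆, Subgroup.zpowers a⁆ = ⊥) : QuadOn a P := by
  intro v hv
  have h1 : ⁅⁅v, a⁆, a⁆ ∈ (⊥ : Subgroup G) := h ▸ Subgroup.commutator_mem_commutator
    (Subgroup.commutator_mem_commutator hv (Subgroup.mem_zpowers a)) (Subgroup.mem_zpowers a)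
  rw [Subgroup.mem_bot, commutatorElement_eq_one_iff_mul_comm] at h1
  have h2 : Commute a (⁅v, a⁆)⁻¹ := (Commute.symm (h1 : Commute ⁅v, a⁆ a)).inv_right
  rwa [commutatorElement_def, show (v * a * v⁻¹ * a⁻¹)⁻¹ = a * v * a⁻¹ * v⁻¹ by group] at h2

theorem QuadOn.conj {a n : G} {P : Subgroup G} (h : QuadOn a P)
    (hn : n ∈ Subgroup.normalizer (P : Set G)) : QuadOn (n * a * n⁻¹) P := by
  intro v hv
  have hv' : n⁻¹ * v * n ∈ P := by
    have := mem_conj_normalizer (inv_mem hn) hv
    rwa [inv_inv] at this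
  have h' := (h _ hv').map (MulAut.conj n).toMonoidHom
  simp only [MulEquiv.coe_toMonoidHom, MulAut.conj_apply] at h'
  rwa [show n * (a * (n⁻¹ * v * n) * a⁻¹ * (n⁻¹ * v * n)⁻¹) * n⁻¹ =
    n * a * n⁻¹ * v * (n * a * n⁻¹)⁻¹ * v⁻¹ by group] at h'

/-- An element none of whose `p`-power powers centralizes `P` has a power of order prime to `p`
not centralizing `P`. -/
theorem exists_coprime_pow [Finite G] {H C : Subgroup G} {y : G} (hyH : y ∈ H)
    (hy : ∀ k : ℕ, y ^ p ^ k ∉ C) : ∃ x ∈ H, (orderOf x).Coprime p ∧ x ∉ C := by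
  obtain ⟨k, m, hm, hkm⟩ := Nat.exists_eq_pow_mul_and_not_dvd (orderOf_pos y).ne' p hp.out.ne_one
  refine ⟨y ^ p ^ k, H.pow_mem hyH _, ?_, hy k⟩
  rw [orderOf_pow' y (pow_ne_zero _ hp.out.ne_zero), hkm, Nat.gcd_mul_right_left,
    Nat.mul_div_cancel_left _ (pow_pos hp.out.pos k)]
  exact (hp.out.coprime_iff_not_dvd.mpr hm).symm

/-- An element whose image is outside the largest normal `p`-subgroup has, with a conjugate, an element
of order prime to `p` outside the kernel in the subgroup they generate. -/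
theorem exists_pair {N : Type u} [Group N] {Q : Type u} [Group Q] [Finite Q] [Finite N] (f : N →* Q)
    (hf : Function.Surjective f) {a : N} (ha : f a ∉ Cfsg.pCore p Q) :
    ∃ n x : N, x ∈ Subgroup.closure {a, n * a * n⁻¹} ∧ (orderOf x).Coprime p ∧ f x ≠ 1 := by
  classical
  obtain ⟨q, hq⟩ := not_forall.mp fun h => ha (baer_suzuki (p := p) (f a) h)
  obtain ⟨n, rfl⟩ := hf q
  have hmap : Subgroup.closure {f a, f n * f a * (f n)⁻¹} = (Subgroup.closure {a, n * a * n⁻¹}).map f := by
    rw [MonoidHom.map_closure, Set.image_pair, map_mul, map_mul, map_inv]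
  rw [hmap] at hq
  obtain ⟨y, hy, hy'⟩ : ∃ y ∈ Subgroup.closure {a, n * a * n⁻¹}, ∀ k : ℕ, y ^ p ^ k ∉ f.ker := by
    by_contra h
    push Not at h
    refine hq ?_
    rintro ⟨_, y, hy, rfl⟩
    obtain ⟨k, hk⟩ := h y hy
    exact ⟨k, Subtype.ext (by rw [SubmonoidClass.coe_pow, ← map_pow, Subgroup.coe_one]; exact hk)⟩
  obtain ⟨x, hx, hxp, hxk⟩ := exists_coprime_pow hy hy'
  exact ⟨n, x, hx, hxp, fun e => hxk e⟩

/-- A quadratic pair on an elementary abelian `p`-subgroup. -/
theorem exists_sl_two_group [Finite G] (hodd : p ≠ 2) {V : Subgroup G} (hV : Cfsg.IsElementaryAbelian p V)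
    {a b : G} (haN : a ∈ Subgroup.normalizer (V : Set G)) (hbN : b ∈ Subgroup.normalizer (V : Set G))
    (ha : QuadOn a V) (hb : QuadOn b V) {x : G} (hxH : x ∈ Subgroup.closure {a, b})
    (hxp : (orderOf x).Coprime p) (hx : x ∉ Subgroup.centralizer (V : Set G)) :
    ∃ (K : Type u) (_ : Field K) (_ : Fintype K) (_ : CharP K p)
      (φ : Subgroup.closure ({a, b} : Set G) →* Matrix.SpecialLinearGroup (Fin 2) K)
      (P : Matrix (Fin 2) (Fin 2) K) (hP : IsUnit P.det),
      φ ⟨x, hxH⟩ ≠ 1 ∧ tr (φ ⟨a, Subgroup.subset_closure (by simp)⟩) = 2 ∧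
      (primeHom K p).range.map (SL2.conjHom P hP) ≤ φ.range ∧ Fus.GrpQdWitness G p := by
  classical
  haveI := hV.1
  set H := Subgroup.closure ({a, b} : Set G) with hH
  have hHN : H ≤ Subgroup.normalizer (V : Set G) := (Subgroup.closure_le _).mpr (by
    rintro y (rfl | rfl) <;> assumption)
  letI : CommGroup V := { (inferInstance : Group V) with mul_comm := fun u v => IsMulCommutative.is_comm.comm u v }
  haveI : Module (ZMod p) (Additive V) := AddCommGroup.zmodModule (fun w => by
    refine Additive.toMul.injective (Subtype.ext ?_)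
    rw [toMul_nsmul, toMul_zero, SubmonoidClass.coe_pow, hV.2 _ (Additive.toMul w).2, Subgroup.coe_one])
  let τ : H →* MulAut V := V.normalizerMonoidHom.comp (Subgroup.inclusion hHN)
  let ρ : H →* Module.End (ZMod p) (Additive V) :=
    { toFun := fun g => (τ g).toMonoidHom.toAdditive.toZModLinearMap p
      map_one' := LinearMap.ext fun w => by
        show Additive.ofMul (τ 1 (Additive.toMul w)) = w
        rw [map_one]; rfl
      map_mul' := fun g g' => LinearMap.ext fun w => by
        show Additive.ofMul (τ (g * g') (Additive.toMul w)) = Additive.ofMul (τ g (τ g' (Additive.toMul w)))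
        rw [map_mul]; rfl }
  have hρ : ∀ (g : H) (w : Additive V), ((Additive.toMul (ρ g w) : V) : G) = g * (Additive.toMul w : V) * (g : G)⁻¹ :=
    fun g w => rfl
  have hq : ∀ c : H, QuadOn (c : G) V → ∀ w, ρ c (ρ c w - w) = ρ c w - w := by
    intro c hc w
    refine Additive.toMul.injective (Subtype.ext ?_)
    rw [hρ, toMul_sub, div_eq_mul_inv, Subgroup.coe_mul, Subgroup.coe_inv, hρ]
    exact mul_inv_eq_iff_eq_mul.mpr (hc _ (Additive.toMul w).2).eq
  have hgen : Subgroup.closure ({⟨a, Subgroup.subset_closure (by simp)⟩, ⟨b, Subgroup.subset_closure (by simp)⟩} :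
      Set H) = ⊤ := by
    refine Subgroup.map_injective H.subtype_injective ?_
    rw [MonoidHom.map_closure, Set.image_pair, ← MonoidHom.range_eq_map, Subgroup.range_subtype]
    rfl
  have hρx : ρ ⟨x, hxH⟩ ≠ 1 := by
    intro h
    refine hx (Subgroup.mem_centralizer_iff.mpr fun v hv => ?_)
    have := hρ ⟨x, hxH⟩ (Additive.ofMul ⟨v, hv⟩)
    rw [h] at this
    exact mul_inv_eq_iff_eq_mul.mp this.symm |>.symm
  obtain ⟨K, _, _, _, φ, P, hP, hφx, hta, -, -, hle, W, ψ, hψ, hA⟩ :=
    exists_sl_two_of_ne hodd ρ hgen (hq _ ha) (hq _ hb) hρx (by rwa [Subgroup.orderOf_mk])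
  refine ⟨K, inferInstance, inferInstance, inferInstance, φ, P, hP, hφx, hta, hle, ?_⟩
  let U : Subgroup V := AddSubgroup.toSubgroup' W.toAddSubgroup
  let V' : Subgroup G := U.map V.subtype
  have hmem : ∀ v : V', ∃ h : (v : G) ∈ V, Additive.ofMul (⟨v, h⟩ : V) ∈ W := by
    rintro ⟨_, u, hu, rfl⟩
    exact ⟨u.2, hu⟩
  let π : V' →* Multiplicative W :=
    MonoidHom.mk' (fun v => Multiplicative.ofAdd ⟨_, (hmem v).2⟩) fun _ _ => rfl
  let φ' : V' →* Multiplicative (Fin 2 → ZMod p) := ψ.toAddMonoidHom.toMultiplicative.comp π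
  refine ⟨V', fun v => ⟨1, Subtype.ext ?_⟩, φ', ?_, fun A => ?_⟩
  · rw [pow_one, SubmonoidClass.coe_pow, Subgroup.coe_one]
    exact hV.2 _ (hmem v).1
  · intro c
    obtain ⟨w, hw⟩ := hψ (Multiplicative.toAdd c)
    exact ⟨⟨((Additive.toMul (w : Additive V) : V) : G), _, w.2, rfl⟩, congrArg Multiplicative.ofAdd hw⟩
  · obtain ⟨g, hg, hgA⟩ := hA A
    have hmaps : ∀ v : V', (g : G) * v * (g : G)⁻¹ ∈ V' := fun v =>
      ⟨Additive.toMul (ρ g (Additive.ofMul ⟨v, (hmem v).1⟩)), hg _ (hmem v).2, rfl⟩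
    have hgN : (g : G) ∈ Subgroup.normalizer (V' : Set G) := by
      rw [mem_normalizer_iff_smul]
      refine (Subgroup.eq_of_le_of_card_ge (H := MulAut.conj (g : G) • V') ?_ (card_conj_smul (g : G) V').ge)
      intro y hy
      rw [mem_smul_conj] at hy
      have := hmaps ⟨_, hy⟩
      rwa [show (g : G) * ((g : G)⁻¹ * y * g) * (g : G)⁻¹ = y by group] at this
    obtain ⟨α, hα, hαv⟩ := Fus.exists_innerBy hgN
    refine ⟨α, hα, fun v => ?_⟩
    have := hgA ⟨_, (hmem v).2⟩
    refine congrArg Multiplicative.ofAdd (Eq.trans (congrArg ψ (Subtype.ext ?_)) this)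
    exact congrArg Additive.ofMul (Subtype.ext (hαv v))

/-- A quadratic pair on a `p`-subgroup, generating a group with an element of order prime to `p` acting
nontrivially, gives a section `Qd(p)`. -/
theorem involves_qd_of_pair (hodd : p ≠ 2) : ∀ (n : ℕ) (G : Type u) [Group G] [Finite G] (P : Subgroup G),
    Nat.card P = n → IsPGroup p P → ∀ a b : G, a ∈ Subgroup.normalizer (P : Set G) →
    b ∈ Subgroup.normalizer (P : Set G) → QuadOn a P → QuadOn b P → ∀ x ∈ Subgroup.closure {a, b},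
    (orderOf x).Coprime p → x ∉ Subgroup.centralizer (P : Set G) → Cfsg.Involves ↥(Cfsg.qd p) G := by
  intro n
  induction n using Nat.strong_induction_on with
  | _ n ih =>
  intro G _ _ P hn hP a b haN hbN ha hb x hxH hxp hx
  classical
  let Z : Subgroup G :=
    { carrier := {z | z ∈ P ∧ z ^ p = 1 ∧ ∀ v ∈ P, Commute z v}
      one_mem' := ⟨P.one_mem, one_pow _, fun v _ => Commute.one_left v⟩
      mul_mem' := fun {y z} hy hz => ⟨P.mul_mem hy.1 hz.1, by
        rw [(hy.2.2 z hz.1).mul_pow, hy.2.1, hz.2.1, one_mul], fun v hv => (hy.2.2 v hv).mul_left (hz.2.2 v hv)⟩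
      inv_mem' := fun {y} hy => ⟨P.inv_mem hy.1, by rw [inv_pow, hy.2.1, inv_one],
        fun v hv => (hy.2.2 v hv).inv_left⟩ }
  have hZP : Z ≤ P := fun z hz => hz.1
  have hNZ : Subgroup.normalizer (P : Set G) ≤ Subgroup.normalizer (Z : Set G) := by
    intro g hg
    rw [mem_normalizer_iff_smul]
    refine Subgroup.eq_of_le_of_card_ge ?_ (card_conj_smul g Z).ge
    intro y hy
    rw [mem_smul_conj] at hy
    obtain ⟨h1, h2, h3⟩ := hy
    have ey : y = MulAut.conj g (g⁻¹ * y * g) := by rw [MulAut.conj_apply]; group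
    refine ⟨ey ▸ mem_conj_normalizer hg h1, by rw [ey, ← map_pow, h2, map_one], fun v hv => ?_⟩
    have hv' : g⁻¹ * v * g ∈ P := by
      have := mem_conj_normalizer (inv_mem hg) hv
      rwa [inv_inv] at this
    have := (h3 _ hv').map (MulAut.conj g).toMonoidHom
    simp only [MulEquiv.coe_toMonoidHom, MulAut.conj_apply] at this
    rwa [show g * (g⁻¹ * y * g) * g⁻¹ = y by group, show g * (g⁻¹ * v * g) * g⁻¹ = v by group] at this
  have hHP : Subgroup.closure {a, b} ≤ Subgroup.normalizer (P : Set G) := (Subgroup.closure_le _).mpr (by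
    rintro y (rfl | rfl) <;> assumption)
  by_cases hxZ : x ∈ Subgroup.centralizer (Z : Set G)
  · -- pass to the quotient by `Z`
    have hP1 : P ≠ ⊥ := by
      rintro rfl
      exact hx (Subgroup.mem_centralizer_iff.mpr fun v hv => by simp [Subgroup.mem_bot.mp hv])
    haveI : Nontrivial P := (Subgroup.nontrivial_iff_ne_bot P).mpr hP1
    haveI := hP.center_nontrivial
    obtain ⟨k, hk, hcard⟩ := ((hP.to_subgroup (Subgroup.center P)).nontrivial_iff_card).mp inferInstance
    obtain ⟨z, hz⟩ := exists_prime_orderOf_dvd_card' (G := Subgroup.center P) p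
      (hcard ▸ dvd_pow_self p (Nat.pos_iff_ne_zero.mp hk))
    have hzZ : ((z : P) : G) ∈ Z := by
      refine ⟨(z : P).2, ?_, fun v hv => ?_⟩
      · rw [← SubmonoidClass.coe_pow, ← SubmonoidClass.coe_pow, ← hz, pow_orderOf_eq_one, Subgroup.coe_one,
          Subgroup.coe_one]
      · exact (congrArg Subtype.val (Subgroup.mem_center_iff.mp z.2 ⟨v, hv⟩) :).symm
    have hz1 : ((z : P) : G) ≠ 1 := fun e => by
      rw [← Subgroup.orderOf_coe, ← Subgroup.orderOf_coe, e, orderOf_one] at hz
      exact hp.out.ne_one hz.symm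
    set M := Subgroup.normalizer (Z : Set G) with hM
    have hPM : P ≤ M := Subgroup.le_normalizer.trans hNZ
    set Zs := Z.subgroupOf M
    haveI : Zs.Normal := by rw [Subgroup.normal_subgroupOf_iff_le_normalizer Subgroup.le_normalizer]
    let f := QuotientGroup.mk' Zs
    have hfk : ∀ y : M, f y = 1 ↔ (y : G) ∈ Z := fun y => (QuotientGroup.eq_one_iff y).trans Subgroup.mem_subgroupOf
    set P' := (P.subgroupOf M).map f with hP'
    have hlt : Nat.card P' < n := by
      rw [← hn, ← Nat.card_congr (Subgroup.subgroupOfEquivOfLe hPM).toEquiv]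
      let g : ↥(P.subgroupOf M) →* P' := f.subgroupMap (P.subgroupOf M)
      have hs : Function.Surjective g := f.subgroupMap_surjective _
      refine lt_of_le_of_ne (Nat.card_le_card_of_surjective _ hs) fun e => hz1 ?_
      have hinj := ((Nat.bijective_iff_surjective_and_card g).mpr ⟨hs, e.symm⟩).1
      have h1 : g ⟨⟨(z : P), hPM (z : P).2⟩, (z : P).2⟩ = g 1 := by
        rw [map_one]; exact Subtype.ext ((hfk _).mpr hzZ)
      exact congrArg (fun y : ↥(P.subgroupOf M) => ((y : M) : G)) (hinj h1)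
    have hP'p : IsPGroup p P' := (hP.comap_subtype (K := M)).map f
    have hMN : ∀ y : M, (y : G) ∈ Subgroup.normalizer (P : Set G) → f y ∈ Subgroup.normalizer (P' : Set (M ⧸ Zs)) := by
      intro y hy
      refine Subgroup.le_normalizer_map f (Subgroup.mem_map_of_mem f ?_)
      rw [Subgroup.mem_normalizer_iff]
      intro v
      exact Subgroup.mem_normalizer_iff.mp hy v
    have hQ : ∀ y : M, QuadOn (y : G) P → QuadOn (f y) P' := by
      rintro y hy _ ⟨v, hv, rfl⟩
      have h := hy _ hv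
      rw [← map_mul, ← map_inv, ← map_mul, ← map_inv, ← map_mul]
      exact Commute.map (show Commute y (y * v * y⁻¹ * v⁻¹) from Subtype.ext h.eq) f
    let a' : M := ⟨a, hNZ haN⟩
    let b' : M := ⟨b, hNZ hbN⟩
    let x' : M := ⟨x, hNZ (hHP hxH)⟩
    have hx'H : f x' ∈ Subgroup.closure {f a', f b'} := by
      have e : Subgroup.closure {f a', f b'} = (Subgroup.closure ({a', b'} : Set M)).map f := by
        rw [MonoidHom.map_closure, Set.image_pair]
      rw [e]
      refine Subgroup.mem_map_of_mem f ?_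
      have e2 : (Subgroup.closure ({a', b'} : Set M)).map M.subtype = Subgroup.closure {a, b} := by
        rw [MonoidHom.map_closure, Set.image_pair]; rfl
      obtain ⟨w, hw, hw'⟩ := e2.ge hxH
      rwa [show x' = w from Subtype.ext hw'.symm]
    have hx'p : (orderOf (f x')).Coprime p :=
      hxp.coprime_dvd_left ((orderOf_map_dvd f x').trans (by rw [Subgroup.orderOf_mk]))
    have hx'C : f x' ∉ Subgroup.centralizer (P' : Set (M ⧸ Zs)) := by
      intro hc
      refine hx (Subgroup.mem_centralizer_iff.mpr fun v hv => ?_)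
      have h := Subgroup.mem_centralizer_iff.mp hc _ (Subgroup.mem_map_of_mem f (x := ⟨v, hPM hv⟩) hv)
      have hd : x * v * x⁻¹ * v⁻¹ ∈ Z := (hfk (x' * ⟨v, hPM hv⟩ * x'⁻¹ * ⟨v, hPM hv⟩⁻¹)).mp (by
        rw [map_mul, map_mul, map_mul, map_inv, map_inv, ← h, mul_inv_cancel_right, mul_inv_cancel])
      set d := x * v * x⁻¹ * v⁻¹
      have hdx : Commute x d := (Subgroup.mem_centralizer_iff.mp hxZ d hd).symm
      have hpow : ∀ m : ℕ, x ^ m * v * (x ^ m)⁻¹ = d ^ m * v := by
        intro m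
        induction m with
        | zero => simp
        | succ m ihm =>
          calc x ^ (m + 1) * v * (x ^ (m + 1))⁻¹ = x * (x ^ m * v * (x ^ m)⁻¹) * x⁻¹ := by rw [pow_succ']; group
            _ = x * (d ^ m * v) * x⁻¹ := by rw [ihm]
            _ = d ^ m * (x * v * x⁻¹) := by rw [← mul_assoc x, (hdx.pow_right m).eq]; group
            _ = d ^ (m + 1) * v := by rw [pow_succ]; simp only [d]; group
      obtain ⟨m, hm⟩ := exists_pow_eq_self_of_coprime hxp.symm
      have h1 := hpow p
      rw [hd.2.1, one_mul] at h1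
      have h2 : Commute (x ^ p) v := mul_inv_eq_iff_eq_mul.mp h1
      have := (h2.pow_left m).eq
      rw [hm] at this
      exact this.symm
    have hrec := ih _ hlt (M ⧸ Zs) P' rfl hP'p (f a') (f b') (hMN a' haN) (hMN b' hbN) (hQ a' ha) (hQ b' hb) _
      hx'H hx'p hx'C
    obtain ⟨K, R, _, ⟨e⟩⟩ := hrec
    exact ((Invol.IsSectionOf.trans ⟨K, e.toMonoidHom.comp (QuotientGroup.mk' _),
      e.surjective.comp (QuotientGroup.mk'_surjective _)⟩ ((Invol.IsSectionOf.of_surjective f
        (QuotientGroup.mk'_surjective _)).trans (Invol.IsSectionOf.of_subgroup M)))).involves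
  · have hZel : Cfsg.IsElementaryAbelian p Z :=
      ⟨⟨⟨fun y z => Subtype.ext (y.2.2.2 z z.2.1).eq⟩⟩, fun z hz => hz.2.1⟩
    obtain ⟨K, _, _, _, φ, Q, hQ, -, -, -, hw⟩ := exists_sl_two_group hodd hZel (hNZ haN) (hNZ hbN)
      (fun v hv => ha v hv.1) (fun v hv => hb v hv.1) hxH hxp hxZ
    exact Fus.involves_of_grpQdWitness hw

/-- A group without section `Qd(p)` is `p`-stable. -/
theorem isNormalizerPStable_of_free [Finite G] (hodd : p ≠ 2) (hfree : ¬ Cfsg.Involves ↥(Cfsg.qd p) G) :
    Cfsg.IsNormalizerPStable p G := by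
  intro P hP g hg hq
  by_contra hcon
  set N := Subgroup.normalizer (P : Set G)
  obtain ⟨n, x, hx, hxp, hxf⟩ := exists_pair (QuotientGroup.mk' ((Subgroup.centralizer (P : Set G)).subgroupOf N))
    (QuotientGroup.mk'_surjective _) (a := ⟨g, hg⟩) hcon
  have hqa := quadOn_of_commutator hq
  refine hfree (involves_qd_of_pair hodd _ G P rfl hP g ((n : G) * g * (n : G)⁻¹) hg
    (mul_mem (mul_mem n.2 hg) (inv_mem n.2)) hqa (hqa.conj n.2) (x : G) ?_ (by rwa [Subgroup.orderOf_coe]) ?_)
  · have e2 : (Subgroup.closure ({⟨g, hg⟩, n * ⟨g, hg⟩ * n⁻¹} : Set N)).map N.subtype =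
        Subgroup.closure {g, (n : G) * g * (n : G)⁻¹} := by
      rw [MonoidHom.map_closure, Set.image_pair]; rfl
    exact e2.le (Subgroup.mem_map_of_mem _ hx)
  · exact fun h => hxf ((QuotientGroup.eq_one_iff x).mpr h)

/-- A group without section `Qd(p)` acts `p`-stably on its normal `p`-subgroups. -/
theorem isPStableOn_of_free [Finite G] (hodd : p ≠ 2) (hfree : ¬ Cfsg.Involves ↥(Cfsg.qd p) G)
    (P : Subgroup G) [P.Normal] (hP : IsPGroup p P) : Cfsg.IsPStableOn p P := by
  intro g hq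
  by_contra hcon
  obtain ⟨n, x, hx, hxp, hxf⟩ := exists_pair (QuotientGroup.mk' (Subgroup.centralizer (P : Set G)))
    (QuotientGroup.mk'_surjective _) (a := g) hcon
  have hqa := quadOn_of_commutator hq
  have hN : ∀ y : G, y ∈ Subgroup.normalizer (P : Set G) := fun y => by
    rw [Subgroup.normalizer_eq_top]; exact Subgroup.mem_top y
  exact hfree (involves_qd_of_pair hodd _ G P rfl hP g (n * g * n⁻¹) (hN _) (hN _) hqa (hqa.conj (hN n)) x hx hxp
    fun h => hxf ((QuotientGroup.eq_one_iff x).mpr h))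

end Cfsg.Agent.Grp.Quad
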