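import Mathlib
import Cfsg.Agent.Lib.Grp.QuadraticGroup

/-!
`Qd(p)` is not `p`-stable.
-/

set_option autoImplicit false
set_option linter.unusedSectionVars false

universe u

namespace Cfsg.Agent.Grp.Quad

open SL2
open scoped commutatorElement

variable {p : ℕ} [hp : Fact p.Prime]

theorem not_commute_up_low : ¬ Commute (up (1 : ZMod p)) (low (1 : ZMod p)) := by
  intro h
  have h' := congrArg Subtype.val h.eq
  simp only [Matrix.SpecialLinearGroup.coe_mul] at h'
  have := congrFun (congrFun h' 0) 0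
  simp [up, low, Matrix.mul_apply, Fin.sum_univ_two] at this

/-- A group isomorphic to `Qd(p)` is not `p`-stable. -/
theorem not_stable_of_equiv {X : Type u} [Group X] [Finite X] (hodd : p ≠ 2) (e : ↥(Cfsg.qd p) ≃* X) :
    ¬ Cfsg.IsNormalizerPStable p X := by
  classical
  intro hst
  set P : Subgroup X := ((Fus.qdTrans p).range).map e.toMonoidHom with hPdef
  set g : X := e (Fus.qdLift p (up 1)) with hgdef
  have hconj : ∀ (x : ↥(Cfsg.qd p)) v, e x * e (Fus.qdTrans p v) * (e x)⁻¹ = e (Fus.qdTrans p (Fus.matAct (Fus.qdBlock p x) v)) := by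
    intro x v
    rw [← Fus.qdTrans_conj, map_mul, map_mul, map_inv]
  have hmem : ∀ v, e (Fus.qdTrans p v) ∈ P := fun v => Subgroup.mem_map_of_mem _ ⟨v, rfl⟩
  have hnorm : ∀ x : X, x ∈ Subgroup.normalizer (P : Set X) := by
    have hfw : ∀ x : X, ∀ y ∈ P, x * y * x⁻¹ ∈ P := by
      rintro x _ ⟨_, ⟨v, rfl⟩, rfl⟩
      obtain ⟨x, rfl⟩ := e.surjective x
      rw [MulEquiv.coe_toMonoidHom, hconj]
      exact hmem _
    intro x
    rw [Subgroup.mem_normalizer_iff]
    refine fun y => ⟨hfw x y, fun hy => ?_⟩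
    have := hfw x⁻¹ _ hy
    simpa [mul_assoc] using this
  have hPp : IsPGroup p P := by
    refine IsPGroup.map ?_ _
    rintro ⟨_, v, rfl⟩
    obtain ⟨k, hk⟩ := Fus.isPGroup_vec p v
    exact ⟨k, Subtype.ext (by rw [SubmonoidClass.coe_pow, ← map_pow, hk, map_one, Subgroup.coe_one])⟩
  have hq : ⁅⁅P, Subgroup.zpowers g⁆, Subgroup.zpowers g⁆ = ⊥ := by
    have hpow : ∀ y ∈ Subgroup.zpowers g, ∃ t : ZMod p, y = e (Fus.qdLift p (up t)) := by
      intro y hy
      rw [mem_zpowers_iff_mem_range_orderOf, Finset.mem_image] at hy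
      obtain ⟨n, -, rfl⟩ := hy
      exact ⟨n, by rw [hgdef, ← map_pow, ← map_pow, up_pow, mul_one]⟩
    let L : Subgroup X := ((Fus.qdTrans p).comp (AddMonoidHom.toMultiplicative
      { toFun := fun c : ZMod p => (![c, 0] : Fin 2 → ZMod p)
        map_zero' := by simp
        map_add' := fun c d => by simp })).range.map e.toMonoidHom
    refine le_bot_iff.mp ?_
    have h1 : ⁅P, Subgroup.zpowers g⁆ ≤ L := by
      refine Subgroup.commutator_le.mpr ?_
      rintro _ ⟨_, ⟨v, rfl⟩, rfl⟩ y hy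
      obtain ⟨t, rfl⟩ := hpow y hy
      refine ⟨_, ⟨Multiplicative.ofAdd (-(t * Multiplicative.toAdd v 1)), rfl⟩, ?_⟩
      show e _ = ⁅e (Fus.qdTrans p v), e (Fus.qdLift p (up t))⁆
      rw [commutatorElement_def, show e (Fus.qdTrans p v) * e (Fus.qdLift p (up t)) * (e (Fus.qdTrans p v))⁻¹ *
          (e (Fus.qdLift p (up t)))⁻¹ = e (Fus.qdTrans p v) * (e (Fus.qdLift p (up t)) * (e (Fus.qdTrans p v))⁻¹ *
          (e (Fus.qdLift p (up t)))⁻¹) by group, ← map_inv e (Fus.qdTrans p v), ← map_inv (Fus.qdTrans p), hconj,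
        ← map_mul, ← map_mul, Fus.qdBlock_lift, MonoidHom.comp_apply]
      congr 2
      refine Multiplicative.toAdd.injective (funext fun i => ?_)
      fin_cases i <;> simp [Fus.matAct, up, Matrix.mulVec, dotProduct, Fin.sum_univ_two]
    refine le_trans (Subgroup.commutator_mono h1 le_rfl) (Subgroup.commutator_le.mpr ?_)
    rintro _ ⟨_, ⟨c, rfl⟩, rfl⟩ y hy
    obtain ⟨t, rfl⟩ := hpow y hy
    rw [Subgroup.mem_bot, commutatorElement_eq_one_iff_mul_comm, eq_comm, ← mul_inv_eq_iff_eq_mul,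
      MulEquiv.coe_toMonoidHom, MonoidHom.comp_apply, hconj, Fus.qdBlock_lift]
    congr 2
    refine Multiplicative.toAdd.injective (funext fun i => ?_)
    fin_cases i <;> simp [Fus.matAct, up, Matrix.mulVec, dotProduct, Fin.sum_univ_two]
  have hcore := hst P hPp g (hnorm g) hq
  set N := Subgroup.normalizer (P : Set X)
  let ψ : N →* Matrix.SpecialLinearGroup (Fin 2) (ZMod p) :=
    (Fus.qdBlock p).comp (e.symm.toMonoidHom.comp N.subtype)
  have hψs : Function.Surjective ψ := by
    intro A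
    exact ⟨⟨e (Fus.qdLift p A), hnorm _⟩, by simp [ψ, Fus.qdBlock_lift]⟩
  set C := (Subgroup.centralizer (P : Set X)).subgroupOf N
  have hker : C ≤ ψ.ker := by
    intro x hx
    refine Fus.eq_of_matAct_eq fun v => ?_
    rw [Fus.matAct_one]
    have h := Subgroup.mem_centralizer_iff.mp (Subgroup.mem_subgroupOf.mp hx) _ (hmem v)
    have h2 := hconj (e.symm (x : X)) v
    rw [e.apply_symm_apply, ← h, mul_inv_cancel_right] at h2
    exact Fus.qdTrans_injective (e.injective h2.symm)
  let ψ' := QuotientGroup.lift C ψ hker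
  have hψ's : Function.Surjective ψ' := QuotientGroup.lift_surjective_of_surjective C ψ hψs hker
  set M := (Cfsg.pCore p (N ⧸ C)).map ψ'
  have hMn : M.Normal := (pCore_isNormal (p := p)).map ψ' hψ's
  have hMp : IsPGroup p M := (pCore_isPGroup (p := p)).map ψ'
  have ha : up (1 : ZMod p) ∈ M := ⟨_, hcore, by
    show ψ ⟨g, hnorm g⟩ = up 1
    simp [ψ, hgdef, Fus.qdBlock_lift]⟩
  -- the conjugate transvection
  let w : Matrix.SpecialLinearGroup (Fin 2) (ZMod p) := ⟨!![0, -1; 1, 0], by simp [Matrix.det_fin_two]⟩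
  have hlow : low (1 : ZMod p) ∈ M := by
    have h := M.inv_mem (hMn.conj_mem _ ha w)
    have e' : (w * up (1 : ZMod p) * w⁻¹)⁻¹ = low 1 := by
      refine inv_eq_of_mul_eq_one_right ?_
      refine Subtype.ext ?_
      simp only [Matrix.SpecialLinearGroup.coe_mul, Matrix.SpecialLinearGroup.coe_inv]
      ext i j
      fin_cases i <;> fin_cases j <;>
        simp [w, up, low,
          Matrix.adjugate_fin_two, Matrix.mul_apply, Fin.sum_univ_two]
    rwa [e'] at h
  set M' : Subgroup (⊤ : Subgroup (Matrix.SpecialLinearGroup (Fin 2) (ZMod p))) := M.subgroupOf ⊤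
  have hM'p : IsPGroup p M' := hMp.comap_subtype (K := ⊤)
  exact not_commute_up_low (congrArg Subtype.val (commute_in_pGroup hodd hM'p
    (x := ⟨up 1, Subgroup.mem_top _⟩) (y := ⟨low 1, Subgroup.mem_top _⟩) ha hlow).eq :)

end Cfsg.Agent.Grp.Quad
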