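import Mathlib
import Cfsg.Prelude.Def_Local
import Cfsg.Agent.Lib.Grp.QdNotStable

/-!
Sections `SL(2, p)` from quadratic pairs: Sylow 2-subgroups and `p`-solvable groups.
-/

set_option autoImplicit false
set_option linter.unusedSectionVars false

universe u

namespace Cfsg.Agent.Grp.Quad

open SL2
open scoped commutatorElement

variable {p : ℕ} [hp : Fact p.Prime]

local notation "SLp" => Matrix.SpecialLinearGroup (Fin 2) (ZMod p)

theorem eq_top_of_up_one (J : Subgroup (Matrix.SpecialLinearGroup (Fin 2) (ZMod p))) [hJ : J.Normal]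
    (h : up (1 : ZMod p) ∈ J) : J = ⊤ := by
  have hup : ∀ t : ZMod p, up t ∈ J := fun t => by
    have := J.pow_mem h t.val
    rwa [up_pow, mul_one, ZMod.natCast_zmod_val] at this
  let w : SLp := ⟨!![0, -1; 1, 0], by simp [Matrix.det_fin_two]⟩
  have hlow : ∀ t : ZMod p, low t ∈ J := fun t => by
    have h' := hJ.conj_mem _ (hup (-t)) w
    have e : w * up (-t) * w⁻¹ = low t := by
      refine Subtype.ext ?_
      simp only [Matrix.SpecialLinearGroup.coe_mul, Matrix.SpecialLinearGroup.coe_inv]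
      ext i j
      fin_cases i <;> fin_cases j <;>
        simp [w, up, low, Matrix.adjugate_fin_two, Matrix.mul_apply, Fin.sum_univ_two]
    rwa [e] at h'
  rw [eq_top_iff, ← Classical.SL_closure_transvections, Subgroup.closure_le]
  rintro _ ⟨⟨i, j, hij, c⟩, rfl⟩
  fin_cases i <;> fin_cases j
  · exact absurd rfl hij
  · refine (congrArg (fun z => z ∈ J) (Subtype.ext ?_ : _ = up c)).mpr (hup c)
    ext r s; fin_cases r <;> fin_cases s <;>
      simp [up, Matrix.TransvectionStruct.toSpecialLinearGroup, Matrix.SpecialLinearGroup.transvection_coe,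
        Matrix.transvection]
  · refine (congrArg (fun z => z ∈ J) (Subtype.ext ?_ : _ = low c)).mpr (hlow c)
    ext r s; fin_cases r <;> fin_cases s <;>
      simp [low, Matrix.TransvectionStruct.toSpecialLinearGroup, Matrix.SpecialLinearGroup.transvection_coe,
        Matrix.transvection]
  · exact absurd rfl hij

/-- The diagonal element used to write transvections as commutators. -/
def diagTwo (hodd : p ≠ 2) : Matrix.SpecialLinearGroup (Fin 2) (ZMod p) :=
  ⟨!![2, 0; 0, 2⁻¹], by
    have : (2 : ZMod p) ≠ 0 := SL2.two_ne_zero' (F := ZMod p) p hodd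
    simp [Matrix.det_fin_two, this]⟩

theorem diagTwo_pow (hodd : p ≠ 2) : diagTwo hodd ^ (p - 1) = 1 := by
  have h2 : (2 : ZMod p) ≠ 0 := SL2.two_ne_zero' (F := ZMod p) p hodd
  have hpow : ∀ n : ℕ, ((diagTwo hodd ^ n : SLp) : Matrix (Fin 2) (Fin 2) (ZMod p)) =
      !![2 ^ n, 0; 0, (2⁻¹) ^ n] := by
    intro n
    induction n with
    | zero => ext i j; fin_cases i <;> fin_cases j <;> simp
    | succ n ih =>
      rw [pow_succ (diagTwo hodd), Matrix.SpecialLinearGroup.coe_mul, ih]
      ext i j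
      fin_cases i <;> fin_cases j <;> simp [diagTwo, Matrix.mul_apply, Fin.sum_univ_two, pow_succ]
  refine Subtype.ext ?_
  rw [hpow, ZMod.pow_card_sub_one_eq_one h2, ZMod.pow_card_sub_one_eq_one (inv_ne_zero h2)]
  ext i j; fin_cases i <;> fin_cases j <;> simp

/-- For `p > 3` a normal subgroup containing the commutators with the diagonal element is everything. -/
theorem eq_top_of_commutator (hodd : p ≠ 2) (h3 : p ≠ 3) (J : Subgroup (Matrix.SpecialLinearGroup (Fin 2) (ZMod p))) [J.Normal]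
    (h : ∀ s : ZMod p, ⁅diagTwo hodd, up s⁆ ∈ J) : J = ⊤ := by
  refine eq_top_of_up_one J ?_
  have h30 : (3 : ZMod p) ≠ 0 := fun e =>
    h3 ((Nat.prime_dvd_prime_iff_eq hp.out Nat.prime_three).mp
      ((ZMod.natCast_eq_zero_iff 3 p).mp (by exact_mod_cast e)))
  have e : ⁅diagTwo hodd, up (3⁻¹ : ZMod p)⁆ = up 1 := by
    rw [commutatorElement_def, conj_up (by simp [diagTwo]), mul_inv_eq_iff_eq_mul, up_mul]
    congr 1
    simp [diagTwo]
    field_simp
    norm_num
  exact e ▸ h _

/-- A subgroup of `SL(2, K)` containing a copy of `SL(2, p)`, abelian modulo a normal subgroup of order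
prime to `p`, forces `p = 3`. -/
theorem three_of_commutator_le (hodd : p ≠ 2) {X : Type*} [Group X] [Finite X] (θ : SLp →* X)
    (hθ : Function.Injective θ) {M R : Subgroup X} (hθM : ∀ g, θ g ∈ M)
    (hMR : M ≤ Subgroup.normalizer (R : Set X)) (hR : (Nat.card R).Coprime p)
    (hcomm : ∀ x ∈ M, ∀ y ∈ M, ⁅x, y⁆ ∈ R) : p = 3 := by
  by_contra h3
  haveI : (R.comap θ).Normal := ⟨fun g hg c => by
    rw [Subgroup.mem_comap, map_mul, map_mul, map_inv]
    exact mem_conj_normalizer (hMR (hθM c)) hg⟩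
  have h := eq_top_of_commutator hodd h3 (R.comap θ) fun s => by
    rw [Subgroup.mem_comap, map_commutatorElement]
    exact hcomm _ (hθM _) _ (hθM _)
  have hu : θ (up 1) ∈ R := (h.ge (Subgroup.mem_top _) :)
  have hord : orderOf (up (1 : ZMod p)) = p := orderOf_eq_prime (by rw [up_pow]; simp [up_zero]) (fun e => by
    have := congrFun (congrFun (congrArg Subtype.val e) 0) 1
    simp [up] at this)
  have hd := R.orderOf_dvd_natCard hu
  rw [orderOf_injective θ hθ, hord] at hd
  exact (hp.out.coprime_iff_not_dvd.mp hR.symm) hd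

/-- `SL(2, p)` for `p > 3` is not a section of a `p`-solvable group. -/
theorem three_of_isPSolvable (hodd : p ≠ 2) {G : Type*} [Group G] [Finite G] (hG : Cfsg.IsPSolvable p G)
    {H : Subgroup G} (f : H →* SLp) (hf : Function.Surjective f) : p = 3 := by
  by_contra h3
  obtain ⟨n, S, h0, hlast, hmono, hn, hstep⟩ := hG
  have key : ∀ i : Fin (n + 1), ((S i).subgroupOf H).map f = ⊤ := by
    intro i
    induction i using Fin.reverseInduction with
    | last => rw [hlast]; exact (congrArg (Subgroup.map f) (Subgroup.top_subgroupOf H)).trans (Subgroup.map_top_of_surjective f hf)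
    | cast i ih =>
      haveI := hn i.castSucc
      haveI hJ : (((S i.castSucc).subgroupOf H).map f).Normal :=
        ((hn i.castSucc).subgroupOf H).map f hf
      set k := (S i.castSucc).relIndex (S i.succ)
      have hpw : ∀ y : SLp, y ^ k ∈ ((S i.castSucc).subgroupOf H).map f := by
        intro y
        obtain ⟨x, hx, rfl⟩ := ih.ge (Subgroup.mem_top y)
        refine ⟨x ^ k, ?_, map_pow f x k⟩
        haveI : ((S i.castSucc).subgroupOf (S i.succ)).Normal := (hn i.castSucc).subgroupOf _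
        exact ((S i.castSucc).subgroupOf (S i.succ)).pow_index_mem ⟨x, hx⟩
      rcases hstep i with ⟨m, hm⟩ | hcop
      · refine eq_top_of_commutator hodd h3 _ fun s => ?_
        have hd : diagTwo hodd ∈ ((S i.castSucc).subgroupOf H).map f := by
          have hcop' : Nat.Coprime (orderOf (diagTwo hodd)) k := by
            refine Nat.Coprime.coprime_dvd_left (orderOf_dvd_of_pow_eq_one (diagTwo_pow hodd)) ?_
            rw [show k = p ^ m from hm]
            refine Nat.Coprime.pow_right m ((hp.out.coprime_iff_not_dvd.mpr fun hd => ?_).symm)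
            have h2le := hp.out.two_le
            have := Nat.le_of_dvd (n := p - 1) (by omega) hd
            omega
          obtain ⟨j, hj⟩ := exists_pow_eq_self_of_coprime hcop'.symm
          rw [← hj]
          exact pow_mem (hpw _) j
        rw [commutatorElement_def, mul_assoc, mul_assoc, ← mul_assoc (up s) _ (up s)⁻¹]
        exact mul_mem hd (hJ.conj_mem _ (inv_mem hd) (up s))
      · refine eq_top_of_up_one _ ?_
        have hord : orderOf (up (1 : ZMod p)) ∣ p := orderOf_dvd_of_pow_eq_one (by rw [up_pow]; simp [up_zero])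
        obtain ⟨j, hj⟩ := exists_pow_eq_self_of_coprime (x := up (1 : ZMod p)) (n := k)
          (Nat.Coprime.coprime_dvd_right hord hcop)
        rw [← hj]
        exact pow_mem (hpw _) j
  have h := key 0
  rw [h0, Subgroup.bot_subgroupOf, Subgroup.map_bot] at h
  have hone := (Subgroup.mem_bot.mp (h.ge (Subgroup.mem_top (up (1 : ZMod p)))))
  have := congrFun (congrFun (congrArg Subtype.val hone) 0) 1
  simp [up] at this

/-- Two anticommuting elements of order four generate a 2-group. -/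
theorem exists_noncomm_two (hodd : p ≠ 2) :
    ∃ Q : Subgroup SLp, IsPGroup 2 Q ∧ ∃ x ∈ Q, ∃ y ∈ Q, ¬ Commute x y := by
  obtain ⟨α, β, hαβ⟩ := ZMod.sq_add_sq p (-1)
  let x : SLp := ⟨!![0, -1; 1, 0], by simp [Matrix.det_fin_two]⟩
  let y : SLp := ⟨!![α, β; β, -α], by simp [Matrix.det_fin_two]; linear_combination -hαβ⟩
  have hx4 : x ^ 2 ^ 2 = 1 := by
    refine Subtype.ext ?_
    rw [show (2 : ℕ) ^ 2 = 2 * 2 by norm_num, pow_mul, sq, sq]
    simp only [Matrix.SpecialLinearGroup.coe_mul]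
    ext i j
    fin_cases i <;> fin_cases j <;> simp [x, Matrix.mul_apply, Fin.sum_univ_two]
  have hy4 : y ^ 2 ^ 2 = 1 := by
    refine Subtype.ext ?_
    rw [show (2 : ℕ) ^ 2 = 2 * 2 by norm_num, pow_mul, sq, sq]
    simp only [Matrix.SpecialLinearGroup.coe_mul]
    ext i j
    fin_cases i <;> fin_cases j <;> simp [y, Matrix.mul_apply, Fin.sum_univ_two] <;>
      first | ring1 | linear_combination (α ^ 2 + β ^ 2 - 1) * hαβ
  have hyx : y * x * y⁻¹ = x⁻¹ := by
    refine Subtype.ext ?_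
    simp only [Matrix.SpecialLinearGroup.coe_mul, Matrix.SpecialLinearGroup.coe_inv]
    ext i j
    fin_cases i <;> fin_cases j <;>
      simp [x, y, Matrix.adjugate_fin_two, Matrix.mul_apply, Fin.sum_univ_two] <;>
      first | ring1 | linear_combination hαβ | linear_combination -hαβ
  have h2 : (2 : ZMod p) ≠ 0 := SL2.two_ne_zero' (F := ZMod p) p hodd
  have hzp : ∀ z : SLp, z ^ 2 ^ 2 = 1 → IsPGroup 2 (Subgroup.zpowers z) := fun z hz => by
    obtain ⟨k, -, hk⟩ := (Nat.dvd_prime_pow Nat.prime_two).mp (orderOf_dvd_of_pow_eq_one hz)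
    exact IsPGroup.of_card (n := k) (by rw [Nat.card_zpowers, hk])
  have hyN : y ∈ Subgroup.normalizer (Subgroup.zpowers x : Set SLp) := by
    rw [mem_normalizer_iff_smul, ← map_conj_eq_smul, MonoidHom.map_zpowers]
    show Subgroup.zpowers (y * x * y⁻¹) = _
    rw [hyx, Subgroup.zpowers_inv]
  refine ⟨Subgroup.zpowers y ⊔ Subgroup.zpowers x,
    IsPGroup.to_sup_of_normal_right' (hzp y hy4) (hzp x hx4) (Subgroup.zpowers_le.mpr hyN),
    x, Subgroup.mem_sup_right (Subgroup.mem_zpowers x), y, Subgroup.mem_sup_left (Subgroup.mem_zpowers y), ?_⟩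
  intro hc
  rw [show y * x * y⁻¹ = x from by rw [← hc.eq, mul_inv_cancel_right]] at hyx
  have h' := congrArg Subtype.val hyx
  simp only [Matrix.SpecialLinearGroup.coe_inv] at h'
  have := congrFun (congrFun h' 0) 1
  simp [x, Matrix.adjugate_fin_two] at this
  exact h2 (by linear_combination -this)

/-- A group with a section `SL(2, p)` has nonabelian Sylow 2-subgroups. -/
theorem sylow_two_not_comm (hodd : p ≠ 2) {G : Type*} [Group G] [Finite G] {H : Subgroup G}
    (f : H →* SLp) (hf : Function.Surjective f) (T : Sylow 2 G) : ¬ IsMulCommutative T := by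
  intro hT
  obtain ⟨Q, hQ, x, hxQ, y, hyQ, hxy⟩ := exists_noncomm_two (p := p) hodd
  obtain ⟨R, hR⟩ := hQ.exists_le_sylow
  obtain ⟨S⟩ : Nonempty (Sylow 2 H) := inferInstance
  obtain ⟨g, hg⟩ := MulAction.exists_smul_eq SLp (S.mapSurjective hf) R
  obtain ⟨h, rfl⟩ := hf g
  have hsub : ∀ z ∈ (R : Subgroup SLp), ∃ s ∈ ((h • S : Sylow 2 H) : Subgroup H), f s = z := by
    intro z hz
    rw [← hg, Sylow.coe_subgroup_smul, mem_smul_conj] at hz
    obtain ⟨s, hs, e⟩ := hz
    refine ⟨h * s * h⁻¹, ?_, by rw [map_mul, map_mul, map_inv, e]; group⟩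
    rw [Sylow.coe_subgroup_smul, mem_smul_conj]
    rw [show h⁻¹ * (h * s * h⁻¹) * h = s by group]
    exact hs
  obtain ⟨T', hT'⟩ := ((h • S : Sylow 2 H).isPGroup'.map H.subtype).exists_le_sylow
  obtain ⟨c, hc⟩ := MulAction.exists_smul_eq G T T'
  have hab : ∀ u ∈ (T' : Subgroup G), ∀ v ∈ (T' : Subgroup G), Commute u v := by
    intro u hu v hv
    rw [← hc, Sylow.coe_subgroup_smul, mem_smul_conj] at hu hv
    have := (show Commute (c⁻¹ * u * c) (c⁻¹ * v * c) from
      congrArg Subtype.val (hT.is_comm.comm (⟨_, hu⟩ : T) ⟨_, hv⟩)).map (MulAut.conj c).toMonoidHom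
    simp only [MulEquiv.coe_toMonoidHom, MulAut.conj_apply] at this
    rwa [show c * (c⁻¹ * u * c) * c⁻¹ = u by group, show c * (c⁻¹ * v * c) * c⁻¹ = v by group] at this
  obtain ⟨s, hs, rfl⟩ := hsub x (hR hxQ)
  obtain ⟨t, ht, rfl⟩ := hsub y (hR hyQ)
  exact hxy (Commute.map (show Commute s t from Subtype.ext (hab _ (hT' ⟨s, hs, rfl⟩) _ (hT' ⟨t, ht, rfl⟩)).eq) f)

variable {G : Type u} [Group G] [Finite G]

/-- A quadratic pair gives a section `SL(2, p)` inside the subgroup it generates; a normal subgroup of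
order prime to `p` moved by one of the pair forces `p = 3`. -/
theorem exists_section_of_pair (hodd : p ≠ 2) {V : Subgroup G} (hV : Cfsg.IsElementaryAbelian p V) {a b : G}
    (haN : a ∈ Subgroup.normalizer (V : Set G)) (hbN : b ∈ Subgroup.normalizer (V : Set G))
    (ha : QuadOn a V) (hb : QuadOn b V) {x : G} (hxH : x ∈ Subgroup.closure {a, b})
    (hxp : (orderOf x).Coprime p) (hx : x ∉ Subgroup.centralizer (V : Set G)) :
    ∃ (H₀ : Subgroup G) (f : H₀ →* SLp), H₀ ≤ Subgroup.closure {a, b} ∧ Function.Surjective f ∧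
      ∀ Q : Subgroup G, Q ≤ Subgroup.closure {a, b} → Subgroup.closure {a, b} ≤ Subgroup.normalizer (Q : Set G) →
        (Nat.card Q).Coprime p → (∃ q ∈ Q, x = ⁅q, a⁆) → p = 3 := by
  classical
  obtain ⟨K, _, _, _, φ, P, hP, hφx, hta, hle, -⟩ := exists_sl_two_group hodd hV haN hbN ha hb hxH hxp hx
  let H := Subgroup.closure ({a, b} : Set G)
  let θ : SLp →* Matrix.SpecialLinearGroup (Fin 2) K := (SL2.conjHom P hP).comp (primeHom K p)
  have hθ : Function.Injective θ := (conjHom_injective P hP).comp (primeHom_injective (F := K) p)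
  have hθr : θ.range = (primeHom K p).range.map (SL2.conjHom P hP) := (MonoidHom.map_range _ _).symm
  let e := (MonoidHom.ofInjective hθ).symm
  let H₁ : Subgroup H := θ.range.comap φ
  let f₁ : H₁ →* SLp := e.toMonoidHom.comp ((φ.comp H₁.subtype).codRestrict θ.range fun h => h.2)
  have hf₁ : Function.Surjective f₁ := by
    intro A
    obtain ⟨h, hh⟩ := hle (hθr.le ⟨A, rfl⟩)
    have hmem : φ h ∈ θ.range := ⟨A, hh.symm⟩
    refine ⟨⟨h, hmem⟩, ?_⟩
    exact (MulEquiv.symm_apply_eq (MonoidHom.ofInjective hθ)).mpr (Subtype.ext hh)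
  let i := (Subgroup.equivMapOfInjective H₁ H.subtype H.subtype_injective).symm
  refine ⟨H₁.map H.subtype, f₁.comp i.toMonoidHom, Subgroup.map_subtype_le _, hf₁.comp i.surjective,
    fun Q hQH hHQ hQc hq => ?_⟩
  obtain ⟨q, hqQ, hxe⟩ := hq
  set R : Subgroup (Matrix.SpecialLinearGroup (Fin 2) K) := (Q.subgroupOf H).map φ
  have hRn : φ.range ≤ Subgroup.normalizer (R : Set (Matrix.SpecialLinearGroup (Fin 2) K)) := by
    haveI : (Q.subgroupOf H).Normal := (Subgroup.normal_subgroupOf_iff_le_normalizer hQH).mpr hHQ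
    refine le_trans ?_ (Subgroup.le_normalizer_map φ)
    rw [Subgroup.normalizer_eq_top, ← MonoidHom.range_eq_map]
  have hRc : (Nat.card R).Coprime p := by
    refine Nat.Coprime.coprime_dvd_left (Subgroup.card_map_dvd _ _) ?_
    rwa [Nat.card_congr (Subgroup.subgroupOfEquivOfLe hQH).toEquiv]
  set α := φ ⟨a, Subgroup.subset_closure (by simp)⟩
  set η := φ ⟨q, hQH hqQ⟩
  have hηR : η ∈ R := Subgroup.mem_map_of_mem _ hqQ
  have hne : ⁅η, α⁆ ≠ 1 := by
    intro e1
    refine hφx ?_
    rw [← e1, ← map_commutatorElement]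
    exact congrArg φ (Subtype.ext hxe)
  have hαN : α ∈ Subgroup.normalizer (R : Set (Matrix.SpecialLinearGroup (Fin 2) K)) := hRn ⟨_, rfl⟩
  set M := R ⊔ Subgroup.zpowers α
  have hcR : ⁅η, α⁆ ∈ R := by
    rw [commutatorElement_def, mul_assoc, mul_assoc, ← mul_assoc α]
    exact mul_mem hηR (mem_conj_normalizer hαN (inv_mem hηR))
  have hnc : ¬ Commute (η * α * η⁻¹) α := by
    intro hc
    refine hne (orderOf_eq_one_iff.mp (Nat.eq_one_of_dvd_coprimes hRc (R.orderOf_dvd_natCard hcR)
      (orderOf_dvd_of_pow_eq_one ?_)))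
    rw [commutatorElement_def, hc.inv_right.mul_pow, inv_pow, unipotent_pow p hta,
      unipotent_pow p (by rw [tr_conj]; exact hta), inv_one, mul_one]
  have hαM : α ∈ M := Subgroup.mem_sup_right (Subgroup.mem_zpowers α)
  obtain ⟨P', hP', hle'⟩ := exists_std_of_pair hodd M
    (mul_mem (mul_mem (Subgroup.mem_sup_left hηR) hαM) (inv_mem (Subgroup.mem_sup_left hηR))) hαM
    (by rw [tr_conj]; exact hta) hta hnc
  have hzN : Subgroup.zpowers α ≤ Subgroup.normalizer (R : Set (Matrix.SpecialLinearGroup (Fin 2) K)) :=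
    Subgroup.zpowers_le.mpr hαN
  refine three_of_commutator_le hodd ((SL2.conjHom P' hP').comp (primeHom K p))
    ((conjHom_injective P' hP').comp (primeHom_injective (F := K) p)) (M := M) (R := R)
    (fun g => hle' ⟨_, ⟨g, rfl⟩, rfl⟩) (sup_le Subgroup.le_normalizer hzN) hRc ?_
  intro u hu v hv
  rw [← SetLike.mem_coe, Subgroup.coe_mul_of_right_le_normalizer_left R _ hzN] at hu hv
  obtain ⟨r, hr, c, hc, rfl⟩ := hu
  obtain ⟨s, hs, d, hd, rfl⟩ := hv
  have hcd : c * d = d * c := by
    obtain ⟨i, rfl⟩ := Subgroup.mem_zpowers_iff.mp hc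
    obtain ⟨j, rfl⟩ := Subgroup.mem_zpowers_iff.mp hd
    exact zpow_mul_comm α i j
  rw [show ⁅r * c, s * d⁆ = r * (c * s * c⁻¹) * (d * r⁻¹ * d⁻¹) * s⁻¹ by
    rw [commutatorElement_def, show d * r⁻¹ = (c * d * c⁻¹) * r⁻¹ by rw [hcd, mul_inv_cancel_right]]; group]
  exact mul_mem (mul_mem (mul_mem hr (mem_conj_normalizer (hzN hc) hs))
    (mem_conj_normalizer (hzN hd) (inv_mem hr))) (inv_mem hs)

/-- A faithful quadratic element outside the largest normal `p`-subgroup gives a quadratic pair. -/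
theorem exists_pair_of_not_core {V H : Subgroup G} (hHV : H ≤ Subgroup.normalizer (V : Set G))
    (hf : H ⊓ Subgroup.centralizer (V : Set G) = ⊥) {a : G} (haH : a ∈ H) (hq : QuadOn a V)
    (hna : a ∉ (Cfsg.pCore p H).map H.subtype) :
    ∃ b x : G, b ∈ H ∧ QuadOn b V ∧ x ∈ Subgroup.closure {a, b} ∧ (orderOf x).Coprime p ∧
      x ∉ Subgroup.centralizer (V : Set G) := by
  obtain ⟨n, x, hx, hxp, hx1⟩ := exists_pair (p := p) (MonoidHom.id H) Function.surjective_id
    (a := ⟨a, haH⟩) (fun h => hna ⟨_, h, rfl⟩)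
  refine ⟨(n : G) * a * (n : G)⁻¹, x, mul_mem (mul_mem n.2 haH) (inv_mem n.2), hq.conj (hHV n.2), ?_,
    by rwa [Subgroup.orderOf_coe], fun h => hx1 (Subtype.ext (Subgroup.mem_bot.mp (hf ▸ ⟨x.2, h⟩)))⟩
  have e2 : (Subgroup.closure ({⟨a, haH⟩, n * ⟨a, haH⟩ * n⁻¹} : Set H)).map H.subtype =
      Subgroup.closure {a, (n : G) * a * (n : G)⁻¹} := by
    rw [MonoidHom.map_closure, Set.image_pair]; rfl
  exact e2.le (Subgroup.mem_map_of_mem _ hx)

theorem exists_element_of_not_pGroup {H : Subgroup G} {C : Subgroup G} (hf : H ⊓ C = ⊥) (h : ¬ IsPGroup p H) :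
    ∃ x ∈ H, (orderOf x).Coprime p ∧ x ∉ C := by
  obtain ⟨y, hy⟩ := not_forall.mp h
  refine exists_coprime_pow (H := H) y.2 fun k hk => hy ⟨k, Subtype.ext ?_⟩
  rw [SubmonoidClass.coe_pow]
  exact Subgroup.mem_bot.mp (hf ▸ (⟨H.pow_mem y.2 _, hk⟩ : (y : G) ^ p ^ k ∈ H ⊓ C))

end Cfsg.Agent.Grp.Quad
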