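import Mathlib
import Cfsg.Prelude.Def_Solvable
import Cfsg.Agent.Lib.Grp.Zassenhaus.Complement
import Cfsg.Agent.Lib.Grp.Zassenhaus.Basics
import Cfsg.Agent.Lib.Recog.Frobenius
import Cfsg.Agent.Lib.Grp.FrobeniusTheorem
import Cfsg.Agent.Lib.Grp.SchurZassenhaus

/-!
# Towers of two Frobenius groups
-/

set_option autoImplicit false

namespace Cfsg.Agent.Grp.Tower

open scoped Pointwise

variable {G : Type*} [Group G] [Finite G]

/-- A fixed-point-free cyclic-type action on a cyclic group forces fixed points on a coprime module. -/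
theorem exists_fixed {V Z : Subgroup G} {y : G} {q : ℕ} (hq : 0 < q) (hVc : IsMulCommutative V) (hV : V ≠ ⊥)
    (hZc : IsMulCommutative Z) (hZV : ∀ z ∈ Z, ∀ v ∈ V, z * v * z⁻¹ ∈ V) (hyV : ∀ v ∈ V, y * v * y⁻¹ ∈ V)
    (hyZ : ∀ z ∈ Z, y * z * y⁻¹ ∈ Z) (hyq : y ^ q = 1) (hcop : (Nat.card Z).Coprime (Nat.card V))
    (hZfix : ∀ v ∈ V, (∀ z ∈ Z, z * v = v * z) → v = 1)
    (hyfix : ∀ j, 0 < j → j < q → ∀ z ∈ Z, y ^ j * z = z * y ^ j → z = 1) :
    ∃ v ∈ V, v ≠ 1 ∧ y * v = v * y := by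
  classical
  have := Fintype.ofFinite Z
  let M : CommGroup V := { (inferInstance : Group V) with mul_comm := fun a b => hVc.is_comm.comm a b }
  by_contra hno
  push Not at hno
  have hpow : ∀ j z, z ∈ Z → y ^ j * z * (y ^ j)⁻¹ ∈ Z := by
    intro j
    induction j with
    | zero => intro z hz; simpa using hz
    | succ j ih =>
      intro z hz
      have := ih _ (hyZ z hz)
      rwa [pow_succ, mul_inv_rev, show y ^ j * y * z * (y⁻¹ * (y ^ j)⁻¹) = y ^ j * (y * z * y⁻¹) * (y ^ j)⁻¹ by group]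
  have hpowV : ∀ j v, v ∈ V → y ^ j * v * (y ^ j)⁻¹ ∈ V := by
    intro j
    induction j with
    | zero => intro z hz; simpa using hz
    | succ j ih =>
      intro z hz
      have := ih _ (hyV z hz)
      rwa [pow_succ, mul_inv_rev, show y ^ j * y * z * (y⁻¹ * (y ^ j)⁻¹) = y ^ j * (y * z * y⁻¹) * (y ^ j)⁻¹ by group]
  let cz : Z → V →* V := fun z =>
    { toFun := fun v => ⟨(z : G) * v * (z : G)⁻¹, hZV z z.2 v v.2⟩
      map_one' := Subtype.ext (by simp)
      map_mul' := fun a b => Subtype.ext (by simp [mul_assoc]) }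
  let cy : ℕ → V →* V := fun j =>
    { toFun := fun v => ⟨y ^ j * v * (y ^ j)⁻¹, hpowV j v v.2⟩
      map_one' := Subtype.ext (by simp)
      map_mul' := fun a b => Subtype.ext (by simp [mul_assoc]) }
  have hczmul : ∀ a b v, cz (a * b) v = cz a (cz b v) := fun a b v => Subtype.ext (by simp [cz, mul_assoc])
  -- products over `Z` are trivial
  have hS : ∀ v : V, ∏ a : Z, cz a v = 1 := by
    intro v
    refine Subtype.ext (hZfix _ (∏ a : Z, cz a v : V).2 fun z hz => ?_)
    have h1 : cz ⟨z, hz⟩ (∏ a : Z, cz a v) = ∏ a : Z, cz a v := by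
      rw [map_prod]
      exact Fintype.prod_equiv (Equiv.mulLeft ⟨z, hz⟩) _ _ fun a => (hczmul _ _ _).symm
    exact mul_inv_eq_iff_eq_mul.mp (congrArg Subtype.val h1)
  -- products over `⟨y⟩` are trivial
  have hT : ∀ v : V, ∏ j ∈ Finset.range q, cy j v = 1 := by
    intro v
    by_contra hne
    refine hno _ (∏ j ∈ Finset.range q, cy j v : V).2 (fun e => hne (Subtype.ext e)) ?_
    have h1 : cy 1 (∏ j ∈ Finset.range q, cy j v) = ∏ j ∈ Finset.range q, cy j v := by
      rw [map_prod]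
      have e : ∀ j, cy 1 (cy j v) = cy (j + 1) v := fun j => Subtype.ext (by
        show y ^ 1 * (y ^ j * (v : G) * (y ^ j)⁻¹) * (y ^ 1)⁻¹ = y ^ (j + 1) * (v : G) * (y ^ (j + 1))⁻¹
        rw [pow_one, pow_succ', mul_inv_rev]; group)
      rw [Finset.prod_congr rfl fun j _ => e j]
      have h0 : cy q v = cy 0 v := Subtype.ext (by simp [cy, hyq])
      have h2 := Finset.prod_range_succ (fun j => cy j v) q
      have h3 := Finset.prod_range_succ' (fun j => cy j v) q
      rw [h3, h0] at h2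
      exact mul_right_cancel h2
    have := congrArg Subtype.val h1
    simp only [cy, MonoidHom.coe_mk, OneHom.coe_mk, pow_one] at this
    exact mul_inv_eq_iff_eq_mul.mp this
  obtain ⟨w, hw, hw1⟩ : ∃ w ∈ V, w ≠ 1 := by
    by_contra h
    push Not at h
    exact hV ((Subgroup.eq_bot_iff_forall _).mpr h)
  set v : V := ⟨w, hw⟩
  have h0 : ∏ a : Z, ∏ j ∈ Finset.range q, cz a (cy j (cz a⁻¹ v)) = 1 :=
    Finset.prod_eq_one fun a _ => by rw [← map_prod, hT, map_one]
  rw [Finset.prod_comm, Finset.prod_eq_single_of_mem 0 (Finset.mem_range.mpr hq)] at h0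
  · have h1 : ∀ a : Z, cz a (cy 0 (cz a⁻¹ v)) = v := fun a => Subtype.ext (by simp [cz, cy, mul_assoc])
    rw [Finset.prod_congr rfl fun a _ => h1 a, Finset.prod_const, Finset.card_univ, ← Nat.card_eq_fintype_card] at h0
    have h2 : orderOf v ∣ Nat.card Z := orderOf_dvd_of_pow_eq_one h0
    exact hw1 (congrArg Subtype.val (orderOf_eq_one_iff.mp
      (Nat.eq_one_of_dvd_coprimes hcop h2 (orderOf_dvd_natCard v))))
  · intro j hj hj0
    let α : Z → Z := fun a => ⟨y ^ j * (a : G) * (y ^ j)⁻¹, hpow j a a.2⟩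
    have hαmul : ∀ a b, α (a * b) = α a * α b := fun a b => Subtype.ext (by simp [α, mul_assoc])
    let δ : Z →* Z := MonoidHom.mk' (fun a => a * (α a)⁻¹) fun a b => by
      rw [hαmul, mul_inv_rev, hZc.is_comm.comm (α b)⁻¹ (α a)⁻¹]
      rw [mul_assoc, ← mul_assoc b, hZc.is_comm.comm b (α a)⁻¹]
      simp only [mul_assoc]
    have hδ : Function.Injective δ := (injective_iff_map_eq_one δ).mpr fun a ha => by
      have h1 : α a = a := (mul_inv_eq_one.mp ha).symm
      refine Subtype.ext (hyfix j (Nat.pos_of_ne_zero hj0) (Finset.mem_range.mp hj) a a.2 ?_)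
      exact mul_inv_eq_iff_eq_mul.mp (congrArg Subtype.val h1)
    have hval : ∀ a : Z, cz a (cy j (cz a⁻¹ v)) = cz (δ a) (cy j v) := fun a => Subtype.ext (by
      simp [cz, cy, δ, α, mul_assoc])
    rw [Finset.prod_congr rfl fun a _ => hval a,
      Fintype.prod_bijective δ (Finite.injective_iff_bijective.mp hδ) (fun a => cz (δ a) (cy j v)) (fun a => cz a (cy j v))
        fun a => rfl]
    exact hS _

theorem exists_orderOf_mul_of_nilpotent (hG : Group.IsNilpotent G) {p q : ℕ} (hp : p.Prime) (hq : q.Prime)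
    (hne : p ≠ q) (hpd : p ∣ Nat.card G) (hqd : q ∣ Nat.card G) : ∃ g : G, orderOf g = p * q := by
  have := Fact.mk hp
  have := Fact.mk hq
  have hn : ∀ (r : ℕ) (_ : Fact r.Prime) (R : Sylow r G), (R : Subgroup G).Normal :=
    ((Group.isNilpotent_of_finite_tfae (G := G)).out 0 3).mp hG
  obtain ⟨x, hx⟩ := exists_prime_orderOf_dvd_card' (G := G) p hpd
  obtain ⟨y, hy⟩ := exists_prime_orderOf_dvd_card' (G := G) q hqd
  obtain ⟨P, hP⟩ := (IsPGroup.of_card (p := p) (n := 1) (show Nat.card (Subgroup.zpowers x) = p ^ 1 by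
    rw [Nat.card_zpowers, hx, pow_one])).exists_le_sylow
  obtain ⟨R, hR⟩ := (IsPGroup.of_card (p := q) (n := 1) (show Nat.card (Subgroup.zpowers y) = q ^ 1 by
    rw [Nat.card_zpowers, hy, pow_one])).exists_le_sylow
  have hc : Commute x y := Subgroup.commute_of_normal_of_disjoint _ _ (hn p ‹_› P) (hn q ‹_› R)
    (P.2.disjoint_of_ne p q hne _ _ R.2) x y (hP (Subgroup.mem_zpowers x)) (hR (Subgroup.mem_zpowers y))
  exact ⟨x * y, by
    rw [hc.orderOf_mul_eq_mul_orderOf_of_coprime (by rw [hx, hy]; exact (Nat.coprime_primes hp hq).mpr hne), hx, hy]⟩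

end Cfsg.Agent.Grp.Tower
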