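import Cfsg.Agent.Lib.Grp.ZasClasses

/-!
# Zassenhaus groups of odd degree: centralizers of real elements without fixed points

An element without fixed points that is inverted by an involution has an abelian centralizer of
order dividing the degree; counting pairs of involutions shows that one of these centralizers is
large.
-/

set_option autoImplicit false

namespace Cfsg.Agent.Grp.ZasS

open MulAction Cfsg.Agent.Block.Zas

universe u v

variable {G : Type u} {Ω : Type v} [Group G] [MulAction G Ω] [Finite G]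

theorem exists_involution_F (D : Frame G Ω) (heven : Even (Nat.card D.F)) :
    ∃ z ∈ D.F, orderOf z = 2 := by
  haveI := Fact.mk Nat.prime_two
  obtain ⟨z, hz⟩ := exists_prime_orderOf_dvd_card' (G := D.F) 2 heven.two_dvd
  exact ⟨z, z.2, by rwa [Subgroup.orderOf_coe]⟩

/-- In odd degree every involution fixes a point. -/
theorem involution_has_fix (D : Frame G Ω) (hn : 2 ≤ Nat.card D.F) (hs : Swaps D)
    (hodd : Odd (Nat.card D.H)) (heven : Even (Nat.card D.F)) {x : G} (hx : orderOf x = 2) :
    ∃ c : Ω, x • c = c := by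
  obtain ⟨z, hz, hz2⟩ := exists_involution_F D heven
  obtain ⟨g, hg⟩ := involutions_conj D hn hs hodd hz2 hx
  exact ⟨g • D.a, by rw [← hg, mul_smul, mul_smul, inv_smul_smul, D.F_fix z hz]⟩

theorem fix_of_commute (D : Frame G Ω) (hodd : Odd (Nat.card D.H)) {x g : G} (hx : orderOf x = 2)
    (hg : g * x = x * g) {c : Ω} (hc : x • c = c) : g • c = c :=
  involution_fix D hodd hx (by rw [← mul_smul, ← hg, mul_smul, hc]) hc

/-- The centralizer of an element without fixed points is semiregular. -/
theorem cent_semiregular (D : Frame G Ω) (hn : 2 ≤ Nat.card D.F) (hs : Swaps D)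
    (hodd : Odd (Nat.card D.H)) (heven : Even (Nat.card D.F)) {d g : G}
    (hd : ∀ c : Ω, d • c ≠ c) (hg : g * d = d * g) {c : Ω} (hc : g • c = c) : g = 1 := by
  have h2 : d • d • c ≠ c := fun e => by
    obtain ⟨c', hc'⟩ := involution_has_fix D hn hs hodd heven
      (swap_involution D hn hs (hd c).symm rfl e)
    exact hd c' hc'
  refine D.free3 g c (d • c) (d • d • c) (hd c).symm (hd (d • c)).symm h2.symm hc ?_ ?_
  · rw [← mul_smul, hg, mul_smul, hc]
  · rw [← mul_smul g, hg, mul_smul, ← mul_smul g, hg, mul_smul, hc]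

theorem card_cent_dvd (D : Frame G Ω) (hn : 2 ≤ Nat.card D.F) (hs : Swaps D)
    (hodd : Odd (Nat.card D.H)) (heven : Even (Nat.card D.F)) {d : G}
    (hd : ∀ c : Ω, d • c ≠ c) :
    Nat.card (Subgroup.centralizer ({d} : Set G)) ∣ Nat.card D.F + 1 := by
  have h := card_of_free (H := Subgroup.centralizer ({d} : Set G)) (X := Ω) fun g c hc =>
    Subtype.ext (cent_semiregular D hn hs hodd heven hd
      (Subgroup.mem_centralizer_singleton_iff.mp g.2) hc)
  rw [← D.card_points, h]
  exact dvd_mul_left _ _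

/-- An involution acting on a subgroup without fixed points inverts it. -/
theorem inverts_of_fpf (D : Frame G Ω) (hn : 2 ≤ Nat.card D.F) (hs : Swaps D)
    (hodd : Odd (Nat.card D.H)) (heven : Even (Nat.card D.F)) {d x : G}
    (hd : ∀ c : Ω, d • c ≠ c) (hx : orderOf x = 2)
    (hnorm : ∀ g ∈ Subgroup.centralizer ({d} : Set G),
      x * g * x ∈ Subgroup.centralizer ({d} : Set G)) :
    ∀ g ∈ Subgroup.centralizer ({d} : Set G), x * g * x = g⁻¹ := by
  intro g hg
  set C := Subgroup.centralizer ({d} : Set G) with hC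
  have hx2 : x * x = 1 := by rw [← sq, ← hx, pow_orderOf_eq_one]
  obtain ⟨c, hc⟩ := involution_has_fix D hn hs hodd heven hx
  let m : C → C := fun y => y⁻¹ * ⟨x * y * x, hnorm y y.2⟩
  have hinj : Function.Injective m := by
    intro y w e
    have e' : (y : G)⁻¹ * (x * y * x) = (w : G)⁻¹ * (x * w * x) := congrArg Subtype.val e
    have hcomm : ((w : G) * (y : G)⁻¹) * x = x * ((w : G) * (y : G)⁻¹) := by
      have e'' : (y : G)⁻¹ * x * y = (w : G)⁻¹ * x * w := by
        apply mul_right_cancel (b := x)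
        simpa [mul_assoc] using e'
      calc (w : G) * (y : G)⁻¹ * x = w * ((y : G)⁻¹ * x * y) * (y : G)⁻¹ := by group
        _ = w * ((w : G)⁻¹ * x * w) * (y : G)⁻¹ := by rw [e'']
        _ = _ := by group
    have h1 := cent_semiregular D hn hs hodd heven hd (Subgroup.mem_centralizer_singleton_iff.mp
      (mul_mem w.2 (inv_mem y.2))) (fix_of_commute D hodd hx hcomm hc)
    exact Subtype.ext (mul_inv_eq_one.mp h1).symm
  obtain ⟨y, hy⟩ := Finite.injective_iff_surjective.mp hinj ⟨g, hg⟩
  have e : (y : G)⁻¹ * (x * y * x) = g := congrArg Subtype.val hy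
  rw [← e]
  calc x * ((y : G)⁻¹ * (x * y * x)) * x = x * (y : G)⁻¹ * x * y * (x * x) := by group
    _ = x⁻¹ * (y : G)⁻¹ * x⁻¹ * y := by rw [hx2, mul_one, inv_eq_of_mul_eq_one_right hx2]
    _ = _ := by group

/-- The centralizer of a real element without fixed points is inverted. -/
theorem cent_inverted (D : Frame G Ω) (hn : 2 ≤ Nat.card D.F) (hs : Swaps D)
    (hodd : Odd (Nat.card D.H)) (heven : Even (Nat.card D.F)) {d x : G}
    (hd : ∀ c : Ω, d • c ≠ c) (hx : orderOf x = 2) (hxd : x * d * x = d⁻¹) :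
    ∀ g ∈ Subgroup.centralizer ({d} : Set G), x * g * x = g⁻¹ := by
  refine inverts_of_fpf D hn hs hodd heven hd hx fun g hg => ?_
  rw [Subgroup.mem_centralizer_singleton_iff] at hg ⊢
  have hx2 : x * x = 1 := by rw [← sq, ← hx, pow_orderOf_eq_one]
  have hxi : x⁻¹ = x := inv_eq_of_mul_eq_one_right hx2
  have e : x * d⁻¹ * x = d := by
    calc x * d⁻¹ * x = x * (x * d * x) * x := by rw [hxd]
      _ = (x * x) * d * (x * x) := by group
      _ = d := by rw [hx2, one_mul, mul_one]
  have hg' : g * d⁻¹ = d⁻¹ * g := (Commute.inv_right hg : Commute g d⁻¹)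
  calc x * g * x * d = x * g * x * (x * d⁻¹ * x) := by rw [e]
    _ = x * (g * d⁻¹) * x := by simp [mul_assoc, ← mul_assoc x x, hx2]
    _ = x * d⁻¹ * x * (x * g * x) := by rw [hg']; simp [mul_assoc, ← mul_assoc x x, hx2]
    _ = d * (x * g * x) := by rw [e]

theorem cent_comm (D : Frame G Ω) (hn : 2 ≤ Nat.card D.F) (hs : Swaps D)
    (hodd : Odd (Nat.card D.H)) (heven : Even (Nat.card D.F)) {d x : G}
    (hd : ∀ c : Ω, d • c ≠ c) (hx : orderOf x = 2) (hxd : x * d * x = d⁻¹) {g k : G}
    (hg : g ∈ Subgroup.centralizer ({d} : Set G)) (hk : k ∈ Subgroup.centralizer ({d} : Set G)) :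
    g * k = k * g := by
  have hinv := cent_inverted D hn hs hodd heven hd hx hxd
  have hx2 : x * x = 1 := by rw [← sq, ← hx, pow_orderOf_eq_one]
  have e : g⁻¹ * k⁻¹ = (g * k)⁻¹ := by
    rw [← hinv _ (mul_mem hg hk), ← hinv g hg, ← hinv k hk]
    simp [mul_assoc, ← mul_assoc x x, hx2]
  rw [mul_inv_rev] at e
  calc g * k = (k⁻¹ * g⁻¹)⁻¹ := by group
    _ = (g⁻¹ * k⁻¹)⁻¹ := by rw [e]
    _ = k * g := by group

theorem cent_eq (D : Frame G Ω) (hn : 2 ≤ Nat.card D.F) (hs : Swaps D)
    (hodd : Odd (Nat.card D.H)) (heven : Even (Nat.card D.F)) {d x y : G}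
    (hd : ∀ c : Ω, d • c ≠ c) (hx : orderOf x = 2) (hxd : x * d * x = d⁻¹)
    (hy : y ∈ Subgroup.centralizer ({d} : Set G)) (hy1 : y ≠ 1) :
    (∀ c : Ω, y • c ≠ c) ∧
      Subgroup.centralizer ({y} : Set G) = Subgroup.centralizer ({d} : Set G) := by
  have hyd : ∀ c : Ω, y • c ≠ c := fun c hc =>
    hy1 (cent_semiregular D hn hs hodd heven hd (Subgroup.mem_centralizer_singleton_iff.mp hy) hc)
  refine ⟨hyd, le_antisymm (fun g hg => Subgroup.mem_centralizer_singleton_iff.mpr ?_) fun g hg =>
    Subgroup.mem_centralizer_singleton_iff.mpr (cent_comm D hn hs hodd heven hd hx hxd hg hy)⟩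
  exact cent_comm D hn hs hodd heven hyd hx (cent_inverted D hn hs hodd heven hd hx hxd y hy) hg
    (Subgroup.mem_centralizer_singleton_iff.mpr (Subgroup.mem_centralizer_singleton_iff.mp hy).symm)

omit [Finite G] in
/-- A group of exponent four with one involution has at most eight elements. -/
theorem card_le_eight [Finite G] (T : Subgroup G) (z : G)
    (hinv : ∀ u ∈ T, u * u = 1 → u = 1 ∨ u = z) (h4 : ∀ u ∈ T, (u * u) * (u * u) = 1) :
    Nat.card T ≤ 8 := by
  classical
  by_contra hlt
  push Not at hlt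
  haveI := Fintype.ofFinite T
  have hex : ∀ s : Finset G, s.card ≤ 8 → ∃ u ∈ T, u ∉ s := by
    intro s hs
    by_contra h
    push Not at h
    have := Finset.card_le_card_of_injOn (fun u : T => (u : G)) (s := Finset.univ) (t := s)
      (fun u _ => h u u.2) Subtype.val_injective.injOn
    rw [Finset.card_univ, ← Nat.card_eq_fintype_card] at this
    omega
  have hsq : ∀ u ∈ T, u ≠ 1 → u ≠ z → u * u = z := fun u hu h1 hz => by
    rcases hinv _ (mul_mem hu hu) (h4 u hu) with e | e
    · rcases hinv u hu e with e' | e'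
      exacts [absurd e' h1, absurd e' hz]
    · exact e
  obtain ⟨u, hu, hu'⟩ := hex {1, z} (Finset.card_le_two.trans (by norm_num))
  simp only [Finset.mem_insert, Finset.mem_singleton, not_or] at hu'
  have huz := hsq u hu hu'.1 hu'.2
  have hz1 : z ≠ 1 := fun e => by
    rcases hinv u hu (huz.trans e) with e' | e'
    exacts [hu'.1 e', hu'.2 e']
  have hzT : z ∈ T := huz ▸ mul_mem hu hu
  have hz2 : z * z = 1 := huz ▸ h4 u hu
  have hcen : ∀ w ∈ T, z * w = w * z := fun w hw => by
    by_cases h1 : w = 1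
    · simp [h1]
    by_cases h2 : w = z
    · rw [h2]
    rw [← hsq w hw h1 h2, mul_assoc]
  have hanti : ∀ a ∈ T, ∀ b ∈ T, a * a = z → b * b = z → b ≠ a → b ≠ a * z →
      b * a = a * b * z := by
    intro a ha b hb ea eb h1 h2
    have hai : a⁻¹ = a * z := inv_eq_of_mul_eq_one_right (by rw [← mul_assoc, ea, hz2])
    have hbi : b⁻¹ = b * z := inv_eq_of_mul_eq_one_right (by rw [← mul_assoc, eb, hz2])
    have hab1 : a * b ≠ 1 := fun e => h2 (by rw [← hai]; exact (inv_eq_of_mul_eq_one_right e).symm)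
    have habz : a * b ≠ z := fun e => h1 (mul_left_cancel (e.trans ea.symm))
    have e := hsq _ (mul_mem ha hb) hab1 habz
    calc b * a = a⁻¹ * (a * b * (a * b)) * b⁻¹ := by group
      _ = a * z * z * (b * z) := by rw [e, hai, hbi]
      _ = a * b * z := by rw [mul_assoc a z z, hz2, mul_one, mul_assoc]
  obtain ⟨v, hv, hv'⟩ := hex {1, z, u, u * z} (Finset.card_le_four.trans (by norm_num))
  simp only [Finset.mem_insert, Finset.mem_singleton, not_or] at hv'
  have hvz := hsq v hv hv'.1 hv'.2.1
  obtain ⟨w, hw, hw'⟩ := hex {1, z, u, u * z, v, v * z, u * v, u * v * z} (by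
    repeat refine (Finset.card_insert_le _ _).trans (Nat.succ_le_succ ?_)
    simp)
  simp only [Finset.mem_insert, Finset.mem_singleton, not_or] at hw'
  obtain ⟨w1, w2, w3, w4, w5, w6, w7, w8⟩ := hw'
  have hwz := hsq w hw w1 w2
  have e1 := hanti u hu w hw huz hwz w3 w4
  have e2 := hanti v hv w hw hvz hwz w5 w6
  have huv1 : u * v ≠ 1 := fun e => hv'.2.2.2 (by
    have hui : u⁻¹ = u * z := inv_eq_of_mul_eq_one_right (by rw [← mul_assoc, huz, hz2])
    rw [← hui]; exact (inv_eq_of_mul_eq_one_right e).symm)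
  have huvz : u * v ≠ z := fun e => hv'.2.2.1 (mul_left_cancel (e.trans huz.symm))
  have e3 := hanti (u * v) (mul_mem hu hv) w hw (hsq _ (mul_mem hu hv) huv1 huvz) hwz w7 w8
  have e4 : w * (u * v) = u * v * w := by
    calc w * (u * v) = u * w * (z * v) := by rw [← mul_assoc, e1]; group
      _ = u * w * (v * z) := by rw [hcen v hv]
      _ = u * (w * v) * z := by group
      _ = u * v * w * (z * z) := by rw [e2]; group
      _ = u * v * w := by rw [hz2, mul_one]
  rw [e3] at e4
  exact hz1 (mul_eq_left.mp e4)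

/-- The normalizer of the centralizer of a real element without fixed points. -/
theorem card_normalizer_cent (D : Frame G Ω) (hn : 2 ≤ Nat.card D.F) (hs : Swaps D)
    (hodd : Odd (Nat.card D.H)) (heven : Even (Nat.card D.F)) {d x : G}
    (hd : ∀ c : Ω, d • c ≠ c) (hx : orderOf x = 2) (hxd : x * d * x = d⁻¹)
    (hexp : ∀ u ∈ D.F, (u * u) * (u * u) = 1) :
    Nat.card (Subgroup.normalizer
        ((Subgroup.centralizer ({d} : Set G) : Subgroup G) : Set G)) ≤
      8 * Nat.card (Subgroup.centralizer ({d} : Set G)) := by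
  set C := Subgroup.centralizer ({d} : Set G) with hC
  set N := Subgroup.normalizer (C : Set G) with hN
  have hx2 : x * x = 1 := by rw [← sq, ← hx, pow_orderOf_eq_one]
  have hxi : x⁻¹ = x := inv_eq_of_mul_eq_one_right hx2
  have hinv := cent_inverted D hn hs hodd heven hd hx hxd
  have hcent : ∀ y, orderOf y = 2 → (∀ g ∈ C, y * g * y = g⁻¹) → y * x ∈ C := by
    intro y hy hyinv
    have hy2 : y * y = 1 := by rw [← sq, ← hy, pow_orderOf_eq_one]
    have hdC : d ∈ C := Subgroup.mem_centralizer_singleton_iff.mpr rfl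
    rw [hC, Subgroup.mem_centralizer_singleton_iff]
    calc y * x * d = y * (x * d * x) * x := by simp [mul_assoc, hx2]
      _ = y * d⁻¹ * y * (y * x) := by rw [hxd]; simp [mul_assoc, ← mul_assoc y y, hy2]
      _ = d * (y * x) := by rw [hyinv _ (inv_mem hdC), inv_inv]
  obtain ⟨c, hc⟩ := involution_has_fix D hn hs hodd heven hx
  -- the involution normalizes
  have hconjC : ∀ n ∈ N, n * x * n⁻¹ * x ∈ C := by
    intro n hn'
    refine hcent _ (((SemiconjBy.conj_mk n x).orderOf_eq n).symm.trans hx) fun g hg => ?_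
    have hg' : n⁻¹ * g * n ∈ C := (Subgroup.mem_normalizer_iff''.mp hn' g).mp hg
    calc n * x * n⁻¹ * g * (n * x * n⁻¹) = n * (x * (n⁻¹ * g * n) * x) * n⁻¹ := by group
      _ = g⁻¹ := by rw [hinv _ hg']; group
  let φ : N → C := fun n => ⟨(n : G) * x * (n : G)⁻¹ * x, hconjC n n.2⟩
  set T := N ⊓ Subgroup.centralizer ({x} : Set G) with hT
  have hTF : Nat.card T ≤ 8 := by
    refine card_le_eight T x (fun u hu h => ?_) fun u hu => ?_
    · by_cases hu1 : u = 1
      · exact Or.inl hu1
      right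
      have huo : orderOf u = 2 := orderOf_eq_prime (by rw [sq]; exact h) hu1
      have hui : u⁻¹ = u := inv_eq_of_mul_eq_one_right h
      have huinv := inverts_of_fpf D hn hs hodd heven hd huo fun g hg => by
        have := (Subgroup.mem_normalizer_iff.mp hu.1 g).mp hg
        rwa [hui] at this
      have hmem := hcent u huo huinv
      have hux : u * x = x * u := Subgroup.mem_centralizer_singleton_iff.mp hu.2
      have hfix : (u * x) • c = c := by
        rw [mul_smul, hc]
        exact fix_of_commute D hodd hx hux hc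
      have := cent_semiregular D hn hs hodd heven hd
        (Subgroup.mem_centralizer_singleton_iff.mp hmem) hfix
      rw [← hxi]
      exact eq_inv_of_mul_eq_one_left this
    · obtain ⟨g, hg⟩ := D.transitive c D.a
      have hgx : (g * x * g⁻¹) • D.a = D.a := (conj_smul hg hg).mpr hc
      have hgxo : orderOf (g * x * g⁻¹) = 2 := ((SemiconjBy.conj_mk g x).orderOf_eq g).symm.trans hx
      have hgxF : g * x * g⁻¹ ∈ D.F :=
        mem_F_of_coprime D hgx (by rw [hgxo]; exact Nat.coprime_two_left.mpr hodd)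
      have hguF : g * u * g⁻¹ ∈ D.F := by
        refine centralizer_le_F D hgxF (fun e => by rw [e, orderOf_one] at hgxo; omega)
          (Subgroup.mem_centralizer_singleton_iff.mpr ?_)
        have hux : u * x = x * u := Subgroup.mem_centralizer_singleton_iff.mp hu.2
        calc g * u * g⁻¹ * (g * x * g⁻¹) = g * (u * x) * g⁻¹ := by group
          _ = _ := by rw [hux]; group
      have := hexp _ hguF
      calc u * u * (u * u) = g⁻¹ * ((g * u * g⁻¹) * (g * u * g⁻¹) *
            ((g * u * g⁻¹) * (g * u * g⁻¹))) * g := by group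
        _ = 1 := by rw [this]; group
  classical
  haveI := Fintype.ofFinite N
  haveI := Fintype.ofFinite C
  rw [Nat.card_eq_fintype_card, Nat.card_eq_fintype_card (α := C), ← Finset.card_univ,
    ← Finset.card_univ]
  refine Finset.card_le_mul_card_image_of_maps_to (f := φ) (fun _ _ => Finset.mem_univ _) 8
    fun y _ => ?_
  refine le_trans ?_ hTF
  rcases (Finset.univ.filter fun n => φ n = y).eq_empty_or_nonempty with h | ⟨n₀, hn₀⟩
  · rw [h]; simp
  haveI := Fintype.ofFinite T
  rw [Nat.card_eq_fintype_card, ← Finset.card_univ]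
  have hmem : ∀ n ∈ Finset.univ.filter (fun n => φ n = y), ((n₀⁻¹ * n : N) : G) ∈ T := by
    intro n hn'
    refine ⟨SetLike.coe_mem _, Subgroup.mem_centralizer_singleton_iff.mpr ?_⟩
    have e := congrArg Subtype.val
      ((Finset.mem_filter.mp hn').2.trans (Finset.mem_filter.mp hn₀).2.symm)
    have e' : (n : G) * x * (n : G)⁻¹ = (n₀ : G) * x * (n₀ : G)⁻¹ := mul_right_cancel e
    calc ((n₀⁻¹ * n : N) : G) * x = (n₀ : G)⁻¹ * ((n : G) * x * (n : G)⁻¹) * n := by
          rw [Subgroup.coe_mul, Subgroup.coe_inv]; group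
      _ = _ := by rw [e', Subgroup.coe_mul, Subgroup.coe_inv]; group
  refine Finset.card_le_card_of_injOn
    (fun n => if h : ((n₀⁻¹ * n : N) : G) ∈ T then (⟨_, h⟩ : T) else 1)
    (fun _ _ => Finset.mem_univ _) fun n hn' m hm' e => ?_
  simp only [dif_pos (hmem n hn'), dif_pos (hmem m hm'), Subtype.mk.injEq] at e
  simp only [Subgroup.coe_mul] at e
  exact Subtype.ext (mul_left_cancel e)

/-- Counting pairs of involutions gives a real element without fixed points with large centralizer. -/
theorem exists_large_cent (D : Frame G Ω) (hn : 2 ≤ Nat.card D.F) (hs : Swaps D)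
    (hodd : Odd (Nat.card D.H)) (heven : Even (Nat.card D.F))
    (hlt : Nat.card D.H + 1 < Nat.card D.F) :
    ∃ d x : G, (∀ c : Ω, d • c ≠ c) ∧ orderOf x = 2 ∧ x * d * x = d⁻¹ ∧
      Nat.card D.H + 2 < Nat.card (Subgroup.centralizer ({d} : Set G)) := by
  classical
  by_contra hcon
  push Not at hcon
  haveI := Fintype.ofFinite G
  haveI := D.finite_points
  haveI := Fintype.ofFinite Ω
  set e := Nat.card D.H with he
  set h := Nat.card D.F with hh
  set I := Finset.univ.filter fun x : G => orderOf x = 2 with hI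
  have hmemI : ∀ {x : G}, x ∈ I ↔ orderOf x = 2 := fun {x} => by simp [hI]
  have hsq : ∀ {x : G}, x ∈ I → x * x = 1 := fun {x} hx => by
    rw [← sq, ← hmemI.mp hx, pow_orderOf_eq_one]
  set r : G → ℕ := fun z => (I.filter fun x => x * z ∈ I).card with hr
  have htotal : I.card * I.card = ∑ z : G, r z := by
    have h1 : ∀ x ∈ I, ∑ z : G, (if x * z ∈ I then 1 else 0) = I.card := by
      intro x _
      rw [← Finset.card_filter]
      exact Finset.card_equiv (Equiv.mulLeft x) fun z => by simp
    simp only [hr, Finset.card_filter]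
    rw [Finset.sum_comm, Finset.sum_congr rfl h1, Finset.sum_const, smul_eq_mul]
  have hinvz : ∀ x z : G, x ∈ I → x * z ∈ I → x * z * x = z⁻¹ := by
    intro x z hx hxz
    calc x * z * x = (x * z * (x * z)) * z⁻¹ := by group
      _ = z⁻¹ := by rw [hsq hxz, one_mul]
  have hN : I.card = e * (h + 1) := by
    have := card_involutions D hn hs hodd
    rw [if_pos heven, Nat.card_eq_fintype_card, Fintype.card_subtype] at this
    exact this
  have hbound : ∀ z : G, r z ≤ Nat.card (Subgroup.centralizer ({z} : Set G)) := by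
    intro z
    rcases (I.filter fun x => x * z ∈ I).eq_empty_or_nonempty with h0 | ⟨x₀, hx₀⟩
    · simp [hr, h0]
    rw [Finset.mem_filter] at hx₀
    have h0 := hinvz x₀ z hx₀.1 hx₀.2
    have hx0i : x₀⁻¹ = x₀ := inv_eq_of_mul_eq_one_right (hsq hx₀.1)
    rw [Nat.card_eq_fintype_card]
    have hmem : ∀ x ∈ I.filter (fun x => x * z ∈ I),
        x₀ * x ∈ Subgroup.centralizer ({z} : Set G) := by
      intro x hx
      rw [Finset.mem_filter] at hx
      have h1 := hinvz x z hx.1 hx.2
      have hxi : x⁻¹ = x := inv_eq_of_mul_eq_one_right (hsq hx.1)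
      rw [Subgroup.mem_centralizer_singleton_iff]
      calc x₀ * x * z = x₀ * (x * z * x) * x⁻¹ := by group
        _ = x₀ * (x₀ * z * x₀) * x := by rw [h1, hxi, h0]
        _ = (x₀ * x₀) * z * (x₀ * x) := by group
        _ = z * (x₀ * x) := by rw [hsq hx₀.1, one_mul]
    refine Finset.card_le_card_of_injOn
      (t := (Finset.univ : Finset (Subgroup.centralizer ({z} : Set G))))
      (fun x => if hx : x₀ * x ∈ Subgroup.centralizer ({z} : Set G) then ⟨x₀ * x, hx⟩ else 1)
      (fun _ _ => Finset.mem_univ _) fun x hx y hy e' => ?_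
    simp only [dif_pos (hmem x hx), dif_pos (hmem y hy), Subtype.mk.injEq] at e'
    exact mul_left_cancel e'
  -- the three kinds of elements
  set P : G → Prop := fun z => ∃ g u : G, u ∈ D.F ∧ g * u * g⁻¹ = z with hP
  set Q : G → Prop := fun z => ∀ c : Ω, z • c ≠ c with hQ
  have hPQ : ∀ z, P z → ¬ Q z := fun z ⟨g, u, hu, hz⟩ hq =>
    hq (g • D.a) (by rw [← hz, mul_smul, mul_smul, inv_smul_smul, D.F_fix u hu])
  set SP := Finset.univ.filter fun z => P z
  set SQ := Finset.univ.filter fun z => Q z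
  set SE := Finset.univ.filter fun z => ¬ P z ∧ ¬ Q z
  have hsplit : ∀ f : G → ℕ, ∑ z, f z = ∑ z ∈ SP, f z + ∑ z ∈ SQ, f z + ∑ z ∈ SE, f z := by
    intro f
    rw [← Finset.sum_filter_add_sum_filter_not Finset.univ P f, add_assoc]
    congr 1
    rw [← Finset.sum_filter_add_sum_filter_not (Finset.univ.filter fun z => ¬ P z) Q f,
      Finset.filter_filter, Finset.filter_filter]
    congr 1
    exact Finset.sum_congr (Finset.filter_congr fun z _ =>
      ⟨fun hq => hq.2, fun hq => ⟨fun hp => hPQ z hp hq, hq⟩⟩) fun _ _ => rfl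
  have hP1 : (1 : G) ∈ SP := Finset.mem_filter.mpr ⟨Finset.mem_univ _, 1, 1, D.F.one_mem, by group⟩
  set IF := Finset.univ.filter fun z : G => orderOf z = 2 ∧ z ∈ D.F with hIF
  have hIF' : IF.card ≤ e := by
    refine le_trans (le_of_eq ?_) (card_involutions_F D hn hs hodd)
    rw [Nat.card_eq_fintype_card, Fintype.card_subtype]
  have hconjo : ∀ g w : G, orderOf w = 2 → orderOf (g⁻¹ * w * g) = 2 := fun g w hw => by
    have h' := ((SemiconjBy.conj_mk g⁻¹ w).orderOf_eq g⁻¹).symm
    rw [inv_inv] at h'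
    exact h'.trans hw
  have hPsum : ∑ z ∈ SP, r z ≤ I.card * e := by
    rw [← Finset.add_sum_erase _ _ hP1]
    have key : ∀ z ∈ SP.erase 1, r z ≤ if z ∈ I then e - 1 else 0 := by
      intro z hz
      obtain ⟨hz1, hz2⟩ := Finset.mem_erase.mp hz
      obtain ⟨g, u, huF, hg⟩ := (Finset.mem_filter.mp hz2).2
      have hu1 : u ≠ 1 := fun e' => hz1 (by rw [← hg, e']; group)
      have hF : ∀ x ∈ I, x * z ∈ I → g⁻¹ * x * g ∈ D.F ∧ g⁻¹ * (x * z) * g ∈ D.F := by
        intro x hx hxz
        have hinv' : g⁻¹ * x * g * u * (g⁻¹ * x * g) = u⁻¹ := by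
          calc g⁻¹ * x * g * u * (g⁻¹ * x * g) = g⁻¹ * (x * (g * u * g⁻¹) * x) * g := by group
            _ = g⁻¹ * z⁻¹ * g := by rw [hg, hinvz x z hx hxz]
            _ = u⁻¹ := by rw [← hg]; group
        have hxF := real_mem_F D hodd huF hu1 (hconjo g x (hmemI.mp hx)) hinv'
        refine ⟨hxF, ?_⟩
        rw [show g⁻¹ * (x * z) * g = (g⁻¹ * x * g) * u by rw [← hg]; group]
        exact mul_mem hxF huF
      split_ifs with hzI
      · have huI : orderOf u = 2 := by
          have := hconjo g z (hmemI.mp hzI)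
          rwa [show g⁻¹ * z * g = u by rw [← hg]; group] at this
        refine le_trans (Finset.card_le_card_of_injOn (t := IF.erase u) (fun x => g⁻¹ * x * g) ?_
          fun x _ y _ e' => mul_left_cancel (mul_right_cancel e')) ?_
        · intro x hx
          simp only [Finset.coe_filter, Set.mem_ofPred_eq] at hx
          refine Finset.mem_coe.mpr (Finset.mem_erase.mpr ⟨fun e' => ?_, Finset.mem_filter.mpr
            ⟨Finset.mem_univ _, hconjo g x (hmemI.mp hx.1), (hF x hx.1 hx.2).1⟩⟩)
          have hxz : x = z := by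
            calc x = g * (g⁻¹ * x * g) * g⁻¹ := by group
              _ = z := by rw [show g⁻¹ * x * g = u from e', hg]
          have h2 := hmemI.mp hx.2
          rw [hxz, hsq hzI, orderOf_one] at h2
          omega
        · rw [Finset.card_erase_of_mem (s := IF) (Finset.mem_filter.mpr ⟨Finset.mem_univ _, huI, huF⟩)]
          omega
      · refine le_of_eq (Finset.card_eq_zero.mpr (Finset.filter_eq_empty_iff.mpr
          fun x hx hxz => hzI ?_))
        obtain ⟨h1, h2⟩ := hF x hx hxz
        have hc := involution_central D hn hs hodd h1 (hconjo g x (hmemI.mp hx)) _ h2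
        have hcomm : x * (x * z) = x * z * x := by
          calc x * (x * z) = g * ((g⁻¹ * x * g) * (g⁻¹ * (x * z) * g)) * g⁻¹ := by group
            _ = g * ((g⁻¹ * (x * z) * g) * (g⁻¹ * x * g)) * g⁻¹ := by rw [hc]
            _ = x * z * x := by group
        rw [← mul_assoc, hsq hx, one_mul, hinvz x z hx hxz] at hcomm
        refine hmemI.mpr (orderOf_eq_prime ?_ hz1)
        rw [sq]; nth_rewrite 1 [hcomm]; exact inv_mul_cancel z
    have h1 : r 1 = I.card := by
      show (I.filter fun x => x * 1 ∈ I).card = I.card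
      congr 1
      exact Finset.filter_true_of_mem fun x hx => by rwa [mul_one]
    rw [h1]
    refine le_trans (Nat.add_le_add_left (Finset.sum_le_sum key) _) ?_
    rw [← Finset.sum_filter, Finset.sum_const, smul_eq_mul]
    refine le_trans (Nat.add_le_add_left (Nat.mul_le_mul_right _
      (Finset.card_le_card fun z hz => (Finset.mem_filter.mp hz).2)) _) ?_
    obtain ⟨e', he'⟩ : ∃ e', e = e' + 1 := ⟨e - 1, by have : 0 < e := Nat.card_pos; omega⟩
    rw [he', Nat.add_sub_cancel, Nat.mul_succ, add_comm]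
  have hQsum : ∑ z ∈ SQ, r z ≤ SQ.card * (e + 2) := by
    rw [← smul_eq_mul]
    refine Finset.sum_le_card_nsmul _ _ _ fun z hz => ?_
    rcases (I.filter fun x => x * z ∈ I).eq_empty_or_nonempty with h0 | ⟨x, hx⟩
    · simp [hr, h0]
    rw [Finset.mem_filter] at hx
    exact (hbound z).trans
      (hcon z x (Finset.mem_filter.mp hz).2 (hmemI.mp hx.1) (hinvz x z hx.1 hx.2))
  have hEsum : ∑ z ∈ SE, r z ≤ SE.card * e := by
    rw [← smul_eq_mul]
    refine Finset.sum_le_card_nsmul _ _ _ fun z hz => (hbound z).trans ?_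
    obtain ⟨hzP, hzQ⟩ := (Finset.mem_filter.mp hz).2
    simp only [hQ, not_forall, not_not] at hzQ
    obtain ⟨c, hc⟩ := hzQ
    obtain ⟨g, hg⟩ := D.transitive c D.a
    have hza : (g * z * g⁻¹) • D.a = D.a := (conj_smul hg hg).mpr hc
    have hzF : g * z * g⁻¹ ∉ D.F := fun hF => hzP ⟨g⁻¹, _, hF, by group⟩
    obtain ⟨c', hc', hfix⟩ := exists_fixed_of_not_mem D hza hzF
    obtain ⟨k, hka, hkb⟩ := D.two hc'.symm D.hab
    set y := k * (g * z * g⁻¹) * k⁻¹ with hy
    have hyH : y ∈ D.H := ⟨(conj_smul hka hka).mpr hza, (conj_smul hkb hkb).mpr hfix⟩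
    have hy1 : y ≠ 1 := fun e' => hzF (by
      rw [show g * z * g⁻¹ = k⁻¹ * y * k by rw [hy]; group, e', mul_one, inv_mul_cancel]
      exact D.F.one_mem)
    have hy2 : y * y ≠ 1 := fun e' => by
      have h2 := orderOf_eq_prime (by rw [sq]; exact e') hy1
      exact (Nat.not_even_iff_odd.mpr hodd)
        (even_iff_two_dvd.mpr (h2 ▸ Subgroup.orderOf_dvd_natCard D.H hyH))
    refine le_trans (le_of_eq ?_) (Subgroup.card_le_of_le (K := D.H)
      (H := Subgroup.centralizer ({y} : Set G)) fun t ht => ?_)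
    · refine Nat.card_congr (Equiv.subtypeEquiv (MulAut.conj (k * g)).toEquiv fun t => ?_)
      rw [Subgroup.mem_centralizer_singleton_iff, Subgroup.mem_centralizer_singleton_iff,
        show y = (k * g) * z * (k * g)⁻¹ by rw [hy]; group]
      show _ ↔ MulAut.conj (k * g) t * MulAut.conj (k * g) z =
        MulAut.conj (k * g) z * MulAut.conj (k * g) t
      rw [← map_mul, ← map_mul, (MulAut.conj (k * g)).injective.eq_iff]
    · have htc := Subgroup.mem_centralizer_singleton_iff.mp ht
      have hfy : ∀ c : Ω, y • c = c → y • t • c = t • c := fun c hc => by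
        rw [← mul_smul, ← htc, mul_smul, hc]
      rcases D.fix_only hyH hy1 (hfy _ hyH.1) with e1 | e1 <;>
        rcases D.fix_only hyH hy1 (hfy _ hyH.2) with e2 | e2
      · exact absurd (smul_left_cancel t (e1.trans e2.symm)) D.hab
      · exact ⟨e1, e2⟩
      · refine absurd ?_ hy2
        have h' := (hs t e1 e2).2 y hyH
        rw [htc, mul_inv_cancel_right] at h'
        exact mul_eq_one_iff_eq_inv.mpr h'
      · exact absurd (smul_left_cancel t (e1.trans e2.symm)) D.hab
  -- the numbers
  have hSP : h * h ≤ SP.card := by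
    choose g hg using fun c : Ω => D.transitive D.a c
    haveI := Fintype.ofFinite D.F
    let f : Ω × {u : D.F // u ≠ 1} → G := fun p => g p.1 * (p.2.1 : G) * (g p.1)⁻¹
    have hfix : ∀ p, f p • p.1 = p.1 ∧ ∀ c, f p • c = c → c = p.1 := by
      intro p
      refine ⟨(conj_smul (hg p.1) (hg p.1)).mpr (D.F_fix _ p.2.1.2), fun c hc => ?_⟩
      have hu : ((p.2.1 : G)) • (g p.1)⁻¹ • c = (g p.1)⁻¹ • c :=
        (conj_smul (smul_inv_smul _ _) (smul_inv_smul _ _)).mp hc
      have : (g p.1)⁻¹ • c = D.a := by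
        by_contra hne
        exact p.2.2 (Subtype.ext (D.F_inj p.2.1.2 D.F.one_mem hne (hu.trans (one_smul G _).symm)))
      rw [← hg p.1, ← this, smul_inv_smul]
    have hinj : Function.Injective f := fun p q e' => by
      have h1 : p.1 = q.1 := (hfix q).2 p.1 (e' ▸ (hfix p).1)
      obtain ⟨c, u⟩ := p
      obtain ⟨c', u'⟩ := q
      obtain rfl : c = c' := h1
      simp only [f, mul_left_inj, mul_right_inj] at e'
      exact Prod.ext rfl (Subtype.ext (Subtype.ext e'))
    have h1 : ((Finset.univ : Finset (Ω × {u : D.F // u ≠ 1})).image f).card + 1 ≤ SP.card := by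
      rw [← Finset.card_erase_add_one hP1]
      refine Nat.add_le_add_right (Finset.card_le_card fun z hz => ?_) 1
      obtain ⟨p, -, rfl⟩ := Finset.mem_image.mp hz
      refine Finset.mem_erase.mpr ⟨fun e' => p.2.2 ?_, Finset.mem_filter.mpr
        ⟨Finset.mem_univ _, g p.1, _, p.2.1.2, rfl⟩⟩
      exact Subtype.ext (conj_eq_one_iff.mp e')
    rw [Finset.card_image_of_injective _ hinj, Finset.card_univ, Fintype.card_prod,
      ← Nat.card_eq_fintype_card (α := Ω), D.card_points, Fintype.card_subtype_compl,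
      Fintype.card_subtype_eq, ← Nat.card_eq_fintype_card, ← hh] at h1
    obtain ⟨j, hj⟩ : ∃ j, h = j + 1 := ⟨h - 1, by omega⟩
    rw [hj, Nat.add_sub_cancel] at h1
    rw [hj]; nlinarith
  have hder : 2 * SQ.card + h * (h - 1) = Nat.card G := card_derangements D hn
  have hall := hsplit fun _ => 1
  simp only [Finset.sum_const, smul_eq_mul, mul_one, Finset.card_univ] at hall
  rw [← Nat.card_eq_fintype_card] at hall
  have hmain : I.card * I.card ≤ I.card * e + SQ.card * (e + 2) + SE.card * e := by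
    rw [htotal, hsplit r]; omega
  rw [D.card_group, ← he, ← hh] at hder hall
  rw [hN] at hmain
  obtain ⟨j, hj⟩ : ∃ j, h = j + 1 := ⟨h - 1, by omega⟩
  rw [hj, Nat.add_sub_cancel] at hder
  rw [hj] at hall hmain hSP
  zify at hder hall hmain hSP hlt
  have hj' : (e : ℤ) < (j : ℤ) := by omega
  have he0 : (0 : ℤ) < e := by exact_mod_cast Nat.card_pos
  nlinarith [mul_le_mul_of_nonneg_left hSP he0.le, mul_lt_mul_of_pos_left hj' (show (0:ℤ) < j + 1 by positivity)]

end Cfsg.Agent.Grp.ZasS
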