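import Cfsg.Agent.Lib.Grp.ZasFeit
import Cfsg.Agent.Lib.Grp.ZasDerange
import Cfsg.Agent.Lib.Char.SibleyCoherence

/-!
# Zassenhaus groups: the kernel does not have order `q³`

With a Suzuki kernel of order `q³`, an exceptional character of degree `q² - 1` would have too
small a norm outside the conjugates of the point stabilizer.
-/

set_option autoImplicit false

namespace Cfsg.Agent.Grp.ZasS

open MulAction Cfsg Cfsg.Agent.Block.Zas Cfsg.Agent.Char.KerSets Cfsg.Agent.Char.FrobTI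
open scoped ComplexConjugate commutatorElement

universe u v

attribute [local instance 10] Classical.propDecidable

variable {G : Type u} {Ω : Type v} [Group G] [MulAction G Ω] [Fintype G]

/-- The norm of a character splits over the conjugates of `F` and the elements without fixed points. -/
theorem sum_split_le (D : Frame G Ω) [Fintype D.F] (χ : G → ℂ) (hχ : IsClassFunction G χ) :
    Complex.normSq (χ 1) + ((Nat.card D.F : ℝ) + 1) *
        ((∑ u : D.F, Complex.normSq (χ u)) - Complex.normSq (χ 1)) +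
      ∑ g ∈ Finset.univ.filter (fun g : G => ∀ c : Ω, g • c ≠ c), Complex.normSq (χ g) ≤
      ∑ g : G, Complex.normSq (χ g) := by
  haveI := D.finite_points
  haveI := Fintype.ofFinite Ω
  choose g hg using fun c : Ω => D.transitive D.a c
  let f : Ω × {u : D.F // u ≠ 1} → G := fun p => g p.1 * (p.2.1 : G) * (g p.1)⁻¹
  have hfix : ∀ p, f p • p.1 = p.1 ∧ ∀ c, f p • c = c → c = p.1 := by
    intro p
    refine ⟨(conj_smul (hg p.1) (hg p.1)).mpr (D.F_fix _ p.2.1.2), fun c hc => ?_⟩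
    have hu : ((p.2.1 : G)) • (g p.1)⁻¹ • c = (g p.1)⁻¹ • c :=
      (conj_smul (smul_inv_smul _ _) (smul_inv_smul _ _)).mp hc
    have : (g p.1)⁻¹ • c = D.a := by
      by_contra hne
      exact p.2.2 (Subtype.ext (D.F_inj p.2.1.2 D.F.one_mem hne (hu.trans (one_smul G _).symm)))
    rw [← hg p.1, ← this, smul_inv_smul]
  have hinj : Function.Injective f := fun p q e' => by
    have h1 : p.1 = q.1 := (hfix q).2 p.1 (e' ▸ (hfix p).1)
    obtain ⟨c, u⟩ := p
    obtain ⟨c', u'⟩ := q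
    obtain rfl : c = c' := h1
    simp only [f, mul_left_inj, mul_right_inj] at e'
    exact Prod.ext rfl (Subtype.ext (Subtype.ext e'))
  set T := (Finset.univ.image f) with hT
  set Q := Finset.univ.filter (fun g : G => ∀ c : Ω, g • c ≠ c) with hQ
  have hd : Disjoint T Q := Finset.disjoint_left.mpr fun z hz hq => by
    obtain ⟨p, -, rfl⟩ := Finset.mem_image.mp hz
    exact (Finset.mem_filter.mp hq).2 p.1 (hfix p).1
  have h1 : (1 : G) ∉ T ∪ Q := by
    rw [Finset.mem_union, not_or]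
    refine ⟨fun hz => ?_, fun hq => (Finset.mem_filter.mp hq).2 D.a (one_smul _ _)⟩
    obtain ⟨p, -, hp⟩ := Finset.mem_image.mp hz
    exact p.2.2 (Subtype.ext (conj_eq_one_iff.mp hp))
  have hTsum : ∑ z ∈ T, Complex.normSq (χ z) = ((Nat.card D.F : ℝ) + 1) *
      ((∑ u : D.F, Complex.normSq (χ u)) - Complex.normSq (χ 1)) := by
    rw [hT, Finset.sum_image hinj.injOn, Fintype.sum_prod_type]
    simp only [f, hχ _ (g _)]
    rw [Finset.sum_const, Finset.card_univ, ← Nat.card_eq_fintype_card, D.card_points, nsmul_eq_mul,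
      Nat.cast_succ, ← Finset.add_sum_erase (a := (1 : D.F)) _ _ (Finset.mem_univ _),
      OneMemClass.coe_one, add_sub_cancel_left]
    congr 1
    exact (Finset.sum_subtype (Finset.univ.erase (1 : D.F)) (fun x => by simp)
      fun x : D.F => Complex.normSq (χ x)).symm
  calc _ = ∑ z ∈ insert 1 (T ∪ Q), Complex.normSq (χ z) := by
        rw [Finset.sum_insert h1, Finset.sum_union hd, hTsum, add_assoc]
        congr!
    _ ≤ _ := Finset.sum_le_sum_of_subset_of_nonneg (Finset.subset_univ _)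
        fun _ _ _ => Complex.normSq_nonneg _

theorem sum_normSq_irr {χ : G → ℂ} (hχ : IsIrrCharacter G χ) :
    ∑ g : G, Complex.normSq (χ g) = (Nat.card G : ℝ) := by
  have h := Char.classInner_self_irr hχ
  rw [classInner, inv_mul_eq_iff_eq_mul₀ (Nat.cast_ne_zero.mpr Nat.card_pos.ne'), mul_one] at h
  simp only [Complex.mul_conj] at h
  exact_mod_cast h

/-- Bounding the linear part of the multiplicities. -/
theorem cube_alpha {q α B S : ℤ} {ε : ℤ} (hq : 8 ≤ q) (hε : ε = 1 ∨ ε = -1) (hα : 0 ≤ α)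
    (hm0 : 0 ≤ α + ε) (hB : B ^ 2 ≤ q ^ 2 * S)
    (key : (q ^ 3 + 1) * (2 * ε * α + (q + 1) * α ^ 2 + S) ≤ (q - 1) * (ε + (q + 1) * α + B) ^ 2) :
    α = 0 ∧ ε = 1 := by
  have hε2 : ε ^ 2 = 1 := by rcases hε with h | h <;> rw [h] <;> norm_num
  set P := 2 * ε * α + (q + 1) * α ^ 2 with hP
  set u := ε + (q + 1) * α with hu
  have h1 : (q ^ 2 + 1) * (q ^ 2 * ((q ^ 3 + 1) * P)) ≤
      (q ^ 2 + 1) * (q ^ 2 * ((q - 1) * (u + B) ^ 2)) - (q ^ 2 + 1) * ((q ^ 3 + 1) * B ^ 2) := by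
    have h2 := mul_le_mul_of_nonneg_left key (show 0 ≤ (q ^ 2 + 1) * q ^ 2 by positivity)
    have h3 := mul_le_mul_of_nonneg_left hB
      (show 0 ≤ (q ^ 2 + 1) * (q ^ 3 + 1) by positivity)
    linarith [h2, h3]
  have h4 : ((q ^ 2 + 1) * P) * (q ^ 2 * (q ^ 3 + 1)) ≤ ((q - 1) * u ^ 2) * (q ^ 2 * (q ^ 3 + 1)) := by
    linarith [h1, sq_nonneg ((q ^ 2 + 1) * B - q ^ 2 * (q - 1) * u)]
  have h5 := le_of_mul_le_mul_right h4 (show 0 < q ^ 2 * (q ^ 3 + 1) by positivity)
  have h6 : 4 * ε * α + 2 * (q + 1) * α ^ 2 ≤ q - 1 := by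
    rw [hP, hu] at h5
    have e : (q - 1) * (ε + (q + 1) * α) ^ 2 - (q ^ 2 + 1) * (2 * ε * α + (q + 1) * α ^ 2) =
        (q - 1) * ε ^ 2 - 4 * ε * α - 2 * (q + 1) * α ^ 2 := by ring
    rw [hε2, mul_one] at e
    linarith
  have hα0 : α = 0 := by
    by_contra h
    have ha : 1 ≤ α := by omega
    have h7 : (q + 1) * α ≤ (q + 1) * α ^ 2 := mul_le_mul_of_nonneg_left (by nlinarith) (by omega)
    rcases hε with rfl | rfl <;> nlinarith
  refine ⟨hα0, ?_⟩
  rcases hε with h | h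
  · exact h
  · omega

theorem cube_small {q B S : ℤ} (hq : 8 ≤ q) (hB : B ^ 2 ≤ q ^ 2 * S) (h2B : 2 * B ≤ q * S)
    (hS : 1 ≤ S) : (q - 1) * (1 + B) ^ 2 < (q ^ 3 + 1) * S := by
  nlinarith [mul_le_mul_of_nonneg_left hS (show (0:ℤ) ≤ q - 1 by omega)]

/-- The exceptional character for a Suzuki kernel of order `q³`. -/
theorem exists_exceptional [IsSimpleGroup G] (D : Frame G Ω) [IsCyclic D.H] [Fintype D.F]
    (hn : 2 ≤ Nat.card D.F) (hs : Swaps D) (hodd : Odd (Nat.card D.H)) (hH : D.H ≠ ⊥) {q : ℕ}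
    (hqe : Nat.card D.H + 1 = q) (hq8 : 8 ≤ q) (hk : ∃ k, q = 2 ^ k)
    (hh : Nat.card D.F = q ^ 3) (hZc : ∀ z ∈ (⁅D.F, D.F⁆ : Subgroup G), ∀ u ∈ D.F, z * u = u * z)
    (hZ : Nat.card (⁅D.F, D.F⁆ : Subgroup G) = q) :
    ∃ φ : G → ℂ, IsIrrCharacter G φ ∧ φ 1 = ((Nat.card D.H * (q + 1) : ℕ) : ℂ) ∧
      ∑ u : D.F, Complex.normSq (φ u) = 2 * (Nat.card D.F : ℝ) * Nat.card D.H := by
  haveI := Fintype.ofFinite (Subgroup.normalizer (D.F : Set G))
  let L := Subgroup.normalizer (D.F : Set G)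
  set K := KN D.F with hK
  set e := Nat.card D.H with he
  have hC : ∀ k ∈ D.F, k ≠ 1 → Subgroup.centralizer ({k} : Set G) ≤ D.F :=
    fun k hk hk1 => centralizer_le_F D hk hk1
  have hC' := cent_KN D.F hC
  have hTI := F_TI D hn
  have hlt := F_lt D hn hH
  have hidx : K.index = e := F_index D hn
  have hKcard : Nat.card K = q ^ 3 := by
    rw [← hh]; exact Nat.card_congr (Subgroup.subgroupOfEquivOfLe Subgroup.le_normalizer).toEquiv
  have hLcard : Nat.card L = q ^ 3 * e := by rw [← K.card_mul_index, hKcard, hidx]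
  have he0 : 0 < e := Nat.card_pos
  have hrel : (⁅K, K⁆ : Subgroup L).relIndex K = q ^ 2 := by
    have e1 : (⁅K, K⁆ : Subgroup L).relIndex K = (⁅D.F, D.F⁆.subgroupOf D.F).index := by
      rw [hK, commutator_KN]
      exact Subgroup.relIndex_subgroupOf Subgroup.le_normalizer
    have h := (⁅D.F, D.F⁆.subgroupOf D.F).card_mul_index
    rw [Nat.card_congr (Subgroup.subgroupOfEquivOfLe (Subgroup.commutator_le_self D.F)).toEquiv,
      hZ, hh] at h
    rw [e1]
    exact Nat.eq_of_mul_eq_mul_left (show 0 < q by omega) (h.trans (by ring))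
  have hKc : (⁅K, K⁆ : Subgroup L) ≤ K := Subgroup.commutator_le_left K K
  have hmemZ : ∀ z : L, z ∈ (⁅K, K⁆ : Subgroup L) → (z : G) ∈ (⁅D.F, D.F⁆ : Subgroup G) := by
    intro z hz
    rw [hK, commutator_KN] at hz
    exact hz
  set W := TT K ⁅K, K⁆ with hW
  set X := TT (⁅K, K⁆ : Subgroup L) ⊥ with hX
  have hWcard : W.card = q + 1 := by
    have h := card_linear K hC'
    rw [hidx, hrel] at h
    refine Nat.eq_of_mul_eq_mul_right he0 (Nat.add_right_cancel (m := 1) (h.trans ?_))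
    rw [← hqe]; ring
  have hdegW : ∀ f ∈ W, f 1 = (e : ℂ) := fun f hf => by
    rw [dg_spec (mem_TT.1 hf).1, dg_eq_index K hC' hf, hidx]
  have hnX : ∀ f ∈ X, ∃ n : ℕ, 0 < n ∧ dg f = e * n ∧ (n = q ∨ 2 * n ≤ q) := by
    intro f hf
    obtain ⟨n, hn0, hdeg, hle, hdvd⟩ := sq_le_relIndex K hC' (A := ⁅K, K⁆) (B := ⊥)
      (Zc := ⁅K, K⁆) hKc bot_le hKc (fun z hz k hk => by
        rw [Subgroup.mem_bot]
        apply Subtype.ext
        simp only [Subgroup.coe_mul, Subgroup.coe_inv, OneMemClass.coe_one]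
        rw [hZc _ (hmemZ z hz) (k : G) hk]
        group) hf
    rw [hrel] at hle
    rw [hidx] at hdeg
    refine ⟨n, hn0, hdeg, ?_⟩
    obtain ⟨k, rfl⟩ := hk
    rw [hKcard, ← pow_mul] at hdvd
    obtain ⟨i, -, rfl⟩ := (Nat.dvd_prime_pow Nat.prime_two).mp hdvd
    have hik : i ≤ k := (Nat.pow_le_pow_iff_right (by norm_num)).mp
      (Nat.pow_le_pow_iff_left (by norm_num : (2 : ℕ) ≠ 0) |>.mp hle)
    rcases hik.eq_or_lt with h | h
    · exact Or.inl (by rw [h])
    · right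
      rw [← pow_succ']
      exact Nat.pow_le_pow_right (by norm_num) h
  choose! n hn0 hdegX hnq using hnX
  have hsumn : ∑ f ∈ X, n f ^ 2 = q ^ 2 := by
    have h := sum_sq_TT (A := (⁅K, K⁆ : Subgroup L)) (B := ⊥) bot_le
    rw [Subgroup.index_bot, hLcard, ← Subgroup.relIndex_mul_index hKc, hrel, hidx,
      Finset.sum_congr rfl fun f hf => by rw [hdegX f hf, mul_pow], ← Finset.mul_sum] at h
    have h' : e * (e * ∑ f ∈ X, n f ^ 2) = e * (e * q ^ 2) := by
      rw [← hqe] at h ⊢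
      nlinarith
    exact Nat.eq_of_mul_eq_mul_left he0 (Nat.eq_of_mul_eq_mul_left he0 h')
  have hunion : TT K ⊥ = W ∪ X := TT_union hKc bot_le
  have hWsub : (↑W : Set (L → ℂ)) ⊆ ↑(TT K ⊥) := by
    rw [hunion, Finset.coe_union]; exact Set.subset_union_left
  -- the exceptional character
  have hH0 := indHyp D.F hTI hlt hC (↑(TT K ⊥)) fun χ hχ =>
    ⟨(mem_TT.1 hχ).1, (mem_TT.1 hχ).2.1⟩
  have htwo : ∃ a ∈ W, ∃ b ∈ W, a ≠ b := Finset.one_lt_card.mp (by omega)
  obtain ⟨w₀, hw₀, w₁, hw₁, hw01⟩ := htwo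
  obtain ⟨-, ν, hν, hνα⟩ := Char.Coh.equal_degree_irr W (hH0.mono hWsub) hdegW
    ⟨w₀, hw₀, w₁, hw₁, hw01⟩
  have hspan : ∀ f ∈ W, f ∈ zspan (↑W : Set (L → ℂ)) := fun f hf =>
    Submodule.subset_span (Finset.mem_coe.mpr hf)
  have hinner : ∀ f ∈ W, ∀ g ∈ W, classInner (ν f) (ν g) = classInner f g := fun f hf g hg =>
    hν.2.2.1 f (hspan f hf) g (hspan g hg)
  obtain ⟨φ, ε, hφ, hε, hνφ⟩ : ∃ (φ : G → ℂ) (ε : ℤ), IsIrrCharacter G φ ∧ (ε = 1 ∨ ε = -1) ∧
      ν w₀ = (ε : ℂ) • φ := by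
    rcases Char.IsGenChar.norm_one (hν.2.2.2 w₀ (hspan w₀ hw₀))
      (by rw [hinner w₀ hw₀ w₀ hw₀, Char.classInner_self_irr (mem_TT.1 hw₀).1]) with h | h
    · exact ⟨_, 1, h, Or.inl rfl, by simp⟩
    · exact ⟨_, -1, h, Or.inr rfl, by simp⟩
  let r : L → ℂ := fun x => φ x
  have hrchar : IsCharacter L r := Char.IsChar.res (Char.IsIrr.isCharacter hφ) L
  have hrecip : ∀ f ∈ W, f ≠ w₀ → classInner r w₀ - classInner r f = (ε : ℂ) := by
    intro f hf hne
    have hcl := Char.classInner_indFun L (w₀ - f) (Char.IsIrr.classFun hφ)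
    have hτ : indFun L (w₀ - f) = ν w₀ - ν f := by
      have hmem : w₀ - f ∈ zspanOn (↑W : Set (L → ℂ)) {1}ᶜ :=
        Char.Coh.sub_mem (Finset.mem_coe.2 hw₀) (Finset.mem_coe.2 hf) (by rw [hdegW _ hw₀, hdegW _ hf])
      rw [← show ν (w₀ - f) = indFun L (w₀ - f) from hνα _ hmem]
      have h2 := hν.1 (w₀ - f) hmem.1 f (hspan f hf)
      rw [sub_add_cancel] at h2
      exact eq_sub_of_add_eq h2.symm
    have h0 : classInner (ν f) φ = 0 := by
      have h := hinner f hf w₀ hw₀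
      rw [Char.classInner_irr_ne (mem_TT.1 hf).1 (mem_TT.1 hw₀).1 hne, hνφ,
        Char.classInner_smul_right] at h
      rcases hε with rfl | rfl <;> simpa using h
    have h1 : classInner (ν w₀) φ = (ε : ℂ) := by
      rw [hνφ, Char.classInner_smul_left, Char.classInner_self_irr hφ, mul_one]
    have h2 : classInner (w₀ - f) r = (ε : ℂ) := by
      rw [← hcl, hτ, Char.classInner_sub_left, h0, h1, sub_zero]
    have h3 := congrArg (starRingEnd ℂ) h2
    rw [Char.classInner_conj_symm, Char.classInner_sub_right, map_intCast] at h3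
    exact h3
  -- sums over the normalizer
  have hsumL : ∀ g : L → ℂ, (∀ x ∉ K, g x = 0) →
      ∑ x : L, g x = ∑ u : D.F, g ⟨u, Subgroup.le_normalizer u.2⟩ := fun g hg =>
    (Fintype.sum_of_injective (fun u : D.F => (⟨u, Subgroup.le_normalizer u.2⟩ : L))
      (fun u v h => Subtype.ext (congrArg (fun x : L => (x : G)) h)) _ g
      (fun x hx => hg x fun hxK => hx ⟨⟨x, hxK⟩, rfl⟩) fun u => rfl).symm
  have hWsum : ∀ f ∈ W, ∑ u : D.F, f ⟨u, Subgroup.le_normalizer u.2⟩ = 0 := by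
    intro f hf
    have hne : f ≠ fun _ => 1 := fun h => by
      have := hdegW f hf
      rw [h] at this
      simp only at this
      have : (1 : ℕ) = e := by exact_mod_cast this
      omega
    have h := Char.classInner_irr_ne (mem_TT.1 hf).1 (Char.isIrr_one (G := L)) hne
    simp only [classInner, map_one, mul_one, mul_eq_zero, inv_eq_zero, Nat.cast_eq_zero,
      Nat.card_pos.ne', false_or] at h
    rw [← hsumL f fun x hx => vanish K (fix_of_centralizer D.F hC) (mem_TT.1 hf).1 (mem_TT.1 hf).2.1 hx]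
    exact h
  have hnonconst : ¬ ∀ u ∈ D.F, ∀ v ∈ D.F, u ≠ 1 → v ≠ 1 → φ u = φ v := by
    intro hc
    haveI : Nontrivial D.F := Finite.one_lt_card_iff_nontrivial.mp (by omega)
    obtain ⟨u₀, hu₀⟩ := exists_ne (1 : D.F)
    have hval : ∀ f ∈ W, classInner r f = (Nat.card L : ℂ)⁻¹ * ((φ 1 - φ u₀) * (e : ℂ)) := by
      intro f hf
      rw [classInner, hsumL (fun x => r x * conj (f x)) fun x hx => by
        rw [vanish K (fix_of_centralizer D.F hC) (mem_TT.1 hf).1 (mem_TT.1 hf).2.1 hx, map_zero, mul_zero]]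
      congr 1
      have e1 : ∀ u : D.F, r ⟨u, Subgroup.le_normalizer u.2⟩ * conj (f ⟨u, Subgroup.le_normalizer u.2⟩) =
          φ u₀ * conj (f ⟨u, Subgroup.le_normalizer u.2⟩) +
            if u = 1 then (φ 1 - φ u₀) * (e : ℂ) else 0 := by
        intro u
        split_ifs with h
        · subst h
          show φ (1 : G) * conj (f 1) = φ u₀ * conj (f 1) + _
          rw [hdegW f hf, map_natCast]; ring
        · rw [add_zero]
          show φ u * _ = _
          rw [hc u u.2 u₀ u₀.2 (fun e' => h (Subtype.ext e')) fun e' => hu₀ (Subtype.ext e')]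
      rw [Finset.sum_congr rfl fun u _ => e1 u, Finset.sum_add_distrib, ← Finset.mul_sum,
        ← map_sum, hWsum f hf, map_zero, mul_zero, zero_add, Finset.sum_ite_eq',
        if_pos (Finset.mem_univ _)]
    have h := hrecip w₁ hw₁ hw01.symm
    rw [hval _ hw₀, hval _ hw₁, sub_self] at h
    rcases hε with rfl | rfl <;> norm_num at h
  have horth : ∀ l : D.H →* ℂˣ, classInner (psi D l) φ = 0 := by
    intro l
    by_contra h
    refine hnonconst fun u hu v hv hu1 hv1 => ?_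
    rcases constituent D hs hodd l hφ h with h' | ⟨h', -⟩ <;> rw [h' u hu hu1, h' v hv hv1]
  obtain ⟨hsum0, hH0'⟩ := orth_psi D (Char.IsIrr.classFun hφ) horth
  have hrvan : ∀ x ∉ K, r x = 0 := by
    intro x hx
    have hxF : (x : G) ∉ D.F := hx
    have hxa : (x : G) • D.a = D.a := (normalizer_F D hn ▸ x.2 : (x : G) ∈ stabilizer G D.a)
    obtain ⟨u, hu, k, hk, hxe⟩ := D.decomp hxa
    have hk1 : k ≠ 1 := fun e' => hxF (by rw [hxe, e', mul_one]; exact hu)
    obtain ⟨v, -, hv⟩ := exists_conj_eq_mul D hu hk hk1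
    show φ (x : G) = 0
    rw [hxe, ← hv, Char.IsIrr.classFun hφ k v]
    exact hH0' ⟨k, hk⟩ fun e' => hk1 (congrArg Subtype.val e')
  choose! m hm using fun f (hf : IsIrrCharacter L f) =>
    Char.IsChar.classInner_nat hrchar (Char.IsIrr.isCharacter hf)
  have htriv : ∀ ρ : IrrCharacter L, ¬ NonTriv K (ρ : L → ℂ) → classInner r (ρ : L → ℂ) = 0 := by
    intro ρ hρ
    simp only [NonTriv, not_exists, not_and, not_not] at hρ
    rw [classInner, hsumL (fun x => r x * conj ((ρ : L → ℂ) x)) fun x hx => by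
      rw [hrvan x hx, zero_mul]]
    have e1 : ∀ u : D.F, r ⟨u, Subgroup.le_normalizer u.2⟩ *
        conj ((ρ : L → ℂ) ⟨u, Subgroup.le_normalizer u.2⟩) = φ u * conj ((ρ : L → ℂ) 1) := fun u => by
      rw [hρ _ (show (⟨u, Subgroup.le_normalizer u.2⟩ : L) ∈ K from u.2)]
    rw [Finset.sum_congr rfl fun u _ => e1 u, ← Finset.sum_mul, hsum0, zero_mul, mul_zero]
  have hexp : r = ∑ f ∈ W ∪ X, (m f : ℂ) • f := by
    conv_lhs => rw [Char.classFunction_expansion (Char.IsChar.classFun hrchar)]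
    rw [← hunion, TT, Finset.sum_map, Finset.sum_filter]
    refine Finset.sum_congr rfl fun ρ _ => ?_
    simp only [Function.Embedding.coeFn_mk, not_nonTriv_bot, not_false_eq_true, and_true]
    split_ifs with h
    · rw [hm _ ρ.2]
    · rw [htriv ρ h, zero_smul]
  have hdisj : Disjoint W X := TT_disjoint
  have hirr : ∀ f ∈ W ∪ X, IsIrrCharacter L f := fun f hf => by
    rw [← hunion] at hf; exact (mem_TT.1 hf).1
  set α := m w₁ with hα
  have hm0 : (m w₀ : ℤ) = α + ε := by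
    have h := hrecip w₁ hw₁ hw01.symm
    rw [hm _ (mem_TT.1 hw₀).1, hm _ (mem_TT.1 hw₁).1] at h
    have h' : ((m w₀ : ℤ) : ℂ) = (((α : ℤ) + ε : ℤ) : ℂ) := by
      push_cast; rw [hα]; linear_combination h
    exact_mod_cast h'
  have hmW : ∀ f ∈ W.erase w₀, m f = α := by
    intro f hf
    obtain ⟨hne, hfW⟩ := Finset.mem_erase.mp hf
    have h := hrecip f hfW hne
    rw [hm _ (mem_TT.1 hw₀).1, hm _ (mem_TT.1 hfW).1] at h
    have h' : (((m w₀ : ℤ) - m f : ℤ) : ℂ) = (ε : ℂ) := by push_cast; exact h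
    have : (m w₀ : ℤ) - m f = ε := by exact_mod_cast h'
    omega
  have hWm : ∑ f ∈ W, (m f : ℤ) = ε + (q + 1) * α := by
    rw [← Finset.add_sum_erase _ _ hw₀, Finset.sum_congr rfl fun f hf => by rw [hmW f hf],
      Finset.sum_const, Finset.card_erase_of_mem hw₀, hWcard, nsmul_eq_mul, hm0,
      Nat.add_sub_cancel]
    ring
  have hWm2 : ∑ f ∈ W, (m f : ℤ) ^ 2 = 1 + 2 * ε * α + (q + 1) * α ^ 2 := by
    rw [← Finset.add_sum_erase _ _ hw₀, Finset.sum_congr rfl fun f hf => by rw [hmW f hf],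
      Finset.sum_const, Finset.card_erase_of_mem hw₀, hWcard, nsmul_eq_mul, hm0,
      Nat.add_sub_cancel]
    rcases hε with rfl | rfl <;> ring
  set B := ∑ f ∈ X, (m f : ℤ) * n f with hB
  set S := ∑ f ∈ X, (m f : ℤ) ^ 2 with hS
  set c : ℤ := ε + (q + 1) * α + B with hc
  set N : ℤ := 1 + 2 * ε * α + (q + 1) * α ^ 2 + S with hN
  have hdeg : φ 1 = (((e : ℤ) * c : ℤ) : ℂ) := by
    have h : r 1 = φ 1 := rfl
    rw [← h, hexp, Finset.sum_apply, Finset.sum_union hdisj,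
      Finset.sum_congr rfl (g := fun f => (((e : ℤ) * (m f : ℤ) : ℤ) : ℂ)) fun f hf => by
        rw [Pi.smul_apply, hdegW f hf, smul_eq_mul]; push_cast; ring,
      Finset.sum_congr rfl (s₁ := X) (g := fun f => (((e : ℤ) * ((m f : ℤ) * n f) : ℤ) : ℂ)) fun f hf => by
        rw [Pi.smul_apply, dg_spec (mem_TT.1 hf).1, hdegX f hf, smul_eq_mul]; push_cast; ring,
      ← Int.cast_sum, ← Int.cast_sum, ← Int.cast_add, ← Finset.mul_sum, ← Finset.mul_sum, ← mul_add,
      hWm]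
  have hnorm : classInner r r = ((N : ℤ) : ℂ) := by
    conv_lhs => arg 2; rw [hexp]
    rw [Char.classInner_sum_right, Finset.sum_congr rfl (g := fun f => (((m f : ℤ) ^ 2 : ℤ) : ℂ))
      fun f hf => by
        rw [Char.classInner_smul_right, hm _ (hirr f hf), map_natCast]; push_cast; ring,
      ← Int.cast_sum, Finset.sum_union hdisj, hWm2]
  have hFsum : ∑ u : D.F, Complex.normSq (φ u) = (Nat.card L : ℝ) * (N : ℝ) := by
    have h := hnorm
    rw [classInner, inv_mul_eq_iff_eq_mul₀ (Nat.cast_ne_zero.mpr Nat.card_pos.ne'),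
      hsumL (fun x => r x * conj (r x)) fun x hx => by rw [hrvan x hx, zero_mul]] at h
    simp only [r, Complex.mul_conj] at h
    have h' : ((∑ u : D.F, Complex.normSq (φ u) : ℝ) : ℂ) = (((Nat.card L : ℝ) * (N : ℝ) : ℝ) : ℂ) := by
      push_cast; exact h
    exact_mod_cast h'
  have hkey : ((q : ℤ) ^ 3 + 1) * (N - 1) ≤ (e : ℤ) * c ^ 2 := by
    have h := sum_split_le D φ (Char.IsIrr.classFun hφ)
    rw [sum_normSq_irr hφ, hFsum, hdeg, ← Complex.ofReal_intCast, Complex.normSq_ofReal, hLcard,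
      D.card_group, hh, ← he] at h
    have h0 : 0 ≤ ∑ g ∈ Finset.univ.filter (fun g : G => ∀ c : Ω, g • c ≠ c), Complex.normSq (φ g) :=
      Finset.sum_nonneg fun _ _ => Complex.normSq_nonneg _
    push_cast at h
    have h' : ((((q : ℤ) ^ 3 + 1) * (N - 1) : ℤ) : ℝ) * ((q : ℝ) ^ 3 * e) ≤
        (((e : ℤ) * c ^ 2 : ℤ) : ℝ) * ((q : ℝ) ^ 3 * e) := by
      push_cast; nlinarith
    exact_mod_cast le_of_mul_le_mul_right h' (by positivity)
  have heq : (e : ℤ) = (q : ℤ) - 1 := by omega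
  have hCS : B ^ 2 ≤ (q : ℤ) ^ 2 * S := by
    have h := Finset.sum_mul_sq_le_sq_mul_sq X (fun f => (m f : ℤ)) (fun f => (n f : ℤ))
    rw [show ∑ f ∈ X, (n f : ℤ) ^ 2 = (q : ℤ) ^ 2 by exact_mod_cast hsumn, ← hS, ← hB] at h
    linarith
  obtain ⟨hα0, hε1⟩ := cube_alpha (q := (q : ℤ)) (by omega) hε (Int.natCast_nonneg α)
    (by rw [← hm0]; exact Int.natCast_nonneg _) hCS (by
      rw [heq, hN, hc] at hkey
      linarith [hkey])
  rw [hα0] at hN hc
  rw [hε1] at hN hc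
  simp only [mul_zero, add_zero, ne_eq, OfNat.ofNat_ne_zero, not_false_eq_true, zero_pow] at hN hc
  -- the derived subgroup is not in the kernel
  have hSpos : 1 ≤ S := by
    by_contra hlt'
    have hmX : ∀ f ∈ X, m f = 0 := fun f hf => by
      by_contra h
      have h1 := Finset.single_le_sum (f := fun f => (m f : ℤ) ^ 2) (fun f _ => sq_nonneg _) hf
      have h2 : (1 : ℤ) ≤ (m f : ℤ) ^ 2 := one_le_pow₀ (by omega)
      omega
    have hker : ∀ z : L, z ∈ (⁅K, K⁆ : Subgroup L) → φ (z : G) = φ 1 := fun z hz => by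
      show r z = r 1
      rw [hexp, Finset.sum_apply, Finset.sum_apply]
      refine Finset.sum_congr rfl fun f hf => ?_
      rcases Finset.mem_union.mp hf with hfW | hfX
      · have h := (mem_TT.1 hfW).2.2
        simp only [NonTriv, not_exists, not_and, not_not] at h
        rw [Pi.smul_apply, Pi.smul_apply, h z hz]
      · rw [hmX f hfX]; simp
    haveI : Nontrivial (⁅D.F, D.F⁆ : Subgroup G) := Finite.one_lt_card_iff_nontrivial.mp (by omega)
    obtain ⟨z, hz⟩ := exists_ne (1 : (⁅D.F, D.F⁆ : Subgroup G))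
    have hzF : (z : G) ∈ D.F := Subgroup.commutator_le_self D.F z.2
    have hzmem : (⟨z, Subgroup.le_normalizer hzF⟩ : L) ∈ (⁅K, K⁆ : Subgroup L) := by
      rw [hK, commutator_KN]; exact z.2
    have hmem : (z : G) ∈ Char.charKer (Char.IsIrr.isCharacter hφ) :=
      (Char.mem_charKer _).mpr (hker _ hzmem)
    rcases (Char.charKer_normal (Char.IsIrr.isCharacter hφ)).eq_bot_or_eq_top with h | h
    · rw [h, Subgroup.mem_bot] at hmem
      exact hz (Subtype.ext hmem)
    · refine hnonconst fun u _ v _ _ _ => ?_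
      have hall : ∀ y : G, φ y = φ 1 := fun y =>
        (Char.mem_charKer (Char.IsIrr.isCharacter hφ)).mp (by rw [h]; exact Subgroup.mem_top y)
      rw [hall u, hall v]
  -- the degrees
  obtain ⟨f₀, hf₀, hnf₀⟩ : ∃ f ∈ X, n f = q := by
    by_contra h
    push Not at h
    have h2B : 2 * B ≤ q * S := by
      rw [hB, hS, Finset.mul_sum, Finset.mul_sum]
      refine Finset.sum_le_sum fun f hf => ?_
      have h1 : (2 : ℤ) * n f ≤ q := by exact_mod_cast (hnq f hf).resolve_left (h f hf)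
      have h2 : (m f : ℤ) ≤ (m f : ℤ) ^ 2 := by nlinarith
      nlinarith
    have := cube_small (q := (q : ℤ)) (by omega) hCS h2B hSpos
    rw [hN, hc, heq] at hkey
    linarith
  have hsingle : ∀ f ∈ X, f = f₀ := fun f hf => by
    by_contra hne
    rw [← Finset.add_sum_erase _ _ hf₀, hnf₀] at hsumn
    have h1 := Finset.single_le_sum (f := fun f => n f ^ 2) (fun f _ => Nat.zero_le _)
      (Finset.mem_erase.mpr ⟨hne, hf⟩)
    have h2 : 0 < n f ^ 2 := pow_pos (hn0 f hf) 2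
    omega
  have hXeq : X = {f₀} := Finset.eq_singleton_iff_unique_mem.mpr ⟨hf₀, hsingle⟩
  rw [hXeq, Finset.sum_singleton] at hB hS
  rw [hnf₀] at hB
  have hβ1 : (m f₀ : ℤ) = 1 := by
    rw [hN, hc, heq, hB, hS] at hkey
    rw [hS] at hSpos
    have h0 : (0 : ℤ) ≤ m f₀ := Int.natCast_nonneg _
    have hq' : (8 : ℤ) ≤ q := by omega
    by_contra h
    have hb : (2 : ℤ) ≤ m f₀ := by
      rcases eq_or_ne (m f₀ : ℤ) 0 with h' | h'
      · rw [h'] at hSpos; norm_num at hSpos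
      · omega
    nlinarith [mul_le_mul_of_nonneg_left hb (show 0 ≤ ((q : ℤ) ^ 2 + 1) * (m f₀ : ℤ) by positivity)]
  refine ⟨φ, hφ, ?_, ?_⟩
  · rw [hdeg, hc, hB, hβ1]; push_cast; ring
  · rw [hFsum, hN, hS, hβ1, hLcard, hh]; push_cast; ring

/-- Integers that are not all equal have spread at least their number less one. -/
theorem spread_ge {ι : Type*} [Fintype ι] (y : ι → ℤ) {i₀ i₁ : ι} (h : y i₀ ≠ y i₁) :
    (Fintype.card ι : ℤ) - 1 ≤ Fintype.card ι * (∑ i, y i ^ 2) - (∑ i, y i) ^ 2 := by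
  classical
  have hne : i₀ ≠ i₁ := fun e => h (by rw [e])
  have hone : ∀ a : ℤ, a ≠ 0 → 1 ≤ a ^ 2 := fun a ha => by
    rw [← sq_abs]; exact one_le_pow₀ (Int.one_le_abs ha)
  have hsum : ∑ i, ∑ j, (y i - y j) ^ 2 =
      2 * ((Fintype.card ι : ℤ) * (∑ i, y i ^ 2) - (∑ i, y i) ^ 2) := by
    simp only [sub_sq, Finset.sum_add_distrib, Finset.sum_sub_distrib, Finset.sum_const,
      Finset.card_univ, nsmul_eq_mul, ← Finset.mul_sum, ← Finset.sum_mul]
    ring
  set R := (Finset.univ.erase i₀).erase i₁ with hR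
  have hsplit : ∀ g : ι → ℤ, ∑ i, g i = g i₀ + (g i₁ + ∑ i ∈ R, g i) := fun g => by
    rw [hR, Finset.add_sum_erase _ _ (Finset.mem_erase.mpr ⟨hne.symm, Finset.mem_univ _⟩),
      Finset.add_sum_erase _ _ (Finset.mem_univ _)]
  have hpair : ∀ j, 1 ≤ (y i₀ - y j) ^ 2 + (y i₁ - y j) ^ 2 := fun j => by
    by_cases e : y i₀ = y j
    · have := hone (y i₁ - y j) (sub_ne_zero.mpr fun e' => h (e.trans e'.symm))
      nlinarith
    · have := hone (y i₀ - y j) (sub_ne_zero.mpr e)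
      nlinarith
  have hRc : (R.card : ℤ) = Fintype.card ι - 2 := by
    have h1 := Finset.card_erase_add_one (Finset.mem_erase.mpr ⟨hne.symm, Finset.mem_univ i₁⟩)
    have h2 := Finset.card_erase_add_one (Finset.mem_univ i₀)
    rw [Finset.card_univ] at h2
    rw [← hR] at h1
    omega
  have hlow : 2 * ((Fintype.card ι : ℤ) - 1) ≤ ∑ i, ∑ j, (y i - y j) ^ 2 := by
    rw [hsplit fun i => ∑ j, (y i - y j) ^ 2]
    have h1 : (Fintype.card ι : ℤ) ≤ ∑ j, ((y i₀ - y j) ^ 2 + (y i₁ - y j) ^ 2) := by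
      refine le_trans (le_of_eq ?_) (Finset.sum_le_sum fun j _ => hpair j)
      simp
    rw [Finset.sum_add_distrib] at h1
    have h2 : (R.card : ℤ) ≤ ∑ i ∈ R, ∑ j, (y i - y j) ^ 2 := by
      refine le_trans (le_of_eq ?_) (Finset.sum_le_sum (f := fun _ => (1 : ℤ)) fun i _ => ?_)
      · simp
      rw [hsplit fun j => (y i - y j) ^ 2]
      have := hpair i
      have : (0 : ℤ) ≤ ∑ j ∈ R, (y i - y j) ^ 2 := Finset.sum_nonneg fun j _ => sq_nonneg _
      nlinarith
    omega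
  omega

/-- The kernel does not have order `q³`. -/
theorem not_cube [IsSimpleGroup G] (D : Frame G Ω) [IsCyclic D.H]
    (hn : 2 ≤ Nat.card D.F) (hs : Swaps D) (hodd : Odd (Nat.card D.H)) (hH : D.H ≠ ⊥) {q : ℕ}
    (hqe : Nat.card D.H + 1 = q) (hq8 : 8 ≤ q) (hk : ∃ k, q = 2 ^ k)
    (hexp : ∀ u ∈ D.F, (u * u) * (u * u) = 1)
    (hh : Nat.card D.F = q ^ 3) (hZc : ∀ z ∈ (⁅D.F, D.F⁆ : Subgroup G), ∀ u ∈ D.F, z * u = u * z)
    (hZ : Nat.card (⁅D.F, D.F⁆ : Subgroup G) = q) : False := by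
  haveI := Fintype.ofFinite D.F
  obtain ⟨φ, hφ, hdeg, hFsum⟩ := exists_exceptional D hn hs hodd hH hqe hq8 hk hh hZc hZ
  have heven : Even (Nat.card D.F) := by
    obtain ⟨k, rfl⟩ := hk
    rw [hh, ← pow_mul]
    refine (Nat.even_pow).mpr ⟨even_two, ?_⟩
    intro h0
    obtain rfl : k = 0 := by omega
    norm_num at hq8
  obtain ⟨d, x, hd, hx, hxd, hbig⟩ := exists_large_cent D hn hs hodd heven (by
    rw [hh]; nlinarith [Nat.pow_le_pow_right (show 0 < q by omega) (show 2 ≤ 3 by norm_num)])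
  set C := Subgroup.centralizer ({d} : Set G) with hC
  set e := Nat.card D.H with he
  set a := Nat.card C with ha
  haveI := Fintype.ofFinite C
  have hcomm : ∀ g k : C, g * k = k * g := fun g k =>
    Subtype.ext (cent_comm D hn hs hodd heven hd hx hxd g.2 k.2)
  -- restriction to the centralizer
  have hrchar : IsCharacter C (fun g : C => φ g) := Char.IsChar.res (Char.IsIrr.isCharacter hφ) C
  obtain ⟨y, hy, hdec⟩ := Char.IsChar.exists_decomp_inner hrchar
  have hone : ∀ ρ : IrrCharacter C, (ρ : C → ℂ) 1 = 1 := fun ρ => Char.IsIrr.one_of_comm hcomm ρ.2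
  have hcard : Fintype.card (IrrCharacter C) = a := by
    have h := Char.sum_degree_sq (G := C)
    simp only [hone, one_pow, Finset.sum_const, nsmul_eq_mul, mul_one, Finset.card_univ] at h
    exact_mod_cast h
  have hsum : φ 1 = ((∑ ρ, y ρ : ℕ) : ℂ) := by
    have h := congrFun hdec 1
    rw [Finset.sum_apply] at h
    simp only [Pi.smul_apply, hone, smul_eq_mul, mul_one, OneMemClass.coe_one] at h
    rw [h, Nat.cast_sum]
  have hCsum : ∑ g : C, Complex.normSq (φ g) = (a : ℝ) * ((∑ ρ, (y ρ : ℤ) ^ 2 : ℤ) : ℝ) := by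
    have h : classInner (fun g : C => φ g) (fun g : C => φ g) = ((∑ ρ, (y ρ : ℤ) ^ 2 : ℤ) : ℂ) := by
      rw [hdec, Char.classInner_sum_sum]
      simp [sq]
    rw [classInner, inv_mul_eq_iff_eq_mul₀ (Nat.cast_ne_zero.mpr Nat.card_pos.ne')] at h
    simp only [Complex.mul_conj] at h
    have h' : ((∑ g : C, Complex.normSq (φ g) : ℝ) : ℂ) =
        (((a : ℝ) * ((∑ ρ, (y ρ : ℤ) ^ 2 : ℤ) : ℝ) : ℝ) : ℂ) := by
      push_cast; push_cast at h; exact h
    exact_mod_cast h'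
  have hsumN : ∑ ρ, y ρ = e * (q + 1) := by
    exact_mod_cast (hsum.symm.trans hdeg)
  -- not all multiplicities agree
  obtain ⟨ρ₀, ρ₁, hne⟩ : ∃ ρ₀ ρ₁ : IrrCharacter C, (y ρ₀ : ℤ) ≠ (y ρ₁ : ℤ) := by
    by_contra hall
    push Not at hall
    let ρ₀ : IrrCharacter C := ⟨_, Char.isIrr_one⟩
    rw [Finset.sum_congr rfl (g := fun _ => y ρ₀) (fun ρ _ => by exact_mod_cast hall ρ ρ₀),
      Finset.sum_const, Finset.card_univ, hcard, smul_eq_mul] at hsumN
    have hdvd := card_cent_dvd D hn hs hodd heven hd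
    rw [hh] at hdvd
    have hcop : Nat.Coprime a e := by
      refine Nat.coprime_of_dvd fun p hp h1 h2 => ?_
      have h3 : p ∣ q ^ 3 + 1 := h1.trans hdvd
      have h4 : p ∣ q ^ 3 - 1 := h2.trans (hh ▸ D.card_H_dvd)
      have h5 := Nat.dvd_sub h3 h4
      have : 0 < q ^ 3 := pow_pos (by omega) 3
      rw [show q ^ 3 + 1 - (q ^ 3 - 1) = 2 by omega] at h5
      rw [(Nat.prime_dvd_prime_iff_eq hp Nat.prime_two).mp h5] at h2
      exact (Nat.not_even_iff_odd.mpr hodd) (even_iff_two_dvd.mpr h2)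
    have := Nat.le_of_dvd (by omega) (hcop.dvd_of_dvd_mul_left ⟨y ρ₀, hsumN.symm⟩)
    omega
  have hspread := spread_ge (fun ρ => (y ρ : ℤ)) hne
  rw [hcard] at hspread
  -- conjugates of the centralizer
  set N := Subgroup.normalizer (C : Set G) with hN
  haveI := Fintype.ofFinite (G ⧸ N)
  let f : (G ⧸ N) × {g : C // g ≠ 1} → G := fun p => p.1.out * ((p.2.1 : C) : G) * p.1.out⁻¹
  have hceq : ∀ g : C, g ≠ 1 → (∀ c : Ω, (g : G) • c ≠ c) ∧
      Subgroup.centralizer ({(g : G)} : Set G) = C := fun g hg =>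
    cent_eq D hn hs hodd heven hd hx hxd g.2 fun e' => hg (Subtype.ext e')
  have hinj : Function.Injective f := by
    rintro ⟨Q, g⟩ ⟨Q', g'⟩ e'
    simp only [f] at e'
    set t := Q'.out⁻¹ * Q.out with ht
    have e2 : t * ((g.1 : C) : G) * t⁻¹ = ((g'.1 : C) : G) := by
      calc t * ((g.1 : C) : G) * t⁻¹ = Q'.out⁻¹ * (Q.out * ((g.1 : C) : G) * Q.out⁻¹) * Q'.out := by
            rw [ht]; group
        _ = _ := by rw [e']; group
    have htN : t ∈ N := by
      refine Subgroup.mem_normalizer_iff.mpr fun k => ?_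
      conv_rhs => rw [← (hceq g'.1 g'.2).2, ← e2]
      conv_lhs => rw [← (hceq g.1 g.2).2]
      rw [Subgroup.mem_centralizer_singleton_iff, Subgroup.mem_centralizer_singleton_iff]
      show _ ↔ MulAut.conj t k * MulAut.conj t ((g.1 : C) : G) =
        MulAut.conj t ((g.1 : C) : G) * MulAut.conj t k
      rw [← map_mul, ← map_mul, (MulAut.conj t).injective.eq_iff]
    have hQ : Q' = Q := by
      rw [← QuotientGroup.out_eq' Q', ← QuotientGroup.out_eq' Q, QuotientGroup.eq]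
      exact htN
    subst hQ
    rw [mul_left_inj, mul_right_inj] at e'
    exact Prod.ext rfl (Subtype.ext (Subtype.ext e'))
  haveI := D.finite_points
  set S := Finset.univ.filter fun g : G => ∀ c : Ω, g • c ≠ c with hS
  have hle : (N.index : ℝ) * ((∑ g : C, Complex.normSq (φ g)) - Complex.normSq (φ 1)) ≤
      ∑ g ∈ S, Complex.normSq (φ g) := by
    have himg : Finset.univ.image f ⊆ S := fun z hz => by
      obtain ⟨p, -, rfl⟩ := Finset.mem_image.mp hz
      refine Finset.mem_filter.mpr ⟨Finset.mem_univ _, fun c hc => (hceq p.2.1 p.2.2).1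
        (p.1.out⁻¹ • c) ((conj_smul (smul_inv_smul _ _) (smul_inv_smul _ _)).mp hc)⟩
    refine le_trans (le_of_eq ?_) (Finset.sum_le_sum_of_subset_of_nonneg himg
      fun _ _ _ => Complex.normSq_nonneg _)
    rw [Finset.sum_image hinj.injOn, Fintype.sum_prod_type]
    simp only [f, Char.IsIrr.classFun hφ _ (Quotient.out _)]
    rw [Finset.sum_const, Finset.card_univ, ← Nat.card_eq_fintype_card, ← Subgroup.index_eq_card,
      nsmul_eq_mul, ← Finset.add_sum_erase (a := (1 : C)) _ _ (Finset.mem_univ _),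
      OneMemClass.coe_one, add_sub_cancel_left]
    congr 1
    exact Finset.sum_subtype (Finset.univ.erase (1 : C)) (fun g => by simp)
      fun g : C => Complex.normSq (φ g)
  have hsplit := sum_split_le D φ (Char.IsIrr.classFun hφ)
  rw [sum_normSq_irr hφ, hFsum, D.card_group, ← he, hh] at hsplit
  have hSeq : ∑ g ∈ S, Complex.normSq (φ g) =
      ∑ g ∈ Finset.univ.filter (fun g : G => ∀ c : Ω, g • c ≠ c), Complex.normSq (φ g) := by
    rw [hS]
  rw [← hSeq] at hsplit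
  have hNN : (Nat.card N : ℝ) ≤ 8 * a := by
    exact_mod_cast card_normalizer_cent D hn hs hodd heven hd hx hxd hexp
  have hGN : (Nat.card N : ℝ) * N.index = ((q : ℝ) ^ 3 + 1) * ((q : ℝ) ^ 3 * e) := by
    have h := N.card_mul_index
    rw [D.card_group, ← he, hh] at h
    exact_mod_cast h
  have hnorm1 : Complex.normSq (φ 1) = ((e * (q + 1) : ℕ) : ℝ) ^ 2 := by
    rw [hdeg, ← Complex.ofReal_natCast, Complex.normSq_ofReal]
    ring
  set X := (∑ g : C, Complex.normSq (φ g)) - Complex.normSq (φ 1) with hX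
  have hXlow : (a : ℝ) - 1 ≤ X := by
    have hsz : ((∑ ρ, (y ρ : ℤ)) : ℤ) = ((e * (q + 1) : ℕ) : ℤ) := by rw [← hsumN]; push_cast; rfl
    rw [hsz] at hspread
    have h := (Int.cast_le (R := ℝ)).mpr hspread
    rw [hX, hCsum, hnorm1]
    push_cast at h ⊢
    exact h
  have hX0 : 0 ≤ X := by
    have : (1 : ℝ) ≤ a := by exact_mod_cast (Nat.card_pos : 0 < a)
    linarith
  rw [hnorm1] at hsplit
  push_cast at hsplit
  have heq : (e : ℝ) = (q : ℝ) - 1 := by rw [← hqe]; push_cast; ring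
  have h1 : (N.index : ℝ) * X ≤ (q : ℝ) ^ 3 * e * (((q : ℝ) - 2) * ((q : ℝ) + 1)) := by
    rw [heq] at hsplit ⊢
    nlinarith
  have h2 : ((q : ℝ) ^ 3 + 1) * X ≤ 8 * a * (((q : ℝ) - 2) * ((q : ℝ) + 1)) := by
    refine le_of_mul_le_mul_right (a := (q : ℝ) ^ 3 * e) ?_ (by
      have : (0 : ℝ) < e := by exact_mod_cast (Nat.card_pos : 0 < e)
      positivity)
    calc ((q : ℝ) ^ 3 + 1) * X * ((q : ℝ) ^ 3 * e) = (Nat.card N : ℝ) * ((N.index : ℝ) * X) := by
          rw [← mul_assoc (Nat.card N : ℝ), hGN]; ring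
      _ ≤ 8 * a * ((q : ℝ) ^ 3 * e * (((q : ℝ) - 2) * ((q : ℝ) + 1))) :=
          mul_le_mul hNN h1 (mul_nonneg (Nat.cast_nonneg _) hX0) (by positivity)
      _ = _ := by ring
  have hq' : (8 : ℝ) ≤ q := by exact_mod_cast hq8
  have ha10 : (10 : ℝ) ≤ a := by exact_mod_cast (show 10 ≤ a by omega)
  have h3 : ((q : ℝ) ^ 2 - q + 1) * ((a : ℝ) - 1) ≤ 8 * a * ((q : ℝ) - 2) := by
    refine le_of_mul_le_mul_right (a := (q : ℝ) + 1) ?_ (by linarith)
    nlinarith [mul_le_mul_of_nonneg_left hXlow (show (0 : ℝ) ≤ (q : ℝ) ^ 3 + 1 by positivity)]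
  nlinarith [mul_nonneg (show (0 : ℝ) ≤ a - 10 by linarith) (show (0 : ℝ) ≤ (q : ℝ) ^ 2 - 9 * q + 17 by nlinarith),
    mul_nonneg (show (0 : ℝ) ≤ q - 8 by linarith) (show (0 : ℝ) ≤ (q : ℝ) by linarith)]

end Cfsg.Agent.Grp.ZasS
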