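import Cfsg.Agent.Lib.Grp.ZasThree
import Cfsg.Agent.Lib.Grp.ZasCube
import Cfsg.Agent.Lib.Block.Zas.Involution
import Cfsg.Agent.Lib.Block.Zas.SharpEven
import Cfsg.Agent.S1137
import Cfsg.Agent.S1138
import Cfsg.Prelude.Def_Exceptional

/-!
# Simple Zassenhaus groups with a nonabelian kernel

The kernel is a Suzuki `2`-group of order `q²`, where `q = 2 ^ n` with `n` odd and greater than one,
and the two-point stabilizer is cyclic of order `q - 1`.
-/

set_option autoImplicit false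

namespace Cfsg.Agent.Grp.ZasS

open MulAction Cfsg Cfsg.Agent.Block.Zas
open scoped commutatorElement

universe u v

variable {G : Type u} {Ω : Type v} [Group G] [MulAction G Ω] [Finite G]

/-- Conjugation by an element of the two-point stabilizer on `F`. -/
def conjF (D : Frame G Ω) : D.H →* MulAut D.F where
  toFun h :=
    { toFun := fun u => ⟨(h : G) * u * (h : G)⁻¹, D.H_conj h.2 u.2⟩
      invFun := fun u => ⟨(h : G)⁻¹ * u * (h : G),
        by have := D.H_conj (inv_mem h.2) u.2; rwa [inv_inv] at this⟩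
      left_inv := fun u => Subtype.ext (by simp [mul_assoc])
      right_inv := fun u => Subtype.ext (by simp [mul_assoc])
      map_mul' := fun u w => Subtype.ext (by simp [mul_assoc]) }
  map_one' := MulEquiv.ext fun u => Subtype.ext (by simp)
  map_mul' h k := MulEquiv.ext fun u => Subtype.ext (by simp [mul_assoc])

theorem conjF_apply (D : Frame G Ω) (h : D.H) (u : D.F) :
    ((conjF D h u : D.F) : G) = (h : G) * u * (h : G)⁻¹ := rfl

theorem conjF_inj (D : Frame G Ω) {h k : D.H} {x : D.F} (hx : x ≠ 1)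
    (e : conjF D h x = conjF D k x) : h = k := by
  have e' : conjF D (k⁻¹ * h) x = x := by
    rw [map_mul, MulAut.mul_apply, e, map_inv, MulAut.inv_apply_self]
  rcases D.fpf (k⁻¹ * h).2 x.2 (congrArg Subtype.val e') with h1 | h1
  · exact absurd (Subtype.ext h1) hx
  · exact (inv_mul_eq_one.mp (Subtype.ext h1)).symm

/-- The two-point stabilizer is regular on the involutions of `F`. -/
theorem involutions_regular (D : Frame G Ω) (hn : 2 ≤ Nat.card D.F) (hs : Swaps D)
    (hodd : Odd (Nat.card D.H)) {x y : D.F} (hx : x ≠ 1) (hx2 : x * x = 1) (hy : y ≠ 1)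
    (hy2 : y * y = 1) : ∃ h : D.H, conjF D h x = y := by
  let I := {u : D.F // u ≠ 1 ∧ u * u = 1}
  have hI : Nat.card I ≤ Nat.card D.H := by
    refine le_trans (Nat.card_le_card_of_injective (fun u : I => (⟨(u.1 : G), ?_, u.1.2⟩ :
      {x : G // orderOf x = 2 ∧ x ∈ D.F})) fun u w e => ?_) (card_involutions_F D hn hs hodd)
    · rw [Subgroup.orderOf_coe]
      exact orderOf_eq_prime (by rw [sq]; exact u.2.2) u.2.1
    · exact Subtype.ext (Subtype.ext (congrArg Subtype.val e :))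
  let f : D.H → I := fun h => ⟨conjF D h x, fun e => hx ((conjF D h).map_eq_one_iff.mp e),
    by rw [← map_mul, hx2, map_one]⟩
  have hf : Function.Injective f := fun h k e => conjF_inj D hx (congrArg Subtype.val e)
  obtain ⟨h, hh⟩ := ((Nat.bijective_iff_injective_and_card f).mpr
    ⟨hf, le_antisymm (Nat.card_le_card_of_injective f hf) hI⟩).2 ⟨y, hy, hy2⟩
  exact ⟨h, congrArg Subtype.val hh⟩

/-- The kernel is a Suzuki `2`-group. -/
theorem isSuzukiTwoGroup (D : Frame G Ω) [IsCyclic D.H] (hn : 2 ≤ Nat.card D.F) (hs : Swaps D)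
    (hodd : Odd (Nat.card D.H)) (hH : D.H ≠ ⊥) (h2 : IsPGroup 2 D.F)
    (hna : ∃ x y : D.F, x * y ≠ y * x) :
    IsSuzukiTwoGroup D.F ∧ Nat.card (Subgroup.center D.F) = Nat.card D.H + 1 := by
  haveI := Fact.mk Nat.prime_two
  obtain ⟨z, hz⟩ : ∃ z : D.F, z ≠ 1 ∧ z * z = 1 := by
    obtain ⟨k, hk⟩ := IsPGroup.iff_card.mp h2
    obtain ⟨z, hz⟩ := exists_prime_orderOf_dvd_card' (G := D.F) 2 (by
      rw [hk]; exact dvd_pow_self 2 (by rintro rfl; rw [pow_zero] at hk; omega))
    exact ⟨z, fun e => by rw [e, orderOf_one] at hz; omega,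
      by rw [← sq, ← hz, pow_orderOf_eq_one]⟩
  haveI : Nontrivial D.H := D.H.nontrivial_iff_ne_bot.mpr hH
  obtain ⟨h, hh⟩ := exists_ne (1 : D.H)
  have hS : IsSuzukiTwoGroup D.F := by
    refine ⟨inferInstance, h2, hna, ⟨z, conjF D h z, fun e => hh (conjF_inj D hz.1 ?_), hz.1, hz.2,
      fun e => hz.1 ((conjF D h).map_eq_one_iff.mp e), by rw [← map_mul, hz.2, map_one]⟩,
      (conjF D).range, isCyclic_of_surjective (conjF D).rangeRestrict
        (conjF D).rangeRestrict_surjective, fun x y hx hx2 hy hy2 => ?_⟩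
    · rw [map_one, MulAut.one_apply]; exact e.symm
    obtain ⟨k, hk⟩ := involutions_regular D hn hs hodd hx hx2 hy hy2
    refine ⟨⟨conjF D k, k, rfl⟩, hk, ?_⟩
    rintro ⟨_, k', rfl⟩ hk'
    exact Subtype.ext (congrArg (conjF D) (conjF_inj D hx (hk'.trans hk.symm)))
  refine ⟨hS, ?_⟩
  haveI := Classical.decEq D.F
  obtain ⟨hiff, hsq⟩ := Cfsg.Agent.S1137.result hS
  let I := {u : D.F // u ≠ 1 ∧ u * u = 1}
  let f : D.H → I := fun k => ⟨conjF D k z, fun e => hz.1 ((conjF D k).map_eq_one_iff.mp e),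
    by rw [← map_mul, hz.2, map_one]⟩
  have hf : Function.Bijective f := ⟨fun k k' e => conjF_inj D hz.1 (congrArg Subtype.val e),
    fun y => (involutions_regular D hn hs hodd hz.1 hz.2 y.2.1 y.2.2).imp fun k hk => Subtype.ext hk⟩
  rw [← Nat.card_congr (Equiv.optionSubtypeNe (1 : Subgroup.center D.F)), Finite.card_option,
    Nat.card_congr (Equiv.ofBijective f hf)]
  congr 1
  refine Nat.card_congr
    { toFun := fun u => ⟨u.1.1, fun e => u.2 (Subtype.ext e), hsq _ u.1.2⟩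
      invFun := fun u => ⟨⟨u.1, ((hiff u.1).mp u.2).1⟩, fun e => u.2.1 (congrArg Subtype.val e)⟩
      left_inv := fun _ => rfl
      right_inv := fun _ => rfl }

/-- In a simple group a nonabelian kernel of `2`-power order is a Suzuki `2`-group of order `q²`. -/
theorem suzuki_structure [IsSimpleGroup G] (D : Frame G Ω) (hn : 2 ≤ Nat.card D.F) (hH : D.H ≠ ⊥)
    (h2 : IsPGroup 2 D.F) (hna : ∃ x y : D.F, x * y ≠ y * x) :
    ∃ n : ℕ, Odd n ∧ 1 < n ∧ Nat.card D.F = (2 ^ n) ^ 2 ∧ Nat.card D.H = 2 ^ n - 1 ∧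
      IsCyclic D.H ∧ IsSuzukiTwoGroup D.F ∧ Nat.card (Subgroup.center D.F) = 2 ^ n := by
  haveI := Fact.mk Nat.prime_two
  haveI := Fintype.ofFinite G
  obtain ⟨hcyc, hs'⟩ := swaps D hn hH
  haveI := hcyc
  have hs : Swaps D := hs'
  have hnc : ∀ (p : ∀ u ∈ D.F, ∀ v ∈ D.F, u * v = v * u), False := fun p => by
    obtain ⟨x, y, hxy⟩ := hna
    exact hxy (Subtype.ext (p x x.2 y y.2))
  have hodd : Odd (Nat.card D.H) := by
    rcases Nat.even_or_odd (Nat.card D.H) with he | ho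
    · exfalso
      obtain ⟨z, hz⟩ := exists_prime_orderOf_dvd_card' (G := D.H) 2 he.two_dvd
      refine hnc fun u hu v hv => D.F_comm_of_involution z.2 (fun e => ?_) ?_ hu hv
      · rw [show z = 1 from Subtype.ext e, orderOf_one] at hz; omega
      · exact congrArg Subtype.val (by rw [← sq, ← hz, pow_orderOf_eq_one] : z * z = 1)
    · exact ho
  have hlt : 2 * Nat.card D.H < Nat.card D.F - 1 := by
    by_contra h
    obtain ⟨hc, -⟩ := D.kernel_elementary hn hH (by omega)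
    exact hnc fun u hu v hv => congrArg Subtype.val (hc.is_comm.comm ⟨u, hu⟩ ⟨v, hv⟩)
  have he0 : 0 < Nat.card D.H := Nat.card_pos
  obtain ⟨hS, hZ⟩ := isSuzukiTwoGroup D hn hs hodd hH h2 hna
  obtain ⟨hsq, hcomm, hcard, hexp⟩ := Cfsg.Agent.S1138.result hS
  obtain ⟨n, hnq⟩ := IsPGroup.iff_card.mp (h2.to_subgroup (Subgroup.center D.F))
  have h3 : ¬ 3 ∣ Nat.card D.H := not_three D hn hs hodd h2 (by omega)
  have he1 : Nat.card D.H ≠ 1 := fun e => hH (Subgroup.card_eq_one.mp e)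
  have hnodd : Odd n := by
    rcases Nat.even_or_odd n with ⟨m, rfl⟩ | h
    · exfalso
      refine h3 ?_
      have e : Nat.card D.H = 4 ^ m - 1 := by
        rw [show (4 : ℕ) = 2 ^ 2 by norm_num, ← pow_mul, two_mul, ← hnq, hZ]; omega
      rw [e]
      simpa using Nat.sub_dvd_pow_sub_pow 4 1 m
    · exact h
  have hn1 : 1 < n := by
    by_contra h
    obtain rfl : n = 1 := by obtain ⟨m, rfl⟩ := hnodd; omega
    rw [pow_one] at hnq
    omega
  have hq8 : 8 ≤ 2 ^ n := by
    obtain ⟨m, rfl⟩ := hnodd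
    calc 8 = 2 ^ 3 := by norm_num
      _ ≤ _ := Nat.pow_le_pow_right (by norm_num) (show 3 ≤ 2 * m + 1 by omega)
  refine ⟨n, hnodd, hn1, ?_, by omega, hcyc, hS, hnq⟩
  rcases hcard with h | h
  · rw [h, hnq]
  exfalso
  obtain ⟨hiff, hinv⟩ := Cfsg.Agent.S1137.result hS
  set Zm := (Subgroup.center D.F).map D.F.subtype with hZm
  have hle : (⁅D.F, D.F⁆ : Subgroup G) ≤ Zm := by
    refine Subgroup.commutator_le.mpr fun a ha b hb => ⟨_, hcomm ⟨a, ha⟩⁻¹ ⟨b, hb⟩⁻¹, ?_⟩
    simp [commutatorElement_def]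
  have hcen : ∀ z ∈ (⁅D.F, D.F⁆ : Subgroup G), ∀ u ∈ D.F, z * u = u * z := by
    intro z hz u hu
    obtain ⟨z', hz', rfl⟩ := hle hz
    exact congrArg Subtype.val ((Subgroup.mem_center_iff.mp hz' ⟨u, hu⟩).symm)
  have heq : (⁅D.F, D.F⁆ : Subgroup G) = Zm := by
    refine le_antisymm hle ?_
    obtain ⟨x, y, hxy⟩ := hna
    set c : D.F := ⁅x, y⁆ with hc
    have hc1 : c ≠ 1 := fun e => hxy (commutatorElement_eq_one_iff_mul_comm.mp e)
    have hcmem : (c : G) ∈ (⁅D.F, D.F⁆ : Subgroup G) :=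
      Subgroup.commutator_mem_commutator x.2 y.2
    have hcz : c ∈ Subgroup.center D.F := by
      obtain ⟨c', hc', e⟩ := hle hcmem
      exact (Subtype.ext e : c' = c) ▸ hc'
    rintro _ ⟨w, hw, rfl⟩
    by_cases hw1 : w = 1
    · subst hw1; simp
    obtain ⟨k, hk⟩ := involutions_regular D hn hs hodd hc1 (hinv c hcz) hw1 (hinv w hw)
    have hmap : (⁅D.F, D.F⁆ : Subgroup G).map (MulAut.conj (k : G)).toMonoidHom ≤ ⁅D.F, D.F⁆ := by
      rw [Subgroup.map_commutator]
      refine Subgroup.commutator_mono ?_ ?_ <;>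
      · rintro _ ⟨u, hu, rfl⟩
        exact D.H_conj k.2 hu
    rw [← hk]
    exact hmap ⟨_, hcmem, rfl⟩
  haveI := Fintype.ofFinite D.F
  refine not_cube (q := 2 ^ n) D hn hs hodd hH (by omega) hq8 ⟨n, rfl⟩ (fun u hu => ?_)
    (by rw [h, hnq]) hcen ?_
  · have := congrArg Subtype.val (hexp ▸ Monoid.pow_exponent_eq_one (⟨u, hu⟩ : D.F))
    simpa [pow_succ, mul_assoc] using this
  · rw [heq, hZm, Nat.card_congr ((Subgroup.center D.F).equivMapOfInjective D.F.subtype
      D.F.subtype_injective).toEquiv.symm, hnq]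

/-- The group has Suzuki order. -/
theorem isSuzuki_of_nonabelian [IsSimpleGroup G] (D : Frame G Ω) (hn : 2 ≤ Nat.card D.F)
    (hH : D.H ≠ ⊥) (h2 : IsPGroup 2 D.F) (hna : ∃ x y : D.F, x * y ≠ y * x) :
    Cfsg.IsSuzuki G := by
  obtain ⟨n, ⟨m, rfl⟩, hn1, hF, hHc, -⟩ := suzuki_structure D hn hH h2 hna
  refine ⟨inferInstance, m, by omega, ?_⟩
  rw [D.card_group, hF, hHc]
  ring

/-- `PGL₂` is `PSL₂` in characteristic two. -/
theorem pgl_psl_two {K : Type} [Field K] [Fintype K] (h : Even (Fintype.card K)) :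
    Nonempty (Matrix.ProjGenLinGroup (Fin 2) K ≃* Matrix.ProjectiveSpecialLinearGroup (Fin 2) K) := by
  haveI : Finite (Matrix.ProjGenLinGroup (Fin 2) K) :=
    Finite.of_surjective _ Matrix.ProjGenLinGroup.mk_surjective
  haveI := Classical.decEq K
  refine ⟨(MulEquiv.ofBijective _ ((Nat.bijective_iff_injective_and_card _).mpr
    ⟨Matrix.ProjectiveSpecialLinearGroup.toPGL_injective (n := Fin 2) (R := K), ?_⟩)).symm⟩
  have h1 := Classical.natCard_PSL_mul (F := K) 2 (by norm_num)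
  have hg : Nat.gcd 2 (Nat.card Kˣ) = 1 := by
    rw [Classical.natCard_units_field]
    obtain ⟨j, hj⟩ := h
    have : 0 < Fintype.card K := Fintype.card_pos
    exact (Nat.coprime_two_left.mpr ⟨j - 1, by omega⟩)
  rw [hg, one_mul] at h1
  rw [Classical.natCard_PGL_eq_SL, h1]

end Cfsg.Agent.Grp.ZasS
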