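import Cfsg.Agent.Lib.Block.Zas.Half
import Cfsg.Agent.Lib.Block.Zas.HalfBound
import Cfsg.Agent.Lib.Block.Zas.Sharp
import Cfsg.Agent.Lib.Block.Zas.IndexTwo.Main
import Cfsg.Agent.S0728

/-!
# Simple Zassenhaus groups

A transfer argument shows that a simple Zassenhaus group of degree `q + 1` with an even two-point
stabilizer is not sharply triply transitive, so the two-point stabilizer has order `(q - 1) / 2`.
-/

set_option autoImplicit false

namespace Cfsg.Agent.Grp.ZasS

open MulAction Cfsg.Agent.Block.Zas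

universe u v

variable {G : Type u} {Ω : Type v} [Group G] [MulAction G Ω] [Finite G]

/-- The set stabilizer of `{a, b}`. -/
def pairStab (D : Frame G Ω) : Subgroup G where
  carrier := {g | (g • D.a = D.a ∧ g • D.b = D.b) ∨ (g • D.a = D.b ∧ g • D.b = D.a)}
  one_mem' := Or.inl ⟨one_smul _ _, one_smul _ _⟩
  mul_mem' := by
    rintro g h (⟨ga, gb⟩ | ⟨ga, gb⟩) (⟨ha, hb⟩ | ⟨ha, hb⟩)
    · exact Or.inl ⟨by rw [mul_smul, ha, ga], by rw [mul_smul, hb, gb]⟩
    · exact Or.inr ⟨by rw [mul_smul, ha, gb], by rw [mul_smul, hb, ga]⟩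
    · exact Or.inr ⟨by rw [mul_smul, ha, ga], by rw [mul_smul, hb, gb]⟩
    · exact Or.inl ⟨by rw [mul_smul, ha, gb], by rw [mul_smul, hb, ga]⟩
  inv_mem' := by
    rintro g (⟨ga, gb⟩ | ⟨ga, gb⟩)
    · exact Or.inl ⟨inv_smul_eq_iff.2 ga.symm, inv_smul_eq_iff.2 gb.symm⟩
    · exact Or.inr ⟨inv_smul_eq_iff.2 gb.symm, inv_smul_eq_iff.2 ga.symm⟩

omit [Finite G] in
/-- An element fixing two points besides `a` and `b` setwise. -/
theorem outside_of_not_mem (D : Frame G Ω) {k : G} (hk : k ∉ pairStab D) :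
    (k • D.a ≠ D.a ∧ k • D.a ≠ D.b) ∨ (k • D.b ≠ D.a ∧ k • D.b ≠ D.b) := by
  by_contra h
  push Not at h
  apply hk
  have hne : k • D.a ≠ k • D.b := fun e => D.hab (smul_left_cancel k e)
  by_cases h1 : k • D.a = D.a
  · by_cases h2 : k • D.b = D.a
    · exact absurd (h1.trans h2.symm) hne
    · exact Or.inl ⟨h1, h.2 h2⟩
  · have h3 := h.1 h1
    by_cases h2 : k • D.b = D.a
    · exact Or.inr ⟨h3, h2⟩
    · exact absurd (h3.trans (h.2 h2).symm) hne

/-- A sharply triply transitive frame with a sign character of the two-point stabilizer that is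
invariant under an exchanging involution with a fixed point gives a proper normal subgroup. -/
theorem not_simple_of_sign [IsSimpleGroup G] (D : Frame G Ω) (hn : 2 ≤ Nat.card D.F)
    (χ : D.H →* ℤˣ) (hχ : χ ≠ 1) {s : G} {c : Ω} (hca : c ≠ D.a) (hcb : c ≠ D.b)
    (hsa : s • D.a = D.b) (hsb : s • D.b = D.a) (hsc : s • c = c)
    (hinv : ∀ h : D.H, χ ⟨s * h * s⁻¹, D.swap_conj_mem hsa hsb h⟩ = χ h)
    (htr : ∀ z w : Ω, z ≠ D.a → z ≠ D.b → w ≠ D.a → w ≠ D.b → ∃ h ∈ D.H, h • z = w) : False := by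
  classical
  have hs2 : s * s = 1 := D.free3 (s * s) D.a D.b c D.hab hcb.symm hca.symm
    (by rw [mul_smul, hsa, hsb]) (by rw [mul_smul, hsb, hsa]) (by rw [mul_smul, hsc, hsc])
  have hsi : s⁻¹ = s := inv_eq_of_mul_eq_one_right hs2
  -- the part in the two-point stabilizer
  let r : pairStab D → D.H := fun g =>
    if h : (g : G) ∈ D.H then ⟨g, h⟩ else ⟨(g : G) * s, by
      obtain ⟨ga, gb⟩ := g.2.resolve_left h
      exact ⟨by show ((g : G) * s) • D.a = D.a; rw [mul_smul, hsa, gb],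
        by show ((g : G) * s) • D.b = D.b; rw [mul_smul, hsb, ga]⟩⟩
  have hr1 : ∀ (g : pairStab D) (h : (g : G) ∈ D.H), r g = ⟨g, h⟩ := fun g h => dif_pos h
  have hr2 : ∀ (g : pairStab D), (g : G) ∉ D.H → (r g : G) = (g : G) * s := fun g h => by
    simp only [r, dif_neg h]
  have hnot : ∀ g : G, g • D.a = D.b → g ∉ D.H := fun g ga hg => D.hab (hg.1.symm.trans ga)
  have hswap : ∀ g : pairStab D, (g : G) ∉ D.H → (g : G) • D.a = D.b ∧ (g : G) • D.b = D.a :=
    fun g h => g.2.resolve_left h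
  have hconj : ∀ h : D.H, ∃ h' : D.H, (h' : G) = s * h * s ∧ χ h' = χ h := fun h =>
    ⟨⟨s * h * s⁻¹, D.swap_conj_mem hsa hsb h⟩, congrArg (s * (h : G) * ·) hsi, hinv h⟩
  let ψ : pairStab D →* ℤˣ := MonoidHom.mk' (fun g => χ (r g)) fun g g' => by
    show χ (r (g * g')) = χ (r g) * χ (r g')
    by_cases hg : (g : G) ∈ D.H <;> by_cases hg' : (g' : G) ∈ D.H
    · rw [hr1 g hg, hr1 g' hg', hr1 (g * g') (mul_mem hg hg'), ← map_mul]
      rfl
    · have hgg : ((g * g' : pairStab D) : G) ∉ D.H := fun h => hg' (by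
        have := mul_mem (inv_mem hg) h
        simpa using this)
      rw [hr1 g hg, ← map_mul]
      congr 1
      apply Subtype.ext
      simp [hr2 _ hgg, hr2 _ hg', mul_assoc]
    · have hgg : ((g * g' : pairStab D) : G) ∉ D.H := fun h => hg (by
        have := mul_mem h (inv_mem hg')
        simpa using this)
      obtain ⟨k, hk, hkχ⟩ := hconj (r g')
      rw [← hkχ, ← map_mul]
      congr 1
      apply Subtype.ext
      rw [hr2 _ hgg]
      simp only [Subgroup.coe_mul, hk, hr2 _ hg, hr1 g' hg']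
      calc (g : G) * g' * s = (g : G) * (s * s) * g' * s := by rw [hs2, mul_one]
        _ = (g : G) * s * (s * g' * s) := by group
    · obtain ⟨ga, gb⟩ := hswap g hg
      obtain ⟨ga', gb'⟩ := hswap g' hg'
      have hgg : ((g * g' : pairStab D) : G) ∈ D.H :=
        ⟨by show ((g : G) * g') • D.a = D.a; rw [mul_smul, ga', gb],
          by show ((g : G) * g') • D.b = D.b; rw [mul_smul, gb', ga]⟩
      obtain ⟨k, hk, hkχ⟩ := hconj (r g')
      rw [← hkχ, ← map_mul]
      congr 1
      apply Subtype.ext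
      rw [hr1 _ hgg]
      simp only [Subgroup.coe_mul, hk, hr2 _ hg, hr2 _ hg']
      calc (g : G) * g' = (g : G) * (s * s) * g' * (s * s) := by rw [hs2, mul_one, mul_one]
        _ = (g : G) * s * (s * (g' * s) * s) := by group
  have hψH : ∀ (g : pairStab D) (h : (g : G) ∈ D.H), ψ g = χ ⟨g, h⟩ := fun g h =>
    congrArg χ (hr1 g h)
  have hsN : s ∈ pairStab D := Or.inr ⟨hsa, hsb⟩
  have hψs : ψ ⟨s, hsN⟩ = 1 := by
    show χ (r ⟨s, hsN⟩) = 1
    have : r ⟨s, hsN⟩ = 1 := Subtype.ext (by rw [hr2 _ (hnot s hsa)]; exact hs2)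
    rw [this, map_one]
  obtain ⟨g, hg⟩ : ∃ g, χ g ≠ 1 := by
    by_contra e
    push Not at e
    exact hχ (MonoidHom.ext e)
  -- contributions of the orbits outside the base coset
  have key : ∀ (k : G), k ∉ pairStab D → ∀ (m : ℕ) (hx : k⁻¹ * (g : G) ^ m * k ∈ pairStab D),
      ψ ⟨k⁻¹ * (g : G) ^ m * k, hx⟩ = 1 := by
    intro k hk m hx
    have hgm : (g : G) ^ m ∈ D.H := pow_mem g.2 m
    set x := k⁻¹ * (g : G) ^ m * k with hxdef
    have hgx : (g : G) ^ m = k * x * k⁻¹ := by rw [hxdef]; group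
    by_cases hxH : x ∈ D.H
    · have hfa : ((g : G) ^ m) • k • D.a = k • D.a := by
        rw [hgx, mul_smul, mul_smul, inv_smul_smul, hxH.1]
      have hfb : ((g : G) ^ m) • k • D.b = k • D.b := by
        rw [hgx, mul_smul, mul_smul, inv_smul_smul, hxH.2]
      have hgm1 : (g : G) ^ m = 1 := by
        by_contra hne
        rcases outside_of_not_mem D hk with ⟨h1, h2⟩ | ⟨h1, h2⟩
        · rcases D.fix_only hgm hne hfa with e | e
          exacts [h1 e, h2 e]
        · rcases D.fix_only hgm hne hfb with e | e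
          exacts [h1 e, h2 e]
      have : (⟨x, hx⟩ : pairStab D) = 1 := Subtype.ext (by
        show x = 1
        rw [hxdef, hgm1, mul_one, inv_mul_cancel])
      rw [this, map_one]
    · obtain ⟨xa, xb⟩ := hswap ⟨x, hx⟩ hxH
      have xa' : x • D.a = D.b := xa
      have xb' : x • D.b = D.a := xb
      set d := k⁻¹ • D.a with hd
      have hxd : x • d = d := by
        rw [hd, hxdef, mul_smul, mul_smul, smul_inv_smul, hgm.1]
      have hda : d ≠ D.a := fun e => D.hab (by rw [e] at hxd; exact hxd.symm.trans xa')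
      have hdb : d ≠ D.b := fun e => D.hab (by rw [e] at hxd; exact xb'.symm.trans hxd)
      obtain ⟨h, hh, hhc⟩ := htr c d hca hcb hda hdb
      have hia : h⁻¹ • D.a = D.a := inv_smul_eq_iff.2 hh.1.symm
      have hib : h⁻¹ • D.b = D.b := inv_smul_eq_iff.2 hh.2.symm
      have hxe : x = h * s * h⁻¹ := by
        refine (inv_mul_eq_one.mp (D.free3 (x⁻¹ * (h * s * h⁻¹)) D.a D.b d D.hab hdb.symm hda.symm
          ?_ ?_ ?_))
        · rw [mul_smul, mul_smul, mul_smul, hia, hsa, hh.2, ← xa', inv_smul_smul]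
        · rw [mul_smul, mul_smul, mul_smul, hib, hsb, hh.1, ← xb', inv_smul_smul]
        · rw [mul_smul, mul_smul, mul_smul, ← hhc, inv_smul_smul, hsc, hhc, inv_smul_eq_iff, hxd]
      have hhN : h ∈ pairStab D := Or.inl hh
      have : (⟨x, hx⟩ : pairStab D) = ⟨h, hhN⟩ * ⟨s, hsN⟩ * (⟨h, hhN⟩)⁻¹ := Subtype.ext hxe
      rw [this, map_mul, map_mul, map_inv, hψs, mul_one, mul_inv_cancel]
  -- the transfer
  haveI : Fintype (Quotient (orbitRel (Subgroup.zpowers (g : G)) (G ⧸ pairStab D))) :=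
    Fintype.ofFinite _
  have hgN : (g : G) ∈ pairStab D := Or.inl g.2
  have hV : MonoidHom.transfer ψ (g : G) = χ g := by
    rw [MonoidHom.transfer_eq_prod_quotient_orbitRel_zpowers_quot]
    set q0 : Quotient (orbitRel (Subgroup.zpowers (g : G)) (G ⧸ pairStab D)) :=
      Quotient.mk'' ((1 : G) : G ⧸ pairStab D) with hq0
    have hbase : ∀ z ∈ Subgroup.zpowers (g : G),
        z • ((1 : G) : G ⧸ pairStab D) = ((1 : G) : G ⧸ pairStab D) := fun z hz => by
      rw [MulAction.Quotient.smul_coe, smul_eq_mul, mul_one, QuotientGroup.eq, mul_one]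
      exact inv_mem ((Subgroup.zpowers_le.mpr hgN) hz)
    have hout0 : q0.out = ((1 : G) : G ⧸ pairStab D) := by
      have h := Quotient.mk_out (s := orbitRel (Subgroup.zpowers (g : G)) (G ⧸ pairStab D))
        ((1 : G) : G ⧸ pairStab D)
      obtain ⟨⟨z, hz⟩, hzq⟩ := h
      exact hzq.symm.trans (hbase z hz)
    rw [Finset.prod_eq_single q0]
    · have hk : q0.out.out ∈ pairStab D := by
        have h : ((q0.out.out : G) : G ⧸ pairStab D) = ((1 : G) : G ⧸ pairStab D) := by
          rw [QuotientGroup.out_eq', hout0]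
        rw [QuotientGroup.eq, mul_one] at h
        exact inv_mem_iff.mp h
      have hper : Function.minimalPeriod ((g : G) • ·) q0.out = 1 := by
        rw [Function.minimalPeriod_eq_one_iff_isFixedPt, hout0]
        exact hbase _ (Subgroup.mem_zpowers _)
      have e : (⟨q0.out.out⁻¹ * (g : G) ^ Function.minimalPeriod ((g : G) • ·) q0.out * q0.out.out,
          QuotientGroup.out_conj_pow_minimalPeriod_mem (pairStab D) (g : G) q0.out⟩ : pairStab D) =
          (⟨_, hk⟩)⁻¹ * ⟨g, hgN⟩ * ⟨_, hk⟩ := Subtype.ext (by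
        simp [hper])
      rw [e, map_mul, map_mul, map_inv, hψH ⟨g, hgN⟩ g.2]
      rw [mul_comm ((ψ ⟨_, hk⟩)⁻¹), inv_mul_cancel_right]
    · intro q _ hq
      refine key _ (fun hk => hq ?_) _ _
      rw [hq0, ← Quotient.out_eq' q]
      congr 1
      rw [← QuotientGroup.out_eq' q.out, QuotientGroup.eq, mul_one]
      exact inv_mem hk
    · exact fun h => absurd (Finset.mem_univ q0) h
  rcases (MonoidHom.normal_ker (MonoidHom.transfer ψ)).eq_bot_or_eq_top with e | e
  · have h1 := Nat.card_le_card_of_injective _ ((MonoidHom.ker_eq_bot_iff _).mp e)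
    rw [Nat.card_eq_fintype_card (α := ℤˣ), Fintype.card_units_int, D.card_group] at h1
    have h2 : 0 < Nat.card D.H := Nat.card_pos
    have h3 : 3 * (2 * 1) ≤ (Nat.card D.F + 1) * (Nat.card D.F * Nat.card D.H) :=
      Nat.mul_le_mul (by omega) (Nat.mul_le_mul hn h2)
    omega
  · have : (g : G) ∈ (MonoidHom.transfer ψ).ker := e ▸ Subgroup.mem_top _
    rw [MonoidHom.mem_ker, hV] at this
    exact hg this

/-- A sharply triply transitive simple group has odd two-point stabilizers. -/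
theorem card_H_ne_of_even [IsSimpleGroup G] (D : Frame G Ω) (hn : 2 ≤ Nat.card D.F)
    (heven : Even (Nat.card D.H)) : Nat.card D.H ≠ Nat.card D.F - 1 := by
  classical
  intro hd
  haveI := D.finite_points
  haveI := Fintype.ofFinite Ω
  obtain ⟨h3, hsharp⟩ := D.sharp_of_card hd
  obtain ⟨c, hca, hcb⟩ := D.exists_third hn (x := D.a) (y := D.b)
  obtain ⟨s, -, hsa, hsb, hsc⟩ := D.sharp_swap h3 hca hcb
  obtain ⟨m, hm⟩ := D.odd_F heven
  by_cases hsmall : Nat.card D.F = 3
  · have hH2 : Nat.card D.H = 2 := by omega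
    let χ : D.H →* ℤˣ := MonoidHom.mk' (fun h => if h = 1 then 1 else -1) fun h h' => by
      obtain ⟨w, hw⟩ := Nat.card_eq_two_iff.mp hH2
      by_cases e : h = 1
      · simp [e]
      by_cases e' : h' = 1
      · simp [e']
      have : h * h' = 1 := by
        have hu : h' = h⁻¹ := by
          have hz := (Nat.card_eq_two_iff' (1 : D.H)).mp hH2
          exact hz.unique e' (inv_ne_one.mpr e)
        rw [hu, mul_inv_cancel]
      simp [e, e', this]
    haveI : Nontrivial D.H := Finite.one_lt_card_iff_nontrivial.mp (by omega)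
    obtain ⟨w, hw⟩ := exists_ne (1 : D.H)
    refine not_simple_of_sign D hn χ (fun e => ?_) hca hcb hsa hsb hsc (fun h => ?_) ?_
    · have := DFunLike.congr_fun e w
      simp [χ, hw] at this
    · simp only [χ, MonoidHom.mk'_apply]
      refine if_congr ⟨fun e => Subtype.ext (conj_eq_one_iff.mp (congrArg Subtype.val e)),
        fun e => Subtype.ext ?_⟩ rfl rfl
      rw [e]
      simp
    · intro z w hza hzb hwa hwb
      obtain ⟨g, ga, gb, gc⟩ := three_trans h3 D.hab hzb.symm hza.symm D.hab hwb.symm hwa.symm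
      exact ⟨g, ⟨ga, gb⟩, gc⟩
  -- pass to the permutation group
  let φ := toPermHom G Ω
  have hφ : Function.Injective φ := by
    rw [← MonoidHom.ker_eq_bot_iff, Subgroup.eq_bot_iff_forall]
    exact fun x hx => D.faithful hn fun y => DFunLike.congr_fun hx y
  let ε : G ≃* φ.range := MonoidHom.ofInjective hφ
  have hε : ∀ (x : G) (y : Ω), (ε x) • y = x • y := fun x y => rfl
  haveI : Nontrivial φ.range := ε.symm.toEquiv.nontrivial
  haveI : IsSimpleGroup φ.range := IsSimpleGroup.isSimpleGroup_of_surjective ε.toMonoidHom ε.surjective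
  have h3' : IsMultiplyPretransitive φ.range Ω 3 := by
    haveI := h3
    exact ⟨fun x y => by
      obtain ⟨g, hg⟩ := exists_smul_eq G x y
      exact ⟨ε g, by ext i; exact (hε g (x i)).trans (DFunLike.congr_fun hg i)⟩⟩
  have hsharp' : ∀ t : Fin 3 ↪ Ω, stabilizer φ.range t = ⊥ := fun t => by
    rw [Subgroup.eq_bot_iff_forall]
    intro g hg
    have h1 : ε.symm g ∈ stabilizer G t := by
      rw [mem_stabilizer_iff]
      ext i
      show ε.symm g • t i = t i
      rw [← hε, ε.apply_symm_apply]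
      exact DFunLike.congr_fun (mem_stabilizer_iff.mp hg) i
    rw [hsharp, Subgroup.mem_bot] at h1
    exact ε.symm.map_eq_one_iff.mp h1
  have hc := D.card_points
  rw [Nat.card_eq_fintype_card] at hc
  obtain ⟨D', hDa, hDb, hd', htr⟩ := frame_of_sharp h3' hsharp' D.hab (by
    rw [Nat.card_eq_fintype_card]; omega)
  have hev : Even (Fintype.card Ω) := ⟨m + 1, by omega⟩
  have h6 : 6 ≤ Fintype.card Ω := by omega
  have hs' : ε s • D'.a = D'.b ∧ ε s • D'.b = D'.a := by
    rw [hDa, hDb, hε, hε]; exact ⟨hsa, hsb⟩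
  have hca' : c ≠ D'.a := by rwa [hDa]
  have hcb' : c ≠ D'.b := by rwa [hDb]
  obtain ⟨χ, hχ, hinv⟩ := IndexTwo.exists_sign D' h3' hd' htr hev h6
    (fun A B hA hB hA3 hB3 => S0728.result hev h6 φ.range h3' hsharp' D'.hab A B hA hB hA3 hB3)
    hca' hcb' hs'.1 hs'.2 ((hε s c).trans hsc)
  exact not_simple_of_sign D' (by have := D'.card_points; rw [Nat.card_eq_fintype_card] at this; omega)
    χ hχ hca' hcb' hs'.1 hs'.2 ((hε s c).trans hsc) hinv htr

/-- An even two-point stabilizer of a simple group has order `(q - 1) / 2`. -/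
theorem half_of_simple_even [IsSimpleGroup G] (D : Frame G Ω) (hn : 2 ≤ Nat.card D.F)
    (heven : Even (Nat.card D.H)) : 2 * Nat.card D.H = Nat.card D.F - 1 := by
  have h1 := D.half_of_even hn heven
  have h2 := card_H_ne_of_even D hn heven
  obtain ⟨t, ht⟩ := D.card_H_dvd
  have hd0 : 0 < Nat.card D.H := Nat.card_pos
  have ht2 : t ≤ 2 := by
    by_contra h
    have : Nat.card D.H * 3 ≤ Nat.card D.H * t := Nat.mul_le_mul_left _ (by omega)
    omega
  interval_cases t <;> omega

/-- An odd two-point stabilizer of a simple group is cyclic, self-centralizing and inverted. -/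
theorem odd_inversion [IsSimpleGroup G] (D : Frame G Ω) (hn : 2 ≤ Nat.card D.F) (hH : D.H ≠ ⊥)
    (hodd : Odd (Nat.card D.H)) :
    IsCyclic D.H ∧ (∀ s : G, s • D.a = D.b → s • D.b = D.a → ∀ h ∈ D.H, s * h * s⁻¹ = h⁻¹) ∧
      Subgroup.centralizer (D.H : Set G) = D.H :=
  D.inversion_of_no_complement hn hH hodd fun q hq hqd ⟨N, hNn, hidx⟩ => by
    obtain ⟨h1, h2⟩ := D.complement_ne hn hodd hq hqd N hidx
    rcases hNn.eq_bot_or_eq_top with e | e
    exacts [h1 e, h2 e]

/-- In a simple group every element exchanging two points is an involution inverting their stabilizer. -/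
theorem swaps [IsSimpleGroup G] (D : Frame G Ω) (hn : 2 ≤ Nat.card D.F) (hH : D.H ≠ ⊥) :
    IsCyclic D.H ∧ ∀ s : G, s • D.a = D.b → s • D.b = D.a →
      s * s = 1 ∧ ∀ h ∈ D.H, s * h * s⁻¹ = h⁻¹ := by
  rcases Nat.even_or_odd (Nat.card D.H) with he | ho
  · have hhalf := half_of_simple_even D hn he
    have hall : ∀ g : G, g • D.a = D.b → g • D.b = D.a → g * g = 1 := fun g ga gb =>
      D.swaps_involutions_of_even hn he hhalf ga gb
    have hinv : ∀ s : G, s • D.a = D.b → s • D.b = D.a → ∀ h ∈ D.H, s * h * s⁻¹ = h⁻¹ :=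
      fun s hsa hsb h hh => D.inversion_of_swaps hall hsa hsb hh
    obtain ⟨K, _, _, _, e, C, χ, -, -, -, -, -, -, hχ, -⟩ := D.half_coord hn hH hhalf hinv
    exact ⟨isCyclic_of_injective χ hχ, fun s ga gb => ⟨hall s ga gb, hinv s ga gb⟩⟩
  · obtain ⟨hc, hinv, -⟩ := odd_inversion D hn hH ho
    refine ⟨hc, fun s ga gb => ⟨?_, hinv s ga gb⟩⟩
    have hmem : s * s ∈ D.H := ⟨by show (s * s) • D.a = D.a; rw [mul_smul, ga, gb],
      by show (s * s) • D.b = D.b; rw [mul_smul, gb, ga]⟩
    have e : s * (s * s) * s⁻¹ = s * s := by group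
    rw [hinv s ga gb _ hmem] at e
    have h4 : (s * s) ^ 2 = 1 := by
      rw [sq]; nth_rewrite 1 [← e]; exact inv_mul_cancel _
    have hd := Nat.dvd_gcd (Subgroup.orderOf_dvd_natCard D.H hmem) (orderOf_dvd_of_pow_eq_one h4)
    rwa [(Nat.coprime_two_right.mpr ho : Nat.gcd (Nat.card D.H) 2 = 1), Nat.dvd_one,
      orderOf_eq_one_iff] at hd

end Cfsg.Agent.Grp.ZasS
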