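import Mathlib
import Cfsg.Prelude.Def_CaseTheorems
import Cfsg.Agent.Lib.Grp.Basic
import Cfsg.Agent.Lib.Grp.Cores
import Cfsg.Agent.Lib.Grp.Solvable
import Cfsg.Agent.Lib.Invol.OneInvol
import Cfsg.Agent.Lib.Transfer.MaxClass

/-!
Solvable groups in which every element is real and all involutions are conjugate.
-/

namespace Cfsg.Agent.Grp.Ambivalent

open scoped commutatorElement

universe u

variable {G : Type u} [Group G]

theorem real_quotient (hamb : ∀ x : G, IsConj x x⁻¹) (N : Subgroup G) [N.Normal] (q : G ⧸ N) : IsConj q q⁻¹ := by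
  obtain ⟨x, rfl⟩ := QuotientGroup.mk'_surjective N q
  rw [← map_inv]
  exact MonoidHom.map_isConj (QuotientGroup.mk' N) (hamb x)

theorem subsingleton_of_odd [Finite G] (hamb : ∀ x : G, IsConj x x⁻¹) (hodd : Odd (Nat.card G)) (x : G) : x = 1 := by
  obtain ⟨g, hg⟩ := isConj_iff.mp (hamb x)
  have h2 : Commute (g ^ 2) x := by
    rw [pow_two]
    show g * g * x = x * (g * g)
    have e : g * (g * x * g⁻¹) * g⁻¹ = x := by
      rw [hg, show g * x⁻¹ * g⁻¹ = (g * x * g⁻¹)⁻¹ by group, hg, inv_inv]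
    rw [← mul_inv_eq_iff_eq_mul]; refine Eq.trans ?_ e; group
  have hcop : (orderOf g).Coprime 2 := by
    refine Nat.Coprime.coprime_dvd_left (orderOf_dvd_natCard g) ?_
    exact hodd.coprime_two_right
  obtain ⟨j, hj⟩ := exists_pow_eq_self_of_coprime (n := 2) hcop.symm
  have hc : Commute g x := by rw [← hj]; exact h2.pow_left j
  rw [hc.eq, mul_inv_cancel_right] at hg
  have hx2 : x ^ 2 = 1 := by rw [pow_two]; nth_rw 1 [hg]; exact inv_mul_cancel x
  have := orderOf_dvd_of_pow_eq_one hx2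
  exact orderOf_eq_one_iff.mp (Nat.eq_one_of_dvd_coprimes hodd.coprime_two_right (orderOf_dvd_natCard x) this)

/-- With trivial odd core there is only one involution. -/
theorem unique_involution [Finite G] [Group.IsSolvable G] (hamb : ∀ x : G, IsConj x x⁻¹)
    (hone : ∀ s t : G, orderOf s = 2 → orderOf t = 2 → IsConj s t) (hcore : Cfsg.pPrimeCore 2 G = ⊥)
    {u v : G} (hu : orderOf u = 2) (hv : orderOf v = 2) : u = v := by
  classical
  haveI : Fact (Nat.Prime 2) := ⟨Nat.prime_two⟩
  have : Nontrivial G := ⟨⟨u, 1, fun h => by rw [h, orderOf_one] at hu; omega⟩⟩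
  obtain ⟨N, hNn, hN, -, hmin⟩ := exists_minimal_normal_le (N := (⊤ : Subgroup G)) bot_lt_top.ne'
  have := hNn
  obtain ⟨p, hp, hNp⟩ := minimal_normal_solvable_isPGroup (inferInstance : Group.IsSolvable N) hN hmin
  haveI := Fact.mk hp
  obtain rfl : p = 2 := by
    by_contra hne
    obtain ⟨k, hk⟩ := IsPGroup.iff_card.mp hNp
    refine hN (eq_bot_iff.mpr (hcore ▸ le_pPrimeCore hNn ?_))
    rw [hk]; exact ((Nat.coprime_primes hp Nat.prime_two).mpr hne).pow_left k
  have hinv : ∀ t : G, orderOf t = 2 → t ∈ N := by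
    intro t ht
    obtain ⟨k, hk⟩ := IsPGroup.iff_card.mp hNp
    have hd : 2 ∣ Nat.card N := by
      rcases k with _ | k
      · exact absurd (Subgroup.card_eq_one.mp (hk.trans (pow_zero 2))) hN
      · rw [hk, pow_succ]; exact dvd_mul_left 2 _
    obtain ⟨s, hs⟩ := exists_prime_orderOf_dvd_card' 2 hd
    obtain ⟨g, hg⟩ := isConj_iff.mp (hone (s : G) t (by rw [Subgroup.orderOf_coe, hs]) ht)
    rw [← hg]; exact hNn.conj_mem _ s.2 g
  by_cases hC : Subgroup.centralizer (N : Set G) = ⊤
  · obtain ⟨g, hg⟩ := isConj_iff.mp (hone u v hu hv)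
    have h1 : g ∈ Subgroup.centralizer (N : Set G) := hC ▸ Subgroup.mem_top g
    rw [← hg, ← Subgroup.mem_centralizer_iff.mp h1 u (hinv u hu), mul_inv_cancel_right]
  exfalso
  set C := Subgroup.centralizer (N : Set G) with hCdef
  have hCn : C.Normal := inferInstance
  have hfix : ∀ (L S : Subgroup G), L.Normal → IsPGroup 2 S → L ≤ C ⊔ S → S ≤ L → L ≤ C := by
    intro L S hL hS hLS hSL
    by_contra hLC
    set D := N ⊓ Subgroup.centralizer (L : Set G)
    have hD : D = ⊥ := by
      refine ((hmin D inferInstance inf_le_left).resolve_right fun h => hLC ?_)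
      rw [hCdef, Subgroup.le_centralizer_iff]
      exact h ▸ inf_le_right
    let _ : MulAction S N :=
      { smul := fun s c => ⟨(s : G) * c * (s : G)⁻¹, hNn.conj_mem _ c.2 _⟩
        one_smul := fun c => Subtype.ext (show (1 : G) * c * (1 : G)⁻¹ = c by group)
        mul_smul := fun s t c => Subtype.ext (show ((s : G) * t) * c * ((s : G) * t)⁻¹ = s * (t * c * (t : G)⁻¹) * (s : G)⁻¹ by group) }
    have hd : 2 ∣ Nat.card N := by
      have := orderOf_dvd_natCard (⟨u, hinv u hu⟩ : N)
      rwa [Subgroup.orderOf_mk, hu] at this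
    have h1fix : (1 : N) ∈ MulAction.fixedPoints S N := fun s => Subtype.ext
      (show (s : G) * 1 * (s : G)⁻¹ = 1 by group)
    obtain ⟨c, hc, hc1⟩ := hS.exists_fixed_point_of_prime_dvd_card_of_fixed_point N hd h1fix
    refine hc1 ?_
    have : (c : G) ∈ D := by
      refine ⟨c.2, ?_⟩
      show (c : G) ∈ Subgroup.centralizer (L : Set G)
      have h2 : C ⊔ S ≤ Subgroup.centralizer ({(c : G)} : Set G) := by
        refine sup_le (fun x hx => ?_) fun x hx => ?_
        · exact Subgroup.mem_centralizer_singleton_iff.mpr (Subgroup.mem_centralizer_iff.mp hx _ c.2).symm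
        · exact Subgroup.mem_centralizer_singleton_iff.mpr
            (mul_inv_eq_iff_eq_mul.mp (congrArg Subtype.val (hc ⟨x, hx⟩)))
      rw [Subgroup.mem_centralizer_iff]
      exact fun x hx => Subgroup.mem_centralizer_singleton_iff.mp (h2 (hLS hx))
    rw [hD, Subgroup.mem_bot] at this
    exact (Subtype.ext this).symm
  have : Nontrivial (G ⧸ C) := QuotientGroup.nontrivial_iff.mpr hC
  have : Group.IsSolvable (G ⧸ C) := solvable_of_surjective (QuotientGroup.mk'_surjective C)
  obtain ⟨M, hMn, hM, -, hMmin⟩ := exists_minimal_normal_le (N := (⊤ : Subgroup (G ⧸ C))) bot_lt_top.ne'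
  have := hMn
  obtain ⟨q, hq, hMq⟩ := minimal_normal_solvable_isPGroup (inferInstance : Group.IsSolvable M) hM hMmin
  haveI := Fact.mk hq
  set π := QuotientGroup.mk' C
  set L := M.comap π with hL
  have hLn : L.Normal := inferInstance
  let T : Sylow q L := default
  set H := (T : Subgroup L).map L.subtype with hH
  have hHq : IsPGroup q H := T.isPGroup'.map _
  have hHL : H ≤ L := Subgroup.map_subtype_le _
  have hCL : C ≤ L := fun x hx => by
    show π x ∈ M
    rw [show π x = 1 from (QuotientGroup.eq_one_iff x).mpr hx]; exact one_mem M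
  have hgen : L ≤ C ⊔ H := by
    let f : L →* M := (π.comp L.subtype).codRestrict M fun x => x.2
    have hf : Function.Surjective f := fun ⟨y, hy⟩ => by
      obtain ⟨x, rfl⟩ := QuotientGroup.mk'_surjective C y
      exact ⟨⟨x, hy⟩, rfl⟩
    have htop : (T.mapSurjective hf : Subgroup M) = ⊤ := by
      obtain ⟨k, hk⟩ := IsPGroup.iff_card.mp hMq
      exact (T.mapSurjective hf).3 (hMq.to_subgroup ⊤) le_top |>.symm
    intro x hx
    obtain ⟨y, hy, hyx⟩ : f ⟨x, hx⟩ ∈ (T : Subgroup L).map f := by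
      have := Subgroup.mem_top (f ⟨x, hx⟩)
      rwa [← htop] at this
    have h1 : x * (y : G)⁻¹ ∈ C := by
      rw [← QuotientGroup.eq_one_iff]
      show π (x * (y : G)⁻¹) = 1
      rw [map_mul, map_inv, show π (y : G) = π x from congrArg Subtype.val hyx, mul_inv_cancel]
    have := Subgroup.mul_mem_sup (T := H) h1 (Subgroup.mem_map_of_mem _ hy)
    rwa [Subgroup.coe_subtype, inv_mul_cancel_right] at this
  have hLC : ¬ L ≤ C := fun h => hM (eq_bot_iff.mpr fun y hy => by
    obtain ⟨x, rfl⟩ := QuotientGroup.mk'_surjective C y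
    exact Subgroup.mem_bot.mpr ((QuotientGroup.eq_one_iff x).mpr (h hy)))
  have hq2 : q ≠ 2 := by
    rintro rfl
    exact hLC (hfix L H hLn hHq hgen hHL)
  -- `N(H)` has odd order
  have hNH : Odd (Nat.card (Subgroup.normalizer (H : Set G))) := by
    rw [← Nat.not_even_iff_odd, even_iff_two_dvd]
    intro hd
    obtain ⟨t, ht⟩ := exists_prime_orderOf_dvd_card' 2 hd
    have htN := hinv (t : G) (by rw [Subgroup.orderOf_coe, ht])
    have htC : (t : G) ∈ Subgroup.centralizer (H : Set G) := by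
      rw [Subgroup.mem_centralizer_iff]
      intro h hh
      obtain ⟨k, hk⟩ := IsPGroup.iff_card.mp hHq
      obtain ⟨j, hj⟩ := IsPGroup.iff_card.mp hNp
      have hinf : H ⊓ N = ⊥ := Subgroup.inf_eq_bot_of_coprime (by
        rw [hk, hj]; exact (((Nat.coprime_primes hq Nat.prime_two).mpr hq2).pow_right j).pow_left k)
      have h1 : (t : G) * h * (t : G)⁻¹ * h⁻¹ ∈ H ⊓ N := by
        refine ⟨H.mul_mem ((Subgroup.mem_normalizer_iff.mp t.2 h).mp hh) (H.inv_mem hh), ?_⟩
        rw [mul_assoc (t : G), mul_assoc (t : G)]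
        exact mul_mem htN (hNn.conj_mem _ (inv_mem htN) h)
      rw [hinf, Subgroup.mem_bot, mul_inv_eq_one, mul_inv_eq_iff_eq_mul] at h1
      exact h1.symm
    refine hLC ?_
    have hD : N ⊓ Subgroup.centralizer (L : Set G) ≠ ⊥ := by
      intro hbot
      have h2 : (t : G) ∈ N ⊓ Subgroup.centralizer (L : Set G) := by
        refine ⟨htN, ?_⟩
        show (t : G) ∈ Subgroup.centralizer (L : Set G)
        have h3 : C ⊔ H ≤ Subgroup.centralizer ({(t : G)} : Set G) := by
          refine sup_le (fun x hx => ?_) fun x hx => ?_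
          · exact Subgroup.mem_centralizer_singleton_iff.mpr (Subgroup.mem_centralizer_iff.mp hx _ htN).symm
          · exact Subgroup.mem_centralizer_singleton_iff.mpr (Subgroup.mem_centralizer_iff.mp htC x hx)
        rw [Subgroup.mem_centralizer_iff]
        exact fun x hx => Subgroup.mem_centralizer_singleton_iff.mp (h3 (hgen hx))
      rw [hbot, Subgroup.mem_bot] at h2
      have := Subgroup.orderOf_coe t
      rw [h2, orderOf_one, ht] at this
      omega
    rw [hCdef, Subgroup.le_centralizer_iff]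
    exact ((hmin _ inferInstance inf_le_left).resolve_left hD) ▸ inf_le_right
  have hsup : Subgroup.normalizer (H : Set G) ⊔ L = ⊤ := Sylow.normalizer_sup_eq_top T
  have hGL : ∀ y : G ⧸ L, y = 1 := by
    refine subsingleton_of_odd (real_quotient hamb L) ?_
    refine Odd.of_dvd_nat hNH ?_
    refine (Subgroup.card_dvd_of_surjective ((QuotientGroup.mk' L).comp (Subgroup.normalizer (H : Set G)).subtype) ?_)
    intro y
    obtain ⟨x, rfl⟩ := QuotientGroup.mk'_surjective L y
    obtain ⟨a, ha, b, hb, rfl⟩ := Subgroup.mem_sup_of_normal_right.mp (hsup ▸ Subgroup.mem_top x)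
    refine ⟨⟨a, ha⟩, ?_⟩
    show (QuotientGroup.mk' L) a = QuotientGroup.mk' L (a * b)
    rw [map_mul, show QuotientGroup.mk' L b = 1 from (QuotientGroup.eq_one_iff b).mpr hb, mul_one]
  have hMtop : M = ⊤ := by
    rw [eq_top_iff]
    intro y _
    obtain ⟨x, rfl⟩ := QuotientGroup.mk'_surjective C y
    exact (QuotientGroup.eq_one_iff x).mp (hGL x)
  have hodd : Odd (Nat.card (G ⧸ C)) := by
    obtain ⟨k, hk⟩ := IsPGroup.iff_card.mp hMq
    rw [← Subgroup.card_top, ← hMtop, hk]
    exact (hq.odd_of_ne_two hq2).pow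
  refine hC (eq_top_iff.mpr fun x _ => ?_)
  exact (QuotientGroup.eq_one_iff x).mp (subsingleton_of_odd (real_quotient hamb C) hodd (x : G ⧸ C))

/-- A finite 2-group with a unique involution is cyclic or generalised quaternion. -/
theorem cyclic_or_quaternion {R : Type u} [Group R] [Finite R] (hR : IsPGroup 2 R)
    (h : ∀ u v : R, orderOf u = 2 → orderOf v = 2 → u = v) :
    IsCyclic R ∨ ∃ n : ℕ, Nonempty (R ≃* QuaternionGroup (2 ^ (n + 1))) := by
  haveI : Fact (Nat.Prime 2) := ⟨Nat.prime_two⟩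
  rcases Cfsg.Agent.OneInvol.cyclic_or_quatShape hR h with h' | ⟨a, ha4, hidx, hxa⟩
  · exact Or.inl h'
  refine Or.inr ?_
  obtain ⟨k, hk⟩ := IsPGroup.iff_orderOf.mp hR a
  obtain ⟨n, rfl⟩ : ∃ n, k = n + 2 := ⟨k - 2, by
    rw [hk] at ha4
    have : 2 ^ 2 ≤ 2 ^ k := Nat.le_of_dvd (pow_pos two_pos k) ha4
    have := (Nat.pow_le_pow_iff_right Nat.one_lt_two).mp this
    omega⟩
  obtain ⟨x, -, hx⟩ := SetLike.exists_of_lt (lt_top_iff_ne_top.mpr (fun ht => by
    rw [ht, Subgroup.index_top] at hidx; omega) : Subgroup.zpowers a < ⊤)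
  have hxinv := hxa x hx
  refine ⟨n, Cfsg.Agent.Transfer.MaxClass.nonempty_quaternion (by positivity) (by rw [hk, pow_succ' 2 (n + 1)]) hidx hx ?_ hxinv⟩
  have hsq : x * x ∈ Subgroup.zpowers a := Subgroup.mul_self_mem_of_index_two hidx x
  obtain ⟨i, hi⟩ := Subgroup.mem_zpowers_iff.mp hsq
  have h1 : (x * x) * (x * x) = 1 := by
    have e1 : x * (x * x) * x⁻¹ = (x * x)⁻¹ := by
      rw [← hi, ← conj_zpow, hxinv, inv_zpow]
    rw [show x * (x * x) * x⁻¹ = x * x by group] at e1
    exact mul_eq_one_iff_eq_inv.mpr e1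
  have ham : orderOf (a ^ 2 ^ (n + 1)) = 2 := by
    rw [orderOf_pow_of_dvd (by positivity) (by rw [hk]; exact pow_dvd_pow 2 (by omega)), hk,
      Nat.pow_div (by omega) two_pos]
    simp
  have hxx : x * x ≠ 1 := by
    intro h0
    refine hx (h x (a ^ 2 ^ (n + 1)) (orderOf_eq_prime (by rwa [pow_two]) fun h1 => hx (h1 ▸ one_mem _)) ham ▸ ?_)
    exact Subgroup.npow_mem_zpowers a _
  exact h _ _ (orderOf_eq_prime (by rwa [pow_two]) hxx) ham

/-- An involution of a quotient by a normal subgroup of odd order lifts to one. -/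
theorem exists_involution_lift [Finite G] (O : Subgroup G) [O.Normal] (hO : Odd (Nat.card O)) {q : G ⧸ O}
    (hq : orderOf q = 2) : ∃ x : G, orderOf x = 2 ∧ (x : G ⧸ O) = q := by
  obtain ⟨x, rfl⟩ := QuotientGroup.mk'_surjective O q
  have h2 : x ^ 2 ∈ O := by
    rw [← QuotientGroup.eq_one_iff, QuotientGroup.mk_pow]
    exact hq ▸ pow_orderOf_eq_one (x : G ⧸ O)
  obtain ⟨j, hj⟩ := hO
  have hq2 : ((x : G ⧸ O)) ^ 2 = 1 := hq ▸ pow_orderOf_eq_one (x : G ⧸ O)
  have heq : ((x ^ Nat.card O : G) : G ⧸ O) = (x : G ⧸ O) := by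
    rw [QuotientGroup.mk_pow, hj, pow_succ, pow_mul, hq2, one_pow, one_mul]
  refine ⟨x ^ Nat.card O, orderOf_eq_prime ?_ fun h => ?_, heq⟩
  · rw [← pow_mul, mul_comm, pow_mul]
    exact congrArg Subtype.val (pow_card_eq_one' (x := (⟨_, h2⟩ : O)))
  · rw [h] at heq
    rw [show (QuotientGroup.mk' O) x = (x : G ⧸ O) from rfl, ← heq, QuotientGroup.mk_one, orderOf_one] at hq
    omega

/-- The Sylow 2-subgroup has a unique involution. -/
theorem sylow_unique_involution [Finite G] [Group.IsSolvable G] (hamb : ∀ x : G, IsConj x x⁻¹)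
    (hone : ∀ s t : G, orderOf s = 2 → orderOf t = 2 → IsConj s t) (S : Sylow 2 G)
    {u v : (S : Subgroup G)} (hu : orderOf u = 2) (hv : orderOf v = 2) : u = v := by
  haveI : Fact (Nat.Prime 2) := ⟨Nat.prime_two⟩
  set O := Cfsg.pPrimeCore 2 G with hOdef
  have : O.Normal := pPrimeCore_isNormal
  have hO : Odd (Nat.card O) := Nat.coprime_two_right.mp pPrimeCore_coprime
  have hbot : Cfsg.pPrimeCore 2 (G ⧸ O) = ⊥ := by
    set K := Cfsg.pPrimeCore 2 (G ⧸ O)
    have : K.Normal := pPrimeCore_isNormal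
    have h1 : K.comap (QuotientGroup.mk' O) ≤ O := by
      refine le_pPrimeCore inferInstance ?_
      have e := Subgroup.card_mul_index (K.comap (QuotientGroup.mk' O))
      rw [Subgroup.index_comap_of_surjective _ (QuotientGroup.mk'_surjective O)] at e
      have e2 : Nat.card O * Nat.card K * K.index = Nat.card G := by
        rw [mul_assoc, K.card_mul_index, ← Subgroup.index_eq_card, O.card_mul_index]
      rw [Nat.eq_of_mul_eq_mul_right (Nat.pos_of_ne_zero Subgroup.index_ne_zero_of_finite) (e.trans e2.symm)]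
      exact Nat.Coprime.mul_left hO.coprime_two_right pPrimeCore_coprime
    rw [eq_bot_iff]
    intro y hy
    obtain ⟨x, rfl⟩ := QuotientGroup.mk'_surjective O y
    exact Subgroup.mem_bot.mpr ((QuotientGroup.eq_one_iff x).mpr (h1 hy))
  have : Group.IsSolvable (G ⧸ O) := solvable_of_surjective (QuotientGroup.mk'_surjective O)
  have hone' : ∀ s t : G ⧸ O, orderOf s = 2 → orderOf t = 2 → IsConj s t := by
    intro s t hs ht
    obtain ⟨x, hx, rfl⟩ := exists_involution_lift O hO hs
    obtain ⟨y, hy, rfl⟩ := exists_involution_lift O hO ht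
    exact MonoidHom.map_isConj (QuotientGroup.mk' O) (hone x y hx hy)
  have hinj : Function.Injective ((QuotientGroup.mk' O).comp (S : Subgroup G).subtype) := by
    rw [injective_iff_map_eq_one]
    intro s hs
    obtain ⟨k, hk⟩ := IsPGroup.iff_orderOf.mp S.isPGroup' s
    refine orderOf_eq_one_iff.mp (Nat.eq_one_of_dvd_coprimes ((hO.coprime_two_right).pow_right k) ?_ (dvd_of_eq hk))
    rw [← Subgroup.orderOf_coe]
    exact Subgroup.orderOf_dvd_natCard O ((QuotientGroup.eq_one_iff _).mp hs)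
  exact hinj (unique_involution (real_quotient hamb O) hone' hbot (by rwa [orderOf_injective _ hinj])
    (by rwa [orderOf_injective _ hinj]))

/-- The structure of the Sylow 2-subgroup. -/
theorem sylow_shape [Finite G] [Group.IsSolvable G] (hamb : ∀ x : G, IsConj x x⁻¹) (heven : 2 ∣ Nat.card G)
    (hone : ∀ s t : G, orderOf s = 2 → orderOf t = 2 → IsConj s t) (S : Sylow 2 G) :
    Nat.card S = 2 ∨ ∃ n : ℕ, Nonempty ((S : Subgroup G) ≃* QuaternionGroup (2 ^ (n + 1))) := by
  haveI : Fact (Nat.Prime 2) := ⟨Nat.prime_two⟩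
  rcases cyclic_or_quaternion S.isPGroup' (fun u v => sylow_unique_involution hamb hone S (u := u) (v := v)) with hc | hq
  swap
  · exact Or.inr hq
  left
  have hmin : (Nat.card G).minFac = 2 := (Nat.minFac_eq_two_iff _).mpr heven
  have hK := MonoidHom.ker_transferSylow_isComplement' S (IsCyclic.normalizer_le_centralizer hmin hc)
  set K := (MonoidHom.transferSylow S (IsCyclic.normalizer_le_centralizer hmin hc)).ker
  have hreal : ∀ s : (S : Subgroup G), s ^ 2 = 1 := by
    intro s
    obtain ⟨g, hg⟩ := isConj_iff.mp ((real_quotient hamb K) ((s : G) : G ⧸ K))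
    obtain ⟨y, rfl⟩ := QuotientGroup.mk'_surjective K g
    obtain ⟨⟨k, s'⟩, hks⟩ := hK.2 y
    have hy : ((y : G) : G ⧸ K) = ((s' : G) : G ⧸ K) := by
      rw [← hks, QuotientGroup.mk_mul, (QuotientGroup.eq_one_iff (k : G)).mpr k.2, one_mul]
    have hc' : (s' : (S : Subgroup G)) * s * s'⁻¹ = s := by
      have := (IsCyclic.commutative : IsMulCommutative (S : Subgroup G)).1.comm s' s
      rw [this, mul_inv_cancel_right]
    rw [QuotientGroup.mk'_apply, hy, ← QuotientGroup.mk_inv, ← QuotientGroup.mk_mul, ← QuotientGroup.mk_mul,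
      ← Subgroup.coe_inv, ← Subgroup.coe_mul, ← Subgroup.coe_mul, hc', ← QuotientGroup.mk_inv, QuotientGroup.eq] at hg
    have h1 : ((s : G))⁻¹ * (s : G)⁻¹ ∈ K ⊓ (S : Subgroup G) := ⟨hg, (S : Subgroup G).mul_mem ((S : Subgroup G).inv_mem s.2) ((S : Subgroup G).inv_mem s.2)⟩
    rw [hK.disjoint.eq_bot, Subgroup.mem_bot, ← mul_inv_rev, inv_eq_one] at h1
    exact Subtype.ext (by rw [Subgroup.coe_pow, pow_two]; exact h1)
  obtain ⟨k, hk⟩ := IsPGroup.iff_card.mp S.isPGroup'
  have hexp : Monoid.exponent (S : Subgroup G) ∣ 2 := Monoid.exponent_dvd_of_forall_pow_eq_one hreal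
  rw [IsCyclic.exponent_eq_card] at hexp
  rcases (Nat.dvd_prime Nat.prime_two).mp hexp with h | h
  · exfalso
    exact S.not_dvd_index (by
      have := (S : Subgroup G).card_mul_index
      rw [h, one_mul] at this
      rwa [this])
  · exact h

/-- Order two: a generalised dihedral group. -/
theorem order_two [Finite G] [Group.IsSolvable G] (hamb : ∀ x : G, IsConj x x⁻¹) (heven : 2 ∣ Nat.card G)
    (S : Sylow 2 G) (hS : Nat.card S = 2) :
    (S : Subgroup G).IsComplement' (Cfsg.pPrimeCore 2 G) ∧ Cfsg.pPrimeCore 2 G = commutator G ∧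
      ∀ t : G, t ∈ S → t ≠ 1 → ∀ x : G, x ∈ Cfsg.pPrimeCore 2 G → t * x * t⁻¹ = x⁻¹ := by
  haveI : Fact (Nat.Prime 2) := ⟨Nat.prime_two⟩
  have hc : IsCyclic S := isCyclic_of_prime_card hS
  have hmin : (Nat.card G).minFac = 2 := (Nat.minFac_eq_two_iff _).mpr heven
  have hK := MonoidHom.ker_transferSylow_isComplement' S (IsCyclic.normalizer_le_centralizer hmin hc)
  set K := (MonoidHom.transferSylow S (IsCyclic.normalizer_le_centralizer hmin hc)).ker
  have hKidx : K.index = 2 := by rw [hK.symm.index_eq_card]; exact hS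
  have hKodd : Odd (Nat.card K) := by
    rw [← Nat.not_even_iff_odd, even_iff_two_dvd, ← hK.index_eq_card]
    exact S.not_dvd_index
  have hcore : Cfsg.pPrimeCore 2 G = K := by
    refine le_antisymm (fun x hx => ?_) (le_pPrimeCore inferInstance hKodd.coprime_two_right)
    rw [← QuotientGroup.eq_one_iff, ← orderOf_eq_one_iff]
    refine Nat.eq_one_of_dvd_coprimes (pPrimeCore_coprime (p := 2) (G := G)) ?_ ?_
    · exact dvd_trans (orderOf_map_dvd (QuotientGroup.mk' K) x) (Subgroup.orderOf_dvd_natCard _ hx)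
    · exact (orderOf_dvd_natCard _).trans (dvd_of_eq (by rw [← Subgroup.index_eq_card, hKidx]))
  rw [hcore]
  have hfpf : ∀ t : G, t ∈ (S : Subgroup G) → t ≠ 1 → ∀ c ∈ K, t * c = c * t → c = 1 := by
    intro t ht ht1 c hc hcomm
    have ht2 : t ^ 2 = 1 := by
      have := pow_card_eq_one' (x := (⟨t, ht⟩ : (S : Subgroup G)))
      rw [hS] at this
      exact congrArg Subtype.val this
    obtain ⟨g, hg⟩ := isConj_iff.mp (hamb (t * c))
    obtain ⟨j, hj⟩ := hKodd
    have hcm : c ^ (2 * j + 1) = 1 := by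
      rw [← hj]; exact congrArg Subtype.val (pow_card_eq_one' (x := (⟨c, hc⟩ : K)))
    have htm : t ^ (2 * j + 1) = t := by rw [pow_succ, pow_mul, ht2, one_pow, one_mul]
    have htc : (t * c) ^ (2 * j + 1) = t := by rw [Commute.mul_pow hcomm, hcm, htm, mul_one]
    have hgt : g * t * g⁻¹ = t := by
      have := congrArg (· ^ (2 * j + 1)) hg
      simp only [conj_pow, inv_pow, htc] at this
      rw [this, inv_eq_iff_mul_eq_one, ← pow_two, ht2]
    have hgc : g * c * g⁻¹ = c⁻¹ := by
      have e : g * (t * c) * g⁻¹ = g * t * g⁻¹ * (g * c * g⁻¹) := by group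
      rw [hg, hgt, mul_inv_rev, show t⁻¹ = t from by rw [inv_eq_iff_mul_eq_one, ← pow_two, ht2],
        ← Commute.inv_right hcomm |>.eq] at e
      exact (mul_left_cancel e).symm
    obtain ⟨⟨k, s⟩, hks⟩ := hK.2 g
    have hs : (s : G) = 1 ∨ (s : G) = t := by
      have hh := Nat.card_eq_two_iff' (1 : (S : Subgroup G)) |>.mp hS
      obtain ⟨y, -, hy⟩ := hh
      by_cases h1 : s = 1
      · exact Or.inl (congrArg Subtype.val h1)
      · exact Or.inr (congrArg Subtype.val ((hy s h1).trans (hy ⟨t, ht⟩ (fun e => ht1 (congrArg Subtype.val e))).symm))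
    have hkc : (k : G) * c * (k : G)⁻¹ = c⁻¹ := by
      rw [← hgc, ← hks]
      rcases hs with h | h
      · simp [h]
      · show _ = (k : G) * (s : G) * c * ((k : G) * (s : G))⁻¹
        rw [h, mul_assoc (k : G) t c, hcomm]; group
    have hk2 : Commute ((k : G) ^ 2) c := by
      rw [pow_two]
      show (k : G) * k * c = c * (k * k)
      have e : (k : G) * (k * c * (k : G)⁻¹) * (k : G)⁻¹ = c := by
        rw [hkc, show (k : G) * c⁻¹ * (k : G)⁻¹ = ((k : G) * c * (k : G)⁻¹)⁻¹ by group, hkc, inv_inv]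
      rw [← mul_inv_eq_iff_eq_mul]; refine Eq.trans ?_ e; group
    have hcop : (orderOf (k : G)).Coprime 2 :=
      (Nat.Coprime.coprime_dvd_left (Subgroup.orderOf_dvd_natCard K k.2) (Nat.coprime_two_right.mpr ⟨j, hj⟩))
    obtain ⟨i, hi⟩ := exists_pow_eq_self_of_coprime (n := 2) hcop.symm
    have hkc' : Commute (k : G) c := by rw [← hi]; exact hk2.pow_left i
    rw [hkc'.eq, mul_inv_cancel_right] at hkc
    have h2 : c ^ 2 = 1 := by rw [pow_two]; nth_rw 1 [hkc]; exact inv_mul_cancel c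
    exact orderOf_eq_one_iff.mp (Nat.eq_one_of_dvd_coprimes (Nat.coprime_two_right.mpr ⟨j, hj⟩)
      (Subgroup.orderOf_dvd_natCard K hc) (orderOf_dvd_of_pow_eq_one h2))
  have hinvert : ∀ t : G, t ∈ S → t ≠ 1 → ∀ x : G, x ∈ K → t * x * t⁻¹ = x⁻¹ := by
    intro t ht ht1 x hx
    have ht2 : t * t = 1 := by
      have := pow_card_eq_one' (x := (⟨t, ht⟩ : (S : Subgroup G)))
      rw [hS, pow_two] at this
      exact congrArg Subtype.val this
    have hKn : K.Normal := inferInstance
    let F : K → K := fun y => ⟨(y : G)⁻¹ * (t * y * t⁻¹), mul_mem (inv_mem y.2) (hKn.conj_mem _ y.2 t)⟩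
    have hF : Function.Injective F := by
      intro y z h
      have h' : (y : G)⁻¹ * (t * y * t⁻¹) = (z : G)⁻¹ * (t * z * t⁻¹) := congrArg Subtype.val h
      have h1 : t * ((y : G) * (z : G)⁻¹) = (y : G) * (z : G)⁻¹ * t := by
        rw [← mul_inv_eq_iff_eq_mul,
          show t * ((y : G) * (z : G)⁻¹) * t⁻¹ = (y : G) * ((y : G)⁻¹ * (t * y * t⁻¹)) * (t * z * t⁻¹)⁻¹ by group, h']
        group
      exact Subtype.ext (mul_inv_eq_one.mp (hfpf t ht ht1 _ (mul_mem y.2 (inv_mem z.2)) h1))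
    obtain ⟨y, hy⟩ := Finite.surjective_of_injective hF ⟨x, hx⟩
    have e : x = (y : G)⁻¹ * (t * y * t⁻¹) := (congrArg Subtype.val hy).symm
    have ti : t⁻¹ = t := inv_eq_of_mul_eq_one_right ht2
    rw [e, mul_inv_rev, mul_inv_rev, mul_inv_rev, inv_inv, inv_inv, ti]
    calc t * ((y : G)⁻¹ * (t * y * t)) * t = t * (y : G)⁻¹ * t * y * (t * t) := by group
      _ = _ := by rw [ht2]; group
  refine ⟨hK.symm, le_antisymm ?_ ?_, hinvert⟩
  · intro x hx
    obtain ⟨t, ht⟩ : ∃ t : (S : Subgroup G), t ≠ 1 := by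
      have : Nontrivial (S : Subgroup G) := Finite.one_lt_card_iff_nontrivial.mp (by rw [hS]; omega)
      exact exists_ne 1
    obtain ⟨j, hj⟩ := hKodd
    have hy : x ^ (j + 1) ∈ K := pow_mem hx _
    have h1 := hinvert t t.2 (fun e => ht (Subtype.ext e)) _ (inv_mem hy)
    have e : x = ⁅(x ^ (j + 1)), (t : G)⁆ := by
      show x = x ^ (j + 1) * t * (x ^ (j + 1))⁻¹ * (t : G)⁻¹
      rw [mul_assoc, mul_assoc, ← mul_assoc (t : G), h1, inv_inv, ← pow_add,
        show j + 1 + (j + 1) = (2 * j + 1) + 1 by ring, pow_succ, ← hj,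
        show x ^ Nat.card K = 1 from congrArg Subtype.val (pow_card_eq_one' (x := (⟨x, hx⟩ : K))), one_mul]
    rw [e]
    exact Subgroup.commutator_mem_commutator (Subgroup.mem_top _) (Subgroup.mem_top _)
  · rw [commutator_def, Subgroup.commutator_le]
    intro a _ b _
    rw [← QuotientGroup.eq_one_iff, ← QuotientGroup.mk'_apply, map_commutatorElement, commutatorElement_eq_one_iff_mul_comm]
    have : IsCyclic (G ⧸ K) := isCyclic_of_prime_card (p := 2) (by rw [← Subgroup.index_eq_card, hKidx])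
    exact (IsCyclic.commutative : IsMulCommutative (G ⧸ K)).1.comm _ _

end Cfsg.Agent.Grp.Ambivalent
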