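import Mathlib
import Cfsg.Prelude.Def_Solvable
import Cfsg.Prelude.Def_OddOrderLocal
import Cfsg.Agent.Lib.Grp.Basic
import Cfsg.Agent.Lib.Grp.Solvable
import Cfsg.Agent.Lib.Grp.FpfPrime
import Cfsg.Agent.Lib.Grp.Zassenhaus.Complement
import Cfsg.Agent.Lib.Grp.Zassenhaus.Basics
import Cfsg.Agent.Lib.Recog.Frobenius
import Cfsg.Agent.Lib.Grp.FrobeniusTheorem
import Cfsg.Agent.Lib.Transfer.RankOneCyclic

/-!
# Solvable groups with disconnected prime graph
-/

set_option autoImplicit false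

namespace Cfsg.Agent.Grp.Graph

variable {G : Type*} [Group G]

/-- No element has order the product of a prime inside and a prime outside `π`. -/
def NoMix (π : Set ℕ) (G : Type*) [Group G] : Prop :=
  ∀ a b : ℕ, a.Prime → b.Prime → a ∈ π → b ∉ π → ∀ g : G, orderOf g ≠ a * b

/-- A subgroup whose order involves only primes of `π`. -/
def PiSub (π : Set ℕ) (N : Subgroup G) : Prop := ∀ r : ℕ, r.Prime → r ∣ Nat.card N → r ∈ π

theorem NoMix.symm {π : Set ℕ} (h : NoMix π G) : NoMix πᶜ G := fun a b ha hb haπ hbπ g hg =>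
  h b a hb ha (not_not.mp hbπ) haπ g (by rw [hg, mul_comm])

theorem NoMix.quot [Finite G] {π : Set ℕ} (h : NoMix π G) (N : Subgroup G) [N.Normal] : NoMix π (G ⧸ N) := by
  intro a b ha hb haπ hbπ x hx
  obtain ⟨g, rfl⟩ := QuotientGroup.mk_surjective x
  exact h a b ha hb haπ hbπ _ (orderOf_pow_orderOf_div (orderOf_pos g).ne'
    (hx ▸ orderOf_map_dvd (QuotientGroup.mk' N) g))

theorem NoMix.not_commute [Finite G] {π : Set ℕ} (h : NoMix π G) {x y : G} (hx : (orderOf x).Prime)
    (hy : (orderOf y).Prime) (hxπ : orderOf x ∈ π) (hyπ : orderOf y ∉ π) : ¬ Commute x y := fun hc =>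
  h _ _ hx hy hxπ hyπ (x * y)
    (hc.orderOf_mul_eq_mul_orderOf_of_coprime ((Nat.coprime_primes hx hy).mpr fun e => hyπ (e ▸ hxπ)))

theorem piSub_core [Finite G] {π : Set ℕ} : PiSub π (Cfsg.piCore π G) :=
  (sSup_mem_of_closed {N : Subgroup G | N.Normal ∧ ∀ r : ℕ, r.Prime → r ∣ Nat.card N → r ∈ π}
    ⟨⊥, inferInstance, fun r hr hd => by
      rw [Subgroup.card_bot, Nat.dvd_one] at hd
      exact absurd hd hr.ne_one⟩
    fun N hN M hM => ⟨by have := hN.1; have := hM.1; infer_instance, fun r hr hd => by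
      have := hN.1
      have h1 : r ∣ Nat.card N * Nat.card M := by
        rw [mul_comm]; rw [Set.mem_setOf_eq] at *; exact hd.trans (sup_comm N M ▸ card_sup_dvd_mul (H := M) (N := N) Subgroup.le_normalizer_of_normal)
      exact (hr.dvd_mul.mp h1).elim (hN.2 r hr) (hM.2 r hr)⟩).2

theorem fpf [Finite G] {π : Set ℕ} (h : NoMix π G) {N H : Subgroup G} (hN : PiSub π N) (hH : PiSub πᶜ H)
    {x : G} (hx : x ∈ H) (hx1 : x ≠ 1) : N ⊓ Subgroup.centralizer {x} = ⊥ := by
  rw [Subgroup.eq_bot_iff_forall]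
  rintro n ⟨hn, hnx⟩
  by_contra hn1
  obtain ⟨a, ha, hda⟩ := Nat.exists_prime_and_dvd (fun e => hn1 (orderOf_eq_one_iff.mp e))
  obtain ⟨b, hb, hdb⟩ := Nat.exists_prime_and_dvd (fun e => hx1 (orderOf_eq_one_iff.mp e))
  have h1 := orderOf_pow_orderOf_div (orderOf_pos n).ne' hda
  have h2 := orderOf_pow_orderOf_div (orderOf_pos x).ne' hdb
  have haπ : a ∈ π := hN a ha (hda.trans (Subgroup.orderOf_dvd_natCard N hn))
  have hbπ : b ∉ π := hH b hb (hdb.trans (Subgroup.orderOf_dvd_natCard H hx))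
  refine h.not_commute (h1.symm ▸ ha) (h2.symm ▸ hb) (h1.symm ▸ haπ) (h2.symm ▸ hbπ) (Commute.pow_pow ?_ _ _)
  exact Subgroup.mem_centralizer_singleton_iff.mp hnx

theorem coprime_of_piSub {π : Set ℕ} {N H : Subgroup G} (hN : PiSub π N) (hH : PiSub πᶜ H) :
    (Nat.card N).Coprime (Nat.card H) :=
  Nat.coprime_of_dvd fun r hr h1 h2 => hH r hr h2 (hN r hr h1)

theorem frobenius [Finite G] {π : Set ℕ} (h : NoMix π G) {N H : Subgroup G} [N.Normal] (hN : PiSub π N)
    (hH : PiSub πᶜ H) (hN1 : N ≠ ⊥) (hH1 : H ≠ ⊥) (hc : Subgroup.IsComplement' N H) :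
    Cfsg.IsFrobeniusComplement H ∧ Cfsg.frobeniusKernel H = (N : Set G) := by
  classical
  have := Fintype.ofFinite G
  have hF := Zas.isFrobeniusComplement_of_isComplement' hc hN1 hH1 fun x hx hx1 => fpf h hN hH hx hx1
  obtain ⟨K, hK, -, hKc, -⟩ := frobenius_kernel_spec hF
  have hcard : Nat.card K = Nat.card N := by
    rw [← hKc.index_eq_card, hc.index_eq_card]
  refine ⟨hF, ?_⟩
  rw [← hK]
  congr 1
  rcases Frob.kernel_le_or_le hF hK N with e | e
  · exact Subgroup.eq_of_le_of_card_ge e hcard.ge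
  · exact (Subgroup.eq_of_le_of_card_ge e hcard.le).symm

theorem piCore_maximal [Finite G] {π : Set ℕ} {N : Subgroup G} (hN : N.Normal) (h : PiSub π N) :
    N ≤ Cfsg.piCore π G := le_sSup ⟨hN, h⟩

/-- A minimal normal subgroup of a nontrivial solvable group. -/
theorem exists_normal_pGroup [Finite G] [Group.IsSolvable G] [Nontrivial G] :
    ∃ (p : ℕ) (N : Subgroup G), p.Prime ∧ N.Normal ∧ IsPGroup p N ∧ N ≠ ⊥ := by
  obtain ⟨N, ⟨hNn, hN1⟩, hmin⟩ := (Set.toFinite {N : Subgroup G | N.Normal ∧ N ≠ ⊥}).exists_minimal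
    ⟨⊤, inferInstance, top_ne_bot⟩
  have := hNn
  obtain ⟨p, hp, hpN⟩ := minimal_normal_solvable_isPGroup (N := N) inferInstance hN1
    (fun M hM hle => by
      by_contra hcon
      rw [not_or] at hcon
      exact hcon.2 (le_antisymm hle (hmin ⟨hM, hcon.1⟩ hle)))
  exact ⟨p, N, hp, hNn, hpN, hN1⟩

theorem piSub_of_pGroup [Finite G] {π : Set ℕ} {p : ℕ} (hp : p.Prime) {N : Subgroup G} (hN : IsPGroup p N)
    (hpπ : p ∈ π) : PiSub π N := by
  intro r hr hd
  have := Fact.mk hp
  obtain ⟨k, hk⟩ := IsPGroup.iff_card.mp hN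
  rw [hk] at hd
  exact (Nat.prime_dvd_prime_iff_eq hr hp).mp (hr.dvd_of_dvd_pow hd) ▸ hpπ

theorem piSub_comap [Finite G] {π : Set ℕ} {N : Subgroup G} [N.Normal] (hN : PiSub π N)
    {T : Subgroup (G ⧸ N)} (hT : PiSub π T) : PiSub π (T.comap (QuotientGroup.mk' N)) := by
  intro r hr hd
  have h1 : Nat.card (T.comap (QuotientGroup.mk' N)) = Nat.card N * Nat.card T := by
    have hle : N ≤ T.comap (QuotientGroup.mk' N) := fun n hn => by
      show QuotientGroup.mk' N n ∈ T
      rw [show QuotientGroup.mk' N n = 1 from (QuotientGroup.eq_one_iff n).mpr hn]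
      exact one_mem T
    rw [← Subgroup.card_mul_index (N.subgroupOf (T.comap (QuotientGroup.mk' N))),
      Nat.card_congr (Subgroup.subgroupOfEquivOfLe hle).toEquiv, ← Subgroup.relIndex]
    congr 1
    rw [show N.relIndex (T.comap (QuotientGroup.mk' N)) =
        (QuotientGroup.mk' N).ker.relIndex (T.comap (QuotientGroup.mk' N)) by rw [QuotientGroup.ker_mk'],
      Subgroup.relIndex_ker, Subgroup.map_comap_eq_self_of_surjective (QuotientGroup.mk'_surjective N)]
  rw [h1] at hd
  exact (hr.dvd_mul.mp hd).elim (hN r hr) (hT r hr)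

/-- The central step: a group with nontrivial `O_π` is Frobenius or 2-Frobenius. -/
theorem core_case [Finite G] [Group.IsSolvable G] {π : Set ℕ} (h : NoMix π G)
    (hb : ∃ b ∉ π, b.Prime ∧ b ∣ Nat.card G) (hL1 : Cfsg.piCore π G ≠ ⊥) :
    (∃ C : Subgroup G, Cfsg.IsFrobeniusComplement C) ∨
    (∃ (H K : Subgroup G) (_ : H.Normal), K.Normal ∧ H < K ∧
      (∃ C : Subgroup ↥K, Cfsg.IsFrobeniusComplement C ∧ Cfsg.frobeniusKernel C = (H.subgroupOf K : Set ↥K)) ∧
      (∃ C : Subgroup (G ⧸ H), Cfsg.IsFrobeniusComplement C ∧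
        Cfsg.frobeniusKernel C = (K.map (QuotientGroup.mk' H) : Set (G ⧸ H)))) := by
  classical
  set L := Cfsg.piCore π G
  have hLπ : PiSub π L := piSub_core
  set φ := QuotientGroup.mk' L
  set B := Cfsg.piCore πᶜ (G ⧸ L)
  have hBπ : PiSub πᶜ B := piSub_core
  have hNM : NoMix π (G ⧸ L) := h.quot L
  have hQnt : Nontrivial (G ⧸ L) := by
    obtain ⟨b, hbπ, hbp, hbd⟩ := hb
    rw [← not_subsingleton_iff_nontrivial, QuotientGroup.subsingleton_iff]
    intro e
    rw [← Subgroup.card_top (G := G), ← e] at hbd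
    exact hbπ (hLπ b hbp hbd)
  have hcoreπ : ∀ T : Subgroup (G ⧸ L), T.Normal → PiSub π T → T = ⊥ := fun T hT hTπ => by
    have h1 := piCore_maximal (hT.comap φ) (piSub_comap hLπ hTπ)
    rw [← Subgroup.map_comap_eq_self_of_surjective (QuotientGroup.mk'_surjective L) T, Subgroup.map_eq_bot_iff,
      QuotientGroup.ker_mk']
    exact h1
  have hB1 : B ≠ ⊥ := by
    obtain ⟨p, T, hp, hTn, hTp, hT1⟩ := exists_normal_pGroup (G := G ⧸ L)
    intro e
    by_cases hpπ : p ∈ π
    · exact hT1 (hcoreπ T hTn (piSub_of_pGroup hp hTp hpπ))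
    · exact hT1 (le_bot_iff.mp (e ▸ piCore_maximal hTn (piSub_of_pGroup hp hTp (π := πᶜ) hpπ)))
  by_cases hBtop : B = ⊤
  · -- a Frobenius group
    left
    have hcop : (Nat.card L).Coprime L.index := by
      rw [Subgroup.index_eq_card, ← Subgroup.card_top (G := G ⧸ L), ← hBtop]
      exact Nat.coprime_of_dvd fun r hr h1 h2 => hBπ r hr h2 (hLπ r hr h1)
    obtain ⟨C, hC⟩ := L.exists_right_complement'_of_coprime hcop
    have hCπ : PiSub πᶜ C := fun r hr hd => by
      refine hBπ r hr ?_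
      rwa [hBtop, Subgroup.card_top, ← Subgroup.index_eq_card, hC.symm.index_eq_card]
    refine ⟨C, (frobenius h hLπ hCπ hL1 (fun e => ?_) hC).1⟩
    have := hC.symm.index_eq_card
    rw [e, Subgroup.card_bot, Subgroup.index_eq_one, ← QuotientGroup.subsingleton_iff] at this
    exact not_nontrivial_iff_subsingleton.mpr this hQnt
  · right
    set M := B.comap φ
    have hLM : L ≤ M := fun l hl => by
      show φ l ∈ B
      rw [show φ l = 1 from (QuotientGroup.eq_one_iff l).mpr hl]
      exact one_mem B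
    have hMmap : M.map φ = B := Subgroup.map_comap_eq_self_of_surjective (QuotientGroup.mk'_surjective L) B
    have hMB : Nat.card B = (L.subgroupOf M).index := by
      rw [← hMmap, ← Subgroup.relIndex]
      rw [show L.relIndex M = φ.ker.relIndex M by rw [QuotientGroup.ker_mk'], Subgroup.relIndex_ker]
    have hlt : L < M := lt_of_le_of_ne hLM fun e => hB1 (by
      rw [← hMmap, ← e, Subgroup.map_eq_bot_iff, QuotientGroup.ker_mk'])
    have hNMM : NoMix π M := fun a b ha hb' haπ hbπ g hg => h a b ha hb' haπ hbπ (g : G) (by rwa [Subgroup.orderOf_coe])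
    have hLM' : PiSub π (L.subgroupOf M) := fun r hr hd => hLπ r hr (by
      rwa [Nat.card_congr (Subgroup.subgroupOfEquivOfLe hLM).toEquiv] at hd)
    have hcop : (Nat.card (L.subgroupOf M)).Coprime (L.subgroupOf M).index := by
      rw [← hMB]
      exact Nat.coprime_of_dvd fun r hr h1 h2 => hBπ r hr h2 (hLM' r hr h1)
    obtain ⟨C, hC⟩ := (L.subgroupOf M).exists_right_complement'_of_coprime hcop
    have hCcard : Nat.card C = Nat.card B := by rw [hMB, hC.symm.index_eq_card]
    have hC1 : C ≠ ⊥ := fun e => hB1 (Subgroup.card_eq_one.mp (by rw [← hCcard, e, Subgroup.card_bot]))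
    obtain ⟨hCF, hCK⟩ := frobenius hNMM hLM' (fun r hr hd => hBπ r hr (hCcard ▸ hd))
      (fun e => hL1 (by
        have := (Subgroup.subgroupOf_eq_bot).mp e
        rwa [disjoint_iff, inf_eq_left.mpr hLM] at this)) hC1 hC
    refine ⟨L, M, inferInstance, inferInstance, hlt, ⟨C, hCF, hCK⟩, ?_⟩
    rw [hMmap]
    -- the quotient
    have hBn : B.Normal := inferInstance
    have hQB : Nontrivial ((G ⧸ L) ⧸ B) := by
      rw [← not_subsingleton_iff_nontrivial, QuotientGroup.subsingleton_iff]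
      exact hBtop
    have hcoreB : ∀ T : Subgroup ((G ⧸ L) ⧸ B), T.Normal → PiSub πᶜ T → T = ⊥ := fun T hT hTπ => by
      have h1 := piCore_maximal (hT.comap (QuotientGroup.mk' B)) (piSub_comap hBπ hTπ)
      rw [← Subgroup.map_comap_eq_self_of_surjective (QuotientGroup.mk'_surjective B) T, Subgroup.map_eq_bot_iff,
        QuotientGroup.ker_mk']
      exact h1
    -- an element of prime order in `π`
    obtain ⟨x, a, ha, haπ, hxa⟩ : ∃ (x : G ⧸ L) (a : ℕ), a.Prime ∧ a ∈ π ∧ orderOf x = a := by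
      obtain ⟨p, T, hp, hTn, hTp, hT1⟩ := exists_normal_pGroup (G := (G ⧸ L) ⧸ B)
      have := Fact.mk hp
      have hpπ : p ∈ π := by_contra fun hpπ => hT1 (hcoreB T hTn (piSub_of_pGroup hp hTp hpπ))
      obtain ⟨t, ht, ht1⟩ : ∃ t ∈ T, t ≠ 1 := by
        by_contra hno
        push Not at hno
        exact hT1 ((Subgroup.eq_bot_iff_forall _).mpr hno)
      obtain ⟨g, rfl⟩ := QuotientGroup.mk_surjective t
      obtain ⟨k, hk⟩ := IsPGroup.iff_orderOf.mp hTp ⟨_, ht⟩
      rw [Subgroup.orderOf_mk] at hk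
      have hd : p ∣ orderOf g := by
        refine dvd_trans ?_ (orderOf_map_dvd (QuotientGroup.mk' B) g)
        show p ∣ orderOf (QuotientGroup.mk g : (G ⧸ L) ⧸ B)
        rw [hk]
        rcases k with _ | k
        · exact absurd (orderOf_eq_one_iff.mp (hk.trans (pow_zero p))) ht1
        · exact dvd_pow_self p k.succ_ne_zero
      exact ⟨_, p, hp, hpπ, orderOf_pow_orderOf_div (orderOf_pos g).ne' hd⟩
    have := Fact.mk ha
    have hxfix : B ⊓ Subgroup.centralizer {x} = ⊥ := by
      refine fpf hNM.symm hBπ (H := Subgroup.zpowers x) ?_ (Subgroup.mem_zpowers x)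
        (fun e => ha.one_lt.ne (by rw [← hxa, e, orderOf_one]))
      intro r hr hd
      rw [Nat.card_zpowers, hxa, Nat.prime_dvd_prime_iff_eq hr ha] at hd
      exact fun hc => hc (hd ▸ haπ)
    have hBnil : Group.IsNilpotent B := isNilpotent_of_fpf (p := a) (hxa ▸ pow_orderOf_eq_one x)
      ((Subgroup.normalizer_eq_top (H := B)).ge (Subgroup.mem_top x)) hxfix
    -- the middle factor is a Frobenius complement
    have hθ : Function.Injective (((φ.comp M.subtype).comp C.subtype)) :=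
      (injective_iff_map_eq_one _).mpr fun c hc => by
        have h1 : (c : M) ∈ L.subgroupOf M ⊓ C := ⟨(QuotientGroup.eq_one_iff ((c : M) : G)).mp hc, c.2⟩
        rw [hC.disjoint.eq_bot, Subgroup.mem_bot] at h1
        exact Subtype.ext h1
    let θ : C →* B := ((φ.comp M.subtype).comp C.subtype).codRestrict B fun c => (c : M).2
    have hθb : Function.Bijective θ := (Nat.bijective_iff_injective_and_card θ).mpr
      ⟨fun u v huv => hθ (congrArg Subtype.val huv), hCcard⟩
    let e : C ≃* B := MulEquiv.ofBijective θ hθb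
    have hfpfB := (Zas.hasFpf_of_complement hCF).of_injective e.symm.toMonoidHom e.symm.injective
    -- a normal subgroup of prime order
    obtain ⟨r, hr, hrd⟩ := Nat.exists_prime_and_dvd (fun e1 : Nat.card B = 1 => hB1 (Subgroup.card_eq_one.mp e1))
    have := Fact.mk hr
    obtain ⟨z, hz⟩ := exists_prime_orderOf_dvd_card' (G := B) r hrd
    have hz1 : (z : G ⧸ L) ≠ 1 := fun e1 => by
      rw [← Subgroup.orderOf_coe, e1, orderOf_one] at hz
      exact hr.one_lt.ne hz
    have hzn : ∀ g : G ⧸ L, g * (z : G ⧸ L) * g⁻¹ ∈ Subgroup.zpowers (z : G ⧸ L) := by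
      intro g
      set w : B := ⟨g * z * g⁻¹, hBn.conj_mem _ z.2 g⟩
      have hw : orderOf w = r := by
        rw [← Subgroup.orderOf_coe]
        show orderOf (MulAut.conj g (z : G ⧸ L)) = r
        rw [MulEquiv.orderOf_eq, Subgroup.orderOf_coe, hz]
      by_cases hr2 : r = 2
      · subst hr2
        exact ⟨1, by
          show (z : G ⧸ L) ^ (1 : ℤ) = _
          rw [zpow_one]
          exact (congrArg Subtype.val ((hfpfB.involution hz).2 w hw)).symm⟩
      · obtain ⟨R, hR⟩ := (IsPGroup.of_card (p := r) (n := 1) (show Nat.card (Subgroup.zpowers z) = r ^ 1 by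
          rw [Nat.card_zpowers, hz, pow_one])).exists_le_sylow
        obtain ⟨R', hR'⟩ := (IsPGroup.of_card (p := r) (n := 1) (show Nat.card (Subgroup.zpowers w) = r ^ 1 by
          rw [Nat.card_zpowers, hw, pow_one])).exists_le_sylow
        have hall : ∀ (q : ℕ) (_ : Fact q.Prime) (Q : Sylow q B), (Q : Subgroup B).Normal :=
          ((Group.isNilpotent_of_finite_tfae (G := B)).out 0 3).mp hBnil
        have := (Sylow.unique_of_normal R (hall r ‹_› R)).instSubsingleton
        rw [Subsingleton.elim R' R] at hR'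
        obtain ⟨k, hk⟩ := Transfer.RankOneCyclic.mem_zpowers_of_pow_eq_one (p := r) (hfpfB.sylow_cyclic hr2 R)
          (hR (Subgroup.mem_zpowers z)) hz (hR' (Subgroup.mem_zpowers w)) (hw ▸ pow_orderOf_eq_one w)
        exact ⟨k, congrArg Subtype.val hk⟩
    set Z := Subgroup.zpowers (z : G ⧸ L)
    have hZn : Z.Normal := ⟨fun u hu g => by
      obtain ⟨k, rfl⟩ := hu
      show MulAut.conj g _ ∈ Z
      rw [map_zpow]
      exact zpow_mem (hzn g) k⟩
    let ψ := MulAut.conjNormal (H := Z)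
    have hker : ψ.ker ≤ B := piCore_maximal inferInstance fun q hq hd hqπ => by
      have := Fact.mk hq
      obtain ⟨t, ht⟩ := exists_prime_orderOf_dvd_card' (G := ψ.ker) q hd
      rw [← Subgroup.orderOf_coe] at ht
      have h2 := DFunLike.congr_fun (show ψ (t : G ⧸ L) = 1 from t.2) (⟨z, Subgroup.mem_zpowers _⟩ : Z)
      have h3 : Commute (t : G ⧸ L) (z : G ⧸ L) := mul_inv_eq_iff_eq_mul.mp (congrArg Subtype.val h2)
      exact hNM.not_commute (ht.symm ▸ hq) (by rw [Subgroup.orderOf_coe, hz]; exact hr) (ht.symm ▸ hqπ)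
        (by rw [Subgroup.orderOf_coe, hz]; exact hBπ r hr hrd) h3
    have hcomm : ∀ u v : (G ⧸ L) ⧸ B, u * v = v * u := by
      intro u v
      obtain ⟨u, rfl⟩ := QuotientGroup.mk_surjective u
      obtain ⟨v, rfl⟩ := QuotientGroup.mk_surjective v
      rw [← QuotientGroup.mk_mul, ← QuotientGroup.mk_mul, QuotientGroup.eq]
      refine hker (MonoidHom.mem_ker.mpr ?_)
      have hZc : IsCyclic Z := inferInstance
      have hA : ∀ f g : MulAut Z, f * g = g * f := fun f g => MulEquiv.ext fun w => by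
        obtain ⟨⟨c, hc⟩, hgen⟩ := hZc.exists_generator
        obtain ⟨i, hi⟩ := hgen (f ⟨c, hc⟩)
        obtain ⟨j, hj⟩ := hgen (g ⟨c, hc⟩)
        obtain ⟨k, rfl⟩ := hgen w
        simp only [MulAut.mul_apply, map_zpow]
        rw [← hi, ← hj]
        simp only [map_zpow, ← hi, ← hj, ← zpow_mul]
        congr 1
        ring
      rw [map_mul, map_inv, map_mul, map_mul, hA (ψ v) (ψ u), inv_mul_cancel]
    have hDπ : PiSub π (⊤ : Subgroup ((G ⧸ L) ⧸ B)) := by
      intro q hq hd
      by_contra hqπ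
      have := Fact.mk hq
      rw [Subgroup.card_top] at hd
      obtain ⟨y, hy⟩ := exists_prime_orderOf_dvd_card' (G := (G ⧸ L) ⧸ B) q hd
      have hyn : (Subgroup.zpowers y).Normal := ⟨fun u hu g => by
        rw [hcomm g u, mul_inv_cancel_right]; exact hu⟩
      have h1 := hcoreB _ hyn fun s hs hd' => by
        rw [Nat.card_zpowers, hy, Nat.prime_dvd_prime_iff_eq hs hq] at hd'
        exact hd' ▸ hqπ
      rw [Subgroup.zpowers_eq_bot] at h1
      rw [h1, orderOf_one] at hy
      exact hq.one_lt.ne hy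
    have hcopB : (Nat.card B).Coprime B.index := by
      rw [Subgroup.index_eq_card, ← Subgroup.card_top (G := (G ⧸ L) ⧸ B)]
      exact Nat.coprime_of_dvd fun s hs h1 h2 => hBπ s hs h1 (hDπ s hs h2)
    obtain ⟨D, hD⟩ := B.exists_right_complement'_of_coprime hcopB
    have hDcard : Nat.card D = Nat.card ((G ⧸ L) ⧸ B) := by rw [← hD.symm.index_eq_card, Subgroup.index_eq_card]
    refine ⟨D, frobenius hNM.symm hBπ (fun q hq hd => ?_) hB1 (fun e1 => ?_) hD⟩
    · exact fun hc => hc (hDπ q hq (by rw [Subgroup.card_top, ← hDcard]; exact hd))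
    · rw [e1, Subgroup.card_bot] at hDcard
      exact absurd hDcard.symm (Finite.one_lt_card (α := (G ⧸ L) ⧸ B)).ne'

end Cfsg.Agent.Grp.Graph
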