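import Mathlib
import Cfsg.Agent.Lib.Grp.SchurZassenhaus
import Cfsg.Agent.Lib.Grp.PSolvable

/-!
Hall's theorem on `p`-complements of `p`-soluble groups: existence, domination, conjugacy.
-/

namespace Cfsg.Agent.Grp.PCompl

open scoped Pointwise
open Subgroup

universe u

variable {p : ℕ}

/-- A subgroup of order prime to `p` and `p`-power index. -/
def IsCompl' (p : ℕ) {G : Type*} [Group G] (H : Subgroup G) : Prop :=
  (Nat.card H).Coprime p ∧ ∃ n : ℕ, H.index = p ^ n

theorem card_eq {G : Type*} [Group G] [Finite G] {H K : Subgroup G} (hH : IsCompl' p H) (hK : IsCompl' p K) :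
    Nat.card H = Nat.card K := by
  obtain ⟨a, ha⟩ := hH.2
  obtain ⟨b, hb⟩ := hK.2
  have e1 := H.card_mul_index
  have e2 := K.card_mul_index
  refine Nat.dvd_antisymm ((hH.1.pow_right b).dvd_of_dvd_mul_right ⟨p ^ a, ?_⟩)
    ((hK.1.pow_right a).dvd_of_dvd_mul_right ⟨p ^ b, ?_⟩)
  · rw [← ha, ← hb, e1, e2]
  · rw [← ha, ← hb, e1, e2]

theorem smul {G : Type*} [Group G] {H : Subgroup G} (hH : IsCompl' p H) (g : G) :
    IsCompl' p (MulAut.conj g • H) := by
  refine ⟨by rw [card_conj_smul]; exact hH.1, ?_⟩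
  rw [show (MulAut.conj g • H).index = H.index from
    Subgroup.index_map_equiv H (MulAut.conj g)]
  exact hH.2

theorem aux [Fact p.Prime] : ∀ (n : ℕ) (G : Type u) [Group G] [Finite G], Nat.card G = n → Cfsg.IsPSolvable p G →
    ∃ H : Subgroup G, IsCompl' p H ∧
      ∀ U : Subgroup G, (Nat.card U).Coprime p → ∃ g : G, U ≤ MulAut.conj g • H := by
  intro n
  induction n using Nat.strong_induction_on with
  | _ n ih =>
  intro G _ _ hn hG
  by_cases h1 : (⊤ : Subgroup G) = ⊥
  · refine ⟨⊥, ⟨by simp, 0, ?_⟩, fun U _ => ⟨1, ?_⟩⟩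
    · rw [pow_zero, ← h1, Subgroup.index_top]
    · rw [map_one, one_smul, ← h1]; exact le_top
  have key : ∀ (N : Subgroup G) [N.Normal], N ≠ ⊥ → ∃ L : Subgroup G, N ≤ L ∧ (N.relIndex L).Coprime p ∧
      (∃ n : ℕ, L.index = p ^ n) ∧ ∀ U : Subgroup G, (Nat.card U).Coprime p → ∃ g : G, U ≤ MulAut.conj g • L := by
    intro N _ hN
    obtain ⟨H, ⟨hH, m, hm⟩, hdom⟩ := ih _ (hn ▸ card_quotient_lt hN) (G ⧸ N) rfl
      (isPSolvable_map hG _ (QuotientGroup.mk'_surjective N))
    refine ⟨H.comap (QuotientGroup.mk' N), QuotientGroup.le_comap_mk' N H, ?_, ⟨m, ?_⟩, fun U hU => ?_⟩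
    · have h := Subgroup.relIndex_comap ⊥ (QuotientGroup.mk' N) (H.comap (QuotientGroup.mk' N))
      rw [MonoidHom.comap_bot, QuotientGroup.ker_mk',
        Subgroup.map_comap_eq_self_of_surjective (QuotientGroup.mk'_surjective N), Subgroup.relIndex_bot_left] at h
      rwa [h]
    · rw [H.index_comap_of_surjective (QuotientGroup.mk'_surjective N), hm]
    · obtain ⟨x, hx⟩ := hdom (U.map (QuotientGroup.mk' N)) (hU.coprime_dvd_left (U.card_map_dvd _))
      obtain ⟨g, rfl⟩ := QuotientGroup.mk'_surjective N x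
      refine ⟨g, fun u hu => ?_⟩
      rw [mem_smul_conj, Subgroup.mem_comap, map_mul, map_mul, map_inv]
      exact mem_smul_conj.mp (hx (Subgroup.mem_map_of_mem _ hu))
  by_cases h2 : Cfsg.pPrimeCore p G = ⊥
  swap
  · have := pPrimeCore_isNormal (p := p) (G := G)
    obtain ⟨L, hNL, hc, hi, hd⟩ := key _ h2
    refine ⟨L, ⟨?_, hi⟩, hd⟩
    rw [← card_mul_relIndex hNL]
    exact (pPrimeCore_coprime (p := p) (G := G)).mul_left hc
  have := pCore_isNormal (p := p) (G := G)
  have h3 : Cfsg.pCore p G ≠ ⊥ := fun h => h1 (isPSolvable_eq_top_of_cores hG h h2)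
  obtain ⟨L, hNL, hc, ⟨m, hm⟩, hd⟩ := key _ h3
  set N := Cfsg.pCore p G
  obtain ⟨a, ha⟩ := IsPGroup.iff_card.mp (pCore_isPGroup (p := p) (G := G))
  have hcN : Nat.card (N.subgroupOf L) = p ^ a := by
    rw [Nat.card_congr (Subgroup.subgroupOfEquivOfLe hNL).toEquiv]; exact ha
  obtain ⟨K, hK⟩ := Subgroup.exists_right_complement'_of_coprime (N := N.subgroupOf L)
    (show (Nat.card (N.subgroupOf L)).Coprime (N.subgroupOf L).index by
      rw [hcN]; exact (Nat.Coprime.symm hc).pow_left a)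
  set H := K.map L.subtype
  have hHL : H ≤ L := Subgroup.map_subtype_le _
  have hHc : Nat.card H = N.relIndex L := by
    rw [Subgroup.card_map_of_injective L.subtype_injective, ← hK.symm.index_eq_card]; rfl
  have hsup : N ⊔ H = L := by
    have h := congrArg (Subgroup.map L.subtype) hK.sup_eq_top
    rwa [Subgroup.map_sup, Subgroup.map_subgroupOf_eq_of_le hNL, ← MonoidHom.range_eq_map,
      Subgroup.range_subtype] at h
  refine ⟨H, ⟨hHc ▸ hc, a + m, ?_⟩, fun U hU => ?_⟩
  · refine Nat.eq_of_mul_eq_mul_left (Nat.card_pos (α := H)) ?_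
    rw [H.card_mul_index, ← L.card_mul_index, hm, ← card_mul_relIndex hNL, ha, hHc, pow_add]
    ring
  · obtain ⟨g, hg⟩ := hd U hU
    set U' := MulAut.conj g⁻¹ • U
    have hU'L : U' ≤ L := by
      rw [Subgroup.pointwise_smul_subset_iff, ← map_inv, inv_inv]; exact hg
    have hU' : (Nat.card U').Coprime p := by rw [card_conj_smul]; exact hU
    have hnorm : ∀ V : Subgroup G, V ≤ Subgroup.normalizer (N : Set G) := fun V => by
      rw [Subgroup.normalizer_eq_top]; exact le_top
    set M := (N ⊔ U') ⊓ H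
    have hNM : N ⊔ U' = N ⊔ M := by
      refine le_antisymm (fun x hx => ?_) (sup_le le_sup_left inf_le_left)
      have hxL : x ∈ N ⊔ H := hsup ▸ (sup_le hNL hU'L hx)
      obtain ⟨a, ha, b, hb, rfl⟩ := Subgroup.mem_sup_of_normal_left.mp hxL
      refine mul_mem (le_sup_left (b := M) ha) (le_sup_right (a := N) ⟨?_, hb⟩)
      simpa using mul_mem (inv_mem (le_sup_left (b := U') ha)) hx
    have hcop : ∀ V : Subgroup G, (Nat.card V).Coprime p → (Nat.card V).Coprime (Nat.card N) := fun V hV => by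
      rw [ha]; exact hV.pow_right a
    have hM : (Nat.card M).Coprime p := (hHc ▸ hc).coprime_dvd_left (Subgroup.card_dvd_of_le inf_le_right)
    have hcard : Nat.card U' = Nat.card M := by
      have e1 := card_sup_coprime (hnorm U') (hcop _ hU')
      have e2 := card_sup_coprime (hnorm M) (hcop _ hM)
      rw [sup_comm, hNM, sup_comm, e2] at e1
      exact (Nat.eq_of_mul_eq_mul_right Nat.card_pos e1).symm
    obtain ⟨k, -, hk⟩ := exists_conj_of_le_sup (hnorm M) (hNM ▸ le_sup_right) hcard (hcop _ hM).symm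
      (Or.inl (by have := (pCore_isPGroup (p := p) (G := G)).isNilpotent; infer_instance))
    refine ⟨g * k, ?_⟩
    have h4 : U' ≤ MulAut.conj k • H := hk ▸ Subgroup.pointwise_smul_le_pointwise_smul_iff.mpr inf_le_right
    rw [map_mul, mul_smul]
    rwa [Subgroup.pointwise_smul_subset_iff, ← map_inv, inv_inv] at h4

/-- Existence, domination and conjugacy. -/
theorem exists_compl [Fact p.Prime] {G : Type u} [Group G] [Finite G] (hG : Cfsg.IsPSolvable p G) :
    ∃ H : Subgroup G, IsCompl' p H := (aux _ G rfl hG).imp fun _ h => h.1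

theorem le_conj [Fact p.Prime] {G : Type u} [Group G] [Finite G] (hG : Cfsg.IsPSolvable p G) {H U : Subgroup G}
    (hH : IsCompl' p H) (hU : (Nat.card U).Coprime p) : ∃ g : G, U ≤ MulAut.conj g • H := by
  obtain ⟨H₀, h₀, hd⟩ := aux _ G rfl hG
  obtain ⟨a, ha⟩ := hd H hH.1
  obtain ⟨b, hb⟩ := hd U hU
  have e : H = MulAut.conj a • H₀ :=
    Subgroup.eq_of_le_of_card_ge ha (by rw [card_conj_smul]; exact (card_eq h₀ hH).le)
  refine ⟨b * a⁻¹, ?_⟩
  rwa [e, conj_smul_conj_smul, inv_mul_cancel_right]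

theorem conj_eq [Fact p.Prime] {G : Type u} [Group G] [Finite G] (hG : Cfsg.IsPSolvable p G) {H K : Subgroup G}
    (hH : IsCompl' p H) (hK : IsCompl' p K) : ∃ g : G, MulAut.conj g • H = K := by
  obtain ⟨g, hg⟩ := le_conj hG hH hK.1
  exact ⟨g, (Subgroup.eq_of_le_of_card_ge hg (by rw [card_conj_smul]; exact (card_eq hH hK).le)).symm⟩

end Cfsg.Agent.Grp.PCompl
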