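import Mathlib
import Cfsg.Agent.Lib.Grp.Frattini

/-!
Elementary facts about small subgroups of finite p-groups.
-/

namespace Cfsg.Agent.Grp.PSmall

open Subgroup

variable {G : Type*} [Group G] [Finite G] {p : ℕ} [hp : Fact p.Prime]

/-- A normal subgroup of order `p` of a `p`-group is central. -/
theorem le_center_of_card (hG : IsPGroup p G) (N : Subgroup G) [N.Normal] (hN : Nat.card N = p) :
    N ≤ center G := by
  haveI := hG.isNilpotent
  have h1 := Subgroup.card_dvd_of_le (inf_le_left : N ⊓ center G ≤ N)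
  rw [hN] at h1
  rcases (Nat.dvd_prime hp.out).mp h1 with e | e
  · have hne : N ≠ ⊥ := fun e' => by rw [e', Subgroup.card_bot] at hN; exact hp.out.ne_one hN.symm
    exact absurd (Subgroup.card_eq_one.mp e) (Grp.inf_center_ne_bot N hne)
  · exact inf_eq_left.mp (Subgroup.eq_of_le_of_card_ge inf_le_left (by rw [e, hN]))

/-- An element commuting with everything modulo a central subgroup of order `p` has centralizer of
index at most `p`. -/
theorem centralizer_index_le (Z : Subgroup G) (hZ : Z ≤ center G) (hZc : Nat.card Z = p) (e : G)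
    (he : ∀ s : G, s * e * s⁻¹ * e⁻¹ ∈ Z) : (centralizer ({e} : Set G)).index ≤ p := by
  let ψ : G →* Z := MonoidHom.mk' (fun s => ⟨s * e * s⁻¹ * e⁻¹, he s⟩) (fun a b => Subtype.ext (by
    show a * b * e * (a * b)⁻¹ * e⁻¹ = (a * e * a⁻¹ * e⁻¹) * (b * e * b⁻¹ * e⁻¹)
    calc a * b * e * (a * b)⁻¹ * e⁻¹ = a * (b * e * b⁻¹ * e⁻¹) * (e * a⁻¹ * e⁻¹) := by group
      _ = (b * e * b⁻¹ * e⁻¹) * a * (e * a⁻¹ * e⁻¹) := by rw [mem_center_iff.mp (hZ (he b)) a]
      _ = (b * e * b⁻¹ * e⁻¹) * (a * e * a⁻¹ * e⁻¹) := by group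
      _ = _ := (mem_center_iff.mp (hZ (he b)) _).symm))
  have hker : ψ.ker = centralizer ({e} : Set G) := by
    ext s
    rw [MonoidHom.mem_ker, mem_centralizer_singleton_iff]
    show (⟨_, _⟩ : Z) = 1 ↔ _
    rw [Subtype.ext_iff]
    show s * e * s⁻¹ * e⁻¹ = 1 ↔ _
    rw [mul_inv_eq_one, mul_inv_eq_iff_eq_mul]
  rw [← hker, Subgroup.index_ker, ← hZc]
  exact Subgroup.card_le_card_group _

/-- A nontrivial normal subgroup of `G ⧸ Z` yields an element of it central modulo `Z`. -/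
theorem exists_central_mod (hG : IsPGroup p G) (Z K : Subgroup G) [Z.Normal] [K.Normal]
    (h : ¬ K ≤ Z) : ∃ e ∈ K, e ∉ Z ∧ ∀ s : G, s * e * s⁻¹ * e⁻¹ ∈ Z := by
  haveI := hG.isNilpotent
  set f := QuotientGroup.mk' Z
  have hne : K.map f ≠ ⊥ := fun e => h (by
    rw [Subgroup.map_eq_bot_iff, QuotientGroup.ker_mk'] at e; exact e)
  haveI : (K.map f).Normal := Subgroup.Normal.map ‹_› f (QuotientGroup.mk'_surjective Z)
  have hinf := Grp.inf_center_ne_bot (K.map f) hne
  obtain ⟨ē, ⟨⟨e, heK, rfl⟩, hec⟩, hne1⟩ : ∃ ē ∈ K.map f ⊓ center (G ⧸ Z), ē ≠ 1 := by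
    by_contra hc
    push Not at hc
    exact hinf ((Subgroup.eq_bot_iff_forall _).mpr hc)
  refine ⟨e, heK, fun h => hne1 ((QuotientGroup.eq_one_iff e).mpr h), fun s => ?_⟩
  rw [← QuotientGroup.eq_one_iff]
  show f (s * e * s⁻¹ * e⁻¹) = 1
  rw [map_mul, map_mul, map_mul, mem_center_iff.mp hec (f s), map_inv, map_inv]
  group

/-- Two distinct subgroups of order `p`, one of them central, span a subgroup of order `p²`. -/
theorem card_sup_zpowers {z e : G} (hz : orderOf z = p) (he : orderOf e = p) (hzc : z ∈ center G)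
    (hne : e ∉ zpowers z) : Nat.card ↥(zpowers z ⊔ zpowers e) = p ^ 2 := by
  haveI : (zpowers z).Normal := ⟨fun n hn g => by
    rw [mem_center_iff.mp (zpowers_le.mpr hzc hn) g, mul_inv_cancel_right]; exact hn⟩
  have h := Grp.card_sup_mul_card_inf_normal (H := zpowers e) (N := zpowers z)
  have h1 := Subgroup.card_dvd_of_le (inf_le_left : zpowers e ⊓ zpowers z ≤ zpowers e)
  rw [Nat.card_zpowers, he] at h1
  rcases (Nat.dvd_prime hp.out).mp h1 with e1 | e1
  · rw [e1, mul_one, Nat.card_zpowers, Nat.card_zpowers, hz, he, sup_comm] at h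
    rw [h, sq]
  · exact absurd ((inf_eq_left.mp (Subgroup.eq_of_le_of_card_ge inf_le_left
      (by rw [e1, Nat.card_zpowers, he]))) (mem_zpowers e)) hne

/-- Elements of a commuting set generate a commutative subgroup. -/
theorem commute_sup_zpowers {z e : G} (hzc : z ∈ center G) :
    IsMulCommutative ↥(zpowers z ⊔ zpowers e) := by
  refine ⟨⟨fun a b => Subtype.ext ?_⟩⟩
  have hc : ∀ w ∈ zpowers z ⊔ zpowers e, w ∈ centralizer ({e} : Set G) := fun w hw =>
    (sup_le (zpowers_le.mpr (center_le_centralizer _ hzc))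
      (zpowers_le.mpr (mem_centralizer_singleton_iff.mpr rfl)) : _ ≤ centralizer ({e} : Set G)) hw
  have hd : ∀ u ∈ zpowers z ⊔ zpowers e, zpowers z ⊔ zpowers e ≤ centralizer ({u} : Set G) := fun u hu =>
    sup_le (zpowers_le.mpr (center_le_centralizer _ hzc))
      (zpowers_le.mpr (mem_centralizer_singleton_iff.mpr (mem_centralizer_singleton_iff.mp (hc u hu)).symm))
  exact mem_centralizer_singleton_iff.mp (hd _ b.2 a.2)

end Cfsg.Agent.Grp.PSmall
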