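import Mathlib
import Cfsg.Prelude.Def_Transfer
import Cfsg.Prelude.Def_CaseTheorems
import Cfsg.Agent.Lib.Invol.Critical
import Cfsg.Agent.Lib.Transfer.MaxClass
import Cfsg.Agent.Lib.Grp.PGroupSmall

/-!
Philip Hall's theorem on `p`-groups of symplectic type: a critical subgroup is the central product
of an extraspecial group and a cyclic group, and the centralizer of the extraspecial factor is
cyclic or a 2-group of maximal class.
-/

set_option autoImplicit false
set_option linter.style.haveILetI false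

namespace Cfsg.Agent.Grp.Symplectic

open scoped commutatorElement
open Subgroup

variable {G : Type*} [Group G]

theorem comm_pow_eq_one {a b : G} {n : ℕ} (hc : Commute ⁅b, a⁆ a) (h : Commute (a ^ n) b) :
    ⁅b, a⁆ ^ n = 1 := by
  have e : b * a * b⁻¹ = ⁅b, a⁆ * a := by simp [commutatorElement_def, mul_assoc]
  have h1 : (b * a * b⁻¹) ^ n = a ^ n := by rw [conj_pow, ← h.eq, mul_inv_cancel_right]
  rw [e, hc.mul_pow] at h1
  exact mul_eq_right.mp h1

theorem powmem (N : Subgroup G) [N.Normal] {a b : G} {n : ℕ} (h : ⁅a, b⁆ ∈ N) (ha : a ^ n ∈ N)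
    (hb : b ^ n ∈ N) : (a * b) ^ n ∈ N := by
  rw [← QuotientGroup.eq_one_iff] at h ha hb ⊢
  change QuotientGroup.mk' N _ = 1 at h ha hb ⊢
  rw [map_commutatorElement, commutatorElement_eq_one_iff_mul_comm] at h
  rw [map_pow, map_mul, (show Commute _ _ from h).mul_pow, ← map_pow, ← map_pow, ha, hb, one_mul]

theorem mem_line {p l : ℕ} (hp : 0 < p) {a w : G} (ha : orderOf a = p ^ l) (hw : w ∈ zpowers a)
    (j : ℕ) (hwp : w ^ (p ^ j) = 1) : w ∈ zpowers (a ^ (p ^ (l - j))) := by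
  obtain ⟨i, rfl⟩ := mem_zpowers_iff.mp hw
  rcases le_or_gt l j with h | h
  · rw [Nat.sub_eq_zero_of_le h, pow_zero, pow_one]; exact hw
  rw [← zpow_natCast (a ^ i), ← zpow_mul, ← orderOf_dvd_iff_zpow_eq_one, ha] at hwp
  push_cast at hwp
  obtain ⟨c, hc⟩ : ((p : ℤ) ^ (l - j)) ∣ i := by
    refine Int.dvd_of_mul_dvd_mul_right (pow_ne_zero j (by exact_mod_cast hp.ne' : (p : ℤ) ≠ 0)) ?_
    rwa [← pow_add, Nat.sub_add_cancel h.le]
  refine mem_zpowers_iff.mpr ⟨c, ?_⟩
  rw [hc, ← zpow_natCast, ← zpow_mul]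
  push_cast
  rfl

variable [Finite G] {p : ℕ} [hp : Fact p.Prime]

omit [Finite G] in
theorem prime_dvd_or_mem {a : G} {i : ℤ} (hP : IsPGroup p G) (h : ¬ (p : ℤ) ∣ i) :
    a ∈ zpowers (a ^ i) := by
  obtain ⟨k, hk⟩ := hP.exists_orderOf_eq_pow a
  have hcop : IsCoprime ((p : ℤ) ^ k) i :=
    IsCoprime.pow_left ((Nat.prime_iff_prime_int.mp hp.out).coprime_iff_not_dvd.mpr h)
  obtain ⟨x, y, hxy⟩ := hcop
  refine mem_zpowers_iff.mpr ⟨y, ?_⟩
  have h1 : a ^ ((p : ℤ) ^ k) = 1 := by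
    rw [← Nat.cast_pow, zpow_natCast, ← hk, pow_orderOf_eq_one]
  calc (a ^ i) ^ y = (a ^ ((p : ℤ) ^ k)) ^ x * (a ^ i) ^ y := by rw [h1, one_zpow, one_mul]
    _ = a := by rw [← zpow_mul, ← zpow_mul, ← zpow_add, mul_comm _ x, mul_comm i y, hxy, zpow_one]

/-- A commutator pairing into a group of order `p` bounds the index of a centralizer. -/
theorem relBound (hP : IsPGroup p G) (T : Subgroup G) (hT : T ≤ center G) (hTc : Nat.card T ≤ p)
    (S : Subgroup G) : ∀ (n : ℕ) (Z0 X : Subgroup G), Z0.relIndex S = n → Z0 ≤ S →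
      X ≤ centralizer (Z0 : Set G) → (∀ x ∈ X, ∀ s ∈ S, ⁅x, s⁆ ∈ T) →
      (centralizer (S : Set G)).relIndex X ≤ n := by
  intro n
  induction n using Nat.strong_induction_on with
  | _ n ih =>
  intro Z0 X hn h0 hX h
  by_cases hS : S ≤ Z0
  · rw [← hn, relIndex_eq_one.mpr hS, relIndex_eq_one.mpr (hX.trans (centralizer_le hS))]
  obtain ⟨s, hsS, hs⟩ := SetLike.not_le_iff_exists.mp hS
  set Z1 := Z0 ⊔ zpowers s with hZ1
  have hZ01 : Z0 ≤ Z1 := le_sup_left
  have hZ1S : Z1 ≤ S := sup_le h0 (zpowers_le.mpr hsS)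
  have h2 : p ≤ Z0.relIndex Z1 := by
    have hne : Z0.relIndex Z1 ≠ 1 := fun e =>
      hs (relIndex_eq_one.mp e (mem_sup_right (mem_zpowers s)))
    obtain ⟨j, hj⟩ := (hP.to_subgroup Z1).index (Z0.subgroupOf Z1)
    change Z0.relIndex Z1 = p ^ j at hj
    rw [hj] at hne ⊢
    exact Nat.le_self_pow (fun e => hne (by rw [e, pow_zero])) p
  have hsplit : Z0.relIndex Z1 * Z1.relIndex S = n := hn ▸ relIndex_mul_relIndex Z0 Z1 S hZ01 hZ1S
  have hpos : 0 < Z1.relIndex S := Nat.pos_of_ne_zero Subgroup.index_ne_zero_of_finite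
  set X1 := X ⊓ centralizer {s} with hX1
  have hX1Z : X1 ≤ centralizer (Z1 : Set G) := by
    rw [le_centralizer_iff, hZ1]
    refine sup_le ((le_centralizer_iff.mp hX).trans (centralizer_le inf_le_left)) ?_
    rw [zpowers_le]
    exact mem_centralizer_iff.mpr fun x hx => (mem_centralizer_singleton_iff.mp hx.2)
  have hlt : Z1.relIndex S < n := by
    rw [← hsplit]
    exact lt_mul_of_one_lt_left hpos (hp.out.one_lt.trans_le h2)
  have hA := ih _ hlt Z1 X1 rfl hZ1S hX1Z fun x hx => h x hx.1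
  let ψ : X →* T := MonoidHom.mk' (fun x => ⟨⁅(x : G), s⁆, h x x.2 s hsS⟩) fun x y => Subtype.ext (by
    show ⁅(x : G) * y, s⁆ = ⁅(x : G), s⁆ * ⁅(y : G), s⁆
    have hc := mem_center_iff.mp (hT (h y y.2 s hsS)) (x : G)
    rw [commutatorElement_mul_left_eq_conj_mul, hc, mul_inv_cancel_right]
    exact mem_center_iff.mp (hT (h x x.2 s hsS)) _)
  have hker : ψ.ker = X1.subgroupOf X := by
    ext x
    rw [MonoidHom.mem_ker, mem_subgroupOf, Subtype.ext_iff]
    show ⁅(x : G), s⁆ = 1 ↔ _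
    rw [commutatorElement_eq_one_iff_mul_comm]
    exact ⟨fun e => ⟨x.2, mem_centralizer_singleton_iff.mpr e⟩,
      fun e => mem_centralizer_singleton_iff.mp e.2⟩
  have hB : X1.relIndex X ≤ p := by
    rw [relIndex, ← hker, index_ker]
    exact (card_le_card_group _).trans hTc
  have hle : centralizer (S : Set G) ⊓ X ≤ X1 :=
    le_inf inf_le_right (inf_le_left.trans (centralizer_le (Set.singleton_subset_iff.mpr hsS)))
  have e1 : (centralizer (S : Set G)).relIndex X1 = (centralizer (S : Set G) ⊓ X).relIndex X1 := by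
    rw [← inf_relIndex_right, ← inf_relIndex_right (centralizer (S : Set G) ⊓ X) X1, inf_assoc,
      inf_eq_right.mpr (inf_le_left : X1 ≤ X)]
  rw [← inf_relIndex_right, ← relIndex_mul_relIndex _ X1 X hle inf_le_left, ← e1]
  calc _ ≤ Z1.relIndex S * p := Nat.mul_le_mul hA hB
    _ ≤ n := by rw [← hsplit, mul_comm]; exact Nat.mul_le_mul_right _ h2

omit [Finite G] in
theorem card_eq_relIndex (H K : Subgroup G) :
    Nat.card (H ⊓ K : Subgroup G) * H.relIndex K = Nat.card K := by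
  rw [← inf_relIndex_right]; exact card_mul_relIndex inf_le_right

/-- Sufficient conditions for being extraspecial. -/
theorem mkExtra (hP : IsPGroup p G) (X T : Subgroup G) (hT : Nat.card T = p) (hTz : T ≤ center G)
    (hTX : T ≤ X) (hne : ¬ X ≤ T) (hZ : X ⊓ centralizer (X : Set G) ≤ T)
    (hc : ∀ a ∈ X, ∀ b ∈ X, ⁅a, b⁆ ∈ T) (hpow : ∀ a ∈ X, a ^ p ∈ T) :
    Cfsg.IsExtraspecial p ↥X := by
  haveI hTn : T.Normal := ⟨fun w hw g => by
    rw [mem_center_iff.mp (hTz hw) g, mul_inv_cancel_right]; exact hw⟩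
  have hcen : center X = T.subgroupOf X := by
    refine le_antisymm (fun x hx => ?_) (fun x hx => ?_)
    · exact hZ ⟨x.2, mem_centralizer_iff.mpr fun y hy =>
        congrArg Subtype.val (mem_center_iff.mp hx ⟨y, hy⟩)⟩
    · exact mem_center_iff.mpr fun y => Subtype.ext (mem_center_iff.mp (hTz hx) y)
  have hcard : Nat.card (center X) = p := by
    rw [hcen, Nat.card_congr (subgroupOfEquivOfLe hTX).toEquiv, hT]
  have hcom : commutator X ≤ center X := by
    rw [hcen, commutator_def, Subgroup.commutator_le]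
    intro a _ b _
    exact hc a a.2 b b.2
  have hcomne : commutator X ≠ ⊥ := fun e => hne fun x hx => hZ ⟨hx, mem_centralizer_iff.mpr fun y hy => by
    have : ⁅(⟨y, hy⟩ : X), ⟨x, hx⟩⁆ ∈ commutator X :=
      commutator_mem_commutator (mem_top _) (mem_top _)
    rw [e, mem_bot, commutatorElement_eq_one_iff_mul_comm] at this
    exact congrArg Subtype.val this⟩
  have hcomeq : commutator X = center X := by
    refine eq_of_le_of_card_ge hcom (le_of_eq ?_)
    have h1 := card_dvd_of_le hcom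
    rw [hcard] at h1 ⊢
    exact (((Nat.dvd_prime hp.out).mp h1).resolve_left fun e => hcomne (card_eq_one.mp e)).symm
  refine ⟨⟨hP.to_subgroup X, le_antisymm ?_ ?_, hcomeq⟩, hcard⟩
  · have hfr : frattini (↥X ⧸ center X) = ⊥ := by
      refine frattini_eq_bot_of_exponent hp.out (fun a b => ?_) fun a => ?_
      · obtain ⟨a, rfl⟩ := QuotientGroup.mk'_surjective _ a
        obtain ⟨b, rfl⟩ := QuotientGroup.mk'_surjective _ b
        rw [← commutatorElement_eq_one_iff_mul_comm, ← map_commutatorElement]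
        exact (QuotientGroup.eq_one_iff _).mpr (hcom (commutator_mem_commutator (mem_top _) (mem_top _)))
      · obtain ⟨a, rfl⟩ := QuotientGroup.mk'_surjective _ a
        rw [← map_pow]
        refine (QuotientGroup.eq_one_iff _).mpr ?_
        rw [hcen]; exact hpow a a.2
    have h2 : frattini X ≤ (frattini (↥X ⧸ center X)).comap (QuotientGroup.mk' (center X)) :=
      frattini_le_comap_frattini_of_surjective (QuotientGroup.mk'_surjective _)
    rwa [hfr, MonoidHom.comap_bot, QuotientGroup.ker_mk'] at h2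
  · exact hcomeq ▸ pGroup_commutator_le_frattini (hP.to_subgroup X)

theorem dvd_of_sq_sub_one {m : ℕ} {k : ℤ} (h : (2 : ℤ) ^ m ∣ k ^ 2 - 1) (hm : 1 ≤ m) :
    (2 : ℤ) ^ (m - 1) ∣ k - 1 ∨ (2 : ℤ) ^ (m - 1) ∣ k + 1 := by
  rcases Int.even_or_odd k with ⟨j, rfl⟩ | ⟨j, rfl⟩
  · obtain ⟨c, hc⟩ := dvd_trans (dvd_pow_self (2 : ℤ) (by omega : m ≠ 0)) h
    exact absurd hc (by ring_nf; omega)
  · obtain hm1 | ⟨l, rfl⟩ : m = 1 ∨ ∃ l, m = l + 2 := by
      rcases m with _ | _ | l
      · omega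
      · exact Or.inl rfl
      · exact Or.inr ⟨l, rfl⟩
    · subst hm1; simp
    · have h1 : (2 : ℤ) ^ l ∣ j * (j + 1) := by
        rw [show (2 * j + 1) ^ 2 - 1 = (j * (j + 1)) * 2 ^ 2 by ring, pow_add] at h
        exact Int.dvd_of_mul_dvd_mul_right (by norm_num) h
      have hpr : Prime (2 : ℤ) := Int.prime_two
      by_cases h2 : (2 : ℤ) ∣ j
      · left
        have h3 : ¬ (2 : ℤ) ∣ j + 1 := by omega
        rw [show 2 * j + 1 - 1 = 2 * j by ring, show l + 2 - 1 = l + 1 by omega, pow_succ']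
        exact mul_dvd_mul_left 2 (hpr.pow_dvd_of_dvd_mul_right l h3 h1)
      · right
        rw [show 2 * j + 1 + 1 = 2 * (j + 1) by ring, show l + 2 - 1 = l + 1 by omega, pow_succ']
        exact mul_dvd_mul_left 2 (hpr.pow_dvd_of_dvd_mul_left l h2 h1)

theorem dvd_of_pow_sub_one (hodd : p ≠ 2) {m : ℕ} {k : ℤ} (h : (p : ℤ) ^ m ∣ k ^ p - 1) (hm : 1 ≤ m) :
    (p : ℤ) ^ (m - 1) ∣ k - 1 := by
  have h1 : (p : ℤ) ∣ k - 1 := by
    have h2 := (dvd_pow_self (p : ℤ) (by omega : m ≠ 0)).trans h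
    rw [← ZMod.intCast_zmod_eq_zero_iff_dvd] at h2 ⊢
    push_cast at h2 ⊢
    rwa [ZMod.pow_card] at h2
  have hk : ¬ (p : ℤ) ∣ k := fun e => (Nat.prime_iff_prime_int.mp hp.out).not_dvd_one
    (by simpa using dvd_sub e h1)
  have h3 := Int.emultiplicity_pow_sub_pow hp.out (hp.out.odd_of_ne_two hodd) h1 hk p
  rw [one_pow] at h3
  refine pow_dvd_of_le_emultiplicity ?_
  have h4 := le_emultiplicity_of_pow_dvd h
  rw [h3, Nat.Prime.emultiplicity_self hp.out] at h4
  obtain ⟨l, rfl⟩ := Nat.exists_eq_add_of_le' hm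
  rw [Nat.cast_add, Nat.cast_one] at h4
  rw [Nat.add_sub_cancel]
  exact (ENat.add_le_add_iff_right ENat.one_ne_top).mp h4

/-- The centralizer of the extraspecial factor when it contains no element inducing an automorphism
of `⟨z⟩` congruent to the identity modulo the subgroup of order `p`. -/
theorem tail (hP : IsPGroup p G) (R : Subgroup G) (z : G) (m : ℕ) (hm : 3 ≤ m)
    (hz : orderOf z = p ^ m) (hzR : z ∈ R) (hn : ∀ r ∈ R, r * z * r⁻¹ ∈ zpowers z)
    (hR1 : ∀ r ∈ R, ⁅r, z⁆ ∈ zpowers (z ^ p ^ (m - 1)) → r ∈ zpowers z) :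
    IsCyclic R ∨ (p = 2 ∧ 16 ≤ Nat.card R ∧ ((∃ n : ℕ, Nonempty (↥R ≃* DihedralGroup n)) ∨
      (∃ n : ℕ, Nonempty (↥R ≃* QuaternionGroup n)) ∨ Cfsg.IsQuasiDihedral ↥R)) := by
  have hexp : ∀ i : ℤ, z ^ i = 1 ↔ (p : ℤ) ^ m ∣ i := fun i => by
    rw [← orderOf_dvd_iff_zpow_eq_one, hz]; push_cast; rfl
  have hk1 : ∀ r ∈ R, ∀ k : ℤ, r * z * r⁻¹ = z ^ k → (p : ℤ) ^ (m - 1) ∣ k - 1 → r ∈ zpowers z := by
    intro r hr k hk hd
    refine hR1 r hr ?_
    obtain ⟨c, hc⟩ := hd
    refine mem_zpowers_iff.mpr ⟨c, ?_⟩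
    rw [commutatorElement_def, hk, ← zpow_natCast, ← zpow_mul, ← zpow_neg_one z, ← zpow_add, ← sub_eq_add_neg, hc]
    push_cast
    rfl
  have hpow : ∀ r ∈ R, ∀ k : ℤ, r * z * r⁻¹ = z ^ k → ∀ n : ℕ, r ^ n * z * (r ^ n)⁻¹ = z ^ (k ^ n) := by
    intro r hr k hk n
    induction n with
    | zero => simp
    | succ n ih =>
      calc r ^ (n + 1) * z * (r ^ (n + 1))⁻¹ = r * (r ^ n * z * (r ^ n)⁻¹) * r⁻¹ := by
            rw [pow_succ']; group
        _ = z ^ (k ^ (n + 1)) := by rw [ih, ← conj_zpow, hk, ← zpow_mul, ← pow_succ']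
  have hkp : ∀ r ∈ R, ∀ k : ℤ, r * z * r⁻¹ = z ^ k → r ^ p ∈ zpowers z → (p : ℤ) ^ m ∣ k ^ p - 1 := by
    intro r hr k hk hrp
    have h1 := hpow r hr k hk p
    obtain ⟨i, hi⟩ := mem_zpowers_iff.mp hrp
    rw [← hi, ((Commute.refl z).zpow_left i).eq, mul_inv_cancel_right] at h1
    rw [← hexp, zpow_sub, zpow_one, ← h1, mul_inv_cancel]
  have hred : ∀ r ∈ R, r ∉ zpowers z → ∃ j : ℕ, r ^ p ^ j ∉ zpowers z ∧ (r ^ p ^ j) ^ p ∈ zpowers z := by
    intro r hr hrz
    classical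
    obtain ⟨N, hN⟩ := hP r
    have hex : ∃ n, r ^ p ^ n ∈ zpowers z := ⟨N, by rw [hN]; exact one_mem _⟩
    have h0 : Nat.find hex ≠ 0 := fun e => hrz (by simpa [e] using Nat.find_spec hex)
    obtain ⟨j, hj⟩ := Nat.exists_eq_succ_of_ne_zero h0
    exact ⟨j, Nat.find_min hex (by omega), by rw [← pow_mul, ← pow_succ, ← Nat.succ_eq_add_one, ← hj]; exact Nat.find_spec hex⟩
  by_cases hle : R ≤ zpowers z
  · refine Or.inl ?_
    rw [le_antisymm hle (zpowers_le.mpr hzR)]; infer_instance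
  refine Or.inr ?_
  obtain ⟨r0, hr0, hr0z⟩ := SetLike.not_le_iff_exists.mp hle
  have hp2 : p = 2 := by
    by_contra hodd
    obtain ⟨j, hj1, hj2⟩ := hred r0 hr0 hr0z
    obtain ⟨k, hk⟩ := mem_zpowers_iff.mp (hn _ (pow_mem hr0 (p ^ j)))
    exact hj1 (hk1 _ (pow_mem hr0 _) k hk.symm
      (dvd_of_pow_sub_one hodd (hkp _ (pow_mem hr0 _) k hk.symm hj2) (by omega)))
  subst hp2
  have hmin : ∀ r ∈ R, r ∉ zpowers z → r ^ 2 ∈ zpowers z ∧
      ∀ k : ℤ, r * z * r⁻¹ = z ^ k → (2 : ℤ) ^ (m - 1) ∣ k + 1 := by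
    intro r hr hrz
    have base : ∀ s ∈ R, s ∉ zpowers z → s ^ 2 ∈ zpowers z → ∀ k : ℤ, s * z * s⁻¹ = z ^ k →
        (2 : ℤ) ^ (m - 1) ∣ k + 1 := fun s hs hsz hs2 k hk =>
      (dvd_of_sq_sub_one (by simpa using hkp s hs k hk hs2) (by omega)).resolve_left
        fun e => hsz (hk1 s hs k hk (by simpa using e))
    have hr2 : r ^ 2 ∈ zpowers z := by
      obtain ⟨j, hj1, hj2⟩ := hred r hr hrz
      rcases j with _ | j
      · simpa using hj2
      exfalso
      obtain ⟨k, hk⟩ := mem_zpowers_iff.mp (hn _ (pow_mem hr (2 ^ j)))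
      have h2 := base _ (pow_mem hr _) hj1 hj2 (k ^ 2) (by
        rw [pow_succ, pow_mul]; exact hpow _ (pow_mem hr _) k hk.symm 2)
      have h4 : (4 : ℤ) ∣ k ^ 2 + 1 := (show (4 : ℤ) ∣ 2 ^ (m - 1) from
        ⟨2 ^ (m - 3), by rw [show m - 1 = (m - 3) + 2 by omega, pow_add]; ring⟩).trans h2
      rw [show (4 : ℤ) = ((4 : ℕ) : ℤ) from rfl, ← ZMod.intCast_zmod_eq_zero_iff_dvd] at h4
      push_cast at h4
      revert h4
      generalize (k : ZMod 4) = x
      revert x
      decide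
    exact ⟨hr2, base r hr hrz hr2⟩
  have hprod : ∀ a ∈ R, ∀ b ∈ R, a ∉ zpowers z → b ∉ zpowers z → a * b ∈ zpowers z := by
    intro a ha b hb haz hbz
    obtain ⟨k, hk⟩ := mem_zpowers_iff.mp (hn a ha)
    obtain ⟨l, hl⟩ := mem_zpowers_iff.mp (hn b hb)
    refine hk1 _ (mul_mem ha hb) (k * l) ?_ ?_
    · calc a * b * z * (a * b)⁻¹ = a * (b * z * b⁻¹) * a⁻¹ := by group
        _ = z ^ (k * l) := by rw [← hl, ← conj_zpow, ← hk, ← zpow_mul]
    · have h1 := (hmin a ha haz).2 k hk.symm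
      have h2 := (hmin b hb hbz).2 l hl.symm
      have : ((2 : ℕ) : ℤ) ^ (m - 1) ∣ k * (l + 1) - (k + 1) := dvd_sub (dvd_mul_of_dvd_right (by simpa using h2) k) (by simpa using h1)
      convert this using 1
      ring
  set a : R := ⟨z, hzR⟩ with ha
  have hmem : ∀ x : R, x ∈ zpowers a ↔ (x : G) ∈ zpowers z := fun x => by
    simp only [mem_zpowers_iff, Subtype.ext_iff, SubgroupClass.coe_zpow, ha]
  have hidx : (zpowers a).index = 2 := by
    refine index_eq_two_iff.mpr ⟨⟨r0, hr0⟩, fun b => ?_⟩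
    simp only [hmem, Subgroup.coe_mul]
    by_cases hb : (b : G) ∈ zpowers z
    · exact Or.inr ⟨hb, fun h => hr0z ((Subgroup.mul_mem_cancel_left _ hb).mp h)⟩
    · exact Or.inl ⟨hprod _ b.2 _ hr0 hb hr0z, hb⟩
  have hoa : orderOf a = 2 ^ m := by rw [← hz, ← orderOf_coe, ha]
  have hcard : Nat.card R = 2 ^ (m + 1) := by
    rw [← (zpowers a).card_mul_index, hidx, Nat.card_zpowers, hoa, pow_succ]
  refine ⟨rfl, hcard ▸ (show 2 ^ 4 ≤ 2 ^ (m + 1) from Nat.pow_le_pow_right two_pos (by omega)), ?_⟩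
  obtain ⟨hsq, hk'⟩ := hmin r0 hr0 hr0z
  obtain ⟨k, hk⟩ := mem_zpowers_iff.mp (hn r0 hr0)
  obtain ⟨c, hc⟩ := hk' k hk.symm
  set t := z ^ 2 ^ (m - 1) with ht
  have hz2 : t * t = 1 := by
    rw [ht, ← pow_add, ← two_mul, ← pow_succ', Nat.sub_add_cancel (by omega), ← hz, pow_orderOf_eq_one]
  have hact : r0 * z * r0⁻¹ = z⁻¹ ∨ r0 * z * r0⁻¹ = z⁻¹ * t := by
    have : r0 * z * r0⁻¹ = z⁻¹ * t ^ c := by
      rw [← hk, ht, ← zpow_natCast, ← zpow_mul, ← zpow_neg_one z, ← zpow_add]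
      congr 1
      push_cast
      linarith
    rcases Int.even_or_odd c with ⟨d, rfl⟩ | ⟨d, rfl⟩
    · exact Or.inl (by rw [this, ← two_mul, zpow_mul, zpow_two, hz2, one_zpow, mul_one])
    · exact Or.inr (by rw [this, zpow_add, zpow_mul, zpow_two, hz2, one_zpow, one_mul, zpow_one])
  have hr0sq : r0 * r0 = 1 ∨ r0 * r0 = t := by
    obtain ⟨i, hi⟩ := mem_zpowers_iff.mp hsq
    rw [sq] at hi
    have hfix : z ^ i = z ^ (k * i) := by
      conv_rhs => rw [zpow_mul, hk, conj_zpow, hi]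
      group
      rw [← hi]
    have h1 : ((2 : ℕ) : ℤ) ^ m ∣ (k - 1) * i := by
      rw [← hexp, sub_mul, one_mul, zpow_sub, ← hfix, mul_inv_cancel]
    have hk2 : (2 : ℤ) ^ (m - 1) ∣ i := by
      obtain ⟨c', hc'⟩ : ∃ c', k - 1 = 2 * c' ∧ ¬ (2 : ℤ) ∣ c' := by
        refine ⟨2 ^ (m - 2) * c - 1, ?_, ?_⟩
        · have : (2 : ℤ) ^ (m - 1) = 2 * 2 ^ (m - 2) := by
            rw [← pow_succ']; congr 1; omega
          rw [this] at hc
          linear_combination hc
        · have : (2 : ℤ) ∣ 2 ^ (m - 2) * c := (dvd_pow_self 2 (by omega)).mul_right c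
          omega
      rw [hc'.1, mul_assoc, show m = (m - 1) + 1 by omega, pow_succ'] at h1
      have h2 : (2 : ℤ) ^ (m - 1) ∣ c' * i := (mul_dvd_mul_iff_left (two_ne_zero : (2 : ℤ) ≠ 0)).mp (by push_cast at h1; exact h1)
      exact Int.prime_two.pow_dvd_of_dvd_mul_left _ hc'.2 h2
    obtain ⟨d, rfl⟩ := hk2
    rw [← hi, show z ^ ((2 : ℤ) ^ (m - 1) * d) = t ^ d by
      rw [ht, ← zpow_natCast, ← zpow_mul]; push_cast; rfl]
    rcases Int.even_or_odd d with ⟨e, rfl⟩ | ⟨e, rfl⟩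
    · exact Or.inl (by rw [← two_mul, zpow_mul, zpow_two, hz2, one_zpow])
    · exact Or.inr (by rw [zpow_add, zpow_mul, zpow_two, hz2, one_zpow, one_mul, zpow_one])
  have hb : (⟨r0, hr0⟩ : R) ∉ zpowers a := fun h => hr0z ((hmem _).mp h)
  rcases hact with h | h
  · rcases hr0sq with h' | h'
    · exact Or.inl ⟨2 ^ m, Transfer.MaxClass.nonempty_dihedral (by positivity) hoa hidx hb
        (Subtype.ext h') (Subtype.ext h)⟩
    · exact Or.inr (Or.inl ⟨2 ^ (m - 1), Transfer.MaxClass.nonempty_quaternion (by positivity)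
        (by rw [hoa, ← pow_succ', Nat.sub_add_cancel (by omega)]) hidx hb
        (Subtype.ext (by rw [Subgroup.coe_pow, Subgroup.coe_mul]; exact h')) (Subtype.ext h)⟩)
  · refine Or.inr (Or.inr ⟨m, hm, hcard, a, ?_⟩)
    have hsd : ∀ s : R, (s : G) * z * (s : G)⁻¹ = z⁻¹ * t → s * a * s⁻¹ = a ^ (2 ^ (m - 1) - 1) := by
      intro s hs
      refine Subtype.ext ?_
      simp only [Subgroup.coe_mul, Subgroup.coe_inv, Subgroup.coe_pow, ha, hs]
      rw [ht, eq_comm, eq_inv_mul_iff_mul_eq, ← pow_succ', Nat.sub_add_cancel Nat.one_le_two_pow]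
    rcases hr0sq with h' | h'
    · exact ⟨⟨r0, hr0⟩, hoa, orderOf_eq_prime (by rw [sq]; exact Subtype.ext h')
        (fun e => hb (e ▸ one_mem _)), hsd _ h⟩
    · refine ⟨⟨r0, hr0⟩ * a, hoa, orderOf_eq_prime ?_ (fun e => hb ?_), hsd _ ?_⟩
      · rw [sq]
        refine Subtype.ext ?_
        show r0 * z * (r0 * z) = 1
        calc r0 * z * (r0 * z) = (r0 * z * r0⁻¹) * (r0 * r0) * z := by group
          _ = z⁻¹ * (t * t) * z := by rw [h, h']; group
          _ = 1 := by rw [hz2]; group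
      · rw [eq_inv_of_mul_eq_one_left e]; exact inv_mem (mem_zpowers a)
      · show r0 * z * z * (r0 * z)⁻¹ = _
        rw [← h]; group

theorem main (hP : IsPGroup p G)
    (hsymp : ∀ A : Subgroup G, A.Characteristic → IsMulCommutative A → IsCyclic A) :
    ∃ E R : Subgroup G, (∀ e ∈ E, ∀ r ∈ R, e * r = r * e) ∧ E ⊔ R = ⊤ ∧
      (E = ⊥ ∨ Cfsg.IsExtraspecial p ↥E) ∧ (IsCyclic R ∨ (p = 2 ∧ 16 ≤ Nat.card R ∧
        ((∃ m : ℕ, Nonempty (↥R ≃* DihedralGroup m)) ∨ (∃ m : ℕ, Nonempty (↥R ≃* QuaternionGroup m)) ∨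
          Cfsg.IsQuasiDihedral ↥R))) := by
  obtain ⟨C, hCchar, hCG, hCp, hCC⟩ := Invol.exists_critical hP
  haveI := hCchar
  set Z := C ⊓ centralizer (C : Set G) with hZdef
  haveI hZchar : Z.Characteristic := characteristic_iff_comap_eq.mpr fun φ => by
    rw [hZdef, comap_inf, Subgroup.Characteristic.fixed inferInstance φ,
      Subgroup.Characteristic.fixed inferInstance φ]
  have hZab : IsMulCommutative Z :=
    ⟨⟨fun a b => Subtype.ext (mem_centralizer_iff.mp b.2.2 a a.2.1)⟩⟩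
  obtain ⟨z, hz⟩ : ∃ z, zpowers z = Z := (Subgroup.isCyclic_iff_exists_zpowers_eq_top Z).mp (hsymp Z hZchar hZab)
  obtain ⟨m, hm⟩ := hP.exists_orderOf_eq_pow z
  have hzZ : z ∈ Z := hz ▸ mem_zpowers z
  have hcentC : ∀ x : G, x ∈ centralizer (C : Set G) → x ∈ Z := fun x hx => ⟨hCC hx, hx⟩
  have hCZ : Z ≤ C := inf_le_left
  by_cases hm0 : m = 0
  · refine ⟨⊥, ⊤, by simp, by simp, Or.inl rfl, Or.inl ?_⟩
    have hZ1 : Z = ⊥ := by
      rw [← hz, zpowers_eq_bot, ← orderOf_eq_one_iff, hm, hm0, pow_zero]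
    have hC1 : C = ⊥ := by
      by_contra hne
      haveI := hP.isNilpotent
      obtain ⟨x, ⟨hxC, hxZ⟩, hx1⟩ : ∃ x ∈ C ⊓ center G, x ≠ 1 := by
        by_contra hno
        push Not at hno
        exact Grp.inf_center_ne_bot C hne ((eq_bot_iff_forall _).mpr hno)
      exact hx1 (by
        have : x ∈ Z := ⟨hxC, center_le_centralizer _ hxZ⟩
        rwa [hZ1, mem_bot] at this)
    have htop : (⊤ : Subgroup G) = ⊥ := by
      rw [eq_bot_iff, ← hZ1]
      exact fun x _ => hcentC x (by rw [hC1]; exact mem_centralizer_iff.mpr (by simp))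
    rw [htop]; infer_instance
  obtain ⟨l, rfl⟩ := Nat.exists_eq_succ_of_ne_zero hm0
  set t := z ^ p ^ l with ht
  set T := zpowers t with hTdef
  have hzexp : z ^ p ^ (l + 1) = 1 := by rw [← hm, pow_orderOf_eq_one]
  have htp : orderOf t = p := by
    rw [ht, orderOf_pow' z (pow_ne_zero _ hp.out.ne_zero), hm,
      Nat.gcd_eq_right (pow_dvd_pow p (Nat.le_succ l)), pow_succ,
      Nat.mul_div_cancel_left _ (pow_pos hp.out.pos l)]
  have hTc : Nat.card T = p := by rw [hTdef, Nat.card_zpowers, htp]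
  have hTZ : T ≤ Z := zpowers_le.mpr (pow_mem hzZ _)
  have hTC : T ≤ C := hTZ.trans hCZ
  have hTpow : ∀ w ∈ T, w ^ p = 1 := fun w hw => by
    obtain ⟨i, rfl⟩ := mem_zpowers_iff.mp hw
    rw [← zpow_natCast, ← zpow_mul, mul_comm, zpow_mul, zpow_natCast, ← htp, pow_orderOf_eq_one, one_zpow]
  have hTmem : ∀ w ∈ Z, w ^ p = 1 → w ∈ T := fun w hw hwp => by
    have := mem_line hp.out.pos hm (hz ▸ hw) 1 (by rwa [pow_one])
    simpa [hTdef, ht] using this
  haveI hZn : Z.Normal := inferInstance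
  haveI hTn : T.Normal := ⟨fun w hw g => hTmem _ (hZn.conj_mem w (hTZ hw) g)
    (by rw [conj_pow, hTpow w hw, mul_one, mul_inv_cancel])⟩
  have hTz : T ≤ center G := PSmall.le_center_of_card hP T hTc
  have hZcomm : ∀ w ∈ Z, ∀ c ∈ C, Commute w c := fun w hw c hc =>
    (mem_centralizer_iff.mp hw.2 c hc).symm
  have hgc : ∀ g : G, ∀ c ∈ C, ⁅g, c⁆ ∈ Z := fun g c hc => by
    rw [← commutatorElement_inv]
    exact inv_mem (hCG (commutator_mem_commutator hc (mem_top g)))
  have hgcT : ∀ g : G, ∀ c ∈ C, c ^ p ∈ T → ⁅g, c⁆ ∈ T := fun g c hc hcp =>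
    hTmem _ (hgc g c hc) (comm_pow_eq_one (hZcomm _ (hgc g c hc) c hc) (mem_center_iff.mp (hTz hcp) g).symm)
  have hcomm : ∀ a ∈ C, ∀ b ∈ C, ⁅b, a⁆ ∈ T := fun a ha b hb =>
    hTmem _ (hgc b a ha) (comm_pow_eq_one (hZcomm _ (hgc b a ha) a ha) (hZcomm _ (hCp a ha) b hb))
  have hPT := hP
  by_cases hl : l = 0
  · subst hl
    have hZT : Z = T := by rw [hTdef, ht, pow_zero, pow_one, hz]
    have hall : ∀ g : G, ∀ c ∈ C, ⁅g, c⁆ ∈ T := fun g c hc => hZT ▸ hgc g c hc
    have hCpT : ∀ c ∈ C, c ^ p ∈ T := fun c hc => hZT ▸ hCp c hc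
    have hb := relBound hP T hTz hTc.le C _ T ⊤ rfl hTC
      (fun x _ => mem_centralizer_iff.mpr fun w hw => (mem_center_iff.mp (hTz hw) x).symm)
      (fun x _ c hc => hall x c hc)
    have hcC : centralizer (C : Set G) = T := le_antisymm (fun x hx => hZT ▸ hcentC x hx)
      (fun w hw => center_le_centralizer _ (hTz hw))
    rw [hcC, relIndex_top_right] at hb
    have hCtop : C = ⊤ := by
      refine Subgroup.eq_top_of_le_card _ ?_
      rw [← card_mul_relIndex hTC, ← T.card_mul_index]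
      exact Nat.mul_le_mul_left _ hb
    by_cases hCT : C ≤ T
    · refine ⟨⊥, ⊤, by simp, by simp, Or.inl rfl, Or.inl ?_⟩
      haveI : Fact (Nat.card (⊤ : Subgroup G)).Prime := ⟨by
        rw [← hCtop, le_antisymm hCT hTC, hTc]; exact hp.out⟩
      exact isCyclic_of_prime_card rfl
    · refine ⟨C, ⊥, ?_, by rw [hCtop]; simp, Or.inr ?_, Or.inl inferInstance⟩
      · intro e _ r hr
        rw [mem_bot] at hr
        simp [hr]
      · exact mkExtra hP C T hTc hTz hTC hCT (inf_le_right.trans hcC.le)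
          (fun a ha b hb => hcomm b hb a ha) hCpT
  obtain ⟨j, rfl⟩ := Nat.exists_eq_succ_of_ne_zero hl
  set u := z ^ p ^ j with hu
  set Zp := zpowers (z ^ p) with hZpdef
  have hup : u ^ p = t := by rw [hu, ← pow_mul, ← pow_succ, ht]
  have hTZp : T ≤ Zp := zpowers_le.mpr (by rw [ht, pow_succ', pow_mul]; exact pow_mem (mem_zpowers _) _)
  have hZpZ : Zp ≤ Z := zpowers_le.mpr (pow_mem hzZ p)
  have hZpw : ∀ i : ℤ, (z ^ i) ^ p = (z ^ p) ^ i := fun i => by
    rw [← zpow_natCast, ← zpow_natCast z p, ← zpow_mul, ← zpow_mul, mul_comm]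
  have hZpchar : ∀ φ : MulAut G, ∀ w ∈ Zp, φ w ∈ Zp := fun φ w hw => by
    obtain ⟨i, rfl⟩ := mem_zpowers_iff.mp hw
    have : φ z ∈ Z := by
      have := characteristic_iff_comap_eq.mp hZchar φ
      exact (this.symm ▸ hzZ : z ∈ Z.comap φ.toMonoidHom)
    obtain ⟨k, hk⟩ := mem_zpowers_iff.mp (hz ▸ this)
    rw [map_zpow, map_pow, ← hk, hZpw, ← zpow_mul]
    exact zpow_mem (mem_zpowers _) _
  haveI hZpn : Zp.Normal := ⟨fun w hw g => hZpchar (MulAut.conj g) w hw⟩
  let K : Subgroup G :=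
    { carrier := {x | x ∈ C ∧ x ^ p ∈ Zp}
      mul_mem' := fun {a b} ha hb => ⟨mul_mem ha.1 hb.1, powmem Zp (hTZp (hcomm b hb.1 a ha.1)) ha.2 hb.2⟩
      one_mem' := ⟨one_mem _, by simp⟩
      inv_mem' := fun {a} ha => ⟨inv_mem ha.1, by rw [inv_pow]; exact inv_mem ha.2⟩ }
  have hKC : K ≤ C := fun x hx => hx.1
  haveI hKchar : K.Characteristic := characteristic_iff_le_comap.mpr fun φ x hx =>
    ⟨((SetLike.ext_iff.mp (characteristic_iff_comap_eq.mp hCchar φ)) x).mpr hx.1, by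
      show (φ x) ^ p ∈ Zp
      rw [← map_pow]; exact hZpchar φ _ hx.2⟩
  have hZK : Z ≤ K := fun w hw => ⟨hCZ hw, by
    obtain ⟨i, rfl⟩ := mem_zpowers_iff.mp (hz ▸ hw)
    rw [hZpw]; exact zpow_mem (mem_zpowers _) _⟩
  -- every p-th power of the critical subgroup is a p-th power in the centre
  have hKall : C ≤ K := by
    by_contra hne
    obtain ⟨c0, hc0C, hc0⟩ := SetLike.not_le_iff_exists.mp hne
    have h1 := relBound hP T hTz hTc.le K _ Z C rfl hZK
      (fun x hx => mem_centralizer_iff.mpr fun w hw => (hZcomm w hw x hx).eq)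
      (fun x hx s hs => hcomm s (hKC hs) x hx)
    have h2 : Z.relIndex K < Z.relIndex C := by
      rw [← relIndex_mul_relIndex Z K C hZK hKC]
      refine lt_mul_of_one_lt_right (Nat.pos_of_ne_zero Subgroup.index_ne_zero_of_finite) ?_
      have : K.relIndex C ≠ 1 := fun e => hc0 (relIndex_eq_one.mp e hc0C)
      have h0 : K.relIndex C ≠ 0 := Subgroup.index_ne_zero_of_finite
      omega
    have e1 := card_eq_relIndex (centralizer (K : Set G)) C
    have e2 := card_mul_relIndex hCZ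
    obtain ⟨d, ⟨hdK, hdC⟩, hdZ⟩ : ∃ d ∈ centralizer (K : Set G) ⊓ C, d ∉ Z := by
      by_contra hno
      push Not at hno
      have h3 := card_le_of_le (hno : centralizer (K : Set G) ⊓ C ≤ Z)
      have h4 : 0 < Nat.card Z := Nat.card_pos
      have := Nat.mul_le_mul h3 (le_refl ((centralizer (K : Set G)).relIndex C))
      rw [e1] at this
      nlinarith
    have hdmemK : d ∈ K := by
      by_contra hd
      obtain ⟨b, hb⟩ := mem_zpowers_iff.mp (hz ▸ hCp d hdC)
      have hbp : ¬ (p : ℤ) ∣ b := fun ⟨b', hb'⟩ => hd ⟨hdC, by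
        rw [← hb, hb', zpow_mul, zpow_natCast]; exact zpow_mem (mem_zpowers _) _⟩
      refine hdZ (hcentC d (mem_centralizer_iff.mpr fun c hc => ?_))
      obtain ⟨a, hca⟩ := mem_zpowers_iff.mp (hz ▸ hCp c hc)
      obtain ⟨x, y, hxy⟩ : IsCoprime b (p : ℤ) :=
        ((Nat.prime_iff_prime_int.mp hp.out).coprime_iff_not_dvd.mpr hbp).symm
      have hmem : c * d ^ (-(a * x)) ∈ K := by
        refine ⟨C.mul_mem hc (C.zpow_mem hdC _), ?_⟩
        have hn : ⁅c, d ^ (-(a * x))⁆ ∈ Zp := hTZp (hcomm _ (C.zpow_mem hdC _) _ hc)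
        rw [← QuotientGroup.eq_one_iff] at hn ⊢
        change QuotientGroup.mk' Zp _ = 1 at hn ⊢
        rw [map_commutatorElement, commutatorElement_eq_one_iff_mul_comm] at hn
        rw [map_pow, map_mul, (show Commute _ _ from hn).mul_pow, ← map_pow, ← map_pow, ← map_mul]
        refine (QuotientGroup.eq_one_iff _).mpr ?_
        rw [← zpow_natCast, ← zpow_natCast (d ^ _), ← zpow_mul, mul_comm _ (p : ℤ), zpow_mul,
          zpow_natCast, zpow_natCast, ← hca, ← hb, ← zpow_mul, ← zpow_add,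
          show a + b * -(a * x) = (p : ℤ) * (a * y) by linear_combination (-a) * hxy,
          zpow_mul, zpow_natCast]
        exact zpow_mem (mem_zpowers _) _
      have h5 : Commute (c * d ^ (-(a * x))) d := mem_centralizer_iff.mp hdK _ hmem
      have := h5.mul_left ((Commute.refl d).zpow_left (a * x))
      rwa [zpow_neg, inv_mul_cancel_right] at this
    obtain ⟨i, hi⟩ := mem_zpowers_iff.mp hdmemK.2
    set d' := d * z ^ (-i) with hd'
    have hd'p : d' ^ p = 1 := by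
      rw [hd', ((hZcomm _ (zpow_mem hzZ _) d hdC).symm).mul_pow, hZpw, ← hi, ← zpow_add, add_neg_cancel, zpow_zero]
    set A := K ⊓ centralizer (K : Set G) with hA
    haveI : A.Characteristic := characteristic_iff_comap_eq.mpr fun φ => by
      rw [hA, comap_inf, Subgroup.Characteristic.fixed inferInstance φ,
        Subgroup.Characteristic.fixed inferInstance φ]
    obtain ⟨a, ha⟩ : ∃ a, zpowers a = A := (Subgroup.isCyclic_iff_exists_zpowers_eq_top A).mp
      (hsymp A inferInstance ⟨⟨fun a b => Subtype.ext (mem_centralizer_iff.mp b.2.2 a a.2.1)⟩⟩)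
    obtain ⟨k, hk⟩ := hP.exists_orderOf_eq_pow a
    have hZA : Z ≤ A := le_inf hZK (fun w hw => mem_centralizer_iff.mpr fun x hx =>
      (hZcomm w hw x (hKC hx)).eq.symm)
    have h1' := mem_line hp.out.pos hk (ha ▸ hZA (hTZ (mem_zpowers t)) : t ∈ zpowers a) 1
      (by rw [pow_one, ← htp, pow_orderOf_eq_one])
    have hd'A : d' ∈ A := mul_mem ⟨hdmemK, hdK⟩ (hZA (zpow_mem hzZ _))
    have h2' := mem_line hp.out.pos hk (ha ▸ hd'A : d' ∈ zpowers a) 1 (by rwa [pow_one])
    have hline : zpowers t = zpowers (a ^ p ^ (k - 1)) := by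
      refine eq_of_le_of_card_ge (zpowers_le.mpr h1') ?_
      rw [Nat.card_zpowers, Nat.card_zpowers, htp]
      refine orderOf_le_of_pow_eq_one hp.out.pos ?_
      rw [← pow_mul, ← pow_succ, ← orderOf_dvd_iff_pow_eq_one, hk]
      exact pow_dvd_pow p (by omega)
    refine hdZ ?_
    have hd'T : d' ∈ T := by rw [hTdef, hline]; exact h2'
    have : d = d' * z ^ i := by rw [hd', zpow_neg, inv_mul_cancel_right]
    rw [this]
    exact mul_mem (hTZ hd'T) (zpow_mem hzZ i)
  let D0 : Subgroup G :=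
    { carrier := {x | x ∈ C ∧ x ^ p ∈ T}
      mul_mem' := fun {a b} ha hb => ⟨mul_mem ha.1 hb.1, powmem T (hcomm b hb.1 a ha.1) ha.2 hb.2⟩
      one_mem' := ⟨one_mem _, by simp⟩
      inv_mem' := fun {a} ha => ⟨inv_mem ha.1, by rw [inv_pow]; exact inv_mem ha.2⟩ }
  have hTD : T ≤ D0 := fun w hw => ⟨hTC hw, pow_mem hw p⟩
  have huZ : u ∈ Z := pow_mem hzZ _
  have huT : u ∉ T := fun h => by
    have h1 := hTpow u h
    rw [hup] at h1
    rw [h1, orderOf_one] at htp
    exact hp.out.ne_one htp.symm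
  have hCD : ∀ c ∈ C, ∃ i : ℤ, c * z ^ i ∈ D0 := fun c hc => by
    obtain ⟨i, hi⟩ := mem_zpowers_iff.mp (hKall hc).2
    refine ⟨-i, mul_mem hc (zpow_mem (hCZ hzZ) _), ?_⟩
    rw [((hZcomm _ (zpow_mem hzZ _) c hc).symm).mul_pow, hZpw, ← hi, ← zpow_add, add_neg_cancel, zpow_zero]
    exact one_mem _
  obtain ⟨E, ⟨⟨hTE, hED⟩, huE⟩, hEmax⟩ := (Set.toFinite
    {E : Subgroup G | (T ≤ E ∧ E ≤ D0) ∧ u ∉ E}).exists_maximal ⟨T, ⟨le_rfl, hTD⟩, huT⟩
  have hEC : E ≤ C := fun x hx => (hED hx).1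
  have hgE : ∀ g : G, ∀ e ∈ E, ⁅g, e⁆ ∈ T := fun g e he => hgcT g e (hEC he) (hED he).2
  haveI hEn : E.Normal := ⟨fun e he g => by
    have := mul_mem (hTE (hgE g e he)) he
    rwa [commutatorElement_def, inv_mul_cancel_right] at this⟩
  have hDE : D0 ≤ E ⊔ zpowers u := by
    intro x hx
    by_cases hxE : x ∈ E
    · exact mem_sup_left hxE
    have hu' : u ∈ E ⊔ zpowers x := by
      by_contra hno
      exact hxE (hEmax (y := E ⊔ zpowers x) ⟨⟨hTE.trans le_sup_left, sup_le hED (zpowers_le.mpr hx)⟩, hno⟩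
        le_sup_left (mem_sup_right (mem_zpowers x)))
    obtain ⟨e, he, w, hw, hew⟩ := mem_sup_of_normal_left.mp hu'
    obtain ⟨i, rfl⟩ := mem_zpowers_iff.mp hw
    have hpi : ¬ (p : ℤ) ∣ i := fun ⟨c, hc⟩ => huE (hew ▸ mul_mem he (by
      rw [hc, zpow_mul, zpow_natCast]; exact zpow_mem (hTE hx.2) c))
    have h2 : x ^ i ∈ E ⊔ zpowers u := by
      rw [show x ^ i = e⁻¹ * u by rw [← hew, inv_mul_cancel_left]]
      exact mul_mem (mem_sup_left (inv_mem he)) (mem_sup_right (mem_zpowers u))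
    exact (zpowers_le.mpr h2) (prime_dvd_or_mem hP hpi)
  have hCE : C ≤ E ⊔ Z := fun c hc => by
    obtain ⟨i, hi⟩ := hCD c hc
    have h1 := (sup_le_sup_left (zpowers_le.mpr huZ) E) (hDE hi)
    simpa using mul_mem h1 (mem_sup_right (zpow_mem hzZ (-i)))
  have hEZ : E ⊓ Z ≤ T := by
    rintro w ⟨hwE, hwZ⟩
    have h2 := mem_line hp.out.pos hm (hz ▸ hwZ) 2 (by
      rw [pow_two, pow_mul]; exact hTpow _ (hED hwE).2)
    obtain ⟨i, hi⟩ := mem_zpowers_iff.mp h2
    have hu2 : z ^ p ^ (j + 1 + 1 - 2) = u := by rw [hu]; rfl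
    simp only [Nat.succ_eq_add_one] at hi
    rw [hu2] at hi
    by_cases hpi : (p : ℤ) ∣ i
    · obtain ⟨c, rfl⟩ := hpi
      rw [← hi, zpow_mul, zpow_natCast, hup]
      exact zpow_mem (mem_zpowers t) c
    · exact absurd (zpowers_le.mpr (hi ▸ hwE : u ^ i ∈ E) (prime_dvd_or_mem hP hpi)) huE
  set R := centralizer (E : Set G) with hR
  have hZR : Z ≤ R := fun w hw => mem_centralizer_iff.mpr fun e he => (hZcomm w hw e (hEC he)).eq.symm
  have hRC : ∀ r ∈ R, r * z = z * r → r ∈ Z := fun r hr hrz => by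
    refine hcentC r (mem_centralizer_iff.mpr fun c hc => ?_)
    have : E ⊔ Z ≤ centralizer ({r} : Set G) := sup_le
      (fun e he => mem_centralizer_singleton_iff.mpr (mem_centralizer_iff.mp hr e he))
      (hz ▸ zpowers_le.mpr (mem_centralizer_singleton_iff.mpr hrz.symm))
    exact mem_centralizer_singleton_iff.mp (this (hCE hc))
  have hER : E ⊔ R = ⊤ := by
    have hb := relBound hP T hTz hTc.le E _ T ⊤ rfl hTE
      (fun x _ => mem_centralizer_iff.mpr fun w hw => (mem_center_iff.mp (hTz hw) x).symm)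
      (fun g _ e he => hgE g e he)
    rw [relIndex_top_right] at hb
    haveI : R.Normal := normal_centralizer
    refine Subgroup.eq_top_of_le_card _ ?_
    have e1 : Nat.card R * R.index = Nat.card G := R.card_mul_index
    have e2 := card_sup_mul_card_inf_normal (H := E) (N := R)
    have e3 := card_mul_relIndex hTE
    have e4 : Nat.card (E ⊓ R : Subgroup G) ≤ Nat.card T := card_le_of_le (fun w hw =>
      hEZ ⟨hw.1, hRC w hw.2 (hZcomm z hzZ w (hEC hw.1)).eq.symm⟩)
    have h5 : 0 < Nat.card T := Nat.card_pos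
    have h6 := Nat.mul_le_mul_left (Nat.card (E ⊔ R : Subgroup G)) e4
    have h7 := Nat.mul_le_mul_left (Nat.card R) (Nat.mul_le_mul_left (Nat.card T) hb)
    nlinarith
  have hcommER : ∀ e ∈ E, ∀ r ∈ R, e * r = r * e := fun e he r hr => mem_centralizer_iff.mp hr e he
  have hrz : ∀ r : G, r * z * r⁻¹ ∈ zpowers z := fun r => hz ▸ hZn.conj_mem z hzZ r
  -- the choice of the extraspecial factor
  obtain ⟨E', hE', hE'ex, hE'c, hE'sup⟩ : ∃ E' : Subgroup G, E' ≤ E ∧
      (E' = ⊥ ∨ Cfsg.IsExtraspecial p ↥E') ∧ (E' = E ∨ E' = ⊥) ∧ E' ⊔ R = ⊤ := by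
    by_cases hET : E ≤ T
    · refine ⟨⊥, bot_le, Or.inl rfl, Or.inr rfl, ?_⟩
      rw [bot_sup_eq, eq_top_iff, ← hER]
      exact sup_le (hET.trans (hTZ.trans hZR)) le_rfl
    · refine ⟨E, le_rfl, Or.inr (mkExtra hP E T hTc hTz hTE hET ?_
        (fun a _ b hb => hgE a b hb) fun a ha => (hED ha).2), Or.inl rfl, hER⟩
      exact fun w hw => hEZ ⟨hw.1, hRC w hw.2 (hZcomm z hzZ w (hEC hw.1)).eq.symm⟩
  by_cases hRZ : R ≤ Z
  · refine ⟨E', R, fun e he => hcommER e (hE' he), hE'sup, hE'ex, Or.inl ?_⟩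
    exact (Subgroup.isCyclic_iff_exists_zpowers_eq_top R).mpr ⟨z, hz.trans (le_antisymm hZR hRZ)⟩
  obtain ⟨r0, hr0, hr0Z⟩ := SetLike.not_le_iff_exists.mp hRZ
  rcases Nat.eq_zero_or_pos j with rfl | hj
  · -- the centre of the critical subgroup has order p²: the whole group is extraspecial
    have hZp : Zp = T := by rw [hZpdef, hTdef, ht]; simp
    have hzT : ∀ r : G, ⁅r, z⁆ ∈ T := fun r => hgcT r z (hCZ hzZ) (hZp ▸ mem_zpowers (z ^ p))
    have hzc : z ∉ center G := fun h => hr0Z (hRC r0 hr0 (mem_center_iff.mp h r0))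
    have hidx : (centralizer (Z : Set G)).relIndex R ≤ p := by
      refine (relBound hP T hTz hTc.le Z _ T R rfl hTZ ?_ ?_).trans_eq ?_
      · exact fun x _ => mem_centralizer_iff.mpr fun w hw => (mem_center_iff.mp (hTz hw) x).symm
      · intro r _ w hw
        exact hgcT r w (hCZ hw) (by
          obtain ⟨i, rfl⟩ := mem_zpowers_iff.mp (hz ▸ hw)
          rw [hZpw, ← hZp]; exact zpow_mem (mem_zpowers _) _)
      · have h1 := card_mul_relIndex hTZ
        have h2 : Nat.card Z = p ^ 2 := by rw [← hz, Nat.card_zpowers, hm]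
        rw [hTc, h2, pow_two] at h1
        exact Nat.eq_of_mul_eq_mul_left hp.out.pos h1
    have hZrel : Z.relIndex R ≤ p := by
      refine le_trans ?_ hidx
      refine Nat.le_of_dvd (Nat.pos_of_ne_zero Subgroup.index_ne_zero_of_finite) ?_
      rw [← inf_relIndex_right (centralizer (Z : Set G)) R]
      refine relIndex_dvd_of_le_left R ?_
      rintro r ⟨hrc, hr⟩
      exact hRC r hr (mem_centralizer_iff.mp hrc z hzZ).symm
    have hRgen : R ≤ Z ⊔ zpowers r0 := by
      refine relIndex_eq_one.mp ?_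
      have hle : Z ⊔ zpowers r0 ≤ R := sup_le hZR (zpowers_le.mpr hr0)
      have h1 := relIndex_mul_relIndex Z _ R le_sup_left hle
      have h2 : 1 < Z.relIndex (Z ⊔ zpowers r0) := by
        have : Z.relIndex (Z ⊔ zpowers r0) ≠ 1 := fun e =>
          hr0Z (relIndex_eq_one.mp e (mem_sup_right (mem_zpowers r0)))
        have h0 : Z.relIndex (Z ⊔ zpowers r0) ≠ 0 := Subgroup.index_ne_zero_of_finite
        omega
      obtain ⟨i, hi⟩ := (hP.to_subgroup R).index ((Z ⊔ zpowers r0).subgroupOf R)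
      change (Z ⊔ zpowers r0).relIndex R = p ^ i at hi
      obtain ⟨i', hi'⟩ := (hP.to_subgroup (Z ⊔ zpowers r0 : Subgroup G)).index (Z.subgroupOf _)
      change Z.relIndex (Z ⊔ zpowers r0) = p ^ i' at hi'
      rw [hi, hi', ← pow_add] at h1
      rw [hi]
      have h3 : p ^ (i' + i) ≤ p ^ 1 := by rw [h1, pow_one]; exact hZrel
      have h4 := (Nat.pow_le_pow_iff_right hp.out.one_lt).mp h3
      have h5 : i' ≠ 0 := fun e => by rw [hi', e, pow_zero] at h2; omega
      rw [show i = 0 by omega, pow_zero]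
    have hr0p : r0 ^ p ∈ T := by
      have h1 : (r0 ^ p) * z = z * r0 ^ p := by
        have hw := mem_center_iff.mp (hTz (hzT r0))
        have : r0 * z * r0⁻¹ = ⁅r0, z⁆ * z := by simp [commutatorElement_def, mul_assoc]
        have h2 : ∀ n : ℕ, r0 ^ n * z * (r0 ^ n)⁻¹ = ⁅r0, z⁆ ^ n * z := by
          intro n
          induction n with
          | zero => simp
          | succ n ih =>
            calc r0 ^ (n + 1) * z * (r0 ^ (n + 1))⁻¹ = r0 * (r0 ^ n * z * (r0 ^ n)⁻¹) * r0⁻¹ := by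
                  rw [pow_succ']; group
              _ = (r0 * ⁅r0, z⁆ ^ n * r0⁻¹) * (r0 * z * r0⁻¹) := by rw [ih]; group
              _ = ⁅r0, z⁆ ^ (n + 1) * z := by
                rw [← conj_pow, hw, mul_inv_cancel_right, this, pow_succ, mul_assoc]
        have := h2 p
        rw [hTpow _ (hzT r0), one_mul] at this
        calc r0 ^ p * z = (r0 ^ p * z * (r0 ^ p)⁻¹) * r0 ^ p := by group
          _ = z * r0 ^ p := by rw [this]
      obtain ⟨i, hi⟩ := mem_zpowers_iff.mp (hz ▸ hRC _ (pow_mem hr0 p) h1)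
      by_cases hpi : (p : ℤ) ∣ i
      · obtain ⟨c, rfl⟩ := hpi
        rw [← hi, zpow_mul, zpow_natCast, ← hZp]
        exact zpow_mem (mem_zpowers _) _
      · obtain ⟨k, hk⟩ := mem_zpowers_iff.mp (prime_dvd_or_mem (a := z) hP hpi)
        refine absurd (hRC r0 hr0 ?_) hr0Z
        rw [← hk, hi]
        exact (((Commute.refl r0).pow_right p).zpow_right k).eq
    have hgen : (⊤ : Subgroup G) ≤ closure ((E : Set G) ∪ Z ∪ {r0}) := by
      rw [← hER]
      refine sup_le (fun e he => subset_closure (Or.inl (Or.inl he))) (hRgen.trans (sup_le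
        (fun w hw => subset_closure (Or.inl (Or.inr hw)))
        (zpowers_le.mpr (subset_closure (Or.inr rfl)))))
    have hab : ∀ a b : G, ⁅a, b⁆ ∈ T := by
      let f := QuotientGroup.mk' T
      have h1 : ∀ a ∈ ((E : Set G) ∪ Z ∪ {r0}), ∀ b ∈ ((E : Set G) ∪ Z ∪ {r0}),
          f a * f b = f b * f a := by
        intro a ha b hb
        rw [← commutatorElement_eq_one_iff_mul_comm, ← map_commutatorElement]
        refine (QuotientGroup.eq_one_iff _).mpr ?_
        have hZrhs : ∀ g : G, ∀ w ∈ Z, ⁅g, w⁆ ∈ T := fun g w hw => hgcT g w (hCZ hw) (by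
          obtain ⟨i, rfl⟩ := mem_zpowers_iff.mp (hz ▸ hw)
          rw [hZpw, ← hZp]; exact zpow_mem (mem_zpowers _) _)
        rcases hb with (hb | hb) | hb
        · exact hgE a b hb
        · exact hZrhs a b hb
        rcases ha with (ha | ha) | ha
        · rw [← commutatorElement_inv]; exact inv_mem (hgE b a ha)
        · rw [← commutatorElement_inv]; exact inv_mem (hZrhs b a ha)
        · rw [Set.mem_singleton_iff.mp ha, Set.mem_singleton_iff.mp hb, commutatorElement_self]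
          exact one_mem _
      intro a b
      refine (QuotientGroup.eq_one_iff _).mp ?_
      change f ⁅a, b⁆ = 1
      rw [map_commutatorElement, commutatorElement_eq_one_iff_mul_comm]
      have key : ∀ b ∈ ((E : Set G) ∪ Z ∪ {r0}), ∀ a, f a * f b = f b * f a := by
        intro b hb a
        have : closure ((E : Set G) ∪ Z ∪ {r0}) ≤ (centralizer ({f b} : Set (G ⧸ T))).comap f :=
          (closure_le _).mpr fun x hx => mem_centralizer_singleton_iff.mpr (h1 x hx b hb)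
        exact mem_centralizer_singleton_iff.mp (this (hgen (mem_top a)))
      have : closure ((E : Set G) ∪ Z ∪ {r0}) ≤ (centralizer ({f a} : Set (G ⧸ T))).comap f :=
        (closure_le _).mpr fun x hx => mem_centralizer_singleton_iff.mpr (key x hx a).symm
      exact (mem_centralizer_singleton_iff.mp (this (hgen (mem_top b)))).symm
    have hpw : ∀ g : G, g ^ p ∈ T := by
      let D : Subgroup G :=
        { carrier := {x | x ^ p ∈ T}
          mul_mem' := fun {a b} ha hb => powmem T (hab a b) ha hb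
          one_mem' := by simp
          inv_mem' := fun {a} (ha : a ^ p ∈ T) => by
            show a⁻¹ ^ p ∈ T
            rw [inv_pow]; exact inv_mem ha }
      have : closure ((E : Set G) ∪ Z ∪ {r0}) ≤ D := (closure_le _).mpr fun x hx => by
        show x ^ p ∈ T
        rcases hx with (hx | hx) | hx
        · exact (hED hx).2
        · obtain ⟨i, rfl⟩ := mem_zpowers_iff.mp (hz ▸ hx)
          rw [hZpw, ← hZp]; exact zpow_mem (mem_zpowers _) _
        · rw [Set.mem_singleton_iff.mp hx]; exact hr0p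
      exact fun g => this (hgen (mem_top g))
    refine ⟨⊤, ⊥, ?_, by simp, Or.inr ?_, Or.inl inferInstance⟩
    · intro e _ r hr
      rw [mem_bot] at hr
      simp [hr]
    refine mkExtra hP ⊤ T hTc hTz le_top ?_ ?_ (fun a _ b _ => hab a b) fun a _ => hpw a
    · exact fun h => hr0Z (hTZ (h (mem_top r0)))
    · rintro x ⟨-, hx⟩
      have hxc : ∀ g, g * x = x * g := fun g => mem_centralizer_iff.mp hx g (mem_top g)
      obtain ⟨i, hi⟩ := mem_zpowers_iff.mp (hz ▸ hcentC x (mem_centralizer_iff.mpr fun c _ => hxc c))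
      by_cases hpi : (p : ℤ) ∣ i
      · obtain ⟨c, rfl⟩ := hpi
        rw [← hi, zpow_mul, zpow_natCast, ← hZp]
        exact zpow_mem (mem_zpowers _) _
      · refine absurd (zpowers_le.mpr (show z ^ i ∈ center G from mem_center_iff.mpr fun g => ?_)
          (prime_dvd_or_mem hP hpi)) hzc
        rw [hi]; exact hxc g
  -- the general case
  refine ⟨E', R, fun e he => hcommER e (hE' he), hE'sup, hE'ex,
    tail hP R z (j + 1 + 1) (by omega) hm (hZR hzZ) (fun r _ => hrz r) ?_⟩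
  intro r hr hrT
  rw [show j + 1 + 1 - 1 = j + 1 by omega] at hrT
  rw [hz]
  by_contra hrZ
  have huc : ∀ g : G, ⁅g, z⁆ ∈ T → g * u = u * g := by
    intro g hg
    have h1 : g * z * g⁻¹ = ⁅g, z⁆ * z := by simp [commutatorElement_def, mul_assoc]
    have h2 : g * u * g⁻¹ = u := by
      rw [hu, ← conj_pow, h1, (show Commute ⁅g, z⁆ z from (mem_center_iff.mp (hTz hg) z).symm).mul_pow]
      obtain ⟨i, rfl⟩ := Nat.exists_eq_succ_of_ne_zero hj.ne'
      rw [pow_succ', pow_mul, hTpow _ hg, one_pow, one_mul]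
    exact mul_inv_eq_iff_eq_mul.mp h2
  have hru := huc r hrT
  have hrp : r ^ p ∈ Z := by
    refine hRC _ (pow_mem hr p) ?_
    have h1 : ⁅z, r⁆ ^ 1 ∈ T := by rw [pow_one, ← commutatorElement_inv]; exact inv_mem hrT
    have h2 : (z * r * z⁻¹) ^ p = r ^ p := by
      have e : z * r * z⁻¹ = ⁅z, r⁆ * r := by simp [commutatorElement_def, mul_assoc]
      rw [e, (show Commute ⁅z, r⁆ r from
        (mem_center_iff.mp (hTz (by simpa using h1)) r).symm).mul_pow, hTpow _ (by simpa using h1), one_mul]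
    rw [conj_pow] at h2
    exact (mul_inv_eq_iff_eq_mul.mp h2).symm
  obtain ⟨i, hi⟩ := mem_zpowers_iff.mp (hz ▸ hrp)
  obtain ⟨c, rfl⟩ : (p : ℤ) ∣ i := by
    by_contra hpi
    obtain ⟨k, hk⟩ := mem_zpowers_iff.mp (prime_dvd_or_mem (a := z) hP hpi)
    refine hrZ (hRC r hr ?_)
    rw [← hk, hi]
    exact (((Commute.refl r).pow_right p).zpow_right k).eq
  have hw : ⁅r, z ^ (-c)⁆ ∈ T := by
    rw [← QuotientGroup.eq_one_iff] at hrT ⊢
    change QuotientGroup.mk' T _ = 1 at hrT ⊢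
    rw [map_commutatorElement, commutatorElement_eq_one_iff_mul_comm] at hrT ⊢
    rw [map_zpow]
    exact ((show Commute _ _ from hrT).zpow_right _).eq
  set y := r * z ^ (-c) with hy
  have hyT : y ^ p ∈ T := by
    rw [← QuotientGroup.eq_one_iff] at hw ⊢
    change QuotientGroup.mk' T _ = 1 at hw ⊢
    rw [map_commutatorElement, commutatorElement_eq_one_iff_mul_comm] at hw
    rw [hy, map_pow, map_mul, (show Commute _ _ from hw).mul_pow, ← map_pow, ← map_pow, ← hi, hZpw,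
      zpow_mul, zpow_natCast, ← map_mul, ← zpow_add, add_neg_cancel, zpow_zero, map_one]
  obtain ⟨i', hi'⟩ := mem_zpowers_iff.mp hyT
  set y' := y * u ^ (-i') with hy'
  have hyR : y ∈ R := mul_mem hr (zpow_mem (hZR hzZ) _)
  have hyu : Commute y u :=
    (show Commute r u from hru).mul_left ((hZcomm u huZ z (hCZ hzZ)).symm.zpow_left _)
  have hy'p : y' ^ p = 1 := by
    rw [hy', (hyu.zpow_right _).mul_pow, ← hi', ← zpow_natCast (u ^ (-i')), ← zpow_mul,
      mul_comm (-i'), zpow_mul, zpow_natCast, hup, ← zpow_add, add_neg_cancel, zpow_zero]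
  have hyz : ⁅y', z⁆ ∈ T := by
    have : ⁅y', z⁆ = ⁅r, z⁆ := by
      rw [hy', hy, mul_assoc, commutatorElement_mul_left_eq_conj_mul]
      rw [show ⁅z ^ (-c) * u ^ (-i'), z⁆ = 1 from commutatorElement_eq_one_iff_mul_comm.mpr
        (((Commute.refl z).zpow_left _).mul_left ((hZcomm u huZ z (hCZ hzZ)).zpow_left _)).eq]
      group
    rw [this]; exact hrT
  have hy'Z : y' ∉ Z := fun h => hrZ (by
    have h1 := mul_mem h (zpow_mem huZ i')
    rw [hy', zpow_neg, inv_mul_cancel_right, hy] at h1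
    have h2 := mul_mem h1 (zpow_mem hzZ c)
    rwa [zpow_neg, inv_mul_cancel_right] at h2)
  set S : Set G := {g | g ^ p ∈ T ∧ ∀ w ∈ Z, ⁅g, w⁆ ∈ T} with hS
  haveI hSchar : (closure S).Characteristic := characteristic_iff_map_le.mpr fun φ => by
    rw [MonoidHom.map_closure, closure_le]
    rintro _ ⟨g, ⟨hg1, hg2⟩, rfl⟩
    have hTφ : ∀ w ∈ T, φ w ∈ T := fun w hw => hTmem _
      ((characteristic_iff_comap_eq.mp hZchar φ).symm ▸ hTZ hw : w ∈ Z.comap φ.toMonoidHom)
      (by rw [← map_pow, hTpow w hw, map_one])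
    refine subset_closure ⟨?_, fun w hw => ?_⟩
    · show φ g ^ p ∈ T
      rw [← map_pow]; exact hTφ _ hg1
    · have hw' : φ.symm w ∈ Z :=
        ((characteristic_iff_comap_eq.mp hZchar φ.symm).symm ▸ hw : w ∈ Z.comap φ.symm.toMonoidHom)
      have := hTφ _ (hg2 _ hw')
      rwa [map_commutatorElement, MulEquiv.apply_symm_apply] at this
  have hyzw : ∀ w ∈ Z, ⁅y', w⁆ ∈ T := fun w hw => by
    obtain ⟨i, rfl⟩ := mem_zpowers_iff.mp (hz ▸ hw)
    rw [← QuotientGroup.eq_one_iff] at hyz ⊢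
    change QuotientGroup.mk' T _ = 1 at hyz ⊢
    rw [map_commutatorElement, commutatorElement_eq_one_iff_mul_comm] at hyz ⊢
    rw [map_zpow]
    exact ((show Commute _ _ from hyz).zpow_right _).eq
  have hy'S : y' ∈ closure S := subset_closure ⟨by rw [hy'p]; exact one_mem _, hyzw⟩
  have huS : u ∈ closure S := subset_closure ⟨by rw [hup]; exact mem_zpowers t, fun w hw => by
    rw [commutatorElement_eq_one_iff_mul_comm.mpr (hZcomm u huZ w (hCZ hw)).eq]
    exact one_mem _⟩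
  -- the elements in question lie in `E⟨u⟩⟨y'⟩`
  have hSle : ∀ g ∈ S, Commute g y' ∧ Commute g u := by
    rintro g ⟨hgp, hgz⟩
    have hgu : Commute g u := huc g (hgz z hzZ)
    refine ⟨?_, hgu⟩
    obtain ⟨e, he, s, hs, rfl⟩ := mem_sup_of_normal_left.mp (hER.symm ▸ mem_top g : g ∈ E ⊔ R)
    refine Commute.mul_left (mem_centralizer_iff.mp (mul_mem hyR (zpow_mem (hZR huZ) _)) e he) ?_
    let R1 : Subgroup G :=
      { carrier := {x | x ∈ R ∧ ⁅x, z⁆ ∈ T}
        mul_mem' := fun {a b} ha hb => ⟨mul_mem ha.1 hb.1, by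
          rw [commutatorElement_mul_left_eq_conj_mul, mem_center_iff.mp (hTz hb.2) a, mul_inv_cancel_right]
          exact mul_mem hb.2 ha.2⟩
        one_mem' := ⟨one_mem _, by simp⟩
        inv_mem' := fun {a} ha => ⟨inv_mem ha.1, by
          have h1 : ⁅a⁻¹, z⁆ = a⁻¹ * ⁅a, z⁆⁻¹ * a := by simp [commutatorElement_def]; group
          rw [h1, mem_center_iff.mp (inv_mem (hTz ha.2)) a⁻¹, inv_mul_cancel_right]
          exact inv_mem ha.2⟩ }
    have hsR1 : s ∈ R1 := by
      refine ⟨hs, ?_⟩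
      have h1 := hgz z hzZ
      rwa [commutatorElement_mul_left_eq_conj_mul,
        show ⁅e, z⁆ = 1 from commutatorElement_eq_one_iff_mul_comm.mpr (hZcomm z hzZ e (hEC he)).eq.symm,
        mul_one, hTn.mem_comm_iff, inv_mul_cancel_left] at h1
    have hy'R1 : y' ∈ R1 := ⟨mul_mem hyR (zpow_mem (hZR huZ) _), hyz⟩
    have hZR1 : Z ≤ R1 := fun w hw => ⟨hZR hw, by
      rw [commutatorElement_eq_one_iff_mul_comm.mpr (hZcomm w hw z (hCZ hzZ)).eq]; exact one_mem _⟩
    have hidx : Z.relIndex R1 ≤ p := by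
      let ψ : R1 →* T := MonoidHom.mk' (fun x => ⟨⁅(x : G), z⁆, x.2.2⟩) fun a b => Subtype.ext (by
        show ⁅(a : G) * b, z⁆ = _
        rw [commutatorElement_mul_left_eq_conj_mul, mem_center_iff.mp (hTz b.2.2) (a : G),
          mul_inv_cancel_right]
        exact mem_center_iff.mp (hTz a.2.2) _)
      have hker : ψ.ker = Z.subgroupOf R1 := by
        ext x
        rw [MonoidHom.mem_ker, mem_subgroupOf, Subtype.ext_iff]
        show ⁅(x : G), z⁆ = 1 ↔ _
        rw [commutatorElement_eq_one_iff_mul_comm]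
        exact ⟨hRC x x.2.1, fun hx => (hZcomm _ hx z (hCZ hzZ)).eq⟩
      rw [relIndex, ← hker, index_ker]
      exact (card_le_card_group _).trans hTc.le
    have hR1gen : R1 ≤ Z ⊔ zpowers y' := by
      refine relIndex_eq_one.mp ?_
      have hle : Z ⊔ zpowers y' ≤ R1 := sup_le hZR1 (zpowers_le.mpr hy'R1)
      have h1 := relIndex_mul_relIndex Z _ R1 le_sup_left hle
      have h2 : p ≤ Z.relIndex (Z ⊔ zpowers y') := by
        obtain ⟨i, hi⟩ := (hP.to_subgroup (Z ⊔ zpowers y' : Subgroup G)).index (Z.subgroupOf _)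
        change Z.relIndex (Z ⊔ zpowers y') = p ^ i at hi
        rw [hi]
        refine Nat.le_self_pow (fun e => hy'Z (relIndex_eq_one.mp (by rw [hi, e, pow_zero])
          (mem_sup_right (mem_zpowers y')))) p
      have h0 : (Z ⊔ zpowers y').relIndex R1 ≠ 0 := Subgroup.index_ne_zero_of_finite
      have h3 : p * (Z ⊔ zpowers y').relIndex R1 ≤ p * 1 :=
        (Nat.mul_le_mul_right _ h2).trans (by rw [h1, mul_one]; exact hidx)
      have := Nat.le_of_mul_le_mul_left h3 hp.out.pos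
      omega
    obtain ⟨w, hw, v, hv, rfl⟩ := mem_sup_of_normal_left.mp (hR1gen hsR1)
    obtain ⟨q, rfl⟩ := mem_zpowers_iff.mp hv
    refine Commute.mul_left ?_ ((Commute.refl y').zpow_left q)
    -- here w ∈ Z has p-th power in T
    have hwp : w ^ p ∈ T := by
      rw [← QuotientGroup.eq_one_iff] at hgp ⊢
      change QuotientGroup.mk' T _ = 1 at hgp ⊢
      have hf : ∀ a b : G, ⁅a, b⁆ ∈ T →
          Commute (QuotientGroup.mk' T a) (QuotientGroup.mk' T b) := fun a b h => by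
        rw [← commutatorElement_eq_one_iff_commute, ← map_commutatorElement]
        exact (QuotientGroup.eq_one_iff _).mpr h
      have hwq : Commute (QuotientGroup.mk' T w) (QuotientGroup.mk' T (y' ^ q)) := by
        rw [map_zpow]
        exact (hf _ _ (hyzw w hw)).symm.zpow_right q
      have hes : Commute (QuotientGroup.mk' T e) (QuotientGroup.mk' T (w * y' ^ q)) :=
        ((show Commute e (w * y' ^ q) from mem_centralizer_iff.mp hs e he)).map _
      rw [map_pow, map_mul, hes.mul_pow, map_mul, hwq.mul_pow, ← map_pow, ← map_pow, ← map_pow,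
        show QuotientGroup.mk' T (e ^ p) = 1 from (QuotientGroup.eq_one_iff _).mpr (hED he).2,
        one_mul, ← zpow_natCast (y' ^ q), ← zpow_mul, mul_comm q, zpow_mul, zpow_natCast, hy'p,
        one_zpow, map_one, mul_one] at hgp
      exact hgp
    have h2 := mem_line hp.out.pos hm (hz ▸ hw) 2 (by
      rw [pow_two, pow_mul]; exact hTpow _ hwp)
    obtain ⟨b, hb⟩ := mem_zpowers_iff.mp h2
    have hu2 : z ^ p ^ (j + 1 + 1 - 2) = u := by rw [hu]; rfl
    simp only [Nat.succ_eq_add_one] at hb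
    rw [hu2] at hb
    rw [← hb]
    exact ((show Commute y' u from (show Commute y u from hyu).mul_left
      ((Commute.refl u).zpow_left _))).symm.zpow_left b
  set A := closure S ⊓ centralizer (closure S : Set G) with hA
  haveI : A.Characteristic := characteristic_iff_comap_eq.mpr fun φ => by
    rw [hA, comap_inf, Subgroup.Characteristic.fixed inferInstance φ,
      Subgroup.Characteristic.fixed inferInstance φ]
  have hmemA : ∀ x ∈ closure S, (∀ g ∈ S, Commute g x) → x ∈ A := fun x hx h => ⟨hx, by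
    rw [centralizer_closure]; exact mem_centralizer_iff.mpr fun g hg => (h g hg).eq⟩
  have hy'A := hmemA y' hy'S fun g hg => (hSle g hg).1
  have huA := hmemA u huS fun g hg => (hSle g hg).2
  obtain ⟨a, ha⟩ : ∃ a, zpowers a = A := (Subgroup.isCyclic_iff_exists_zpowers_eq_top A).mp
    (hsymp A inferInstance ⟨⟨fun a b => Subtype.ext (mem_centralizer_iff.mp b.2.2 a a.2.1)⟩⟩)
  obtain ⟨k, hk⟩ := hP.exists_orderOf_eq_pow a
  have htA : t ∈ A := hup ▸ pow_mem huA p
  have h1' := mem_line hp.out.pos hk (ha ▸ htA : t ∈ zpowers a) 1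
    (by rw [pow_one, ← htp, pow_orderOf_eq_one])
  have h2' := mem_line hp.out.pos hk (ha ▸ hy'A : y' ∈ zpowers a) 1 (by rwa [pow_one])
  have hline : zpowers t = zpowers (a ^ p ^ (k - 1)) := by
    refine eq_of_le_of_card_ge (zpowers_le.mpr h1') ?_
    rw [Nat.card_zpowers, Nat.card_zpowers, htp]
    refine orderOf_le_of_pow_eq_one hp.out.pos ?_
    rw [← pow_mul, ← pow_succ, ← orderOf_dvd_iff_pow_eq_one, hk]
    exact pow_dvd_pow p (by omega)
  exact hy'Z (hTZ (hline ▸ h2' : y' ∈ zpowers t))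

end Cfsg.Agent.Grp.Symplectic
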