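import Mathlib
import Cfsg.Agent.Lib.Grp.SchurZassenhaus

/-!
Hall's theorems for solvable groups.
-/

namespace Cfsg.Agent.Grp

open scoped Pointwise
open Subgroup

universe u

variable {G : Type u} [Group G]

theorem hall_aux : ∀ (r : ℕ) (G : Type u) [Group G] [Finite G] [Group.IsSolvable G],
    Nat.card G = r → ∀ m n : ℕ, r = m * n → m.Coprime n →
      ∃ H : Subgroup G, Nat.card H = m ∧
        ∀ K : Subgroup G, (Nat.card K).Coprime n → ∃ g : G, K ≤ MulAut.conj g • H := by
  intro r
  induction r using Nat.strong_induction_on with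
  | _ r ih =>
  intro G _ _ _ hr m n hmn hcop
  subst hr
  rcases subsingleton_or_nontrivial G with hG | hG
  · have hm : m = 1 := Nat.eq_one_of_mul_eq_one_right (hmn.symm.trans Nat.card_unique)
    refine ⟨⊥, by rw [Subgroup.card_bot, hm], fun K _ => ⟨1, ?_⟩⟩
    rw [Subgroup.eq_bot_of_subsingleton K]
    exact bot_le
  obtain ⟨M, hMn, hMbot, -, hMmin⟩ := exists_minimal_normal_le (N := (⊤ : Subgroup G)) top_ne_bot
  obtain ⟨p, hp, hMp⟩ := minimal_normal_solvable_isPGroup inferInstance hMbot hMmin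
  have := Fact.mk hp
  obtain ⟨k, hk⟩ := IsPGroup.iff_card.mp hMp
  have hk0 : k ≠ 0 := fun h => hMbot (Subgroup.card_eq_one.mp (by rw [hk, h, pow_zero]))
  have hM1 : M.index * Nat.card M = m * n := by rw [Subgroup.index_mul_card, hmn]
  have hnM : ∀ H : Subgroup G, H ≤ Subgroup.normalizer (M : Set G) :=
    fun H => by rw [Subgroup.normalizer_eq_top]; exact le_top
  have hsmall : M.index < Nat.card G := card_quotient_lt hMbot
  set f := QuotientGroup.mk' M with hf
  have hfs : Function.Surjective f := QuotientGroup.mk'_surjective M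
  have hcomap : ∀ H : Subgroup (G ⧸ M), Nat.card ↥(H.comap f) = Nat.card H * Nat.card M := by
    intro H
    have h1 := card_mul_relIndex (show M ≤ H.comap f from fun x hx => by
      show f x ∈ H
      rw [show f x = 1 from (QuotientGroup.eq_one_iff x).mpr hx]; exact one_mem _)
    rw [← h1, mul_comm]
    congr 1
    have hker : (⊥ : Subgroup (G ⧸ M)).comap f = M := by
      rw [MonoidHom.comap_bot]; exact QuotientGroup.ker_mk' M
    refine Eq.trans (congrArg (fun X : Subgroup G => X.relIndex (H.comap f)) hker.symm) ?_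
    rw [Subgroup.relIndex_comap, Subgroup.map_comap_eq_self_of_surjective hfs,
      Subgroup.relIndex_bot_left]
  have hup : ∀ (H : Subgroup (G ⧸ M)) (K : Subgroup G) (g : G),
      K.map f ≤ MulAut.conj (f g) • H → K ≤ MulAut.conj g • H.comap f := by
    intro H K g h x hx
    rw [mem_smul_conj, Subgroup.mem_comap]
    have := mem_smul_conj.mp (h (Subgroup.mem_map_of_mem f hx))
    simpa using this
  by_cases hpm : p ∣ m
  · have hMncop : (Nat.card M).Coprime n := by
      rw [hk]; exact ((hcop.coprime_dvd_left hpm)).pow_left k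
    obtain ⟨m', hm'⟩ : Nat.card M ∣ m :=
      hMncop.dvd_of_dvd_mul_right ⟨M.index, by rw [mul_comm _ M.index, hM1]⟩
    have hidx : M.index = m' * n := by
      refine Nat.eq_of_mul_eq_mul_left (Nat.card_pos (α := M)) ?_
      rw [mul_comm _ M.index, hM1, hm', mul_assoc]
    obtain ⟨H, hH, hHK⟩ := ih M.index hsmall (G ⧸ M) rfl m' n hidx
      (hcop.coprime_dvd_left ⟨_, hm'.trans (mul_comm _ _)⟩)
    refine ⟨H.comap f, by rw [hcomap, hH, hm', mul_comm], fun K hK => ?_⟩
    obtain ⟨g, hg⟩ := hHK (K.map f) (hK.coprime_dvd_left (Subgroup.card_map_dvd _ _))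
    obtain ⟨g, rfl⟩ := hfs g
    exact ⟨g, hup H K g hg⟩
  · have hMmcop : (Nat.card M).Coprime m := by
      rw [hk]; exact (hp.coprime_iff_not_dvd.mpr hpm).pow_left k
    obtain ⟨n', hn'⟩ : Nat.card M ∣ n :=
      hMmcop.dvd_of_dvd_mul_left ⟨M.index, by rw [mul_comm _ M.index, hM1]⟩
    have hidx : M.index = m * n' := by
      refine Nat.eq_of_mul_eq_mul_left (Nat.card_pos (α := M)) ?_
      rw [mul_comm _ M.index, hM1, hn']; ring
    obtain ⟨H, hH, hHK⟩ := ih M.index hsmall (G ⧸ M) rfl m n' hidx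
      (hcop.coprime_dvd_right ⟨_, hn'.trans (mul_comm _ _)⟩)
    set L := H.comap f
    have hLc : Nat.card L = m * Nat.card M := by rw [hcomap, hH]
    have hML : M ≤ L := fun x hx => by
      show f x ∈ H
      rw [show f x = 1 from (QuotientGroup.eq_one_iff x).mpr hx]; exact one_mem _
    have hidx' : (M.subgroupOf L).index = m :=
      Nat.eq_of_mul_eq_mul_left (Nat.card_pos (α := M))
        ((card_mul_relIndex hML).trans (hLc.trans (mul_comm _ _)))
    have cM := Nat.card_congr (Subgroup.subgroupOfEquivOfLe hML).toEquiv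
    obtain ⟨B, hB⟩ := Subgroup.exists_right_complement'_of_coprime (N := M.subgroupOf L)
      (by rw [hidx', cM]; exact hMmcop)
    have hBc : Nat.card ↥(B.map L.subtype) = m := by
      rw [Subgroup.card_map_of_injective (Subgroup.subtype_injective L)]
      refine Nat.eq_of_mul_eq_mul_left (Nat.card_pos (α := M.subgroupOf L)) ?_
      rw [hB.card_mul_card, cM, hLc, mul_comm]
    refine ⟨B.map L.subtype, hBc, fun K hK => ?_⟩
    obtain ⟨g, hg⟩ := hHK (K.map f) ((hK.coprime_dvd_left (Subgroup.card_map_dvd _ _)).coprime_dvd_right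
      ⟨_, hn'.trans (mul_comm _ _)⟩)
    obtain ⟨g, rfl⟩ := hfs g
    have hBL : B.map L.subtype ⊔ M = L := by
      refine Subgroup.eq_of_le_of_card_ge (sup_le (Subgroup.map_subtype_le B) hML) (le_of_eq ?_)
      rw [card_sup_coprime (hnM _) (by rw [hBc]; exact hMmcop.symm), hBc, hLc]
    set B' := MulAut.conj g • B.map L.subtype
    have hKL : K ≤ B' ⊔ M := by
      have := hup H K g hg
      rw [show H.comap f = L from rfl, ← hBL, Subgroup.smul_sup] at this
      rwa [mem_normalizer_iff_smul.mp (hnM ⊤ (Subgroup.mem_top g))] at this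
    set K' := B' ⊓ (K ⊔ M)
    have hK'c : Nat.card K' = Nat.card K := by
      have hsup : K' ⊔ M = K ⊔ M := by
        refine le_antisymm (sup_le inf_le_right le_sup_right) fun x hx => ?_
        have hx' : x ∈ ((B' ⊔ M : Subgroup G) : Set G) := sup_le hKL le_sup_right hx
        rw [Subgroup.mul_normal] at hx'
        obtain ⟨a, ha, b, hb, rfl⟩ := hx'
        refine Subgroup.mul_mem_sup ⟨ha, ?_⟩ hb
        simpa using (K ⊔ M).mul_mem hx ((K ⊔ M).inv_mem (Subgroup.mem_sup_right hb))
      have c1 : (Nat.card K').Coprime (Nat.card M) :=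
        (hMmcop.symm).coprime_dvd_left
          ((Subgroup.card_dvd_of_le inf_le_left).trans (by rw [card_conj_smul, hBc]))
      have c2 : (Nat.card K).Coprime (Nat.card M) :=
        hK.coprime_dvd_right ⟨_, hn'⟩
      have e1 := card_sup_coprime (hnM K') c1
      rw [hsup, card_sup_coprime (hnM K) c2] at e1
      exact (Nat.eq_of_mul_eq_mul_right Nat.card_pos e1).symm
    obtain ⟨a, -, ha⟩ := exists_conj_of_le_sup (N := M) (H := K) (K := K') (hnM K)
      (by rw [sup_comm]; exact inf_le_right) hK'c (hK.coprime_dvd_right ⟨_, hn'⟩).symm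
      (Or.inl inferInstance)
    refine ⟨a⁻¹ * g, ?_⟩
    rw [← conj_smul_conj_smul, map_inv, ← Subgroup.pointwise_smul_subset_iff, ha]
    exact inf_le_left

theorem exists_hall [Finite G] [Group.IsSolvable G] {m n : ℕ} (hG : Nat.card G = m * n)
    (hmn : m.Coprime n) : ∃ H : Subgroup G, Nat.card H = m :=
  let ⟨H, hH, _⟩ := hall_aux _ G rfl m n hG hmn
  ⟨H, hH⟩

theorem exists_conj_le_hall [Finite G] [Group.IsSolvable G] {m n : ℕ} (hG : Nat.card G = m * n)
    (hmn : m.Coprime n) {H K : Subgroup G} (hH : Nat.card H = m) (hK : (Nat.card K).Coprime n) :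
    ∃ g : G, K ≤ MulAut.conj g • H := by
  obtain ⟨H₀, hH₀, h⟩ := hall_aux _ G rfl m n hG hmn
  obtain ⟨a, ha⟩ := h H (by rw [hH]; exact hmn)
  obtain ⟨b, hb⟩ := h K hK
  have e : H = MulAut.conj a • H₀ :=
    Subgroup.eq_of_le_of_card_ge ha (by rw [card_conj_smul, hH₀, hH])
  refine ⟨b * a⁻¹, ?_⟩
  rwa [e, conj_smul_conj_smul, inv_mul_cancel_right]

theorem hall_conj [Finite G] [Group.IsSolvable G] {m n : ℕ} (hG : Nat.card G = m * n)
    (hmn : m.Coprime n) {H K : Subgroup G} (hH : Nat.card H = m) (hK : Nat.card K = m) :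
    ∃ g : G, MulAut.conj g • H = K := by
  obtain ⟨g, hg⟩ := exists_conj_le_hall hG hmn hH (by rw [hK]; exact hmn)
  exact ⟨g, (Subgroup.eq_of_le_of_card_ge hg (by rw [card_conj_smul, hH, hK])).symm⟩

end Cfsg.Agent.Grp
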