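import Mathlib
import Cfsg.Prelude.Def_OddOrderLocal
import Cfsg.Agent.Lib.Grp.Coprime
import Cfsg.Agent.Lib.Grp.Hall
import Cfsg.Agent.Lib.Grp.Solvable

/-!
Hall subgroups of solvable groups invariant under coprime action.
-/

namespace Cfsg.Agent.Grp.PiHall

open scoped Pointwise
open Subgroup

universe u

variable {X : Type u} [Group X] {π : Set ℕ}

/-- All prime divisors lie in the set. -/
def IsPiNum (π : Set ℕ) (n : ℕ) : Prop := ∀ p : ℕ, p.Prime → p ∣ n → p ∈ π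

theorem IsPiNum.mul {a b : ℕ} (ha : IsPiNum π a) (hb : IsPiNum π b) : IsPiNum π (a * b) :=
  fun p hp h => (hp.dvd_mul.mp h).elim (ha p hp) (hb p hp)

theorem IsPiNum.coprime {a b : ℕ} (ha : IsPiNum π a) (hb : ∀ p : ℕ, p.Prime → p ∈ π → ¬ p ∣ b) :
    a.Coprime b := Nat.coprime_of_dvd fun p hp h1 h2 => hb p hp (ha p hp h1) h2

theorem dvd_card [Finite X] {H G U : Subgroup X} (hH : Cfsg.IsPiHallOf π H G) (hU : U ≤ G)
    (hUπ : IsPiNum π (Nat.card U)) : Nat.card U ∣ Nat.card H := by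
  refine (IsPiNum.coprime hUπ hH.2.2).dvd_of_dvd_mul_right ?_
  rw [card_mul_relIndex hH.1]
  exact Subgroup.card_dvd_of_le hU

theorem card_eq [Finite X] {H K G : Subgroup X} (hH : Cfsg.IsPiHallOf π H G) (hK : Cfsg.IsPiHallOf π K G) :
    Nat.card H = Nat.card K :=
  Nat.dvd_antisymm (dvd_card hK hH.1 hH.2.1) (dvd_card hH hK.1 hK.2.1)

theorem smul {H G : Subgroup X} (hH : Cfsg.IsPiHallOf π H G) {g : X} (hg : MulAut.conj g • G = G) :
    Cfsg.IsPiHallOf π (MulAut.conj g • H) G := by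
  refine ⟨hg ▸ Subgroup.pointwise_smul_le_pointwise_smul_iff.mpr hH.1, ?_, ?_⟩
  · rw [card_conj_smul]; exact hH.2.1
  · rw [← hg, relIndex_smul]; exact hH.2.2

theorem exists_split (π : Set ℕ) : ∀ n : ℕ, n ≠ 0 → ∃ m k : ℕ, n = m * k ∧ IsPiNum π m ∧
    (∀ p : ℕ, p.Prime → p ∈ π → ¬ p ∣ k) := by
  classical
  intro n
  induction n using Nat.strong_induction_on with
  | _ n ih =>
  intro hn
  by_cases h1 : n = 1
  · exact ⟨1, 1, by simp [h1], fun p hp h => absurd (Nat.dvd_one.mp h) hp.one_lt.ne',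
      fun p hp _ h => absurd (Nat.dvd_one.mp h) hp.one_lt.ne'⟩
  obtain ⟨p, hp, c, rfl⟩ := Nat.exists_prime_and_dvd h1
  have hc : c ≠ 0 := fun h => hn (by simp [h])
  obtain ⟨m, k, rfl, hm, hk⟩ := ih c (lt_mul_of_one_lt_left (Nat.pos_of_ne_zero hc) hp.one_lt) hc
  by_cases hπ : p ∈ π
  · exact ⟨p * m, k, by ring, IsPiNum.mul (fun q hq h => (Nat.prime_dvd_prime_iff_eq hq hp).mp h ▸ hπ) hm, hk⟩
  · refine ⟨m, p * k, by ring, hm, fun q hq hqπ h => ?_⟩
    rcases hq.dvd_mul.mp h with h | h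
    · exact hπ ((Nat.prime_dvd_prime_iff_eq hq hp).mp h ▸ hqπ)
    · exact hk q hq hqπ h

theorem exists_piHall [Finite X] (π : Set ℕ) (G : Subgroup X) [Group.IsSolvable G] :
    ∃ H, Cfsg.IsPiHallOf π H G := by
  obtain ⟨m, k, e, hm, hk⟩ := exists_split π (Nat.card G) Nat.card_pos.ne'
  obtain ⟨H, hH⟩ := exists_hall e (IsPiNum.coprime hm hk)
  have hc : Nat.card (H.map G.subtype) = m := by rw [Subgroup.card_map_of_injective G.subtype_injective, hH]
  refine ⟨H.map G.subtype, Subgroup.map_subtype_le _, by rw [hc]; exact hm, fun p hp hπ h => hk p hp hπ ?_⟩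
  have h2 := card_mul_relIndex (Subgroup.map_subtype_le H)
  rw [hc, e] at h2
  rcases Nat.eq_zero_or_pos m with h0 | h0
  · rw [h0, zero_mul] at e; exact absurd e Nat.card_pos.ne'
  · rwa [← Nat.eq_of_mul_eq_mul_left h0 h2]

theorem dominate [Finite X] {H G U : Subgroup X} [Group.IsSolvable G] (hH : Cfsg.IsPiHallOf π H G)
    (hU : U ≤ G) (hUπ : IsPiNum π (Nat.card U)) : ∃ g ∈ G, U ≤ MulAut.conj g • H := by
  have hc : Nat.card (H.subgroupOf G) = Nat.card H := Nat.card_congr (Subgroup.subgroupOfEquivOfLe hH.1).toEquiv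
  obtain ⟨g, hg⟩ := exists_conj_le_hall (G := G) (m := Nat.card H) (n := H.relIndex G)
    (card_mul_relIndex hH.1).symm (IsPiNum.coprime hH.2.1 hH.2.2) hc (K := U.subgroupOf G)
    (by rw [Nat.card_congr (Subgroup.subgroupOfEquivOfLe hU).toEquiv]; exact IsPiNum.coprime hUπ hH.2.2)
  refine ⟨g, g.2, fun u hu => ?_⟩
  have h := hg (show (⟨u, hU hu⟩ : G) ∈ U.subgroupOf G from hu)
  rw [mem_smul_conj, Subgroup.mem_subgroupOf] at h
  exact mem_smul_conj.mpr h

theorem conj_eq [Finite X] {H K G : Subgroup X} [Group.IsSolvable G] (hH : Cfsg.IsPiHallOf π H G)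
    (hK : Cfsg.IsPiHallOf π K G) : ∃ g ∈ G, MulAut.conj g • H = K := by
  obtain ⟨g, hg, hle⟩ := dominate hH hK.1 hK.2.1
  exact ⟨g, hg, (Subgroup.eq_of_le_of_card_ge hle (by rw [card_conj_smul]; exact (card_eq hH hK).le)).symm⟩

theorem le_normalizer_of_conj_mem {A C : Subgroup X} (h : ∀ a ∈ A, ∀ x ∈ C, a * x * a⁻¹ ∈ C) :
    A ≤ Subgroup.normalizer (C : Set X) := fun a ha => Subgroup.mem_normalizer_iff.mpr fun x =>
  ⟨h a ha x, fun hx => by simpa [mul_assoc] using h a⁻¹ (inv_mem ha) _ hx⟩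

theorem subgroupOf_le_normalizer {A G : Subgroup X} (Y : Subgroup X)
    (h : A ≤ Subgroup.normalizer (G : Set X)) :
    A.subgroupOf Y ≤ Subgroup.normalizer (G.subgroupOf Y : Set Y) := fun x hx =>
  Subgroup.mem_normalizer_iff.mpr fun y => by
    simpa [Subgroup.mem_subgroupOf] using Subgroup.mem_normalizer_iff.mp (h hx) (y : X)

theorem exists_ge : ∀ (n : ℕ) (X : Type u) [Group X] [Finite X] (A G U : Subgroup X),
    Nat.card G = n → A ≤ Subgroup.normalizer (G : Set X) → (Nat.card A).Coprime (Nat.card G) →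
    Group.IsSolvable G → U ≤ G → A ≤ Subgroup.normalizer (U : Set X) → IsPiNum π (Nat.card U) →
    ∃ H, Cfsg.IsPiHallOf π H G ∧ A ≤ Subgroup.normalizer (H : Set X) ∧ U ≤ H := by
  intro n
  induction n using Nat.strong_induction_on with
  | _ n ih =>
  intro X _ _ A G U hn hAG hcop hsolv hUG hAU hUπ
  by_cases hG1 : G = ⊥
  · refine ⟨G, ⟨le_rfl, ?_, ?_⟩, hAG, hUG⟩
    · rw [hG1, Subgroup.card_bot]
      exact fun p hp h => absurd (Nat.dvd_one.mp h) hp.one_lt.ne'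
    · rw [Subgroup.relIndex_self]
      exact fun p hp _ h => absurd (Nat.dvd_one.mp h) hp.one_lt.ne'
  set Y := Subgroup.normalizer (G : Set X)
  have hGY : G ≤ Y := Subgroup.le_normalizer
  set G₁ := G.subgroupOf Y
  have : G₁.Normal := Subgroup.normal_in_normalizer
  have hG₁ : G₁ ≠ ⊥ := fun h => hG1 (by
    rw [← Subgroup.map_subgroupOf_eq_of_le hGY]; exact (congrArg _ h).trans (Subgroup.map_bot _))
  obtain ⟨M, hMn, hM1, hMG, hMmin⟩ := exists_minimal_normal_le hG₁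
  have hMs : Group.IsSolvable M := isSolvable_of_le hMG
    (isSolvable_of_injective (Subgroup.subgroupOfEquivOfLe hGY).toMonoidHom
      (Subgroup.subgroupOfEquivOfLe hGY).injective hsolv)
  obtain ⟨q, hq, hMq⟩ := minimal_normal_solvable_isPGroup hMs hM1 hMmin
  have := Fact.mk hq
  set f := QuotientGroup.mk' M
  set G' := G₁.map f
  set A' := (A.subgroupOf Y).map f
  set U' := (U.subgroupOf Y).map f
  have hcard : Nat.card M * Nat.card G' = Nat.card G := by
    rw [← Nat.card_congr (Subgroup.subgroupOfEquivOfLe hGY).toEquiv, ← card_mul_relIndex hMG]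
    congr 1
    have h := Subgroup.relIndex_comap ⊥ f G₁
    rw [MonoidHom.comap_bot, QuotientGroup.ker_mk', Subgroup.relIndex_bot_left] at h
    exact h.symm
  have hG'lt : Nat.card G' < n := by
    rw [← hn, ← hcard]
    exact lt_mul_of_one_lt_left Nat.card_pos ((Subgroup.one_lt_card_iff_ne_bot _).mpr hM1)
  have hdvd : ∀ V : Subgroup X, V ≤ Y → Nat.card ((V.subgroupOf Y).map f) ∣ Nat.card V := fun V hV =>
    (Subgroup.card_map_dvd _ f).trans (Nat.card_congr (Subgroup.subgroupOfEquivOfLe hV).toEquiv).dvd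
  obtain ⟨H', hH', hAH', hUH'⟩ := ih _ hG'lt _ A' G' U' rfl
    ((Subgroup.map_mono (subgroupOf_le_normalizer Y hAG)).trans (Subgroup.le_normalizer_map f))
    ((hcop.coprime_dvd_left (hdvd A hAG)).coprime_dvd_right (hdvd G hGY))
    (isSolvable_map (isSolvable_of_injective (Subgroup.subgroupOfEquivOfLe hGY).toMonoidHom
      (Subgroup.subgroupOfEquivOfLe hGY).injective hsolv) f)
    (Subgroup.map_mono (Subgroup.comap_mono hUG))
    ((Subgroup.map_mono (subgroupOf_le_normalizer Y hAU)).trans (Subgroup.le_normalizer_map f))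
    (fun p hp h => hUπ p hp (h.trans (hdvd U (hUG.trans hGY))))
  set L := (H'.comap f).map Y.subtype
  have hLG : L ≤ G := by
    rw [← Subgroup.map_subgroupOf_eq_of_le hGY]
    refine Subgroup.map_mono ((Subgroup.comap_mono hH'.1).trans ?_)
    rw [Subgroup.comap_map_eq_self (by rw [QuotientGroup.ker_mk']; exact hMG)]
  have hUL : U ≤ L := fun u hu => ⟨⟨u, hGY (hUG hu)⟩, hUH' (Subgroup.mem_map_of_mem f hu), rfl⟩
  have hAL : A ≤ Subgroup.normalizer (L : Set X) := fun a ha =>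
    Subgroup.le_normalizer_map Y.subtype ⟨⟨a, hAG ha⟩,
      Subgroup.le_normalizer_comap f (hAH' (Subgroup.mem_map_of_mem f ha)), rfl⟩
  have hidx : L.relIndex G = H'.relIndex G' := by
    conv_lhs => rw [← Subgroup.map_subgroupOf_eq_of_le hGY]
    rw [Subgroup.relIndex_map_map_of_injective _ _ Y.subtype_injective, Subgroup.relIndex_comap]
  rcases Nat.lt_or_ge (Nat.card L) n with hlt | hge
  · obtain ⟨H, hH, hAH, hUH⟩ := ih _ hlt X A L U rfl hAL
      (hcop.coprime_dvd_right (Subgroup.card_dvd_of_le hLG)) (isSolvable_of_le hLG hsolv) hUL hAU hUπ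
    refine ⟨H, ⟨hH.1.trans hLG, hH.2.1, fun p hp hπ h => ?_⟩, hAH, hUH⟩
    rw [← Subgroup.relIndex_mul_relIndex H L G hH.1 hLG, hp.dvd_mul] at h
    rcases h with h | h
    · exact hH.2.2 p hp hπ h
    · rw [hidx] at h; exact hH'.2.2 p hp hπ h
  have hLeq : L = G := Subgroup.eq_of_le_of_card_ge hLG (hn ▸ hge)
  have hG'π : IsPiNum π (Nat.card G') := by
    have h1 : H'.relIndex G' = 1 := by rw [← hidx, hLeq, Subgroup.relIndex_self]
    rw [← card_mul_relIndex hH'.1, h1, mul_one]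
    exact hH'.2.1
  obtain ⟨j, hj⟩ := IsPGroup.iff_card.mp hMq
  by_cases hqπ : q ∈ π
  · refine ⟨G, ⟨le_rfl, ?_, ?_⟩, hAG, hUG⟩
    · rw [← hcard]
      exact IsPiNum.mul (fun p hp h => (Nat.prime_dvd_prime_iff_eq hp hq).mp
        (hp.dvd_of_dvd_pow (hj ▸ h)) ▸ hqπ) hG'π
    · rw [Subgroup.relIndex_self]
      exact fun p hp _ h => absurd (Nat.dvd_one.mp h) hp.one_lt.ne'
  set N := M.map Y.subtype
  have hNG : N ≤ G := by
    rw [← Subgroup.map_subgroupOf_eq_of_le hGY]; exact Subgroup.map_mono hMG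
  have hNc : Nat.card N = Nat.card M := Subgroup.card_map_of_injective Y.subtype_injective
  have hYN : Y ≤ Subgroup.normalizer (N : Set X) := by
    refine le_normalizer_of_conj_mem ?_
    rintro a ha _ ⟨m, hm, rfl⟩
    exact ⟨_, hMn.conj_mem m hm ⟨a, ha⟩, rfl⟩
  set K := N ⊓ Subgroup.centralizer (U : Set X)
  have hAK : A ≤ Subgroup.normalizer (K : Set X) := by
    refine le_normalizer_of_conj_mem fun a ha x hx => ⟨?_, Subgroup.mem_centralizer_iff.mpr fun u hu => ?_⟩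
    · exact (Subgroup.mem_normalizer_iff.mp (hYN (hAG ha)) x).mp hx.1
    · have hu' : a⁻¹ * u * a ∈ U := (Subgroup.mem_normalizer_iff''.mp (hAU ha) u).mp hu
      have hc := Subgroup.mem_centralizer_iff.mp hx.2 _ hu'
      calc u * (a * x * a⁻¹) = a * (a⁻¹ * u * a * x) * a⁻¹ := by group
        _ = a * (x * (a⁻¹ * u * a)) * a⁻¹ := by rw [hc]
        _ = a * x * a⁻¹ * u := by group
  let _ := conjActSubgroup X
  have hsG : Group.IsSolvable G := hsolv
  obtain ⟨H0, hH0⟩ := exists_piHall π G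
  obtain ⟨g, hg, hUg⟩ := dominate hH0 hUG hUπ
  have htr : ∀ H₁ ∈ {H : Subgroup X | Cfsg.IsPiHallOf π H G ∧ U ≤ H}, ∀ H₂ ∈ {H : Subgroup X | Cfsg.IsPiHallOf π H G ∧ U ≤ H},
      ∃ k ∈ K, k • H₁ = H₂ := by
    rintro H₁ ⟨hH₁, hU₁⟩ H₂ ⟨hH₂, hU₂⟩
    obtain ⟨g, hg, hgH⟩ := conj_eq hH₁ hH₂
    have hcopH : (Nat.card H₁).Coprime (Nat.card N) := IsPiNum.coprime hH₁.2.1 fun p hp hπ h => by
      rw [hNc, hj] at h
      exact hqπ ((Nat.prime_dvd_prime_iff_eq hp hq).mp (hp.dvd_of_dvd_pow h) ▸ hπ)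
    have hHN : H₁ ≤ Subgroup.normalizer (N : Set X) := (hH₁.1.trans hGY).trans hYN
    have hsup : N ⊔ H₁ = G := by
      refine Subgroup.eq_of_le_of_card_ge (sup_le hNG hH₁.1) ?_
      rw [sup_comm, card_sup_coprime hHN hcopH, ← hcard, hNc, mul_comm (Nat.card H₁)]
      refine Nat.mul_le_mul_left _ (Nat.le_of_dvd Nat.card_pos ?_)
      refine (IsPiNum.coprime hG'π hH₁.2.2).dvd_of_dvd_mul_right ?_
      rw [card_mul_relIndex hH₁.1, ← hcard]
      exact dvd_mul_left _ _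
    have hg' : g ∈ ((N ⊔ H₁ : Subgroup X) : Set X) := by rw [hsup]; exact hg
    rw [Subgroup.coe_mul_of_right_le_normalizer_left N H₁ hHN] at hg'
    obtain ⟨k, hk, h, hh, rfl⟩ := hg'
    refine ⟨k, ⟨hk, Subgroup.mem_centralizer_iff.mpr fun u hu => ?_⟩, ?_⟩
    swap
    · show MulAut.conj k • H₁ = H₂
      rw [← hgH, map_mul, mul_smul, conj_smul_eq_self_of_mem hh]
    have h1 : k⁻¹ * u * k ∈ H₁ := by
      have := hU₂ hu
      rw [← hgH, map_mul, mul_smul, conj_smul_eq_self_of_mem hh, mem_smul_conj] at this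
      exact this
    have h2 : u⁻¹ * (k⁻¹ * u * k) ∈ H₁ ⊓ N := ⟨H₁.mul_mem (H₁.inv_mem (hU₁ hu)) h1, by
      have := (Subgroup.mem_normalizer_iff''.mp (hYN (hGY (hUG hu))) k⁻¹).mp (N.inv_mem hk)
      simpa [mul_assoc] using N.mul_mem this hk⟩
    rw [inf_eq_bot_of_coprime hcopH, Subgroup.mem_bot, inv_mul_eq_one] at h2
    calc u * k = k * (k⁻¹ * u * k) := by group
      _ = k * u := by rw [← h2]
  obtain ⟨H, ⟨hH, hUH⟩, hfix⟩ := exists_fixed_point A K {H : Subgroup X | Cfsg.IsPiHallOf π H G ∧ U ≤ H} hAK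
    (hcop.coprime_dvd_right (Subgroup.card_dvd_of_le (inf_le_left.trans hNG)))
    (Or.inr (isSolvable_of_le (inf_le_left.trans hNG) hsolv))
    ⟨_, smul hH0 (conj_smul_eq_self_of_mem hg), hUg⟩
    (fun a ha H hH => ⟨smul hH.1 (normalizer_le_smul hAG ha),
      normalizer_le_smul hAU ha ▸ Subgroup.pointwise_smul_le_pointwise_smul_iff.mpr hH.2⟩)
    (fun k hk H hH => ⟨smul hH.1 (conj_smul_eq_self_of_mem (hNG hk.1)),
      mem_normalizer_iff_smul.mp (Subgroup.centralizer_le_normalizer _ hk.2) ▸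
        Subgroup.pointwise_smul_le_pointwise_smul_iff.mpr hH.2⟩) htr
  exact ⟨H, hH, fun a ha => mem_normalizer_iff_smul.mpr (hfix a ha), hUH⟩

theorem centralizer_conj [Finite X] {A G H₁ H₂ : Subgroup X} [Group.IsSolvable G]
    (hAG : A ≤ Subgroup.normalizer (G : Set X)) (hcop : (Nat.card A).Coprime (Nat.card G))
    (h₁ : Cfsg.IsPiHallOf π H₁ G) (hA₁ : A ≤ Subgroup.normalizer (H₁ : Set X))
    (h₂ : Cfsg.IsPiHallOf π H₂ G) (hA₂ : A ≤ Subgroup.normalizer (H₂ : Set X)) :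
    ∃ c ∈ G ⊓ Subgroup.centralizer (A : Set X), MulAut.conj c • H₁ = H₂ := by
  let _ := conjActSubgroup X
  exact exists_centralizer_smul A G {H : Subgroup X | Cfsg.IsPiHallOf π H G} hAG hcop (Or.inr ‹_›)
    (fun H hH H' hH' => conj_eq hH hH') h₁ h₂ (fun a ha => normalizer_le_smul hA₁ ha)
    (fun a ha => normalizer_le_smul hA₂ ha)

end Cfsg.Agent.Grp.PiHall
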