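import Mathlib
import Cfsg.Prelude.Def_Perm
import Cfsg.Agent.S3360
import Cfsg.Agent.Lib.Grp.Cores
import Cfsg.Agent.Lib.Grp.CoprimeHall

/-!
Solvable groups acting on an elementary abelian group, transitively on subgroups of order `p` and
`p ^ 2`: semilinear of dimension 3, or of dimension 5 over two elements.
-/

set_option autoImplicit false
set_option linter.unusedSectionVars false

namespace Cfsg.Agent.Grp.SubspaceTrans

open scoped Pointwise

variable {p : ℕ} [hp : Fact p.Prime] {V : Type*} [CommGroup V] [Finite V]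

theorem card_pairs {n : ℕ} (hV : ∀ v : V, v ^ p = 1) (hn : Nat.card V = p ^ n) :
    Nat.card {W : Subgroup V // Nat.card W = p ^ 2} * ((p ^ 2 - 1) * (p ^ 2 - p)) =
      (p ^ n - 1) * (p ^ n - p) := by
  classical
  haveI := Fintype.ofFinite V
  have hord : ∀ x : V, x ≠ 1 → Nat.card (Subgroup.zpowers x) = p := fun x hx => by
    rw [Nat.card_zpowers]
    exact orderOf_eq_prime (hV x) hx
  have hcount : ∀ W : Subgroup V,
      Nat.card (Σ x : {x : V // x ∈ W ∧ x ≠ 1}, {y : V // y ∈ W ∧ y ∉ Subgroup.zpowers (x : V)}) =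
        (Nat.card W - 1) * (Nat.card W - p) := by
    intro W
    have h1 : ∀ x : {x : V // x ∈ W ∧ x ≠ 1},
        Nat.card {y : V // y ∈ W ∧ y ∉ Subgroup.zpowers (x : V)} = Nat.card W - p := by
      intro x
      rw [Nat.card_eq_fintype_card, Fintype.card_subtype, ← hord x x.2.2,
        Nat.card_eq_fintype_card (α := W), Nat.card_eq_fintype_card (α := Subgroup.zpowers (x : V)),
        Fintype.card_subtype, Fintype.card_subtype,
        ← Finset.card_sdiff_of_subset (fun y hy => by
          simp only [Finset.mem_filter, Finset.mem_univ, true_and] at hy ⊢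
          exact Subgroup.zpowers_le.mpr x.2.1 hy)]
      congr 1
      ext y
      simp
    have h2 : Nat.card {x : V // x ∈ W ∧ x ≠ 1} = Nat.card W - 1 := by
      rw [Nat.card_eq_fintype_card, Fintype.card_subtype, Nat.card_eq_fintype_card (α := W),
        Fintype.card_subtype, ← Finset.card_erase_of_mem (a := (1 : V)) (by simp)]
      congr 1
      ext y
      simp [and_comm]
    haveI := Fintype.ofFinite {x : V // x ∈ W ∧ x ≠ 1}
    rw [Nat.card_sigma, Finset.sum_congr rfl fun x _ => h1 x, Finset.sum_const, Finset.card_univ,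
      ← Nat.card_eq_fintype_card, h2, smul_eq_mul]
  have htop := hcount ⊤
  rw [Subgroup.card_top, hn] at htop
  rw [← htop]
  have hspan : ∀ q : Σ x : {x : V // x ∈ (⊤ : Subgroup V) ∧ x ≠ 1},
      {y : V // y ∈ (⊤ : Subgroup V) ∧ y ∉ Subgroup.zpowers (x : V)},
      Nat.card ↥(Subgroup.zpowers (q.1 : V) ⊔ Subgroup.zpowers (q.2 : V)) = p ^ 2 := by
    rintro ⟨⟨x, -, hx⟩, ⟨y, -, hy⟩⟩
    have hdisj : Subgroup.zpowers x ⊓ Subgroup.zpowers y = ⊥ := by
      have hy1 : y ≠ 1 := fun e => hy (by rw [e]; exact one_mem _)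
      haveI : Fact (Nat.card (Subgroup.zpowers y)).Prime := ⟨(hord y hy1).symm ▸ hp.out⟩
      rcases ((Subgroup.zpowers x).subgroupOf (Subgroup.zpowers y)).eq_bot_or_eq_top_of_prime_card with h | h
      · exact disjoint_iff.mp (Subgroup.subgroupOf_eq_bot.mp h)
      · exact absurd (Subgroup.subgroupOf_eq_top.mp h (Subgroup.mem_zpowers y)) hy
    show Nat.card ↥(Subgroup.zpowers x ⊔ Subgroup.zpowers y) = p ^ 2
    have hy1 : y ≠ 1 := fun e => hy (by rw [e]; exact one_mem _)
    have h := card_sup_mul_card_inf_normal (H := Subgroup.zpowers x) (N := Subgroup.zpowers y)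
    rw [hdisj, Subgroup.card_bot, mul_one, hord x hx, hord y hy1, ← pow_two] at h
    exact h
  let g : (Σ x : {x : V // x ∈ (⊤ : Subgroup V) ∧ x ≠ 1},
      {y : V // y ∈ (⊤ : Subgroup V) ∧ y ∉ Subgroup.zpowers (x : V)}) →
      {W : Subgroup V // Nat.card W = p ^ 2} := fun q => ⟨_, hspan q⟩
  haveI := Fintype.ofFinite {W : Subgroup V // Nat.card W = p ^ 2}
  rw [Nat.card_congr (Equiv.sigmaFiberEquiv g).symm, Nat.card_sigma,
    Finset.sum_congr rfl (g := fun _ => (p ^ 2 - 1) * (p ^ 2 - p)), Finset.sum_const, Finset.card_univ,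
    smul_eq_mul, ← Nat.card_eq_fintype_card]
  rintro ⟨W, hW⟩ -
  refine Eq.trans ?_ ((hcount W).trans (by rw [hW]))
  refine Nat.card_congr
    { toFun := fun q => ⟨⟨q.1.1.1, ?_, q.1.1.2.2⟩, ⟨q.1.2.1, ?_, q.1.2.2.2⟩⟩
      invFun := fun q => ⟨⟨⟨q.1.1, trivial, q.1.2.2⟩, ⟨q.2.1, trivial, q.2.2.2⟩⟩, ?_⟩
      left_inv := fun _ => rfl
      right_inv := fun _ => rfl }
  · have h := congrArg Subtype.val q.2
    change Subgroup.zpowers (q.1.1 : V) ⊔ Subgroup.zpowers (q.1.2 : V) = W at h
    exact (SetLike.ext_iff.mp h _).mp (Subgroup.mem_sup_left (Subgroup.mem_zpowers _))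
  · have h := congrArg Subtype.val q.2
    change Subgroup.zpowers (q.1.1 : V) ⊔ Subgroup.zpowers (q.1.2 : V) = W at h
    exact (SetLike.ext_iff.mp h _).mp (Subgroup.mem_sup_right (Subgroup.mem_zpowers _))
  · refine Subtype.ext (Subgroup.eq_of_le_of_card_ge
      (sup_le (Subgroup.zpowers_le.mpr q.1.2.1) (Subgroup.zpowers_le.mpr q.2.2.1)) ?_)
    rw [hW]
    exact (hspan ⟨⟨q.1.1, trivial, q.1.2.2⟩, ⟨q.2.1, trivial, q.2.2.2⟩⟩).ge

/-- `G` acts semilinearly through `e`. -/
def Semi {F : Type} [Field F] (G : Subgroup (MulAut V)) (e : Additive V ≃+ F) : Prop :=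
  ∀ g ∈ G, ∃ (a : Fˣ) (σ : F ≃+* F), ∀ v : V,
    e (Additive.ofMul (g v)) = (a : F) * σ (e (Additive.ofMul v))

theorem Semi.pow_eq {F : Type} [Field F] {e : Additive V ≃+ F} {g : MulAut V} {a : Fˣ} {σ : F ≃+* F}
    (h : ∀ v : V, e (Additive.ofMul (g v)) = (a : F) * σ (e (Additive.ofMul v))) :
    ∀ k : ℕ, ∃ b : Fˣ, ∀ v : V,
      e (Additive.ofMul ((g ^ k) v)) = (b : F) * (σ ^ k) (e (Additive.ofMul v)) := by
  intro k
  induction k with
  | zero => exact ⟨1, fun v => by simp⟩
  | succ k ih =>
    obtain ⟨b, hb⟩ := ih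
    refine ⟨a * Units.map (σ : F →* F) b, fun v => ?_⟩
    rw [pow_succ', MulAut.mul_apply, h, hb, map_mul, pow_succ']
    simp [mul_assoc]

theorem card_ringAut (n : ℕ) (hn : n ≠ 0) :
    Nat.card (GaloisField p n ≃+* GaloisField p n) = n := by
  have h : Nat.card (GaloisField p n ≃ₐ[ZMod p] GaloisField p n) = n := by
    rw [IsGalois.card_aut_eq_finrank, GaloisField.finrank p hn]
  conv_rhs => rw [← h]
  refine Nat.card_congr
    { toFun := fun σ => AlgEquiv.ofRingEquiv (f := σ) fun x =>
        RingHom.congr_fun (RingHom.ext_zmod (σ.toRingHom.comp (algebraMap (ZMod p) _)) (algebraMap (ZMod p) _)) x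
      invFun := fun σ => σ.toRingEquiv
      left_inv := fun σ => by ext; rfl
      right_inv := fun σ => by ext; rfl }

theorem card_semiaffine_le (n : ℕ) (hn : n ≠ 0) :
    Nat.card ↥(Cfsg.semiaffineGroup (GaloisField p n)) ≤ p ^ n * ((p ^ n - 1) * n) := by
  have hmem : ∀ s : ↥(Cfsg.semiaffineGroup (GaloisField p n)), ∃ (a : (GaloisField p n)ˣ)
      (b : GaloisField p n) (φ : GaloisField p n ≃+* GaloisField p n),
      ∀ x, (s : Equiv.Perm (GaloisField p n)) x = (a : GaloisField p n) * φ x + b := fun s => s.2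
  choose A B Φ hs using hmem
  let f : ↥(Cfsg.semiaffineGroup (GaloisField p n)) →
      GaloisField p n × (GaloisField p n)ˣ × (GaloisField p n ≃+* GaloisField p n) :=
    fun s => (B s, A s, Φ s)
  have hf : Function.Injective f := fun s t h => by
    simp only [f, Prod.mk.injEq] at h
    refine Subtype.ext (Equiv.ext fun x => ?_)
    rw [hs, hs, h.1, h.2.1, h.2.2]
  haveI : Finite (GaloisField p n) := Nat.finite_of_card_ne_zero (by rw [GaloisField.card p n hn]; exact pow_ne_zero _ hp.out.ne_zero)
  haveI : Finite (GaloisField p n ≃+* GaloisField p n) := Nat.finite_of_card_ne_zero (by rw [card_ringAut n hn]; exact hn)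
  refine (Nat.card_le_card_of_injective f hf).trans (le_of_eq ?_)
  rw [Nat.card_prod, Nat.card_prod, GaloisField.card p n hn, Nat.card_units, GaloisField.card p n hn,
    card_ringAut n hn]

theorem card_affine_le (n : ℕ) (hn : n ≠ 0) :
    Nat.card ↥(Cfsg.affineGroup (GaloisField p n)) ≤ p ^ n * (p ^ n - 1) := by
  have hmem : ∀ s : ↥(Cfsg.affineGroup (GaloisField p n)), ∃ (a : (GaloisField p n)ˣ)
      (b : GaloisField p n), ∀ x, (s : Equiv.Perm (GaloisField p n)) x = (a : GaloisField p n) * x + b :=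
    fun s => s.2
  choose A B hs using hmem
  let f : ↥(Cfsg.affineGroup (GaloisField p n)) → GaloisField p n × (GaloisField p n)ˣ :=
    fun s => (B s, A s)
  have hf : Function.Injective f := fun s t h => by
    simp only [f, Prod.mk.injEq] at h
    refine Subtype.ext (Equiv.ext fun x => ?_)
    rw [hs, hs, h.1, h.2]
  haveI : Finite (GaloisField p n) := Nat.finite_of_card_ne_zero (by rw [GaloisField.card p n hn]; exact pow_ne_zero _ hp.out.ne_zero)
  refine (Nat.card_le_card_of_injective f hf).trans (le_of_eq ?_)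
  rw [Nat.card_prod, GaloisField.card p n hn, Nat.card_units, GaloisField.card p n hn]

/-- The scalar automorphisms. -/
def scal (hV : ∀ v : V, v ^ p = 1) : (ZMod p)ˣ →* MulAut V where
  toFun c :=
    { toFun := fun v => v ^ (c : ZMod p).val
      invFun := fun v => v ^ ((c⁻¹ : (ZMod p)ˣ) : ZMod p).val
      left_inv := fun v => by
        show (v ^ _) ^ _ = v
        rw [← pow_mul, pow_eq_pow_mod _ (hV v), ← ZMod.val_mul, ← Units.val_mul, mul_inv_cancel,
          Units.val_one, ZMod.val_one, pow_one]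
      right_inv := fun v => by
        show (v ^ _) ^ _ = v
        rw [← pow_mul, pow_eq_pow_mod _ (hV v), ← ZMod.val_mul, ← Units.val_mul, inv_mul_cancel,
          Units.val_one, ZMod.val_one, pow_one]
      map_mul' := fun v w => mul_pow v w _ }
  map_one' := MulEquiv.ext fun v => by
    show v ^ ((1 : (ZMod p)ˣ) : ZMod p).val = v
    rw [Units.val_one, ZMod.val_one, pow_one]
  map_mul' c d := MulEquiv.ext fun v => by
    show v ^ ((c * d : (ZMod p)ˣ) : ZMod p).val = (v ^ (d : ZMod p).val) ^ (c : ZMod p).val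
    rw [← pow_mul, Units.val_mul, ZMod.val_mul, ← pow_eq_pow_mod _ (hV v), mul_comm]

theorem scal_injective (hV : ∀ v : V, v ^ p = 1) [Nontrivial V] : Function.Injective (scal hV) := by
  intro c d h
  obtain ⟨v, hv⟩ := exists_ne (1 : V)
  have h' : v ^ (c : ZMod p).val = v ^ (d : ZMod p).val := DFunLike.congr_fun h v
  exact Units.ext (ZMod.val_injective p (pow_injOn_Iio_orderOf
    (by rw [Set.mem_Iio, orderOf_eq_prime (hV v) hv]; exact ZMod.val_lt _)
    (by rw [Set.mem_Iio, orderOf_eq_prime (hV v) hv]; exact ZMod.val_lt _) h'))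

theorem planes_dvd {n : ℕ} (hn2 : 2 ≤ n) (hn : Nat.card V = p ^ n) (G : Subgroup (MulAut V))
    (hplanes : ∀ A B : Subgroup V, Nat.card A = p ^ 2 → Nat.card B = p ^ 2 →
      ∃ g ∈ G, A.map g.toMonoidHom = B)
    (Z : Subgroup (MulAut V)) (hZ : Z ≤ G)
    (hZfix : ∀ z ∈ Z, ∀ A : Subgroup V, A.map z.toMonoidHom = A) :
    Nat.card {W : Subgroup V // Nat.card W = p ^ 2} * Nat.card Z ∣ Nat.card G := by
  haveI : Finite (MulAut V) := Finite.of_injective (fun g : MulAut V => g.toEquiv) fun a b h => MulEquiv.ext fun v => Equiv.congr_fun h v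
  letI : MulAction G {W : Subgroup V // Nat.card W = p ^ 2} :=
    { smul := fun g W => ⟨W.1.map (g : MulAut V).toMonoidHom,
        (Subgroup.card_map_of_injective (g : MulAut V).injective).trans W.2⟩
      one_smul := fun W => Subtype.ext (Subgroup.map_id W.1)
      mul_smul := fun g h W => Subtype.ext (Subgroup.map_map W.1 (g : MulAut V).toMonoidHom (h : MulAut V).toMonoidHom).symm }
  obtain ⟨W₀, hW₀⟩ := Sylow.exists_subgroup_card_pow_prime (G := V) p (n := 2) (hn ▸ pow_dvd_pow p hn2)
  set W : {W : Subgroup V // Nat.card W = p ^ 2} := ⟨W₀, hW₀⟩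
  have horb : MulAction.orbit G W = Set.univ := by
    ext B
    simp only [Set.mem_univ, iff_true]
    obtain ⟨g, hg, e⟩ := hplanes W₀ B.1 hW₀ B.2
    exact ⟨⟨g, hg⟩, Subtype.ext e⟩
  have h1 : Nat.card {W : Subgroup V // Nat.card W = p ^ 2} = (MulAction.stabilizer G W).index := by
    rw [MulAction.index_stabilizer, horb, Set.ncard_univ]
  rw [h1, ← (MulAction.stabilizer G W).index_mul_card]
  refine mul_dvd_mul_left _ ?_
  rw [← Nat.card_congr (Subgroup.subgroupOfEquivOfLe hZ).toEquiv]
  refine Subgroup.card_dvd_of_le fun z hz => ?_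
  exact Subtype.ext (hZfix z (Subgroup.mem_subgroupOf.mp hz) W₀)

/-- The main structure theorem. -/
theorem main {n : ℕ} (hn3 : 3 ≤ n) (hV : ∀ v : V, v ^ p = 1) (hn : Nat.card V = p ^ n)
    (Hb : Subgroup (MulAut V)) (hsol : Group.IsSolvable Hb)
    (hlines : ∀ A B : Subgroup V, Nat.card A = p → Nat.card B = p → ∃ g ∈ Hb, A.map g.toMonoidHom = B)
    (hplanes : ∀ A B : Subgroup V, Nat.card A = p ^ 2 → Nat.card B = p ^ 2 →
      ∃ g ∈ Hb, A.map g.toMonoidHom = B) :
    (n = 3 ∨ (n = 5 ∧ p = 2)) ∧
      (p = 2 → n = 3 → 7 ∣ Nat.card Hb) ∧ (p = 2 → n = 5 → 155 ≤ Nat.card Hb) ∧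
      ∃ e : Additive V ≃+ GaloisField p n, Semi Hb e := by
  classical
  have h2p := hp.out.two_le
  haveI : Finite (MulAut V) := Finite.of_injective (fun g : MulAut V => g.toEquiv) fun a b h => MulEquiv.ext fun v => Equiv.congr_fun h v
  haveI : Nontrivial V := Finite.one_lt_card_iff_nontrivial.mp (by
    rw [hn]; exact Nat.one_lt_pow (by omega) hp.out.one_lt)
  set Z := (scal hV).range with hZdef
  have hZc : ∀ z ∈ Z, ∀ g : MulAut V, z * g = g * z := by
    rintro _ ⟨c, rfl⟩ g
    exact MulEquiv.ext fun v => (map_pow g v _).symm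
  set G := Hb ⊔ Z
  have hZn : Hb ≤ Subgroup.normalizer (Z : Set (MulAut V)) := fun g _ => by
    rw [Subgroup.mem_normalizer_iff]
    intro z
    constructor
    · intro hz; rwa [← hZc z hz g, mul_inv_cancel_right]
    · intro hz
      have : g * z * g⁻¹ = z := by
        have := hZc _ hz g⁻¹
        have h2 : g⁻¹ * (g * z * g⁻¹) * g = g * z * g⁻¹ := by rw [← this]; group
        rw [← h2]; group
      rwa [this] at hz
  have hGsol : Group.IsSolvable G := by
    haveI := hsol
    haveI : IsMulCommutative Z := ⟨⟨fun z w => Subtype.ext (hZc z z.2 w)⟩⟩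
    haveI : Group.IsSolvable Z := Group.isSolvable_of_comm fun a b => IsMulCommutative.is_comm.comm a b
    let μ : Hb × Z →* G :=
      { toFun := fun x => ⟨(x.1 : MulAut V) * x.2, mul_mem (Subgroup.mem_sup_left x.1.2) (Subgroup.mem_sup_right x.2.2)⟩
        map_one' := Subtype.ext (mul_one _)
        map_mul' := fun x y => Subtype.ext (by
          show (x.1 : MulAut V) * y.1 * (x.2 * y.2) = x.1 * x.2 * (y.1 * y.2)
          rw [mul_assoc, ← mul_assoc (y.1 : MulAut V), ← hZc x.2 x.2.2 y.1]
          simp only [mul_assoc]) }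
    refine Group.isSolvable_of_surjective (f := μ) fun g => ?_
    have hg : (g : MulAut V) ∈ (((Hb ⊔ Z : Subgroup (MulAut V))) : Set (MulAut V)) := g.2
    rw [Subgroup.coe_mul_of_left_le_normalizer_right Hb Z hZn] at hg
    obtain ⟨x, hx, z, hz, e⟩ := hg
    exact ⟨(⟨x, hx⟩, ⟨z, hz⟩), Subtype.ext e⟩
  -- transitivity on nontrivial elements
  have htrans : ∀ v w : V, v ≠ 1 → w ≠ 1 → ∃ g ∈ G, g v = w := by
    intro v w hv hw
    have hc : ∀ x : V, x ≠ 1 → Nat.card (Subgroup.zpowers x) = p := fun x hx => by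
      rw [Nat.card_zpowers]; exact orderOf_eq_prime (hV x) hx
    obtain ⟨g, hg, e⟩ := hlines _ _ (hc v hv) (hc w hw)
    have hwg : g v ∈ Subgroup.zpowers w := e ▸ ⟨v, Subgroup.mem_zpowers v, rfl⟩
    obtain ⟨i, hi⟩ := (isOfFinOrder_of_finite w).mem_powers_iff_mem_zpowers.mpr hwg
    have hi' : w ^ i = g v := hi
    have hpi : ¬ p ∣ i := by
      rintro ⟨k, rfl⟩
      rw [pow_mul, hV, one_pow] at hi'
      exact hv (g.injective (hi'.symm.trans (map_one g).symm))
    let c : (ZMod p)ˣ := ZMod.unitOfCoprime i ((hp.out.coprime_iff_not_dvd).mpr hpi).symm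
    refine ⟨scal hV c⁻¹ * g, mul_mem (Subgroup.mem_sup_right ⟨_, rfl⟩) (Subgroup.mem_sup_left hg), ?_⟩
    have h1 : scal hV c w = g v := by
      show w ^ (c : ZMod p).val = g v
      rw [← hi', ZMod.coe_unitOfCoprime, ZMod.val_natCast, ← pow_eq_pow_mod _ (hV w)]
    show scal hV c⁻¹ (g v) = w
    rw [← h1, ← MulAut.mul_apply, ← map_mul, inv_mul_cancel, map_one, MulAut.one_apply]
  have hZfix : ∀ z ∈ Z, ∀ A : Subgroup V, A.map z.toMonoidHom = A := by
    rintro _ ⟨c, rfl⟩ A
    refine Subgroup.eq_of_le_of_card_ge ?_ (Subgroup.card_map_of_injective (scal hV c).injective).ge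
    rintro _ ⟨v, hv, rfl⟩
    exact A.pow_mem hv _
  have hGdvd := planes_dvd (by omega : 2 ≤ n) hn G (fun A B hA hB => by
    obtain ⟨g, hg, e⟩ := hplanes A B hA hB
    exact ⟨g, Subgroup.mem_sup_left hg, e⟩) Z le_sup_right hZfix
  have hZcard : Nat.card Z = p - 1 := by
    rw [hZdef, ← Nat.card_congr (MonoidHom.ofInjective (scal_injective hV)).toEquiv, Nat.card_units,
      Nat.card_zmod]
  have hcnt := card_pairs hV hn
  set P := Nat.card {W : Subgroup V // Nat.card W = p ^ 2}
  rw [hZcard] at hGdvd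
  -- Huppert
  haveI : Module (ZMod p) (Additive V) := AddCommGroup.zmodModule fun x => hV (Additive.toMul x)
  let L : G → (Additive V ≃ₗ[ZMod p] Additive V) := fun g =>
    { (MulEquiv.toAdditive (g : MulAut V)) with
      map_smul' := fun c x => ZMod.map_smul (MulEquiv.toAdditive (g : MulAut V)).toAddMonoidHom c x }
  let ρ : G →* (Additive V ≃ₗ[ZMod p] Additive V) := MonoidHom.mk' L fun g h => LinearEquiv.ext fun x => by
    show Additive.ofMul (((g * h : G) : MulAut V) (Additive.toMul x)) = _
    rfl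
  have hρ : ∀ (g : G) (v : V), ρ g (Additive.ofMul v) = Additive.ofMul ((g : MulAut V) v) := fun _ _ => rfl
  have hρi : Function.Injective ρ := fun g h e => Subtype.ext (MulEquiv.ext fun v => by
    have := LinearEquiv.congr_fun e (Additive.ofMul v)
    rwa [hρ, hρ, Additive.ofMul.injective.eq_iff] at this)
  haveI : Nontrivial (Additive V) := Additive.toMul.nontrivial
  have hHup := Cfsg.Agent.S3360.result p hGsol ρ hρi (fun v w hv hw => by
    obtain ⟨g, hg, e⟩ := htrans (Additive.toMul v) (Additive.toMul w) hv hw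
    exact ⟨⟨g, hg⟩, congrArg Additive.ofMul e⟩)
  have hexc : ¬ (n = 4 ∧ p = 3) := by
    rintro ⟨rfl, rfl⟩
    norm_num at hcnt hGdvd
    have hP : P = 130 := by omega
    rw [hP] at hGdvd
    norm_num at hGdvd
    haveI : Fact (Nat.Prime 5) := ⟨by norm_num⟩
    haveI : Fact (Nat.Prime 13) := ⟨by norm_num⟩
    haveI : Group.IsSolvable (⊤ : Subgroup G) :=
      Group.isSolvable_of_surjective (f := (Subgroup.topEquiv (G := G)).symm.toMonoidHom) Subgroup.topEquiv.symm.surjective
    obtain ⟨H, hH⟩ := PiHall.exists_piHall ({5, 13} : Set ℕ) (⊤ : Subgroup G)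
    have hHp : ∀ q : ℕ, q.Prime → q ∣ Nat.card H → q = 5 ∨ q = 13 := fun q hq hd => by
      simpa using hH.2.1 q hq hd
    have hG5 : ∀ q : ℕ, q.Prime → (q = 5 ∨ q = 13) → q ∣ Nat.card H := by
      intro q hq hq'
      have h1 := card_mul_relIndex hH.1
      rw [Subgroup.card_top] at h1
      have hqG : q ∣ Nat.card G := dvd_trans (by rcases hq' with rfl | rfl <;> norm_num) hGdvd
      rw [← h1] at hqG
      exact (hq.dvd_mul.mp hqG).resolve_right (hH.2.2 q hq (by simpa using hq'))
    -- fixed points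
    have hfix : ∀ g : G, ∀ r : ℕ, r.Prime → orderOf g = r → r = 5 ∨ r = 13 →
        Nat.card {v : V // (g : MulAut V) v = v} = if r = 5 then 1 else 3 := by
      intro g r hr hg hr'
      haveI := Fact.mk hr
      let A : Subgroup V := MonoidHom.eqLocus (g : MulAut V).toMonoidHom (MonoidHom.id V)
      have hA : Nat.card A = Nat.card {v : V // (g : MulAut V) v = v} := rfl
      have hAdvd : Nat.card A ∣ 3 ^ 4 := hn ▸ A.card_subgroup_dvd_card
      obtain ⟨k, hk, hk'⟩ := (Nat.dvd_prime_pow (by norm_num)).mp hAdvd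
      have hne : k ≠ 4 := by
        rintro rfl
        have hAt : A = ⊤ := Subgroup.eq_top_of_card_eq A (by rw [hk', hn])
        have : g = 1 := Subtype.ext (MulEquiv.ext fun v => (hAt ▸ Subgroup.mem_top v : v ∈ A))
        rw [this, orderOf_one] at hg
        exact hr.one_lt.ne hg
      have hmod : 81 ≡ 3 ^ k [MOD r] := by
        rw [← hk', hA, show (81 : ℕ) = Nat.card V by rw [hn]; norm_num]
        have hz : IsPGroup r (Subgroup.zpowers g) :=
          IsPGroup.of_card (n := 1) (by rw [Nat.card_zpowers, hg, pow_one])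
        letI : MulAction (Subgroup.zpowers g) V := MulAction.compHom V (G.subtype.comp (Subgroup.zpowers g).subtype)
        have h := hz.card_modEq_card_fixedPoints V
        refine h.trans (congrArg (· % r) ?_)
        refine Nat.card_congr (Equiv.subtypeEquivRight fun v => ?_)
        constructor
        · intro hv; exact hv ⟨g, Subgroup.mem_zpowers _⟩
        · rintro hv ⟨s, hs⟩
          obtain ⟨i, rfl⟩ := Subgroup.mem_zpowers_iff.mp hs
          show ((g ^ i : G) : MulAut V) v = v
          have hmem : (g : MulAut V) ∈ MulAction.stabilizer (MulAut V) v := hv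
          rw [Subgroup.coe_zpow]
          exact zpow_mem hmem i
      rw [← hA, hk']
      have hk3 : k ≤ 3 := by omega
      clear hk
      rcases hr' with rfl | rfl <;> interval_cases k <;> first | (norm_num; done) | (norm_num [Nat.ModEq] at hmod)
    obtain ⟨u, hu⟩ := exists_prime_orderOf_dvd_card' (G := H) 5 (hG5 5 (by norm_num) (Or.inl rfl))
    obtain ⟨T⟩ : Nonempty (Sylow 13 H) := inferInstance
    have hT : (T : Subgroup H) ≠ ⊥ := fun e => by
      have := T.dvd_card_of_dvd_card (hG5 13 (by norm_num) (Or.inr rfl))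
      rw [e, Subgroup.card_bot] at this
      norm_num at this
    -- the 5-part is semiregular, so small
    have hT1 : Nat.card (Sylow 13 H) = 1 := by
      have hsemi : ∀ {r : ℕ} [Fact r.Prime] (Q : Sylow r H), r = 5 → Nat.card Q ∣ 80 := by
        intro r _ Q hr5
        subst hr5
        letI : MulAction Q V := MulAction.compHom V (G.subtype.comp (H.subtype.comp (Q : Subgroup H).subtype))
        let S : SubMulAction Q V := ⟨{v | v ≠ 1}, fun q v hv e => hv (by
          have e' : ((((q : H) : G) : MulAut V)) v = 1 := e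
          exact (MulEquiv.map_eq_one_iff _).mp e')⟩
        have hS : Nat.card S = 80 := by
          haveI := Fintype.ofFinite V
          show Nat.card {v : V // v ≠ 1} = 80
          rw [Nat.card_eq_fintype_card, Fintype.card_subtype_compl, Fintype.card_subtype_eq,
            ← Nat.card_eq_fintype_card, hn]
          norm_num
        rw [← hS]
        have hfree : ∀ (q : Q) (v : S), q • v = v → q = 1 := by
          intro q v hqv
          by_contra hq1
          obtain ⟨k, hk⟩ := IsPGroup.iff_orderOf.mp Q.isPGroup' q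
          obtain ⟨k, rfl⟩ : ∃ j, k = j + 1 := ⟨k - 1, by
            have : k ≠ 0 := fun e => hq1 (orderOf_eq_one_iff.mp (by rw [hk, e, pow_zero]))
            omega⟩
          have hw : orderOf ((((q ^ 5 ^ k : Q) : H) : G)) = 5 := by
            rw [Subgroup.orderOf_coe, Subgroup.orderOf_coe, orderOf_pow' _ (pow_ne_zero _ (by norm_num)), hk,
              Nat.gcd_eq_right (pow_dvd_pow 5 k.le_succ), pow_succ, Nat.mul_div_cancel_left _ (pow_pos (by norm_num) k)]
          have h1 := hfix _ 5 (by norm_num) hw (Or.inl rfl)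
          rw [if_pos rfl] at h1
          have hv : ((((q ^ 5 ^ k : Q) : H) : G) : MulAut V) (v : V) = v := by
            have hm : q ∈ MulAction.stabilizer Q v := hqv
            exact congrArg Subtype.val (show (q ^ 5 ^ k) • v = v from pow_mem hm _)
          haveI := (Nat.card_eq_one_iff_unique.mp h1).1
          exact v.2 (congrArg Subtype.val (Subsingleton.elim
            (⟨(v : V), hv⟩ : {w : V // ((((q ^ 5 ^ k : Q) : H) : G) : MulAut V) w = w}) ⟨1, MulEquiv.map_one ((((q ^ 5 ^ k : Q) : H) : G) : MulAut V)⟩))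
        haveI := Fintype.ofFinite (MulAction.orbitRel.Quotient Q S)
        rw [Nat.card_congr (MulAction.selfEquivSigmaOrbits Q S), Nat.card_sigma]
        refine Finset.dvd_sum fun ω _ => ?_
        rw [Nat.card_coe_set_eq, ← MulAction.index_stabilizer, (Subgroup.eq_bot_iff_forall (MulAction.stabilizer Q (Quotient.out ω))).mpr fun q hq => hfree q _ hq,
          Subgroup.index_bot]
      have hidx : (T : Subgroup H).index ∣ 5 := by
        obtain ⟨Q⟩ : Nonempty (Sylow 5 H) := inferInstance
        obtain ⟨a, ha⟩ := IsPGroup.iff_card.mp Q.isPGroup'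
        have ha1 : a ≤ 1 := by
          have h := hsemi Q rfl
          rw [ha] at h
          by_contra hlt
          have h25 : (5 : ℕ) ^ 2 ∣ 80 := (pow_dvd_pow 5 (by omega : 2 ≤ a)).trans h
          norm_num at h25
        obtain ⟨c, hc⟩ : ∃ c, (T : Subgroup H).index = 5 ^ c := by
          refine ⟨_, Nat.eq_prime_pow_of_unique_prime_dvd (p := 5) Subgroup.index_ne_zero_of_finite fun {d} hd hdi => ?_⟩
          rcases hHp d hd (hdi.trans ⟨_, ((T : Subgroup H).index_mul_card).symm⟩) with h | h
          · exact h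
          · exact absurd (h ▸ hdi) T.not_dvd_index
        rw [hc]
        have hcQ : 5 ^ c ∣ Nat.card Q :=
          Nat.Coprime.dvd_of_dvd_mul_right ((Nat.Prime.coprime_iff_not_dvd (by norm_num : Nat.Prime 5)).mpr Q.not_dvd_index |>.pow_left c)
            (by rw [(Q : Subgroup H).card_mul_index, ← (T : Subgroup H).index_mul_card, hc]; exact dvd_mul_right _ _)
        rw [ha] at hcQ
        exact hcQ.trans ((pow_dvd_pow 5 ha1).trans (by norm_num))
      have h1 := T.card_dvd_index
      have h2 := card_sylow_modEq_one 13 H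
      rcases (Nat.dvd_prime (by norm_num)).mp (h1.trans hidx) with h | h
      · exact h
      · rw [h] at h2; norm_num [Nat.ModEq] at h2
    haveI hTn : (T : Subgroup H).Normal := by
      haveI : Subsingleton (Sylow 13 H) := (Nat.card_eq_one_iff_unique.mp hT1).1
      exact T.normal_of_subsingleton
    obtain ⟨⟨t, htT⟩, ht1⟩ := (Subgroup.ne_bot_iff_exists_ne_one.mp hT)
    obtain ⟨w, hwT, hw⟩ : ∃ w ∈ (T : Subgroup H), orderOf w = 13 := by
      haveI : Nontrivial (T : Subgroup H) := ⟨⟨_, _, ht1⟩⟩
      obtain ⟨k, hk⟩ := IsPGroup.iff_card.mp T.isPGroup'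
      have hk0 : k ≠ 0 := fun e => by
        have := Finite.one_lt_card (α := (T : Subgroup H))
        rw [hk, e, pow_zero] at this
        omega
      obtain ⟨w, hw⟩ := exists_prime_orderOf_dvd_card' (G := (T : Subgroup H)) 13 (hk ▸ dvd_pow_self 13 hk0)
      exact ⟨w, w.2, (Subgroup.orderOf_coe w).trans hw⟩
    -- `u` permutes the fixed points of the central part of `T`
    let F : Subgroup V := ⨅ x : (T : Subgroup H), MonoidHom.eqLocus ((((x : H) : G) : MulAut V)).toMonoidHom (MonoidHom.id V)
    have hF3 : Nat.card F ∣ 3 := by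
      have h := hfix ((w : H) : G) 13 (by norm_num) (by rw [Subgroup.orderOf_coe, hw]) (Or.inr rfl)
      rw [if_neg (by norm_num)] at h
      rw [← h]
      exact Subgroup.card_dvd_of_le (iInf_le (fun x : (T : Subgroup H) =>
        MonoidHom.eqLocus ((((x : H) : G) : MulAut V)).toMonoidHom (MonoidHom.id V)) ⟨w, hwT⟩)
    have hmodT : Nat.card F = 3 := by
      letI : MulAction T V := MulAction.compHom V (G.subtype.comp (H.subtype.comp (T : Subgroup H).subtype))
      have h := T.isPGroup'.card_modEq_card_fixedPoints V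
      have e : Nat.card (MulAction.fixedPoints T V) = Nat.card F := Nat.card_congr (Equiv.subtypeEquivRight fun v => by
        simp only [F, Subgroup.mem_iInf]
        exact Iff.rfl)
      rw [e, hn] at h
      rcases (Nat.dvd_prime (by norm_num)).mp hF3 with h' | h'
      · rw [h'] at h; norm_num [Nat.ModEq] at h
      · exact h'
    have hFu : ∀ v ∈ F, (((u : H) : G) : MulAut V) v ∈ F := by
      intro v hv
      rw [Subgroup.mem_iInf] at hv ⊢
      rintro ⟨x, hx⟩
      have h1 : ((((u⁻¹ * x * u : H) : G)) : MulAut V) v = v := hv ⟨u⁻¹ * x * u, by simpa using hTn.conj_mem x hx u⁻¹⟩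
      show (((x : H) : G) : MulAut V) ((((u : H) : G) : MulAut V) v) = _
      rw [← MulAut.mul_apply]
      have e : ((((x : H) : G) : MulAut V)) * (((u : H) : G) : MulAut V) =
          (((u : H) : G) : MulAut V) * ((((u⁻¹ * x * u : H) : G)) : MulAut V) := by
        simp only [Subgroup.coe_mul, Subgroup.coe_inv]; group
      rw [e, MulAut.mul_apply, h1]
      rfl
    have hu5 : orderOf ((u : H) : G) = 5 := by rw [Subgroup.orderOf_coe, hu]
    have h5 := hfix _ 5 (by norm_num) hu5 (Or.inl rfl)
    rw [if_pos rfl] at h5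
    haveI := (Nat.card_eq_one_iff_unique.mp h5).1
    haveI := Fintype.ofFinite F
    let π : Equiv.Perm F := Equiv.ofBijective (fun v => ⟨(((u : H) : G) : MulAut V) v, hFu v v.2⟩)
      (Finite.injective_iff_bijective.mp fun a b e =>
        Subtype.ext ((((u : H) : G) : MulAut V).injective (congrArg Subtype.val e)))
    have hπiter : ∀ (k : ℕ) (v : F), (((π ^ k) v : F) : V) = (((((u : H) : G) : MulAut V)) ^ k) v := by
      intro k
      induction k with
      | zero => intro v; rfl
      | succ k ih =>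
        intro v
        rw [pow_succ', Equiv.Perm.mul_apply, pow_succ', MulAut.mul_apply, ← ih]
        rfl
    have hπ5 : π ^ 5 = 1 := Equiv.ext fun v => Subtype.ext (by
      rw [hπiter, ← Subgroup.coe_pow, show ((u : H) : G) ^ 5 = 1 by rw [← hu5]; exact pow_orderOf_eq_one _]
      rfl)
    have hπ : π = 1 := by
      have h6 : orderOf π ∣ 6 := by
        have := orderOf_dvd_natCard π
        rwa [Nat.card_perm, hmodT] at this
      rw [← orderOf_eq_one_iff]
      exact Nat.eq_one_of_dvd_coprimes (by norm_num : Nat.Coprime 5 6) (orderOf_dvd_of_pow_eq_one hπ5) h6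
    obtain ⟨⟨v, hvF⟩, hv1⟩ : ∃ v : F, v ≠ 1 := by
      haveI : Nontrivial F := Finite.one_lt_card_iff_nontrivial.mp (by omega)
      exact exists_ne 1
    have hfv : (((u : H) : G) : MulAut V) v = v := congrArg (fun s : Equiv.Perm F => ((s ⟨v, hvF⟩ : F) : V)) hπ
    have h1' : (⟨v, hfv⟩ : {w : V // (((u : H) : G) : MulAut V) w = w}) =
        ⟨1, MulEquiv.map_one (((u : H) : G) : MulAut V)⟩ := Subsingleton.elim _ _
    have h2' := congrArg Subtype.val h1'
    exact hv1 (Subtype.ext h2')
  -- semilinear structure over the standard field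
  have hnot81 : ¬ Nat.card (Additive V) ∈ ({9, 25, 49, 121, 529, 81} : Set ℕ) := by
    intro h
    change Nat.card V ∈ _ at h
    rw [hn] at h
    simp only [Set.mem_insert_iff, Set.mem_singleton_iff] at h
    have hsq : ∀ c k : ℕ, c.Prime → p ^ n = c ^ k → p = c ∧ n = k := by
      intro c k hc he
      have hpc : p = c := (Nat.prime_dvd_prime_iff_eq hp.out hc).mp
        (hp.out.dvd_of_dvd_pow (he ▸ dvd_pow_self p (by omega)))
      refine ⟨hpc, Nat.pow_right_injective hp.out.two_le ?_⟩
      show p ^ n = p ^ k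
      rw [he, hpc]
    rcases h with h | h | h | h | h | h
    · have := hsq 3 2 (by norm_num) h; omega
    · have := hsq 5 2 (by norm_num) h; omega
    · have := hsq 7 2 (by norm_num) h; omega
    · have := hsq 11 2 (by norm_num) h; omega
    · have := hsq 23 2 (by norm_num) h; omega
    · obtain ⟨h1, h2⟩ := hsq 3 4 (by norm_num) h
      exact hexc ⟨h2, h1⟩
  obtain ⟨F, hF, hFf, e₀, he₀⟩ := hHup.resolve_right hnot81
  haveI : Finite (GaloisField p n) := Nat.finite_of_card_ne_zero (by rw [GaloisField.card p n (by omega)]; exact pow_ne_zero _ hp.out.ne_zero)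
  haveI := Fintype.ofFinite (GaloisField p n)
  let r : F ≃+* GaloisField p n := FiniteField.ringEquivOfCardEq (by
    rw [← Nat.card_eq_fintype_card, ← Nat.card_eq_fintype_card, GaloisField.card p n (by omega),
      ← Nat.card_congr e₀.toEquiv]
    exact hn)
  let e : Additive V ≃+ GaloisField p n := e₀.trans r.toAddEquiv
  have hsemi : Semi G e := by
    intro g hg
    obtain ⟨a, σ, h⟩ := he₀ ⟨g, hg⟩
    have ha : r a ≠ 0 := by
      rw [Ne, map_eq_zero]
      rintro rfl
      obtain ⟨v, hv⟩ := exists_ne (1 : V)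
      have := h (Additive.ofMul v)
      rw [zero_mul, AddEquiv.map_eq_zero_iff, hρ] at this
      exact hv (g.injective ((show g v = 1 from this).trans (map_one g).symm))
    refine ⟨Units.mk0 _ ha, (r.symm.trans σ).trans r, fun v => ?_⟩
    show r (e₀ (Additive.ofMul (g v))) = r a * r (σ (r.symm (r (e₀ (Additive.ofMul v)))))
    rw [← hρ ⟨g, hg⟩, h, map_mul, RingEquiv.symm_apply_apply]
  have hpoint : ∀ {g g' : MulAut V} {a : (GaloisField p n)ˣ} {σ : GaloisField p n ≃+* GaloisField p n},
      (∀ v : V, e (Additive.ofMul (g v)) = (a : GaloisField p n) * σ (e (Additive.ofMul v))) →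
      (∀ v : V, e (Additive.ofMul (g' v)) = (a : GaloisField p n) * σ (e (Additive.ofMul v))) → g = g' :=
    fun h h' => MulEquiv.ext fun v => Additive.ofMul.injective (e.injective ((h v).trans (h' v).symm))
  haveI : Finite (GaloisField p n ≃+* GaloisField p n) :=
    Nat.finite_of_card_ne_zero (by rw [card_ringAut n (by omega)]; omega)
  have hGle : Nat.card G ≤ (p ^ n - 1) * n := by
    have hmem : ∀ g : G, ∃ (a : (GaloisField p n)ˣ) (σ : GaloisField p n ≃+* GaloisField p n), ∀ v : V,
        e (Additive.ofMul ((g : MulAut V) v)) = (a : GaloisField p n) * σ (e (Additive.ofMul v)) :=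
      fun g => hsemi g g.2
    choose A Φ hs using hmem
    let f : G → (GaloisField p n)ˣ × (GaloisField p n ≃+* GaloisField p n) := fun g => (A g, Φ g)
    have hf : Function.Injective f := fun g g' hgg => by
      simp only [f, Prod.mk.injEq] at hgg
      refine Subtype.ext (hpoint (hs g) ?_)
      rw [hgg.1, hgg.2]
      exact hs g'
    refine (Nat.card_le_card_of_injective f hf).trans (le_of_eq ?_)
    rw [Nat.card_prod, Nat.card_units, GaloisField.card p n (by omega), card_ringAut n (by omega)]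
  have hmain : p ^ (n - 1) - 1 ≤ n * (p ^ 2 - 1) := by
    have h1 : P * (p - 1) ≤ (p ^ n - 1) * n := (Nat.le_of_dvd Nat.card_pos hGdvd).trans hGle
    have e1 : p ^ 2 - p = p * (p - 1) := by rw [Nat.mul_sub, mul_one, pow_two]
    have e2 : p ^ n - p = p * (p ^ (n - 1) - 1) := by
      rw [Nat.mul_sub, mul_one, ← pow_succ']; congr 2; omega
    rw [e1, e2] at hcnt
    have h2 : (p ^ n - 1) * (p * (p ^ (n - 1) - 1)) ≤ (p ^ n - 1) * (p * (n * (p ^ 2 - 1))) :=
      calc _ = (P * (p - 1)) * (p * (p ^ 2 - 1)) := by rw [← hcnt]; ring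
        _ ≤ ((p ^ n - 1) * n) * (p * (p ^ 2 - 1)) := Nat.mul_le_mul_right _ h1
        _ = _ := by ring
    have hpos : 0 < p ^ n - 1 := by
      have : 1 < p ^ n := Nat.one_lt_pow (by omega) hp.out.one_lt
      omega
    exact Nat.le_of_mul_le_mul_left (Nat.le_of_mul_le_mul_left h2 hpos) hp.out.pos
  have hsemiH : Semi Hb e := fun g hg => hsemi g (Subgroup.mem_sup_left hg)
  have hdvdH : p = 2 → P ∣ Nat.card Hb := by
    intro h2
    have hZ : Z = ⊥ := Subgroup.card_eq_one.mp (by rw [hZcard, h2])
    have hG : G = Hb := by show Hb ⊔ Z = Hb; rw [hZ, sup_bot_eq]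
    rw [hG] at hGdvd
    exact (dvd_mul_right P (p - 1)).trans hGdvd
  have hno42 : ¬ (p = 2 ∧ n = 4) := by
    rintro ⟨rfl, rfl⟩
    have hP : P = 35 := by norm_num at hcnt; omega
    haveI : Fact (Nat.Prime 7) := ⟨by norm_num⟩
    obtain ⟨g, hg⟩ := exists_prime_orderOf_dvd_card' (G := Hb) 7 (dvd_trans (by rw [hP]; norm_num) (hdvdH rfl))
    obtain ⟨a, σ, h⟩ := hsemiH g g.2
    have hσ : σ = 1 := by
      obtain ⟨b, hb⟩ := Semi.pow_eq h 7
      have hg7 : (g : MulAut V) ^ 7 = 1 := by
        rw [← Subgroup.coe_pow, ← hg, pow_orderOf_eq_one]; rfl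
      rw [hg7] at hb
      have hb1 : (b : GaloisField 2 4) = 1 := by
        have := hb (Additive.toMul (e.symm 1))
        simp at this
        exact this.symm
      have hσ7 : σ ^ 7 = 1 := RingEquiv.ext fun x => by
        have := hb (Additive.toMul (e.symm x))
        simp [hb1] at this
        exact this.symm
      have h4 : σ ^ 4 = 1 := by
        have := pow_card_eq_one' (G := GaloisField 2 4 ≃+* GaloisField 2 4) (x := σ)
        rwa [card_ringAut 4 (by norm_num)] at this
      rw [← orderOf_eq_one_iff]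
      exact Nat.eq_one_of_dvd_coprimes (by norm_num : Nat.Coprime 7 4) (orderOf_dvd_of_pow_eq_one hσ7)
        (orderOf_dvd_of_pow_eq_one h4)
    have ha : a = 1 := by
      obtain ⟨b, hb⟩ := Semi.pow_eq h 7
      have hg7 : (g : MulAut V) ^ 7 = 1 := by
        rw [← Subgroup.coe_pow, ← hg, pow_orderOf_eq_one]; rfl
      have hk : ∀ k : ℕ, ∀ v : V, e (Additive.ofMul (((g : MulAut V) ^ k) v)) =
          ((a ^ k : (GaloisField 2 4)ˣ) : GaloisField 2 4) * e (Additive.ofMul v) := by
        intro k
        induction k with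
        | zero => intro v; simp
        | succ k ih =>
          intro v
          rw [pow_succ', MulAut.mul_apply, h, hσ, ih, pow_succ']
          simp [mul_assoc]
      have h7 : a ^ 7 = 1 := Units.ext (by
        have := hk 7 (Additive.toMul (e.symm 1))
        rw [hg7] at this
        simp at this
        simpa using this.symm)
      have h15 : a ^ 15 = 1 := by
        have := pow_card_eq_one' (G := (GaloisField 2 4)ˣ) (x := a)
        rwa [Nat.card_units, GaloisField.card 2 4 (by norm_num)] at this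
      rw [← orderOf_eq_one_iff]
      exact Nat.eq_one_of_dvd_coprimes (by norm_num : Nat.Coprime 7 15) (orderOf_dvd_of_pow_eq_one h7)
        (orderOf_dvd_of_pow_eq_one h15)
    have h1 : (g : MulAut V) = 1 := MulEquiv.ext fun v => Additive.ofMul.injective (e.injective (by
      rw [h, hσ, ha]; simp))
    have : orderOf g = 1 := by rw [orderOf_eq_one_iff]; exact Subtype.ext h1
    omega
  refine ⟨?_, ?_, ?_, e, hsemiH⟩
  · rcases (show n = 3 ∨ n = 4 ∨ 5 ≤ n by omega) with h | h | h
    · exact Or.inl h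
    · exfalso
      subst h
      have : p ≤ 4 := by
        by_contra hlt
        have h5 : 5 ≤ p := by omega
        have : p ^ 3 ≥ 5 * p ^ 2 := by rw [pow_succ' p 2]; exact Nat.mul_le_mul_right _ h5
        have : 1 ≤ p ^ 2 := Nat.one_le_pow _ _ hp.out.pos
        norm_num at hmain
        omega
      rcases (show p = 2 ∨ p = 3 ∨ p = 4 by omega) with h | h | h
      · exact hno42 ⟨h, rfl⟩
      · exact hexc ⟨rfl, h⟩
      · exact absurd (h ▸ hp.out) (by norm_num)
    · have hp2 : p = 2 := by
        by_contra hne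
        have h3 : 3 ≤ p := by omega
        have hb : ∀ k, 5 ≤ k → k * p ^ 2 < p ^ (k - 1) := by
          intro k hk
          induction k, hk using Nat.le_induction with
          | base =>
            have : 9 ≤ p ^ 2 := by nlinarith
            calc 5 * p ^ 2 < p ^ 2 * p ^ 2 := by nlinarith
              _ = p ^ (5 - 1) := by ring
          | succ k hk ih =>
            calc (k + 1) * p ^ 2 ≤ 3 * (k * p ^ 2) := by nlinarith
              _ ≤ p * (k * p ^ 2) := Nat.mul_le_mul_right _ h3
              _ < p * p ^ (k - 1) := Nat.mul_lt_mul_of_pos_left ih hp.out.pos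
              _ = p ^ (k + 1 - 1) := by rw [← pow_succ']; congr 1; omega
        have := hb n h
        have : n * (p ^ 2 - 1) + n = n * p ^ 2 := by
          rw [← Nat.mul_succ, Nat.succ_eq_add_one, Nat.sub_add_cancel (Nat.one_le_pow _ _ hp.out.pos)]
        omega
      subst hp2
      refine Or.inr ⟨?_, rfl⟩
      by_contra hne
      have hb : ∀ k, 6 ≤ k → k * 3 + 1 < 2 ^ (k - 1) := by
        intro k hk
        induction k, hk using Nat.le_induction with
        | base => norm_num
        | succ k hk ih =>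
          rw [show k + 1 - 1 = (k - 1) + 1 by omega, pow_succ]
          omega
      have := hb n (by omega)
      norm_num at hmain
      omega
  · rintro h2 h3
    have hd := hdvdH h2
    subst h2 h3
    norm_num at hcnt
    exact (show P = 7 by omega) ▸ hd
  · rintro h2 h5
    have hd := hdvdH h2
    subst h2 h5
    norm_num at hcnt
    exact (show P = 155 by omega) ▸ Nat.le_of_dvd Nat.card_pos hd

end Cfsg.Agent.Grp.SubspaceTrans
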