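import Mathlib
import Cfsg.Agent.Lib.Grp.SchurZassenhaus

/-!
Normalizers and centralizers of subgroups of order coprime to a normal subgroup, in the quotient.
-/

namespace Cfsg.Agent.Grp.QuotNorm

open scoped Pointwise
open Subgroup

variable {G : Type*} [Group G] [Finite G] (N : Subgroup G) [N.Normal] (H : Subgroup G)

theorem exists_normalizer_lift (hcop : (Nat.card N).Coprime (Nat.card H))
    (hs : Group.IsSolvable N ∨ Group.IsSolvable H) {g : G}
    (hg : QuotientGroup.mk' N g ∈ normalizer ((H.map (QuotientGroup.mk' N) : Subgroup (G ⧸ N)) : Set (G ⧸ N))) :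
    ∃ h ∈ normalizer (H : Set G), QuotientGroup.mk' N h = QuotientGroup.mk' N g := by
  have hle : MulAut.conj g • H ≤ N ⊔ H := by
    intro x hx
    have h1 := Subgroup.mem_map_of_mem (QuotientGroup.mk' N) hx
    rw [← conj_smul_map, mem_normalizer_iff_smul.mp hg, ← Subgroup.mem_comap,
      Subgroup.comap_map_eq, QuotientGroup.ker_mk', sup_comm] at h1
    exact h1
  obtain ⟨n, hn, he⟩ := exists_conj_of_le_sup (by rw [Subgroup.normalizer_eq_top]; exact le_top) hle
    (card_conj_smul g H) hcop hs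
  refine ⟨n⁻¹ * g, mem_normalizer_iff_smul.mpr ?_, ?_⟩
  · rw [← conj_smul_conj_smul, ← he, conj_smul_conj_smul, inv_mul_cancel, map_one, one_smul]
  · rw [map_mul, map_inv, (QuotientGroup.eq_one_iff _).mpr hn |> fun h => (show QuotientGroup.mk' N n = 1 from h),
      inv_one, one_mul]

theorem normalizer_map (hcop : (Nat.card N).Coprime (Nat.card H))
    (hs : Group.IsSolvable N ∨ Group.IsSolvable H) :
    normalizer ((H.map (QuotientGroup.mk' N) : Subgroup (G ⧸ N)) : Set (G ⧸ N)) =
      (normalizer (H : Set G)).map (QuotientGroup.mk' N) := by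
  refine le_antisymm (fun x hx => ?_) (Subgroup.le_normalizer_map _)
  obtain ⟨g, rfl⟩ := QuotientGroup.mk'_surjective N x
  obtain ⟨h, hh, he⟩ := exists_normalizer_lift N H hcop hs hx
  exact ⟨h, hh, he⟩

theorem centralizer_map (hcop : (Nat.card N).Coprime (Nat.card H))
    (hs : Group.IsSolvable N ∨ Group.IsSolvable H) :
    centralizer ((H.map (QuotientGroup.mk' N) : Subgroup (G ⧸ N)) : Set (G ⧸ N)) =
      (centralizer (H : Set G)).map (QuotientGroup.mk' N) := by
  refine le_antisymm (fun x hx => ?_) ?_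
  · obtain ⟨g, rfl⟩ := QuotientGroup.mk'_surjective N x
    obtain ⟨h, hh, he⟩ := exists_normalizer_lift N H hcop hs (centralizer_le_normalizer _ hx)
    refine ⟨h, mem_centralizer_iff.mpr fun y hy => ?_, he⟩
    rw [← he, mem_centralizer_iff] at hx
    have hc := hx _ (mem_map_of_mem (QuotientGroup.mk' N) hy)
    have h1 : h * y * h⁻¹ * y⁻¹ ∈ N := by
      rw [← QuotientGroup.eq_one_iff]
      show QuotientGroup.mk' N (h * y * h⁻¹ * y⁻¹) = 1
      rw [map_mul, map_mul, map_mul, ← hc, map_inv, map_inv]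
      group
    have h2 : h * y * h⁻¹ * y⁻¹ ∈ H :=
      H.mul_mem ((mem_normalizer_iff.mp hh y).mp hy) (H.inv_mem hy)
    have h3 : h * y * h⁻¹ * y⁻¹ = 1 := by
      have := (Subgroup.inf_eq_bot_of_coprime hcop).le (Subgroup.mem_inf.mpr ⟨h1, h2⟩)
      exact this
    exact (mul_inv_eq_iff_eq_mul.mp (mul_inv_eq_one.mp h3)).symm
  · rintro _ ⟨h, hh, rfl⟩
    refine mem_centralizer_iff.mpr ?_
    rintro _ ⟨y, hy, rfl⟩
    rw [← map_mul, ← map_mul, mem_centralizer_iff.mp hh y hy]

end Cfsg.Agent.Grp.QuotNorm
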