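import Cfsg.Agent.Lib.Grp.ZasPsi
import Cfsg.Agent.Lib.Char.FeitSibley
import Cfsg.Agent.Lib.Char.FrobTIStar
import Cfsg.Agent.Lib.Char.TIStar
import Cfsg.Agent.Lib.Lie.ZassenhausPerm

/-!
# Feit's inequality for Zassenhaus groups with odd two-point stabilizers

If the characters of a point stabilizer that are nontrivial on the Frobenius kernel are coherent and
the two-point stabilizer is small, an exceptional character has degree equal to its order, and its
kernel contradicts the Zassenhaus property.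
-/

set_option autoImplicit false

namespace Cfsg.Agent.Grp.ZasS

open MulAction Cfsg Cfsg.Agent.Block.Zas
open scoped ComplexConjugate commutatorElement

universe u v

attribute [local instance 10] Classical.propDecidable

variable {G : Type u} {Ω : Type v} [Group G] [MulAction G Ω] [Finite G]

omit [Finite G] in
theorem F_fix_unique (D : Frame G Ω) {u : G} (hu : u ∈ D.F) (hu1 : u ≠ 1) {y : Ω}
    (hy : u • y = y) : y = D.a := by
  by_contra hya
  exact hu1 (D.F_inj hu D.F.one_mem hya (by rw [hy, one_smul]))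

omit [Finite G] in
/-- An element mapping a non-trivial element of `F` into `F` fixes `a`. -/
theorem fix_of_conj_mem (D : Frame G Ω) {g u : G} (hu : u ∈ D.F) (hu1 : u ≠ 1)
    (h : g * u * g⁻¹ ∈ D.F) : g • D.a = D.a :=
  F_fix_unique D h (fun e => hu1 (conj_eq_one_iff.mp e))
    (by rw [mul_smul, mul_smul, inv_smul_smul, D.F_fix u hu])

theorem normalizer_F (D : Frame G Ω) (hn : 2 ≤ Nat.card D.F) :
    Subgroup.normalizer (D.F : Set G) = stabilizer G D.a := by
  haveI : Nontrivial D.F := Finite.one_lt_card_iff_nontrivial.mp (by omega)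
  obtain ⟨⟨u, hu⟩, hu1⟩ := exists_ne (1 : D.F)
  refine le_antisymm (fun g hg => fix_of_conj_mem D hu (fun e => hu1 (Subtype.ext e))
    ((Subgroup.mem_normalizer_iff.mp hg u).mp hu)) fun g hg => ?_
  refine Subgroup.mem_normalizer_iff.mpr fun x => ⟨fun hx => D.F_conj g hg x hx, fun hx => ?_⟩
  have := D.F_conj g⁻¹ (inv_mem hg : g⁻¹ ∈ stabilizer G D.a) _ hx
  simpa [mul_assoc] using this

theorem F_TI (D : Frame G Ω) (hn : 2 ≤ Nat.card D.F) : ∀ g : G,
    g ∉ Subgroup.normalizer (D.F : Set G) → ∀ k ∈ D.F, g * k * g⁻¹ ∈ D.F → k = 1 :=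
  fun g hg k hk hgk => by_contra fun hk1 =>
    hg ((normalizer_F D hn).symm ▸ fix_of_conj_mem D hk hk1 hgk)

theorem F_lt (D : Frame G Ω) (hn : 2 ≤ Nat.card D.F) (hH : D.H ≠ ⊥) :
    D.F < Subgroup.normalizer (D.F : Set G) := by
  refine lt_of_le_of_ne Subgroup.le_normalizer fun e => hH ((Subgroup.eq_bot_iff_forall _).mpr
    fun h hh => D.eq_one_of_mem ?_ hh)
  rw [e, normalizer_F D hn]
  exact hh.1

theorem F_index (D : Frame G Ω) (hn : 2 ≤ Nat.card D.F) :
    (Char.FrobTI.KN D.F).index = Nat.card D.H := by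
  have h := (Char.FrobTI.KN D.F).card_mul_index
  rw [Nat.card_congr (Subgroup.subgroupOfEquivOfLe Subgroup.le_normalizer).toEquiv,
    Nat.card_congr (MulEquiv.subgroupCongr (normalizer_F D hn)).toEquiv, D.card_stab] at h
  exact Nat.eq_of_mul_eq_mul_left Nat.card_pos h

/-- The projection of the normalizer of `F` onto the two-point stabilizer. -/
noncomputable def toHN (D : Frame G Ω) (hn : 2 ≤ Nat.card D.F) :
    Subgroup.normalizer (D.F : Set G) →* D.H :=
  D.toH.comp (Subgroup.inclusion (normalizer_F D hn).le)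

/-- More characters are constant on `F` than the order of the two-point stabilizer. -/
theorem count_classes [Fintype G] (D : Frame G Ω) [IsCyclic D.H] (hn : 2 ≤ Nat.card D.F)
    (hH : D.H ≠ ⊥) (hs : Swaps D) (hodd : Odd (Nat.card D.H)) (hlt : Nat.card D.H < Nat.card D.F)
    [Fintype (Subgroup.normalizer (D.F : Set G))] :
    (Finset.univ.filter fun χ : IrrCharacter (Subgroup.normalizer (D.F : Set G)) =>
        Char.FrobTI.NonTriv (Char.FrobTI.KN D.F)
          (χ : Subgroup.normalizer (D.F : Set G) → ℂ)).card + Nat.card D.H + 1 ≤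
      Nat.card (IrrCharacter G) := by
  let L := Subgroup.normalizer (D.F : Set G)
  -- classes inside the kernel
  set A := {C : ConjClasses L // ∃ k : L, (k : G) ∈ D.F ∧ k ≠ 1 ∧ ConjClasses.mk k = C}
  have hLG : Nat.card {C : ConjClasses G // ∀ g : G, ConjClasses.mk g = C → g ∉ D.F} +
      Nat.card A + 1 ≤ Nat.card (ConjClasses G) := by
    rw [add_assoc, ← Finite.card_option, ← Nat.card_sum]
    let f : {C : ConjClasses G // ∀ g : G, ConjClasses.mk g = C → g ∉ D.F} ⊕ Option A →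
        ConjClasses G :=
      Sum.elim Subtype.val fun o => o.elim (ConjClasses.mk 1) fun C => ConjClasses.map L.subtype C.1
    have hA : ∀ C : A, ∃ k : L, (k : G) ∈ D.F ∧ k ≠ 1 ∧ ConjClasses.mk k = C.1 ∧
        ConjClasses.map L.subtype C.1 = ConjClasses.mk (k : G) := fun C => by
      obtain ⟨k, hk, hk1, hC⟩ := C.2
      exact ⟨k, hk, hk1, hC, by rw [← hC]; rfl⟩
    refine Nat.card_le_card_of_injective f ?_
    rintro (C | (_ | C)) (C' | (_ | C')) e <;>
      simp only [f, Sum.elim_inl, Sum.elim_inr, Option.elim] at e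
    · exact congrArg Sum.inl (Subtype.ext e)
    · exact absurd D.F.one_mem (C.2 1 e.symm)
    · obtain ⟨k, hk, -, -, hm⟩ := hA C'
      exact absurd hk (C.2 k (hm.symm.trans e.symm))
    · exact absurd D.F.one_mem (C'.2 1 e)
    · rfl
    · obtain ⟨k, -, hk1, -, hm⟩ := hA C'
      rw [hm, ConjClasses.mk_eq_mk_iff_isConj, isConj_one_right] at e
      exact absurd (Subtype.ext e.symm) hk1.symm
    · obtain ⟨k, hk, -, -, hm⟩ := hA C
      exact absurd hk (C'.2 k (hm.symm.trans e))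
    · obtain ⟨k, -, hk1, -, hm⟩ := hA C
      rw [hm, ConjClasses.mk_eq_mk_iff_isConj, isConj_one_left] at e
      exact absurd (Subtype.ext e) hk1
    · obtain ⟨k, hk, hk1, hC, hm⟩ := hA C
      obtain ⟨k', hk', -, hC', hm'⟩ := hA C'
      rw [hm, hm', ConjClasses.mk_eq_mk_iff_isConj, isConj_iff] at e
      obtain ⟨g, hg⟩ := e
      have hgN : g ∈ L := by_contra fun h => hk1 (Subtype.ext
        (F_TI D hn g h k hk (hg ▸ hk')))
      refine congrArg (fun x => Sum.inr (some x)) (Subtype.ext ?_)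
      rw [← hC, ← hC', ConjClasses.mk_eq_mk_iff_isConj, isConj_iff]
      exact ⟨⟨g, hgN⟩, Subtype.ext hg⟩
  have hcovL : Nat.card (ConjClasses L) ≤ Nat.card D.H + Nat.card A := by
    rw [← Nat.card_sum]
    let f : D.H ⊕ A → ConjClasses L := Sum.elim
      (fun x => ConjClasses.mk ⟨x, (normalizer_F D hn).ge x.2.1⟩) Subtype.val
    refine Nat.card_le_card_of_surjective f fun C => ?_
    obtain ⟨g, rfl⟩ := C.exists_rep
    by_cases hg : (g : G) ∈ D.F
    · by_cases hg1 : g = 1
      · exact ⟨Sum.inl 1, by subst hg1; rfl⟩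
      · exact ⟨Sum.inr ⟨_, g, hg, hg1, rfl⟩, rfl⟩
    · have hga : (g : G) • D.a = D.a :=
        (normalizer_F D hn ▸ g.2 : (g : G) ∈ stabilizer G D.a)
      obtain ⟨u, hu, x, hx, e⟩ := D.decomp hga
      have hx1 : x ≠ 1 := fun h => hg (by rw [e, h, mul_one]; exact hu)
      obtain ⟨v, hv, hvx⟩ := exists_conj_eq_mul D hu hx hx1
      refine ⟨Sum.inl ⟨x, hx⟩, ?_⟩
      simp only [f, Sum.elim_inl, ConjClasses.mk_eq_mk_iff_isConj, isConj_iff]
      exact ⟨⟨v, Subgroup.le_normalizer hv⟩, Subtype.ext (hvx.trans e.symm)⟩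
  -- characters trivial on the kernel
  letI : CommGroup D.H := { (inferInstance : Group D.H) with
    mul_comm := fun x y => (IsCyclic.commGroup (α := D.H)).mul_comm x y }
  haveI := Fintype.ofFinite (D.H →* ℂˣ)
  have hdual : Fintype.card (D.H →* ℂˣ) = Nat.card D.H := by
    haveI : NeZero (Monoid.exponent D.H) := ⟨Monoid.exponent_ne_zero_of_finite⟩
    rw [← Nat.card_eq_fintype_card, CommGroup.card_monoidHom_of_hasEnoughRootsOfUnity D.H ℂ]
  set S' := Finset.univ.filter fun χ : IrrCharacter L =>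
    Char.FrobTI.NonTriv (Char.FrobTI.KN D.F) (χ : L → ℂ) with hS'
  have htriv : Nat.card D.H ≤ S'ᶜ.card := by
    rw [← hdual, ← Finset.card_univ]
    refine Finset.card_le_card_of_injOn
      (fun l => (⟨fun g => (l (toHN D hn g) : ℂ), Char.isIrr_linear (l.comp (toHN D hn))⟩ :
        IrrCharacter L)) (fun l _ => ?_) (fun l _ l' _ e => ?_)
    · simp only [Finset.mem_coe, Finset.mem_compl, hS', Finset.mem_filter, Finset.mem_univ, true_and]
      rintro ⟨k, hk, hne⟩
      refine hne ?_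
      simp only [toHN, MonoidHom.comp_apply]
      rw [toH_F D (Subgroup.inclusion (normalizer_F D hn).le k) hk, map_one, map_one, map_one, map_one]
    · refine MonoidHom.ext fun x => Units.ext ?_
      have h := congrFun (congrArg Subtype.val e) ⟨x, (normalizer_F D hn).ge x.2.1⟩
      have hx : toHN D hn ⟨x, (normalizer_F D hn).ge x.2.1⟩ = x := toH_H D _ x.2
      simpa [hx] using h
  have hcardL : Nat.card (IrrCharacter L) = S'.card + S'ᶜ.card := by
    rw [Finset.card_add_card_compl, Nat.card_eq_fintype_card]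
  rw [Char.card_irrCharacter] at hcardL ⊢
  have hM := classes_avoiding D hn hH hs hodd hlt
  omega

/-- Coherence contradicts a small odd two-point stabilizer. -/
theorem not_coherent [Fintype G] (D : Frame G Ω) (hZ : Cfsg.IsZassenhausGroup G Ω) [IsCyclic D.H]
    (hn : 2 ≤ Nat.card D.F) (hH : D.H ≠ ⊥) (hs : Swaps D) (hodd : Odd (Nat.card D.H))
    (hlt : 2 * Nat.card D.H < Nat.card D.F - 1) (hna : ∃ a ∈ D.F, ∃ b ∈ D.F, a * b ≠ b * a)
    [Fintype (Subgroup.normalizer (D.F : Set G))]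
    {S : Set (Subgroup.normalizer (D.F : Set G) → ℂ)}
    {star : (Subgroup.normalizer (D.F : Set G) → ℂ) → (G → ℂ)}
    (hstar : Char.FrobTI.StarData D.F S star) : False := by
  haveI := Fintype.ofFinite D.F
  let L := Subgroup.normalizer (D.F : Set G)
  set K := Char.FrobTI.KN D.F with hK
  have hidx : K.index = Nat.card D.H := F_index D hn
  have hH0 : (Nat.card D.H : ℂ) ≠ 0 := Nat.cast_ne_zero.mpr Nat.card_pos.ne'
  have hfix := Char.FrobTI.fix_of_centralizer D.F hstar.cent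
  have hC' := Char.KerSets.cent_KN D.F hstar.cent
  have hKtop : K ≠ ⊤ := fun h => (F_lt D hn hH).not_ge (Subgroup.subgroupOf_eq_top.1 h)
  haveI := Char.KerSets.isNilpotent K hC' hKtop
  haveI : Nontrivial D.F := Finite.one_lt_card_iff_nontrivial.mp (by omega)
  obtain ⟨⟨u, hu⟩, hu1'⟩ := exists_ne (1 : D.F)
  have hu1 : u ≠ 1 := fun e => hu1' (Subtype.ext e)
  let uL : L := ⟨u, Subgroup.le_normalizer hu⟩
  have huK : uL ∈ K := hu
  have huL1 : uL ≠ 1 := fun e => hu1 (congrArg Subtype.val e)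
  have hK1 : K ≠ ⊥ := fun e => huL1 (by rw [e] at huK; exact Subgroup.mem_bot.mp huK)
  -- a character of degree `|H|`
  have hlin := Char.KerSets.card_linear K hC'
  have hDK := Char.KerSets.commutator_relIndex_ne_one K hK1
  obtain ⟨ξ₀, hξ₀⟩ : (Char.KerSets.TT K ⁅K, K⁆).Nonempty := Finset.card_pos.mp (by
    by_contra h
    push Not at h
    rw [Nat.le_zero.mp h, zero_mul, zero_add] at hlin
    exact hDK.not_ge (Subgroup.relIndex_eq_one.1 hlin.symm))
  obtain ⟨hξi, hξn, hξD⟩ := Char.KerSets.mem_TT.1 hξ₀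
  have hξ1 : ξ₀ 1 = (Nat.card D.H : ℂ) := by
    rw [Char.KerSets.dg_spec hξi, Char.KerSets.dg_eq_index K hC' hξ₀, hidx]
  set S' := Finset.univ.filter fun χ : IrrCharacter L =>
    Char.FrobTI.NonTriv K (χ : L → ℂ) with hS'
  have hmem : ∀ ρ ∈ S', (ρ : L → ℂ) ∈ S := fun ρ hρ =>
    (hstar.mem _).mpr ⟨ρ.2, (Finset.mem_filter.mp hρ).2⟩
  have hξS' : (⟨ξ₀, hξi⟩ : IrrCharacter L) ∈ S' := Finset.mem_filter.mpr ⟨Finset.mem_univ _, hξn⟩
  have hsumsq : ∑ ρ ∈ S', (ρ : L → ℂ) 1 * (ρ : L → ℂ) 1 =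
      ((Nat.card D.F : ℂ) - 1) * Nat.card D.H := by
    rw [Char.FrobTI.sum_sq_nonTriv K, hidx, ← K.card_mul_index, hidx,
      Nat.card_congr (Subgroup.subgroupOfEquivOfLe Subgroup.le_normalizer).toEquiv, Nat.cast_mul]
    ring
  have htwo : ∃ χ ∈ S, ∃ ξ ∈ S, χ ≠ ξ := by
    obtain ⟨ρ, hρ, hne⟩ : ∃ ρ ∈ S', ρ ≠ ⟨ξ₀, hξi⟩ := by
      by_contra h
      push Not at h
      rw [Finset.eq_singleton_iff_unique_mem.mpr ⟨hξS', h⟩, Finset.sum_singleton] at hsumsq
      simp only [hξ1] at hsumsq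
      have e : Nat.card D.F = Nat.card D.H + 1 := by
        have := mul_right_cancel₀ hH0 hsumsq
        have h' : (Nat.card D.F : ℂ) = ((Nat.card D.H + 1 : ℕ) : ℂ) := by
          push_cast; linear_combination -this
        exact_mod_cast h'
      omega
    exact ⟨ρ, hmem ρ hρ, ξ₀, hmem _ hξS', fun e => hne (Subtype.ext e)⟩
  obtain ⟨m, hm⟩ := hstar.exists_m (hmem _ hξS')
  rw [hidx] at hm
  -- the exceptional characters
  have hnorm : ∀ ρ ∈ S', classInner (star ρ) (star ρ) = 1 := fun ρ hρ => by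
    rw [hstar.isometry.2.2.1 _ (hstar.mem_span (hmem ρ hρ)) _ (hstar.mem_span (hmem ρ hρ)),
      Char.classInner_self_irr ρ.2]
  have hex : ∀ ρ : IrrCharacter L, ∃ φ : IrrCharacter G, ρ ∈ S' →
      star ρ = (φ : G → ℂ) ∨ star ρ = -(φ : G → ℂ) := by
    intro ρ
    by_cases hρ : ρ ∈ S'
    · rcases Char.IsGenChar.norm_one (hstar.gen (hmem ρ hρ)) (hnorm ρ hρ) with h | h
      · exact ⟨⟨_, h⟩, fun _ => Or.inl rfl⟩
      · exact ⟨⟨_, h⟩, fun _ => Or.inr (neg_neg _).symm⟩
    · exact ⟨⟨_, Char.isIrr_one⟩, fun h => absurd h hρ⟩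
  choose φ hφ using hex
  have hinj : Set.InjOn φ S' := by
    intro ρ hρ ρ' hρ' e
    by_contra hne
    have h0 : classInner (star ρ) (star ρ') = 0 := by
      rw [hstar.isometry.2.2.1 _ (hstar.mem_span (hmem ρ hρ)) _ (hstar.mem_span (hmem ρ' hρ')),
        Char.classInner_irr_ne ρ.2 ρ'.2 fun e => hne (Subtype.ext e)]
    rcases hφ ρ hρ with e1 | e1 <;> rcases hφ ρ' hρ' with e2 | e2 <;>
      rw [e1, e2, e] at h0 <;>
      simp [Char.classInner_neg_left, Char.classInner_neg_right,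
        Char.classInner_self_irr (φ ρ').2] at h0
  set X := S'.image φ with hX
  have hconst : ∀ χ ∉ X, ∀ v ∈ D.F, v ≠ 1 → (χ : G → ℂ) v = (χ : G → ℂ) u := by
    intro χ hχ v hv hv1
    by_contra hne
    obtain ⟨ξ, hξ, hcase⟩ :=
      (hstar.exceptional_iff htwo χ.2).mpr ⟨v, hv, u, hu, hv1, hu1, hne⟩
    let ρ : IrrCharacter L := ⟨ξ, ((hstar.mem ξ).1 hξ).1⟩
    have hρ : ρ ∈ S' := Finset.mem_filter.mpr ⟨Finset.mem_univ _, ((hstar.mem ξ).1 hξ).2⟩
    obtain ⟨p, hp, hp'⟩ := Char.IsIrr.one_eq_pos χ.2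
    obtain ⟨q, hq, hq'⟩ := Char.IsIrr.one_eq_pos (φ ρ).2
    refine hχ (Finset.mem_image.mpr ⟨ρ, hρ, ?_⟩)
    have hneg : (χ : G → ℂ) ≠ -((φ ρ : IrrCharacter G) : G → ℂ) := fun e => by
      have h := congrFun e 1
      rw [Pi.neg_apply, hp', hq'] at h
      have h' : ((p + q : ℕ) : ℂ) = 0 := by push_cast; linear_combination h
      rw [Nat.cast_eq_zero] at h'
      omega
    rcases hcase with hc | hc <;> rcases hφ ρ hρ with e | e <;> rw [show star ξ = _ from e] at hc
    · exact (Subtype.ext hc).symm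
    · exact absurd hc hneg
    · exact absurd hc hneg
    · rw [neg_neg] at hc; exact (Subtype.ext hc).symm
  -- values on the kernel are rational integers
  have hint : ∀ χ ∉ X, ∃ z : ℤ, (χ : G → ℂ) u = z := by
    intro χ hχ
    obtain ⟨f, -, hf⟩ := Char.IsIrr.one_eq_pos χ.2
    obtain ⟨N, hN⟩ := Char.IsChar.classInner_nat (Char.IsChar.res (Char.IsIrr.isCharacter χ.2) D.F)
      (Char.IsChar.one (G := D.F))
    have hF0 : (Nat.card D.F : ℂ) ≠ 0 := Nat.cast_ne_zero.mpr Nat.card_pos.ne'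
    rw [classInner, inv_mul_eq_iff_eq_mul₀ hF0, ← Finset.add_sum_erase _ _ (Finset.mem_univ 1),
      Finset.sum_congr rfl (g := fun _ => (χ : G → ℂ) u) (fun x hx => by
        rw [map_one, mul_one]
        exact hconst χ hχ x x.2 fun e => (Finset.mem_erase.mp hx).1 (Subtype.ext e)),
      Finset.sum_const, Finset.card_erase_of_mem (Finset.mem_univ _), Finset.card_univ,
      ← Nat.card_eq_fintype_card, nsmul_eq_mul, map_one, mul_one, OneMemClass.coe_one, hf] at hN
    set q : ℚ := ((Nat.card D.F : ℚ) * N - f) / ((Nat.card D.F - 1 : ℕ) : ℚ) with hq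
    have hval : (χ : G → ℂ) u = (q : ℂ) := by
      rw [hq]
      push_cast
      rw [eq_div_iff (Nat.cast_ne_zero.mpr (by omega))]
      linear_combination hN
    obtain ⟨z, hz⟩ := Char.int_of_isIntegral_rat
      (hval ▸ Char.IsChar.isIntegral (Char.IsIrr.isCharacter χ.2) u)
    exact ⟨z, hval.trans hz⟩
  choose c hc using hint
  -- centralizers
  have hcent : Nat.card (Subgroup.centralizer ({u} : Set G)) =
      Nat.card (Subgroup.centralizer ({uL} : Set L)) := by
    refine Nat.card_congr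
      { toFun := fun g => ⟨⟨g, Subgroup.le_normalizer (centralizer_le_F D hu hu1 g.2)⟩,
          Subgroup.mem_centralizer_singleton_iff.mpr (Subtype.ext
            (Subgroup.mem_centralizer_singleton_iff.mp g.2))⟩
        invFun := fun g => ⟨((g : L) : G), Subgroup.mem_centralizer_singleton_iff.mpr
          (congrArg Subtype.val (Subgroup.mem_centralizer_singleton_iff.mp g.2))⟩
        left_inv := fun g => rfl
        right_inv := fun g => rfl }
  have hcolG := Char.sum_irr_mul_conj (G := G) u u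
  rw [if_pos (IsConj.refl u), hcent] at hcolG
  have hcolL := Char.sum_irr_mul_conj (G := L) uL uL
  rw [if_pos (IsConj.refl uL)] at hcolL
  rw [← hcolL, ← Finset.sum_add_sum_compl X, hX, Finset.sum_image hinj,
    ← Finset.sum_add_sum_compl S'] at hcolG
  have hregL := Char.regular_expansion (G := L) uL
  rw [if_neg huL1, ← Finset.sum_add_sum_compl S'] at hregL
  have hcompl : S'ᶜ = Finset.univ.filter fun χ : IrrCharacter L =>
      ¬ Char.FrobTI.NonTriv K (χ : L → ℂ) := by
    ext χ; simp [hS']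
  have htriv : ∀ ρ ∈ S'ᶜ, (ρ : L → ℂ) uL = (ρ : L → ℂ) 1 := by
    intro ρ hρ
    rw [hcompl, Finset.mem_filter] at hρ
    by_contra h
    exact hρ.2 ⟨uL, huK, h⟩
  have hsqtriv : ∑ ρ ∈ S'ᶜ, (ρ : L → ℂ) 1 * (ρ : L → ℂ) 1 = (Nat.card D.H : ℂ) := by
    rw [hcompl, Char.FrobTI.sum_sq_triv K, hidx]
  have hreal : ∀ ρ : IrrCharacter L, conj ((ρ : L → ℂ) 1) = (ρ : L → ℂ) 1 := fun ρ => by
    obtain ⟨n, -, hn'⟩ := Char.IsIrr.one_eq_pos ρ.2
    rw [hn', map_natCast]
  have hdot : ∑ ρ ∈ S', (ρ : L → ℂ) 1 * (ρ : L → ℂ) uL = -(Nat.card D.H : ℂ) := by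
    rw [Finset.sum_congr rfl (s₁ := S'ᶜ) (g := fun ρ : IrrCharacter L => (ρ : L → ℂ) 1 * (ρ : L → ℂ) 1)
      (fun ρ hρ => by rw [htriv ρ hρ]), hsqtriv] at hregL
    linear_combination hregL
  have hdot' : ∑ ρ ∈ S', (ρ : L → ℂ) 1 * conj ((ρ : L → ℂ) uL) = -(Nat.card D.H : ℂ) := by
    have h := congrArg (starRingEnd ℂ) hdot
    rw [map_sum, map_neg, map_natCast] at h
    rw [← h]
    exact Finset.sum_congr rfl fun ρ _ => by rw [map_mul, hreal]
  set μ : ℂ := (m : ℂ) / (Nat.card D.H : ℂ) with hμ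
  have hμc : conj μ = μ := by rw [hμ, map_div₀, map_intCast, map_natCast]
  have hexc : ∀ ρ ∈ S', ((φ ρ : IrrCharacter G) : G → ℂ) u * conj (((φ ρ : IrrCharacter G) : G → ℂ) u) =
      (ρ : L → ℂ) uL * conj ((ρ : L → ℂ) uL) + μ * ((ρ : L → ℂ) 1 * conj ((ρ : L → ℂ) uL)) +
        μ * ((ρ : L → ℂ) 1 * (ρ : L → ℂ) uL) + μ * μ * ((ρ : L → ℂ) 1 * (ρ : L → ℂ) 1) := by
    intro ρ hρ
    have h := hm _ (hmem ρ hρ) uL hu huL1
    have hst : star ρ u = (ρ : L → ℂ) uL + μ * (ρ : L → ℂ) 1 := by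
      rw [hμ, div_mul_eq_mul_div]
      exact sub_eq_iff_eq_add'.mp h
    have e : ((φ ρ : IrrCharacter G) : G → ℂ) u * conj (((φ ρ : IrrCharacter G) : G → ℂ) u) =
        star ρ u * conj (star ρ u) := by
      rcases hφ ρ hρ with e | e <;> rw [e] <;> simp
    rw [e, hst, map_add, map_mul, hμc, hreal]
    ring
  rw [Finset.sum_congr rfl hexc, Finset.sum_add_distrib, Finset.sum_add_distrib,
    Finset.sum_add_distrib, ← Finset.mul_sum, ← Finset.mul_sum, ← Finset.mul_sum, hdot, hdot',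
    hsumsq, Finset.sum_congr rfl (s₁ := S'ᶜ) (g := fun ρ : IrrCharacter L =>
      (ρ : L → ℂ) 1 * (ρ : L → ℂ) 1) (fun ρ hρ => by rw [htriv ρ hρ, hreal]), hsqtriv] at hcolG
  set O := (S'.image φ)ᶜ with hO
  have hOmem : ∀ {χ}, χ ∈ O → χ ∉ X := fun {χ} h => by rw [hX]; exact Finset.mem_compl.mp h
  set P : ℤ := ∑ χ ∈ O.attach, (c χ.1 (hOmem χ.2)) ^ 2 with hP
  have hsumO : ∑ χ ∈ O, (χ : G → ℂ) u * conj ((χ : G → ℂ) u) = (P : ℂ) := by
    rw [hP, ← Finset.sum_attach O, Int.cast_sum]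
    refine Finset.sum_congr rfl fun χ _ => ?_
    rw [hc χ.1 (hOmem χ.2), map_intCast, sq, Int.cast_mul]
  rw [hsumO] at hcolG
  have hPeq : P * Nat.card D.H - 2 * m * Nat.card D.H + m ^ 2 * ((Nat.card D.F : ℤ) - 1) =
      (Nat.card D.H : ℤ) ^ 2 := by
    have e : μ * (Nat.card D.H : ℂ) = m := by rw [hμ, div_mul_cancel₀ _ hH0]
    have h : ((P * Nat.card D.H - 2 * m * Nat.card D.H + m ^ 2 * ((Nat.card D.F : ℤ) - 1) : ℤ) : ℂ) =
        (((Nat.card D.H : ℤ) ^ 2 : ℤ) : ℂ) := by
      push_cast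
      linear_combination (Nat.card D.H : ℂ) * hcolG + (2 * (Nat.card D.H : ℂ) -
        ((Nat.card D.F : ℂ) - 1) * (μ * (Nat.card D.H : ℂ) + m)) * e
    exact_mod_cast h
  -- at most one of the other characters vanishes on the kernel
  have hzero : ∀ χ (hχ : χ ∉ X), c χ hχ = 0 →
      (χ : G → ℂ) = fun g => psi D 1 g - 1 := by
    intro χ hχ h0
    have hvan : ∀ v ∈ D.F, v ≠ 1 → (χ : G → ℂ) v = 0 := fun v hv hv1 => by
      rw [hconst χ hχ v hv hv1, hc χ hχ, h0, Int.cast_zero]
    obtain ⟨f, hf, hf'⟩ := Char.IsIrr.one_eq_pos χ.2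
    obtain ⟨l, hl⟩ : ∃ l, classInner (psi D l) (χ : G → ℂ) ≠ 0 := by
      by_contra h
      push Not at h
      have h1 := (orth_psi D (Char.IsIrr.classFun χ.2) h).1
      rw [Finset.sum_eq_single (1 : D.F) (fun x _ hx => hvan x x.2 fun e => hx (Subtype.ext e))
        (by simp), OneMemClass.coe_one, hf', Nat.cast_eq_zero] at h1
      omega
    rcases constituent D hs hodd l χ.2 hl with h | ⟨-, h⟩
    · have := h u hu hu1
      rw [hvan u hu hu1] at this
      exact absurd this zero_ne_one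
    · exact h
  have hPge : (Nat.card D.H : ℤ) ≤ P := by
    have hcount := count_classes D hn hH hs hodd (by omega)
    have hOcard : Nat.card D.H + 1 ≤ O.attach.card := by
      rw [Finset.card_attach, hO, Finset.card_compl, Finset.card_image_of_injOn hinj,
        ← Nat.card_eq_fintype_card]
      have key : S'.card + Nat.card D.H + 1 ≤ Nat.card (IrrCharacter G) := by convert hcount
      omega
    have hone : (O.attach.filter fun χ => c χ.1 (hOmem χ.2) = 0).card ≤ 1 :=
      Finset.card_le_one.mpr fun x hx y hy => Subtype.ext (Subtype.ext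
        ((hzero _ _ (Finset.mem_filter.mp hx).2).trans (hzero _ _ (Finset.mem_filter.mp hy).2).symm))
    have hsplit := Finset.card_filter_add_card_filter_not (s := O.attach)
      (fun χ => c χ.1 (hOmem χ.2) = 0)
    have hge : ((O.attach.filter fun χ => ¬ c χ.1 (hOmem χ.2) = 0).card : ℤ) ≤ P := by
      rw [hP, Finset.card_eq_sum_ones, Nat.cast_sum]
      refine le_trans (Finset.sum_le_sum fun χ hχ => ?_)
        (Finset.sum_le_sum_of_subset_of_nonneg (Finset.filter_subset _ _) fun _ _ _ => sq_nonneg _)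
      have := (sq_pos_iff.mpr (Finset.mem_filter.mp hχ).2)
      push_cast
      omega
    omega
  have hm0 : m = 0 := by
    by_contra hm0
    have h1 : 1 ≤ m ^ 2 := (sq_pos_iff.mpr hm0)
    have hm2 : m ≤ m ^ 2 := Int.le_self_sq m
    have hgap : (2 : ℤ) * Nat.card D.H + 1 ≤ (Nat.card D.F : ℤ) - 1 := by omega
    have h2 := mul_le_mul_of_nonneg_left hgap (sq_nonneg m)
    have h3 := mul_le_mul_of_nonneg_right hPge (Int.natCast_nonneg (Nat.card D.H))
    have h4 := mul_le_mul_of_nonneg_right hm2 (Int.natCast_nonneg (Nat.card D.H))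
    nlinarith
  -- the exceptional character of degree `|H|`
  set χ₁ := φ ⟨ξ₀, hξi⟩ with hχ₁
  have hstarF : ∀ v : D.F, v ≠ 1 → star ξ₀ (v : G) = ξ₀ ⟨v, Subgroup.le_normalizer v.2⟩ := by
    intro v hv
    have h := hm ξ₀ (hmem _ hξS') ⟨v, Subgroup.le_normalizer v.2⟩ v.2
      (fun e => hv (Subtype.ext (congrArg (fun x : L => (x : G)) e)))
    rw [hm0, Int.cast_zero, zero_mul, zero_div, sub_eq_zero] at h
    exact h
  have hnotconst : ∀ l, classInner (psi D l) (χ₁ : G → ℂ) = 0 := by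
    intro l
    by_contra hl
    obtain ⟨x, hx, y, hy, hx1, hy1, hxy⟩ := (hstar.exceptional_iff htwo χ₁.2).mp ⟨ξ₀, hmem _ hξS', by
      rcases hφ ⟨ξ₀, hξi⟩ hξS' with e | e
      · exact Or.inl e.symm
      · exact Or.inr (by rw [show star ξ₀ = _ from e, neg_neg])⟩
    rcases constituent D hs hodd l χ₁.2 hl with h | ⟨h, -⟩ <;>
      exact hxy ((h x hx hx1).trans (h y hy hy1).symm)
  obtain ⟨hsum0, hH'⟩ := orth_psi D (Char.IsIrr.classFun χ₁.2) hnotconst
  have hξsum : ∑ v : D.F, ξ₀ ⟨v, Subgroup.le_normalizer v.2⟩ = 0 := by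
    haveI := Fintype.ofFinite K
    have h := congrFun (Char.FrobTI.avg_of_nonTriv K hξi hξn) 1
    simp only [Char.avgN, mul_one, Pi.zero_apply, mul_eq_zero, inv_eq_zero] at h
    have h' := h.resolve_left (Nat.cast_ne_zero.mpr Nat.card_pos.ne')
    rw [← h']
    exact Fintype.sum_equiv (Subgroup.subgroupOfEquivOfLe Subgroup.le_normalizer).symm.toEquiv _ _
      fun v => rfl
  have hst1 : star ξ₀ 1 = ξ₀ 1 := by
    have h : ∑ v : D.F, star ξ₀ (v : G) = 0 := by
      rcases hφ ⟨ξ₀, hξi⟩ hξS' with e | e <;> rw [show star ξ₀ = _ from e]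
      · exact hsum0
      · simp only [Pi.neg_apply, Finset.sum_neg_distrib, hsum0, neg_zero, ← hχ₁]
    rw [← Finset.add_sum_erase _ _ (Finset.mem_univ (1 : D.F))] at h hξsum
    rw [Finset.sum_congr rfl fun v hv => hstarF v (Finset.mem_erase.mp hv).1] at h
    simp only [OneMemClass.coe_one] at h hξsum
    have : (⟨(1 : G), Subgroup.le_normalizer D.F.one_mem⟩ : L) = 1 := rfl
    rw [this] at hξsum
    linear_combination h - hξsum
  have hpos : star ξ₀ = (χ₁ : G → ℂ) := by
    rcases hφ ⟨ξ₀, hξi⟩ hξS' with e | e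
    · exact e
    · exfalso
      obtain ⟨q, hq, hq'⟩ := Char.IsIrr.one_eq_pos χ₁.2
      rw [show star ξ₀ = _ from e, ← hχ₁, Pi.neg_apply, hq', hξ1] at hst1
      have h' : ((q + Nat.card D.H : ℕ) : ℂ) = 0 := by push_cast; linear_combination -hst1
      rw [Nat.cast_eq_zero] at h'
      omega
  -- its kernel
  obtain ⟨n, ρ, -, hρc⟩ := id χ₁.2
  have hdim : ((χ₁ : G → ℂ) 1) = (n : ℂ) := by
    rw [← hρc, Representation.char_one, Module.finrank_fin_fun]
  have hker : ∀ g : G, g ∈ MonoidHom.ker ρ ↔ (χ₁ : G → ℂ) g = (χ₁ : G → ℂ) 1 := fun g => by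
    rw [hdim, ← hρc, MonoidHom.mem_ker]
    have h := Char.character_eq_finrank_iff ρ g
    rw [Module.finrank_fin_fun] at h
    exact h.symm
  obtain ⟨a, ha, b, hb, hab⟩ := hna
  have hvne : ⁅a, b⁆ ≠ 1 := fun e => hab (commutatorElement_eq_one_iff_mul_comm.mp e)
  have hvF : ⁅a, b⁆ ∈ D.F := by
    rw [commutatorElement_def]
    exact mul_mem (mul_mem (mul_mem ha hb) (inv_mem ha)) (inv_mem hb)
  have hvN : ⁅a, b⁆ ∈ MonoidHom.ker ρ := by
    rw [hker, ← hpos, hst1, hstarF ⟨_, hvF⟩ fun e => hvne (congrArg Subtype.val e)]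
    by_contra h
    refine hξD ⟨⟨⁅a, b⁆, Subgroup.le_normalizer hvF⟩, ?_, h⟩
    have hc' : (⁅(⟨a, Subgroup.le_normalizer ha⟩ : L), ⟨b, Subgroup.le_normalizer hb⟩⁆) ∈ ⁅K, K⁆ :=
      Subgroup.commutator_mem_commutator ha hb
    exact hc'
  have hNne : MonoidHom.ker ρ ≠ ⊥ := fun e => hvne (by rwa [e, Subgroup.mem_bot] at hvN)
  haveI := D.finite_points
  have hZN := Cfsg.Agent.Lie.ZPerm.normal_zassenhaus hZ (MonoidHom.ker ρ) hNne
  obtain ⟨x, hx, hx1⟩ : ∃ x ∈ stabilizer (MonoidHom.ker ρ) D.a ⊓ stabilizer (MonoidHom.ker ρ) D.b,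
      x ≠ 1 := by
    by_contra h
    push Not at h
    exact stab_two_ne_bot hZN D.hab ((Subgroup.eq_bot_iff_forall _).mpr h)
  have hxH : (x : G) ∈ D.H := ⟨hx.1, hx.2⟩
  have h1 := hH' ⟨x, hxH⟩ fun e => hx1 (Subtype.ext (congrArg (fun y : D.H => (y : G)) e))
  rw [(hker _).mp x.2, ← hpos, hst1, hξ1] at h1
  exact hH0 h1

/-- Feit's inequality. -/
theorem feit_inequality (m : ℕ) : ∀ (G : Type u) (Ω : Type v) [Group G] [MulAction G Ω] [Finite G]
    (D : Frame G Ω), Nat.card G = m → Cfsg.IsZassenhausGroup G Ω → Odd (Nat.card D.H) →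
    Nat.card D.F - 1 ≤ 2 * Nat.card D.H ∨
      (IsPGroup 2 D.F ∧ (∃ a ∈ D.F, ∃ b ∈ D.F, a * b ≠ b * a) ∧
        (commutator D.F).index ≤ 4 * Nat.card D.H ^ 2 + 1) := by
  induction m using Nat.strong_induction_on with
  | _ m ih =>
    intro G Ω _ _ _ D hm hZ hodd
    have hn := D.two_le_F hZ
    have hH := D.H_ne_bot hZ
    by_cases hab : ∀ x ∈ D.F, ∀ y ∈ D.F, x * y = y * x
    · exact Or.inl (half_bound _ G Ω D rfl hZ hab)
    push Not at hab
    by_cases hc : ∃ q : ℕ, q.Prime ∧ q ∣ Nat.card D.H ∧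
        ∃ N : Subgroup G, N.Normal ∧ N.index = q ^ (Nat.card G).factorization q
    · obtain ⟨q, hq, hqd, N, hNn, hidx⟩ := hc
      obtain ⟨hN1, hN2⟩ := D.complement_ne hn hodd hq hqd N hidx
      have hle := D.F_le_of_complement hn hq hqd N hidx
      obtain ⟨D', hZN, hcF, hH', hmem⟩ := D.restrict hZ N hle hN1
      have hlt : Nat.card N < Nat.card G :=
        lt_of_le_of_ne (Subgroup.card_le_card_group N) fun e => hN2 (Subgroup.eq_top_of_card_eq N e)
      have hHle : Nat.card D'.H ∣ Nat.card D.H := by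
        rw [hH']
        have h1 := (D.H.subgroupOf N).card_subgroup_dvd_card
        refine (Subgroup.card_dvd_of_injective
          ({ toFun := fun x => ⟨((x : N) : G), x.2⟩
             map_one' := rfl
             map_mul' := fun _ _ => rfl } : D.H.subgroupOf N →* D.H) fun x y e => ?_)
        exact Subtype.ext (Subtype.ext (congrArg (fun z : D.H => (z : G)) e))
      have hle2 := Nat.le_of_dvd Nat.card_pos hHle
      have hodd' : Odd (Nat.card D'.H) := hodd.of_dvd_nat hHle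
      rcases ih _ (hm ▸ hlt) N Ω D' rfl hZN hodd' with h | ⟨h2, -, h4⟩
      · exact Or.inl (by rw [hcF] at h; omega)
      let f : D'.F →* D.F :=
        { toFun := fun x => ⟨((x : N) : G), (hmem x x x.2 x.2).1⟩
          map_one' := rfl
          map_mul' := fun _ _ => rfl }
      have hf : Function.Injective f := fun x y e =>
        Subtype.ext (Subtype.ext (congrArg (fun z : D.F => (z : G)) e))
      let ε : D'.F ≃* D.F :=
        MulEquiv.ofBijective f ((Nat.bijective_iff_injective_and_card f).mpr ⟨hf, hcF⟩)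
      refine Or.inr ⟨h2.of_equiv ε, hab, ?_⟩
      have hidx' : (commutator D.F).index = (commutator D'.F).index := by
        have hmap : (commutator D'.F).map (ε : D'.F →* D.F) = commutator D.F := by
          rw [map_commutator_eq, MonoidHom.range_eq_top.mpr ε.surjective]
          rfl
        rw [← hmap, Subgroup.index_map_equiv]
      rw [hidx']
      refine h4.trans ?_
      have := Nat.pow_le_pow_left hle2 2
      omega
    · push Not at hc
      obtain ⟨hcyc, hinv, -⟩ := D.inversion_of_no_complement hn hH hodd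
        fun q hq hqd ⟨N, hNn, hidx⟩ => hc q hq hqd N hNn hidx
      haveI := hcyc
      by_cases hsmall : Nat.card D.F - 1 ≤ 2 * Nat.card D.H
      · exact Or.inl hsmall
      have hs : Swaps D := fun s hsa hsb => by
        refine ⟨?_, hinv s hsa hsb⟩
        have hmem : s * s ∈ D.H := ⟨by show (s * s) • D.a = D.a; rw [mul_smul, hsa, hsb],
          by show (s * s) • D.b = D.b; rw [mul_smul, hsb, hsa]⟩
        have e : s * (s * s) * s⁻¹ = s * s := by group
        rw [hinv s hsa hsb _ hmem] at e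
        have h4 : (s * s) ^ 2 = 1 := by
          rw [sq]; nth_rewrite 1 [← e]; exact inv_mul_cancel _
        have hd := Nat.dvd_gcd (Subgroup.orderOf_dvd_natCard D.H hmem) (orderOf_dvd_of_pow_eq_one h4)
        rwa [(Nat.coprime_two_right.mpr hodd : Nat.gcd (Nat.card D.H) 2 = 1), Nat.dvd_one,
          orderOf_eq_one_iff] at hd
      haveI := Fintype.ofFinite G
      haveI := Fintype.ofFinite (Subgroup.normalizer (D.F : Set G))
      have hFne : D.F ≠ ⊥ := fun e => by rw [e, Subgroup.card_bot] at hn; omega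
      rcases Char.KerSets.feit_sibley D.F (F_TI D hn) (F_lt D hn hH)
        (fun k hk hk1 => centralizer_le_F D hk hk1) hFne with h | ⟨-, h2, -⟩ | ⟨h2, -, h3⟩
      · obtain ⟨-, star, hs', he'⟩ := h
        rw [Char.KerSets.TT_bot_eq] at hs' he'
        exact (not_coherent D hZ hn hH hs hodd (by omega) hab
          (star := star) ⟨F_TI D hn, F_lt D hn hH, fun k hk hk1 => centralizer_le_F D hk hk1,
            fun χ => Iff.rfl, hs', he'⟩).elim
      · rw [F_index D hn] at h2
        exact Or.inl (by omega)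
      · refine Or.inr ⟨h2, hab, ?_⟩
        rw [F_index D hn] at h3
        have e : (⁅D.F, D.F⁆ : Subgroup G).subgroupOf D.F = commutator D.F := by
          rw [← Subgroup.comap_map_eq_self_of_injective D.F.subtype_injective (commutator D.F),
            commutator_def, Subgroup.map_commutator, ← MonoidHom.range_eq_map, Subgroup.range_subtype]
          rfl
        rw [e] at h3
        omega

end Cfsg.Agent.Grp.ZasS
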