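import Mathlib
import Cfsg.Agent.Lib.Char.Integral

/-!
# Frobenius: the number of solutions of `x ^ m = 1`
-/

namespace Cfsg.Agent.Grp.PowCount

universe u

variable {G : Type u} [Group G] [Finite G]

/-- Elements with a fixed cyclic subgroup come in blocks of size `φ` of the order. -/
theorem dvd_card_of_zpowers_closed {d : ℕ} (P : G → Prop)
    (hP : ∀ x y : G, P x → Subgroup.zpowers y = Subgroup.zpowers x → P y)
    (hd : ∀ x : G, P x → d ∣ Nat.totient (orderOf x)) : d ∣ Nat.card {x : G // P x} := by
  classical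
  cases nonempty_fintype G
  rw [Nat.card_eq_fintype_card, Fintype.card_subtype]
  rw [Finset.card_eq_sum_card_image (fun x : G => Subgroup.zpowers x)]
  refine Finset.dvd_sum fun C hC => ?_
  obtain ⟨x, hx, rfl⟩ := Finset.mem_image.1 hC
  have hPx : P x := (Finset.mem_filter.1 hx).2
  have e : ((Finset.univ.filter P).filter fun y => Subgroup.zpowers y = Subgroup.zpowers x).card =
      Nat.totient (orderOf x) := by
    rw [← Nat.card_zpowers x, Nat.card_eq_fintype_card, ← IsCyclic.card_orderOf_eq_totient (α := Subgroup.zpowers x) dvd_rfl]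
    refine Finset.card_bij (fun y hy => (⟨y, by
      have := (Finset.mem_filter.1 hy).2
      exact this ▸ Subgroup.mem_zpowers y⟩ : Subgroup.zpowers x)) ?_ ?_ ?_
    · intro y hy
      rw [Finset.mem_filter]
      refine ⟨Finset.mem_univ _, ?_⟩
      rw [Subgroup.orderOf_mk, ← Nat.card_eq_fintype_card, Nat.card_zpowers, ← Nat.card_zpowers y,
        (Finset.mem_filter.1 hy).2, Nat.card_zpowers]
    · intro y₁ h₁ y₂ h₂ e
      exact congrArg Subtype.val e
    · rintro ⟨y, hy⟩ hb
      have ho := (Finset.mem_filter.1 hb).2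
      rw [Subgroup.orderOf_mk, ← Nat.card_eq_fintype_card] at ho
      have heq : Subgroup.zpowers y = Subgroup.zpowers x :=
        Subgroup.eq_of_le_of_card_ge (Subgroup.zpowers_le.2 hy) (by rw [Nat.card_zpowers y, ho])
      exact ⟨y, Finset.mem_filter.2 ⟨Finset.mem_filter.2 ⟨Finset.mem_univ _, hP x y hPx heq⟩, heq⟩, rfl⟩
  rw [e]
  exact hd x hPx

/-- Solutions in the centralizer of a `p`-element correspond to solutions in the quotient. -/
theorem card_sol_eq_quotient {C : Type u} [Group C] [Finite C] (U : Subgroup C) [U.Normal]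
    (hU : U ≤ Subgroup.center C) {m : ℕ} (hm : (Nat.card U).Coprime m) :
    Nat.card {v : C // v ^ m = 1} = Nat.card {w : C ⧸ U // w ^ m = 1} := by
  refine Nat.card_congr (Equiv.ofBijective
    (fun v => (⟨QuotientGroup.mk' U v.1, by rw [← map_pow, v.2, map_one]⟩ : {w : C ⧸ U // w ^ m = 1}))
    ⟨fun v v' e => ?_, fun w => ?_⟩)
  · have h1 : QuotientGroup.mk' U v.1 = QuotientGroup.mk' U v'.1 := congrArg Subtype.val e
    have hd : v.1⁻¹ * v'.1 ∈ U := QuotientGroup.eq.1 h1
    have hc : Commute v.1 (v.1⁻¹ * v'.1) := Subgroup.mem_center_iff.1 (hU hd) v.1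
    have h2 : (v.1⁻¹ * v'.1) ^ m = 1 := by
      have h3 : (v.1 * (v.1⁻¹ * v'.1)) ^ m = 1 := by rw [mul_inv_cancel_left]; exact v'.2
      rwa [hc.mul_pow, v.2, one_mul] at h3
    have h4 : (⟨_, hd⟩ : U) = 1 := (powCoprime hm).injective (by
      rw [powCoprime_one]
      exact Subtype.ext h2)
    exact Subtype.ext (inv_mul_eq_one.1 (congrArg Subtype.val h4))
  · obtain ⟨c, hc⟩ := QuotientGroup.mk'_surjective U w.1
    have hcm : c ^ m ∈ U := (QuotientGroup.eq_one_iff _).1 (show QuotientGroup.mk' U (c ^ m) = 1 by
      rw [map_pow, hc, w.2])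
    obtain ⟨d, hd⟩ := (powCoprime hm).surjective ⟨_, hcm⟩
    have hd' : ((d : C)) ^ m = c ^ m := congrArg Subtype.val hd
    have hcd : Commute c (d : C)⁻¹ := (show Commute c (d : C) from Subgroup.mem_center_iff.1 (hU d.2) c).inv_right
    refine ⟨⟨c * (d : C)⁻¹, by rw [hcd.mul_pow, inv_pow, hd', mul_inv_cancel]⟩, Subtype.ext ?_⟩
    show QuotientGroup.mk' U (c * (d : C)⁻¹) = w.1
    rw [map_mul, hc, show QuotientGroup.mk' U (d : C)⁻¹ = 1 from (QuotientGroup.eq_one_iff _).2 (inv_mem d.2),
      mul_one]

/-- Frobenius' theorem. -/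
theorem dvd_card_sol : ∀ (n : ℕ) (G : Type u) [Group G] [Finite G], Nat.card G = n →
    ∀ m : ℕ, m ∣ Nat.card G → m ∣ Nat.card {g : G // g ^ m = 1} := by
  intro n
  induction n using Nat.strong_induction_on with
  | _ n ih =>
    intro G _ _ hn
    classical
    cases nonempty_fintype G
    suffices H : ∀ (k m : ℕ), Nat.card G / m = k → m ∣ Nat.card G → m ∣ Nat.card {g : G // g ^ m = 1} from
      fun m hm => H _ m rfl hm
    intro k
    induction k using Nat.strong_induction_on with
    | _ k ihk =>
      intro m hk hm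
      have hm0 : m ≠ 0 := fun h => Nat.card_pos.ne' (Nat.eq_zero_of_zero_dvd (h ▸ hm) : Nat.card G = 0)
      by_cases htop : m = Nat.card G
      · subst htop
        exact dvd_of_eq (Nat.card_congr (Equiv.subtypeUnivEquiv fun g => pow_card_eq_one')).symm
      have hq1 : 1 < Nat.card G / m := by
        obtain ⟨c, hc⟩ := hm
        rw [hc, Nat.mul_div_cancel_left _ (Nat.pos_of_ne_zero hm0)]
        rcases Nat.lt_or_ge 1 c with h | h
        · exact h
        · interval_cases c
          · simp at hc
          · exact absurd (by rw [hc, mul_one]) htop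
      obtain ⟨p, hp, hpd⟩ := Nat.exists_prime_and_dvd hq1.ne'
      haveI := Fact.mk hp
      have hmp : m * p ∣ Nat.card G := by
        have := Nat.mul_dvd_mul_left m hpd
        rwa [Nat.mul_div_cancel' hm] at this
      have hbig : m ∣ Nat.card {g : G // g ^ (m * p) = 1} := by
        refine (dvd_mul_right m p).trans (ihk _ ?_ _ rfl hmp)
        rw [← hk, ← Nat.div_div_eq_div_mul]
        exact Nat.div_lt_self (by omega) hp.one_lt
      set B : G → Prop := fun g => g ^ (m * p) = 1 ∧ g ^ m ≠ 1 with hB
      have hsplit : Nat.card {g : G // g ^ (m * p) = 1} =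
          Nat.card {g : G // g ^ m = 1} + Nat.card {g : G // B g} := by
        simp only [Nat.card_eq_fintype_card, Fintype.card_subtype]
        rw [← Finset.card_union_of_disjoint (by
          rw [Finset.disjoint_filter]; exact fun x _ h h' => h'.2 h)]
        congr 1
        ext x
        simp only [Finset.mem_filter, Finset.mem_univ, true_and, Finset.mem_union, hB]
        constructor
        · intro h; tauto
        · rintro (h | ⟨h, -⟩)
          · rw [pow_mul, h, one_pow]
          · exact h
      refine (Nat.dvd_add_left ?_).1 (hsplit ▸ hbig)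
      obtain ⟨a, m', hm', hma⟩ := Nat.exists_eq_pow_mul_and_not_dvd hm0 p hp.ne_one
      have hcop : (p ^ (a + 1)).Coprime m' := ((hp.coprime_iff_not_dvd).2 hm').pow_left _
      have hmp' : m * p = p ^ (a + 1) * m' := by rw [hma, pow_succ]; ring
      rw [hma]
      refine Nat.Coprime.mul_dvd_of_dvd_of_dvd (((hp.coprime_iff_not_dvd).2 hm').pow_left _) ?_ ?_
      · refine dvd_card_of_zpowers_closed B (fun x y hx he => ?_) fun x hx => ?_
        · have ho : orderOf y = orderOf x := by rw [← Nat.card_zpowers, he, Nat.card_zpowers]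
          simp only [hB, ← orderOf_dvd_iff_pow_eq_one, ho, ne_eq] at hx ⊢
          exact hx
        · obtain ⟨h1, h2⟩ := hx
          rw [← orderOf_dvd_iff_pow_eq_one] at h1
          rw [ne_eq, ← orderOf_dvd_iff_pow_eq_one] at h2
          have hpa : p ^ (a + 1) ∣ orderOf x := by
            by_contra hc
            obtain ⟨b, c, hc', he⟩ := Nat.exists_eq_pow_mul_and_not_dvd (orderOf_pos x).ne' p hp.ne_one
            have hba : b ≤ a := by
              by_contra hlt
              exact hc (he ▸ dvd_mul_of_dvd_left (pow_dvd_pow p (by omega)) c)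
            refine h2 ?_
            rw [he, hma]
            refine Nat.mul_dvd_mul (pow_dvd_pow p hba) ?_
            have : c ∣ p ^ (a + 1) * m' := hmp' ▸ (dvd_mul_left c _).trans (he ▸ h1)
            exact ((((hp.coprime_iff_not_dvd).2 hc').pow_left _).symm).dvd_of_dvd_mul_left this
          refine dvd_trans ?_ (Nat.totient_dvd_of_dvd hpa)
          rw [Nat.totient_prime_pow_succ hp]
          exact dvd_mul_right _ _
      · -- the `p`-parts
        obtain ⟨α, hα1, hα2⟩ := Nat.chineseRemainder hcop 1 0
        obtain ⟨β, hβ1, hβ2⟩ := Nat.chineseRemainder hcop 0 1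
        have hαu : ∀ u : G, orderOf u ∣ p ^ (a + 1) → u ^ α = u := fun u hu => by
          conv_rhs => rw [← pow_one u]
          exact pow_eq_pow_iff_modEq.2 (hα1.of_dvd hu)
        have hαv : ∀ v : G, v ^ m' = 1 → v ^ α = 1 := fun v hv => by
          rw [← orderOf_dvd_iff_pow_eq_one] at hv ⊢
          exact hv.trans (Nat.modEq_zero_iff_dvd.1 hα2)
        let P : Type u := {u : G // orderOf u = p ^ (a + 1)}
        let S : G → Type u := fun u => {v : G // v ^ m' = 1 ∧ Commute u v}
        have hBeq : Nat.card {g : G // B g} = ∑ u : P, Nat.card (S u.1) := by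
          rw [← Nat.card_sigma]
          refine Nat.card_congr ?_
          refine
            { toFun := fun x => ⟨⟨x.1 ^ α, ?_⟩, ⟨x.1 ^ β, ?_, (Commute.refl x.1).pow_pow _ _⟩⟩
              invFun := fun w => ⟨w.1.1 * w.2.1, ?_, ?_⟩
              left_inv := fun x => ?_
              right_inv := fun w => ?_ }
          · obtain ⟨h1, h2⟩ := x.2
            rw [hmp', pow_mul] at h1
            refine orderOf_eq_prime_pow (fun he => h2 ?_) ?_
            · have hsum : x.1 ^ (α + β) = x.1 := by
                conv_rhs => rw [← pow_one x.1]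
                refine pow_eq_pow_iff_modEq.2 (Nat.ModEq.of_dvd (orderOf_dvd_of_pow_eq_one (by rw [pow_mul]; exact h1)) ?_)
                exact (Nat.modEq_and_modEq_iff_modEq_mul hcop).1 ⟨by simpa using hα1.add hβ1, by simpa using hα2.add hβ2⟩
              have hv : (x.1 ^ β) ^ m = 1 := by
                obtain ⟨c, hc⟩ := Nat.modEq_zero_iff_dvd.1 hβ1
                rw [hma, ← pow_mul, hc, show p ^ (a + 1) * c * (p ^ a * m') = p ^ (a + 1) * m' * (c * p ^ a) by ring,
                  pow_mul, pow_mul (x.1), h1, one_pow]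
              calc x.1 ^ m = (x.1 ^ α * x.1 ^ β) ^ m := by rw [← pow_add, hsum]
                _ = (x.1 ^ α) ^ m := by rw [((Commute.refl x.1).pow_pow _ _).mul_pow, hv, mul_one]
                _ = 1 := by rw [hma, pow_mul, he, one_pow]
            · obtain ⟨c, hc⟩ := Nat.modEq_zero_iff_dvd.1 hα2
              rw [← pow_mul, hc, show m' * c * p ^ (a + 1) = p ^ (a + 1) * m' * c by ring, pow_mul,
                pow_mul x.1, h1, one_pow]
          · obtain ⟨c, hc⟩ := Nat.modEq_zero_iff_dvd.1 hβ1
            rw [← pow_mul, hc, show p ^ (a + 1) * c * m' = p ^ (a + 1) * m' * c by ring, pow_mul, ← hmp', x.2.1,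
              one_pow]
          · obtain ⟨hv, hc⟩ := w.2.2
            rw [hc.mul_pow, hmp', pow_mul w.1.1, orderOf_dvd_iff_pow_eq_one.1 (dvd_of_eq w.1.2), one_pow,
              mul_comm (p ^ (a + 1)) m', pow_mul, hv, one_pow, one_mul]
          · intro he
            obtain ⟨hv, hc⟩ := w.2.2
            rw [hc.mul_pow, hma, mul_comm (p ^ a), pow_mul w.2.1, hv, one_pow, mul_one, ← orderOf_dvd_iff_pow_eq_one,
              w.1.2, pow_succ, mul_comm m'] at he
            exact hm' (Nat.dvd_of_mul_dvd_mul_left (pow_pos hp.pos a) he)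
          · refine Subtype.ext ?_
            show x.1 ^ α * x.1 ^ β = x.1
            rw [← pow_add]
            conv_rhs => rw [← pow_one x.1]
            refine pow_eq_pow_iff_modEq.2 (Nat.ModEq.of_dvd (orderOf_dvd_of_pow_eq_one (hmp' ▸ x.2.1)) ?_)
            exact (Nat.modEq_and_modEq_iff_modEq_mul hcop).1 ⟨by simpa using hα1.add hβ1, by simpa using hα2.add hβ2⟩
          · obtain ⟨⟨u, hu⟩, v, hv, hc⟩ := w
            have e1 : (u * v) ^ α = u := by rw [hc.mul_pow, hαu u (dvd_of_eq hu), hαv v hv, mul_one]
            refine Sigma.subtype_ext (Subtype.ext e1) ?_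
            show (u * v) ^ β = v
            rw [hc.mul_pow, show u ^ β = 1 by
              rw [← orderOf_dvd_iff_pow_eq_one, hu]; exact Nat.modEq_zero_iff_dvd.1 hβ1, one_mul]
            conv_rhs => rw [← pow_one v]
            exact pow_eq_pow_iff_modEq.2 (hβ2.of_dvd (orderOf_dvd_of_pow_eq_one hv))
        rw [hBeq]
        rw [← Finset.sum_fiberwise Finset.univ (fun u : P => ConjClasses.mk u.1)]
        refine Finset.dvd_sum fun K _ => ?_
        by_cases hne : (Finset.univ.filter fun u : P => ConjClasses.mk u.1 = K).Nonempty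
        swap
        · rw [Finset.not_nonempty_iff_eq_empty.1 hne, Finset.sum_empty]; exact dvd_zero _
        obtain ⟨u₀, hu₀⟩ := hne
        rw [Finset.mem_filter] at hu₀
        have hconst : ∀ u ∈ (Finset.univ.filter fun u : P => ConjClasses.mk u.1 = K),
            Nat.card (S u.1) = Nat.card (S u₀.1) := by
          intro u hu
          obtain ⟨g, hg⟩ := isConj_iff.1 (ConjClasses.mk_eq_mk_iff_isConj.1
            (hu₀.2.trans (Finset.mem_filter.1 hu).2.symm))
          refine (Nat.card_congr ((MulAut.conj g).toEquiv.subtypeEquiv fun v => ?_)).symm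
          simp only [MulEquiv.toEquiv_eq_coe, EquivLike.coe_coe, ← map_pow, ← hg]
          refine and_congr (by simp) ?_
          rw [show g * u₀.1 * g⁻¹ = (MulAut.conj g) u₀.1 from rfl, commute_iff_eq, commute_iff_eq, ← map_mul,
            ← map_mul, (MulAut.conj g).injective.eq_iff]
        rw [Finset.sum_congr rfl hconst, Finset.sum_const, smul_eq_mul]
        have hcl : (Finset.univ.filter fun u : P => ConjClasses.mk u.1 = K).card =
            (Subgroup.centralizer ({u₀.1} : Set G)).index := by
          rw [← Cfsg.Agent.Char.card_conjClass u₀.1, ← Fintype.card_subtype, ← Nat.card_eq_fintype_card]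
          refine Nat.card_congr
            { toFun := fun u => ⟨u.1.1, ConjClasses.mk_eq_mk_iff_isConj.1 (hu₀.2.trans u.2.symm)⟩
              invFun := fun x => ⟨⟨x.1, ?_⟩, ?_⟩
              left_inv := fun u => rfl
              right_inv := fun x => rfl }
          · obtain ⟨g, hg⟩ := isConj_iff.1 x.2
            rw [← hg, show g * u₀.1 * g⁻¹ = MulAut.conj g u₀.1 from rfl]
            exact ((MulAut.conj g).orderOf_eq u₀.1).trans u₀.2
          · exact (ConjClasses.mk_eq_mk_iff_isConj.2 x.2).symm.trans hu₀.2
        rw [hcl]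
        set C := Subgroup.centralizer ({u₀.1} : Set G) with hC
        have huC : u₀.1 ∈ C := Subgroup.mem_centralizer_singleton_iff.2 rfl
        set U : Subgroup C := Subgroup.zpowers ⟨u₀.1, huC⟩ with hU
        have hUc : U ≤ Subgroup.center C := Subgroup.zpowers_le.2 (Subgroup.mem_center_iff.2 fun c =>
          Subtype.ext (Subgroup.mem_centralizer_singleton_iff.1 c.2))
        haveI : U.Normal := ⟨fun x hx g => by
          rw [Subgroup.mem_center_iff.1 (hUc hx) g, mul_inv_cancel_right]; exact hx⟩
        have hUcard : Nat.card U = p ^ (a + 1) := by rw [hU, Nat.card_zpowers, Subgroup.orderOf_mk, u₀.2]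
        have hSC : Nat.card (S u₀.1) = Nat.card {w : C ⧸ U // w ^ m' = 1} := by
          rw [← card_sol_eq_quotient U hUc (hUcard ▸ hcop)]
          exact Nat.card_congr
            { toFun := fun v => ⟨⟨v.1, Subgroup.mem_centralizer_singleton_iff.2 v.2.2.symm.eq⟩, Subtype.ext v.2.1⟩
              invFun := fun v => ⟨v.1.1, congrArg Subtype.val v.2, (Subgroup.mem_centralizer_singleton_iff.1 v.1.2).symm⟩
              left_inv := fun v => rfl
              right_inv := fun v => rfl }
        have hlt : Nat.card (C ⧸ U) < n := by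
          rw [← hn]
          have h1 := Subgroup.card_eq_card_quotient_mul_card_subgroup U
          have h2 := C.card_le_card_group
          have h3 : 1 < Nat.card U := hUcard ▸ Nat.one_lt_pow (by omega) hp.one_lt
          have h4 := Nat.card_pos (α := C ⧸ U)
          nlinarith
        set g := Nat.gcd m' (Nat.card (C ⧸ U))
        have hg : g ∣ Nat.card {w : C ⧸ U // w ^ m' = 1} := by
          have h1 := ih _ hlt (C ⧸ U) rfl g (Nat.gcd_dvd_right _ _)
          have hiff : ∀ w : C ⧸ U, w ^ g = 1 ↔ w ^ m' = 1 := fun w => by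
            simp only [← orderOf_dvd_iff_pow_eq_one, g, Nat.dvd_gcd_iff, orderOf_dvd_natCard, and_true]
          exact (Nat.card_congr (Equiv.subtypeEquivRight hiff)) ▸ h1
        rw [hSC]
        refine dvd_trans ?_ (Nat.mul_dvd_mul_left _ hg)
        have hdvd : m' ∣ p ^ (a + 1) * (C.index * Nat.card (C ⧸ U)) := by
          refine ((dvd_mul_left m' _).trans (hmp' ▸ hmp)).trans (dvd_of_eq ?_)
          rw [← C.index_mul_card, Subgroup.card_eq_card_quotient_mul_card_subgroup U, hUcard]
          ring
        exact Nat.dvd_gcd (dvd_mul_left m' _) (hcop.symm.dvd_of_dvd_mul_left hdvd) |>.trans (dvd_of_eq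
          (Nat.gcd_mul_left _ _ _))

end Cfsg.Agent.Grp.PowCount
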