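import Mathlib
import Cfsg.Prelude.Def_HallClasses
import Cfsg.Agent.Lib.Grp.Basic
import Cfsg.Agent.Lib.Grp.Coprime
import Cfsg.Agent.S0877

/-!
# A `π`-homogeneous `D_π`-group has a normal complement to its Hall `π`-subgroup

If every `π`-subgroup is conjugate into `H` and every `N(R)/C(R)` is a `π`-group then `H` controls fusion of
its elements: for `q`-subgroups this is an induction in the style of Alperin, using that `N(R)` is `C(R)` times
a `π`-subgroup; the general case follows by passing to centralizers of the `q`-parts.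
-/

set_option autoImplicit false

namespace Cfsg.Agent.Grp.HomDPi

open scoped Pointwise
open Subgroup

universe u

variable {G : Type u} [Group G] {π : Set ℕ}

/-- `H` is a `π`-subgroup into which every `π`-subgroup is conjugate. -/
structure Dom (π : Set ℕ) (H : Subgroup G) : Prop where
  pi : Cfsg.IsPiSubgroup π H
  conj : ∀ W : Subgroup G, Cfsg.IsPiSubgroup π W → ∃ g : G, ∀ w ∈ W, g * w * g⁻¹ ∈ H

/-- `N(R)/C(R)` is a `π`-group for every nontrivial `π`-subgroup `R`. -/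
def Hom (π : Set ℕ) (G : Type u) [Group G] : Prop :=
  ∀ R : Subgroup G, R ≠ ⊥ → Cfsg.IsPiSubgroup π R →
    ∀ p : ℕ, p.Prime → p ∣ (Subgroup.centralizer (R : Set G)).relIndex (Subgroup.normalizer (R : Set G)) → p ∈ π

theorem mem_cent {R : Subgroup G} {c : G} :
    c ∈ Subgroup.centralizer (R : Set G) ↔ ∀ r ∈ R, c * r * c⁻¹ = r := by
  rw [Subgroup.mem_centralizer_iff]
  exact ⟨fun h r hr => by rw [← h r hr, mul_inv_cancel_right],
    fun h r hr => by conv_lhs => rw [← h r hr]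
                     group⟩

theorem cent_normal_in (R : Subgroup G) :
    Subgroup.normalizer (R : Set G) ≤ Subgroup.normalizer ((Subgroup.centralizer (R : Set G) : Subgroup G) : Set G) := by
  intro n hn
  have key : ∀ n ∈ Subgroup.normalizer (R : Set G), ∀ c ∈ Subgroup.centralizer (R : Set G),
      n * c * n⁻¹ ∈ Subgroup.centralizer (R : Set G) := by
    intro n hn c hc
    refine mem_cent.2 fun r hr => ?_
    have hr' : n⁻¹ * r * n ∈ R := (Subgroup.mem_normalizer_iff''.1 hn r).1 hr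
    calc n * c * n⁻¹ * r * (n * c * n⁻¹)⁻¹ = n * (c * (n⁻¹ * r * n) * c⁻¹) * n⁻¹ := by group
      _ = r := by rw [mem_cent.1 hc _ hr']; group
  exact Subgroup.mem_normalizer_iff.2 fun y =>
    ⟨key n hn y, fun hy => by simpa [mul_assoc] using key n⁻¹ (inv_mem hn) _ hy⟩

theorem cent_le_normalizer (R : Subgroup G) :
    Subgroup.centralizer (R : Set G) ≤ Subgroup.normalizer (R : Set G) := fun c hc =>
  Subgroup.mem_normalizer_iff.2 fun r => ⟨fun hr => by rwa [mem_cent.1 hc r hr], fun hr => by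
    have h := mem_cent.1 (inv_mem hc) _ hr
    rw [inv_inv] at h
    have e : c⁻¹ * (c * r * c⁻¹) * c = r := by group
    rw [e] at h; rwa [← h] at hr⟩

variable [Finite G]

theorem exists_isSylowIn_ge {q : ℕ} [Fact q.Prime] {W K : Subgroup G} (hWK : W ≤ K) (hW : IsPGroup q W) :
    ∃ S, IsSylowIn q S K ∧ W ≤ S := by
  obtain ⟨S, hS⟩ : ∃ S : Sylow q K, W.subgroupOf K ≤ (S : Subgroup K) :=
    (hW.comap_subtype (K := K)).exists_le_sylow
  refine ⟨_, isSylowIn_iff.2 ⟨S, rfl⟩, ?_⟩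
  rw [← Subgroup.map_subgroupOf_eq_of_le hWK]
  exact Subgroup.map_mono hS

/-- A `q`-subgroup can be conjugated inside `K` into a Sylow subgroup of `K`. -/
theorem exists_conj_into {q : ℕ} [Fact q.Prime] {W K S : Subgroup G} (hWK : W ≤ K) (hW : IsPGroup q W)
    (hS : IsSylowIn q S K) : ∃ k ∈ K, ∀ w ∈ W, k * w * k⁻¹ ∈ S := by
  obtain ⟨T, hT, hWT⟩ := exists_isSylowIn_ge hWK hW
  obtain ⟨k, hk, hkT⟩ := hT.conj hS
  refine ⟨k, hk, fun w hw => ?_⟩
  rw [← hkT, mem_smul_conj]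
  convert hWT hw using 1
  group

theorem isPiSubgroup_sup {A B : Subgroup G} (hA : Cfsg.IsPiSubgroup π A) (hB : Cfsg.IsPiSubgroup π B)
    (hn : A ≤ Subgroup.normalizer (B : Set G)) : Cfsg.IsPiSubgroup π (A ⊔ B : Subgroup G) := fun p hp hd =>
  (hp.dvd_mul.1 (hd.trans (card_sup_dvd_mul hn))).elim (hA p hp) (hB p hp)

theorem isPiSubgroup_of_pGroup {q : ℕ} [hq : Fact q.Prime] (hqπ : q ∈ π) {R : Subgroup G} (hR : IsPGroup q R) :
    Cfsg.IsPiSubgroup π R := by
  intro p hp hd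
  obtain ⟨k, hk⟩ := IsPGroup.iff_card.mp hR
  rw [hk] at hd
  exact (Nat.prime_dvd_prime_iff_eq hp hq.out).mp (hp.dvd_of_dvd_pow hd) ▸ hqπ

/-- `X` covers `N` modulo `C`. -/
def Covers (N C X : Subgroup G) : Prop := X ≤ N ∧ ∀ n ∈ N, ∃ c ∈ C, ∃ x ∈ X, n = c * x

omit [Finite G] in
theorem Covers.sup_eq {N C X : Subgroup G} (h : Covers N C X) (hCN : C ≤ N) : X ⊔ C = N :=
  le_antisymm (sup_le h.1 hCN) fun n hn => by
    obtain ⟨c, hc, x, hx, rfl⟩ := h.2 n hn
    exact mul_mem (Subgroup.mem_sup_right hc) (Subgroup.mem_sup_left hx)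

/-- A minimal supplement involves only primes of the index. -/
theorem exists_pi_cover {N C : Subgroup G} (hCN : C ≤ N) (hn : N ≤ Subgroup.normalizer (C : Set G))
    (hπ : ∀ p : ℕ, p.Prime → p ∣ C.relIndex N → p ∈ π) : ∃ X, Covers N C X ∧ Cfsg.IsPiSubgroup π X := by
  have hfin : {X : Subgroup G | Covers N C X}.Finite := Set.toFinite _
  obtain ⟨X, hX⟩ := hfin.exists_minimal ⟨N, le_rfl, fun n hn => ⟨1, one_mem _, n, hn, (one_mul n).symm⟩⟩
  refine ⟨X, hX.1, fun p hp hd => ?_⟩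
  by_contra hpπ
  haveI := Fact.mk hp
  set D := X ⊓ C
  obtain ⟨P, hP⟩ := exists_isSylowIn p D
  have hcard : Nat.card X = C.relIndex N * Nat.card D := by
    have h1 := card_sup_mul_card_inf (N := C) (hX.1.1.trans hn)
    rw [hX.1.sup_eq hCN] at h1
    have h2 := card_mul_relIndex hCN
    refine Nat.eq_of_mul_eq_mul_right (Nat.card_pos (α := C)) ?_
    rw [← h1, ← h2]; ring
  have hidx : ¬ p ∣ C.relIndex N := fun h => hpπ (hπ p hp h)
  have hPX : IsSylowIn p P X := by
    refine ⟨hP.1.trans inf_le_left, hP.2.1, fun h => ?_⟩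
    have h1 : P.relIndex D * D.relIndex X = P.relIndex X :=
      Subgroup.relIndex_mul_relIndex P D X hP.1 inf_le_left
    have h2 := card_mul_relIndex (inf_le_left : D ≤ X)
    rw [hcard, mul_comm (C.relIndex N)] at h2
    have h3 := Nat.eq_of_mul_eq_mul_left (Nat.card_pos (α := D)) h2
    rw [← h1, h3] at h
    exact (hp.dvd_mul.1 h).elim hP.2.2 hidx
  -- Frattini: the normalizer of `P` in `X` still covers
  have hcov : Covers N C (X ⊓ Subgroup.normalizer (P : Set G)) := by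
    refine ⟨inf_le_left.trans hX.1.1, fun n hn' => ?_⟩
    obtain ⟨c, hc, x, hx, rfl⟩ := hX.1.2 n hn'
    have hD : MulAut.conj x • D = D := by
      rw [Subgroup.smul_inf, conj_smul_eq_self_of_mem hx,
        mem_normalizer_iff_smul.1 (hn (hX.1.1 hx))]
    obtain ⟨d, hd', hdP⟩ := (hP.smul hD).conj hP
    refine ⟨c * d⁻¹, mul_mem hc (inv_mem hd'.2), d * x, ⟨mul_mem hd'.1 hx, ?_⟩, by group⟩
    refine mem_normalizer_iff_smul.2 ?_
    rw [map_mul, mul_smul, hdP]
  have hXP : X ≤ Subgroup.normalizer (P : Set G) := (hX.2 hcov inf_le_left).trans inf_le_right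
  set PX := P.subgroupOf X
  haveI : PX.Normal := Subgroup.normal_subgroupOf_of_le_normalizer hXP
  have hcP : Nat.card PX = Nat.card P := Nat.card_congr (Subgroup.subgroupOfEquivOfLe hPX.1).toEquiv
  have hcop : (Nat.card PX).Coprime PX.index := by
    rw [hcP, hPX.card]
    exact Nat.Coprime.pow_left _ (hp.coprime_iff_not_dvd.2 hPX.2.2)
  obtain ⟨L, hL⟩ := Subgroup.exists_right_complement'_of_coprime hcop
  set L' := L.map X.subtype
  have hLcov : Covers N C L' := by
    refine ⟨(Subgroup.map_subtype_le _).trans hX.1.1, fun n hn' => ?_⟩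
    obtain ⟨c, hc, x, hx, rfl⟩ := hX.1.2 n hn'
    obtain ⟨⟨⟨a, ha⟩, ⟨b, hb⟩⟩, hab⟩ := hL.existsUnique ⟨x, hx⟩ |>.exists
    refine ⟨c * (a : G), mul_mem hc (hP.1 (show (a : G) ∈ P from ha)).2, b, ⟨b, hb, rfl⟩, ?_⟩
    have := congrArg Subtype.val hab
    simp only [Subgroup.coe_mul] at this
    rw [mul_assoc, this]
  have hXL : X ≤ L' := hX.2 hLcov (Subgroup.map_subtype_le _)
  have hLX : L = ⊤ := by
    rw [eq_top_iff]
    intro x _
    obtain ⟨y, hy, hyx⟩ := hXL x.2
    exact (Subtype.ext hyx : y = x) ▸ hy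
  have hP1 : Nat.card P = 1 := by
    rw [← hcP, ← hL.index_eq_card, hLX, Subgroup.index_top]
  have h1 := hPX.card
  rw [hP1] at h1
  have h2 : (Nat.card X).factorization p = 0 := by
    by_contra h
    exact (Nat.one_lt_pow h hp.one_lt).ne h1
  exact (Nat.Prime.factorization_pos_of_dvd hp Nat.card_pos.ne' hd).ne' h2

/-- A self-normalizing subgroup of a `q`-group is the whole group. -/
theorem eq_of_normalizer_eq {q : ℕ} [Fact q.Prime] {R Q : Subgroup G} (hQ : IsPGroup q Q) (hRQ : R ≤ Q)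
    (h : Q ⊓ Subgroup.normalizer (R : Set G) ≤ R) : R = Q := by
  haveI := hQ.isNilpotent
  refine le_antisymm hRQ ?_
  rw [← Subgroup.subgroupOf_eq_top]
  apply normalizerCondition_iff_only_full_group_self_normalizing.1 Group.normalizerCondition_of_isNilpotent
  rw [← Subgroup.subgroupOf_normalizer_eq hRQ]
  refine le_antisymm (fun x hx => ?_) (fun x hx => Subgroup.le_normalizer hx)
  exact h ⟨x.2, hx⟩

section Fusion

variable {q : ℕ} [hq : Fact q.Prime] {H Q : Subgroup G}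

/-- Every fusion in `Q` with domain of order above `k` is realised in `H`. -/
def FusAbove (H Q : Subgroup G) (k : ℕ) : Prop :=
  ∀ (P : Subgroup G) (g : G), k < Nat.card P → P ≤ Q → (∀ x ∈ P, g * x * g⁻¹ ∈ Q) →
    ∃ h ∈ H, ∀ x ∈ P, h * x * h⁻¹ = g * x * g⁻¹

theorem step (hD : Dom π H) (hH : Hom π G) (hqπ : q ∈ π) (hQ : IsSylowIn q Q ⊤) (hQH : Q ≤ H)
    {R : Subgroup G} (hR0 : R ≠ ⊥) (hRQ : R ≤ Q)
    (hU : IsSylowIn q (Q ⊓ Subgroup.normalizer (R : Set G)) (Subgroup.normalizer (R : Set G)))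
    (hF : FusAbove H Q (Nat.card R)) {n : G} (hn : n ∈ Subgroup.normalizer (R : Set G)) :
    ∃ h ∈ H, ∀ r ∈ R, h * r * h⁻¹ = n * r * n⁻¹ := by
  set N := Subgroup.normalizer (R : Set G) with hN
  set C := Subgroup.centralizer (R : Set G) with hC
  set U := Q ⊓ N with hUdef
  set T := U ⊓ C with hTdef
  have hCN : C ≤ N := cent_le_normalizer R
  have hnC : N ≤ Subgroup.normalizer (C : Set G) := cent_normal_in R
  have hRp : IsPGroup q R := hQ.2.1.to_le hRQ
  have hRN : R ≤ N := Subgroup.le_normalizer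
  have hTC : IsSylowIn q T C := by
    refine ⟨inf_le_right, hU.2.1.to_le inf_le_left, fun h => hU.2.2 (h.trans ?_)⟩
    have h1 := card_sup_mul_card_inf (H := U) (N := C) (hU.1.trans hnC)
    have h2 := card_mul_relIndex (inf_le_right : T ≤ C)
    have h3 := card_mul_relIndex (sup_le hU.1 hCN : U ⊔ C ≤ N)
    have h4 := card_mul_relIndex (le_sup_left : U ≤ U ⊔ C)
    have h5 : U.relIndex (U ⊔ C) = T.relIndex C := by
      refine Nat.eq_of_mul_eq_mul_left (Nat.card_pos (α := U)) ?_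
      refine Nat.eq_of_mul_eq_mul_left (Nat.card_pos (α := T)) ?_
      calc Nat.card T * (Nat.card U * U.relIndex (U ⊔ C)) = Nat.card ↥(U ⊔ C) * Nat.card T := by rw [h4]; ring
        _ = Nat.card U * Nat.card C := h1
        _ = Nat.card T * (Nat.card U * T.relIndex C) := by rw [← h2]; ring
    exact ⟨_, by rw [← h5, Subgroup.relIndex_mul_relIndex U (U ⊔ C) N le_sup_left (sup_le hU.1 hCN)]⟩
  by_cases hTR : T ≤ R
  swap
  · -- extend to `R ⊔ T`
    have hnC' : MulAut.conj n • C = C := mem_normalizer_iff_smul.1 (hnC hn)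
    obtain ⟨c, hc, hcT⟩ := (hTC.smul hnC').conj hTC
    set m := c * n
    have hm : m ∈ N := mul_mem (hCN hc) hn
    have hmT : MulAut.conj m • T = T := by rw [map_mul, mul_smul, hcT]
    have hmR : MulAut.conj m • R = R := mem_normalizer_iff_smul.1 hm
    have hRT : R ⊔ T ≤ Q := sup_le hRQ (inf_le_left.trans inf_le_left)
    have hlt : Nat.card R < Nat.card ↥(R ⊔ T) := by
      refine lt_of_le_of_ne (Nat.le_of_dvd Nat.card_pos (Subgroup.card_dvd_of_le le_sup_left)) fun e => ?_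
      exact hTR (le_sup_right.trans (Subgroup.eq_of_le_of_card_ge le_sup_left e.ge).ge)
    obtain ⟨h, hh, hhm⟩ := hF (R ⊔ T) m hlt hRT fun x hx => hRT (by
      have h1 : MulAut.conj m • (R ⊔ T) = R ⊔ T := by rw [Subgroup.smul_sup, hmR, hmT]
      rw [← h1, mem_smul_conj]
      convert hx using 1
      group)
    refine ⟨h, hh, fun r hr => ?_⟩
    rw [hhm r (Subgroup.mem_sup_left hr)]
    have hnr : n * r * n⁻¹ ∈ R := (Subgroup.mem_normalizer_iff.1 hn r).1 hr
    calc m * r * m⁻¹ = c * (n * r * n⁻¹) * c⁻¹ := by simp only [m]; group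
      _ = n * r * n⁻¹ := mem_cent.1 hc _ hnr
  -- a `π`-supplement of the centralizer containing `U`
  obtain ⟨X₀, hX₀, hX₀π⟩ := exists_pi_cover hCN hnC (hH R hR0 (isPiSubgroup_of_pGroup hqπ hRp))
  set X₁ := X₀ ⊔ R with hX₁
  have hX₁π : Cfsg.IsPiSubgroup π X₁ :=
    isPiSubgroup_sup hX₀π (isPiSubgroup_of_pGroup hqπ hRp) hX₀.1
  have hX₁c : Covers N C X₁ := ⟨sup_le hX₀.1 hRN, fun y hy => by
    obtain ⟨c, hc, x, hx, e⟩ := hX₀.2 y hy
    exact ⟨c, hc, x, Subgroup.mem_sup_left hx, e⟩⟩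
  have hidx : ¬ q ∣ X₁.relIndex N := by
    intro h
    apply hTC.2.2
    have h1 := card_sup_mul_card_inf (H := X₁) (N := C) (hX₁c.1.trans hnC)
    rw [hX₁c.sup_eq hCN] at h1
    have h2 := card_mul_relIndex hX₁c.1
    have h3 := card_mul_relIndex (inf_le_right : X₁ ⊓ C ≤ C)
    have h4 : X₁.relIndex N = (X₁ ⊓ C).relIndex C := by
      refine Nat.eq_of_mul_eq_mul_left (Nat.card_pos (α := X₁)) ?_
      refine Nat.eq_of_mul_eq_mul_left (Nat.card_pos (α := ↥(X₁ ⊓ C))) ?_
      calc Nat.card ↥(X₁ ⊓ C) * (Nat.card X₁ * X₁.relIndex N) = Nat.card N * Nat.card ↥(X₁ ⊓ C) := by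
            rw [h2]; ring
        _ = Nat.card X₁ * Nat.card C := h1
        _ = Nat.card ↥(X₁ ⊓ C) * (Nat.card X₁ * (X₁ ⊓ C).relIndex C) := by rw [← h3]; ring
    rw [h4] at h
    exact h.trans (Subgroup.relIndex_dvd_of_le_left C
      (le_inf (hTR.trans le_sup_right) inf_le_right : T ≤ X₁ ⊓ C))
  obtain ⟨S, hS⟩ := exists_isSylowIn q X₁
  have hSN : IsSylowIn q S N := ⟨hS.1.trans hX₁c.1, hS.2.1, fun h => by
    rw [← Subgroup.relIndex_mul_relIndex S X₁ N hS.1 hX₁c.1] at h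
    exact (hq.out.dvd_mul.1 h).elim hS.2.2 hidx⟩
  obtain ⟨k, hk, hkS⟩ := hSN.conj hU
  set X := MulAut.conj k • X₁ with hX
  have hUX : U ≤ X := hkS ▸ Subgroup.pointwise_smul_le_pointwise_smul_iff.2 hS.1
  have hXπ : Cfsg.IsPiSubgroup π X := fun p hp hd => hX₁π p hp (by
    rwa [Nat.card_congr (Subgroup.equivSMul (MulAut.conj k) X₁).toEquiv])
  have hXcov : ∀ y ∈ N, ∃ c ∈ C, ∃ x ∈ X, y = c * x := by
    intro y hy
    obtain ⟨c, hc, x, hx, e⟩ := hX₁c.2 (k⁻¹ * y * k) (mul_mem (mul_mem (inv_mem hk) hy) hk)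
    refine ⟨k * c * k⁻¹, (Subgroup.mem_normalizer_iff.1 (hnC hk) c).1 hc, k * x * k⁻¹, ?_, ?_⟩
    · rw [hX, mem_smul_conj]; convert hx using 1; group
    · calc y = k * (k⁻¹ * y * k) * k⁻¹ := by group
        _ = k * c * k⁻¹ * (k * x * k⁻¹) := by rw [e]; group
  obtain ⟨g, hg⟩ := hD.conj X hXπ
  -- move `g` into the Sylow subgroup
  set W := MulAut.conj g • U
  have hWH : W ≤ H := by
    intro w hw
    rw [mem_smul_conj] at hw
    have := hg _ (hUX hw)
    convert this using 1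
    group
  obtain ⟨h₀, hh₀, hh₀W⟩ := exists_conj_into hWH (hU.2.1.map _)
    (⟨hQH, hQ.2.1, fun h => hQ.2.2 (h.trans ⟨_, (Subgroup.relIndex_mul_relIndex Q H ⊤ hQH le_top).symm⟩)⟩ :
      IsSylowIn q Q H)
  set s := h₀ * g
  have hsU : ∀ u ∈ U, s * u * s⁻¹ ∈ Q := fun u hu => by
    have := hh₀W (g * u * g⁻¹) (by rw [mem_smul_conj]; convert hu using 1; group)
    convert this using 1
    simp only [s]; group
  have hsX : ∀ x ∈ X, s * x * s⁻¹ ∈ H := fun x hx => by
    have := mul_mem (mul_mem hh₀ (hg x hx)) (inv_mem hh₀)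
    convert this using 1
    simp only [s]; group
  -- replace `s` by an element centralizing `R`
  obtain ⟨c, hc, hcX⟩ : ∃ c ∈ C, ∀ x ∈ X, c * x * c⁻¹ ∈ H := by
    by_cases hlt : Nat.card R < Nat.card U
    · obtain ⟨h', hh', hhs⟩ := hF U s hlt inf_le_left hsU
      refine ⟨h'⁻¹ * s, mem_cent.2 fun r hr => ?_, fun x hx => ?_⟩
      · calc h'⁻¹ * s * r * (h'⁻¹ * s)⁻¹ = h'⁻¹ * (s * r * s⁻¹) * h' := by group
          _ = r := by rw [← hhs r ⟨hRQ hr, hRN hr⟩]; group
      · have := mul_mem (mul_mem (inv_mem hh') (hsX x hx)) hh'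
        convert this using 1
        group
    · have hUR : U ≤ R := (Subgroup.eq_of_le_of_card_ge (le_inf hRQ hRN : R ≤ U) (not_lt.1 hlt)).ge
      have hRQ' : R = Q := eq_of_normalizer_eq hQ.2.1 hRQ hUR
      have hRU : R ≤ U := le_inf hRQ hRN
      have hsN : s ∈ N := by
        rw [hN, mem_normalizer_iff_smul]
        refine Subgroup.eq_of_le_of_card_ge (fun w hw => ?_)
          (Nat.card_congr (Subgroup.equivSMul (MulAut.conj s) R).toEquiv).le
        rw [mem_smul_conj] at hw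
        have := hsU _ (hRU hw)
        rw [← hRQ'] at this
        convert this using 1
        group
      obtain ⟨c₀, hc₀, x₀, hx₀, e⟩ := hXcov s hsN
      refine ⟨c₀, hc₀, fun x hx => ?_⟩
      have hx' := hsX _ (mul_mem (mul_mem (inv_mem hx₀) hx) hx₀)
      rw [e] at hx'
      convert hx' using 1
      group
  obtain ⟨c₁, hc₁, x, hx, rfl⟩ := hXcov n hn
  refine ⟨c * x * c⁻¹, hcX x hx, fun r hr => ?_⟩
  have hxN : x ∈ N := by
    have := mul_mem (inv_mem (hCN hc₁)) hn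
    rwa [inv_mul_cancel_left] at this
  have hxr : x * r * x⁻¹ ∈ R := (Subgroup.mem_normalizer_iff.1 hxN r).1 hr
  have hcr : c⁻¹ * r * c = r := by
    have := mem_cent.1 (inv_mem hc) r hr
    rwa [inv_inv] at this
  calc c * x * c⁻¹ * r * (c * x * c⁻¹)⁻¹ = c * (x * (c⁻¹ * r * c) * x⁻¹) * c⁻¹ := by group
    _ = x * r * x⁻¹ := by rw [hcr, mem_cent.1 hc _ hxr]
    _ = c₁ * x * r * (c₁ * x)⁻¹ := by
      rw [mul_inv_rev, show c₁ * x * r * (x⁻¹ * c₁⁻¹) = c₁ * (x * r * x⁻¹) * c₁⁻¹ by group,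
        mem_cent.1 hc₁ _ hxr]


/-- `H` controls fusion in its Sylow subgroup `Q`. -/
theorem fusAbove_zero (hD : Dom π H) (hH : Hom π G) (hqπ : q ∈ π) (hQ : IsSylowIn q Q ⊤) (hQH : Q ≤ H) :
    FusAbove H Q 0 := by
  suffices ∀ m k, Nat.card Q ≤ k + m → FusAbove H Q k from this (Nat.card Q) 0 (by omega)
  intro m
  induction m with
  | zero =>
    intro k hk P g hP hPQ _
    have := Nat.le_of_dvd Nat.card_pos (Subgroup.card_dvd_of_le hPQ)
    omega
  | succ m ih =>
    intro k hk P g hPk hPQ hgP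
    rcases Nat.lt_or_ge (k + 1) (Nat.card P) with hlt | hge
    · exact ih (k + 1) (by omega) P g hlt hPQ hgP
    have hF : FusAbove H Q (Nat.card P) := by
      intro P' g' h' hle' hg'
      exact ih (k + 1) (by omega) P' g' (by omega) hle' hg'
    by_cases hP1 : P = ⊥
    · refine ⟨1, one_mem _, fun x hx => ?_⟩
      rw [hP1, Subgroup.mem_bot] at hx
      subst hx; group
    -- the conjugates of `P` in `Q`, one of them fully normalized
    set S := {R : Subgroup G | R ≤ Q ∧ ∃ y : G, MulAut.conj y • P = R} with hS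
    obtain ⟨R, ⟨hRQ, y, hy⟩, hRmax⟩ := Set.exists_max_image S
      (fun R => Nat.card ↥(Q ⊓ Subgroup.normalizer (R : Set G))) (Set.toFinite _) ⟨P, hPQ, 1, by simp⟩
    have hU : IsSylowIn q (Q ⊓ Subgroup.normalizer (R : Set G)) (Subgroup.normalizer (R : Set G)) := by
      obtain ⟨S', hS', hUS⟩ := exists_isSylowIn_ge (inf_le_right : Q ⊓ Subgroup.normalizer (R : Set G) ≤ _)
        (hQ.2.1.to_le inf_le_left)
      obtain ⟨j, -, hj⟩ := exists_conj_into le_top hS'.2.1 hQ
      have hRS : R ≤ S' := by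
        have hn : S' ≤ Subgroup.normalizer (R : Set G) := hS'.1
        have hp' : IsPGroup q ↥(R ⊔ S') :=
          (hQ.2.1.to_le hRQ).to_sup_of_normal_left' hS'.2.1 hn
        have := hS'.eq_of_le le_sup_right (sup_le Subgroup.le_normalizer hn) hp'
        rw [this]; exact le_sup_left
      have hmem : MulAut.conj j • R ∈ S := ⟨fun x hx => by
        rw [mem_smul_conj] at hx
        convert hj _ (hRS hx) using 1
        group, j * y, by rw [map_mul, mul_smul, hy]⟩
      have hle : MulAut.conj j • S' ≤ Q ⊓ Subgroup.normalizer ((MulAut.conj j • R : Subgroup G) : Set G) := by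
        refine le_inf (fun x hx => ?_) (fun x hx => ?_)
        · rw [mem_smul_conj] at hx
          convert hj _ hx using 1
          group
        · rw [mem_smul_conj] at hx
          have h1 := mem_normalizer_iff_smul.1 (hS'.1 hx)
          refine mem_normalizer_iff_smul.2 ?_
          conv_rhs => rw [← h1]
          rw [← mul_smul, ← mul_smul, ← map_mul, ← map_mul]
          congr 2
          group
      have h1 := (Nat.le_of_dvd Nat.card_pos (Subgroup.card_dvd_of_le hle)).trans (hRmax _ hmem)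
      rw [← Nat.card_congr (Subgroup.equivSMul (MulAut.conj j) S').toEquiv] at h1
      rwa [Subgroup.eq_of_le_of_card_ge hUS h1]
    have hcardR : Nat.card R = Nat.card P := by
      rw [← hy]; exact (Nat.card_congr (Subgroup.equivSMul (MulAut.conj y) P).toEquiv).symm
    have hFR : FusAbove H Q (Nat.card R) := hcardR ▸ hF
    have hR0 : R ≠ ⊥ := fun e => hP1 (Subgroup.card_eq_one.1 (by rw [← hcardR, e, Subgroup.card_bot]))
    by_cases hPQ' : P = Q
    · -- then `R = P = Q` and `g` normalizes it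
      have hRP : R = P := by
        rw [hPQ'] at hcardR ⊢
        exact Subgroup.eq_of_le_of_card_ge hRQ hcardR.ge
      have hgn : g ∈ Subgroup.normalizer (R : Set G) := by
        rw [mem_normalizer_iff_smul]
        refine Subgroup.eq_of_le_of_card_ge (fun w hw => ?_)
          (Nat.card_congr (Subgroup.equivSMul (MulAut.conj g) R).toEquiv).le
        rw [mem_smul_conj, hRP] at hw
        have := hgP _ hw
        rw [hRP, hPQ']
        convert this using 1
        group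
      obtain ⟨h, hh, he⟩ := step hD hH hqπ hQ hQH hR0 hRQ hU hFR hgn
      exact ⟨h, hh, fun x hx => he x (hRP ▸ hx)⟩
    -- map `P` and its image onto `R` by elements of `H`
    have key : ∀ P₁ : Subgroup G, P₁ ≤ Q → Nat.card P₁ = Nat.card P → P₁ ≠ Q →
        (∃ y₁ : G, MulAut.conj y₁ • P₁ = R) →
        ∃ z h : G, h ∈ H ∧ MulAut.conj z • P₁ = R ∧ ∀ x ∈ P₁, h * x * h⁻¹ = z * x * z⁻¹ := by
      intro P₁ hP₁Q hc hne hy₁
      obtain ⟨y₁, hy₁⟩ := hy₁
      set V := Q ⊓ Subgroup.normalizer (P₁ : Set G)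
      have hVR : MulAut.conj y₁ • V ≤ Subgroup.normalizer (R : Set G) := fun x hx => by
        rw [mem_smul_conj] at hx
        have h1 := mem_normalizer_iff_smul.1 hx.2
        refine mem_normalizer_iff_smul.2 ?_
        rw [← hy₁]
        conv_rhs => rw [← h1]
        rw [← mul_smul, ← mul_smul, ← map_mul, ← map_mul]
        congr 2
        group
      obtain ⟨j, hj, hjV⟩ := exists_conj_into hVR ((hQ.2.1.to_le inf_le_left).map _) hU
      have hz : MulAut.conj (j * y₁) • P₁ = R := by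
        rw [map_mul, mul_smul, hy₁, mem_normalizer_iff_smul.1 hj]
      have hlt : Nat.card P < Nat.card V := by
        rw [← hc]
        refine lt_of_le_of_ne (Nat.le_of_dvd Nat.card_pos (Subgroup.card_dvd_of_le
          (le_inf hP₁Q Subgroup.le_normalizer))) fun e => hne (eq_of_normalizer_eq hQ.2.1 hP₁Q ?_)
        exact (Subgroup.eq_of_le_of_card_ge (le_inf hP₁Q Subgroup.le_normalizer) e.ge).ge
      obtain ⟨h, hh, he⟩ := hF V (j * y₁) hlt inf_le_left fun x hx => by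
        have := (hjV (y₁ * x * y₁⁻¹) (by rw [mem_smul_conj]; convert hx using 1; group)).1
        rw [show j * y₁ * x * (j * y₁)⁻¹ = j * (y₁ * x * y₁⁻¹) * j⁻¹ by group]
        exact this
      exact ⟨j * y₁, h, hh, hz, fun x hx => he x ⟨hP₁Q hx, Subgroup.le_normalizer hx⟩⟩
    obtain ⟨z, h₁, hh₁, hz, he₁⟩ := key P hPQ rfl hPQ' ⟨y, hy⟩
    set P' := MulAut.conj g • P
    have hcP' : Nat.card P' = Nat.card P :=
      (Nat.card_congr (Subgroup.equivSMul (MulAut.conj g) P).toEquiv).symm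
    have hP'Q : P' ≤ Q := fun x hx => by
      rw [mem_smul_conj] at hx
      convert hgP _ hx using 1
      group
    obtain ⟨z', h₂, hh₂, hz', he₂⟩ := key P' hP'Q hcP'
      (fun e => hPQ' (Subgroup.eq_of_le_of_card_ge hPQ (by rw [← hcP', e])))
      ⟨y * g⁻¹, by rw [← hy, ← mul_smul, ← map_mul, inv_mul_cancel_right]⟩
    have hn : z' * g * z⁻¹ ∈ Subgroup.normalizer (R : Set G) := by
      rw [mem_normalizer_iff_smul]
      conv_lhs => rw [← hz]
      rw [← mul_smul, ← map_mul, inv_mul_cancel_right, map_mul, mul_smul]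
      exact hz'
    obtain ⟨h₀, hh₀, he₀⟩ := step hD hH hqπ hQ hQH hR0 hRQ hU hFR hn
    refine ⟨h₂⁻¹ * h₀ * h₁, mul_mem (mul_mem (inv_mem hh₂) hh₀) hh₁, fun x hx => ?_⟩
    have hr : z * x * z⁻¹ ∈ R := by rw [← hz, mem_smul_conj]; convert hx using 1; group
    have hx' : g * x * g⁻¹ ∈ P' := by rw [mem_smul_conj]; convert hx using 1; group
    calc h₂⁻¹ * h₀ * h₁ * x * (h₂⁻¹ * h₀ * h₁)⁻¹
        = h₂⁻¹ * (h₀ * (h₁ * x * h₁⁻¹) * h₀⁻¹) * h₂ := by group
      _ = h₂⁻¹ * (z' * (g * x * g⁻¹) * z'⁻¹) * h₂ := by rw [he₁ x hx, he₀ _ hr]; group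
      _ = g * x * g⁻¹ := by rw [← he₂ _ hx']; group

/-- Two `q`-elements of `H` conjugate in `G` are conjugate in `H` by an element with the same effect. -/
theorem qElement_fusion (hD : Dom π H) (hH : Hom π G) (hqπ : q ∈ π) {a g : G}
    (ha : a ∈ H) (haq : ∃ k, a ^ q ^ k = 1) (hg : g * a * g⁻¹ ∈ H) :
    ∃ h ∈ H, h * a * h⁻¹ = g * a * g⁻¹ := by
  obtain ⟨Q₀, hQ₀⟩ := exists_isSylowIn q H
  have hcyc : ∀ b : G, (∃ k, b ^ q ^ k = 1) → IsPGroup q (Subgroup.zpowers b) := by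
    rintro b ⟨k, hk⟩
    obtain ⟨i, -, hi⟩ := (Nat.dvd_prime_pow hq.out).1 (orderOf_dvd_of_pow_eq_one hk)
    exact IsPGroup.of_card (n := i) (by rw [Nat.card_zpowers, hi])
  have hQ₀top : IsSylowIn q Q₀ ⊤ := by
    obtain ⟨T, hT⟩ := exists_isSylowIn q (⊤ : Subgroup G)
    obtain ⟨j, hj⟩ := hD.conj T (isPiSubgroup_of_pGroup hqπ hT.2.1)
    obtain ⟨h₀, hh₀, hh₀T⟩ := exists_conj_into (K := H) (W := MulAut.conj j • T)
      (fun x hx => by rw [mem_smul_conj] at hx; convert hj _ hx using 1; group) (hT.2.1.map _) hQ₀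
    refine ⟨le_top, hQ₀.2.1, fun hd => ?_⟩
    have hc : Nat.card T ≤ Nat.card Q₀ := Nat.card_le_card_of_injective
      (fun t : T => (⟨h₀ * (j * t * j⁻¹) * h₀⁻¹, hh₀T _ (by rw [mem_smul_conj]; convert t.2 using 1; group)⟩ : Q₀))
      fun t t' e => Subtype.ext (by simpa using congrArg Subtype.val e)
    obtain ⟨T', hT', hQT⟩ := exists_isSylowIn_ge (le_top : Q₀ ≤ ⊤) hQ₀.2.1
    rw [hT.card, ← hT'.card] at hc
    rw [Subgroup.eq_of_le_of_card_ge hQT hc] at hd
    exact hT'.2.2 hd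
  obtain ⟨h₁, hh₁, hha⟩ := exists_conj_into (K := H) (Subgroup.zpowers_le.2 ha) (hcyc a haq) hQ₀
  obtain ⟨h₂, hh₂, hhg⟩ := exists_conj_into (K := H) (Subgroup.zpowers_le.2 hg)
    (hcyc _ (haq.imp fun k hk => by rw [conj_pow, hk]; group)) hQ₀
  have ha1 := hha a (Subgroup.mem_zpowers a)
  have hg1 := hhg _ (Subgroup.mem_zpowers (g * a * g⁻¹))
  have hle : Subgroup.zpowers (h₁ * a * h₁⁻¹) ≤ Q₀ := Subgroup.zpowers_le.2 ha1
  obtain ⟨h, hh, he⟩ := fusAbove_zero hD hH hqπ hQ₀top hQ₀.1 _ (h₂ * g * h₁⁻¹) Nat.card_pos hle (by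
    intro x hx
    obtain ⟨i, rfl⟩ := Subgroup.mem_zpowers_iff.1 hx
    rw [← conj_zpow]
    refine zpow_mem ?_ i
    convert hg1 using 1
    group)
  refine ⟨h₂⁻¹ * h * h₁, mul_mem (mul_mem (inv_mem hh₂) hh) hh₁, ?_⟩
  calc h₂⁻¹ * h * h₁ * a * (h₂⁻¹ * h * h₁)⁻¹ = h₂⁻¹ * (h * (h₁ * a * h₁⁻¹) * h⁻¹) * h₂ := by group
    _ = g * a * g⁻¹ := by rw [he _ (Subgroup.mem_zpowers _)]; group

end Fusion

theorem isPiSubgroup_of_le {A B : Subgroup G} (h : A ≤ B) (hB : Cfsg.IsPiSubgroup π B) :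
    Cfsg.IsPiSubgroup π A := fun p hp hd => hB p hp (hd.trans (Subgroup.card_dvd_of_le h))

theorem Hom.subgroup (hH : Hom π G) (L : Subgroup G) : Hom π L := by
  intro R hR hRπ p hp hd
  set R' := R.map L.subtype
  have hR' : R' ≠ ⊥ := fun e => hR ((Subgroup.map_eq_bot_iff_of_injective _ L.subtype_injective).1 e)
  refine hH R' hR' (fun r hr hd' => hRπ r hr (by rwa [Subgroup.card_map_of_injective L.subtype_injective] at hd'))
    p hp (hd.trans ?_)
  have hC : Subgroup.centralizer (R : Set L) = (Subgroup.centralizer (R' : Set G)).comap L.subtype := by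
    ext x
    rw [Subgroup.mem_comap, mem_cent, mem_cent]
    refine ⟨fun h r hr => ?_, fun h r hr => Subtype.ext (h r ⟨r, hr, rfl⟩)⟩
    obtain ⟨r, hr, rfl⟩ := hr
    exact congrArg Subtype.val (h r hr)
  rw [hC, Subgroup.relIndex_comap]
  set N := Subgroup.normalizer (R' : Set G)
  have hN : (Subgroup.normalizer (R : Set L)).map L.subtype ≤ N := Subgroup.le_normalizer_map _
  haveI : ((Subgroup.centralizer (R' : Set G)).subgroupOf N).Normal :=
    Subgroup.normal_subgroupOf_of_le_normalizer (cent_normal_in R')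
  rw [← Subgroup.relIndex_subgroupOf hN]
  exact Subgroup.relIndex_dvd_index_of_normal _ _

/-- `H` controls fusion of its elements. -/
theorem control : ∀ (n : ℕ) (G : Type u) [Group G] [Finite G] (H : Subgroup G), (∀ p ∈ π, p.Prime) →
    Dom π H → Hom π G → ∀ x ∈ H, orderOf x = n → ∀ g : G, g * x * g⁻¹ ∈ H →
    ∃ h ∈ H, h * x * h⁻¹ = g * x * g⁻¹ := by
  intro n
  induction n using Nat.strong_induction_on with
  | _ n IH =>
  intro G _ _ H hπ hD hH x hx hn g hg
  by_cases h1 : x = 1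
  · exact ⟨1, one_mem _, by subst h1; group⟩
  have hn1 : orderOf x ≠ 1 := fun e => h1 (orderOf_eq_one_iff.1 e)
  obtain ⟨q, hq, hqn⟩ := Nat.exists_prime_and_dvd hn1
  haveI := Fact.mk hq
  have hqπ : q ∈ π := hD.pi q hq (hqn.trans (Subgroup.orderOf_dvd_natCard H hx))
  have hox : orderOf x ≠ 0 := (orderOf_pos x).ne'
  obtain ⟨a, b, ha, hb, ha1, hb1, hab⟩ := exists_pow_decomp (g := x)
    (m := q ^ (orderOf x).factorization q) (n := orderOf x / q ^ (orderOf x).factorization q)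
    (Nat.Coprime.pow_left _ (Nat.coprime_ordCompl hq hox))
    (by rw [Nat.ordProj_mul_ordCompl_eq_self, pow_orderOf_eq_one])
  have haH : a ∈ H := Subgroup.zpowers_le.2 hx ha
  have hbH : b ∈ H := Subgroup.zpowers_le.2 hx hb
  have hag : g * a * g⁻¹ ∈ H := by
    obtain ⟨i, rfl⟩ := Subgroup.mem_zpowers_iff.1 ha
    rw [← conj_zpow]; exact zpow_mem hg i
  have hbg : g * b * g⁻¹ ∈ H := by
    obtain ⟨i, rfl⟩ := Subgroup.mem_zpowers_iff.1 hb
    rw [← conj_zpow]; exact zpow_mem hg i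
  obtain ⟨h, hh, hha⟩ := qElement_fusion hD hH hqπ haH ⟨_, ha1⟩ hag
  set C := Subgroup.centralizer ({a} : Set G)
  have hgC : h⁻¹ * g ∈ C := Subgroup.mem_centralizer_singleton_iff.2 (by
    have : h⁻¹ * (g * a * g⁻¹) * h = a := by rw [← hha]; group
    calc h⁻¹ * g * a = h⁻¹ * (g * a * g⁻¹) * h * (h⁻¹ * g) := by group
      _ = a * (h⁻¹ * g) := by rw [this])
  have hbC : b ∈ C := by
    obtain ⟨i, rfl⟩ := Subgroup.mem_zpowers_iff.1 ha
    obtain ⟨j, rfl⟩ := Subgroup.mem_zpowers_iff.1 hb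
    exact Subgroup.mem_centralizer_singleton_iff.2 ((Commute.refl x).zpow_zpow j i).eq
  -- the centralizer is again dominated by `H ⊓ C`
  have hDC : Dom π (H.subgroupOf C) := by
    refine ⟨fun p hp hd => hD.pi p hp (hd.trans ?_), fun W hW => ?_⟩
    · exact Subgroup.card_comap_dvd_of_injective H C.subtype C.subtype_injective
    set W' := W.map C.subtype
    have hW'n : W' ≤ Subgroup.normalizer ((Subgroup.zpowers a : Subgroup G) : Set G) := by
      rintro _ ⟨w, -, rfl⟩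
      refine cent_le_normalizer _ (mem_cent.2 fun r hr => ?_)
      obtain ⟨i, rfl⟩ := Subgroup.mem_zpowers_iff.1 hr
      have hcw : Commute (w : G) a := Subgroup.mem_centralizer_singleton_iff.1 w.2
      rw [C.subtype_apply, (hcw.zpow_right i).eq, mul_inv_cancel_right]
    obtain ⟨j, hj⟩ := hD.conj (W' ⊔ Subgroup.zpowers a) (isPiSubgroup_sup
      (fun p hp hd => hW p hp (by rwa [Subgroup.card_map_of_injective C.subtype_injective] at hd))
      (isPiSubgroup_of_le (Subgroup.zpowers_le.2 haH) hD.pi) hW'n)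
    obtain ⟨h', hh', hh'a⟩ := qElement_fusion hD hH hqπ haH ⟨_, ha1⟩
      (hj a (Subgroup.mem_sup_right (Subgroup.mem_zpowers a)))
    have hjC : h'⁻¹ * j ∈ C := Subgroup.mem_centralizer_singleton_iff.2 (by
      have : h'⁻¹ * (j * a * j⁻¹) * h' = a := by rw [← hh'a]; group
      calc h'⁻¹ * j * a = h'⁻¹ * (j * a * j⁻¹) * h' * (h'⁻¹ * j) := by group
        _ = a * (h'⁻¹ * j) := by rw [this])
    refine ⟨⟨_, hjC⟩, fun w hw => ?_⟩
    rw [Subgroup.mem_subgroupOf]
    have := mul_mem (mul_mem (inv_mem hh') (hj w (Subgroup.mem_sup_left ⟨w, hw, rfl⟩))) hh'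
    convert this using 1
    simp only [Subgroup.coe_mul, Subgroup.coe_inv]
    group
  have hlt : orderOf b < n := by
    have hk : 0 < (orderOf x).factorization q := hq.factorization_pos_of_dvd hox hqn
    have hd : orderOf b ∣ orderOf x / q ^ (orderOf x).factorization q := orderOf_dvd_of_pow_eq_one hb1
    refine lt_of_le_of_lt (Nat.le_of_dvd (Nat.ordCompl_pos q hox) hd) ?_
    rw [← hn]
    exact Nat.div_lt_self (Nat.pos_of_ne_zero hox) (Nat.one_lt_pow hk.ne' hq.one_lt)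
  have hb' : h⁻¹ * g * b * (h⁻¹ * g)⁻¹ ∈ H := by
    have := mul_mem (mul_mem (inv_mem hh) hbg) hh
    convert this using 1
    group
  obtain ⟨⟨k, hkC⟩, hkH, hk⟩ := IH _ hlt C (H.subgroupOf C) hπ hDC (hH.subgroup C) ⟨b, hbC⟩ hbH
    (Subgroup.orderOf_mk b hbC) ⟨_, hgC⟩ hb'
  have hk' := congrArg Subtype.val hk
  simp only [Subgroup.coe_mul, Subgroup.coe_inv] at hk'
  refine ⟨h * k, mul_mem hh hkH, ?_⟩
  have hka : k * a * k⁻¹ = a := by
    rw [Subgroup.mem_centralizer_singleton_iff.1 hkC]; group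
  calc h * k * x * (h * k)⁻¹ = (h * (k * a * k⁻¹) * h⁻¹) * (h * (k * b * k⁻¹) * h⁻¹) := by
        rw [hab]; group
    _ = g * x * g⁻¹ := by rw [hka, hk', hha, hab]; group

/-- A `π`-homogeneous group in which every `π`-subgroup is conjugate into `H` is `π'`-closed. -/
theorem piPrime_closed (hπ : ∀ p ∈ π, p.Prime) {H : Subgroup G} (hD : Dom π H) (hH : Hom π G) :
    ∃ K : Subgroup G, ∀ x : G, x ∈ K ↔ ∀ p : ℕ, p.Prime → p ∣ orderOf x → p ∉ π := by
  have hHall : Nat.Coprime (Nat.card H) H.index := by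
    refine Nat.coprime_of_dvd fun p hp h1 h2 => ?_
    haveI := Fact.mk hp
    obtain ⟨T, hT⟩ := exists_isSylowIn p (⊤ : Subgroup G)
    obtain ⟨g, hg⟩ := hD.conj T (isPiSubgroup_of_pGroup (hD.pi p hp h1) hT.2.1)
    have hle : MulAut.conj g • T ≤ H := fun x hx => by
      rw [mem_smul_conj] at hx; convert hg _ hx using 1; group
    have hT' := hT.smul (g := g) (conj_smul_eq_self_of_mem (Subgroup.mem_top g))
    exact hT'.2.2 (h2.trans (by
      rw [Subgroup.relIndex_top_right]; exact Subgroup.index_dvd_of_le hle))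
  have helem : ∀ (E : Subgroup G) (p : ℕ), p.Prime → Cfsg.IsElementary p E → Nat.card E ∣ Nat.card H →
      ∃ g : G, E.map (MulAut.conj g).toMonoidHom ≤ H := by
    intro E p _ _ hE
    obtain ⟨g, hg⟩ := hD.conj E fun r hr hd => hD.pi r hr (hd.trans hE)
    exact ⟨g, by rintro _ ⟨e, he, rfl⟩; exact hg e he⟩
  obtain ⟨K, hKn, hKH, hKH'⟩ := Cfsg.Agent.S0877.result H hHall (fun x hx y hy hxy => by
    obtain ⟨g, rfl⟩ := isConj_iff.1 hxy
    exact control (orderOf x) G H hπ hD hH x hx rfl g hy) helem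
  have hcard : Nat.card K = H.index := by
    have h1 := card_sup_mul_card_inf_normal (H := H) (N := K)
    rw [sup_comm, hKH, inf_comm, hKH', Subgroup.card_bot, Subgroup.card_top, mul_one,
      ← Subgroup.card_mul_index H] at h1
    exact (Nat.eq_of_mul_eq_mul_left Nat.card_pos h1).symm
  refine ⟨K, fun x => ⟨fun hx p hp hd hpπ => ?_, fun hx => ?_⟩⟩
  · haveI := Fact.mk hp
    obtain ⟨T, hT⟩ := exists_isSylowIn p (⊤ : Subgroup G)
    obtain ⟨g, hg⟩ := hD.conj T (isPiSubgroup_of_pGroup hpπ hT.2.1)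
    have h1 : p ∣ H.index := hcard ▸ hd.trans (Subgroup.orderOf_dvd_natCard K hx)
    have hle : MulAut.conj g • T ≤ H := fun x hx => by
      rw [mem_smul_conj] at hx; convert hg _ hx using 1; group
    exact (hT.smul (g := g) (conj_smul_eq_self_of_mem (Subgroup.mem_top g))).2.2 (h1.trans (by
      rw [Subgroup.relIndex_top_right]; exact Subgroup.index_dvd_of_le hle))
  · have hidx : K.index = Nat.card H := by
      refine Nat.eq_of_mul_eq_mul_left (Nat.card_pos (α := K)) ?_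
      rw [Subgroup.card_mul_index, hcard, mul_comm, Subgroup.card_mul_index]
    rw [← QuotientGroup.eq_one_iff, ← orderOf_eq_one_iff]
    by_contra h
    obtain ⟨p, hp, hpd⟩ := Nat.exists_prime_and_dvd h
    refine hx p hp (hpd.trans (orderOf_map_dvd (QuotientGroup.mk' K) x)) (hD.pi p hp ?_)
    rw [← hidx, Subgroup.index]
    exact hpd.trans (orderOf_dvd_natCard _)

/-- In a `D_π`-group every `π`-subgroup is conjugate into a maximal one. -/
theorem exists_dom (hD : Cfsg.IsDPiGroup π G) : ∃ H : Subgroup G, Dom π H := by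
  have hfin := fun (W : Subgroup G) (hW : Cfsg.IsPiSubgroup π W) =>
    (Set.toFinite {K : Subgroup G | Cfsg.IsPiSubgroup π K}).exists_le_maximal (a := W) hW
  obtain ⟨H, -, hH⟩ := hfin ⊥ (fun p hp hd => absurd (Subgroup.card_bot (G := G) ▸ hd) hp.not_dvd_one)
  refine ⟨H, hH.1, fun W hW => ?_⟩
  obtain ⟨M, hWM, hM⟩ := hfin W hW
  obtain ⟨g, hg⟩ := hD M H hM hH
  exact ⟨g, fun w hw => hg ▸ ⟨w, hWM hw, rfl⟩⟩

end Cfsg.Agent.Grp.HomDPi
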