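import Mathlib
import Cfsg.Prelude.Def_Solvable
import Cfsg.Agent.Lib.Grp.Cores
import Cfsg.Agent.Lib.Grp.Solvable
import Cfsg.Agent.Lib.Recog.DihedralHom

/-!
An elementary abelian 2-group acting faithfully on a solvable group of odd order generates,
together with suitable cyclic subgroups, a commuting family of dihedral groups.
-/

namespace Cfsg.Agent.Grp

open Subgroup

variable {G : Type*} [Group G]

/-- `a` inverts `x` modulo `V`. -/
def InvMod (V : Subgroup G) (a x : G) : Prop := a * x * a⁻¹ * x ∈ V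

/-- `a` fixes `x` modulo `V`. -/
def FixMod (V : Subgroup G) (a x : G) : Prop := a * x * a⁻¹ * x⁻¹ ∈ V

/-- Refinement of an element of an abelian section to a simultaneous eigenvector of commuting
involutions. -/
theorem exists_eigen [Finite G] {A V D : Subgroup G} (hAc : ∀ a ∈ A, ∀ b ∈ A, a * b = b * a)
    (hA2 : ∀ a ∈ A, a * a = 1) (hVD : V ≤ D) (hAV : A ≤ normalizer (V : Set G))
    (hAD : A ≤ normalizer (D : Set G))
    (hDD : ∀ x ∈ D, ∀ y ∈ D, x * y * x⁻¹ * y⁻¹ ∈ V) {c : G} (hc : c ∈ D) (hcV : c ∉ V) :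
    ∃ x ∈ D, x ∉ V ∧ (∀ a ∈ A, FixMod V a x ∨ InvMod V a x) ∧
      (∀ b ∈ A, InvMod V b c → InvMod V b x) := by
  classical
  have hnV : ∀ d ∈ D, ∀ v ∈ V, d * v * d⁻¹ ∈ V := fun d hd v hv => by
    have h := V.mul_mem (hDD d hd v (hVD hv)) hv
    rwa [inv_mul_cancel_right] at h
  suffices h : ∀ s : Finset G, (∀ a ∈ s, a ∈ A) → ∃ x ∈ D, x ∉ V ∧
      (∀ a ∈ s, FixMod V a x ∨ InvMod V a x) ∧ (∀ b ∈ A, InvMod V b c → InvMod V b x) by
    obtain ⟨x, h1, h2, h3, h4⟩ := h (Set.toFinite (A : Set G)).toFinset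
      (fun a ha => (Set.Finite.mem_toFinset _).mp ha)
    exact ⟨x, h1, h2, fun a ha => h3 a ((Set.Finite.mem_toFinset _).mpr ha), h4⟩
  intro s
  induction s using Finset.induction_on with
  | empty => intro _; exact ⟨c, hc, hcV, fun a ha => absurd ha (Finset.notMem_empty a), fun _ _ h => h⟩
  | @insert a s has IH =>
    intro hs
    obtain ⟨x, hx, hxV, hfix, hinv⟩ := IH fun b hb => hs b (Finset.mem_insert_of_mem hb)
    have ha : a ∈ A := hs a (Finset.mem_insert_self a s)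
    have hax : a * x * a⁻¹ ∈ D := (mem_normalizer_iff.mp (hAD ha) x).mp hx
    by_cases hI : InvMod V a x
    · refine ⟨x, hx, hxV, ?_, hinv⟩
      intro b hb
      rcases Finset.mem_insert.mp hb with rfl | hb
      · exact Or.inr hI
      · exact hfix b hb
    set x' := x * (a * x * a⁻¹) with hx'
    have hx'D : x' ∈ D := D.mul_mem hx hax
    have hx'V : x' ∉ V := by
      intro h
      refine hI ?_
      have h2 := hnV x⁻¹ (D.inv_mem hx) _ h
      unfold InvMod
      convert h2 using 1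
      rw [hx']; group
    have haconj : ∀ v ∈ V, a * v * a⁻¹ ∈ V := fun v hv => (mem_normalizer_iff.mp (hAV ha) v).mp hv
    have hfa : FixMod V a x' := by
      unfold FixMod
      have e : a * x' * a⁻¹ * x'⁻¹ = (a * x * a⁻¹) * x * (a * x * a⁻¹)⁻¹ * x⁻¹ := by
        have h2 := hA2 a ha
        have h3 : a⁻¹ = a := (eq_inv_of_mul_eq_one_left h2).symm
        rw [hx']
        calc a * (x * (a * x * a⁻¹)) * a⁻¹ * (x * (a * x * a⁻¹))⁻¹
            = a * x * a⁻¹ * ((a * a) * x * (a * a)⁻¹) * (a * x * a⁻¹)⁻¹ * x⁻¹ := by group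
          _ = _ := by rw [h2]; group
      rw [e]; exact hDD _ hax _ hx
    have hkeepI : ∀ b ∈ A, InvMod V b x → InvMod V b x' := by
      intro b hb h
      unfold InvMod at h ⊢
      set B := b * x * b⁻¹ with hB
      have hBD : B ∈ D := (mem_normalizer_iff.mp (hAD hb) x).mp hx
      have haB : a * B * a⁻¹ ∈ D := (mem_normalizer_iff.mp (hAD ha) B).mp hBD
      have e : b * x' * b⁻¹ * x' =
          (B * x) * (x⁻¹ * (a * B * a⁻¹) * (x⁻¹)⁻¹ * (a * B * a⁻¹)⁻¹) * (a * (B * x) * a⁻¹) := by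
        have hc1 : b * a = a * b := hAc b hb a ha
        rw [hx', hB]
        calc b * (x * (a * x * a⁻¹)) * b⁻¹ * (x * (a * x * a⁻¹))
            = (b * x * b⁻¹) * ((b * a) * x * (b * a)⁻¹) * x * (a * x * a⁻¹) := by group
          _ = _ := by rw [hc1]; group
      rw [e]
      exact V.mul_mem (V.mul_mem h (hDD _ (D.inv_mem hx) _ haB)) (haconj _ h)
    have hkeepF : ∀ b ∈ A, FixMod V b x → FixMod V b x' := by
      intro b hb h
      unfold FixMod at h ⊢
      set B := b * x * b⁻¹ with hB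
      have hBD : B ∈ D := (mem_normalizer_iff.mp (hAD hb) x).mp hx
      have e : b * x' * b⁻¹ * x'⁻¹ = (B * (a * (B * x⁻¹) * a⁻¹) * B⁻¹) * (B * x⁻¹) := by
        have hc1 : b * a = a * b := hAc b hb a ha
        rw [hx', hB]
        calc b * (x * (a * x * a⁻¹)) * b⁻¹ * (x * (a * x * a⁻¹))⁻¹
            = (b * x * b⁻¹) * ((b * a) * x * (b * a)⁻¹) * (a * x * a⁻¹)⁻¹ * x⁻¹ := by group
          _ = _ := by rw [hc1]; group
      rw [e]
      exact V.mul_mem (hnV B hBD _ (haconj _ h)) h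
    refine ⟨x', hx'D, hx'V, ?_, fun b hb h => hkeepI b hb (hinv b hb h)⟩
    intro b hb
    rcases Finset.mem_insert.mp hb with rfl | hb'
    · exact Or.inl hfa
    · rcases hfix b hb' with h | h
      · exact Or.inl (hkeepF b (hs b hb) h)
      · exact Or.inr (hkeepI b (hs b hb) h)

theorem eq_one_of_sq {L : Subgroup G} (hodd : Odd (Nat.card L)) {c : G} (hc : c ∈ L)
    (h : c * c = 1) : c = 1 := by
  rw [← pow_two] at h
  have h1 := orderOf_dvd_of_pow_eq_one h
  have h2 : orderOf c ∣ Nat.card L := Subgroup.orderOf_dvd_natCard L hc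
  have : (Nat.card L).Coprime 2 := Nat.coprime_two_right.mpr hodd
  have h3 := Nat.dvd_gcd h2 h1
  rw [this] at h3
  exact orderOf_eq_one_iff.mp (Nat.dvd_one.mp h3)

/-- An element that centralizes a normal self-centralizing subgroup of an odd group centralizes
the group, if it is an involution. -/
theorem centralizes_of_centralizes {K W : Subgroup G} (hodd : Odd (Nat.card K))
    {a : G} (ha2 : a * a = 1) (haK : ∀ f ∈ K, a * f * a⁻¹ ∈ K) (hW : ∀ f ∈ K, ∀ v ∈ W, f * v * f⁻¹ ∈ W)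
    (haW : ∀ v ∈ W, a * v = v * a)
    (hself : ∀ c ∈ K, (∀ v ∈ W, c * v = v * c) → c ∈ W) :
    ∀ f ∈ K, a * f = f * a := by
  intro f hf
  set g := a * f * a⁻¹ with hg
  have hgK : g ∈ K := haK f hf
  have hcK : g * f⁻¹ ∈ K := K.mul_mem hgK (K.inv_mem hf)
  have hcW : g * f⁻¹ ∈ W := by
    refine hself _ hcK fun v hv => ?_
    have hu := hW f⁻¹ (K.inv_mem hf) v hv
    rw [inv_inv] at hu
    have h1 : a * v = v * a := haW v hv
    have h2 := haW _ hu
    calc g * f⁻¹ * v = a * f * a⁻¹ * (f⁻¹ * v * f) * f⁻¹ := by rw [hg]; group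
      _ = a * f * a⁻¹ * (f⁻¹ * v * f * a) * a⁻¹ * f⁻¹ := by group
      _ = a * f * a⁻¹ * (a * (f⁻¹ * v * f)) * a⁻¹ * f⁻¹ := by rw [h2]
      _ = a * v * f * a⁻¹ * f⁻¹ := by group
      _ = v * a * f * a⁻¹ * f⁻¹ := by rw [h1]
      _ = v * (g * f⁻¹) := by rw [hg]; group
  have h3 : a * (g * f⁻¹) * a⁻¹ = g * f⁻¹ := by rw [haW _ hcW, mul_inv_cancel_right]
  have haa : g * f⁻¹ = 1 := by
    refine eq_one_of_sq hodd hcK ?_
    -- the commutator is inverted and fixed
    have h4 : a * (g * f⁻¹) * a⁻¹ = (a * g * a⁻¹) * g⁻¹ := by rw [hg]; group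
    have h5 : (a * g * a⁻¹) * g⁻¹ = g * f⁻¹ := h4 ▸ h3
    have h6 : a * g * a⁻¹ = f := by
      rw [hg]
      calc a * (a * f * a⁻¹) * a⁻¹ = (a * a) * f * (a * a)⁻¹ := by group
        _ = f := by rw [ha2]; group
    rw [h6] at h5
    have h7 : f * g⁻¹ * (g * f⁻¹) = 1 := by group
    rwa [h5] at h7
  rw [mul_inv_eq_one] at haa
  calc a * f = g * a := by rw [hg]; group
    _ = f * a := by rw [haa]

/-- A maximal abelian invariant normal subgroup of an odd nilpotent group is self-centralizing. -/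
theorem exists_selfCentralizing_invariant [Finite G] {A F : Subgroup G}
    (hAc : ∀ a ∈ A, ∀ b ∈ A, a * b = b * a) (hA2 : ∀ a ∈ A, a * a = 1)
    (hAF : A ≤ normalizer (F : Set G)) (hF : Group.IsNilpotent F) :
    ∃ V : Subgroup G, V ≤ F ∧ A ≤ normalizer (V : Set G) ∧ F ≤ normalizer (V : Set G) ∧
      (∀ x ∈ V, ∀ y ∈ V, x * y = y * x) ∧ ∀ c ∈ F, (∀ v ∈ V, c * v = v * c) → c ∈ V := by
  classical
  let S : Set (Subgroup G) := {V | V ≤ F ∧ A ≤ normalizer (V : Set G) ∧
    F ≤ normalizer (V : Set G) ∧ ∀ x ∈ V, ∀ y ∈ V, x * y = y * x}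
  have hne : (⊥ : Subgroup G) ∈ S := by
    refine ⟨bot_le, ?_, ?_, fun x hx y hy => by rw [Subgroup.mem_bot] at hx hy; rw [hx, hy]⟩
    all_goals intro a _; rw [mem_normalizer_iff]; intro h; simp [Subgroup.mem_bot]
  obtain ⟨V, hVS, hmax⟩ := (Set.toFinite S).exists_maximal ⟨⊥, hne⟩
  obtain ⟨hVF, hAV, hFV, hVc⟩ := hVS
  refine ⟨V, hVF, hAV, hFV, hVc, ?_⟩
  intro c0 hc0 hc0V
  by_contra hc0n
  have hnV : ∀ f ∈ F, ∀ v ∈ V, f * v * f⁻¹ ∈ V := fun f hf v hv => (mem_normalizer_iff.mp (hFV hf) v).mp hv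
  let C : Subgroup G := F ⊓ centralizer (V : Set G)
  have hCmem : ∀ c, c ∈ C ↔ c ∈ F ∧ ∀ v ∈ V, c * v = v * c := fun c => by
    simp only [C, Subgroup.mem_inf, Subgroup.mem_centralizer_iff, SetLike.mem_coe]
    exact and_congr_right fun _ => forall_congr' fun v => forall_congr' fun _ => eq_comm
  have hconjC : ∀ g, g ∈ normalizer (V : Set G) → (∀ f ∈ F, g * f * g⁻¹ ∈ F) →
      ∀ c ∈ C, g * c * g⁻¹ ∈ C := by
    intro g hgV hgF c hc
    rw [hCmem] at hc ⊢
    refine ⟨hgF c hc.1, fun v hv => ?_⟩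
    have hv' : g⁻¹ * v * g ∈ V := by
      have := (mem_normalizer_iff.mp ((normalizer (V : Set G)).inv_mem hgV) v).mp hv
      simpa using this
    have h := hc.2 _ hv'
    calc g * c * g⁻¹ * v = g * (c * (g⁻¹ * v * g)) * g⁻¹ := by group
      _ = g * ((g⁻¹ * v * g) * c) * g⁻¹ := by rw [h]
      _ = v * (g * c * g⁻¹) := by group
  have hFC : ∀ f ∈ F, ∀ c ∈ C, f * c * f⁻¹ ∈ C := fun f hf =>
    hconjC f (hFV hf) (fun x hx => F.mul_mem (F.mul_mem hf hx) (F.inv_mem hf))
  let D : Subgroup G :=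
    { carrier := {c | c ∈ C ∧ ∀ f ∈ F, f * c * f⁻¹ * c⁻¹ ∈ V}
      one_mem' := ⟨C.one_mem, fun f _ => by simp⟩
      mul_mem' := by
        rintro c d ⟨hc, hc'⟩ ⟨hd, hd'⟩
        refine ⟨C.mul_mem hc hd, fun f hf => ?_⟩
        have e : f * (c * d) * f⁻¹ * (c * d)⁻¹ =
            (f * c * f⁻¹ * c⁻¹) * (c * (f * d * f⁻¹ * d⁻¹) * c⁻¹) := by group
        rw [e]
        exact V.mul_mem (hc' f hf) (hnV c ((hCmem c).mp hc).1 _ (hd' f hf))
      inv_mem' := by
        rintro c ⟨hc, hc'⟩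
        refine ⟨C.inv_mem hc, fun f hf => ?_⟩
        have e : f * c⁻¹ * f⁻¹ * c⁻¹⁻¹ = c⁻¹ * (f * c * f⁻¹ * c⁻¹)⁻¹ * c⁻¹⁻¹ := by group
        rw [e]
        exact hnV c⁻¹ (F.inv_mem ((hCmem c).mp hc).1) _ (V.inv_mem (hc' f hf)) }
  have hVC : V ≤ C := fun v hv => (hCmem v).mpr ⟨hVF hv, fun w hw => hVc v hv w hw⟩
  have hVD : V ≤ D := fun v hv => ⟨hVC hv, fun f hf => V.mul_mem (hnV f hf v hv) (V.inv_mem hv)⟩
  have hexD : ∃ d ∈ D, d ∉ V := by
    by_contra hall
    push Not at hall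
    obtain ⟨n, hn⟩ := (Subgroup.nilpotent_iff_lowerCentralSeries (G := ↥F)).mp hF
    have hk : ∀ k, ∃ c : ↥F, (c : G) ∈ C ∧ (c : G) ∉ V ∧ c ∈ (⊤ : Subgroup ↥F).lowerCentralSeries k := by
      intro k
      induction k with
      | zero => exact ⟨⟨c0, hc0⟩, (hCmem c0).mpr ⟨hc0, hc0V⟩, hc0n, by simp [Subgroup.lowerCentralSeries_zero]⟩
      | succ k IH =>
        obtain ⟨c, hcC, hcV, hck⟩ := IH
        have hcD : (c : G) ∉ D := fun h => hcV (hall _ h)
        have : ∃ f ∈ F, f * c * f⁻¹ * (c : G)⁻¹ ∉ V := by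
          by_contra h; push Not at h; exact hcD ⟨hcC, h⟩
        obtain ⟨f, hf, hfc⟩ := this
        refine ⟨c * ⟨f, hf⟩ * c⁻¹ * (⟨f, hf⟩ : ↥F)⁻¹, ?_, ?_, ?_⟩
        · have h := C.mul_mem hcC (hFC f hf _ (C.inv_mem hcC))
          simpa [mul_assoc] using h
        · intro h
          refine hfc ?_
          have h2 := V.inv_mem h
          simpa [mul_assoc] using h2
        · rw [Subgroup.lowerCentralSeries_succ, ← commutatorElement_def]
          exact Subgroup.commutator_mem_commutator hck (Subgroup.mem_top _)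
    obtain ⟨c, -, hcV, hcn⟩ := hk n
    rw [hn, Subgroup.mem_bot] at hcn
    exact hcV (by rw [hcn]; exact V.one_mem)
  obtain ⟨d, hd, hdV⟩ := hexD
  have hAconjF : ∀ a ∈ A, ∀ f ∈ F, a * f * a⁻¹ ∈ F := fun a ha f hf => (mem_normalizer_iff.mp (hAF ha) f).mp hf
  have hADle : ∀ a ∈ A, ∀ x ∈ D, a * x * a⁻¹ ∈ D := by
    intro a ha x hx
    refine ⟨hconjC a (hAV ha) (hAconjF a ha) x hx.1, fun f hf => ?_⟩
    have hf' := hAconjF a⁻¹ (A.inv_mem ha) f hf
    rw [inv_inv] at hf'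
    have h := (mem_normalizer_iff.mp (hAV ha) _).mp (hx.2 _ hf')
    have e : f * (a * x * a⁻¹) * f⁻¹ * (a * x * a⁻¹)⁻¹ =
        a * ((a⁻¹ * f * a) * x * (a⁻¹ * f * a)⁻¹ * x⁻¹) * a⁻¹ := by group
    rw [e]; exact h
  have hAD : A ≤ normalizer (D : Set G) := by
    intro a ha
    rw [mem_normalizer_iff]
    refine fun x => ⟨hADle a ha x, fun hx => ?_⟩
    have h := hADle a⁻¹ (A.inv_mem ha) _ hx
    simpa [mul_assoc] using h
  obtain ⟨x, hxD, hxV, heig, -⟩ := exists_eigen hAc hA2 hVD hAV hAD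
    (fun y hy z hz => hz.2 y ((hCmem y).mp hy.1).1) hd hdV
  -- the enlargement
  let W : Subgroup G := V ⊔ zpowers x
  have hxW : x ∈ W := le_sup_right (a := V) (mem_zpowers x)
  have hVW : V ≤ W := le_sup_left
  have hxF : x ∈ F := ((hCmem x).mp hxD.1).1
  have hnormW : ∀ g, g ∈ normalizer (V : Set G) → g * x * g⁻¹ ∈ W → ∀ w ∈ W, g * w * g⁻¹ ∈ W := by
    intro g hgV hgx w hw
    have : W ≤ W.comap (MulAut.conj g).toMonoidHom := by
      refine sup_le (fun v hv => hVW ((mem_normalizer_iff.mp hgV v).mp hv)) ?_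
      rw [zpowers_le]; exact hgx
    exact this hw
  have hnorm : ∀ K : Subgroup G, K ≤ normalizer (V : Set G) → (∀ g ∈ K, g * x * g⁻¹ ∈ W) →
      K ≤ normalizer (W : Set G) := by
    intro K hKV hKx g hg
    rw [mem_normalizer_iff]
    refine fun w => ⟨hnormW g (hKV hg) (hKx g hg) w, fun hw => ?_⟩
    have h := hnormW g⁻¹ (hKV (K.inv_mem hg)) (hKx g⁻¹ (K.inv_mem hg)) _ hw
    simpa [mul_assoc] using h
  have hWS : W ∈ S := by
    refine ⟨sup_le hVF (zpowers_le.mpr hxF), hnorm A hAV ?_, hnorm F hFV ?_, ?_⟩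
    · intro a ha
      rcases heig a ha with h | h
      · have := W.mul_mem (hVW h) hxW
        simpa using this
      · have := W.mul_mem (hVW h) (W.inv_mem hxW)
        simpa using this
    · intro f hf
      have := W.mul_mem (hVW (hxD.2 f hf)) hxW
      simpa using this
    · intro y hy z hz
      have hcomm : ∀ u ∈ (↑V ∪ {x} : Set G), ∀ v ∈ (↑V ∪ {x} : Set G), u * v = v * u := by
        rintro u (hu | rfl) v (hv | rfl)
        · exact hVc u hu v hv
        · exact (((hCmem v).mp hxD.1).2 u hu).symm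
        · exact ((hCmem u).mp hxD.1).2 v hv
        · rfl
      have hWeq : W = closure (↑V ∪ {x} : Set G) := by
        rw [Subgroup.closure_union, closure_eq, ← zpowers_eq_closure]
      rw [hWeq] at hy hz
      have : IsMulCommutative ↥(closure (↑V ∪ {x} : Set G)) := Subgroup.isMulCommutative_closure hcomm
      exact congrArg Subtype.val (mul_comm' (⟨y, hy⟩ : ↥(closure (↑V ∪ {x} : Set G))) ⟨z, hz⟩)
  exact hxV (hmax hWS hVW hxW)

/-- A family of pairs of an inverting involution and an inverted element, attached to every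
subgroup of a faithfully acting elementary abelian 2-group. -/
theorem exists_inverting_family [Finite G] {A V : Subgroup G}
    (hAc : ∀ a ∈ A, ∀ b ∈ A, a * b = b * a) (hA2 : ∀ a ∈ A, a * a = 1)
    (hAV : A ≤ normalizer (V : Set G)) (hVc : ∀ x ∈ V, ∀ y ∈ V, x * y = y * x)
    (hodd : Odd (Nat.card V)) (hfaith : ∀ a ∈ A, (∀ v ∈ V, a * v = v * a) → a = 1) :
    ∀ B : Subgroup G, B ≤ A → ∃ (k : ℕ) (e x : Fin k → G),
      (∀ i, e i ∈ B ∧ x i ∈ V ∧ x i ≠ 1 ∧ e i * x i * (e i)⁻¹ = (x i)⁻¹) ∧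
      (∀ i, ∀ a ∈ A, a * x i * a⁻¹ = x i ∨ a * x i * a⁻¹ = (x i)⁻¹) ∧
      (∀ i j, i ≠ j → e i * x j = x j * e i) ∧
      closure (Set.range e) = B ∧ Nat.card B = 2 ^ k := by
  classical
  intro B
  induction' hm : Nat.card B using Nat.strong_induction_on with m IH generalizing B
  intro hBA
  subst hm
  by_cases hB1 : B = ⊥
  · subst hB1
    refine ⟨0, Fin.elim0, Fin.elim0, fun i => i.elim0, fun i => i.elim0, fun i => i.elim0, ?_, by simp⟩
    simp
  obtain ⟨b, hb, hb1⟩ := B.ne_bot_iff_exists_ne_one.mp hB1 |> fun ⟨⟨b, hb⟩, h⟩ =>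
    (⟨b, hb, fun e => h (Subtype.ext e)⟩ : ∃ b, b ∈ B ∧ b ≠ 1)
  have hbA : b ∈ A := hBA hb
  obtain ⟨v, hv, hbv⟩ : ∃ v ∈ V, b * v ≠ v * b := by
    by_contra h; push Not at h; exact hb1 (hfaith b hbA h)
  set w := b * v * b⁻¹ * v⁻¹ with hw
  have hbvV : b * v * b⁻¹ ∈ V := (mem_normalizer_iff.mp (hAV hbA) v).mp hv
  have hwV : w ∈ V := V.mul_mem hbvV (V.inv_mem hv)
  have hw1 : w ∉ (⊥ : Subgroup G) := by
    rw [Subgroup.mem_bot, hw, mul_inv_eq_one, mul_inv_eq_iff_eq_mul]; exact hbv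
  have hwI : InvMod ⊥ b w := by
    rw [InvMod, Subgroup.mem_bot]
    have e1 : b * w * b⁻¹ = (b * b) * v * (b * b)⁻¹ * (b * v * b⁻¹)⁻¹ := by rw [hw]; group
    rw [e1, hA2 b hbA, hw]; group
  have hbotn : A ≤ normalizer ((⊥ : Subgroup G) : Set G) := by
    intro a _; rw [mem_normalizer_iff]; intro h; simp [Subgroup.mem_bot]
  obtain ⟨x, hxV, hx1, heig, hkeep⟩ := exists_eigen (V := ⊥) (D := V) hAc hA2 bot_le hbotn hAV
    (fun y hy z hz => by
      rw [Subgroup.mem_bot, hVc y hy z hz, mul_inv_cancel_right, mul_inv_cancel]) hwV hw1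
  rw [Subgroup.mem_bot] at hx1
  have heig' : ∀ a ∈ A, a * x * a⁻¹ = x ∨ a * x * a⁻¹ = x⁻¹ := fun a ha => by
    rcases heig a ha with h | h
    · left; exact mul_inv_eq_one.mp (Subgroup.mem_bot.mp h)
    · right; exact eq_inv_of_mul_eq_one_left (Subgroup.mem_bot.mp h)
  have hbx : b * x * b⁻¹ = x⁻¹ := eq_inv_of_mul_eq_one_left (Subgroup.mem_bot.mp (hkeep b hbA hwI))
  have hne_inv : ∀ y ∈ V, y ≠ 1 → y ≠ y⁻¹ := fun y hy hy1 h =>
    hy1 (eq_one_of_sq hodd hy (mul_eq_one_iff_eq_inv.mpr h))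
  -- the fixer
  let B' : Subgroup G := B ⊓ centralizer {x}
  have hB'mem : ∀ a, a ∈ B' ↔ a ∈ B ∧ a * x = x * a := fun a => by
    simp only [B', Subgroup.mem_inf, Subgroup.mem_centralizer_singleton_iff]
  have hfix_or : ∀ a ∈ B, a ∈ B' ∨ a * b ∈ B' := by
    intro a ha
    rcases heig' a (hBA ha) with h | h
    · exact Or.inl ((hB'mem a).mpr ⟨ha, mul_inv_eq_iff_eq_mul.mp h⟩)
    · refine Or.inr ((hB'mem _).mpr ⟨B.mul_mem ha hb, mul_inv_eq_iff_eq_mul.mp ?_⟩)
      calc a * b * x * (a * b)⁻¹ = a * (b * x * b⁻¹) * a⁻¹ := by group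
        _ = (a * x * a⁻¹)⁻¹ := by rw [hbx]; group
        _ = x := by rw [h, inv_inv]
  have hbnot : b ∉ B' := by
    intro h
    have h2 := mul_inv_eq_iff_eq_mul.mpr ((hB'mem b).mp h).2
    rw [hbx] at h2
    exact hne_inv x hxV hx1 h2.symm
  have hB'le : B' ≤ B := inf_le_left
  have hcard : Nat.card B = 2 * Nat.card B' := by
    have hidx : (B'.subgroupOf B).index = 2 := by
      rw [Subgroup.index_eq_two_iff]
      refine ⟨⟨b, hb⟩, fun a => ?_⟩
      simp only [Subgroup.mem_subgroupOf, Subgroup.coe_mul]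
      rcases hfix_or a a.2 with h | h
      · refine Or.inr ⟨h, fun h2 => hbnot ?_⟩
        have := B'.mul_mem (B'.inv_mem h) h2
        simpa [← mul_assoc] using this
      · refine Or.inl ⟨h, fun h2 => hbnot ?_⟩
        have := B'.mul_mem (B'.inv_mem h2) h
        simpa [← mul_assoc] using this
    have h := Subgroup.card_mul_index (B'.subgroupOf B)
    rw [hidx, Nat.card_congr (Subgroup.subgroupOfEquivOfLe hB'le).toEquiv] at h
    omega
  have hpos : 0 < Nat.card B' := Nat.card_pos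
  obtain ⟨k, e, xs, h1, h2, h3, h4, h5⟩ :=
    IH (Nat.card B') (by omega) B' rfl (hB'le.trans hBA)
  -- the new involution
  have hy : ∀ s : Finset (Fin k), ∃ y ∈ B, y * b ∈ B' ∧ y * x * y⁻¹ = x⁻¹ ∧
      ∀ j ∈ s, y * xs j = xs j * y := by
    intro s
    induction s using Finset.induction_on with
    | empty => exact ⟨b, hb, by rw [hA2 b hbA]; exact B'.one_mem, hbx,
        fun j hj => absurd hj (Finset.notMem_empty j)⟩
    | @insert j s hjs IH =>
      obtain ⟨y, hyB, hyb, hyx, hys⟩ := IH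
      rcases h2 j y (hBA hyB) with h | h
      · exact ⟨y, hyB, hyb, hyx, fun i hi => by
          rcases Finset.mem_insert.mp hi with rfl | hi
          · exact mul_inv_eq_iff_eq_mul.mp h
          · exact hys i hi⟩
      · have hej := (hB'mem _).mp (h1 j).1
        refine ⟨y * e j, B.mul_mem hyB hej.1, ?_, ?_, fun i hi => ?_⟩
        · have : y * e j * b = y * b * e j := by
            rw [mul_assoc, hAc _ (hBA hej.1) b hbA, ← mul_assoc]
          rw [this]; exact B'.mul_mem hyb (h1 j).1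
        · calc y * e j * x * (y * e j)⁻¹ = y * (e j * x) * (e j)⁻¹ * y⁻¹ := by group
            _ = y * x * y⁻¹ := by rw [hej.2]; group
            _ = x⁻¹ := hyx
        · rcases Finset.mem_insert.mp hi with rfl | hi
          · refine mul_inv_eq_iff_eq_mul.mp ?_
            calc y * e i * xs i * (y * e i)⁻¹ = y * (e i * xs i * (e i)⁻¹) * y⁻¹ := by group
              _ = (y * xs i * y⁻¹)⁻¹ := by rw [(h1 i).2.2.2]; group
              _ = xs i := by rw [h, inv_inv]
          · have hji : j ≠ i := fun e => hjs (e ▸ hi)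
            calc y * e j * xs i = y * (xs i * e j) := by rw [mul_assoc, h3 j i hji]
              _ = xs i * (y * e j) := by rw [← mul_assoc, hys i hi, mul_assoc]
  obtain ⟨y, hyB, hyb, hyx, hys⟩ := hy Finset.univ
  refine ⟨k + 1, Fin.cons y e, Fin.cons x xs, ?_, ?_, ?_, ?_, ?_⟩
  · intro i
    refine Fin.cases ?_ (fun i => ?_) i
    · simpa using ⟨hyB, hxV, hx1, hyx⟩
    · simpa using ⟨hB'le (h1 i).1, (h1 i).2⟩
  · intro i
    refine Fin.cases ?_ (fun i => ?_) i
    · simpa using heig'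
    · simpa using h2 i
  · intro i j
    refine Fin.cases ?_ (fun i => ?_) i <;> refine Fin.cases ?_ (fun j => ?_) j
    · simp
    · intro _; simpa using hys j (Finset.mem_univ j)
    · intro _; simpa using ((hB'mem _).mp (h1 i).1).2
    · intro h; simpa using h3 i j (fun e => h (by rw [e]))
  · rw [Fin.range_cons]
    refine le_antisymm ((closure_le _).mpr ?_) ?_
    · rintro g (rfl | ⟨i, rfl⟩)
      · exact hyB
      · exact hB'le (h1 i).1
    · intro a ha
      set K := closure (insert y (Set.range e))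
      have hK' : B' ≤ K := by rw [← h4]; exact closure_mono (Set.subset_insert _ _)
      have hbK : b ∈ K := by
        have := K.mul_mem (K.inv_mem (subset_closure (Set.mem_insert y _))) (hK' hyb)
        rwa [inv_mul_cancel_left] at this
      rcases hfix_or a ha with h | h
      · exact hK' h
      · have := K.mul_mem (hK' h) (K.inv_mem hbK)
        rwa [mul_inv_cancel_right] at this
  · rw [hcard, h5, pow_succ]; omega

/-- The dihedral group generated by an involution and an inverted element of odd order. -/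
theorem dihedral_iso [Finite G] {e x : G} (he : e * e = 1) (h : e * x * e⁻¹ = x⁻¹)
    (hodd : Odd (orderOf x)) (hx : x ≠ 1) :
    Nonempty (↥(zpowers e ⊔ zpowers x) ≃* DihedralGroup (orderOf x)) := by
  let φ := Cfsg.Agent.Recog.dihedralHom x e (pow_orderOf_eq_one x) he h
  have hr : ∀ k : ℤ, φ (.r (k : ZMod (orderOf x))) = x ^ k := fun k => by
    rw [← DihedralGroup.r_one_zpow, map_zpow, Cfsg.Agent.Recog.dihedralHom_r]
  have hs : ∀ k : ℤ, φ (.sr (k : ZMod (orderOf x))) = e * x ^ k := fun k => by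
    have e1 : (DihedralGroup.sr (k : ZMod (orderOf x))) = .sr 0 * .r (k : ZMod (orderOf x)) := by
      rw [DihedralGroup.sr_mul_r, zero_add]
    rw [e1, map_mul, hr, Cfsg.Agent.Recog.dihedralHom_sr]
  have hinj : Function.Injective φ := by
    rw [injective_iff_map_eq_one]
    rintro (i | i) hi
    · obtain ⟨k, rfl⟩ := ZMod.intCast_surjective i
      rw [hr, ← orderOf_dvd_iff_zpow_eq_one] at hi
      rw [(ZMod.intCast_zmod_eq_zero_iff_dvd k (orderOf x)).mpr hi, DihedralGroup.one_def]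
    · obtain ⟨k, rfl⟩ := ZMod.intCast_surjective i
      rw [hs] at hi
      exfalso
      refine hx ?_
      have hc : e * x * e⁻¹ = x := by
        rw [eq_inv_of_mul_eq_one_left hi]; group
      rw [h] at hc
      have h2 : x ^ 2 = 1 := by rw [pow_two]; exact mul_eq_one_iff_eq_inv.mpr hc.symm
      have h3 := Nat.dvd_gcd (dvd_refl (orderOf x)) (orderOf_dvd_of_pow_eq_one h2)
      rw [(Nat.coprime_two_right.mpr hodd)] at h3
      exact orderOf_eq_one_iff.mp (Nat.dvd_one.mp h3)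
  have hrange : φ.range = zpowers e ⊔ zpowers x := by
    refine le_antisymm ?_ (sup_le ?_ ?_)
    · rintro g ⟨i, rfl⟩
      rcases i with i | i
      · obtain ⟨k, rfl⟩ := ZMod.intCast_surjective i
        rw [hr]; exact mem_sup_right (zpow_mem (mem_zpowers x) k)
      · obtain ⟨k, rfl⟩ := ZMod.intCast_surjective i
        rw [hs]; exact Subgroup.mul_mem_sup (mem_zpowers e) (zpow_mem (mem_zpowers x) k)
    · rw [zpowers_le]; exact ⟨_, Cfsg.Agent.Recog.dihedralHom_sr x e _ he h⟩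
    · rw [zpowers_le]; exact ⟨_, Cfsg.Agent.Recog.dihedralHom_r x e _ he h⟩
  exact ⟨((MonoidHom.ofInjective hinj).trans (MulEquiv.subgroupCongr hrange)).symm⟩

/-- Dihedral decomposition of an elementary abelian 2-group acting faithfully on a solvable
group of odd order. -/
theorem exists_dihedral_family [Finite G] (L A : Subgroup G) (hLs : Group.IsSolvable ↥L)
    (hLodd : Odd (Nat.card ↥L)) (hAc : ∀ a ∈ A, ∀ b ∈ A, a * b = b * a)
    (hA2 : ∀ a ∈ A, a * a = 1) (d : ℕ) (hAd : Nat.card ↥A = 2 ^ d)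
    (hAL : A ≤ Subgroup.normalizer (L : Set G))
    (hfaith : A ⊓ Subgroup.centralizer (L : Set G) = ⊥) :
    ∃ (Ai : Fin d → Subgroup G) (Li : Fin d → Subgroup G) (n : Fin d → ℕ),
      (∀ i, Ai i ≤ A ∧ Nat.card ↥(Ai i) = 2 ∧ Li i ≤ L ∧ Odd (n i) ∧ 3 ≤ n i ∧
        Nonempty (↥(Ai i ⊔ Li i) ≃* DihedralGroup (n i))) ∧ (⨆ i, Ai i) = A ∧
      ∀ i j, i ≠ j → ∀ x ∈ Ai i ⊔ Li i, ∀ y ∈ Ai j ⊔ Li j, x * y = y * x := by
  have := hLs
  have hFn := fittingSubgroup_isNormal (G := ↥L)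
  let F : Subgroup G := (Cfsg.fittingSubgroup ↥L).map L.subtype
  have hFnil : Group.IsNilpotent F := by
    have := fittingSubgroup_isNilpotent (G := ↥L)
    exact Group.nilpotent_of_surjective ((Cfsg.fittingSubgroup ↥L).equivMapOfInjective L.subtype
      L.subtype_injective).toMonoidHom (MulEquiv.surjective _)
  have hFL : F ≤ L := Subgroup.map_subtype_le _
  have hLF : ∀ l ∈ L, ∀ f ∈ F, l * f * l⁻¹ ∈ F := by
    rintro l hl f ⟨f0, hf0, rfl⟩
    exact ⟨_, hFn.conj_mem f0 hf0 ⟨l, hl⟩, rfl⟩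
  have hAFle : ∀ a ∈ A, ∀ f ∈ F, a * f * a⁻¹ ∈ F := by
    rintro a ha f ⟨f0, hf0, rfl⟩
    let σ : ↥L ≃* ↥L := L.normalizerMonoidHom ⟨a, hAL ha⟩
    refine ⟨σ f0, ?_, rfl⟩
    exact (Subgroup.characteristic_iff_le_comap.mp inferInstance σ) hf0
  have hAF : A ≤ normalizer (F : Set G) := by
    intro a ha
    rw [mem_normalizer_iff]
    refine fun x => ⟨hAFle a ha x, fun hx => ?_⟩
    have h := hAFle a⁻¹ (A.inv_mem ha) _ hx
    simpa [mul_assoc] using h
  obtain ⟨V, hVF, hAV, hFV, hVc, hself⟩ := exists_selfCentralizing_invariant hAc hA2 hAF hFnil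
  have hVL : V ≤ L := hVF.trans hFL
  have hoddle : ∀ H : Subgroup G, H ≤ L → Odd (Nat.card H) := fun H hH =>
    hLodd.of_dvd_nat (Subgroup.card_dvd_of_le hH)
  have hfaV : ∀ a ∈ A, (∀ v ∈ V, a * v = v * a) → a = 1 := by
    intro a ha hav
    have hf := centralizes_of_centralizes (K := F) (W := V) (hoddle F hFL) (hA2 a ha) (hAFle a ha)
      (fun f hf v hv => (mem_normalizer_iff.mp (hFV hf) v).mp hv) hav hself
    have hl := centralizes_of_centralizes (K := L) (W := F) hLodd (hA2 a ha)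
      (fun l hl => (mem_normalizer_iff.mp (hAL ha) l).mp hl) hLF hf (fun c hc hcF => by
        refine ⟨⟨c, hc⟩, centralizer_fittingSubgroup_le (G := ↥L) ?_, rfl⟩
        rw [Subgroup.mem_centralizer_iff]
        intro z hz
        exact Subtype.ext (hcF z ⟨z, hz, rfl⟩).symm)
    have hmem : a ∈ A ⊓ Subgroup.centralizer (L : Set G) :=
      ⟨ha, Subgroup.mem_centralizer_iff.mpr fun l hl' => (hl l hl').symm⟩
    rwa [hfaith, Subgroup.mem_bot] at hmem
  obtain ⟨k, e, x, h1, -, h3, h4, h5⟩ :=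
    exists_inverting_family hAc hA2 hAV hVc (hoddle V hVL) hfaV A le_rfl
  obtain rfl : k = d := Nat.pow_right_injective le_rfl (h5.symm.trans hAd)
  have hodd : ∀ i, Odd (orderOf (x i)) := fun i =>
    hLodd.of_dvd_nat (Subgroup.orderOf_dvd_natCard L (hVL (h1 i).2.1))
  refine ⟨fun i => zpowers (e i), fun i => zpowers (x i), fun i => orderOf (x i), ?_, ?_, ?_⟩
  · intro i
    obtain ⟨he, hx, hx1, hex⟩ := h1 i
    have he1 : e i ≠ 1 := fun h => by
      rw [h] at hex; simp only [one_mul, inv_one, mul_one] at hex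
      exact hx1 (eq_one_of_sq hLodd (hVL hx) (mul_eq_one_iff_eq_inv.mpr hex))
    refine ⟨zpowers_le.mpr he, ?_, zpowers_le.mpr (hVL hx), hodd i, ?_,
      dihedral_iso (hA2 _ he) hex (hodd i) hx1⟩
    · rw [Nat.card_zpowers]
      exact orderOf_eq_prime (by rw [pow_two]; exact hA2 _ he) he1
    · obtain ⟨t, ht⟩ := hodd i
      have : orderOf (x i) ≠ 1 := fun h => hx1 (orderOf_eq_one_iff.mp h)
      show 3 ≤ orderOf (x i)
      omega
  · simp only [zpowers_eq_closure]
    rw [← Subgroup.closure_iUnion, Set.iUnion_singleton_eq_range]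
    exact h4
  · intro i j hij a ha b hb
    have hgen : ∀ u ∈ ({e i, x i} : Set G), ∀ v ∈ ({e j, x j} : Set G), u * v = v * u := by
      rintro u (rfl | rfl) v (rfl | rfl)
      · exact hAc _ (h1 i).1 _ (h1 j).1
      · exact h3 i j hij
      · exact (h3 j i hij.symm).symm
      · exact hVc _ (h1 i).2.1 _ (h1 j).2.1
    have hcl : ∀ u v : G, zpowers u ⊔ zpowers v = closure {u, v} := fun u v => by
      rw [zpowers_eq_closure, zpowers_eq_closure, ← Subgroup.closure_union, Set.singleton_union]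
    rw [hcl] at ha hb
    have hle : closure ({e i, x i} : Set G) ≤ centralizer ({e j, x j} : Set G) :=
      (closure_le _).mpr fun u hu => Subgroup.mem_centralizer_iff.mpr fun v hv => (hgen u hu v hv).symm
    have hle2 : closure ({e j, x j} : Set G) ≤ centralizer (closure ({e i, x i} : Set G) : Set G) :=
      (closure_le _).mpr fun v hv => Subgroup.mem_centralizer_iff.mpr fun u hu =>
        (Subgroup.mem_centralizer_iff.mp (hle hu) v hv).symm
    exact Subgroup.mem_centralizer_iff.mp (hle2 hb) a ha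

end Cfsg.Agent.Grp
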