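import Mathlib

/-!
Burnside's theorem on irreducible matrix algebras, and intertwining maps from algebra maps out of an
endomorphism algebra.
-/

set_option autoImplicit false

namespace Cfsg.Agent.Grp

open Module

variable {K : Type*} [Field K]

/-- Burnside: the span of a monoid acting irreducibly over an algebraically closed field is everything. -/
theorem span_eq_top_of_irreducible [IsAlgClosed K] {U : Type*} [AddCommGroup U] [Module K U]
    [FiniteDimensional K U] [Nontrivial U] {M : Type*} [Monoid M] (ρ : M →* Module.End K U)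
    (hirr : ∀ S : Submodule K U, (∀ g, ∀ v ∈ S, ρ g v ∈ S) → S = ⊥ ∨ S = ⊤) :
    Submodule.span K (Set.range ρ) = ⊤ := by
  classical
  set A := Algebra.adjoin K (Set.range ρ) with hA
  have hspan : Subalgebra.toSubmodule A = Submodule.span K (Set.range ρ) := by
    rw [hA, Algebra.adjoin_eq_span, show (Set.range ρ) = ((MonoidHom.mrange ρ : Submonoid _) : Set _) from rfl,
      Submonoid.closure_eq]
  have hρA : ∀ g, ρ g ∈ A := fun g => Algebra.subset_adjoin ⟨g, rfl⟩
  haveI : IsSimpleModule ↥A U := by
    have htoK : ∀ S : Submodule ↥A U, (S.restrictScalars K = ⊥ → S = ⊥) ∧ (S.restrictScalars K = ⊤ → S = ⊤) :=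
      fun S => ⟨fun h => (Submodule.restrictScalars_eq_bot_iff K ↥A U).mp h, fun h => (Submodule.restrictScalars_eq_top_iff K ↥A U).mp h⟩
    haveI : Nontrivial (Submodule ↥A U) := Submodule.nontrivial_iff ↥A |>.mpr inferInstance
    refine { toIsSimpleOrder := { eq_bot_or_eq_top := fun S => ?_ } }
    exact (hirr (S.restrictScalars K) fun g v hv => S.smul_mem ⟨ρ g, hρA g⟩ hv).imp (htoK S).1 (htoK S).2
  have hscalar : ∀ f : Module.End ↥A U, ∃ c : K, ∀ v, f v = c • v := by
    intro f
    let g : Module.End K U := LinearMap.restrictScalars K f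
    obtain ⟨c, hc⟩ := Module.End.exists_eigenvalue g
    refine ⟨c, fun v => ?_⟩
    have htop : Module.End.eigenspace g c = ⊤ := by
      refine (hirr _ fun x w hw => ?_).resolve_left hc
      rw [Module.End.mem_eigenspace_iff] at hw ⊢
      show f (ρ x w) = c • ρ x w
      rw [show ρ x w = (⟨ρ x, hρA x⟩ : ↥A) • w from rfl, map_smul, show f w = c • w from hw]
      exact (ρ x).map_smul c w
    exact Module.End.mem_eigenspace_iff.mp (htop ▸ Submodule.mem_top : v ∈ Module.End.eigenspace g c)
  rw [← hspan]
  refine top_le_iff.mp fun T _ => ?_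
  let b := Module.finBasis K U
  let T' : Module.End (Module.End ↥A U) U :=
    { toFun := T
      map_add' := map_add T
      map_smul' := fun f v => by
        obtain ⟨c, hc⟩ := hscalar f
        show T (f v) = f (T v)
        rw [hc, hc, map_smul] }
  obtain ⟨r, hr⟩ := jacobson_density T' (Finset.univ.image b)
  have : (r : Module.End K U) = T := b.ext fun i => (hr (b i) (Finset.mem_image_of_mem _ (Finset.mem_univ i))).symm
  rw [← this]
  exact r.2

/-- An algebra map out of an endomorphism algebra is realised by an embedding. -/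
theorem exists_intertwine {U V : Type*} [AddCommGroup U] [Module K U] [FiniteDimensional K U] [Nontrivial U]
    [AddCommGroup V] [Module K V] [Nontrivial V] (ψ : Module.End K U →ₐ[K] Module.End K V) :
    ∃ φ : U →ₗ[K] V, Function.Injective φ ∧ ∀ T y, φ (T y) = ψ T (φ y) := by
  classical
  let b := Module.finBasis K U
  let out : Fin (finrank K U) → U → Module.End K U := fun i y => (b.coord i).smulRight y
  have hout : ∀ T i y, T * out i y = out i (T y) := fun T i y => LinearMap.ext fun z => by simp [out]
  have hsum : ∑ i, out i (b i) = 1 := LinearMap.ext fun z => by simp [out, b.sum_repr]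
  obtain ⟨w, i, hw⟩ : ∃ (w : V) (i : Fin (finrank K U)), ψ (out i (b i)) w ≠ 0 := by
    by_contra hne
    push Not at hne
    obtain ⟨v, hv⟩ := exists_ne (0 : V)
    refine hv ?_
    have h1 : ψ 1 v = v := by rw [map_one]; rfl
    rw [← h1, ← hsum, map_sum, LinearMap.sum_apply]
    exact Finset.sum_eq_zero fun i _ => hne v i
  refine ⟨{ toFun := fun y => ψ (out i y) w, map_add' := fun y z => ?_, map_smul' := fun c y => ?_ }, ?_, ?_⟩
  · rw [show out i (y + z) = out i y + out i z from LinearMap.ext fun t => by simp [out], map_add]; rfl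
  · rw [show out i (c • y) = c • out i y from LinearMap.ext fun t => by simp [out]; rw [smul_comm], map_smul]; rfl
  · refine (injective_iff_map_eq_zero _).mpr fun y hy => ?_
    by_contra hy0
    obtain ⟨j, hj⟩ : ∃ j, b.repr y j ≠ 0 := by
      by_contra hne
      push Not at hne
      exact hy0 (b.repr.injective (Finsupp.ext fun j => by simpa using hne j))
    let T : Module.End K U := ((b.repr y j)⁻¹ • b.coord j).smulRight (b i)
    have hT : T y = b i := by simp [T, hj]
    refine hw ?_
    rw [← hT, ← hout, map_mul, Module.End.mul_apply, show ψ (out i y) w = 0 from hy, map_zero]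
  · intro T y
    show ψ (out i (T y)) w = ψ T (ψ (out i y) w)
    rw [← hout, map_mul]; rfl

end Cfsg.Agent.Grp
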