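import Mathlib

/-!
Eigenvalue multiplicities of a linear map of finite order whose conjugation action permutes a basis
of the endomorphism algebra monomially, freely apart from the identity.
-/

set_option autoImplicit false

namespace Cfsg.Agent.Grp

open Module

/-- Integer vectors on a cyclic group with almost constant autocorrelation differ from a constant in
one place. -/
theorem multiplicity_dichotomy {h : ℕ} [NeZero h] (hh : 2 ≤ h) (m : ZMod h → ℕ) (c : ℕ)
    (hm : ∀ j, ∑ i, m i * m (i + j) = c + if j = 0 then 1 else 0) :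
    ∃ a : ℕ, (∀ i, a ≤ m i) ∧ ((∑ i, m i) = a * h + 1 ∨ (∑ i, m i) + 1 = (a + 1) * h) := by
  classical
  set M : ZMod h → ℤ := fun i => (m i : ℤ) with hM
  have hm' : ∀ j, ∑ i, M i * M (i + j) = (c : ℤ) + if j = 0 then 1 else 0 := by
    intro j
    have := congrArg (fun t : ℕ => (t : ℤ)) (hm j)
    push_cast at this
    simpa [hM] using this
  have hsq : ∀ j, j ≠ 0 → ∑ i, (M i - M (i + j)) ^ 2 = 2 := by
    intro j hj
    have h0 := hm' 0
    simp only [add_zero, if_true] at h0
    have hj' := hm' j
    rw [if_neg hj, add_zero] at hj'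
    have h1 : ∑ i, M (i + j) * M (i + j) = ∑ i, M i * M i :=
      Fintype.sum_equiv (Equiv.addRight j) _ _ (fun i => rfl)
    have h2 : ∑ i, (M i - M (i + j)) ^ 2
        = (∑ i, M i * M i) + (∑ i, M (i + j) * M (i + j)) - 2 * ∑ i, M i * M (i + j) := by
      rw [Finset.mul_sum, ← Finset.sum_add_distrib, ← Finset.sum_sub_distrib]
      exact Finset.sum_congr rfl fun i _ => by ring
    rw [h2, h1, hj', h0]; ring
  obtain ⟨i₀, -, hi₀⟩ := Finset.exists_min_image (Finset.univ : Finset (ZMod h)) m Finset.univ_nonempty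
  set a := m i₀ with ha
  have hle : ∀ i, a ≤ m i := fun i => hi₀ i (Finset.mem_univ i)
  have htop : ∀ i, m i ≤ a + 1 := by
    intro i
    by_cases hi : i = i₀
    · rw [hi, ha]; omega
    · have h1 := hsq (i₀ - i) (sub_ne_zero.mpr (Ne.symm hi))
      have h2 : (M i - M (i + (i₀ - i))) ^ 2 ≤ 2 :=
        h1 ▸ Finset.single_le_sum (f := fun t => (M t - M (t + (i₀ - i))) ^ 2) (fun t _ => sq_nonneg _)
          (Finset.mem_univ i)
      rw [show i + (i₀ - i) = i₀ by abel] at h2
      by_contra hc
      push Not at hc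
      have h3 : (2 : ℤ) ≤ M i - M i₀ := by simp only [hM, ← ha]; omega
      nlinarith
  set f : ZMod h → ℤ := fun i => M i - a with hf
  have hf01 : ∀ i, f i * f i = f i := by
    intro i
    have h1 := hle i; have h2 := htop i
    have : f i = 0 ∨ f i = 1 := by simp only [hf, hM]; omega
    rcases this with e | e <;> rw [e] <;> norm_num
  set s := ∑ i, f i with hs
  have hpairs : ∀ i : ZMod h, ∑ j, (f i - f (i + j)) ^ 2 = ∑ k, (f i - f k) ^ 2 := fun i =>
    Fintype.sum_equiv (Equiv.addLeft i) _ _ (fun j => rfl)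
  have hL : ∑ j : ZMod h, ∑ i, (f i - f (i + j)) ^ 2 = 2 * ((h : ℤ) - 1) := by
    rw [← Finset.add_sum_erase _ _ (Finset.mem_univ (0 : ZMod h))]
    rw [show ∑ i, (f i - f (i + 0)) ^ 2 = 0 by simp, zero_add]
    have e : ∀ j ∈ (Finset.univ : Finset (ZMod h)).erase 0, ∑ i, (f i - f (i + j)) ^ 2 = 2 := by
      intro j hj
      rw [← hsq j (Finset.ne_of_mem_erase hj)]
      exact Finset.sum_congr rfl fun i _ => by simp only [hf]; ring
    rw [Finset.sum_congr rfl e, Finset.sum_const, Finset.card_erase_of_mem (Finset.mem_univ _),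
      Finset.card_univ, ZMod.card, nsmul_eq_mul, Nat.cast_sub (by omega)]
    push_cast; ring
  rw [Finset.sum_comm, Finset.sum_congr rfl fun i _ => hpairs i] at hL
  have hR : ∑ i : ZMod h, ∑ k, (f i - f k) ^ 2 = 2 * (h : ℤ) * s - 2 * s * s := by
    have e : ∀ i k : ZMod h, (f i - f k) ^ 2 = f i + f k - 2 * (f i * f k) := fun i k => by
      have := hf01 i; have := hf01 k; nlinarith
    simp only [e, Finset.sum_sub_distrib, Finset.sum_add_distrib, Finset.sum_const, Finset.card_univ,
      ZMod.card, nsmul_eq_mul, ← Finset.mul_sum, ← Finset.sum_mul, ← hs]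
    ring
  rw [hR] at hL
  have hz : (s - 1) * ((h : ℤ) - 1 - s) = 0 := by linarith
  have hsum : ((∑ i, m i : ℕ) : ℤ) = a * h + s := by
    rw [hs]; simp only [hf, Finset.sum_sub_distrib, Finset.sum_const, Finset.card_univ, ZMod.card, hM]
    push_cast; ring
  refine ⟨a, hle, ?_⟩
  rcases mul_eq_zero.mp hz with e | e
  · left
    have : s = 1 := by linarith
    rw [this] at hsum
    exact_mod_cast hsum
  · right
    have : s = h - 1 := by linarith
    rw [this] at hsum
    have : ((∑ i, m i : ℕ) : ℤ) + 1 = ((a : ℤ) + 1) * h := by rw [hsum]; ring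
    exact_mod_cast this

theorem pow_val_mul {M : Type*} [Monoid M] {h : ℕ} [NeZero h] (T : M) (hT : T ^ h = 1) (x y : ZMod h) :
    T ^ x.val * T ^ y.val = T ^ (x + y).val := by
  rw [← pow_add, ZMod.val_add, ← pow_eq_pow_mod _ hT]

variable {K : Type*} [Field K] {U : Type*} [AddCommGroup U] [Module K U] [FiniteDimensional K U]

/-- Dimension and multiplicities for a free monomial conjugation action. -/
theorem finrank_of_free_monomial {ι : Type*} [Fintype ι] [DecidableEq ι] (o : ι) (σ : Equiv.Perm ι)
    {h : ℕ} [NeZero h] (hh : 2 ≤ h) (hζ : ∃ ζ : K, IsPrimitiveRoot ζ h) (hK : (h : K) ≠ 0)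
    (hσo : σ o = o) (hσh : σ ^ h = 1) (hfree : ∀ i, 0 < i → i < h → ∀ g, (σ ^ i) g = g → g = o)
    (b : Basis ι K (Module.End K U)) (hbo : b o = 1) (u : Module.End K U) (hu : u ^ h = 1)
    (hconj : ∀ g, ∃ c : K, u * b g * u ^ (h - 1) = c • b (σ g)) :
    finrank K U * finrank K U = Fintype.card ι ∧
      (h ∣ finrank K U + 1 ∨ h ∣ finrank K U - 1) ∧
      ((∀ y, u y = y → y = 0) → 1 < Fintype.card ι → finrank K U + 1 = h) := by
  classical
  obtain ⟨ζ, hζ⟩ := hζ
  set χ := AddChar.zmodChar h hζ.pow_eq_one with hχ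
  have hprim : χ.IsPrimitive := AddChar.zmodChar_primitive_of_primitive_root h hζ
  have horth : ∀ x : ZMod h, ∑ i : ZMod h, χ (i * x) = if x = 0 then (h : K) else 0 := by
    intro x
    rw [AddChar.sum_mulShift x hprim, ZMod.card]
    split_ifs <;> simp
  have hinj : Function.Injective χ := by
    intro x y hxy
    simp only [hχ, AddChar.zmodChar_apply] at hxy
    exact ZMod.val_injective h (hζ.pow_inj (ZMod.val_lt x) (ZMod.val_lt y) hxy)
  -- eigenbasis of `u`
  let Vi : ZMod h → Submodule K U := fun i => Module.End.eigenspace u (χ i)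
  have hVtop : ⨆ i, Vi i = ⊤ := by
    refine top_le_iff.mp fun v _ => ?_
    have hsum : (h : K) • v = ∑ i : ZMod h, ∑ t : ZMod h, χ (i * (-t)) • (u ^ t.val) v := by
      rw [Finset.sum_comm]
      simp only [← Finset.sum_smul, horth]
      simp [ZMod.val_zero]
    have hw : ∀ i : ZMod h, (∑ t : ZMod h, χ (i * (-t)) • (u ^ t.val) v) ∈ Vi i := by
      intro i
      rw [Module.End.mem_eigenspace_iff, map_sum, Finset.smul_sum]
      refine Fintype.sum_equiv (Equiv.addLeft 1) _ _ fun t => ?_
      rw [map_smul, smul_smul, ← AddChar.map_add_eq_mul]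
      show _ = χ (i + i * -(1 + t)) • (u ^ (1 + t).val) v
      rw [show i + i * -(1 + t) = i * -t by ring, ← pow_val_mul u hu, Module.End.mul_apply]
      congr 1
      have h1 : (1 : ZMod h).val = 1 := by
        haveI : Fact (1 < h) := ⟨hh⟩
        exact ZMod.val_one h
      rw [h1, pow_one]
    have hmem : (h : K) • v ∈ ⨆ i, Vi i := hsum ▸ Submodule.sum_mem _ fun i _ => Submodule.mem_iSup_of_mem i (hw i)
    simpa [smul_smul, hK] using (⨆ i, Vi i).smul_mem ((h : K)⁻¹) hmem
  have hint : DirectSum.IsInternal Vi := DirectSum.isInternal_submodule_of_iSupIndep_of_iSup_eq_top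
    ((Module.End.eigenspaces_iSupIndep u).comp hinj) hVtop
  let J := (i : ZMod h) × Fin (finrank K (Vi i))
  let e : Basis J K U := hint.collectedBasis (fun i => Module.finBasis K (Vi i))
  let f : J → ZMod h := Sigma.fst
  have heig : ∀ k : J, u (e k) = χ (f k) • e k := fun k =>
    Module.End.mem_eigenspace_iff.mp (hint.collectedBasis_mem (fun i => Module.finBasis K (Vi i)) k)
  have hupow : ∀ (n : ℕ) (k : J), (u ^ n) (e k) = χ (n • f k) • e k := by
    intro n k
    induction n with
    | zero => simp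
    | succ n ih => rw [pow_succ', Module.End.mul_apply, ih, map_smul, heig, smul_smul, succ_nsmul, AddChar.map_add_eq_mul]
  -- the conjugation map and its projections
  let Φ : Module.End K (Module.End K U) :=
    { toFun := fun T => u * T * u ^ (h - 1)
      map_add' := fun S T => by rw [mul_add, add_mul]
      map_smul' := fun c T => by simp }
  have hΦpow : ∀ (n : ℕ) (T : Module.End K U), (Φ ^ n) T = u ^ n * T * u ^ ((h - 1) * n) := by
    intro n T
    induction n with
    | zero => simp
    | succ n ih =>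
      rw [pow_succ', Module.End.mul_apply, ih]
      show u * (u ^ n * T * u ^ ((h - 1) * n)) * u ^ (h - 1) = _
      rw [mul_add, mul_one, pow_add u ((h - 1) * n), pow_succ' u n]
      simp only [mul_assoc]
  have hΦh : Φ ^ h = 1 := by
    refine LinearMap.ext fun T => ?_
    rw [hΦpow, hu, mul_comm (h - 1) h, pow_mul, hu, one_pow, one_mul, mul_one]
    rfl
  let P : ZMod h → Module.End K (Module.End K U) := fun j => ∑ i : ZMod h, χ (i * (-j)) • Φ ^ i.val
  have hPΦ : ∀ j T, P j (Φ T) = χ j • P j T := by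
    intro j T
    simp only [P, LinearMap.sum_apply, LinearMap.smul_apply, Finset.smul_sum, smul_smul, ← AddChar.map_add_eq_mul]
    refine Fintype.sum_equiv (Equiv.addRight 1) _ _ fun i => ?_
    show χ (i * -j) • (Φ ^ i.val) (Φ T) = χ (j + (i + 1) * -j) • (Φ ^ (i + 1).val) T
    rw [show j + (i + 1) * -j = i * -j by ring, ← pow_val_mul Φ hΦh, Module.End.mul_apply]
    congr 2
    have h1 : (1 : ZMod h).val = 1 := by
      haveI : Fact (1 < h) := ⟨hh⟩
      exact ZMod.val_one h
    rw [h1, pow_one]
  -- matrix units are eigenvectors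
  set E := e.linearMap e with hE
  have hEkl : ∀ (n : ℕ) (kl : J × J), (Φ ^ n) (E kl) = χ (n • (f kl.1 - f kl.2)) • E kl := by
    intro n kl
    rw [hΦpow]
    refine e.ext fun t => ?_
    rw [Module.End.mul_apply, Module.End.mul_apply, hupow, map_smul, map_smul, hE,
      Module.Basis.linearMap_apply_apply, LinearMap.smul_apply, Module.Basis.linearMap_apply_apply]
    by_cases hkt : kl.2 = t
    · rw [if_pos hkt, hupow, smul_smul, ← AddChar.map_add_eq_mul]
      congr 2
      subst hkt
      simp only [nsmul_eq_mul, Nat.cast_mul, Nat.cast_sub (show 1 ≤ h by omega), ZMod.natCast_self, Nat.cast_one]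
      ring
    · rw [if_neg hkt, map_zero, smul_zero, smul_zero]
  have hPE : ∀ j (kl : J × J), f kl.1 - f kl.2 = j → P j (E kl) = (h : K) • E kl := by
    intro j kl hkl
    simp only [P, LinearMap.sum_apply, LinearMap.smul_apply, hEkl, smul_smul, ← AddChar.map_add_eq_mul, ← Finset.sum_smul]
    congr 1
    have e1 : ∀ i : ZMod h, i * -j + i.val • (f kl.1 - f kl.2) = i * 0 := fun i => by
      rw [nsmul_eq_mul, ZMod.natCast_zmod_val, hkl]; ring
    simp only [e1]
    rw [horth 0, if_pos rfl]
  set N : ZMod h → ℕ := fun j => Fintype.card {kl : J × J // f kl.1 - f kl.2 = j} with hN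
  have hlower : ∀ j, N j ≤ finrank K (LinearMap.range (P j)) := by
    intro j
    let v : {kl : J × J // f kl.1 - f kl.2 = j} → LinearMap.range (P j) := fun kl =>
      ⟨E kl.1, ⟨(h : K)⁻¹ • E kl.1, by rw [map_smul, hPE j _ kl.2, smul_smul, inv_mul_cancel₀ hK, one_smul]⟩⟩
    have hli : LinearIndependent K v :=
      LinearIndependent.of_comp (LinearMap.range (P j)).subtype
        (E.linearIndependent.comp Subtype.val Subtype.val_injective)
    exact hli.fintype_card_le_finrank
  -- orbit representatives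
  let S := {g : ι // g ≠ o}
  have hσi : ∀ (i : ℕ) (g : ι), g ≠ o → (σ ^ i) g ≠ o := by
    intro i g hg e'
    have : (σ ^ i) o = o := Equiv.Perm.pow_apply_eq_self_of_apply_eq_self hσo i
    exact hg ((σ ^ i).injective (e'.trans this.symm))
  let R : Setoid S :=
    { r := fun g g' => ∃ i : ZMod h, (σ ^ i.val) (g : ι) = g'
      iseqv := ⟨fun g => ⟨0, by simp⟩,
        fun {g g'} ⟨i, hi⟩ => ⟨-i, by rw [← hi, ← Equiv.Perm.mul_apply, pow_val_mul σ hσh, neg_add_cancel]; simp⟩,
        fun {g g' g''} ⟨i, hi⟩ ⟨i', hi'⟩ => ⟨i' + i, by rw [← hi', ← hi, ← Equiv.Perm.mul_apply, pow_val_mul σ hσh]⟩⟩ }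
  haveI : Fintype (Quotient R) := Fintype.ofFinite _
  have hbij : Function.Bijective (fun x : Quotient R × ZMod h =>
      (⟨(σ ^ x.2.val) (x.1.out : S), hσi _ _ (x.1.out).2⟩ : S)) := by
    constructor
    · rintro ⟨O, i⟩ ⟨O', i'⟩ hx
      have hx' : (σ ^ i.val) (O.out : ι) = (σ ^ i'.val) (O'.out : ι) := congrArg Subtype.val hx
      have hOO : O = O' := by
        rw [← O.out_eq, ← O'.out_eq]
        refine Quotient.sound ⟨-i' + i, ?_⟩
        rw [← pow_val_mul σ hσh, Equiv.Perm.mul_apply, hx', ← Equiv.Perm.mul_apply, pow_val_mul σ hσh, neg_add_cancel]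
        simp
      subst hOO
      have h1 : (σ ^ (-i' + i).val) (O.out : ι) = O.out := by
        rw [← pow_val_mul σ hσh, Equiv.Perm.mul_apply, hx', ← Equiv.Perm.mul_apply, pow_val_mul σ hσh, neg_add_cancel]
        simp
      refine Prod.ext rfl ?_
      by_contra hne
      have hpos : 0 < (-i' + i).val := Nat.pos_of_ne_zero fun e' => hne (by
        have := (ZMod.val_eq_zero _).mp e'
        exact (neg_add_eq_zero.mp this).symm)
      exact (O.out).2 (hfree _ hpos (ZMod.val_lt _) _ h1)
    · intro g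
      obtain ⟨i, hi⟩ := Quotient.exact (Quotient.out_eq (Quotient.mk R g))
      exact ⟨(Quotient.mk R g, i), Subtype.ext hi⟩
  set c := Nat.card (Quotient R) with hc
  have hcard : Fintype.card ι = c * h + 1 := by
    have h1 := Nat.card_congr (Equiv.ofBijective _ hbij)
    rw [Nat.card_prod, Nat.card_zmod, ← hc, Nat.card_eq_fintype_card (α := S), Fintype.card_subtype_compl, Fintype.card_subtype_eq] at h1
    have h2 : 0 < Fintype.card ι := Fintype.card_pos_iff.mpr ⟨o⟩
    omega
  have hscal : ∀ g, ∃ c : K, c ≠ 0 ∧ Φ (b g) = c • b (σ g) := by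
    intro g
    obtain ⟨c, hc⟩ := hconj g
    refine ⟨c, fun e' => ?_, hc⟩
    rw [e', zero_smul] at hc
    have h1 : (Φ ^ h) (b g) = b g := by rw [hΦh]; rfl
    rw [show h = (h - 1) + 1 by omega, pow_succ, Module.End.mul_apply,
      show Φ (b g) = 0 from hc, map_zero] at h1
    exact b.ne_zero g h1.symm
  have hupper : ∀ j, finrank K (LinearMap.range (P j)) ≤ c + if j = 0 then 1 else 0 := by
    intro j
    have hPo : j ≠ 0 → P j (b o) = 0 := by
      intro hj
      simp only [P, LinearMap.sum_apply, LinearMap.smul_apply, hbo, hΦpow, mul_one, ← pow_add]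
      have e1 : ∀ n : ℕ, u ^ (n + (h - 1) * n) = 1 := fun n => by
        rw [show n + (h - 1) * n = h * n by
          calc n + (h - 1) * n = ((h - 1) + 1) * n := by ring
            _ = h * n := by rw [Nat.sub_add_cancel (show 1 ≤ h by omega)], pow_mul, hu, one_pow]
      simp only [e1, ← Finset.sum_smul]
      rw [horth, if_neg (neg_ne_zero.mpr hj), zero_smul]
    let s : Finset (Module.End K U) :=
      (Finset.univ.image fun O : Quotient R => P j (b (O.out : S))) ∪ if j = 0 then {P j (b o)} else ∅
    have hle : LinearMap.range (P j) ≤ Submodule.span K (s : Set (Module.End K U)) := by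
      rw [← Submodule.map_top, ← b.span_eq, Submodule.map_span, Submodule.span_le]
      rintro _ ⟨_, ⟨g, rfl⟩, rfl⟩
      by_cases hg : g = o
      · subst hg
        by_cases hj : j = 0
        · exact Submodule.subset_span (by simp [s, hj])
        · rw [hPo hj]; exact Submodule.zero_mem _
      · obtain ⟨⟨O, i⟩, hOi⟩ := hbij.2 ⟨g, hg⟩
        have hgv : (σ ^ i.val) (O.out : ι) = g := congrArg Subtype.val hOi
        rw [← hgv]
        have key : ∀ n : ℕ, P j (b ((σ ^ n) (O.out : ι))) ∈ Submodule.span K (s : Set (Module.End K U)) := by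
          intro n
          induction n with
          | zero => exact Submodule.subset_span (by simp [s])
          | succ n ih =>
            obtain ⟨c, hc0, hc1⟩ := hscal ((σ ^ n) (O.out : ι))
            have h2 := congrArg (P j) hc1
            rw [hPΦ, map_smul] at h2
            rw [pow_succ', Equiv.Perm.mul_apply,
              show P j (b (σ ((σ ^ n) (O.out : ι)))) = c⁻¹ • (χ j • P j (b ((σ ^ n) (O.out : ι)))) by
                rw [h2, smul_smul, inv_mul_cancel₀ hc0, one_smul]]
            exact Submodule.smul_mem _ _ (Submodule.smul_mem _ _ ih)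
        exact key _
    refine (Submodule.finrank_mono hle).trans ((finrank_span_finset_le_card s).trans ?_)
    refine (Finset.card_union_le _ _).trans (Nat.add_le_add (Finset.card_image_le.trans (by rw [hc, Nat.card_eq_fintype_card, Finset.card_univ])) ?_)
    split_ifs <;> simp
  have hd : finrank K U = Fintype.card J := Module.finrank_eq_card_basis e
  have hdd : finrank K U * finrank K U = Fintype.card ι := by
    rw [← Module.finrank_linearMap K K U U, Module.finrank_eq_card_basis b]
  have hNsum : ∑ j, N j = Fintype.card ι := by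
    rw [← hdd, hd, ← Fintype.card_prod, ← Fintype.card_sigma]
    exact Fintype.card_congr (Equiv.sigmaFiberEquiv (fun kl : J × J => f kl.1 - f kl.2))
  have hNeq : ∀ j, N j = c + if j = 0 then 1 else 0 := by
    intro j
    by_contra hne
    have h1 : ∑ j, N j < ∑ j : ZMod h, (c + if j = 0 then 1 else 0) :=
      Finset.sum_lt_sum (fun i _ => (hlower i).trans (hupper i))
        ⟨j, Finset.mem_univ _, lt_of_le_of_ne ((hlower j).trans (hupper j)) hne⟩
    rw [hNsum, Finset.sum_add_distrib, Finset.sum_const, Finset.card_univ, ZMod.card,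
      Finset.sum_ite_eq' Finset.univ (0 : ZMod h) (fun _ => 1), if_pos (Finset.mem_univ _), smul_eq_mul, hcard,
      mul_comm] at h1
    omega
  let m : ZMod h → ℕ := fun i => Fintype.card {k : J // f k = i}
  have hm : ∀ j, ∑ i, m i * m (i + j) = c + if j = 0 then 1 else 0 := by
    intro j
    rw [← hNeq j, hN]
    simp only [m, ← Fintype.card_prod, ← Fintype.card_sigma]
    refine Fintype.card_congr
      { toFun := fun x => ⟨(x.2.2.1, x.2.1.1), by
          show f x.2.2.1 - f x.2.1.1 = j
          rw [x.2.2.2, x.2.1.2, add_sub_cancel_left]⟩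
        invFun := fun y => ⟨f y.1.2, ⟨y.1.2, rfl⟩, ⟨y.1.1, by have := y.2; linear_combination this⟩⟩
        left_inv := by rintro ⟨i, ⟨l, rfl⟩, ⟨k, hk⟩⟩; rfl
        right_inv := by rintro ⟨⟨k, l⟩, hkl⟩; rfl }
  obtain ⟨a, ha, hcase⟩ := multiplicity_dichotomy hh m c hm
  have hmsum : ∑ i, m i = finrank K U := by
    rw [hd]
    simp only [m, ← Fintype.card_sigma]
    exact Fintype.card_congr (Equiv.sigmaFiberEquiv f)
  rw [hmsum] at hcase
  refine ⟨hdd, ?_, fun hfix h1 => ?_⟩
  · rcases hcase with e' | e'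
    · exact Or.inr ⟨a, by rw [e', mul_comm]; omega⟩
    · exact Or.inl ⟨a + 1, by rw [e', mul_comm]⟩
  · have hm0 : m 0 = 0 := by
      rw [Fintype.card_eq_zero_iff]
      refine ⟨fun k => e.ne_zero k.1 (hfix _ ?_)⟩
      rw [heig, k.2, AddChar.map_zero_eq_one, one_smul]
    have ha0 : a = 0 := Nat.le_zero.mp (hm0 ▸ ha 0)
    rcases hcase with e' | e'
    · rw [← hdd, e', ha0] at h1
      simp at h1
    · rw [e', ha0, zero_add, one_mul]

end Cfsg.Agent.Grp
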