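import Mathlib

/-!
The centralizer of a nilpotent endomorphism is large: `d ^ 2 ≤ m * dim C(N)` when `N ^ m = 0`.
-/

set_option autoImplicit false
set_option linter.unusedSectionVars false

namespace Cfsg.Agent.Grp.NilpotentCommutant

open Module

universe u v

variable {K : Type u} [Field K]

/-- The endomorphisms commuting with `N`. -/
def commutant {U : Type v} [AddCommGroup U] [Module K U] (N : Module.End K U) :
    Submodule K (Module.End K U) where
  carrier := {S | S * N = N * S}
  add_mem' := fun {a b} (ha : a * N = N * a) (hb : b * N = N * b) =>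
    show (a + b) * N = N * (a + b) by rw [add_mul, mul_add, ha, hb]
  zero_mem' := show (0 : Module.End K U) * N = N * 0 by rw [zero_mul, mul_zero]
  smul_mem' := fun c a (ha : a * N = N * a) =>
    show (c • a) * N = N * (c • a) by rw [smul_mul_assoc, mul_smul_comm, ha]

theorem mem_commutant {U : Type v} [AddCommGroup U] [Module K U] {N S : Module.End K U} :
    S ∈ commutant N ↔ S * N = N * S := Iff.rfl

/-- The `K[N]`-linear map sending a cyclic vector of height `a` to `x`. -/
def cyc {U : Type v} [AddCommGroup U] [Module K U] (N : Module.End K U) (a : ℕ) :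
    Module.Dual K U →ₗ[K] U →ₗ[K] Module.End K U :=
  LinearMap.mk₂ K (fun χ x => ∑ i ∈ Finset.range a, (χ ∘ₗ (N ^ (a - 1 - i) : Module.End K U)).smulRight ((N ^ i) x))
    (fun χ χ' x => by
      rw [← Finset.sum_add_distrib]
      exact Finset.sum_congr rfl fun i _ => LinearMap.ext fun y => by simp [add_smul])
    (fun c χ x => by
      rw [Finset.smul_sum]
      exact Finset.sum_congr rfl fun i _ => LinearMap.ext fun y => by simp [smul_smul])
    (fun χ x x' => by
      rw [← Finset.sum_add_distrib]
      exact Finset.sum_congr rfl fun i _ => LinearMap.ext fun y => by simp [smul_add])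
    (fun c χ x => by
      rw [Finset.smul_sum]
      exact Finset.sum_congr rfl fun i _ => LinearMap.ext fun y => by simp [smul_comm c])

theorem cyc_apply {U : Type v} [AddCommGroup U] [Module K U] (N : Module.End K U) (a : ℕ)
    (χ : Module.Dual K U) (x y : U) :
    cyc N a χ x y = ∑ i ∈ Finset.range a, χ ((N ^ (a - 1 - i)) y) • (N ^ i) x := by
  simp [cyc, LinearMap.sum_apply]

theorem cyc_commute {U : Type v} [AddCommGroup U] [Module K U] (N : Module.End K U) {a : ℕ}
    (ha : N ^ a = 0) (χ : Module.Dual K U) (x : U) : cyc N a χ x * N = N * cyc N a χ x := by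
  refine LinearMap.ext fun y => ?_
  rw [Module.End.mul_apply, Module.End.mul_apply, cyc_apply, cyc_apply, map_sum]
  cases a with
  | zero => simp
  | succ b =>
    rw [Finset.sum_range_succ', Finset.sum_range_succ]
    have h0 : (N ^ (b + 1 - 1 - 0)) (N y) = 0 := by
      rw [← Module.End.mul_apply, ← pow_succ, show b + 1 - 1 - 0 + 1 = b + 1 by omega, ha]; rfl
    have h1 : N ((N ^ b) x) = 0 := by
      rw [← Module.End.mul_apply, ← pow_succ', ha]; rfl
    rw [h0, map_zero, zero_smul, add_zero, map_smul, h1, smul_zero, add_zero]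
    refine Finset.sum_congr rfl fun i hi => ?_
    have hib := Finset.mem_range.mp hi
    rw [map_smul, ← Module.End.mul_apply (N ^ _), ← pow_succ, show b + 1 - 1 - (i + 1) + 1 = b + 1 - 1 - i by omega,
      ← Module.End.mul_apply N, ← pow_succ']

/-- `S3786`, linear algebra: the centralizer of a nilpotent map is large. -/
theorem sq_le_mul_finrank : ∀ (d : ℕ) {U : Type v} [AddCommGroup U] [Module K U] [FiniteDimensional K U]
    (N : Module.End K U) (m : ℕ), finrank K U = d → N ^ m = 0 →
      d * d ≤ m * finrank K ↥(commutant N) := by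
  intro d
  induction d using Nat.strong_induction_on with
  | _ d ih =>
  intro U _ _ _ N m hd hNm
  rcases Nat.eq_zero_or_pos d with hd0 | hd0
  · simp [hd0]
  classical
  have hex : ∃ a, N ^ a = 0 := ⟨m, hNm⟩
  set a := Nat.find hex with hadef
  have haN : N ^ a = 0 := Nat.find_spec hex
  have ham : a ≤ m := Nat.find_min' hex hNm
  haveI : Nontrivial U := nontrivial_of_finrank_pos (R := K) (by omega)
  have ha0 : a ≠ 0 := fun h => by
    rw [h, pow_zero] at haN
    obtain ⟨y, hy⟩ := exists_ne (0 : U)
    exact hy (LinearMap.congr_fun haN y)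
  obtain ⟨v, hv⟩ : ∃ v, (N ^ (a - 1)) v ≠ 0 := by
    by_contra h
    push Not at h
    exact Nat.find_min hex (by omega : a - 1 < a) (LinearMap.ext fun y => by simp [h y])
  have hbig : ∀ k, a ≤ k → ∀ y, (N ^ k) y = 0 := fun k hk y => by
    rw [show k = k - a + a by omega, pow_add, haN, mul_zero]; rfl
  -- the vectors `N ^ i v` are independent
  set f : Fin a → U := fun i => (N ^ (i : ℕ)) v with hf
  have hli : LinearIndependent K f := by
    rw [Fintype.linearIndependent_iff]
    intro g hg
    suffices h : ∀ k : ℕ, ∀ i : Fin a, (i : ℕ) = k → g i = 0 from fun i => h i i rfl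
    intro k
    induction k using Nat.strong_induction_on with
    | _ k ihk =>
    intro i hi
    have h1 := congrArg (fun t => (N ^ (a - 1 - k)) t) hg
    simp only [map_sum, map_smul, map_zero] at h1
    rw [Finset.sum_eq_single i (fun j _ hj => ?_) (fun h => absurd (Finset.mem_univ _) h)] at h1
    · simp only [hf] at h1
      rw [← Module.End.mul_apply, ← pow_add, show a - 1 - k + (i : ℕ) = a - 1 by omega] at h1
      exact (smul_eq_zero.mp h1).resolve_right hv
    · rcases lt_or_gt_of_ne (fun e => hj (Fin.ext e) : (j : ℕ) ≠ i) with h | h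
      · rw [ihk j (hi ▸ h) j rfl, zero_smul]
      · simp only [hf]
        rw [← Module.End.mul_apply, ← pow_add, hbig _ (by omega), smul_zero]
  obtain ⟨φ, hφ⟩ : ∃ φ : Module.Dual K U, ∀ j, j < a → φ ((N ^ j) v) = if j = a - 1 then 1 else 0 := by
    obtain ⟨g, hg⟩ := LinearMap.exists_extend ((Basis.span hli).coord ⟨a - 1, by omega⟩)
    refine ⟨g, fun j hj => ?_⟩
    have h1 := LinearMap.congr_fun hg (Basis.span hli ⟨j, hj⟩)
    rw [LinearMap.comp_apply, Submodule.subtype_apply, Basis.coord_apply, Basis.repr_self,
      Finsupp.single_apply, Basis.span_apply] at h1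
    simp only [hf] at h1
    rw [h1]
    simp [Fin.ext_iff]
  set E := cyc N a with hE
  set P := E φ v with hP
  have hPv : ∀ x, E φ x v = x := by
    intro x
    rw [hE, cyc_apply, Finset.sum_eq_single 0 (fun i hi hi0 => ?_) (fun h => absurd (Finset.mem_range.mpr (by omega)) h)]
    · rw [hφ _ (by omega), if_pos (by omega), one_smul, pow_zero]; rfl
    · rw [hφ _ (by omega), if_neg (by have := Finset.mem_range.mp hi; omega), zero_smul]
  -- the invariant complement
  let θ : U →ₗ[K] (Fin a → K) := LinearMap.pi fun i => φ ∘ₗ (N ^ (a - 1 - (i : ℕ)) : Module.End K U)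
  set W := LinearMap.ker θ with hW
  have hWmem : ∀ w, w ∈ W ↔ ∀ j, j < a → φ ((N ^ j) w) = 0 := by
    intro w
    rw [hW, LinearMap.mem_ker, funext_iff]
    refine ⟨fun h j hj => ?_, fun h i => h _ (by omega)⟩
    have := h ⟨a - 1 - j, by omega⟩
    simp only [θ, LinearMap.pi_apply, LinearMap.comp_apply, Pi.zero_apply] at this
    rwa [show a - 1 - (a - 1 - j) = j by omega] at this
  have hWP : ∀ w ∈ W, ∀ x, E φ x w = 0 := fun w hw x => by
    rw [hE, cyc_apply]
    exact Finset.sum_eq_zero fun i hi => by
      rw [(hWmem w).mp hw _ (by omega), zero_smul]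
  have hWN : ∀ w ∈ W, N w ∈ W := fun w hw => (hWmem _).mpr fun j hj => by
    rw [← Module.End.mul_apply, ← pow_succ]
    rcases Nat.lt_or_ge (j + 1) a with h | h
    · exact (hWmem w).mp hw _ h
    · rw [hbig _ h, map_zero]
  have hdimW : d ≤ finrank K W + a ∧ finrank K W + a ≤ d := by
    have h1 := θ.finrank_range_add_finrank_ker
    have h2 : finrank K (LinearMap.range θ) ≤ a := by
      have := Submodule.finrank_le (LinearMap.range θ)
      simpa using this
    have h3 : a ≤ finrank K (LinearMap.range θ) := by
      have hs : LinearMap.range θ = ⊤ := by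
        rw [eq_top_iff]
        intro g _
        refine ⟨∑ i : Fin a, g i • f i, funext fun k => ?_⟩
        simp only [θ, LinearMap.pi_apply, LinearMap.comp_apply, map_sum, map_smul]
        rw [Finset.sum_eq_single k (fun j _ hj => ?_) (fun h => absurd (Finset.mem_univ _) h)]
        · simp only [hf]
          rw [← Module.End.mul_apply, ← pow_add, hφ _ (by omega), if_pos (by omega), smul_eq_mul, mul_one]
        · simp only [hf]
          rw [← Module.End.mul_apply, ← pow_add]
          rcases Nat.lt_or_ge (a - 1 - (k : ℕ) + (j : ℕ)) a with h | h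
          · rw [hφ _ h, if_neg (fun e => hj (Fin.ext (by omega))), smul_zero]
          · rw [hbig _ h, map_zero, smul_zero]
      rw [hs]; simp
    rw [← hW] at h1
    omega
  set NW : Module.End K W := N.restrict hWN with hNW
  have hPW : ∀ w ∈ W, P w = 0 := fun w hw => hWP w hw v
  have hPidem : ∀ y, P (P y) = P y := by
    intro y
    have hc := cyc_commute N haN φ v
    conv_rhs => rw [hP, cyc_apply]
    conv_lhs => rw [hP, cyc_apply N a φ v y, map_sum]
    refine Finset.sum_congr rfl fun i _ => ?_
    rw [map_smul]
    congr 1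
    have hc' : Commute (E φ v) (N ^ i) := (Commute.pow_right hc i)
    have := LinearMap.congr_fun hc'.eq v
    simp only [Module.End.mul_apply] at this
    rw [this, hPv]
  have hQmem : ∀ y, y - P y ∈ W := by
    intro y
    refine (hWmem _).mpr fun j hj => ?_
    have hc : Commute P (N ^ j) := Commute.pow_right (cyc_commute N haN φ v) j
    have h1 : (N ^ j) (P y) = P ((N ^ j) y) := (LinearMap.congr_fun hc.eq y).symm
    rw [map_sub, h1, map_sub, sub_eq_zero, hP, hE, cyc_apply, map_sum, Finset.sum_eq_single (a - 1)
      (fun i hi hne => ?_) (fun h => absurd (Finset.mem_range.mpr (by omega)) h)]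
    · rw [map_smul, hφ _ (by omega), if_pos rfl, Nat.sub_self, pow_zero, smul_eq_mul, mul_one]; rfl
    · rw [map_smul, hφ _ (Finset.mem_range.mp hi), if_neg hne, smul_zero]
  let Q : U →ₗ[K] W := (LinearMap.id - P).codRestrict W hQmem
  have hQ : ∀ y, (Q y : U) = y - P y := fun y => rfl
  have hQW : ∀ w : W, Q w = w := fun w => Subtype.ext (by rw [hQ, hPW w w.2, sub_zero])
  have hQv : Q v = 0 := Subtype.ext (by rw [hQ, hP, hPv v, sub_self]; rfl)
  -- the embedding
  let L : U × Module.Dual K W × ↥(commutant NW) →ₗ[K] Module.End K U :=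
    { toFun := fun t => E φ t.1 + E (t.2.1 ∘ₗ Q) v + W.subtype ∘ₗ (t.2.2 : Module.End K W) ∘ₗ Q
      map_add' := fun s t => by
        simp only [Prod.fst_add, Prod.snd_add, Submodule.coe_add, map_add, LinearMap.add_comp,
          LinearMap.comp_add, LinearMap.add_apply]
        abel
      map_smul' := fun c t => by
        simp only [Prod.smul_fst, Prod.smul_snd, Submodule.coe_smul, map_smul, LinearMap.smul_comp,
          LinearMap.comp_smul, LinearMap.smul_apply, smul_add, RingHom.id_apply] }
  have hLC : ∀ t, L t ∈ commutant N := by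
    rintro ⟨x, ψ, S, hS⟩
    show E φ x + E (ψ ∘ₗ Q) v + W.subtype ∘ₗ S ∘ₗ Q ∈ commutant N
    refine Submodule.add_mem _ (Submodule.add_mem _ (cyc_commute N haN _ _) (cyc_commute N haN _ _)) ?_
    refine LinearMap.ext fun y => ?_
    simp only [Module.End.mul_apply, LinearMap.comp_apply, Submodule.subtype_apply]
    have h1 : Q (N y) = NW (Q y) := Subtype.ext (by
      rw [hNW, LinearMap.restrict_coe_apply, hQ, hQ, map_sub]
      congr 1
      exact LinearMap.congr_fun (cyc_commute N haN φ v) y)
    have h2 := congrArg Subtype.val (LinearMap.congr_fun (hS : S * NW = NW * S) (Q y))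
    rw [h1]
    exact h2
  have hLinj : Function.Injective L := by
    suffices h0 : ∀ t, L t = 0 → t = 0 from
      fun s t h => sub_eq_zero.mp (h0 _ (by rw [map_sub, h, sub_self]))
    rintro ⟨x, ψ, S⟩ ht
    have hy := fun y => LinearMap.congr_fun ht y
    have hx : x = 0 := by
      have h := hy v
      simp only [L, LinearMap.coe_mk, AddHom.coe_mk, LinearMap.add_apply, LinearMap.comp_apply, hQv,
        map_zero, add_zero, LinearMap.zero_apply, hPv] at h
      rwa [hE, cyc_apply, Finset.sum_eq_zero (fun i hi => ?_), add_zero] at h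
      rw [LinearMap.comp_apply]
      have hc : Commute P (N ^ (a - 1 - i)) := Commute.pow_right (cyc_commute N haN φ v) _
      have h1 : Q ((N ^ (a - 1 - i)) v) = 0 := Subtype.ext (by
        rw [hQ, ← Module.End.mul_apply P, hc.eq, Module.End.mul_apply, hP, hPv, sub_self]; rfl)
      rw [h1, map_zero, zero_smul]
    subst hx
    have hW' : ∀ w : W, E (ψ ∘ₗ Q) v w + (((S : Module.End K W) w : W) : U) = 0 := by
      intro w
      have h := hy w
      simpa [L, hQW] using h
    have hψ : ψ = 0 := by
      refine LinearMap.ext fun w => ?_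
      have h := congrArg φ (hW' w)
      rw [hE, cyc_apply, map_add, map_zero, map_sum, Finset.sum_eq_single (a - 1) (fun i hi hne => ?_)
        (fun h => absurd (Finset.mem_range.mpr (by omega)) h)] at h
      · rw [map_smul, hφ _ (by omega), if_pos rfl, Nat.sub_self, pow_zero, smul_eq_mul, mul_one,
          LinearMap.comp_apply, Module.End.one_apply, hQW] at h
        have h2 := (hWmem _).mp ((S : Module.End K W) w).2 0 (by omega)
        rw [pow_zero, Module.End.one_apply] at h2
        rwa [h2, add_zero] at h
      · rw [map_smul, hφ _ (Finset.mem_range.mp hi), if_neg hne, smul_zero]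
    subst hψ
    have hS : S = 0 := Subtype.ext (LinearMap.ext fun w => Subtype.ext (by
      have h := hW' w
      rwa [LinearMap.zero_comp, map_zero, LinearMap.zero_apply, LinearMap.zero_apply, zero_add] at h))
    rw [hS]; rfl
  have hle : finrank K U + (finrank K W + finrank K ↥(commutant NW)) ≤ finrank K ↥(commutant N) := by
    have h := LinearMap.finrank_le_finrank_of_injective (f := L.codRestrict (commutant N) hLC)
      (fun s t h => hLinj (congrArg Subtype.val h))
    letI iG : AddCommGroup ↥(commutant NW) := @Submodule.addCommGroup K (Module.End K W) _ inferInstance inferInstance (commutant NW)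
    haveI : Module.Free K ↥(commutant NW) := @Module.Free.of_divisionRing K ↥(commutant NW) _ iG _
    rwa [Module.finrank_prod, Module.finrank_prod, Subspace.dual_finrank_eq] at h
  set w := finrank K W
  have hNW' : NW ^ m = 0 := LinearMap.ext fun y => Subtype.ext (by
    rw [hNW, Module.End.pow_restrict m hWN, LinearMap.restrict_coe_apply, hNm]; rfl)
  have hih := ih w (by omega) NW m rfl hNW'
  have hmul : m * (d + (w + finrank K ↥(commutant NW))) ≤ m * finrank K ↥(commutant N) :=
    Nat.mul_le_mul_left m (hd ▸ hle)
  have e1 : d = w + a := by omega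
  rw [e1] at hmul ⊢
  nlinarith [Nat.mul_le_mul_right a ham, Nat.mul_le_mul_right w ham]

end Cfsg.Agent.Grp.NilpotentCommutant
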