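import Mathlib
import Cfsg.Agent.Lib.Grp.FreeMonomial
import Cfsg.Agent.Lib.Grp.EndAlgebra
import Cfsg.Agent.Lib.Grp.NilpotentCommutant

/-!
The Hall-Higman counting argument in the modular case: an element of `p`-power order acting freely on
`Q / Z` in characteristic `p` has a large minimal polynomial.
-/

set_option autoImplicit false
set_option linter.style.haveILetI false

namespace Cfsg.Agent.Grp.HHModular

open Module NilpotentCommutant
open scoped commutatorElement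

/-- A free monomial conjugation action has a small centralizer. -/
theorem finrank_commutant_le {K : Type*} [Field K] {U : Type*} [AddCommGroup U] [Module K U]
    [FiniteDimensional K U] {ι : Type*} [Fintype ι] [DecidableEq ι] (o : ι) (σ : Equiv.Perm ι)
    {h : ℕ} (hh : 2 ≤ h) (hσo : σ o = o) (hσh : σ ^ h = 1)
    (hfree : ∀ i, 0 < i → i < h → ∀ g, (σ ^ i) g = g → g = o)
    (b : Basis ι K (Module.End K U)) (u : Module.End K U) (hu : u ^ h = 1)
    (hconj : ∀ g, ∃ c : K, u * b g * u ^ (h - 1) = c • b (σ g)) :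
    finrank K U * finrank K U = Fintype.card ι ∧ h ∣ Fintype.card ι - 1 ∧
      h * finrank K ↥(commutant (u - 1)) ≤ h + (Fintype.card ι - 1) := by
  classical
  refine ⟨?_, ?_⟩
  · rw [← Module.finrank_eq_card_basis b, Module.finrank_linearMap]
  choose c hc using hconj
  let Y := {g : ι // g ≠ o}
  have hpres : ∀ (f : Subgroup.zpowers σ) (g : ι), g ≠ o → (f : Equiv.Perm ι) g ≠ o := by
    intro f g hg e
    obtain ⟨i, hi⟩ := Subgroup.mem_zpowers_iff.mp f.2
    apply hg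
    apply (f : Equiv.Perm ι).injective
    rw [e, ← hi]
    exact (Function.IsFixedPt.perm_zpow hσo i).symm
  letI : MulAction (Subgroup.zpowers σ) Y :=
    { smul := fun f g => ⟨(f : Equiv.Perm ι) g.1, hpres f g.1 g.2⟩
      one_smul := fun g => rfl
      mul_smul := fun f f' g => rfl }
  have hmod : ∀ f : Subgroup.zpowers σ, ∃ i < h, (f : Equiv.Perm ι) = σ ^ i := by
    intro f
    obtain ⟨i, hi⟩ := (isOfFinOrder_iff_pow_eq_one.mpr ⟨h, by omega, hσh⟩).mem_powers_iff_mem_zpowers.mpr f.2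
    exact ⟨i % h, Nat.mod_lt _ (by omega), by rw [← pow_eq_pow_mod i hσh]; exact hi.symm⟩
  have hstab : ∀ g : Y, MulAction.stabilizer (Subgroup.zpowers σ) g = ⊥ := by
    intro g
    rw [eq_bot_iff]
    intro f hf
    obtain ⟨i, hi, he⟩ := hmod f
    rcases Nat.eq_zero_or_pos i with rfl | hi0
    · exact Subgroup.mem_bot.mpr (Subtype.ext (by rw [he, pow_zero]; rfl))
    · exact absurd (hfree i hi0 hi g.1 (by rw [← he]; exact congrArg Subtype.val hf)) g.2
  let O := Quotient (MulAction.orbitRel (Subgroup.zpowers σ) Y)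
  have hYcard : Nat.card Y = Fintype.card ι - 1 := by
    rw [Nat.card_eq_fintype_card, Fintype.card_subtype_compl, Fintype.card_subtype_eq]
  have hYO : Nat.card Y = Nat.card O * orderOf σ := by
    rw [Nat.card_congr (MulAction.selfEquivOrbitsQuotientProd hstab), Nat.card_prod, Nat.card_zpowers]
  have hord : Nat.card Y = Nat.card O * h := by
    rcases Nat.eq_zero_or_pos (Nat.card Y) with hY0 | hY0
    · rw [hY0] at hYO ⊢
      rcases Nat.mul_eq_zero.mp hYO.symm with e | e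
      · rw [e, zero_mul]
      · exact absurd e (isOfFinOrder_iff_pow_eq_one.mpr ⟨h, by omega, hσh⟩).orderOf_pos.ne'
    · haveI : Nonempty Y := (Nat.card_pos_iff.mp hY0).1
      obtain ⟨g⟩ := (inferInstance : Nonempty Y)
      rw [hYO]
      congr 1
      refine Nat.le_antisymm (orderOf_le_of_pow_eq_one (by omega) hσh) (not_lt.mp fun hlt => g.2 ?_)
      exact hfree _ (isOfFinOrder_iff_pow_eq_one.mpr ⟨h, by omega, hσh⟩).orderOf_pos hlt g.1
        (by rw [pow_orderOf_eq_one]; rfl)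
  refine ⟨⟨Nat.card O, by rw [← hYcard, hord, mul_comm]⟩, ?_⟩
  -- coefficients of an element commuting with `u`
  haveI : Fintype O := Fintype.ofFinite O
  let L : ↥(commutant (u - 1)) →ₗ[K] K × (O → K) :=
    (LinearMap.prod (b.coord o) (LinearMap.pi fun q : O => b.coord q.out.1)).comp (Submodule.subtype _)
  have hstep : ∀ S ∈ commutant (u - 1), ∀ g, b.repr S (σ g) = c g * b.repr S g := by
    intro S hS g
    have hS' : S * u = u * S := by
      have h1 := mem_commutant.mp hS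
      rw [mul_sub, sub_mul, mul_one, one_mul] at h1
      exact sub_left_inj.mp h1
    have h2 : u * S * u ^ (h - 1) = S := by
      rw [← hS', mul_assoc, ← pow_succ', show h - 1 + 1 = h by omega, hu, mul_one]
    conv_lhs => rw [← h2, ← b.sum_repr S]
    simp only [Finset.mul_sum, Finset.sum_mul, mul_smul_comm, smul_mul_assoc, hc, smul_smul, map_sum,
      map_smul, Basis.repr_self, Finsupp.finsetSum_apply, Finsupp.smul_apply, Finsupp.single_apply,
      smul_eq_mul, mul_ite, mul_one, mul_zero]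
    rw [Finset.sum_eq_single g (fun i _ hi => if_neg fun e => hi (σ.injective e))
      (fun h => absurd (Finset.mem_univ _) h), if_pos rfl, mul_comm]
  have hL : Function.Injective L := by
    suffices h0 : ∀ S, L S = 0 → S = 0 from fun s t e => sub_eq_zero.mp (h0 _ (by rw [map_sub, e, sub_self]))
    rintro ⟨S, hS⟩ h0
    refine Subtype.ext (b.ext_elem fun g => ?_)
    show b.repr S g = b.repr (0 : Module.End K U) g
    rw [map_zero, Finsupp.zero_apply]
    have ho : b.repr S o = 0 := congrArg Prod.fst h0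
    by_cases hg : g = o
    · rw [hg]; exact ho
    set q : O := Quotient.mk _ (⟨g, hg⟩ : Y) with hq
    have h1 : b.repr S q.out.1 = 0 := congrFun (congrArg Prod.snd h0) q
    obtain ⟨f, hf⟩ : (⟨g, hg⟩ : Y) ∈ MulAction.orbit (Subgroup.zpowers σ) q.out :=
      MulAction.orbitRel_apply.mp (Quotient.exact (q.out_eq.trans hq).symm)
    obtain ⟨i, -, he⟩ := hmod f
    have hgi : g = (σ ^ i) q.out.1 := by rw [← he]; exact (congrArg Subtype.val hf).symm
    rw [hgi]
    clear hgi he hf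
    induction i with
    | zero => simpa using h1
    | succ i ih => rw [pow_succ', Equiv.Perm.mul_apply, hstep S hS, ih, mul_zero]
  have h1 := LinearMap.finrank_le_finrank_of_injective hL
  rw [Module.finrank_prod, Module.finrank_self, Module.finrank_pi, ← Nat.card_eq_fintype_card] at h1
  calc h * finrank K ↥(commutant (u - 1)) ≤ h * (1 + Nat.card O) := Nat.mul_le_mul_left h h1
    _ = _ := by rw [← hYcard, hord]; ring

/-- The Hall-Higman counting theorem in characteristic `p`. -/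
theorem hallHigman_modular {K : Type*} [Field K] [IsAlgClosed K] {V : Type*} [AddCommGroup V] [Module K V]
    [FiniteDimensional K V] [Nontrivial V] {Γ : Type*} [Group Γ] [Finite Γ] (ρ : Γ →* Module.End K V)
    (Q Z : Subgroup Γ) (x : Γ) {h : ℕ} (hh : 2 ≤ h) (hxh : x ^ h = 1)
    (hxQ : x ∈ Subgroup.normalizer (Q : Set Γ)) (hxZ : x ∈ Subgroup.normalizer (Z : Set Γ))
    (hcomm : ∀ g ∈ Q, ∀ t ∈ Q, ⁅t, g⁆ ∈ Z) (ω : Γ → K)
    (hω : ∀ z ∈ Z, ρ z = ω z • 1) (hωx : ∀ z ∈ Z, ω (x * z * x⁻¹) = ω z)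
    (hnondeg : ∀ g ∈ Q, g ∉ Z → ∃ t ∈ Q, ω ⁅t, g⁆ ≠ 1) (hZQ : Z ≤ Q)
    (hfree : ∀ i, 0 < i → i < h → ∀ g ∈ Q, g⁻¹ * (x ^ i * g * (x ^ i)⁻¹) ∈ Z → g ∈ Z)
    {s : ℕ} (hs : (ρ x - 1) ^ s = 0) :
    ∃ d : ℕ, d * d = Z.relIndex Q ∧ h ∣ d * d - 1 ∧ d * d * h ≤ s * (h + (d * d - 1)) := by
  classical
  haveI : NeZero h := ⟨by omega⟩
  -- an irreducible `Q`-submodule
  obtain ⟨U, ⟨hU0, hUinv⟩, hUmin⟩ : ∃ U : Submodule K V, (U ≠ ⊥ ∧ ∀ g ∈ Q, ∀ v ∈ U, ρ g v ∈ U) ∧
      ∀ W : Submodule K V, W < U → ¬ (W ≠ ⊥ ∧ ∀ g ∈ Q, ∀ v ∈ W, ρ g v ∈ W) := by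
    obtain ⟨U, hU, hmin⟩ := (IsWellFounded.wf : WellFounded ((· < ·) : Submodule K V → Submodule K V → Prop)).has_min
      {W : Submodule K V | W ≠ ⊥ ∧ ∀ g ∈ Q, ∀ v ∈ W, ρ g v ∈ W} ⟨⊤, top_ne_bot, fun _ _ _ _ => trivial⟩
    exact ⟨U, hU, fun W hW h' => hmin W h' hW⟩
  haveI : Nontrivial U := Submodule.nontrivial_iff_ne_bot.mpr hU0
  let ρU : ↥Q →* Module.End K U :=
    { toFun := fun q => (ρ (q : Γ)).restrict (fun v hv => hUinv q q.2 v hv)
      map_one' := LinearMap.ext fun v => Subtype.ext (by simp [LinearMap.restrict_apply])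
      map_mul' := fun a b => LinearMap.ext fun v => Subtype.ext (by simp [LinearMap.restrict_apply]) }
  have hρU : ∀ (q : ↥Q) (v : U), ((ρU q v : U) : V) = ρ (q : Γ) v := fun q v => rfl
  have hirr : ∀ S : Submodule K U, (∀ q, ∀ v ∈ S, ρU q v ∈ S) → S = ⊥ ∨ S = ⊤ := by
    intro S hS
    by_cases hS0 : S = ⊥
    · exact Or.inl hS0
    right
    by_contra hS1
    refine hUmin (S.map U.subtype) ?_ ⟨fun e => hS0 ?_, ?_⟩
    · refine lt_of_le_of_ne (Submodule.map_subtype_le U S) fun e => hS1 ?_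
      refine Submodule.map_injective_of_injective U.injective_subtype ?_
      rw [e, Submodule.map_top, Submodule.range_subtype]
    · refine Submodule.map_injective_of_injective U.injective_subtype ?_
      rw [e, Submodule.map_bot]
    · rintro g hg _ ⟨v, hv, rfl⟩
      exact ⟨ρU ⟨g, hg⟩ v, hS _ v hv, rfl⟩
  set Z' := Z.subgroupOf Q with hZ'
  have hZ'n : Z'.Normal := ⟨fun z hz t => by
    have h1 : ((t * z * t⁻¹ : ↥Q) : Γ) = ⁅(t : Γ), (z : Γ)⁆ * z := by
      simp only [Subgroup.coe_mul, Subgroup.coe_inv, commutatorElement_def]; group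
    show ((t * z * t⁻¹ : ↥Q) : Γ) ∈ Z
    rw [h1]
    exact Z.mul_mem (hcomm _ z.2 _ t.2) hz⟩
  have hUz : ∀ z : ↥Q, z ∈ Z' → ρU z = ω (z : Γ) • 1 := fun z hz => LinearMap.ext fun v => Subtype.ext (by
    rw [hρU, hω _ (show (z : Γ) ∈ Z from hz)]; rfl)
  have hinv : ∀ q : ↥Q, ρU q⁻¹ * ρU q = 1 := fun q => by rw [← map_mul, inv_mul_cancel, map_one]
  have hne0 : ∀ q : ↥Q, ρU q ≠ 0 := fun q e => by
    have := hinv q
    rw [e, mul_zero] at this
    exact zero_ne_one this
  have huniq : ∀ c c' : K, c • (1 : Module.End K U) = c' • 1 → c = c' := fun c c' e => by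
    obtain ⟨v, hv⟩ := exists_ne (0 : U)
    exact smul_left_injective K hv (by simpa using LinearMap.congr_fun e v)
  -- representatives
  let r : ↥Q ⧸ Z' → ↥Q := fun g => if g = 1 then 1 else g.out
  have hr : ∀ g : ↥Q ⧸ Z', ((r g : ↥Q) : ↥Q ⧸ Z') = g := fun g => by
    by_cases hg : g = 1 <;> simp [r, hg]
  have hdec : ∀ q : ↥Q, ∃ z ∈ Z', q = r (q : ↥Q ⧸ Z') * z := fun q =>
    ⟨(r (q : ↥Q ⧸ Z'))⁻¹ * q, QuotientGroup.eq.mp (hr _), (mul_inv_cancel_left _ _).symm⟩
  haveI : Fintype (↥Q ⧸ Z') := Fintype.ofFinite _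
  set B : ↥Q ⧸ Z' → Module.End K U := fun g => ρU (r g) with hB
  have hqB : ∀ q : ↥Q, ∃ c : K, ρU q = c • B (q : ↥Q ⧸ Z') := fun q => by
    obtain ⟨z, hz, e⟩ := hdec q
    refine ⟨ω (z : Γ), ?_⟩
    conv_lhs => rw [e]
    rw [map_mul, hUz z hz, mul_smul_comm, mul_one]
  have hspan : ⊤ ≤ Submodule.span K (Set.range B) := by
    rw [← span_eq_top_of_irreducible ρU hirr, Submodule.span_le]
    rintro _ ⟨q, rfl⟩
    obtain ⟨c, hc⟩ := hqB q
    rw [hc]
    exact Submodule.smul_mem _ _ (Submodule.subset_span ⟨_, rfl⟩)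
  have hli : LinearIndependent K B := by
    rw [linearIndependent_iff']
    intro s
    induction hs : s.card using Nat.strong_induction_on generalizing s with
    | _ n ih =>
    intro a hsum g₁ hg₁
    by_cases hone : ∀ g ∈ s, g = g₁
    · rw [Finset.sum_eq_single_of_mem g₁ hg₁ (fun g hg hne => absurd (hone g hg) hne)] at hsum
      exact (smul_eq_zero.mp hsum).resolve_right (hne0 _)
    push Not at hone
    obtain ⟨g₂, hg₂, hne⟩ := hone
    set e : ↥Q := (r g₂)⁻¹ * r g₁ with he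
    have heZ : e ∉ Z' := fun h1 => hne (by rw [← hr g₁, ← hr g₂]; exact QuotientGroup.eq.mpr h1)
    obtain ⟨t, ht, hte⟩ := hnondeg (e : Γ) e.2 heZ
    set c : ↥Q ⧸ Z' → K := fun g => ω ⁅t, ((r g : ↥Q) : Γ)⁆ with hc
    have hcj : ∀ g, ρU ⟨t, ht⟩ * B g * ρU (⟨t, ht⟩ : ↥Q)⁻¹ = c g • B g := by
      intro g
      have h1 : ⁅(⟨t, ht⟩ : ↥Q), r g⁆ ∈ Z' := hcomm _ (r g).2 _ ht
      calc ρU ⟨t, ht⟩ * B g * ρU (⟨t, ht⟩ : ↥Q)⁻¹ = ρU (⁅(⟨t, ht⟩ : ↥Q), r g⁆ * r g) := by
            rw [hB, ← map_mul, ← map_mul]; congr 1; rw [commutatorElement_def]; group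
        _ = c g • B g := by rw [map_mul, hUz _ h1, smul_mul_assoc, one_mul]; rfl
    have hc12 : c g₁ ≠ c g₂ := by
      intro heq
      have hel : ∀ w : ↥Q, ρU ⁅(⟨t, ht⟩ : ↥Q), w⁆ = ω ⁅t, (w : Γ)⁆ • 1 := fun w => hUz _ (hcomm _ w.2 _ ht)
      have h1 : ρU ⁅(⟨t, ht⟩ : ↥Q), r g₁⁆ = ρU ⁅(⟨t, ht⟩ : ↥Q), r g₂⁆ * (ρU (r g₂) * ρU ⁅(⟨t, ht⟩ : ↥Q), e⁆ * ρU (r g₂)⁻¹) := by
        rw [← map_mul, ← map_mul, ← map_mul, he]; congr 1; simp only [commutatorElement_def]; group
      rw [hel, hel, hel] at h1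
      simp only [smul_mul_assoc, mul_smul_comm, one_mul, mul_one, smul_smul] at h1
      rw [← map_mul, mul_inv_cancel, map_one] at h1
      have h2 : c g₁ = ω ⁅t, (e : Γ)⁆ * c g₂ := huniq _ _ h1
      have hc0 : c g₂ ≠ 0 := fun e0 => hne0 ⁅(⟨t, ht⟩ : ↥Q), r g₂⁆ (by
        rw [hel, show ω ⁅t, ((r g₂ : ↥Q) : Γ)⁆ = 0 from e0, zero_smul])
      rw [heq] at h2
      exact hte (mul_right_cancel₀ hc0 (by rw [one_mul]; exact h2.symm))
    have hnew : ∑ g ∈ s.erase g₂, (a g * (c g - c g₂)) • B g = 0 := by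
      rw [Finset.sum_erase _ (by rw [sub_self, mul_zero, zero_smul])]
      have h1 : ∑ g ∈ s, (a g * c g) • B g = 0 := by
        have h2 := congrArg (fun T => ρU ⟨t, ht⟩ * T * ρU (⟨t, ht⟩ : ↥Q)⁻¹) hsum
        simp only [Finset.mul_sum, Finset.sum_mul, mul_smul_comm, smul_mul_assoc, hcj, mul_zero, zero_mul,
          smul_smul] at h2
        exact h2
      calc ∑ g ∈ s, (a g * (c g - c g₂)) • B g
          = ∑ g ∈ s, ((a g * c g) • B g + (-c g₂) • (a g • B g)) := Finset.sum_congr rfl fun g _ => by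
            rw [smul_smul]
            refine Eq.trans ?_ (add_smul _ _ _)
            congr 1
            ring
        _ = (∑ g ∈ s, (a g * c g) • B g) + (-c g₂) • ∑ g ∈ s, a g • B g := by
            rw [Finset.sum_add_distrib, Finset.smul_sum]
        _ = 0 := by rw [h1, hsum, smul_zero, add_zero]
    have h3 := ih (s.erase g₂).card (hs ▸ Finset.card_erase_lt_of_mem hg₂) (s.erase g₂) rfl _ hnew g₁
      (Finset.mem_erase.mpr ⟨Ne.symm hne, hg₁⟩)
    exact (mul_eq_zero.mp h3).resolve_right (sub_ne_zero.mpr hc12)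
  let b := Basis.mk hli hspan
  have hb : ∀ g, b g = B g := fun g => Basis.mk_apply hli hspan g
  have hbo : b 1 = 1 := by rw [hb, hB]; simp [r]
  -- extending to algebra maps
  have hext : ∀ {W : Type _} [AddCommGroup W] [Module K W] (η : ↥Q →* Module.End K W),
      (∀ z ∈ Z', η z = ω (z : Γ) • 1) →
      ∃ ψ : Module.End K U →ₐ[K] Module.End K W, ∀ q, ψ (ρU q) = η q := by
    intro W _ _ η hη
    let ψ := b.constr K (fun g => η (r g))
    have hψ : ∀ q, ψ (ρU q) = η q := by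
      intro q
      obtain ⟨z, hz, e⟩ := hdec q
      conv_lhs => rw [e, map_mul, hUz z hz, mul_smul_comm, mul_one, map_smul]
      conv_rhs => rw [e, map_mul, hη z hz, mul_smul_comm, mul_one]
      congr 1
      show ψ (B _) = _
      rw [← hb, Basis.constr_basis]
    refine ⟨AlgHom.ofLinearMap ψ (by rw [← map_one ρU, hψ, map_one]) ?_, hψ⟩
    intro S T
    induction (b.span_eq ▸ Submodule.mem_top : S ∈ Submodule.span K (Set.range b)) using Submodule.span_induction with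
    | mem S hS =>
      obtain ⟨g, rfl⟩ := hS
      induction (b.span_eq ▸ Submodule.mem_top : T ∈ Submodule.span K (Set.range b)) using Submodule.span_induction with
      | mem T hT =>
        obtain ⟨k, rfl⟩ := hT
        rw [hb, hb, hB, ← map_mul, hψ, hψ, hψ, map_mul]
      | zero => simp
      | add _ _ _ _ h1 h2 => simp only [mul_add, map_add, h1, h2]
      | smul c _ _ h1 => simp only [mul_smul_comm, map_smul, h1]
    | zero => simp
    | add _ _ _ _ h1 h2 => simp only [add_mul, map_add, h1, h2]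
    | smul c _ _ h1 => simp only [smul_mul_assoc, map_smul, h1]
  -- twisting by `x`
  let tw : ↥Q →* ↥Q :=
    { toFun := fun q => ⟨x * q * x⁻¹, (Subgroup.mem_normalizer_iff.mp hxQ q).mp q.2⟩
      map_one' := Subtype.ext (by simp)
      map_mul' := fun a b => Subtype.ext (by simp [mul_assoc]) }
  have htwZ : ∀ z ∈ Z', tw z ∈ Z' := fun z hz => (Subgroup.mem_normalizer_iff.mp hxZ _).mp hz
  obtain ⟨ψ, hψ⟩ := hext (ρU.comp tw) (fun z hz => by
    rw [MonoidHom.comp_apply, hUz _ (htwZ z hz), show ((tw z : ↥Q) : Γ) = x * z * x⁻¹ from rfl, hωx _ (show (z : Γ) ∈ Z from hz)])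
  obtain ⟨φ₀, hφ₀, hφψ⟩ := exists_intertwine ψ
  set u₀ : Module.End K U := φ₀ with hu₀
  have hu₀q : ∀ q, u₀ * ρU q = ρU (tw q) * u₀ := fun q => LinearMap.ext fun y => by
    show φ₀ (ρU q y) = ρU (tw q) (φ₀ y)
    rw [hφψ, hψ]; rfl
  have hu₀pow : ∀ (n : ℕ) q, u₀ ^ n * ρU q = ρU (tw^[n] q) * u₀ ^ n := by
    intro n
    induction n with
    | zero => intro q; simp
    | succ n ih =>
      intro q
      rw [pow_succ', mul_assoc, ih, ← mul_assoc, hu₀q, mul_assoc, Function.iterate_succ_apply']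
  have htwn : ∀ (n : ℕ) (q : ↥Q), ((tw^[n] q : ↥Q) : Γ) = x ^ n * q * (x ^ n)⁻¹ := by
    intro n
    induction n with
    | zero => intro q; simp
    | succ n ih =>
      intro q
      rw [Function.iterate_succ_apply']
      show x * ((tw^[n] q : ↥Q) : Γ) * x⁻¹ = _
      rw [ih, pow_succ']; group
  have htwh : ∀ q, tw^[h] q = q := fun q => Subtype.ext (by rw [htwn, hxh]; simp)
  obtain ⟨c, hc⟩ : ∃ c : K, u₀ ^ h = c • 1 := by
    obtain ⟨c, hc⟩ := Module.End.exists_eigenvalue (u₀ ^ h)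
    refine ⟨c, LinearMap.ext fun v => ?_⟩
    have htop : Module.End.eigenspace (u₀ ^ h) c = ⊤ := by
      refine (hirr _ fun q w hw => ?_).resolve_left hc
      rw [Module.End.mem_eigenspace_iff] at hw ⊢
      have := LinearMap.congr_fun (hu₀pow h q) w
      rw [htwh, Module.End.mul_apply, Module.End.mul_apply, hw, map_smul] at this
      exact this
    exact Module.End.mem_eigenspace_iff.mp (htop ▸ Submodule.mem_top : v ∈ Module.End.eigenspace (u₀ ^ h) c)
  have hc0 : c ≠ 0 := by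
    rintro rfl
    rw [zero_smul] at hc
    have hinj : Function.Injective (u₀ ^ h : Module.End K U) := by rw [Module.End.coe_pow]; exact hφ₀.iterate h
    obtain ⟨y, hy⟩ := exists_ne (0 : U)
    exact hy (hinj (by rw [hc]; simp))
  obtain ⟨ν, hν⟩ := IsAlgClosed.exists_pow_nat_eq c⁻¹ (show 0 < h by omega)
  set u₁ : Module.End K U := ν • u₀ with hu₁
  have hu₁h : u₁ ^ h = 1 := by rw [hu₁, smul_pow, hν, hc, smul_smul, inv_mul_cancel₀ hc0, one_smul]
  have hu₁q : ∀ q, u₁ * ρU q = ρU (tw q) * u₁ := fun q => by rw [hu₁, smul_mul_assoc, mul_smul_comm, hu₀q]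
  have hu₁inv : u₁ * u₁ ^ (h - 1) = 1 := by rw [← pow_succ', show h - 1 + 1 = h by omega, hu₁h]
  have hu₁inv' : u₁ ^ (h - 1) * u₁ = 1 := by rw [← pow_succ, show h - 1 + 1 = h by omega, hu₁h]
  have hu₁q' : ∀ q, u₁ ^ (h - 1) * ρU (tw q) = ρU q * u₁ ^ (h - 1) := fun q => by
    calc u₁ ^ (h - 1) * ρU (tw q) = u₁ ^ (h - 1) * (ρU (tw q) * (u₁ * u₁ ^ (h - 1))) := by rw [hu₁inv, mul_one]
      _ = u₁ ^ (h - 1) * (u₁ * ρU q) * u₁ ^ (h - 1) := by rw [hu₁q]; simp only [mul_assoc]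
      _ = _ := by rw [← mul_assoc, hu₁inv', one_mul]
  -- an embedding into `V` on which `x` is a multiple of `u₁`
  obtain ⟨π, hπ⟩ := hext (ρ.comp Q.subtype) (fun z hz => hω _ hz)
  obtain ⟨φ₁, hφ₁, hφπ⟩ := exists_intertwine π
  let H : Submodule K (U →ₗ[K] V) :=
    { carrier := {φ | ∀ (q : ↥Q) y, φ (ρU q y) = ρ (q : Γ) (φ y)}
      add_mem' := fun {f g} hf hg q y => by simp only [LinearMap.add_apply, hf q y, hg q y, map_add]
      zero_mem' := fun q y => by simp
      smul_mem' := fun a f hf q y => by simp only [LinearMap.smul_apply, hf q y, map_smul] }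
  have hφ₁H : φ₁ ∈ H := fun q y => by rw [hφπ, hπ]; rfl
  let Φ : Module.End K H :=
    { toFun := fun f => ⟨ρ x ∘ₗ f.1 ∘ₗ (u₁ ^ (h - 1)), fun q y => by
        simp only [LinearMap.comp_apply]
        obtain ⟨q', rfl⟩ : ∃ q', tw q' = q := ⟨⟨x⁻¹ * q * x, by
          have := (Subgroup.mem_normalizer_iff.mp (inv_mem hxQ) q).mp q.2
          simpa using this⟩, Subtype.ext (by show x * (x⁻¹ * q * x) * x⁻¹ = q; group)⟩
        have h1 := LinearMap.congr_fun (hu₁q' q') y
        rw [Module.End.mul_apply, Module.End.mul_apply] at h1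
        rw [h1, f.2 q', ← Module.End.mul_apply, ← Module.End.mul_apply (ρ ((tw q' : ↥Q) : Γ)), ← map_mul, ← map_mul]
        congr 2
        show x * (q' : Γ) = x * q' * x⁻¹ * x
        group⟩
      map_add' := fun f g => Subtype.ext (LinearMap.ext fun y => by simp)
      map_smul' := fun a f => Subtype.ext (LinearMap.ext fun y => by simp) }
  haveI : Nontrivial H := ⟨⟨⟨φ₁, hφ₁H⟩, 0, fun e => by
    obtain ⟨y, hy⟩ := exists_ne (0 : U)
    exact hy (hφ₁ (by rw [show φ₁ = 0 from congrArg Subtype.val e]; simp))⟩⟩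
  obtain ⟨μ, hμ⟩ := Module.End.exists_eigenvalue Φ
  obtain ⟨f, hf, hf0⟩ := hμ.exists_hasEigenvector
  have hfinj : Function.Injective (f : U →ₗ[K] V) := by
    rw [← LinearMap.ker_eq_bot]
    refine (hirr _ fun q y hy => ?_).resolve_right fun e => hf0 (Subtype.ext (LinearMap.ker_eq_top.mp e))
    rw [LinearMap.mem_ker] at hy ⊢
    rw [f.2 q y, hy, map_zero]
  have hfx : ∀ y, ρ x ((f : U →ₗ[K] V) y) = μ • (f : U →ₗ[K] V) (u₁ y) := by
    intro y
    have h1 : ρ x ((f : U →ₗ[K] V) ((u₁ ^ (h - 1)) (u₁ y))) = μ • (f : U →ₗ[K] V) (u₁ y) :=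
      LinearMap.congr_fun (congrArg Subtype.val (Module.End.mem_eigenspace_iff.mp hf)) (u₁ y)
    rwa [← Module.End.mul_apply, hu₁inv', Module.End.one_apply] at h1
  set u : Module.End K U := μ • u₁ with hu
  have hfu : ∀ (n : ℕ) y, (ρ x ^ n) ((f : U →ₗ[K] V) y) = (f : U →ₗ[K] V) ((u ^ n) y) := by
    intro n
    induction n with
    | zero => intro y; rfl
    | succ n ih =>
      intro y
      rw [pow_succ, Module.End.mul_apply, hfx, ← map_smul, pow_succ, Module.End.mul_apply]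
      exact ih _
  have huh : u ^ h = 1 := LinearMap.ext fun y => hfinj (by rw [← hfu, ← map_pow, hxh, map_one]; rfl)
  have hμ0 : μ ≠ 0 := by
    rintro rfl
    rw [hu, zero_smul, zero_pow (by omega)] at huh
    exact zero_ne_one huh
  have huq : ∀ q, u * ρU q * u ^ (h - 1) = ρU (tw q) := fun q => by
    rw [show u * ρU q = ρU (tw q) * u by rw [hu, smul_mul_assoc, mul_smul_comm, hu₁q], mul_assoc,
      ← pow_succ', show h - 1 + 1 = h by omega, huh, mul_one]
  -- the permutation of the cosets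
  let σ₀ : ↥Q ⧸ Z' →* ↥Q ⧸ Z' := QuotientGroup.map Z' Z' tw (fun z hz => by
    show tw z ∈ Z'
    exact htwZ z hz)
  have hσn : ∀ (n : ℕ) (q : ↥Q), σ₀^[n] (q : ↥Q ⧸ Z') = ((tw^[n] q : ↥Q) : ↥Q ⧸ Z') := by
    intro n
    induction n with
    | zero => intro q; rfl
    | succ n ih => intro q; rw [Function.iterate_succ_apply', Function.iterate_succ_apply', ih]; rfl
  have hσh : ∀ g, σ₀^[h] g = g := fun g => by
    obtain ⟨q, rfl⟩ := QuotientGroup.mk_surjective g
    rw [hσn, htwh]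
  let σ : Equiv.Perm (↥Q ⧸ Z') :=
    { toFun := σ₀
      invFun := σ₀^[h - 1]
      left_inv := fun g => by rw [← Function.iterate_succ_apply, show (h - 1).succ = h by omega, hσh]
      right_inv := fun g => by rw [← Function.iterate_succ_apply' σ₀, show (h - 1).succ = h by omega, hσh] }
  have hσpow : ∀ (n : ℕ) g, (σ ^ n) g = σ₀^[n] g := fun n g => by rw [Equiv.Perm.coe_pow]; rfl
  obtain ⟨h1, h2, h3⟩ := finrank_commutant_le (1 : ↥Q ⧸ Z') σ hh (map_one σ₀)
    (Equiv.ext fun g => by rw [hσpow, hσh]; rfl)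
    (fun i hi hih g hg => by
      obtain ⟨q, rfl⟩ := QuotientGroup.mk_surjective g
      rw [hσpow, hσn, eq_comm, QuotientGroup.eq] at hg
      refine (QuotientGroup.eq_one_iff q).mpr (hfree i hi hih q q.2 ?_)
      have h4 : ((q⁻¹ * tw^[i] q : ↥Q) : Γ) ∈ Z := hg
      rwa [Subgroup.coe_mul, Subgroup.coe_inv, htwn] at h4)
    b u huh
    (fun g => by
      obtain ⟨c', hc'⟩ := hqB (tw (r g))
      refine ⟨c', ?_⟩
      rw [hb, hb, hB, huq, hc']
      congr 2
      conv_rhs => rw [← hr g]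
      rfl)
  have hfN : ∀ (n : ℕ) y, ((ρ x - 1) ^ n) ((f : U →ₗ[K] V) y) = (f : U →ₗ[K] V) (((u - 1) ^ n) y) := by
    intro n
    induction n with
    | zero => intro y; rfl
    | succ n ih =>
      intro y
      rw [pow_succ, Module.End.mul_apply, pow_succ, Module.End.mul_apply, ← ih]
      congr 1
      have e := hfu 1 y
      rw [pow_one, pow_one] at e
      rw [LinearMap.sub_apply, LinearMap.sub_apply, Module.End.one_apply, Module.End.one_apply, e, map_sub]
  have hN : (u - 1) ^ s = 0 := LinearMap.ext fun y => hfinj (by rw [← hfN, hs]; simp)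
  have h4 := sq_le_mul_finrank (finrank K U) (u - 1) s rfl hN
  refine ⟨finrank K U, ?_, h1 ▸ h2, ?_⟩
  · rw [h1, ← Nat.card_eq_fintype_card]; rfl
  · rw [h1]
    calc Fintype.card (↥Q ⧸ Z') * h ≤ s * finrank K ↥(commutant (u - 1)) * h := Nat.mul_le_mul_right h (h1 ▸ h4)
      _ = s * (h * finrank K ↥(commutant (u - 1))) := by ring
      _ ≤ _ := Nat.mul_le_mul_left s h3

end Cfsg.Agent.Grp.HHModular
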