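import Mathlib
import Cfsg.Agent.Lib.Grp.HHModular
import Cfsg.Agent.S3784

/-!
An element of `p`-power order on a module in characteristic `p` whose norm vanishes: it acts on the
symplectic sections of a normalized `p'`-group trivially or exceptionally.
-/

set_option autoImplicit false
set_option linter.style.haveILetI false
set_option linter.unusedSectionVars false

namespace Cfsg.Agent.Grp.HHExc

open Module
open scoped commutatorElement

variable {K : Type*} [Field K] {V : Type*} [AddCommGroup V] [Module K V]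
  {Γ : Type*} [Group Γ] [Finite Γ] (ρ : Γ →* Module.End K V)

/-- The joint eigenspace of `R` for `ω`. -/
def chEigen (R : Subgroup Γ) (ω : Γ → K) : Submodule K V :=
  ⨅ r : R, Module.End.eigenspace (ρ r) (ω r)

theorem mem_chEigen {R : Subgroup Γ} {ω : Γ → K} {v : V} :
    v ∈ chEigen ρ R ω ↔ ∀ r ∈ R, ρ r v = ω r • v := by
  simp [chEigen]

theorem coe_inv_apply (g : Γ) (v : V) : ρ g⁻¹ (ρ g v) = v := by
  rw [← Module.End.mul_apply, ← map_mul, inv_mul_cancel, map_one, Module.End.one_apply]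

theorem coe_apply_inv (g : Γ) (v : V) : ρ g (ρ g⁻¹ v) = v := by
  rw [← Module.End.mul_apply, ← map_mul, mul_inv_cancel, map_one, Module.End.one_apply]

/-- Characters of occurring eigenspaces are multiplicative. -/
theorem ch_mul {R : Subgroup Γ} {ω : Γ → K} (h : chEigen ρ R ω ≠ ⊥) :
    ω 1 = 1 ∧ ∀ a ∈ R, ∀ b ∈ R, ω (a * b) = ω a * ω b := by
  obtain ⟨v, hv, hv0⟩ := (Submodule.ne_bot_iff _).mp h
  rw [mem_chEigen] at hv
  refine ⟨?_, fun a ha b hb => ?_⟩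
  · have e := hv 1 R.one_mem
    rw [map_one, Module.End.one_apply] at e
    exact smul_left_injective K hv0 (show ω 1 • v = (1 : K) • v by rw [← e, one_smul])
  · have e := hv _ (R.mul_mem ha hb)
    rw [map_mul, Module.End.mul_apply, hv b hb, map_smul, hv a ha, smul_smul] at e
    rw [mul_comm (ω a)]
    exact (smul_left_injective K hv0 e).symm

theorem ch_inv {R : Subgroup Γ} {ω : Γ → K} (h : chEigen ρ R ω ≠ ⊥) {a : Γ} (ha : a ∈ R) :
    ω a * ω a⁻¹ = 1 := by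
  rw [← (ch_mul ρ h).2 a ha _ (R.inv_mem ha), mul_inv_cancel, (ch_mul ρ h).1]

/-- Translation of an eigenspace by a normalizing element. -/
theorem apply_mem_chEigen {R : Subgroup Γ} {ω ω' : Γ → K} {g : Γ}
    (hg : g ∈ Subgroup.normalizer (R : Set Γ)) (h : ∀ r ∈ R, ω' (g * r * g⁻¹) = ω r) {v : V}
    (hv : v ∈ chEigen ρ R ω) : ρ g v ∈ chEigen ρ R ω' := by
  rw [mem_chEigen] at hv ⊢
  intro r hr
  have hr' : g⁻¹ * r * g ∈ R := by
    have := (Subgroup.mem_normalizer_iff.mp (Subgroup.inv_mem _ hg) r).mp hr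
    rwa [inv_inv] at this
  have e := h _ hr'
  rw [show g * (g⁻¹ * r * g) * g⁻¹ = r by group] at e
  rw [← Module.End.mul_apply, ← map_mul, show r * g = g * (g⁻¹ * r * g) by group, map_mul,
    Module.End.mul_apply, hv _ hr', map_smul, e]

/-- Commuting operators of order prime to the characteristic are diagonalizable together. -/
theorem iSup_chEigen_eq_top [IsAlgClosed K] [FiniteDimensional K V] (R : Subgroup Γ)
    (hcomm : ∀ a ∈ R, ∀ b ∈ R, ρ a * ρ b = ρ b * ρ a) (hchar : (Nat.card R : K) ≠ 0) :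
    ⨆ χ : Γ → K, chEigen ρ R χ = ⊤ := by
  classical
  have hss : ∀ r : R, (ρ (r : Γ)).IsSemisimple := fun r => by
    refine Module.End.isSemisimple_of_squarefree_aeval_eq_zero (p := Polynomial.X ^ Nat.card R - Polynomial.C 1)
      (Polynomial.separable_X_pow_sub_C 1 hchar one_ne_zero).squarefree ?_
    have h1 : (r : Γ) ^ Nat.card R = 1 := by
      exact congrArg Subtype.val (pow_card_eq_one' (x := r))
    simp only [map_sub, map_pow, Polynomial.aeval_X, Polynomial.aeval_C, map_one]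
    rw [← map_pow, h1, map_one, sub_self]
  have h1 : ∀ r : R, ⨆ μ, (ρ (r : Γ)).maxGenEigenspace μ = ⊤ := fun r =>
    Module.End.iSup_maxGenEigenspace_eq_top _
  have h2 := Module.End.iSup_iInf_maxGenEigenspace_eq_top_of_iSup_maxGenEigenspace_eq_top_of_commute
    (fun r : R => ρ (r : Γ)) (fun i j _ => hcomm _ i.2 _ j.2) h1
  refine top_le_iff.mp (h2.ge.trans (iSup_le fun χ => ?_))
  refine le_iSup_of_le (fun g => if hg : g ∈ R then χ ⟨g, hg⟩ else 0) (le_iInf fun r => ?_)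
  refine (iInf_le _ r).trans (le_of_eq ?_)
  rw [(hss r).isFinitelySemisimple.maxGenEigenspace_eq_eigenspace]
  simp [r.2]

/-- Eigenspaces for characters differing on `R` are independent. -/
theorem eigen_sum_eq_zero {ι : Type*} (R : Subgroup Γ) (s : Finset ι) (χ : ι → Γ → K)
    (hne : ∀ i ∈ s, ∀ j ∈ s, i ≠ j → ∃ r ∈ R, χ i r ≠ χ j r) (w : ι → V)
    (hw : ∀ i ∈ s, w i ∈ chEigen ρ R (χ i)) (hsum : ∑ i ∈ s, w i = 0) : ∀ i ∈ s, w i = 0 := by
  classical
  induction s using Finset.induction_on generalizing w with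
  | empty => simp
  | insert a s has ih =>
    rw [Finset.sum_insert has] at hsum
    suffices hs : ∀ i ∈ s, w i = 0 by
      intro i hi
      rcases Finset.mem_insert.mp hi with rfl | hi
      · rwa [Finset.sum_eq_zero hs, add_zero] at hsum
      · exact hs i hi
    intro i hi
    obtain ⟨r, hr, hne'⟩ := hne a (Finset.mem_insert_self a s) i (Finset.mem_insert_of_mem hi)
      (fun e => has (e ▸ hi))
    have h1 := congrArg (ρ r) hsum
    rw [map_add, map_zero, map_sum, (mem_chEigen ρ).mp (hw a (Finset.mem_insert_self a s)) r hr] at h1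
    have h2 : ∑ j ∈ s, (χ j r - χ a r) • w j = 0 := by
      have h3 : ∑ j ∈ s, ρ r (w j) = ∑ j ∈ s, χ j r • w j := Finset.sum_congr rfl fun j hj =>
        (mem_chEigen ρ).mp (hw j (Finset.mem_insert_of_mem hj)) r hr
      rw [h3] at h1
      simp only [sub_smul, Finset.sum_sub_distrib, ← Finset.smul_sum]
      rw [eq_neg_of_add_eq_zero_right hsum, smul_neg, sub_neg_eq_add, add_comm]
      exact h1
    have h4 := ih (fun j hj k hk => hne j (Finset.mem_insert_of_mem hj) k (Finset.mem_insert_of_mem hk))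
      (fun j => (χ j r - χ a r) • w j)
      (fun j hj => Submodule.smul_mem _ _ (hw j (Finset.mem_insert_of_mem hj))) h2 i hi
    exact (smul_eq_zero.mp h4).resolve_left (sub_ne_zero.mpr hne'.symm)

/-- The counting inequality forces `d + 1 = h`. -/
theorem arith {p k d : ℕ} (hp : p.Prime) (hp2 : p ≠ 2) (hk : k ≠ 0) (hd : 1 < d)
    (hdvd : p ^ k ∣ d * d - 1) (hineq : d * d * p ^ k ≤ (p ^ k - 1) * (p ^ k + (d * d - 1))) :
    d + 1 = p ^ k ∧ ∀ r, d * d * p ^ k ≤ r * (p ^ k + (d * d - 1)) → p ^ k - 1 ≤ r := by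
  obtain ⟨e, rfl⟩ : ∃ e, d = e + 2 := ⟨d - 2, by omega⟩
  have hH : 2 ≤ p ^ k := le_trans hp.two_le (Nat.le_self_pow hk p)
  obtain ⟨g, hg⟩ : ∃ g, p ^ k = g + 2 := ⟨p ^ k - 2, by omega⟩
  have hdd : (e + 2) * (e + 2) - 1 = (e + 1) * (e + 3) := by
    rw [show (e + 2) * (e + 2) = (e + 1) * (e + 3) + 1 by ring]; omega
  rw [hdd] at hdvd hineq ⊢
  have hpd : p ^ k ∣ e + 1 ∨ p ^ k ∣ e + 3 := by
    by_cases h : p ∣ e + 1
    · refine Or.inl (((Nat.Prime.coprime_iff_not_dvd hp).mpr fun h3 => hp2 ?_).pow_left k |>.dvd_of_dvd_mul_right hdvd)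
      have h2 := Nat.dvd_sub h3 h
      rw [show e + 3 - (e + 1) = 2 by omega] at h2
      exact (Nat.prime_dvd_prime_iff_eq hp Nat.prime_two).mp h2
    · exact Or.inr ((((Nat.Prime.coprime_iff_not_dvd hp).mpr h).pow_left k).dvd_of_dvd_mul_left hdvd)
  rw [hg, show g + 2 - 1 = g + 1 by omega] at hineq
  have hle : e + 2 ≤ g + 1 := by nlinarith
  rw [hg] at hpd ⊢
  have he : e + 3 = g + 2 := by
    rcases hpd with h | h
    · have := Nat.le_of_dvd (by omega) h; omega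
    · have := Nat.le_of_dvd (by omega) h; omega
  refine ⟨by omega, fun r hr => ?_⟩
  obtain rfl : g = e + 1 := by omega
  by_contra hlt
  have : r * (e + 1 + 2 + (e + 1) * (e + 3)) ≤ (e + 1) * (e + 1 + 2 + (e + 1) * (e + 3)) :=
    Nat.mul_le_mul_right _ (by omega)
  nlinarith

/-- An element with vanishing norm: its element of order `p` fixes the occurring characters, and below
the stabilizer the nilpotency bound descends. -/
theorem orbit_bound {p : ℕ} [hp : Fact p.Prime] [CharP K p] (R : Subgroup Γ) {x : Γ}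
    (hxR : x ∈ Subgroup.normalizer (R : Set Γ)) {m : ℕ} (hx : x ^ p ^ (m + 1) = 1) {ω : Γ → K}
    (hW : chEigen ρ R ω ≠ ⊥) {s : ℕ} (hs : (ρ x - 1) ^ s = 0) (hsm : s ≤ p ^ (m + 1) - 1) :
    ∃ j ≤ m, (∀ r ∈ R, ω (x ^ p ^ j * r * (x ^ p ^ j)⁻¹) = ω r) ∧
      ∀ s' r, (ρ x - 1) ^ s' = 0 → s' ≤ p ^ j * r + (p ^ j - 1) →
        ∀ v ∈ chEigen ρ R ω, ((ρ (x ^ p ^ j) - 1) ^ r) v = 0 := by
  classical
  have hnorm : ∀ i : ℕ, x ^ i ∈ Subgroup.normalizer (R : Set Γ) := fun i => Subgroup.pow_mem _ hxR i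
  let P : ℕ → Prop := fun i => ∀ r ∈ R, ω (x ^ i * r * (x ^ i)⁻¹) = ω r
  have hPm : P (p ^ (m + 1)) := fun r _ => by rw [hx]; simp
  have hPadd : ∀ a b, P a → (P (a + b) ↔ P b) := by
    intro a b ha
    have key : ∀ r ∈ R, ω (x ^ (a + b) * r * (x ^ (a + b))⁻¹) = ω (x ^ b * r * (x ^ b)⁻¹) := by
      intro r hr
      have := ha _ ((Subgroup.mem_normalizer_iff.mp (hnorm b) r).mp hr)
      rw [← this]; congr 1; rw [pow_add]; group
    exact ⟨fun h r hr => (key r hr) ▸ h r hr, fun h r hr => (key r hr).trans (h r hr)⟩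
  have hPgcd : ∀ a b, P a → P b → P (Nat.gcd a b) := by
    intro a b
    induction a, b using Nat.gcd.induction with
    | H0 b => intro _ hb; simpa using hb
    | H1 a b ha ih =>
      intro h1 h2
      rw [Nat.gcd_rec]
      refine ih ?_ h1
      have hk : ∀ t, P (a * t) := by
        intro t
        induction t with
        | zero => intro r _; simp
        | succ t iht => rw [mul_add_one, add_comm]; exact (hPadd a _ h1).mpr iht
      have h3 := h2
      rw [← Nat.div_add_mod b a] at h3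
      exact (hPadd _ _ (hk _)).mp h3
  have hex : ∃ j, P (p ^ j) := ⟨m + 1, hPm⟩
  set j := Nat.find hex with hjdef
  have hj : P (p ^ j) := Nat.find_spec hex
  have hjm : j ≤ m + 1 := Nat.find_min' hex hPm
  have hsep : ∀ a b, a < b → b < p ^ j → ¬ P (b - a) := by
    intro a b hab hb h
    have h1 := hPgcd _ _ hj h
    obtain ⟨l, hl, e⟩ := (Nat.dvd_prime_pow hp.out).mp (Nat.gcd_dvd_left (p ^ j) (b - a))
    rw [e] at h1
    have h2 : j ≤ l := Nat.find_min' hex h1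
    have h3 := Nat.le_of_dvd (by omega) (e ▸ Nat.gcd_dvd_right (p ^ j) (b - a))
    have h4 : p ^ j ≤ p ^ l := Nat.pow_le_pow_right hp.out.pos h2
    omega
  let χ : ℕ → Γ → K := fun i g => ω ((x ^ i)⁻¹ * g * x ^ i)
  have hstep : ∀ i, ∀ v ∈ chEigen ρ R ω, (ρ x ^ i) v ∈ chEigen ρ R (χ i) := by
    intro i v hv
    rw [← map_pow]
    exact apply_mem_chEigen ρ (hnorm i) (fun r _ => by simp [χ, mul_assoc]) hv
  have hne : ∀ a ∈ Finset.range (p ^ j), ∀ b ∈ Finset.range (p ^ j), a ≠ b → ∃ r ∈ R, χ a r ≠ χ b r := by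
    suffices key : ∀ a b, a < b → b < p ^ j → ∃ r ∈ R, χ a r ≠ χ b r by
      intro a ha b hb hab
      rcases Nat.lt_or_gt_of_ne hab with h | h
      · exact key a b h (Finset.mem_range.mp hb)
      · obtain ⟨r, hr, hr'⟩ := key b a h (Finset.mem_range.mp ha)
        exact ⟨r, hr, hr'.symm⟩
    intro a b hab hb
    by_contra hcon
    push Not at hcon
    apply hsep a b hab hb
    intro r hr
    have h1 := hcon _ ((Subgroup.mem_normalizer_iff.mp (hnorm b) r).mp hr)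
    simp only [χ] at h1
    rw [show (x ^ b)⁻¹ * (x ^ b * r * (x ^ b)⁻¹) * x ^ b = r by group] at h1
    rw [← h1]
    congr 1
    rw [show b = a + (b - a) by omega, pow_add, show a + (b - a) - a = b - a by omega]
    group
  have hker : ∀ s' r, (ρ x - 1) ^ s' = 0 → s' ≤ p ^ j * r + (p ^ j - 1) → ∀ v ∈ chEigen ρ R ω,
      ((ρ (x ^ p ^ j) - 1) ^ r) v = 0 := by
    intro s' r hs' hr v hv
    rcases subsingleton_or_nontrivial V with hV | hV
    · exact Subsingleton.elim _ _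
    haveI : CharP (Module.End K V) p :=
      charP_of_injective_algebraMap (algebraMap K (Module.End K V)).injective p
    haveI := Fact.mk hp.out
    set T := ρ x with hT
    have hfrob : (T - 1) ^ p ^ j = T ^ p ^ j - 1 := by
      rw [sub_pow_char_pow_of_commute (p := p) (n := j) (h := Commute.one_right T), one_pow]
    have hgeom : (T - 1) ^ (p ^ j - 1) = ∑ i ∈ Finset.range (p ^ j), T ^ i := by
      have hd := geom_sum_mul (Polynomial.X : Polynomial (ZMod p)) (p ^ j)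
      have h5 : ((Polynomial.X : Polynomial (ZMod p)) - 1) ^ (p ^ j - 1) =
          ∑ i ∈ Finset.range (p ^ j), (Polynomial.X : Polynomial (ZMod p)) ^ i := by
        have hX : (Polynomial.X : Polynomial (ZMod p)) - 1 ≠ 0 := Polynomial.X_sub_C_ne_zero 1
        refine mul_right_cancel₀ hX ?_
        rw [hd, ← pow_succ, show p ^ j - 1 + 1 = p ^ j by have := pow_pos hp.out.pos j; omega,
          sub_pow_char_pow, one_pow]
      letI := ZMod.algebra (Module.End K V) p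
      have h6 := congrArg (Polynomial.aeval T) h5
      simpa using h6
    have h1 : ((T - 1) ^ (p ^ j * r + (p ^ j - 1))) v = 0 := by
      rw [show p ^ j * r + (p ^ j - 1) = (p ^ j * r + (p ^ j - 1) - s') + s' by omega, pow_add, hs',
        mul_zero]
      rfl
    rw [add_comm, pow_add, pow_mul, hfrob, hgeom, Module.End.mul_apply, LinearMap.sum_apply, ← map_pow] at h1
    have hpres : ∀ (n : ℕ) v, v ∈ chEigen ρ R ω → ((ρ (x ^ p ^ j) - 1) ^ n) v ∈ chEigen ρ R ω := by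
      intro n
      induction n with
      | zero => intro v hv; simpa using hv
      | succ n ih =>
        intro v hv
        rw [pow_succ, Module.End.mul_apply, LinearMap.sub_apply, Module.End.one_apply]
        exact ih _ (Submodule.sub_mem _ (apply_mem_chEigen ρ (hnorm _) hj hv) hv)
    have h2 := eigen_sum_eq_zero ρ R _ χ hne _ (fun i _ => hstep i _ (hpres r v hv)) h1 0
      (Finset.mem_range.mpr (pow_pos hp.out.pos j))
    rwa [pow_zero, Module.End.one_apply] at h2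
  refine ⟨j, ?_, hj, hker⟩
  by_contra hlt
  have e : j = m + 1 := by omega
  obtain ⟨v, hv, hv0⟩ := (Submodule.ne_bot_iff _).mp hW
  have := hker s 0 hs (by rw [e]; omega) v hv
  rw [pow_zero, Module.End.one_apply] at this
  exact hv0 this

/-- A `p'`-group with central commutator subgroup `Z`. -/
structure Setting (p : ℕ) (Q Z : Subgroup Γ) : Prop where
  le : Z ≤ Q
  comm : ∀ g ∈ Q, ∀ t ∈ Q, ⁅t, g⁆ ∈ Z
  central : ∀ z ∈ Z, ∀ g ∈ Q, g * z = z * g
  coprime : ¬ p ∣ Nat.card Q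

variable {ρ}

theorem comm_mul {p : ℕ} {Q Z : Subgroup Γ} (S : Setting p Q Z) {t a b : Γ} (ht : t ∈ Q) (ha : a ∈ Q)
    (hb : b ∈ Q) : ⁅t, a * b⁆ = ⁅t, a⁆ * ⁅t, b⁆ := by
  have h := S.central _ (S.comm b hb t ht) a ha
  calc ⁅t, a * b⁆ = ⁅t, a⁆ * (a * ⁅t, b⁆ * a⁻¹) := by simp only [commutatorElement_def]; group
    _ = _ := by rw [h]; group

/-- The radical of the commutator form given by `ω`. -/
def rad {p : ℕ} {Q Z : Subgroup Γ} (S : Setting p Q Z) {ω : Γ → K} (hW : chEigen ρ Z ω ≠ ⊥) :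
    Subgroup Γ where
  carrier := {g | g ∈ Q ∧ ∀ t ∈ Q, ω ⁅t, g⁆ = 1}
  mul_mem' := fun {a b} ha hb => ⟨Q.mul_mem ha.1 hb.1, fun t ht => by
    rw [comm_mul S ht ha.1 hb.1, (ch_mul ρ hW).2 _ (S.comm a ha.1 t ht) _ (S.comm b hb.1 t ht),
      ha.2 t ht, hb.2 t ht, mul_one]⟩
  one_mem' := ⟨Q.one_mem, fun t _ => by rw [commutatorElement_one_right, (ch_mul ρ hW).1]⟩
  inv_mem' := fun {a} ha => ⟨Q.inv_mem ha.1, fun t ht => by
    have e := comm_mul S ht ha.1 (Q.inv_mem ha.1)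
    rw [mul_inv_cancel, commutatorElement_one_right] at e
    have h1 := congrArg ω e
    rw [(ch_mul ρ hW).1, (ch_mul ρ hW).2 _ (S.comm a ha.1 t ht) _ (S.comm _ (Q.inv_mem ha.1) t ht),
      ha.2 t ht, one_mul] at h1
    exact h1.symm⟩

theorem mem_rad {p : ℕ} {Q Z : Subgroup Γ} {S : Setting p Q Z} {ω : Γ → K}
    {hW : chEigen ρ Z ω ≠ ⊥} {g : Γ} : g ∈ rad S hW ↔ g ∈ Q ∧ ∀ t ∈ Q, ω ⁅t, g⁆ = 1 := Iff.rfl

/-- The elements fixing `ω`. -/
def stab (Q Z : Subgroup Γ) (ω : Γ → K) : Subgroup Γ where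
  carrier := {g | g ∈ Subgroup.normalizer (Q : Set Γ) ∧ g ∈ Subgroup.normalizer (Z : Set Γ) ∧
    ∀ z ∈ Z, ω (g * z * g⁻¹) = ω z}
  mul_mem' := fun {a b} ha hb => ⟨mul_mem ha.1 hb.1, mul_mem ha.2.1 hb.2.1, fun z hz => by
    rw [← hb.2.2 z hz, ← ha.2.2 _ ((Subgroup.mem_normalizer_iff.mp hb.2.1 z).mp hz)]
    congr 1; group⟩
  one_mem' := ⟨one_mem _, one_mem _, fun z _ => by simp⟩
  inv_mem' := fun {a} ha => ⟨inv_mem ha.1, inv_mem ha.2.1, fun z hz => by
    rw [← ha.2.2 _ ((Subgroup.mem_normalizer_iff.mp (inv_mem ha.2.1) z).mp hz)]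
    congr 1; group⟩

theorem mem_stab {Q Z : Subgroup Γ} {ω : Γ → K} {g : Γ} : g ∈ stab Q Z ω ↔
    g ∈ Subgroup.normalizer (Q : Set Γ) ∧ g ∈ Subgroup.normalizer (Z : Set Γ) ∧
    ∀ z ∈ Z, ω (g * z * g⁻¹) = ω z := Iff.rfl

theorem conj_mem_rad {p : ℕ} {Q Z : Subgroup Γ} {S : Setting p Q Z} {ω : Γ → K}
    {hW : chEigen ρ Z ω ≠ ⊥} {g : Γ} (hg : g ∈ stab Q Z ω) {a : Γ} (ha : a ∈ rad S hW) :
    g * a * g⁻¹ ∈ rad S hW := by
  refine mem_rad.mpr ⟨(Subgroup.mem_normalizer_iff.mp hg.1 a).mp (mem_rad.mp ha).1, fun t ht => ?_⟩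
  have ht' : g⁻¹ * t * g ∈ Q := by
    have := (Subgroup.mem_normalizer_iff.mp (inv_mem hg.1) t).mp ht
    rwa [inv_inv] at this
  rw [show ⁅t, g * a * g⁻¹⁆ = g * ⁅g⁻¹ * t * g, a⁆ * g⁻¹ by simp only [commutatorElement_def]; group,
    hg.2.2 _ (S.comm a (mem_rad.mp ha).1 _ ht'), (mem_rad.mp ha).2 _ ht']

theorem setting_le_stab {p : ℕ} {Q Z : Subgroup Γ} (S : Setting p Q Z) (ω : Γ → K) : Q ≤ stab Q Z ω :=
  fun g hg => ⟨Subgroup.le_normalizer hg, Subgroup.centralizer_le_normalizer _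
    (Subgroup.mem_centralizer_iff.mpr fun z hz => (S.central z hz g hg).symm), fun z hz => by
      rw [S.central z hz g hg, mul_inv_cancel_right]⟩

/-- The action on a joint eigenspace. -/
def restr (Q Z : Subgroup Γ) (ω : Γ → K) : ↥(stab Q Z ω) →* Module.End K ↥(chEigen ρ Z ω) where
  toFun g := (ρ (g : Γ)).restrict (fun _ hv => apply_mem_chEigen ρ g.2.2.1 g.2.2.2 hv)
  map_one' := LinearMap.ext fun v => Subtype.ext (by simp [LinearMap.restrict_apply])
  map_mul' a b := LinearMap.ext fun v => Subtype.ext (by simp [LinearMap.restrict_apply])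

theorem coe_restr (Q Z : Subgroup Γ) (ω : Γ → K) (g : ↥(stab Q Z ω)) (v : ↥(chEigen ρ Z ω)) :
    ((restr (ρ := ρ) Q Z ω g v : ↥(chEigen ρ Z ω)) : V) = ρ (g : Γ) v := rfl

/-- The action of `c` on `Q` modulo the radical. -/
theorem section_dichotomy [IsAlgClosed K] [FiniteDimensional K V] {p q : ℕ} [hp : Fact p.Prime]
    [hq : Fact q.Prime] [CharP K p] (hp2 : p ≠ 2) {Q Z : Subgroup Γ} (S : Setting p Q Z)
    (hQ : IsPGroup q Q) {x : Γ} (hxQ : x ∈ Subgroup.normalizer (Q : Set Γ))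
    (hxZ : x ∈ Subgroup.normalizer (Z : Set Γ)) {m : ℕ} (hx : x ^ p ^ (m + 1) = 1) {s : ℕ}
    (hs : (ρ x - 1) ^ s = 0) (hsm : s ≤ p ^ (m + 1) - 1) {ω : Γ → K} (hW : chEigen ρ Z ω ≠ ⊥) :
    x ^ p ^ m ∈ stab Q Z ω ∧
    (∀ r ∈ rad S hW, ∀ v ∈ chEigen ρ Z ω, ρ (x ^ p ^ m * r * (x ^ p ^ m)⁻¹) v = ρ r v) ∧
    ((∀ g ∈ Q, g⁻¹ * (x ^ p ^ m * g * (x ^ p ^ m)⁻¹) ∈ rad S hW) ∨
      ∃ k b : ℕ, (k = 1 ∨ p = 3 ∧ k = 2) ∧ k ≤ m + 1 ∧ p ^ k = 2 ^ b + 1 ∧ q = 2 ∧
        p ^ (m + 1) - p ^ (m + 1 - k) ≤ s ∧ x ^ p ^ (m + 1 - k) ∈ stab Q Z ω ∧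
        ∃ Q1 : Subgroup Γ, rad S hW ≤ Q1 ∧ Q1 ≤ Q ∧
          (∀ g ∈ Q, g⁻¹ * (x ^ p ^ m * g * (x ^ p ^ m)⁻¹) ∈ Q1) ∧
          (rad S hW).relIndex Q1 = 2 ^ b * 2 ^ b) := by
  classical
  obtain ⟨j, hjm, hjZ, hker⟩ := orbit_bound ρ Z hxZ hx hW hs hsm
  set x' := x ^ p ^ j with hx'def
  set c := x ^ p ^ m with hcdef
  have hx'S : x' ∈ stab Q Z ω := ⟨Subgroup.pow_mem _ hxQ _, Subgroup.pow_mem _ hxZ _, hjZ⟩
  have hcx' : c = x' ^ p ^ (m - j) := by
    rw [hcdef, hx'def, ← pow_mul, ← pow_add, show j + (m - j) = m by omega]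
  have hcS : c ∈ stab Q Z ω := hcx' ▸ Subgroup.pow_mem _ hx'S _
  set R := rad S hW with hRdef
  have hRQ : R ≤ Q := fun g hg => (mem_rad.mp hg).1
  have hconjR : ∀ g ∈ stab Q Z ω, ∀ a ∈ R, g * a * g⁻¹ ∈ R := fun g hg a ha => conj_mem_rad hg ha
  have hpK : ∀ n : ℕ, ¬ p ∣ n → (n : K) ≠ 0 := fun n hn e => hn ((CharP.cast_eq_zero_iff K p n).mp e)
  have hcp : c ^ p = 1 := by rw [hcdef, ← pow_mul, ← pow_succ, hx]
  set W := chEigen ρ Z ω with hWdef
  haveI : Nontrivial W := Submodule.nontrivial_iff_ne_bot.mpr hW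
  set Γω := stab Q Z ω
  set ρW := restr (ρ := ρ) Q Z ω
  have hQS : Q ≤ Γω := setting_le_stab S ω
  have hρWsub : ∀ (n : ℕ) (v : W),
      ((((ρW ⟨x', hx'S⟩ - 1) ^ n) v : W) : V) = ((ρ x' - 1) ^ n) v := by
    intro n
    induction n with
    | zero => intro v; rfl
    | succ n ih =>
      intro v
      rw [pow_succ, Module.End.mul_apply, pow_succ, Module.End.mul_apply, ih]
      congr 1
  have hnil : ∀ r, s ≤ p ^ j * r + (p ^ j - 1) → (ρW ⟨x', hx'S⟩ - 1) ^ r = 0 := fun r hr =>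
    LinearMap.ext fun v => Subtype.ext (by rw [hρWsub]; exact hker s r hs hr v v.2)
  have hfix : ∀ r ∈ R, ∀ v ∈ W, ρ (c * r * c⁻¹) v = ρ r v := by
    set R' := R.subgroupOf Γω
    have hR'c : ∀ a ∈ R', ∀ b ∈ R', ρW a * ρW b = ρW b * ρW a := by
      intro a ha b hb
      refine LinearMap.ext fun v => Subtype.ext ?_
      rw [Module.End.mul_apply, Module.End.mul_apply, coe_restr, coe_restr, coe_restr, coe_restr]
      have hb : (b : Γ) ∈ R := hb
      have ha : (a : Γ) ∈ R := ha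
      have hc' : ⁅(a : Γ), (b : Γ)⁆ ∈ Z := S.comm _ (hRQ hb) _ (hRQ ha)
      have h2 : ρ ((a : Γ) * b) = ρ ⁅(a : Γ), (b : Γ)⁆ * ρ ((b : Γ) * a) := by
        rw [← map_mul]; congr 1; simp only [commutatorElement_def]; group
      rw [← Module.End.mul_apply, ← map_mul, h2, Module.End.mul_apply,
        (mem_chEigen ρ).mp (apply_mem_chEigen ρ (hQS (Q.mul_mem (hRQ hb) (hRQ ha))).2.1
          (hQS (Q.mul_mem (hRQ hb) (hRQ ha))).2.2 v.2) _ hc',
        (mem_rad.mp hb).2 _ (hRQ ha), one_smul, map_mul, Module.End.mul_apply]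
    have hR'card : (Nat.card R' : K) ≠ 0 := by
      refine hpK _ fun hd => S.coprime ?_
      rw [Nat.card_congr (Subgroup.subgroupOfEquivOfLe (hRQ.trans hQS)).toEquiv] at hd
      exact hd.trans (Subgroup.card_dvd_of_le hRQ)
    have hxn : (⟨x', hx'S⟩ : Γω) ∈ Subgroup.normalizer (R' : Set Γω) := by
      refine Subgroup.mem_normalizer_iff.mpr fun a => ⟨fun ha => hconjR _ hx'S _ ha, fun ha => ?_⟩
      have := hconjR _ (inv_mem hx'S) _ (show x' * (a : Γ) * x'⁻¹ ∈ R from ha)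
      show (a : Γ) ∈ R
      simpa [mul_assoc] using this
    have hxh' : (⟨x', hx'S⟩ : Γω) ^ p ^ (m - j + 1) = 1 := Subtype.ext (by
      show x' ^ p ^ (m - j + 1) = 1
      rw [hx'def, ← pow_mul, ← pow_add, show j + (m - j + 1) = m + 1 by omega, hx])
    intro r hr v hv
    have htop := iSup_chEigen_eq_top ρW R' hR'c hR'card
    suffices h : ρW ⟨c * r * c⁻¹, mul_mem (mul_mem hcS (hQS (hRQ hr))) (inv_mem hcS)⟩ =
        ρW ⟨r, hQS (hRQ hr)⟩ from congrArg Subtype.val (LinearMap.congr_fun h ⟨v, hv⟩)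
    rw [← LinearMap.eqLocus_eq_top, eq_top_iff, ← htop]
    refine iSup_le fun χ => ?_
    rcases eq_or_ne (chEigen ρW R' χ) ⊥ with hb | hb
    · rw [hb]; exact bot_le
    intro u hu
    have hple : 1 ≤ p ^ j := pow_pos hp.out.pos j
    have hpm : p ^ j * p ^ (m - j + 1) = p ^ (m + 1) := by
      rw [← pow_add, show j + (m - j + 1) = m + 1 by omega]
    obtain ⟨i, him, hi, -⟩ := orbit_bound ρW R' hxn hxh' hb (s := p ^ (m - j + 1) - 1) (hnil _ (by
      rw [Nat.mul_sub_one, hpm]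
      have : p ^ j ≤ p ^ (m + 1) := Nat.pow_le_pow_right hp.out.pos (by omega)
      omega)) le_rfl
    set y : Γω := (⟨x', hx'S⟩ : Γω) ^ p ^ (m - j) with hy
    have hyc : (y : Γ) = c := by
      rw [hy, SubmonoidClass.coe_pow, hcx']
    have hyfix : ∀ a ∈ R', χ (y * a * y⁻¹) = χ a := by
      have key : ∀ t : ℕ, ∀ a ∈ R', χ (((⟨x', hx'S⟩ : Γω) ^ p ^ i) ^ t * a * (((⟨x', hx'S⟩ : Γω) ^ p ^ i) ^ t)⁻¹) = χ a := by
        intro t
        induction t with
        | zero => intro a _; simp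
        | succ t ih =>
          intro a ha
          rw [← ih a ha, ← hi (((⟨x', hx'S⟩ : Γω) ^ p ^ i) ^ t * a * (((⟨x', hx'S⟩ : Γω) ^ p ^ i) ^ t)⁻¹)
            ((Subgroup.mem_normalizer_iff.mp (Subgroup.pow_mem _ (Subgroup.pow_mem _ hxn _) t) a).mp ha)]
          congr 1
          rw [pow_succ']; group
      intro a ha
      rw [hy, show p ^ (m - j) = p ^ i * p ^ (m - j - i) by rw [← pow_add]; congr 1; omega, pow_mul]
      exact key _ a ha
    have ha : (⟨r, hQS (hRQ hr)⟩ : Γω) ∈ R' := hr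
    have hb' : (⟨c * r * c⁻¹, mul_mem (mul_mem hcS (hQS (hRQ hr))) (inv_mem hcS)⟩ : Γω) ∈ R' :=
      hconjR _ hcS _ hr
    show ρW _ u = ρW _ u
    rw [(mem_chEigen ρW).mp hu _ hb', (mem_chEigen ρW).mp hu _ ha, ← hyfix _ ha]
    congr 2
    exact Subtype.ext (by simp [hyc])
  refine ⟨hcS, hfix, ?_⟩
  -- the quotient by the radical
  set Rq := R.subgroupOf Q
  haveI hRqn : Rq.Normal := ⟨fun a ha g => hconjR _ (hQS g.2) _ ha⟩
  have hcommRq : ∀ a b : Q, ((a : Q ⧸ Rq) : Q ⧸ Rq) * b = (b : Q ⧸ Rq) * a := by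
    intro a b
    rw [← QuotientGroup.mk_mul, ← QuotientGroup.mk_mul, QuotientGroup.eq]
    show (((a * b)⁻¹ * (b * a) : Q) : Γ) ∈ rad S hW
    refine mem_rad.mpr ⟨((a * b)⁻¹ * (b * a)).2, fun t ht => ?_⟩
    have hz : ((a : Γ) * b)⁻¹ * ((b : Γ) * a) ∈ Z := by
      have := S.comm _ (Q.inv_mem a.2) _ (Q.inv_mem b.2)
      rwa [show ⁅(b : Γ)⁻¹, (a : Γ)⁻¹⁆ = ((a : Γ) * b)⁻¹ * ((b : Γ) * a) by
        simp only [commutatorElement_def]; group] at this
    have h1 : t * (((a * b)⁻¹ * (b * a) : Q) : Γ) = (((a * b)⁻¹ * (b * a) : Q) : Γ) * t :=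
      S.central _ hz t ht
    rw [commutatorElement_eq_one_iff_mul_comm.mpr h1]
    exact (ch_mul ρ hW).1
  letI : CommGroup (Q ⧸ Rq) := { (inferInstance : Group (Q ⧸ Rq)) with
    mul_comm := fun a b => by
      obtain ⟨a, rfl⟩ := QuotientGroup.mk_surjective a
      obtain ⟨b, rfl⟩ := QuotientGroup.mk_surjective b
      exact hcommRq a b }
  let cQ : Q →* Q :=
    { toFun := fun a => ⟨c * a * c⁻¹, (Subgroup.mem_normalizer_iff.mp hcS.1 a).mp a.2⟩
      map_one' := Subtype.ext (by simp)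
      map_mul' := fun a b => Subtype.ext (by simp [mul_assoc]) }
  let φ : Q ⧸ Rq →* Q ⧸ Rq := QuotientGroup.map Rq Rq cQ (fun a ha => hconjR _ hcS _ ha)
  have hφ : ∀ a : Q, φ a = (cQ a : Q) := fun a => rfl
  have hφn : ∀ (n : ℕ) (a : Q), ∃ h, (φ^[n]) a = ((⟨c ^ n * a * (c ^ n)⁻¹, h⟩ : Q) : Q ⧸ Rq) := by
    intro n
    induction n with
    | zero => intro a; exact ⟨by simp, by simp⟩
    | succ n ih =>
      intro a
      obtain ⟨h, e⟩ := ih a
      refine ⟨(Subgroup.mem_normalizer_iff.mp (Subgroup.pow_mem _ hcS.1 _) a).mp a.2, ?_⟩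
      rw [Function.iterate_succ_apply', e, hφ]
      congr 1
      apply Subtype.ext
      show c * (c ^ n * a * (c ^ n)⁻¹) * c⁻¹ = c ^ (n + 1) * a * (c ^ (n + 1))⁻¹
      rw [pow_succ']; group
  have hφp : ∀ u, φ^[p] u = u := by
    intro u
    obtain ⟨a, rfl⟩ := QuotientGroup.mk_surjective u
    obtain ⟨h, e⟩ := hφn p a
    rw [e]; congr 1; exact Subtype.ext (by simp [hcp])
  let f : Q ⧸ Rq →* Q ⧸ Rq := φ / MonoidHom.id _
  have hf : ∀ u, f u = φ u / u := fun u => rfl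
  let N : Q ⧸ Rq → Q ⧸ Rq := fun u => ∏ i ∈ Finset.range p, φ^[i] u
  have hNφ : ∀ u, N (φ u) = N u := by
    intro u
    have h1 : (∏ i ∈ Finset.range p, φ^[i] (φ u)) * φ^[0] u = (∏ i ∈ Finset.range p, φ^[i] u) * φ^[p] u := by
      rw [← Finset.prod_range_succ (fun i => φ^[i] u) p, Finset.prod_range_succ']
      congr 1
    rw [hφp] at h1
    exact mul_right_cancel h1
  have hNf : ∀ u, N (f u) = 1 := fun u => by
    have : ∀ i, φ^[i] (φ u / u) = φ^[i] (φ u) / φ^[i] u := by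
      intro i
      induction i with
      | zero => rfl
      | succ i ih => rw [Function.iterate_succ_apply', Function.iterate_succ_apply', Function.iterate_succ_apply', ih, map_div]
    show ∏ i ∈ Finset.range p, φ^[i] (f u) = 1
    simp only [hf, this, Finset.prod_div_distrib]
    exact div_eq_one.mpr (hNφ u)
  have hcopQ : (Nat.card (Q ⧸ Rq)).Coprime p := by
    refine ((hp.out.coprime_iff_not_dvd.mpr fun hd => S.coprime ?_)).symm
    exact hd.trans Rq.card_quotient_dvd_card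
  -- the commutator part
  let Q1 : Subgroup Γ :=
    (f.range.comap (QuotientGroup.mk' Rq)).map Q.subtype
  have hQ1Q : Q1 ≤ Q := Subgroup.map_subtype_le _
  have hRQ1 : R ≤ Q1 := fun r hr => ⟨⟨r, hRQ hr⟩,
    show QuotientGroup.mk' Rq ⟨r, hRQ hr⟩ ∈ f.range by
      rw [show QuotientGroup.mk' Rq ⟨r, hRQ hr⟩ = 1 from (QuotientGroup.eq_one_iff _).mpr hr]
      exact f.range.one_mem, rfl⟩
  have hQ1mem : ∀ g : Q, (g : Γ) ∈ Q1 ↔ (g : Q ⧸ Rq) ∈ f.range := fun g =>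
    ⟨fun ⟨a, ha, e⟩ => by rw [← Subtype.ext e]; exact ha, fun h => ⟨g, h, rfl⟩⟩
  have hQ1c : ∀ g ∈ Q, g⁻¹ * (c * g * c⁻¹) ∈ Q1 := by
    intro g hg
    refine (hQ1mem ((⟨g, hg⟩ : Q)⁻¹ * cQ ⟨g, hg⟩)).mpr ⟨((⟨g, hg⟩ : Q) : Q ⧸ Rq), ?_⟩
    rw [hf, hφ, div_eq_inv_mul]; rfl
  -- fixed points in the commutator part are trivial
  have hfpf : ∀ g ∈ Q1, g⁻¹ * (c * g * c⁻¹) ∈ R → g ∈ R := by
    intro g hg hgc
    have hgQ := hQ1Q hg
    set u : Q ⧸ Rq := ((⟨g, hgQ⟩ : Q) : Q ⧸ Rq) with hu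
    have hφu : φ u = u := by
      rw [hu, hφ, eq_comm, QuotientGroup.eq]
      exact hgc
    obtain ⟨w, hw⟩ := (hQ1mem ⟨g, hgQ⟩).mp hg
    have h1 : N u = u ^ p := by
      have : ∀ i, φ^[i] u = u := fun i => Function.IsFixedPt.iterate hφu i
      show ∏ i ∈ Finset.range p, φ^[i] u = u ^ p
      simp [this]
    rw [show N u = 1 by rw [show u = f w from hw.symm]; exact hNf w] at h1
    have h2 : orderOf u ∣ Nat.gcd (Nat.card (Q ⧸ Rq)) p :=
      Nat.dvd_gcd (orderOf_dvd_natCard u) (orderOf_dvd_of_pow_eq_one h1.symm)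
    rw [hcopQ.gcd_eq_one, Nat.dvd_one, orderOf_eq_one_iff] at h2
    rw [hu] at h2
    exact (QuotientGroup.eq_one_iff (⟨g, hgQ⟩ : Q)).mp h2
  by_cases hQ1R : Q1 = R
  · exact Or.inl fun g hg => hQ1R ▸ hQ1c g hg
  refine Or.inr ?_
  -- the form is non-degenerate on the commutator part
  have hnd : ∀ g ∈ Q1, g ∉ R → ∃ t ∈ Q1, ω ⁅t, g⁆ ≠ 1 := by
    intro g hg hgR
    by_contra hcon
    push Not at hcon
    apply hgR
    have hgQ := hQ1Q hg
    -- the pairing with `g` is a character of `Q ⧸ Rq`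
    let β : Q →* K :=
      { toFun := fun t => ω ⁅(t : Γ), g⁆
        map_one' := by rw [Subgroup.coe_one, commutatorElement_one_left, (ch_mul ρ hW).1]
        map_mul' := fun a b => by
          have h := S.central _ (S.comm g hgQ _ b.2) (a : Γ) a.2
          rw [show ⁅((a * b : Q) : Γ), g⁆ = (a : Γ) * ⁅(b : Γ), g⁆ * (a : Γ)⁻¹ * ⁅(a : Γ), g⁆ by
              simp only [Subgroup.coe_mul, commutatorElement_def]; group, h, mul_inv_cancel_right,
            (ch_mul ρ hW).2 _ (S.comm g hgQ _ b.2) _ (S.comm g hgQ _ a.2), mul_comm] }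
    have hβR : Rq ≤ β.ker := by
      intro a ha
      rw [MonoidHom.mem_ker]
      show ω ⁅(a : Γ), g⁆ = 1
      have h1 := (mem_rad.mp (show (a : Γ) ∈ R from ha)).2 g hgQ
      have h2 := ch_inv ρ hW (S.comm (a : Γ) a.2 g hgQ)
      rw [commutatorElement_inv, h1, one_mul] at h2
      exact h2
    let βb : Q ⧸ Rq →* K := QuotientGroup.lift Rq β hβR
    have hker : ∀ w ∈ f.range, βb w = 1 := by
      intro w hw
      obtain ⟨a, rfl⟩ := QuotientGroup.mk_surjective w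
      exact hcon a ((hQ1mem a).mpr hw)
    refine mem_rad.mpr ⟨hgQ, fun t ht => ?_⟩
    set u : Q ⧸ Rq := ((⟨t, ht⟩ : Q) : Q ⧸ Rq) with hu
    have h1 : ∀ i, βb (φ^[i] u) = βb u := by
      intro i
      induction i with
      | zero => rfl
      | succ i ih =>
        rw [Function.iterate_succ_apply', ← ih]
        have := hker (f (φ^[i] u)) ⟨_, rfl⟩
        rw [hf, div_eq_inv_mul, map_mul] at this
        have h3 : βb (φ^[i] u) * βb (φ^[i] u)⁻¹ = 1 := by rw [← map_mul, mul_inv_cancel, map_one]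
        calc βb (φ (φ^[i] u)) = (βb (φ^[i] u) * βb (φ^[i] u)⁻¹) * βb (φ (φ^[i] u)) := by rw [h3, one_mul]
          _ = βb (φ^[i] u) := by rw [mul_assoc, this, mul_one]
    -- the pairing kills fixed points of `c`
    have h2 : βb (N u) = 1 := by
      obtain ⟨a, ha⟩ := QuotientGroup.mk_surjective (N u)
      rw [← ha]
      show ω ⁅(a : Γ), g⁆ = 1
      have hfa : φ (a : Q ⧸ Rq) = a := by
        rw [ha, map_prod]
        refine Eq.trans (Finset.prod_congr rfl fun i _ => ?_) (hNφ u)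
        exact (Function.iterate_succ_apply' φ i u).symm.trans (Function.iterate_succ_apply φ i u)
      obtain ⟨w, hw⟩ := (hQ1mem ⟨g, hgQ⟩).mp hg
      obtain ⟨e, rfl⟩ := QuotientGroup.mk_surjective w
      -- `ω ⁅a, -⁆` is invariant under `c`
      let γ : Q →* K :=
        { toFun := fun t => ω ⁅(a : Γ), (t : Γ)⁆
          map_one' := by rw [Subgroup.coe_one, commutatorElement_one_right, (ch_mul ρ hW).1]
          map_mul' := fun s t => by
            rw [Subgroup.coe_mul, comm_mul S a.2 s.2 t.2, (ch_mul ρ hW).2 _ (S.comm _ s.2 _ a.2) _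
              (S.comm _ t.2 _ a.2)] }
      have hγR : Rq ≤ γ.ker := fun r hr => MonoidHom.mem_ker.mpr ((mem_rad.mp (show (r : Γ) ∈ R from hr)).2 _ a.2)
      let γb : Q ⧸ Rq →* K := QuotientGroup.lift Rq γ hγR
      show γb ((⟨g, hgQ⟩ : Q) : Q ⧸ Rq) = 1
      rw [← hw, hf, div_eq_inv_mul, map_mul, hφ]
      have hinv : γb (cQ e : Q) = γb (e : Q ⧸ Rq) := by
        show ω ⁅(a : Γ), c * (e : Γ) * c⁻¹⁆ = ω ⁅(a : Γ), (e : Γ)⁆
        have hd : (cQ a)⁻¹ * a ∈ Rq := by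
          rw [hφ] at hfa; exact QuotientGroup.eq.mp hfa
        have hr : (⁅((cQ a)⁻¹ * a : Q), cQ e⁆ : Q) = (⁅((cQ a)⁻¹ * a : Q), cQ e⁆ : Q) := rfl
        have h5 := (mem_rad.mp (show (((cQ a)⁻¹ * a : Q) : Γ) ∈ R from hd)).2 _ (cQ e).2
        set d : Γ := (((cQ a)⁻¹ * a : Q) : Γ) with hdd
        have hdQ : d ∈ Q := ((cQ a)⁻¹ * a).2
        have h6 := ch_inv ρ hW (S.comm d hdQ _ (cQ e).2)
        rw [commutatorElement_inv, h5, one_mul] at h6
        have e1 : (a : Γ) = (cQ a : Γ) * d := by rw [hdd]; simp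
        have hz := S.central _ (S.comm (cQ e : Γ) (cQ e).2 d hdQ) (cQ a : Γ) (cQ a).2
        calc ω ⁅(a : Γ), c * (e : Γ) * c⁻¹⁆
            = ω ((cQ a : Γ) * ⁅d, (cQ e : Γ)⁆ * (cQ a : Γ)⁻¹ * ⁅(cQ a : Γ), (cQ e : Γ)⁆) := by
              rw [e1]; congr 1
              show ⁅(cQ a : Γ) * d, (cQ e : Γ)⁆ = _
              simp only [commutatorElement_def]; group
          _ = ω ⁅(cQ a : Γ), (cQ e : Γ)⁆ := by
              rw [hz, mul_inv_cancel_right, (ch_mul ρ hW).2 _ (S.comm _ (cQ e).2 _ hdQ) _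
                (S.comm _ (cQ e).2 _ (cQ a).2), h6, one_mul]
          _ = _ := by
              show ω ⁅c * (a : Γ) * c⁻¹, c * (e : Γ) * c⁻¹⁆ = _
              rw [show ⁅c * (a : Γ) * c⁻¹, c * (e : Γ) * c⁻¹⁆ = c * ⁅(a : Γ), (e : Γ)⁆ * c⁻¹ by
                simp only [commutatorElement_def]; group]
              exact hcS.2.2 _ (S.comm _ e.2 _ a.2)
      rw [hinv, ← map_mul, inv_mul_cancel, map_one]
    have h3 : βb u ^ p = 1 := by
      have : βb (N u) = βb u ^ p := by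
        show βb (∏ i ∈ Finset.range p, φ^[i] u) = _
        simp [map_prod, h1]
      rw [← this, h2]
    have h4 : (βb u - 1) ^ p = 0 := by rw [sub_pow_char, h3, one_pow, sub_self]
    exact sub_eq_zero.mp (eq_zero_of_pow_eq_zero h4)
  -- the counting theorem
  set h := p ^ (m - j + 1) with hh
  have hh2 : 2 ≤ h := le_trans hp.out.two_le (Nat.le_self_pow (by omega) p)
  have hpm : p ^ j * h = p ^ (m + 1) := by
    rw [hh, ← pow_add, show j + (m - j + 1) = m + 1 by omega]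
  have hQ1S : Q1 ≤ Γω := hQ1Q.trans hQS
  have hx'Q1 : ∀ g ∈ Q1, x' * g * x'⁻¹ ∈ Q1 := by
    intro g hg
    obtain ⟨w, hw⟩ := (hQ1mem ⟨g, hQ1Q hg⟩).mp hg
    obtain ⟨e, rfl⟩ := QuotientGroup.mk_surjective w
    rw [hf, hφ, div_eq_inv_mul, ← QuotientGroup.mk_inv, ← QuotientGroup.mk_mul, QuotientGroup.eq] at hw
    have h1 : x' * (((e⁻¹ * cQ e)⁻¹ * ⟨g, hQ1Q hg⟩ : Q) : Γ) * x'⁻¹ ∈ R := hconjR _ hx'S _ hw
    have he' : x' * (e : Γ) * x'⁻¹ ∈ Q := (Subgroup.mem_normalizer_iff.mp hx'S.1 _).mp e.2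
    have h2 := hQ1c _ he'
    have hxc : Commute x' c := by rw [hx'def, hcdef]; exact Commute.pow_pow_self x _ _
    have e2 : (x' * (e : Γ) * x'⁻¹)⁻¹ * (c * (x' * (e : Γ) * x'⁻¹) * c⁻¹) =
        x' * ((e⁻¹ * cQ e : Q) : Γ) * x'⁻¹ := by
      show _ = x' * ((e : Γ)⁻¹ * (c * (e : Γ) * c⁻¹)) * x'⁻¹
      have h3 := hxc.eq
      have h4 := hxc.inv_left.inv_right.eq
      calc _ = x' * (e : Γ)⁻¹ * x'⁻¹ * ((c * x') * (e : Γ) * (x'⁻¹ * c⁻¹)) := by group
        _ = x' * (e : Γ)⁻¹ * x'⁻¹ * ((x' * c) * (e : Γ) * (c⁻¹ * x'⁻¹)) := by rw [h3, h4]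
        _ = _ := by group
    rw [e2] at h2
    have h3 := Q1.mul_mem h2 (hRQ1 h1)
    convert h3 using 1
    simp [mul_assoc]
  have hZR : Z ≤ R := fun z hz => mem_rad.mpr ⟨S.le hz, fun t ht => by
    rw [commutatorElement_eq_one_iff_mul_comm.mpr (S.central z hz t ht)]; exact (ch_mul ρ hW).1⟩
  -- characters of the radical
  set R' := R.subgroupOf Γω
  set Q1' := Q1.subgroupOf Γω
  set X : Γω := ⟨x', hx'S⟩
  have htop : ⨆ χ : Γω → K, chEigen ρW R' χ = ⊤ := by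
    refine iSup_chEigen_eq_top ρW R' (fun a ha b hb => ?_) ?_
    · refine LinearMap.ext fun v => Subtype.ext ?_
      rw [Module.End.mul_apply, Module.End.mul_apply, coe_restr, coe_restr, coe_restr, coe_restr]
      have hb : (b : Γ) ∈ R := hb
      have ha : (a : Γ) ∈ R := ha
      have hc' : ⁅(a : Γ), (b : Γ)⁆ ∈ Z := S.comm _ (hRQ hb) _ (hRQ ha)
      have h2 : ρ ((a : Γ) * b) = ρ ⁅(a : Γ), (b : Γ)⁆ * ρ ((b : Γ) * a) := by
        rw [← map_mul]; congr 1; simp only [commutatorElement_def]; group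
      rw [← Module.End.mul_apply, ← map_mul, h2, Module.End.mul_apply,
        (mem_chEigen ρ).mp (apply_mem_chEigen ρ (hQS (Q.mul_mem (hRQ hb) (hRQ ha))).2.1
          (hQS (Q.mul_mem (hRQ hb) (hRQ ha))).2.2 v.2) _ hc',
        (mem_rad.mp hb).2 _ (hRQ ha), one_smul, map_mul, Module.End.mul_apply]
    · refine hpK _ fun hd => S.coprime ?_
      rw [Nat.card_congr (Subgroup.subgroupOfEquivOfLe (hRQ.trans hQS)).toEquiv] at hd
      exact hd.trans (Subgroup.card_dvd_of_le hRQ)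
  obtain ⟨χ, hχ⟩ : ∃ χ : Γω → K, chEigen ρW R' χ ≠ ⊥ := by
    by_contra hcon
    push Not at hcon
    exact bot_ne_top (α := Submodule K W) (by rw [← htop]; simp [hcon])
  have hXn : X ∈ Subgroup.normalizer (R' : Set Γω) := by
    refine Subgroup.mem_normalizer_iff.mpr fun a => ⟨fun ha => hconjR _ hx'S _ ha, fun ha => ?_⟩
    have := hconjR _ (inv_mem hx'S) _ (show x' * (a : Γ) * x'⁻¹ ∈ R from ha)
    show (a : Γ) ∈ R
    simpa [mul_assoc] using this
  have hXh : X ^ p ^ (m - j + 1) = 1 := Subtype.ext (by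
    show x' ^ p ^ (m - j + 1) = 1
    rw [hx'def, ← pow_mul, ← pow_add, show j + (m - j + 1) = m + 1 by omega, hx])
  obtain ⟨i, him, hi, hiker⟩ := orbit_bound ρW R' hXn hXh hχ (s := h - 1) (hnil _ (by
    rw [Nat.mul_sub_one, hpm]
    have : p ^ j ≤ p ^ (m + 1) := Nat.pow_le_pow_right hp.out.pos (by omega)
    have := pow_pos hp.out.pos j
    omega)) le_rfl
  set k := m - j - i + 1 with hk
  have hji : m + 1 - k = j + i := by omega
  have hkm : k ≤ m + 1 := by omega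
  have hk0 : k ≠ 0 := by omega
  have hpk : p ^ i * p ^ k = h := by rw [hh, ← pow_add]; congr 1; omega
  -- `χ` extends `ω`
  obtain ⟨u0, hu0, hu01⟩ := (Submodule.ne_bot_iff _).mp hχ
  have hχZ : ∀ z : Γω, (z : Γ) ∈ Z → χ z = ω (z : Γ) := fun z hz => by
    have h1 := congrArg Subtype.val ((mem_chEigen ρW).mp hu0 z (hZR hz))
    rw [coe_restr, (mem_chEigen ρ).mp u0.2 _ hz] at h1
    exact (smul_left_injective K (fun e => hu01 (Subtype.ext e) : (u0 : V) ≠ 0) h1).symm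
  have hQ1'S : Q1' ≤ stab Q1' R' χ := by
    intro g hg
    have hgR : ∀ r ∈ R', g * r * g⁻¹ ∈ R' := fun r hr => hconjR _ (hQS (hQ1Q hg)) _ hr
    refine mem_stab.mpr ⟨Subgroup.le_normalizer hg, Subgroup.mem_normalizer_iff.mpr fun r => ⟨hgR r, fun hr => ?_⟩, fun r hr => ?_⟩
    · have := hconjR _ (hQS (Q.inv_mem (hQ1Q hg))) _ (show (g : Γ) * r * (g : Γ)⁻¹ ∈ R from hr)
      show (r : Γ) ∈ R
      simpa [mul_assoc] using this
    · have hr0 : (r : Γ) ∈ R := hr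
      have hg0 : (g : Γ) ∈ Q1 := hg
      have hw1 : ω ⁅(g : Γ), (r : Γ)⁆ = 1 := (mem_rad.mp hr0).2 _ (hQ1Q hg0)
      have hz : (⁅g, r⁆ : Γω).1 ∈ Z := S.comm _ (hRQ hr) _ (hQ1Q hg)
      rw [show g * r * g⁻¹ = ⁅g, r⁆ * r by simp only [commutatorElement_def]; group,
        (ch_mul ρW hχ).2 _ (show ⁅g, r⁆ ∈ R' from hZR hz) _ hr, hχZ _ hz,
        show ((⁅g, r⁆ : Γω) : Γ) = ⁅(g : Γ), (r : Γ)⁆ from rfl, hw1, one_mul]
  have hXQ1 : X ∈ Subgroup.normalizer (Q1' : Set Γω) := by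
    have hmap : Q1.map (MulAut.conj x').toMonoidHom = Q1 := by
      refine Subgroup.eq_of_le_of_card_ge ?_ (Subgroup.card_map_of_injective (MulAut.conj x').injective).ge
      rintro _ ⟨g, hg, rfl⟩
      exact hx'Q1 g hg
    refine Subgroup.mem_normalizer_iff.mpr fun g => ⟨fun hg => hx'Q1 _ hg, fun hg => ?_⟩
    have hg' : x' * (g : Γ) * x'⁻¹ ∈ Q1 := hg
    rw [← hmap] at hg'
    obtain ⟨g', hg'', e⟩ := hg'
    rw [MulEquiv.coe_toMonoidHom, MulAut.conj_apply] at e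
    show (g : Γ) ∈ Q1
    rwa [show (g : Γ) = g' by simpa using e.symm]
  set Γ2 := stab Q1' R' χ with hΓ2
  set ρ2 := restr (ρ := ρW) Q1' R' χ with hρ2
  set y : Γ2 := ⟨X ^ p ^ i, mem_stab.mpr ⟨Subgroup.pow_mem _ hXQ1 _, Subgroup.pow_mem _ hXn _, hi⟩⟩ with hy
  have hyh : y ^ p ^ k = 1 := Subtype.ext (by
    show (X ^ p ^ i) ^ p ^ k = 1
    rw [← pow_mul, hpk, hh, hXh])
  haveI : Nontrivial ↥(chEigen ρW R' χ) := Submodule.nontrivial_iff_ne_bot.mpr hχ
  have hnorm2 : ∀ (A : Subgroup Γω), X ∈ Subgroup.normalizer (A : Set Γω) →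
      y ∈ Subgroup.normalizer ((A.subgroupOf Γ2 : Subgroup Γ2) : Set Γ2) := fun A hA =>
    Subgroup.mem_normalizer_iff.mpr fun g =>
      Subgroup.mem_normalizer_iff.mp (Subgroup.pow_mem _ hA (p ^ i)) (g : Γω)
  have hρ2sub : ∀ (n : ℕ) (v : ↥(chEigen ρW R' χ)),
      ((((ρ2 y - 1) ^ n) v : ↥(chEigen ρW R' χ)) : W) = ((ρW (X ^ p ^ i) - 1) ^ n) v := by
    intro n
    induction n with
    | zero => intro v; rfl
    | succ n ih =>
      intro v
      rw [pow_succ, Module.End.mul_apply, pow_succ, Module.End.mul_apply, ih]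
      congr 1
  have hnil2 : ∀ s' r, (ρW X - 1) ^ s' = 0 → s' ≤ p ^ i * r + (p ^ i - 1) → (ρ2 y - 1) ^ r = 0 :=
    fun s' r hs' hr => LinearMap.ext fun v => Subtype.ext (by
      rw [hρ2sub]; exact hiker s' r hs' hr v v.2)
  have hfree2 : ∀ t, 0 < t → t < p ^ k → ∀ g ∈ Q1'.subgroupOf Γ2,
      g⁻¹ * (y ^ t * g * (y ^ t)⁻¹) ∈ R'.subgroupOf Γ2 → g ∈ R'.subgroupOf Γ2 := by
    intro t ht htk g hg hgt
    refine hfpf _ hg ?_
    -- `c` is a power of `y ^ t`
    set z : Γ := ((((y ^ t : Γ2)) : Γω) : Γ) with hz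
    obtain ⟨a, u, hu, e⟩ := Nat.exists_eq_pow_mul_and_not_dvd ht.ne' p hp.out.ne_one
    have hak : a < k := by
      by_contra hak
      have h1 : p ^ k ≤ p ^ a := Nat.pow_le_pow_right hp.out.pos (not_lt.mp hak)
      have h2 : p ^ a ≤ p ^ a * u := Nat.le_mul_of_pos_right _ (Nat.pos_of_ne_zero fun e0 => hu (e0 ▸ dvd_zero p))
      omega
    have hz1 : z = (x' ^ (p ^ i * p ^ a)) ^ u := by
      rw [hz, e]
      simp [hy, X, ← pow_mul, mul_assoc]
    have hord : orderOf (x' ^ (p ^ i * p ^ a)) ∣ p ^ k := by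
      refine orderOf_dvd_of_pow_eq_one ?_
      rw [← pow_mul, show p ^ i * p ^ a * p ^ k = h * p ^ a by rw [← hpk]; ring, pow_mul,
        show x' ^ h = 1 from congrArg Subtype.val hXh, one_pow]
    obtain ⟨n, hn⟩ : ∃ n : ℕ, z ^ n = x' ^ (p ^ i * p ^ a) := by
      rw [hz1]
      exact exists_pow_eq_self_of_coprime ((((hp.out.coprime_iff_not_dvd.mpr hu).symm.pow_right k)).coprime_dvd_right hord)
    have hc : c = z ^ (n * p ^ (k - 1 - a)) := by
      rw [pow_mul, hn, ← pow_mul, hcx']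
      congr 1
      rw [← pow_add, ← pow_add]; congr 1; omega
    have hzS : z ∈ Γω := ((y ^ t : Γ2) : Γω).2
    have hpow : ∀ N : ℕ, (g : Γω).1⁻¹ * (z ^ N * (g : Γω).1 * (z ^ N)⁻¹) ∈ R := by
      intro N
      induction N with
      | zero => simp
      | succ N ih =>
        have h1 : (g : Γω).1⁻¹ * (z * (g : Γω).1 * z⁻¹) ∈ R := hgt
        have h2 := R.mul_mem h1 (hconjR _ hzS _ ih)
        rw [pow_succ']
        convert h2 using 1
        group
    rw [hc]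
    exact hpow _
  have hcount : ∀ r, (ρ2 y - 1) ^ r = 0 → ∃ d : ℕ, d * d = R.relIndex Q1 ∧ p ^ k ∣ d * d - 1 ∧
      d * d * p ^ k ≤ r * (p ^ k + (d * d - 1)) := by
    intro r hr
    obtain ⟨d, hd, h1, h2⟩ := HHModular.hallHigman_modular ρ2 (Q1'.subgroupOf Γ2) (R'.subgroupOf Γ2) y
      (h := p ^ k) (le_trans hp.out.two_le (Nat.le_self_pow (by omega) p)) hyh (hnorm2 _ hXQ1) (hnorm2 _ hXn)
      (fun g hg t ht => hZR (S.comm _ (hQ1Q hg) _ (hQ1Q ht))) (fun g => χ (g : Γω))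
      (fun r hr => LinearMap.ext fun v => Subtype.ext ((mem_chEigen ρW).mp v.2 _ hr))
      (fun r hr => hi _ hr)
      (fun g hg hgR => by
        obtain ⟨t, ht, hne⟩ := hnd _ hg hgR
        refine ⟨⟨⟨t, hQ1S ht⟩, hQ1'S ht⟩, ht, ?_⟩
        rw [hχZ _ (S.comm _ (hQ1Q hg) _ (hQ1Q ht))]
        exact hne)
      (fun g hg => hRQ1 hg) hfree2 hr
    refine ⟨d, ?_, h1, h2⟩
    rw [hd, Subgroup.relIndex_subgroupOf hQ1'S, Subgroup.relIndex_subgroupOf hQ1S]
  have hpi := pow_pos hp.out.pos i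
  obtain ⟨d, hd, hdvd, hineq⟩ := hcount (p ^ k - 1) (hnil2 (h - 1) _ (hnil _ (by
    rw [Nat.mul_sub_one, hpm]
    have : p ^ j ≤ p ^ (m + 1) := Nat.pow_le_pow_right hp.out.pos (by omega)
    omega)) (by
    rw [Nat.mul_sub_one, hpk]
    have : p ^ i ≤ h := hpk ▸ Nat.le_mul_of_pos_right _ (pow_pos hp.out.pos k)
    omega))
  have hd1 : 1 < d := by
    rcases Nat.lt_or_ge 1 d with hlt | hle
    · exact hlt
    exfalso
    interval_cases d
    · exact absurd hd.symm (Subgroup.index_ne_zero_of_finite (H := R.subgroupOf Q1))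
    · exact hQ1R (le_antisymm (Subgroup.relIndex_eq_one.mp (by rw [← hd])) hRQ1)
  obtain ⟨hde, hmin⟩ : d + 1 = p ^ k ∧ ∀ r, d * d * p ^ k ≤ r * (p ^ k + (d * d - 1)) → p ^ k - 1 ≤ r :=
    arith hp.out hp2 (by omega) hd1 hdvd hineq
  obtain ⟨b, hqd⟩ : ∃ b, d = q ^ b := by
    obtain ⟨e, he⟩ := IsPGroup.iff_card.mp (hQ.to_le hQ1Q)
    have h1 : d ∣ q ^ e := he ▸ (Dvd.intro _ hd).trans (Subgroup.relIndex_dvd_card R Q1)
    obtain ⟨b, -, hb⟩ := (Nat.dvd_prime_pow hq.out).mp h1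
    exact ⟨b, hb⟩
  have hb0 : b ≠ 0 := fun e => by rw [e, pow_zero] at hqd; omega
  have hcat := Cfsg.Agent.S3784.result p q k b hp.out hq.out (by omega) (Nat.pos_of_ne_zero hb0)
    (by rw [← hqd, hde])
  obtain ⟨hq2, hk2⟩ : q = 2 ∧ (k = 1 ∨ p = 3 ∧ k = 2) := by
    rcases hcat with ⟨h2, -⟩ | ⟨h2, h1, -⟩ | ⟨h9, h8⟩
    · exact absurd h2 hp2
    · exact ⟨h2, Or.inl h1⟩
    · have h3 : p = 3 := (Nat.prime_dvd_prime_iff_eq hp.out Nat.prime_three).mp
        (hp.out.dvd_of_dvd_pow (n := 2) (by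
          rw [show 3 ^ 2 = p ^ k from h9.symm]; exact dvd_pow_self p (by omega)))
      refine ⟨(Nat.prime_dvd_prime_iff_eq hq.out Nat.prime_two).mp (hq.out.dvd_of_dvd_pow (n := 3) (by
          rw [show 2 ^ 3 = q ^ b from h8.symm]; exact dvd_pow_self q hb0)), Or.inr ⟨h3, ?_⟩⟩
      subst h3
      exact Nat.pow_right_injective (by norm_num) (show 3 ^ k = 3 ^ 2 by rw [h9])
  subst hq2
  refine ⟨k, b, hk2, hkm, by rw [← hqd, hde], rfl, ?_, ?_, Q1, hRQ1, hQ1Q, hQ1c, by rw [← hqd, hd]⟩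
  · -- the degree
    by_contra hlt
    push Not at hlt
    rw [hji] at hlt
    set r := p ^ k - 2
    have hk2le : 2 ≤ p ^ k := le_trans hp.out.two_le (Nat.le_self_pow hk0 p)
    have e1 : p ^ (m + 1) = p ^ (j + i) * p ^ k := by rw [← pow_add, ← hji, Nat.sub_add_cancel hkm]
    have e2 : p ^ j * (p ^ i * r + (p ^ i - 1)) + (p ^ j - 1) = p ^ (j + i) * r + (p ^ (j + i) - 1) := by
      rw [pow_add, Nat.mul_add, Nat.mul_sub_one, ← mul_assoc]
      have : p ^ j ≤ p ^ j * p ^ i := Nat.le_mul_of_pos_right _ hpi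
      have hC := pow_pos hp.out.pos j
      clear_value r
      generalize p ^ j * p ^ i * r = A
      generalize p ^ j * p ^ i = B at this ⊢
      generalize p ^ j = C at this hC ⊢
      omega
    have hsr : s ≤ p ^ j * (p ^ i * r + (p ^ i - 1)) + (p ^ j - 1) := by
      rw [e2]
      have e3 : p ^ (m + 1) = p ^ (j + i) * r + 2 * p ^ (j + i) := by
        rw [e1, show p ^ k = r + 2 by omega]; ring
      have := pow_pos hp.out.pos (j + i)
      omega
    obtain ⟨d', hd', -, hineq'⟩ := hcount r (hnil2 _ r (hnil _ hsr) le_rfl)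
    have hdd : d' = d := Nat.mul_self_inj.mp (hd'.trans hd.symm)
    subst hdd
    have := hmin r hineq'
    omega
  · have e : x ^ p ^ (m + 1 - k) = ((X ^ p ^ i : Γω) : Γ) := by
      show _ = x' ^ p ^ i
      rw [hx'def, ← pow_mul, ← pow_add, hji]
    rw [e]; exact (X ^ p ^ i).2

end Cfsg.Agent.Grp.HHExc
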