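import Mathlib
import Cfsg.Agent.Lib.Grp.HHExceptional
import Cfsg.Agent.S3736
import Cfsg.Agent.S0094

/-!
Hall-Higman Theorem B: outside the exceptional case an element of `p`-power order with vanishing norm
has its element of order `p` centralize every normalized `q`-group.
-/

set_option autoImplicit false
set_option linter.style.haveILetI false
set_option linter.unusedSectionVars false

namespace Cfsg.Agent.Grp.HHExc

open Module
open scoped commutatorElement TensorProduct

theorem geom_eq_pow_sub_one {R : Type*} [Ring R] {p : ℕ} [hp : Fact p.Prime] [Algebra (ZMod p) R] (T : R) (e : ℕ) :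
    (T - 1) ^ (p ^ e - 1) = ∑ i ∈ Finset.range (p ^ e), T ^ i := by
  have hd := geom_sum_mul (Polynomial.X : Polynomial (ZMod p)) (p ^ e)
  have h5 : ((Polynomial.X : Polynomial (ZMod p)) - 1) ^ (p ^ e - 1) =
      ∑ i ∈ Finset.range (p ^ e), (Polynomial.X : Polynomial (ZMod p)) ^ i := by
    have hX : (Polynomial.X : Polynomial (ZMod p)) - 1 ≠ 0 := Polynomial.X_sub_C_ne_zero 1
    refine mul_right_cancel₀ hX ?_
    rw [hd, ← pow_succ, show p ^ e - 1 + 1 = p ^ e by have := pow_pos hp.out.pos e; omega,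
      sub_pow_char_pow, one_pow]
  simpa using congrArg (Polynomial.aeval T) h5

section faithful

variable {K : Type*} [Field K] [IsAlgClosed K] {V : Type*} [AddCommGroup V] [Module K V]
  [FiniteDimensional K V] {Γ : Type*} [Group Γ] [Finite Γ]

theorem commute_of_injective {p q : ℕ} [hp : Fact p.Prime] [hq : Fact q.Prime] [CharP K p]
    (hp2 : p ≠ 2) (hpq : p ≠ q) {ρ : Γ →* Module.End K V} (hρ : Function.Injective ρ) {Q : Subgroup Γ}
    (hQ : IsPGroup q Q) {x : Γ} (hxQ : x ∈ Subgroup.normalizer (Q : Set Γ)) {m : ℕ}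
    (hx : x ^ p ^ (m + 1) = 1) {s : ℕ} (hs : (ρ x - 1) ^ s = 0) (hsm : s ≤ p ^ (m + 1) - 1)
    (hexc : (¬ ∃ k, p = 2 ^ k + 1) ∨ q ≠ 2 ∨ IsMulCommutative Q ∨ s < p ^ (m + 1) - p ^ m) :
    ∀ g ∈ Q, x ^ p ^ m * g * (x ^ p ^ m)⁻¹ = g := by
  classical
  set c := x ^ p ^ m with hcdef
  set A := Subgroup.zpowers c with hA
  have hcp : c ^ p = 1 := by rw [hcdef, ← pow_mul, ← pow_succ, hx]
  suffices hgoal : ⁅Q, A⁆ = ⊥ by
    intro g hg
    rw [Subgroup.commutator_eq_bot_iff_le_centralizer] at hgoal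
    exact mul_inv_eq_iff_eq_mul.mpr (Subgroup.mem_centralizer_iff.mp (hgoal hg) c (Subgroup.mem_zpowers c))
  by_contra hnt
  obtain ⟨P0, ⟨hP0Q, hxP0, hP0nt⟩, hP0min⟩ := (Set.toFinite
    {U : Subgroup Γ | U ≤ Q ∧ x ∈ Subgroup.normalizer (U : Set Γ) ∧ ⁅U, A⁆ ≠ ⊥}).exists_minimal
      ⟨Q, le_rfl, hxQ, hnt⟩
  have hP0 : IsPGroup q P0 := hQ.to_le hP0Q
  have hAX : A ≤ Subgroup.zpowers x := Subgroup.zpowers_le.mpr (Subgroup.pow_mem _ (Subgroup.mem_zpowers x) _)
  obtain ⟨hPA, hstruct, -, -⟩ := Cfsg.Agent.S3736.result (p := q) (Subgroup.zpowers x) A P0 hP0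
    (Subgroup.zpowers_le.mpr hxP0) hAX (Subgroup.zpowers_le.mpr (Subgroup.mem_normalizer_iff.mpr fun y => by
      have hxc : Commute x c := by rw [hcdef]; exact Commute.self_pow x _
      constructor <;> intro hy
      · obtain ⟨i, rfl⟩ := Subgroup.mem_zpowers_iff.mp hy
        rw [(hxc.zpow_right i).eq, mul_inv_cancel_right]
        exact Subgroup.zpow_mem _ (Subgroup.mem_zpowers c) i
      · obtain ⟨i, hi⟩ := Subgroup.mem_zpowers_iff.mp hy
        have : y = c ^ i := by
          rw [show y = x⁻¹ * (x * y * x⁻¹) * x by group, ← hi, mul_assoc, ← (hxc.zpow_right i).eq,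
            inv_mul_cancel_left]
        rw [this]; exact Subgroup.zpow_mem _ (Subgroup.mem_zpowers c) i))
    (by
      rw [hA, Nat.card_zpowers]
      exact (((Nat.coprime_primes hp.out hq.out).mpr hpq)).coprime_dvd_left (orderOf_dvd_of_pow_eq_one hcp))
    hP0nt (fun U hU hB => by
      by_contra h
      exact hU.not_ge (hP0min ⟨hU.le.trans hP0Q, hB (Subgroup.mem_zpowers x), h⟩ hU.le))
  -- the centre part
  obtain ⟨Z, hS, hxZ⟩ : ∃ Z : Subgroup Γ, Setting p P0 Z ∧ x ∈ Subgroup.normalizer (Z : Set Γ) := by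
    have hcop : ¬ p ∣ Nat.card P0 := by
      obtain ⟨e, he⟩ := IsPGroup.iff_card.mp hP0
      rw [he]
      exact fun h => hpq ((Nat.prime_dvd_prime_iff_eq hp.out hq.out).mp (hp.out.dvd_of_dvd_pow h))
    rcases hstruct with hel | hspec
    · refine ⟨⊥, ⟨bot_le, fun g hg t ht => ?_, fun z hz g _ => ?_, hcop⟩, ?_⟩
      · rw [Subgroup.mem_bot, commutatorElement_eq_one_iff_mul_comm]
        exact congrArg Subtype.val (hel.1.is_comm.comm ⟨t, ht⟩ ⟨g, hg⟩)
      · rw [Subgroup.mem_bot.mp hz]; simp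
      · rw [Subgroup.normalizer_eq_top]; exact Subgroup.mem_top x
    · refine ⟨(Subgroup.center P0).map P0.subtype, ⟨Subgroup.map_subtype_le _, fun g hg t ht => ?_,
        fun z hz g hg => ?_, hcop⟩, ?_⟩
      · exact ⟨⁅(⟨t, ht⟩ : P0), ⟨g, hg⟩⁆, hspec.2.2.le (Subgroup.commutator_mem_commutator
          (Subgroup.mem_top _) (Subgroup.mem_top _)), by simp [commutatorElement_def]⟩
      · obtain ⟨z', hz', rfl⟩ := hz
        exact congrArg Subtype.val (Subgroup.mem_center_iff.mp hz' ⟨g, hg⟩)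
      · refine Cfsg.Agent.Grp.mem_normalizer_of_map_eq.mpr ?_
        let e : P0 ≃* P0 := ((MulAut.conj x).subgroupMap P0).trans
          (MulEquiv.subgroupCongr (Cfsg.Agent.Grp.mem_normalizer_of_map_eq.mp hxP0))
        have he : (Subgroup.center P0).map e.toMonoidHom = Subgroup.center P0 :=
          Subgroup.characteristic_iff_map_eq.mp inferInstance e
        conv_rhs => rw [← he]
        rw [Subgroup.map_map, Subgroup.map_map]
        rfl
  have hZcard : (Nat.card Z : K) ≠ 0 := fun e =>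
    hS.coprime (((CharP.cast_eq_zero_iff K p _).mp e).trans (Subgroup.card_dvd_of_le hS.le))
  have htop := iSup_chEigen_eq_top ρ Z (fun a ha b hb => by
    rw [← map_mul, ← map_mul, hS.central b hb a (hS.le ha)]) hZcard
  refine hP0nt ?_
  rw [Subgroup.commutator_eq_bot_iff_le_centralizer]
  intro g hg
  refine Subgroup.mem_centralizer_iff.mpr fun a ha => ?_
  suffices h : c * g * c⁻¹ = g by
    have hcg : Commute c g := mul_inv_eq_iff_eq_mul.mp h
    obtain ⟨i, rfl⟩ := Subgroup.mem_zpowers_iff.mp ha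
    exact (hcg.zpow_left i).eq
  apply hρ
  rw [← LinearMap.eqLocus_eq_top, eq_top_iff, ← htop]
  refine iSup_le fun ω => ?_
  rcases eq_or_ne (chEigen ρ Z ω) ⊥ with hb | hW
  · rw [hb]; exact bot_le
  intro v hv
  obtain ⟨-, hfix, hdich⟩ := section_dichotomy (q := q) hp2 hS hP0 hxP0 hxZ hx hs hsm hW
  refine hfix g ?_ v hv
  -- `P0` lies in the radical
  suffices hall : ∀ t ∈ P0, t⁻¹ * (c * t * c⁻¹) ∈ rad hS hW by
    have hle : ⁅P0, A⁆ ≤ rad hS hW := by
      rw [Subgroup.commutator_le]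
      intro t ht a ha
      have hnat : ∀ i : ℕ, ∀ t ∈ P0, t⁻¹ * (c ^ i * t * (c ^ i)⁻¹) ∈ rad hS hW := by
        intro i
        induction i with
        | zero => intro t _; simp
        | succ i ih =>
          intro t ht
          have ht' : c ^ i * t * (c ^ i)⁻¹ ∈ P0 :=
            (Subgroup.mem_normalizer_iff.mp (Subgroup.pow_mem _ (Subgroup.pow_mem _ hxP0 _) _) t).mp ht
          have := (rad hS hW).mul_mem (ih t ht) (hall _ ht')
          convert this using 1
          rw [pow_succ']; group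
      obtain ⟨i, rfl⟩ := (isOfFinOrder_of_finite c).mem_powers_iff_mem_zpowers.mpr ha
      have ht' := hnat i _ (P0.inv_mem ht)
      convert ht' using 1
      simp only [commutatorElement_def]; group
    exact hle (hPA.symm ▸ hg)
  rcases hdich with h | ⟨k, b, hk, hkm, hpk, hq2, hdeg, -, Q1, hR1, hQ1, -, hcard⟩
  · exact h
  exfalso
  rcases hexc with hF | hq' | hab | hlt
  · rcases hk with rfl | ⟨h3, -⟩
    · exact hF ⟨b, by rwa [pow_one] at hpk⟩
    · exact hF ⟨1, by omega⟩
  · exact hq' hq2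
  · -- an abelian group is its own radical
    have hle : Q1 ≤ rad hS hW := fun t ht => mem_rad.mpr ⟨hQ1 ht, fun u hu => by
      rw [commutatorElement_eq_one_iff_mul_comm.mpr
        (congrArg Subtype.val (hab.is_comm.comm ⟨u, hP0Q hu⟩ ⟨t, hP0Q (hQ1 ht)⟩)), (ch_mul ρ hW).1]⟩
    rw [Subgroup.relIndex_eq_one.mpr hle] at hcard
    have hb0 : b = 0 := by
      by_contra hb0
      have : 2 ≤ 2 ^ b := Nat.le_self_pow hb0 2
      nlinarith
    rw [hb0, pow_zero] at hpk
    have h2 : p ^ k = 2 := by omega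
    rcases hk with rfl | ⟨h3, rfl⟩
    · rw [pow_one] at h2; exact hp2 h2
    · rw [h3] at h2; norm_num at h2
  · have : p ^ (m + 1 - k) ≤ p ^ m := Nat.pow_le_pow_right hp.out.pos (by rcases hk with rfl | ⟨-, rfl⟩ <;> omega)
    omega

end faithful

section general

variable {K : Type*} [Field K] [IsAlgClosed K] {V : Type*} [AddCommGroup V] [Module K V]
  [FiniteDimensional K V] {Γ : Type*} [Group Γ] [Finite Γ]

/-- Hall-Higman Theorem B. -/
theorem commute_of_norm {p q : ℕ} [hp : Fact p.Prime] [hq : Fact q.Prime] [CharP K p]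
    (hp2 : p ≠ 2) (hpq : p ≠ q) (ρ : Γ →* Module.End K V) {Q : Subgroup Γ} (hQ : IsPGroup q Q) {x : Γ}
    (hxQ : x ∈ Subgroup.normalizer (Q : Set Γ)) {m : ℕ} (hx : x ^ p ^ (m + 1) = 1) {s : ℕ}
    (hs : (ρ x - 1) ^ s = 0) (hsm : s ≤ p ^ (m + 1) - 1)
    (hexc : (¬ ∃ k, p = 2 ^ k + 1) ∨ q ≠ 2 ∨ IsMulCommutative Q ∨ s < p ^ (m + 1) - p ^ m) :
    ∀ g ∈ Q, ρ (x ^ p ^ m * g * (x ^ p ^ m)⁻¹) = ρ g := by
  intro g hg
  have hcomap : ∃ (Γ' : Type _) (_ : Group Γ') (_ : Finite Γ') (π : Γ →* Γ') (ρ' : Γ' →* Module.End K V),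
      Function.Injective ρ' ∧ ∀ a, ρ' (π a) = ρ a :=
    ⟨Γ ⧸ ρ.ker, inferInstance, inferInstance, QuotientGroup.mk' ρ.ker,
      QuotientGroup.lift ρ.ker ρ le_rfl, by
        intro u w huw
        obtain ⟨a, rfl⟩ := QuotientGroup.mk'_surjective ρ.ker u
        obtain ⟨b, rfl⟩ := QuotientGroup.mk'_surjective ρ.ker w
        rw [QuotientGroup.mk'_apply, QuotientGroup.mk'_apply, QuotientGroup.lift_mk, QuotientGroup.lift_mk] at huw
        rw [QuotientGroup.mk'_apply, QuotientGroup.mk'_apply, QuotientGroup.eq, MonoidHom.mem_ker, map_mul,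
          ← huw, ← map_mul, inv_mul_cancel, map_one],
      fun a => QuotientGroup.lift_mk _ _ a⟩
  obtain ⟨Γ', _, _, π, ρ', hinj, hπ⟩ := hcomap
  have hab : IsMulCommutative Q → IsMulCommutative (Q.map π) := fun h => ⟨⟨by
    rintro ⟨_, a, ha, rfl⟩ ⟨_, b, hb, rfl⟩
    refine Subtype.ext ?_
    show π a * π b = π b * π a
    rw [← map_mul, ← map_mul]
    exact congrArg π (congrArg Subtype.val (h.is_comm.comm ⟨a, ha⟩ ⟨b, hb⟩))⟩⟩
  have hxN : π x ∈ Subgroup.normalizer ((Q.map π : Subgroup Γ') : Set Γ') :=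
    Subgroup.le_normalizer_map π ⟨x, hxQ, rfl⟩
  have hxm : π x ^ p ^ (m + 1) = 1 := by rw [← map_pow, hx, map_one]
  have hs' : (ρ' (π x) - 1) ^ s = 0 := by rw [hπ]; exact hs
  have h1 := commute_of_injective hp2 hpq hinj (hQ.map π) hxN hxm hs' hsm
    (hexc.imp_right (Or.imp_right (Or.imp_left hab))) (π g) (Subgroup.mem_map_of_mem π hg)
  rw [← map_pow, ← map_inv, ← map_mul, ← map_mul] at h1
  rw [← hπ, h1, hπ]

end general

section linearize

universe v

/-- Automorphisms of an elementary abelian `p`-group as operators over an algebraically closed field. -/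
theorem exists_linearization {p : ℕ} [hp : Fact p.Prime] {V : Type v} [CommGroup V] [Finite V]
    (hV : ∀ w : V, w ^ p = 1) :
    ∃ (W : Type v) (_ : AddCommGroup W) (_ : Module (AlgebraicClosure (ZMod p)) W)
      (_ : FiniteDimensional (AlgebraicClosure (ZMod p)) W)
      (ρ : MulAut V →* Module.End (AlgebraicClosure (ZMod p)) W), Function.Injective ρ ∧
      (∀ (φ : MulAut V) (e : ℕ), (∀ w, ∏ i ∈ Finset.range (p ^ e), (φ ^ i) w = 1) →
        (ρ φ - 1) ^ (p ^ e - 1) = 0) ∧
      (∀ (φ : MulAut V) (e : ℕ), (∀ w, (φ ^ p ^ e) (∏ i ∈ Finset.range (p ^ e), (φ ^ i) w) =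
          ∏ i ∈ Finset.range (p ^ e), (φ ^ i) w) →
        (ρ φ - 1) ^ (2 * p ^ e - 1) = 0) ∧
      ∀ l : List (MulAut V), (∀ w, l.foldr (fun φ w => φ w / w) w = 1) →
        (l.map fun φ => ρ φ - 1).prod = 0 := by
  haveI : Module (ZMod p) (Additive V) := AddCommGroup.zmodModule fun w => by
    refine Additive.toMul.injective ?_
    rw [toMul_nsmul, toMul_zero, hV]
  haveI : Module.Finite (ZMod p) (Additive V) := Module.Finite.of_finite
  let ρ0 : MulAut V →* Module.End (ZMod p) (Additive V) :=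
    { toFun := fun φ => φ.toMonoidHom.toAdditive.toZModLinearMap p
      map_one' := rfl
      map_mul' := fun _ _ => rfl }
  let K := AlgebraicClosure (ZMod p)
  refine ⟨K ⊗[ZMod p] Additive V, inferInstance, inferInstance, inferInstance,
    (Module.End.baseChangeHom (ZMod p) K (Additive V)).toMonoidHom.comp ρ0, ?_, ?_, ?_, ?_⟩
  · intro φ ψ h
    refine MulEquiv.ext fun w => ?_
    have hinj : ∀ v : Additive V, (1 : K) ⊗ₜ[ZMod p] v = 0 → v = 0 := by
      intro v hv
      let b := Module.finBasis (ZMod p) (Additive V)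
      refine b.repr.injective (Finsupp.ext fun i => (algebraMap (ZMod p) K).injective ?_)
      have h1 := congrArg (fun t => (b.baseChange K).repr t i) hv
      simp only [Module.Basis.baseChange_repr_tmul, map_zero, Finsupp.coe_zero, Pi.zero_apply] at h1
      rw [map_zero, Finsupp.coe_zero, Pi.zero_apply, map_zero, Algebra.algebraMap_eq_smul_one]
      exact h1
    have h1 : (1 : K) ⊗ₜ[ZMod p] (ρ0 φ (Additive.ofMul w)) = (1 : K) ⊗ₜ[ZMod p] (ρ0 ψ (Additive.ofMul w)) :=
      LinearMap.congr_fun h ((1 : K) ⊗ₜ[ZMod p] Additive.ofMul w)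
    have h2 := hinj _ ((TensorProduct.tmul_sub _ _ _).trans (sub_eq_zero.mpr h1))
    exact congrArg Additive.toMul (sub_eq_zero.mp h2)
  · intro φ e hφ
    have h0 : (ρ0 φ - 1) ^ (p ^ e - 1) = 0 := by
      rw [geom_eq_pow_sub_one (ρ0 φ) e]
      refine LinearMap.ext fun w => ?_
      rw [LinearMap.sum_apply, LinearMap.zero_apply, ← ofMul_one, ← hφ (Additive.toMul w), ofMul_prod]
      refine Finset.sum_congr rfl fun i _ => ?_
      rw [← map_pow]
      rfl
    have h1 := congrArg (Module.End.baseChangeHom (ZMod p) K (Additive V)) h0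
    rw [map_pow, map_sub, map_one, map_zero] at h1
    exact h1
  · intro φ e hφ
    have hfrob : (ρ0 φ - 1) ^ p ^ e = ρ0 φ ^ p ^ e - 1 := by
      have h5 : ((Polynomial.X : Polynomial (ZMod p)) - 1) ^ p ^ e = Polynomial.X ^ p ^ e - 1 := by
        rw [sub_pow_char_pow, one_pow]
      simpa using congrArg (Polynomial.aeval (ρ0 φ)) h5
    have h0 : (ρ0 φ - 1) ^ (2 * p ^ e - 1) = 0 := by
      rw [show 2 * p ^ e - 1 = p ^ e + (p ^ e - 1) by have := pow_pos hp.out.pos e; omega, pow_add, hfrob,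
        geom_eq_pow_sub_one (ρ0 φ) e, sub_mul, one_mul, sub_eq_zero]
      refine LinearMap.ext fun w => ?_
      rw [Module.End.mul_apply]
      have hN : (∑ i ∈ Finset.range (p ^ e), ρ0 φ ^ i) w =
          Additive.ofMul (∏ i ∈ Finset.range (p ^ e), (φ ^ i) (Additive.toMul w)) := by
        rw [LinearMap.sum_apply, ofMul_prod]
        refine Finset.sum_congr rfl fun i _ => ?_
        rw [← map_pow]
        rfl
      rw [hN, ← map_pow]
      show Additive.ofMul ((φ ^ p ^ e) (∏ i ∈ Finset.range (p ^ e), (φ ^ i) (Additive.toMul w))) = _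
      rw [hφ]
    have h1 := congrArg (Module.End.baseChangeHom (ZMod p) K (Additive V)) h0
    rw [map_pow, map_sub, map_one, map_zero] at h1
    exact h1
  · intro l hl
    have h0 : ∀ (l : List (MulAut V)) (w : V), (l.map fun φ => ρ0 φ - 1).prod (Additive.ofMul w) =
        Additive.ofMul (l.foldr (fun φ w => φ w / w) w) := by
      intro l
      induction l with
      | nil => intro w; rfl
      | cons φ l ihl =>
        intro w
        rw [List.map_cons, List.prod_cons, Module.End.mul_apply, ihl, List.foldr_cons, LinearMap.sub_apply,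
          Module.End.one_apply, ofMul_div]
        rfl
    have h1 : (l.map fun φ => ρ0 φ - 1).prod = 0 := LinearMap.ext fun w => by
      rw [← ofMul_toMul w, h0, hl]; rfl
    have h2 := congrArg (Module.End.baseChangeHom (ZMod p) K (Additive V)) h1
    rw [map_list_prod, map_zero, List.map_map] at h2
    refine Eq.trans ?_ h2
    refine congrArg List.prod (List.map_congr_left fun φ _ => ?_)
    rw [Function.comp_apply, map_sub, map_one]
    rfl

end linearize

end Cfsg.Agent.Grp.HHExc
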