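import Mathlib
import Cfsg.Prelude.Def_Transfer
import Cfsg.Agent.Lib.Transfer.NormalSteps
import Cfsg.Agent.S0130

/-!
# Normal elementary abelian subgroups of order `p²` in groups of rank at least three
-/

set_option autoImplicit false

namespace Cfsg.Agent.Grp.RankThree

open Cfsg.Agent.Transfer
open scoped commutatorElement

variable {P : Type*} [Group P] [Finite P] {p : ℕ} [hp : Fact p.Prime]

theorem central_of_card_le (hP : IsPGroup p P) {U : Subgroup P} [U.Normal] (hU : Nat.card U ≤ p) :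
    U ≤ Subgroup.center P := by
  rcases eq_or_ne U ⊥ with rfl | hne
  · exact bot_le
  obtain ⟨L, -, -, hLU, hLc, hcom⟩ := NormalSteps.exists_normal_step hP (M := (⊥ : Subgroup P)) (N := U) (bot_lt_iff_ne_bot.mpr hne)
  rw [Subgroup.card_bot, mul_one] at hLc
  have hLU' : L = U := Subgroup.eq_of_le_of_card_ge hLU (hLc ▸ hU)
  intro x hx
  rw [Subgroup.mem_center_iff]
  intro g
  have h1 : g * x * g⁻¹ * x⁻¹ = 1 := by
    have := Subgroup.mem_bot.mp (hcom g x (hLU'.symm ▸ hx))
    rwa [commutatorElement_def] at this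
  exact mul_inv_eq_iff_eq_mul.mp (mul_inv_eq_one.mp h1)

/-- The centraliser of an abelian normal subgroup of order at most `p²` has index at most `p`. -/
theorem index_centralizer_le (hP : IsPGroup p P) {U : Subgroup P} [U.Normal] (hUc : IsMulCommutative U)
    (hU : Nat.card U ≤ p ^ 2) : (Subgroup.centralizer (U : Set P)).index ≤ p := by
  classical
  obtain ⟨k, hk⟩ := IsPGroup.iff_card.mp (hP.to_subgroup U)
  by_cases hsmall : Nat.card U ≤ p
  · have h1 : Subgroup.centralizer (U : Set P) = ⊤ := eq_top_iff.mpr fun g _ =>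
      Subgroup.mem_centralizer_iff.mpr fun u hu => (Subgroup.mem_center_iff.mp (central_of_card_le hP hsmall hu) g).symm
    rw [h1, Subgroup.index_top]
    exact hp.out.one_lt.le
  have hk2 : k = 2 := by
    rw [hk] at hU hsmall
    have h1 : k ≤ 2 := (Nat.pow_le_pow_iff_right hp.out.one_lt).mp hU
    have h2 : ¬ k ≤ 1 := fun h => hsmall (le_trans (Nat.pow_le_pow_right hp.out.pos h) (pow_one p).le)
    omega
  subst hk2
  have hUne : U ≠ ⊥ := fun e => hsmall (by rw [e, Subgroup.card_bot]; exact hp.out.one_lt.le)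
  obtain ⟨W, hWn, -, hWU, hWc, hcomW⟩ := NormalSteps.exists_normal_step hP (M := (⊥ : Subgroup P)) (N := U)
    (bot_lt_iff_ne_bot.mpr hUne)
  rw [Subgroup.card_bot, mul_one] at hWc
  have hWz := central_of_card_le (U := W) hP hWc.le
  obtain ⟨L, hLn, hWL, hLU, hLc, hcom⟩ := NormalSteps.exists_normal_step hP (M := W) (N := U)
    (lt_of_le_of_ne hWU fun e => hsmall (e ▸ hWc.le))
  have hLU' : L = U := Subgroup.eq_of_le_of_card_ge hLU (by rw [hLc, hWc, hk, pow_two])
  obtain ⟨a, ha, haW⟩ := SetLike.exists_of_lt hWL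
  let φ : P →* W := MonoidHom.mk' (fun g => ⟨⁅g, a⁆, hcom g a ha⟩) fun g h => by
    refine Subtype.ext ?_
    show ⁅g * h, a⁆ = ⁅g, a⁆ * ⁅h, a⁆
    have h1 := Subgroup.mem_center_iff.mp (hWz (hcom h a ha))
    calc ⁅g * h, a⁆ = g * ⁅h, a⁆ * g⁻¹ * ⁅g, a⁆ := by simp only [commutatorElement_def]; group
      _ = ⁅h, a⁆ * ⁅g, a⁆ := by rw [h1 g, mul_inv_cancel_right]
      _ = _ := (h1 _).symm
  have hker : φ.ker ≤ Subgroup.centralizer (U : Set P) := by
    intro g hg
    have h1 : g * a = a * g := by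
      have := congrArg Subtype.val (MonoidHom.mem_ker.mp hg)
      change ⁅g, a⁆ = 1 at this
      rw [commutatorElement_def] at this
      exact mul_inv_eq_iff_eq_mul.mp (mul_inv_eq_one.mp this)
    have h2 : W ⊔ Subgroup.zpowers a = U := by
      refine Subgroup.eq_of_le_of_card_ge (sup_le hWU (Subgroup.zpowers_le.mpr (hLU ha))) ?_
      obtain ⟨j, hj⟩ := IsPGroup.iff_card.mp (hP.to_subgroup (W ⊔ Subgroup.zpowers a))
      have hlt : W < W ⊔ Subgroup.zpowers a := lt_of_le_of_ne le_sup_left fun e =>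
        haW (e.symm ▸ (le_sup_right : Subgroup.zpowers a ≤ _) (Subgroup.mem_zpowers a))
      have h3 : Nat.card W < Nat.card (W ⊔ Subgroup.zpowers a : Subgroup P) := by
        by_contra hge
        exact hlt.ne (Subgroup.eq_of_le_of_card_ge hlt.le (not_lt.mp hge))
      rw [hWc, hj] at h3
      rw [hk, hj]
      refine Nat.pow_le_pow_right hp.out.pos ?_
      by_contra hlt2
      exact absurd h3 (not_lt.mpr (le_trans (Nat.pow_le_pow_right hp.out.pos (by omega : j ≤ 1)) (pow_one p).le))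
    have h4 : U ≤ Subgroup.centralizer ({g} : Set P) := by
      rw [← h2]
      exact sup_le (fun w hw => Subgroup.mem_centralizer_singleton_iff.mpr ((Subgroup.mem_center_iff.mp (hWz hw) g).symm))
        (Subgroup.zpowers_le.mpr (Subgroup.mem_centralizer_singleton_iff.mpr h1.symm))
    exact Subgroup.mem_centralizer_iff.mpr fun u hu => Subgroup.mem_centralizer_singleton_iff.mp (h4 hu)
  refine le_trans (Nat.le_of_dvd (Nat.pos_of_ne_zero Subgroup.index_ne_zero_of_finite) (Subgroup.index_dvd_of_le hker)) ?_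
  rw [Subgroup.index_ker]
  exact hWc ▸ Subgroup.card_le_card_group _

/-- An elementary abelian subgroup of order `p³` meets such a centraliser in order at least `p²`. -/
theorem card_inf_centralizer_ge (hP : IsPGroup p P) {U E : Subgroup P} [U.Normal] (hUc : IsMulCommutative U)
    (hU : Nat.card U ≤ p ^ 2) (hE : p ^ 3 ≤ Nat.card E) :
    p ^ 2 ≤ Nat.card (E ⊓ Subgroup.centralizer (U : Set P) : Subgroup P) := by
  set C := Subgroup.centralizer (U : Set P)
  have h1 : Nat.card (E ⊓ C : Subgroup P) * C.relIndex E = Nat.card E := by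
    rw [← Subgroup.inf_relIndex_left E C, Subgroup.relIndex,
      ← Nat.card_congr (Subgroup.subgroupOfEquivOfLe (inf_le_left : E ⊓ C ≤ E)).toEquiv]
    exact Subgroup.card_mul_index _
  have h2 : C.relIndex E ≤ p := le_trans
    (Nat.le_of_dvd (Nat.pos_of_ne_zero Subgroup.index_ne_zero_of_finite) (Subgroup.relIndex_dvd_index_of_normal C E))
    (index_centralizer_le hP hUc hU)
  by_contra hlt
  rw [← h1] at hE
  have h3 : Nat.card (E ⊓ C : Subgroup P) * C.relIndex E ≤ Nat.card (E ⊓ C : Subgroup P) * p :=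
    Nat.mul_le_mul_left _ h2
  have h4 : Nat.card (E ⊓ C : Subgroup P) * p < p ^ 2 * p := Nat.mul_lt_mul_of_pos_right (not_le.mp hlt) hp.out.pos
  rw [← pow_succ] at h4
  exact absurd (hE.trans h3) (not_le.mpr h4)

/-- A `p`-group of rank at least three has a normal elementary abelian subgroup of order `p²`. -/
theorem exists_normal_sq (hP : IsPGroup p P) {E : Subgroup P} (hEe : Cfsg.IsElementaryAbelian p E)
    (hE : p ^ 3 ≤ Nat.card E) :
    ∃ U : Subgroup P, U.Normal ∧ Cfsg.IsElementaryAbelian p U ∧ Nat.card U = p ^ 2 := by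
  classical
  haveI : Nonempty {A : Subgroup P // A.Normal ∧ IsMulCommutative A ∧ ∀ a ∈ A, a ^ p ^ 2 = 1} :=
    ⟨⟨⊥, inferInstance, ⟨⟨fun a b => Subsingleton.elim _ _⟩⟩, fun a ha => by rw [Subgroup.mem_bot.mp ha, one_pow]⟩⟩
  obtain ⟨⟨A, hAn, hAab, hAe⟩, hmax⟩ := Finite.exists_max
    (fun A : {A : Subgroup P // A.Normal ∧ IsMulCommutative A ∧ ∀ a ∈ A, a ^ p ^ 2 = 1} => Nat.card A.1)
  have := hAn
  have hAcomm : ∀ a ∈ A, ∀ b ∈ A, a * b = b * a := fun a ha b hb =>
    congrArg Subtype.val (hAab.is_comm.comm ⟨a, ha⟩ ⟨b, hb⟩)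
  let W : Subgroup P :=
    { carrier := {x | x ∈ A ∧ x ^ p = 1}
      one_mem' := ⟨one_mem _, one_pow _⟩
      mul_mem' := fun {x y} hx hy => ⟨mul_mem hx.1 hy.1, by
        rw [(show Commute x y from hAcomm x hx.1 y hy.1).mul_pow, hx.2, hy.2, one_mul]⟩
      inv_mem' := fun {x} hx => ⟨inv_mem hx.1, by rw [inv_pow, hx.2, inv_one]⟩ }
  have hWn : W.Normal := ⟨fun x hx g => ⟨hAn.conj_mem x hx.1 g, by rw [conj_pow, hx.2, mul_one, mul_inv_cancel]⟩⟩
  have hWe : Cfsg.IsElementaryAbelian p W :=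
    ⟨⟨⟨fun a b => Subtype.ext (hAcomm a a.2.1 b b.2.1)⟩⟩, fun a ha => ha.2⟩
  by_cases hW : p ^ 2 ≤ Nat.card W
  · have hp1 := hp.out.one_lt
    obtain ⟨L, hLn, -, hLW, hLc, -⟩ := NormalSteps.exists_normal_step hP (M := (⊥ : Subgroup P)) (N := W)
      (bot_lt_iff_ne_bot.2 fun h => by
        rw [h, Subgroup.card_bot] at hW
        exact absurd hW (not_le.2 (Nat.one_lt_pow (by norm_num) hp1)))
    rw [Subgroup.card_bot, mul_one] at hLc
    obtain ⟨K, hKn, -, hKW, hKc, -⟩ := NormalSteps.exists_normal_step hP (M := L) (N := W) (lt_of_le_of_ne hLW fun h => by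
      rw [← h, hLc, pow_two] at hW
      exact absurd hW (not_le.2 (lt_mul_of_one_lt_left hp.out.pos hp1)))
    exact ⟨K, hKn, ⟨⟨⟨fun a b => Subtype.ext (hAcomm a (hKW a.2).1 b (hKW b.2).1)⟩⟩, fun a ha => (hKW ha).2⟩,
      by rw [hKc, hLc, pow_two]⟩
  · exfalso
    have hWc : Nat.card W ≤ p := by
      obtain ⟨j, hj⟩ := IsPGroup.iff_card.mp (hP.to_subgroup W)
      rw [hj] at hW ⊢
      refine le_trans (Nat.pow_le_pow_right hp.out.pos (?_ : j ≤ 1)) (pow_one p).le
      by_contra h
      exact hW (Nat.pow_le_pow_right hp.out.pos (by omega))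
    -- `A` has order at most `p²`
    let f : A →* W :=
      { toFun := fun a => ⟨(a : P) ^ p, pow_mem a.2 p, by rw [← pow_mul, ← pow_two]; exact hAe a a.2⟩
        map_one' := Subtype.ext (one_pow p)
        map_mul' := fun a b => Subtype.ext ((show Commute (a : P) (b : P) from hAcomm a a.2 b b.2).mul_pow p) }
    have hker : Nat.card f.ker ≤ Nat.card W := Nat.card_le_card_of_injective
      (fun a : f.ker => (⟨((a : A) : P), (a : A).2, congrArg Subtype.val a.2⟩ : W))
      (fun a b h => Subtype.ext (Subtype.ext (congrArg (fun w : W => (w : P)) h)))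
    have hAc : Nat.card A ≤ p ^ 2 := by
      rw [← Subgroup.card_mul_index f.ker, Subgroup.index_ker, pow_two]
      exact Nat.mul_le_mul (hker.trans hWc) ((Subgroup.card_le_card_group _).trans hWc)
    have h1 := card_inf_centralizer_ge hP hAab hAc hE
    have h2 : E ⊓ Subgroup.centralizer (A : Set P) ≤ W := fun x hx =>
      ⟨S0130.result hP 2 (fun e => by
          have h5 : 2 ^ 2 ≤ p ^ 2 := Nat.pow_le_pow_left hp.out.two_le 2
          omega) A hAab hAe (fun B hBn hBc hBe hle => (Subgroup.eq_of_le_of_card_ge hle (hmax ⟨B, hBn, hBc, hBe⟩)).symm)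
        x hx.2 (by rw [pow_two, pow_mul, hEe.2 x hx.1, one_pow]), hEe.2 x hx.1⟩
    exact hW (h1.trans (Subgroup.card_le_of_le h2))

end Cfsg.Agent.Grp.RankThree
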