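import Mathlib
import Cfsg.Agent.Lib.Transfer.OmegaMetacyclic
import Cfsg.Agent.Lib.Grp.RankThreeFour

/-!
In a `p`-group of automorphisms of an elementary abelian `2`-group, `p` a Fermat prime, the elements of
order `p` moving few elements commute.
-/

set_option autoImplicit false
set_option linter.style.haveILetI false
set_option linter.unusedSectionVars false

namespace Cfsg.Agent.Grp.HHSmall

universe u v

variable {S : Type u} [CommGroup S]

/-- The displacement of an automorphism of an abelian group. -/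
def disp (φ : MulAut S) : S →* S := φ.toMonoidHom / MonoidHom.id S

theorem disp_apply (φ : MulAut S) (s : S) : disp φ s = φ s / s := rfl

/-- An element of order `p` moving few elements, or for `p = 3` a cube moving at most `2 ^ 6`. -/
def Small (p b : ℕ) {D : Type v} [Group D] (σ : D →* MulAut S) (z : D) : Prop :=
  σ z ^ p = 1 ∧ (Nat.card (disp (σ z)).range ≤ 2 ^ (2 * b) ∨
    p = 3 ∧ ∃ y : D, y ^ 3 = z ∧ Nat.card (disp (σ z)).range ≤ 2 ^ 6)

/-- The subgroup fixed by an automorphism. -/
def fix (φ : MulAut S) : Subgroup S where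
  carrier := {s | φ s = s}
  mul_mem' := fun {a b} (ha : φ a = a) (hb : φ b = b) => show φ (a * b) = a * b by rw [map_mul, ha, hb]
  one_mem' := map_one φ
  inv_mem' := fun {a} (ha : φ a = a) => show φ a⁻¹ = a⁻¹ by rw [map_inv, ha]

theorem mem_fix {φ : MulAut S} {s : S} : s ∈ fix φ ↔ φ s = s := Iff.rfl

theorem pow_apply_of_mem_fix {φ : MulAut S} {s : S} (h : s ∈ fix φ) (i : ℕ) : (φ ^ i) s = s := by
  induction i with
  | zero => rfl
  | succ i ih => rw [pow_succ, MulAut.mul_apply, mem_fix.mp h, ih]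

theorem fix_of_mem_zpowers [Finite S] {φ ψ : MulAut S} {s : S} (h : s ∈ fix φ)
    (hψ : ψ ∈ Subgroup.zpowers φ) : s ∈ fix ψ := by
  obtain ⟨i, rfl⟩ := (isOfFinOrder_of_finite φ).mem_powers_iff_mem_zpowers.mpr hψ
  exact pow_apply_of_mem_fix h i

/-- The norm of an automorphism of order `p`. -/
def proj (p : ℕ) (e : MulAut S) : S →* S := ∏ i ∈ Finset.range p, (e ^ i).toMonoidHom

theorem proj_apply (p : ℕ) (e : MulAut S) (s : S) : proj p e s = ∏ i ∈ Finset.range p, (e ^ i) s := by
  rw [proj, MonoidHom.finsetProd_apply]; rfl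

theorem apply_proj {p : ℕ} {e : MulAut S} (he : e ^ p = 1) (s : S) : e (proj p e s) = proj p e s := by
  rw [proj_apply, map_prod]
  have h1 := Finset.prod_range_succ' (fun i => (e ^ i) s) p
  rw [Finset.prod_range_succ, he] at h1
  simp only [MulAut.one_apply, pow_zero] at h1
  have h2 := mul_right_cancel h1
  rw [h2]
  exact Finset.prod_congr rfl fun i _ => by rw [pow_succ', MulAut.mul_apply]

theorem proj_of_mem_fix {p : ℕ} (hp : Odd p) (hS : ∀ s : S, s ^ 2 = 1) {e : MulAut S} {s : S}
    (h : s ∈ fix e) : proj p e s = s := by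
  rw [proj_apply, Finset.prod_congr rfl fun i _ => pow_apply_of_mem_fix h i, Finset.prod_const, Finset.card_range]
  obtain ⟨k, rfl⟩ := hp
  rw [pow_succ, pow_mul, hS, one_pow, one_mul]

theorem proj_comm {p : ℕ} {e f : MulAut S} (h : Commute e f) (s : S) : proj p e (f s) = f (proj p e s) := by
  rw [proj_apply, proj_apply, map_prod]
  exact Finset.prod_congr rfl fun i _ => by rw [← MulAut.mul_apply, (h.pow_left i).eq, MulAut.mul_apply]

/-- Two elements commuting on an invariant subgroup and on the quotient commute. -/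
theorem commute_of_series {p : ℕ} (hp : Odd p) (hS : ∀ s : S, s ^ 2 = 1) {g : MulAut S} {k : ℕ}
    (hg : g ^ p ^ k = 1) (B : Subgroup S) (h1 : ∀ s ∈ B, g s = s) (h2 : ∀ s, s⁻¹ * g s ∈ B) : g = 1 := by
  refine MulEquiv.ext fun s => ?_
  set b := s⁻¹ * g s with hb
  have hi : ∀ i : ℕ, (g ^ i) s = s * b ^ i := by
    intro i
    induction i with
    | zero => simp
    | succ i ih =>
      rw [pow_succ', MulAut.mul_apply, ih, map_mul, map_pow, h1 b (h2 s), show g s = s * b by rw [hb, mul_inv_cancel_left],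
        pow_succ', mul_assoc]
  have h3 := hi (p ^ k)
  rw [hg, MulAut.one_apply, left_eq_mul] at h3
  obtain ⟨j, hj⟩ := hp.pow (n := k)
  rw [hj, pow_succ, pow_mul, hS, one_pow, one_mul] at h3
  have := hi 1
  rw [pow_one, pow_one, h3, mul_one] at this
  exact this

variable {D : Type v} [Group D]

theorem isPGroup_range_of_ker {p : ℕ} {S' : Type*} [CommGroup S'] {D' : Type*} [Group D']
    {σ : D →* MulAut S} {σ' : D' →* MulAut S'} (ι : D' →* D) (h : IsPGroup p σ.range)
    (hker : ∀ d, σ (ι d) = 1 → σ' d = 1) : IsPGroup p σ'.range := by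
  rintro ⟨_, d, rfl⟩
  obtain ⟨k, hk⟩ := h ⟨_, ι d, rfl⟩
  refine ⟨k, Subtype.ext ?_⟩
  show σ' d ^ p ^ k = 1
  rw [← map_pow]
  refine hker _ ?_
  rw [map_pow, map_pow]
  exact congrArg Subtype.val hk

/-- The action on an invariant subgroup. -/
theorem exists_restrict (σ : D →* MulAut S) (B : Subgroup S) (hB : ∀ d, ∀ s ∈ B, σ d s ∈ B) :
    ∃ τ : D →* MulAut B, ∀ d (s : B), ((τ d s : B) : S) = σ d s := by
  let e : D → MulAut B := fun d =>
    { toFun := fun s => ⟨σ d s, hB d _ s.2⟩
      invFun := fun s => ⟨σ d⁻¹ s, hB _ _ s.2⟩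
      left_inv := fun s => Subtype.ext (by show σ d⁻¹ (σ d s) = s; rw [← MulAut.mul_apply, ← map_mul, inv_mul_cancel, map_one, MulAut.one_apply])
      right_inv := fun s => Subtype.ext (by show σ d (σ d⁻¹ s) = s; rw [← MulAut.mul_apply, ← map_mul, mul_inv_cancel, map_one, MulAut.one_apply])
      map_mul' := fun a b => Subtype.ext (by simp) }
  exact ⟨{ toFun := e
           map_one' := MulEquiv.ext fun s => Subtype.ext (by simp [e])
           map_mul' := fun a b => MulEquiv.ext fun s => Subtype.ext (by simp [e]) }, fun d s => rfl⟩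

/-- The action on the quotient by an invariant subgroup. -/
theorem exists_quotient (σ : D →* MulAut S) (B : Subgroup S) (hB : ∀ d, ∀ s ∈ B, σ d s ∈ B) :
    ∃ τ : D →* MulAut (S ⧸ B), ∀ d (s : S), τ d (s : S ⧸ B) = ((σ d s : S) : S ⧸ B) := by
  have hmap : ∀ d, B.map (σ d).toMonoidHom = B := fun d => by
    refine le_antisymm (Subgroup.map_le_iff_le_comap.mpr fun s hs => hB d s hs) fun s hs =>
      ⟨σ d⁻¹ s, hB _ _ hs, ?_⟩
    show σ d (σ d⁻¹ s) = s
    rw [← MulAut.mul_apply, ← map_mul, mul_inv_cancel, map_one, MulAut.one_apply]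
  exact ⟨{ toFun := fun d => QuotientGroup.congr B B (σ d) (hmap d)
           map_one' := MulEquiv.ext fun x => QuotientGroup.induction_on x fun s => by
             simp
           map_mul' := fun a b => MulEquiv.ext fun x => QuotientGroup.induction_on x fun s => by
             show ((σ (a * b) s : S) : S ⧸ B) = _
             rw [map_mul]; rfl }, fun d s => rfl⟩

variable [Finite S]

theorem small_commute {p b : ℕ} [hp : Fact p.Prime] (hb : b ≠ 0) (hpb : p = 2 ^ b + 1) :
    ∀ (N : ℕ) (S : Type u) [CommGroup S] [Finite S] (D : Type v) [Group D] (σ : D →* MulAut S),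
      Nat.card S ≤ N → IsPGroup p σ.range → (∀ s : S, s ^ 2 = 1) →
      ∀ z z' : D, Small p b σ z → Small p b σ z' → Commute (σ z) (σ z') := by
  intro N
  induction N with
  | zero => intro S _ _ D _ σ hN; exact absurd hN (not_le.mpr Nat.card_pos)
  | succ N ih =>
    intro S _ _ D _ σ hN hR hS2 z z' hz hz'
    have hpodd : Odd p := ⟨2 ^ (b - 1), by rw [hpb, ← pow_succ', Nat.sub_add_cancel (Nat.pos_of_ne_zero hb)]⟩
    have hp2 : p ≠ 2 := fun e => absurd (e ▸ hpodd : Odd 2) (by decide)
    classical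
    obtain ⟨g, hgdef⟩ : ∃ g, g = σ (z * z' * (z' * z)⁻¹) := ⟨_, rfl⟩
    suffices hg : g = 1 by
      rw [hgdef, map_mul, map_inv, mul_inv_eq_one, map_mul, map_mul] at hg
      exact hg
    obtain ⟨kg, hkg⟩ : ∃ k : ℕ, g ^ p ^ k = 1 := by
      obtain ⟨k, hk⟩ := hR ⟨g, hgdef ▸ ⟨_, rfl⟩⟩
      exact ⟨k, congrArg Subtype.val hk⟩
    -- an invariant proper subgroup
    by_cases hred : ∃ B : Subgroup S, (∀ d, ∀ s ∈ B, σ d s ∈ B) ∧ B ≠ ⊥ ∧ B ≠ ⊤
    · obtain ⟨B, hB, hB0, hB1⟩ := hred
      obtain ⟨τ, hτ⟩ := exists_restrict σ B hB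
      obtain ⟨υ, hυ⟩ := exists_quotient σ B hB
      have hcardB : Nat.card B < Nat.card S := lt_of_le_of_ne (Subgroup.card_le_card_group B)
        fun e => hB1 (Subgroup.eq_top_of_card_eq B e)
      have hcardQ : Nat.card (S ⧸ B) < Nat.card S := by
        rw [Subgroup.card_eq_card_quotient_mul_card_subgroup B]
        have := Subgroup.one_lt_card_iff_ne_bot B |>.mpr hB0
        exact lt_mul_of_one_lt_right Nat.card_pos this
      have smallτ : ∀ w, Small p b σ w → Small p b τ w := by
        intro w ⟨h1, h2⟩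
        have hle : Nat.card (disp (τ w)).range ≤ Nat.card (disp (σ w)).range := by
          rw [← Subgroup.card_map_of_injective (K := (disp (τ w)).range) B.subtype_injective]
          refine Nat.le_of_dvd Nat.card_pos (Subgroup.card_dvd_of_le ?_)
          rintro _ ⟨_, ⟨s, rfl⟩, rfl⟩
          exact ⟨s, by simp [disp_apply, hτ]⟩
        refine ⟨MulEquiv.ext fun s => Subtype.ext ?_, h2.imp hle.trans fun ⟨h3, y, h4, h5⟩ => ⟨h3, y, h4, hle.trans h5⟩⟩
        rw [← map_pow, hτ, map_pow, h1]; rfl
      have smallυ : ∀ w, Small p b σ w → Small p b υ w := by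
        intro w ⟨h1, h2⟩
        have hle : Nat.card (disp (υ w)).range ≤ Nat.card (disp (σ w)).range := by
          refine le_trans (Nat.le_of_dvd Nat.card_pos (Subgroup.card_dvd_of_le ?_))
            (Nat.le_of_dvd Nat.card_pos (Subgroup.card_map_dvd (disp (σ w)).range (QuotientGroup.mk' B)))
          rintro _ ⟨x, rfl⟩
          induction x using QuotientGroup.induction_on with
          | H s => exact ⟨disp (σ w) s, ⟨s, rfl⟩, by simp [disp_apply, hυ]⟩
        refine ⟨MulEquiv.ext fun x => QuotientGroup.induction_on x fun s => ?_,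
          h2.imp hle.trans fun ⟨h3, y, h4, h5⟩ => ⟨h3, y, h4, hle.trans h5⟩⟩
        rw [← map_pow, hυ, map_pow, h1]; rfl
      have e1 := ih B D τ (by omega) (isPGroup_range_of_ker (σ := σ) (σ' := τ) (MonoidHom.id D) hR fun d (hd : σ d = 1) =>
        MulEquiv.ext fun s => Subtype.ext (by rw [hτ, hd]; rfl)) (fun s => Subtype.ext (hS2 s)) z z'
        (smallτ z hz) (smallτ z' hz')
      have e2 := ih (S ⧸ B) D υ (by omega) (isPGroup_range_of_ker (σ := σ) (σ' := υ) (MonoidHom.id D) hR fun d (hd : σ d = 1) =>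
        MulEquiv.ext fun x => QuotientGroup.induction_on x fun s => by rw [hυ, hd]; rfl)
        (fun x => QuotientGroup.induction_on x fun s => by rw [← QuotientGroup.mk_pow, hS2]; rfl) z z'
        (smallυ z hz) (smallυ z' hz')
      refine commute_of_series hpodd hS2 hkg B (fun s hs => ?_) fun s => ?_
      · have h1 : τ (z * z' * (z' * z)⁻¹) = 1 := by rw [map_mul, map_inv, map_mul, map_mul, e1.eq, mul_inv_cancel]
        rw [hgdef, show σ (z * z' * (z' * z)⁻¹) s = ((τ (z * z' * (z' * z)⁻¹) ⟨s, hs⟩ : B) : S) from (hτ _ ⟨s, hs⟩).symm, h1]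
        rfl
      · have h1 : υ (z * z' * (z' * z)⁻¹) = 1 := by rw [map_mul, map_inv, map_mul, map_mul, e2.eq, mul_inv_cancel]
        rw [← QuotientGroup.eq_one_iff, QuotientGroup.mk_mul, QuotientGroup.mk_inv, inv_mul_eq_one, hgdef, ← hυ, h1]
        rfl
    push Not at hred
    by_cases hRc : IsMulCommutative σ.range
    · rw [hgdef, map_mul, map_inv, mul_inv_eq_one, map_mul, map_mul]
      exact congrArg Subtype.val (hRc.is_comm.comm ⟨σ z, z, rfl⟩ ⟨σ z', z', rfl⟩)
    -- a normal subgroup of type `(p, p)`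
    have hnc : ¬ IsCyclic (⊤ : Subgroup σ.range) := fun h => hRc <| by
      haveI : IsCyclic σ.range := (MulEquiv.isCyclic (Subgroup.topEquiv)).mp h
      exact ⟨⟨fun a c => (IsCyclic.commGroup (α := σ.range)).mul_comm a c⟩⟩
    obtain ⟨E0, -, hE0n, hE0e, hE0c⟩ := Cfsg.Agent.Transfer.exists_normal_elementary hp2 hR ⊤ hnc
    haveI := hE0n
    set E := E0.map σ.range.subtype with hE
    have hEc : Nat.card E = p ^ 2 := by rw [hE, Subgroup.card_map_of_injective σ.range.subtype_injective, hE0c]
    have hEcomm : ∀ e ∈ E, ∀ f ∈ E, Commute e f := by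
      rintro _ ⟨e, he, rfl⟩ _ ⟨f, hf, rfl⟩
      exact congrArg (Subtype.val ∘ Subtype.val) (hE0e.1.is_comm.comm ⟨e, he⟩ ⟨f, hf⟩)
    have hEp : ∀ e ∈ E, e ^ p = 1 := by
      rintro _ ⟨e, he, rfl⟩
      rw [← map_pow, hE0e.2 e he, map_one]
    have hEn : ∀ d, ∀ e ∈ E, σ d * e * (σ d)⁻¹ ∈ E := by
      rintro d _ ⟨e, he, rfl⟩
      exact ⟨⟨σ d, d, rfl⟩ * e * (⟨σ d, d, rfl⟩ : σ.range)⁻¹, hE0n.conj_mem e he _, rfl⟩
    have hord : ∀ e ∈ E, e ≠ 1 → Nat.card (Subgroup.zpowers e) = p := fun e he h1 => by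
      rw [Nat.card_zpowers, orderOf_eq_prime (hEp e he) h1]
    have hgen : ∀ e ∈ E, ∀ f ∈ E, e ≠ 1 → f ∉ Subgroup.zpowers e →
        Subgroup.zpowers e ⊔ Subgroup.zpowers f = E := by
      intro e he f hf h1 hfe
      refine Subgroup.eq_of_le_of_card_ge (sup_le (Subgroup.zpowers_le.mpr he) (Subgroup.zpowers_le.mpr hf)) ?_
      have hlt : Subgroup.zpowers e < Subgroup.zpowers e ⊔ Subgroup.zpowers f :=
        lt_of_le_of_ne le_sup_left fun h => hfe (h ▸ Subgroup.mem_sup_right (Subgroup.mem_zpowers f))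
      have hd : Nat.card (Subgroup.zpowers e ⊔ Subgroup.zpowers f : Subgroup (MulAut S)) ∣ p ^ 2 :=
        hEc ▸ Subgroup.card_dvd_of_le (sup_le (Subgroup.zpowers_le.mpr he) (Subgroup.zpowers_le.mpr hf))
      obtain ⟨j, -, hj⟩ := (Nat.dvd_prime_pow hp.out).mp hd
      have h3 : Nat.card (Subgroup.zpowers e) < Nat.card (Subgroup.zpowers e ⊔ Subgroup.zpowers f : Subgroup (MulAut S)) := by
        by_contra hge
        exact hlt.ne (Subgroup.eq_of_le_of_card_ge hlt.le (not_lt.mp hge))
      rw [hord e he h1, hj] at h3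
      rw [hEc, hj]
      refine Nat.pow_le_pow_right hp.out.pos ?_
      by_contra hlt2
      have : p ^ j ≤ p ^ 1 := Nat.pow_le_pow_right hp.out.pos (by omega)
      rw [pow_one] at this
      omega
    have hE1 : E ≠ ⊥ := fun e => by
      rw [e, Subgroup.card_bot] at hEc
      exact absurd hEc (Nat.one_lt_pow (by norm_num) hp.out.one_lt).ne
    -- no non-trivial point is fixed by `E`
    have hfixE : ∀ s : S, (∀ e ∈ E, e s = s) → s = 1 := by
      let C : Subgroup S := ⨅ e : E, fix (e : MulAut S)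
      have hC : ∀ d, ∀ s ∈ C, σ d s ∈ C := by
        intro d s hs
        rw [Subgroup.mem_iInf] at hs ⊢
        intro e
        have h1 := hs ⟨_, hEn d⁻¹ e e.2⟩
        change (σ d⁻¹ * (e : MulAut S) * (σ d⁻¹)⁻¹) s = s at h1
        rw [map_inv, inv_inv, MulAut.mul_apply, MulAut.mul_apply, MulAut.inv_apply,
          MulEquiv.symm_apply_eq] at h1
        exact h1
      intro s hs
      by_contra hs1
      have hCtop := hred C hC fun h => hs1 <| Subgroup.mem_bot.mp (h ▸ Subgroup.mem_iInf.mpr fun e => hs e e.2)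
      refine hE1 ((Subgroup.eq_bot_iff_forall E).mpr fun e he => MulEquiv.ext fun t => ?_)
      exact mem_fix.mp (Subgroup.mem_iInf.mp (hCtop ▸ Subgroup.mem_top t : t ∈ C) ⟨e, he⟩)
    obtain ⟨e₁, he₁, he₁1⟩ : ∃ e ∈ E, e ≠ 1 := E.bot_or_exists_ne_one.resolve_left hE1
    obtain ⟨e₂, he₂, he₂1⟩ : ∃ e ∈ E, e ∉ Subgroup.zpowers e₁ := by
      by_contra hcon
      push Not at hcon
      have := Nat.le_of_dvd Nat.card_pos (Subgroup.card_dvd_of_le (hcon : E ≤ Subgroup.zpowers e₁))
      rw [hord e₁ he₁ he₁1, hEc] at this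
      exact absurd this (not_le.mpr (by rw [pow_two]; exact lt_mul_of_one_lt_left hp.out.pos hp.out.one_lt))
    -- independence of the fixed subgroups
    have hindep : ∀ e ∈ E, ∀ f ∈ E, e ≠ 1 → f ∉ Subgroup.zpowers e → ∀ s ∈ fix f, proj p e s = 1 := by
      intro e he f hf h1 hfe s hs
      refine hfixE _ fun k hk => ?_
      rw [← hgen e he f hf h1 hfe] at hk
      have hle : Subgroup.zpowers e ⊔ Subgroup.zpowers f ≤ MulAction.stabilizer (MulAut S) (proj p e s) := by
        refine sup_le (Subgroup.zpowers_le.mpr ?_) (Subgroup.zpowers_le.mpr ?_)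
        · exact apply_proj (hEp e he) s
        · show f (proj p e s) = proj p e s
          rw [← proj_comm (hEcomm e he f hf), mem_fix.mp hs]
      exact hle hk
    have hinv : ∀ e ∈ E, ∀ f ∈ E, ∀ s ∈ fix e, f s ∈ fix e := fun e he f hf s hs => by
      rw [mem_fix, ← MulAut.mul_apply, (hEcomm e he f hf).eq, MulAut.mul_apply, mem_fix.mp hs]
    -- the transporters of the fixed subgroups
    have htrans : ∀ d e, ∀ s ∈ fix e, σ d s ∈ fix (σ d * e * (σ d)⁻¹) := fun d e s hs => by
      rw [mem_fix, MulAut.mul_apply, MulAut.mul_apply, MulAut.inv_apply, MulEquiv.symm_apply_apply, mem_fix.mp hs]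
    -- the orbit of a fixed subgroup gives as many independent copies
    have horbit : ∀ (e : MulAut S), e ∈ E → e ≠ 1 → ∀ d : D,
        (∀ i, 0 < i → i < p → ∃ s ∈ fix e, σ (d ^ i) s ∉ fix e) →
        ∀ i k : ℕ, i < p → k < p → ∀ s ∈ fix e,
          proj p (σ (d ^ k) * e * (σ (d ^ k))⁻¹) (σ (d ^ i) s) = if i = k then σ (d ^ i) s else 1 := by
      intro e he he1 d hmove i k hip hkp s hs
      have hE' : ∀ i : ℕ, σ (d ^ i) * e * (σ (d ^ i))⁻¹ ∈ E := fun i => hEn _ e he
      have hne1 : ∀ i : ℕ, σ (d ^ i) * e * (σ (d ^ i))⁻¹ ≠ 1 := fun i h => he1 <| by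
        have := congrArg (fun x => (σ (d ^ i))⁻¹ * x * σ (d ^ i)) h
        simpa [mul_assoc] using this
      have hdist : ∀ i j : ℕ, i < p → j < p → i ≠ j →
          σ (d ^ i) * e * (σ (d ^ i))⁻¹ ∉ Subgroup.zpowers (σ (d ^ j) * e * (σ (d ^ j))⁻¹) := by
        intro i j hi hj hij hmem
        have key : ∀ a c : ℕ, a < c → c < p →
            (∀ s ∈ fix (σ (d ^ a) * e * (σ (d ^ a))⁻¹), s ∈ fix (σ (d ^ c) * e * (σ (d ^ c))⁻¹)) ∨
            (∀ s ∈ fix (σ (d ^ c) * e * (σ (d ^ c))⁻¹), s ∈ fix (σ (d ^ a) * e * (σ (d ^ a))⁻¹)) → False := by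
          intro a c hac hc h
          obtain ⟨s, hs, hns⟩ := hmove (c - a) (by omega) (by omega)
          have hfeq : fix (σ (d ^ a) * e * (σ (d ^ a))⁻¹) = fix (σ (d ^ c) * e * (σ (d ^ c))⁻¹) := by
            have hcard : ∀ i, Nat.card (fix (σ (d ^ i) * e * (σ (d ^ i))⁻¹)) = Nat.card (fix e) := fun i => by
              refine (Nat.card_congr (Equiv.subtypeEquiv (σ (d ^ i)).toEquiv fun t => ⟨fun ht => htrans _ _ t ht, fun ht => ?_⟩)).symm
              have h2 : σ (d ^ i) t ∈ fix (σ (d ^ i) * e * (σ (d ^ i))⁻¹) := ht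
              rw [mem_fix, MulAut.mul_apply, MulAut.mul_apply, MulAut.inv_apply, MulEquiv.symm_apply_apply,
                EmbeddingLike.apply_eq_iff_eq] at h2
              exact h2
            rcases h with h | h
            · exact Subgroup.eq_of_le_of_card_ge h (by rw [hcard, hcard])
            · exact (Subgroup.eq_of_le_of_card_ge h (by rw [hcard, hcard])).symm
          have h3 := htrans (d ^ c) e s hs
          rw [← hfeq, show d ^ c = d ^ a * d ^ (c - a) by rw [← pow_add]; congr 1; omega, map_mul,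
            MulAut.mul_apply, mem_fix, MulAut.mul_apply, MulAut.mul_apply, MulAut.inv_apply,
            MulEquiv.symm_apply_apply, EmbeddingLike.apply_eq_iff_eq] at h3
          exact hns h3
        rcases Nat.lt_or_gt_of_ne hij with h | h
        · exact key i j h hj (Or.inr fun s hs => fix_of_mem_zpowers hs hmem)
        · exact key j i h hi (Or.inl fun s hs => fix_of_mem_zpowers hs hmem)
      split_ifs with hik
      · subst hik
        exact proj_of_mem_fix hpodd hS2 (htrans _ _ _ hs)
      · exact hindep _ (hE' k) _ (hE' i) (hne1 k) (hdist i k hip hkp hik) _ (htrans _ _ _ hs)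
    -- small elements respect the fixed subgroups
    have hkeep : ∀ w, Small p b σ w → ∀ e ∈ E, e ≠ 1 → ∀ s ∈ fix e, σ w s ∈ fix e := by
      intro w ⟨hwp, hw⟩ e he he1
      rcases hw with hw | ⟨h3, y, hy, -⟩
      · by_contra hcon
        push Not at hcon
        have hmove : ∀ i, 0 < i → i < p → ∃ s ∈ fix e, σ (w ^ i) s ∉ fix e := by
          intro i hi hip
          by_contra hi'
          push Not at hi'
          obtain ⟨s, hs, hns⟩ := hcon
          have hcop : i.Coprime p := (hp.out.coprime_iff_not_dvd.mpr (fun h => absurd (Nat.le_of_dvd hi h) (not_le.mpr hip))).symm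
          obtain ⟨j, hj⟩ := Nat.exists_mul_mod_eq_one_of_coprime hcop hp.out.one_lt
          have h1 : ∀ n : ℕ, ∀ t ∈ fix e, σ ((w ^ i) ^ n) t ∈ fix e := by
            intro n
            induction n with
            | zero => intro t ht; simpa using ht
            | succ n ihn => intro t ht; rw [pow_succ, map_mul, MulAut.mul_apply]; exact ihn _ (hi' t ht)
          refine hns ?_
          have h2 := h1 j s hs
          rw [← pow_mul, map_pow, ← Nat.mod_add_div (i * j) p, pow_add, pow_mul, hwp, one_pow, mul_one] at h2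
          rw [hj.2, pow_one] at h2
          exact h2
        obtain ⟨f, hf⟩ : ∃ f : (Fin (p - 1) → fix e) →* S, ∀ v, f v = disp (σ w) (∏ i : Fin (p - 1), σ (w ^ (i : ℕ)) (v i : S)) :=
          ⟨MonoidHom.mk' (fun v => disp (σ w) (∏ i : Fin (p - 1), σ (w ^ (i : ℕ)) (v i : S))) fun a c => by
            simp only [Pi.mul_apply, Subgroup.coe_mul, map_mul, Finset.prod_mul_distrib], fun v => rfl⟩
        have hinj : Function.Injective f := by
          rw [← MonoidHom.ker_eq_bot_iff, Subgroup.eq_bot_iff_forall]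
          intro v hv
          rw [MonoidHom.mem_ker, hf, disp_apply, div_eq_one, map_prod] at hv
          have hmul : ∀ i : Fin (p - 1), σ w (σ (w ^ (i : ℕ)) (v i)) = σ (w ^ ((i : ℕ) + 1)) (v i) := fun i => by
            rw [pow_succ', map_mul, MulAut.mul_apply]
          rw [Finset.prod_congr rfl fun i _ => hmul i] at hv
          have hlhs : ∀ k : ℕ, ∀ hk : k < p - 1, proj p (σ (w ^ k) * e * (σ (w ^ k))⁻¹)
              (∏ i : Fin (p - 1), σ (w ^ (i : ℕ)) (v i : S)) = σ (w ^ k) (v ⟨k, hk⟩ : S) := by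
            intro k hk
            rw [map_prod, Finset.prod_eq_single (⟨k, hk⟩ : Fin (p - 1))]
            · rw [horbit e he he1 w hmove k k (by omega) (by omega) _ (v _).2, if_pos rfl]
            · intro i _ hik
              rw [horbit e he he1 w hmove i k (by omega) (by omega) _ (v i).2, if_neg (fun h => hik (Fin.ext h))]
            · simp
          have hall : ∀ k : ℕ, ∀ hk : k < p - 1, (v ⟨k, hk⟩ : S) = 1 := by
            intro k
            induction k with
            | zero =>
              intro hk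
              have h1 := hlhs 0 hk
              rw [← hv, map_prod, Finset.prod_eq_one (fun (i : Fin (p - 1)) _ => by
                rw [horbit e he he1 w hmove ((i : ℕ) + 1) 0 (by omega) (by omega) _ (v i).2, if_neg (by omega)])] at h1
              exact (MulEquiv.map_eq_one_iff _).mp h1.symm
            | succ k ihk =>
              intro hk
              have h1 := hlhs (k + 1) hk
              rw [← hv, map_prod, Finset.prod_eq_one (fun (i : Fin (p - 1)) _ => by
                rw [horbit e he he1 w hmove ((i : ℕ) + 1) (k + 1) (by omega) (by omega) _ (v i).2]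
                split_ifs with hik
                · rw [show i = ⟨k, by omega⟩ from Fin.ext (show (i : ℕ) = k by omega), ihk (by omega), map_one]
                · rfl)] at h1
              exact (MulEquiv.map_eq_one_iff _).mp h1.symm
          funext i
          exact Subtype.ext (hall i i.2)
        have h3 : 3 ≤ Nat.card (fix e) := by
          by_contra hlt
          obtain ⟨s, hs, hns⟩ := hcon
          refine hns ?_
          have hs1 : s = 1 := by
            refine hfixE s fun f hf => ?_
            by_contra hne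
            have hs' : s ≠ 1 := fun h => hne (by rw [h, map_one])
            have hfs' : f s ≠ 1 := fun h => hs' ((MulEquiv.map_eq_one_iff f).mp h)
            have : Function.Injective ![(⟨1, one_mem _⟩ : fix e), ⟨s, hs⟩, ⟨f s, hinv e he f hf s hs⟩] := by
              intro a c
              fin_cases a <;> fin_cases c <;> simp [Subtype.ext_iff, hne, Ne.symm hne, hs', Ne.symm hs', hfs', Ne.symm hfs']
            have := Nat.card_le_card_of_injective _ this
            rw [Nat.card_fin] at this
            omega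
          rw [hs1, map_one]; exact one_mem _
        have hle : Nat.card (Fin (p - 1) → fix e) ≤ Nat.card (disp (σ w)).range :=
          Nat.card_le_card_of_injective (fun v => (⟨f v, _, (hf v).symm⟩ : (disp (σ w)).range))
            fun a c h => hinj (congrArg Subtype.val h)
        rw [Nat.card_fun, Nat.card_fin] at hle
        have h4 : 2 ^ (2 * b) < 3 ^ (p - 1) := by
          rw [hpb, Nat.add_sub_cancel]
          have h5 : 2 * b ≤ 2 ^ b := by
            obtain ⟨c, rfl⟩ := Nat.exists_eq_succ_of_ne_zero hb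
            rw [Nat.succ_eq_add_one, pow_succ']
            have := Nat.lt_two_pow_self (n := c)
            omega
          calc 2 ^ (2 * b) ≤ 2 ^ (2 ^ b) := Nat.pow_le_pow_right two_pos h5
            _ < 3 ^ (2 ^ b) := Nat.pow_lt_pow_left (by norm_num) (pow_ne_zero _ two_ne_zero)
        have h5 : 3 ^ (p - 1) ≤ Nat.card (fix e) ^ (p - 1) := Nat.pow_le_pow_left h3 _
        omega
      · -- a cube centralizes `E`
        subst h3
        intro s hs
        let r : σ.range := ⟨σ y, y, rfl⟩
        have hidx := Cfsg.Agent.Grp.RankThree.index_centralizer_le hR (U := E0) hE0e.1 (le_of_eq hE0c)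
        have hcen : r ^ 3 ∈ Subgroup.centralizer (E0 : Set σ.range) := by
          haveI : (Subgroup.centralizer (E0 : Set σ.range)).Normal := inferInstance
          obtain ⟨j, hj⟩ := IsPGroup.iff_card.mp (hR.to_quotient (Subgroup.centralizer (E0 : Set σ.range)))
          rw [← QuotientGroup.eq_one_iff, QuotientGroup.mk_pow]
          have hj1 : j ≤ 1 := (Nat.pow_le_pow_iff_right (by norm_num : 1 < 3)).mp (by
            rw [← hj, pow_one, ← Subgroup.index_eq_card]; exact hidx)
          exact orderOf_dvd_iff_pow_eq_one.mp ((orderOf_dvd_natCard _).trans (hj ▸ (by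
            simpa using Nat.pow_dvd_pow 3 hj1)))
        obtain ⟨e0, he0, rfl⟩ := he
        have h1 := congrArg Subtype.val (Subgroup.mem_centralizer_iff.mp hcen e0 he0)
        simp only [Subgroup.coe_mul, SubmonoidClass.coe_pow, r] at h1
        rw [← hy, map_pow, mem_fix, Subgroup.coe_subtype, ← MulAut.mul_apply, h1, MulAut.mul_apply,
          show (e0 : MulAut S) s = s from hs]
    -- on each fixed subgroup
    have hon : ∀ e ∈ E, e ≠ 1 → ∀ s ∈ fix e, g s = s := by
      intro e he he1
      let De : Subgroup D :=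
        { carrier := {d | (∀ s ∈ fix e, σ d s ∈ fix e) ∧ ∀ s ∈ fix e, σ d⁻¹ s ∈ fix e}
          mul_mem' := fun {a c} ha hc => ⟨fun s hs => by rw [map_mul, MulAut.mul_apply]; exact ha.1 _ (hc.1 s hs),
            fun s hs => by rw [mul_inv_rev, map_mul, MulAut.mul_apply]; exact hc.2 _ (ha.2 s hs)⟩
          one_mem' := ⟨fun s hs => by simpa using hs, fun s hs => by simpa using hs⟩
          inv_mem' := fun {a} ha => ⟨ha.2, fun s hs => by rw [inv_inv]; exact ha.1 s hs⟩ }
      have hmem : ∀ w, (∀ s ∈ fix e, σ w s ∈ fix e) → w ∈ De := by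
        intro w hw
        refine ⟨hw, fun s hs => ?_⟩
        have hbij := Finite.surjective_of_injective (f := fun t : fix e => (⟨σ w t, hw t t.2⟩ : fix e))
          fun a c h => Subtype.ext ((σ w).injective (congrArg Subtype.val h))
        obtain ⟨t, ht⟩ := hbij ⟨s, hs⟩
        have ht' : σ w t = s := congrArg Subtype.val ht
        rw [← ht', ← MulAut.mul_apply, ← map_mul, inv_mul_cancel, map_one]
        exact t.2
      have hzD := hmem z (hkeep z hz e he he1)
      have hz'D := hmem z' (hkeep z' hz' e he he1)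
      obtain ⟨τ, hτ⟩ := exists_restrict (σ.comp De.subtype) (fix e) fun d s hs => d.2.1 s hs
      have hcardB : Nat.card (fix e) < Nat.card S := lt_of_le_of_ne (Subgroup.card_le_card_group _)
        fun h => he1 (MulEquiv.ext fun s => mem_fix.mp ((Subgroup.eq_top_of_card_eq _ h).symm ▸ Subgroup.mem_top s))
      have smallτ : ∀ w (hw : w ∈ De), Small p b σ w → Small p b τ ⟨w, hw⟩ := by
        intro w hw ⟨h1, h2⟩
        have hle : Nat.card (disp (τ ⟨w, hw⟩)).range ≤ Nat.card (disp (σ w)).range := by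
          rw [← Subgroup.card_map_of_injective (K := (disp (τ ⟨w, hw⟩)).range) (fix e).subtype_injective]
          refine Nat.le_of_dvd Nat.card_pos (Subgroup.card_dvd_of_le ?_)
          rintro _ ⟨_, ⟨s, rfl⟩, rfl⟩
          exact ⟨s, by simp [disp_apply, hτ]⟩
        refine ⟨MulEquiv.ext fun s => Subtype.ext ?_, ?_⟩
        · rw [← map_pow, hτ, MonoidHom.comp_apply, Subgroup.coe_subtype, SubmonoidClass.coe_pow, map_pow, h1]; rfl
        rcases h2 with h2 | ⟨h3, y, hy, hy6⟩
        · exact Or.inl (hle.trans h2)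
        by_cases hyD : y ∈ De
        · exact Or.inr ⟨h3, ⟨y, hyD⟩, Subtype.ext hy, hle.trans hy6⟩
        left
        subst h3
        have hb1 : b = 1 := Nat.pow_right_injective le_rfl (show 2 ^ b = 2 ^ 1 by omega)
        subst hb1
        have hmove : ∀ i, 0 < i → i < 3 → ∃ s ∈ fix e, σ (y ^ i) s ∉ fix e := by
          intro i hi hi3
          by_contra hi'
          push Not at hi'
          refine hyD ?_
          have h4 := hmem _ hi'
          interval_cases i
          · simpa using h4
          · have h5 : y ^ 3 ∈ De := hy ▸ hw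
            have := De.mul_mem h5 (De.inv_mem h4)
            rwa [show y ^ 3 * (y ^ 2)⁻¹ = y by group] at this
        -- three independent copies of the displacement
        let M := (disp (τ ⟨w, hw⟩)).range.map (fix e).subtype
        have hMfix : ∀ t ∈ M, t ∈ fix e := by rintro _ ⟨t, -, rfl⟩; exact t.2
        have hMdisp : ∀ t ∈ M, ∀ i : ℕ, σ (y ^ i) t ∈ (disp (σ w)).range := by
          rintro _ ⟨_, ⟨s, rfl⟩, rfl⟩ i
          refine ⟨σ (y ^ i) s, ?_⟩
          simp only [disp_apply, Subgroup.coe_subtype, Subgroup.coe_div, hτ, MonoidHom.comp_apply, map_div]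
          rw [← MulAut.mul_apply, ← MulAut.mul_apply, ← map_mul, ← map_mul, ← hy, ← pow_add, ← pow_add, add_comm]
        have hinj : Function.Injective (fun v : Fin 3 → M =>
            (⟨∏ i : Fin 3, σ (y ^ (i : ℕ)) (v i : S), Subgroup.prod_mem _ fun i _ => hMdisp _ (v i).2 _⟩ : (disp (σ w)).range)) := by
          intro v v' h
          have h' := congrArg Subtype.val h
          funext k
          have hl : ∀ u : Fin 3 → M, proj 3 (σ (y ^ (k : ℕ)) * e * (σ (y ^ (k : ℕ)))⁻¹)
              (∏ i : Fin 3, σ (y ^ (i : ℕ)) (u i : S)) = σ (y ^ (k : ℕ)) (u k : S) := by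
            intro u
            rw [map_prod, Finset.prod_eq_single k]
            · rw [horbit e he he1 y hmove k k k.2 k.2 _ (hMfix _ (u k).2), if_pos rfl]
            · intro i _ hik
              rw [horbit e he he1 y hmove i k i.2 k.2 _ (hMfix _ (u i).2), if_neg (fun h => hik (Fin.ext h))]
            · simp
          refine Subtype.ext ((σ (y ^ (k : ℕ))).injective ?_)
          rw [← hl v, ← hl v', show (∏ i : Fin 3, σ (y ^ (i : ℕ)) (v i : S)) = ∏ i : Fin 3, σ (y ^ (i : ℕ)) (v' i : S) from h']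
        have h6 := Nat.card_le_card_of_injective _ hinj
        rw [Nat.card_fun, Nat.card_fin, Subgroup.card_map_of_injective (fix e).subtype_injective] at h6
        have h7 := h6.trans hy6
        by_contra hgt
        have h8 : 5 ^ 3 ≤ Nat.card (disp (τ ⟨w, hw⟩)).range ^ 3 := Nat.pow_le_pow_left (by omega) 3
        omega
      have e1 := ih (fix e) De τ (by omega)
        (isPGroup_range_of_ker (σ := σ) (σ' := τ) De.subtype hR fun d (hd : σ d = 1) =>
          MulEquiv.ext fun s => Subtype.ext (by rw [hτ, MonoidHom.comp_apply]; erw [hd]; rfl))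
        (fun s => Subtype.ext (hS2 s)) ⟨z, hzD⟩ ⟨z', hz'D⟩ (smallτ z hzD hz) (smallτ z' hz'D hz')
      intro s hs
      let zz : De := (⟨z, hzD⟩ : De) * ⟨z', hz'D⟩ * ((⟨z', hz'D⟩ : De) * ⟨z, hzD⟩)⁻¹
      have h1 : τ zz = 1 := by simp only [zz]; rw [map_mul, map_inv, map_mul, map_mul, e1.eq, mul_inv_cancel]
      have h2 := hτ zz ⟨s, hs⟩
      rw [h1] at h2
      rw [hgdef]
      exact h2.symm
    -- the fixed subgroups generate
    refine MulEquiv.ext fun s => ?_
    show g s = s
    let F : Subgroup S := fix g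
    suffices h : s ∈ F from h
    have hmemF : ∀ e ∈ E, e ≠ 1 → ∀ t, proj p e t ∈ F := fun e he he1 t =>
      mem_fix.mpr (hon e he he1 _ (mem_fix.mpr (apply_proj (hEp e he) t)))
    have hkey : (∏ i ∈ Finset.range p, proj p (e₁ * e₂ ^ i) s) =
        ∏ j ∈ Finset.range p, (e₁ ^ j) (∏ i ∈ Finset.range p, ((e₂ ^ j) ^ i) s) := by
      simp only [proj_apply, map_prod]
      rw [Finset.prod_comm]
      refine Finset.prod_congr rfl fun j _ => Finset.prod_congr rfl fun i _ => ?_
      rw [← MulAut.mul_apply, ((hEcomm e₁ he₁ e₂ he₂).pow_right i).mul_pow, ← pow_mul, ← pow_mul, mul_comm i j]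
    have hi1 : ∀ i, e₁ * e₂ ^ i ≠ 1 := fun i h => he₂1 <| by
      have h' : e₂ ^ i = e₁⁻¹ := eq_inv_of_mul_eq_one_right h
      by_cases hd : p ∣ i
      · obtain ⟨c, rfl⟩ := hd
        rw [pow_mul, hEp e₂ he₂, one_pow, eq_comm, inv_eq_one] at h'
        exact absurd h' he₁1
      · obtain ⟨j, hj⟩ := exists_pow_eq_self_of_coprime
          (((hp.out.coprime_iff_not_dvd.mpr hd).coprime_dvd_left (orderOf_dvd_of_pow_eq_one (hEp e₂ he₂))).symm)
        rw [h'] at hj
        exact hj ▸ Subgroup.pow_mem _ (Subgroup.inv_mem _ (Subgroup.mem_zpowers e₁)) j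
    have hlhs : (∏ i ∈ Finset.range p, proj p (e₁ * e₂ ^ i) s) ∈ F := Subgroup.prod_mem _ fun i _ =>
      hmemF _ (mul_mem he₁ (pow_mem he₂ i)) (hi1 i) s
    rw [hkey, Finset.prod_eq_mul_prod_sdiff_singleton_of_mem (Finset.mem_range.mpr hp.out.pos)] at hlhs
    have hrest : ∏ j ∈ Finset.range p \ {0}, (e₁ ^ j) (∏ i ∈ Finset.range p, ((e₂ ^ j) ^ i) s) ∈ F := by
      refine Subgroup.prod_mem _ fun j hj => ?_
      rw [Finset.mem_sdiff, Finset.mem_range, Finset.mem_singleton] at hj
      have hj1 : e₂ ^ j ≠ 1 := fun h => by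
        have h1 := (orderOf_eq_prime (hEp e₂ he₂) (fun h' => he₂1 (h' ▸ one_mem _))) ▸ orderOf_dvd_of_pow_eq_one h
        exact absurd (Nat.le_of_dvd (Nat.pos_of_ne_zero hj.2) h1) (not_le.mpr hj.1)
      refine mem_fix.mpr (hon _ (pow_mem he₂ j) hj1 _ ?_)
      exact hinv _ (pow_mem he₂ j) _ (pow_mem he₁ j) _ (mem_fix.mpr (by rw [← proj_apply]; exact apply_proj (hEp _ (pow_mem he₂ j)) s))
    have h0 := (Subgroup.mul_mem_cancel_right F hrest).mp hlhs
    simp only [pow_zero, MulAut.one_apply, one_pow, Finset.prod_const, Finset.card_range] at h0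
    obtain ⟨k, hk⟩ := hpodd
    rwa [hk, pow_succ, pow_mul, hS2, one_pow, one_mul] at h0

end Cfsg.Agent.Grp.HHSmall
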