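import Mathlib

/-!
A semilinear relation is trivial: if the norm of a cyclic `p`-group vanishes on an elementary abelian
`p`-group then its subgroup of order `p` centralizes every abelian `p'`-subgroup it normalizes.
-/

set_option autoImplicit false

namespace Cfsg.Agent.Grp

variable {R : Type*} [Ring R] {H : Type*} [Group H]

theorem norm_relation_centralizes {p : ℕ} [hp : Fact p.Prime] (hchar : (p : R) = 0) (ρ : H →* R)
    (Q : Subgroup H) [Finite Q] (hQc : ∀ a ∈ Q, ∀ b ∈ Q, a * b = b * a) (hQp : ¬ p ∣ Nat.card Q)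
    (x : H) (k : ℕ) (hx : x ^ p ^ (k + 1) = 1) (hxQ : ∀ q ∈ Q, x * q * x⁻¹ ∈ Q)
    (hN : ∑ i ∈ Finset.range (p ^ (k + 1)), ρ (x ^ i) = 0) :
    ∀ q ∈ Q, ρ (x ^ p ^ k * q * (x ^ p ^ k)⁻¹) = ρ q := by
  classical
  set A : Subring R := Subring.closure (ρ '' (Q : Set H)) with hA
  have hgen : ∀ q ∈ Q, ρ q ∈ A := fun q hq => Subring.subset_closure ⟨q, hq, rfl⟩
  have hcomm : ∀ a ∈ A, ∀ b ∈ A, a * b = b * a := by
    have h1 : A ≤ Subring.centralizer (ρ '' (Q : Set H)) := by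
      rw [hA, Subring.closure_le]
      rintro _ ⟨q, hq, rfl⟩
      rw [SetLike.mem_coe, Subring.mem_centralizer_iff]
      rintro _ ⟨q', hq', rfl⟩
      rw [← map_mul, ← map_mul, hQc q' hq' q hq]
    have h2 : A ≤ Subring.centralizer (A : Set R) := by
      rw [hA, Subring.closure_le]
      intro g hg
      rw [SetLike.mem_coe, Subring.mem_centralizer_iff]
      intro a ha
      exact ((Subring.mem_centralizer_iff.mp (h1 ha)) g hg).symm
    intro a ha b hb
    exact (Subring.mem_centralizer_iff.mp (h2 hb)) a ha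
  letI : CommRing ↥A :=
    { (inferInstance : Ring ↥A) with mul_comm := fun a b => Subtype.ext (hcomm a a.2 b b.2) }
  have hpA : (p : ↥A) = 0 := Subtype.ext (by simpa using hchar)
  -- a power of the Frobenius map is the identity
  obtain ⟨d, hd0, hd⟩ : ∃ d, d ≠ 0 ∧ p ^ d % Nat.card Q = 1 % Nat.card Q :=
    ⟨Nat.totient (Nat.card Q), (Nat.totient_pos.mpr Nat.card_pos).ne',
      Nat.ModEq.pow_totient (hp.out.coprime_iff_not_dvd.mpr hQp)⟩
  have hfrob : ∀ a : ↥A, a ^ p ^ d = a := by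
    have hz : ∀ x y : ↥A, (x + y) ^ p ^ d = x ^ p ^ d + y ^ p ^ d := by
      intro x y
      obtain ⟨r, hr⟩ := exists_add_pow_prime_pow_eq hp.out x y d
      rw [hr, hpA]; simp
    rintro ⟨a, ha⟩
    induction ha using Subring.closure_induction with
    | mem g hg =>
      obtain ⟨q, hq, rfl⟩ := hg
      refine Subtype.ext ?_
      show ρ q ^ p ^ d = ρ q
      rw [← map_pow]
      refine congrArg ρ ?_
      have h1 : (⟨q, hq⟩ : ↥Q) ^ Nat.card Q = 1 := pow_card_eq_one'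
      have h2 := congrArg Subtype.val (pow_eq_pow_mod (p ^ d) h1)
      have h3 := congrArg Subtype.val (pow_eq_pow_mod 1 h1)
      simp only [SubmonoidClass.coe_pow, pow_one] at h2 h3
      rw [h2, hd, ← h3]
    | zero => exact zero_pow (pow_ne_zero _ hp.out.ne_zero)
    | one => exact one_pow _
    | add x y hx hy ihx ihy =>
      show (⟨x, hx⟩ + ⟨y, hy⟩ : ↥A) ^ p ^ d = _
      rw [hz, ihx, ihy]; rfl
    | neg x hx ih =>
      show (-⟨x, hx⟩ : ↥A) ^ p ^ d = _
      have h := hz ⟨x, hx⟩ (-⟨x, hx⟩)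
      rw [add_neg_cancel, zero_pow (pow_ne_zero _ hp.out.ne_zero), ih] at h
      exact (neg_eq_of_add_eq_zero_right h.symm).symm
    | mul x y hx hy ihx ihy =>
      show (⟨x, hx⟩ * ⟨y, hy⟩ : ↥A) ^ p ^ d = _
      rw [mul_pow, ihx, ihy]; rfl
  -- conjugation by powers of `x`
  have hxi : ∀ (i : ℕ), ∀ q ∈ Q, x ^ i * q * (x ^ i)⁻¹ ∈ Q := by
    intro i
    induction i with
    | zero => intro q hq; simpa using hq
    | succ i ih =>
      intro q hq
      have e : x ^ (i + 1) * q * (x ^ (i + 1))⁻¹ = x * (x ^ i * q * (x ^ i)⁻¹) * x⁻¹ := by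
        rw [pow_succ']; group
      rw [e]; exact hxQ _ (ih q hq)
  have hcA : ∀ (i : ℕ), ∀ a ∈ A, ρ (x ^ i) * a * ρ (x ^ i)⁻¹ ∈ A := by
    intro i a ha
    induction ha using Subring.closure_induction with
    | mem g hg =>
      obtain ⟨q, hq, rfl⟩ := hg
      rw [← map_mul, ← map_mul]; exact hgen _ (hxi i q hq)
    | zero => simp
    | one => rw [mul_one, ← map_mul, mul_inv_cancel, map_one]; exact A.one_mem
    | add a b _ _ iha ihb => rw [mul_add, add_mul]; exact A.add_mem iha ihb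
    | neg a _ iha => rw [mul_neg, neg_mul]; exact A.neg_mem iha
    | mul a b _ _ iha ihb =>
      have e : ρ (x ^ i) * (a * b) * ρ (x ^ i)⁻¹ =
          (ρ (x ^ i) * a * ρ (x ^ i)⁻¹) * (ρ (x ^ i) * b * ρ (x ^ i)⁻¹) := by
        have h1 : ρ (x ^ i)⁻¹ * ρ (x ^ i) = 1 := by rw [← map_mul, inv_mul_cancel, map_one]
        calc ρ (x ^ i) * (a * b) * ρ (x ^ i)⁻¹
            = ρ (x ^ i) * a * (ρ (x ^ i)⁻¹ * ρ (x ^ i)) * b * ρ (x ^ i)⁻¹ := by rw [h1]; noncomm_ring
          _ = _ := by noncomm_ring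
      rw [e]; exact A.mul_mem iha ihb
  let σ : ℕ → ↥A → ↥A := fun i a => ⟨ρ (x ^ i) * a * ρ (x ^ i)⁻¹, hcA i a a.2⟩
  have hσρ : ∀ (i : ℕ) (a : ↥A), (σ i a : R) * ρ (x ^ i) = ρ (x ^ i) * (a : R) := fun i a => by
    show ρ (x ^ i) * (a : R) * ρ (x ^ i)⁻¹ * ρ (x ^ i) = _
    rw [mul_assoc, ← map_mul, inv_mul_cancel, map_one, mul_one]
  have hσadd : ∀ (i j : ℕ) (a : ↥A), σ (i + j) a = σ i (σ j a) := fun i j a => by
    refine Subtype.ext ?_
    show ρ (x ^ (i + j)) * (a : R) * ρ (x ^ (i + j))⁻¹ =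
      ρ (x ^ i) * (ρ (x ^ j) * (a : R) * ρ (x ^ j)⁻¹) * ρ (x ^ i)⁻¹
    rw [pow_add, mul_inv_rev, map_mul, map_mul]; noncomm_ring
  have hσ0 : ∀ a : ↥A, σ 0 a = a := fun a => Subtype.ext (by simp [σ])
  set m := p ^ (k + 1) with hm
  have hσm : ∀ a : ↥A, σ m a = a := fun a => Subtype.ext (by simp [σ, hx])
  -- shorten the relation
  have key : ∀ (S : Finset ℕ) (f : ℕ → ↥A), (∀ j ∈ S, j ∈ Finset.Ico 1 m) →
      ∃ c : ℕ → ↥A, (∑ i ∈ Finset.range m, (c i : R) * ρ (x ^ i) = 0) ∧ (∀ i ∈ S, c i = 0) ∧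
        c 0 = ∏ j ∈ S, (f j - σ j (f j)) := by
    intro S f hS
    induction S using Finset.induction_on with
    | empty =>
      refine ⟨fun _ => 1, ?_, fun i hi => absurd hi (Finset.notMem_empty i), by simp⟩
      simpa using hN
    | insert j S hj ih =>
      obtain ⟨c, hc, hcS, hc0⟩ := ih fun i hi => hS i (Finset.mem_insert_of_mem hi)
      refine ⟨fun i => c i * (σ i (f j) - σ j (f j)), ?_, ?_, ?_⟩
      · have e : ∀ i, ((c i * (σ i (f j) - σ j (f j)) : ↥A) : R) * ρ (x ^ i) =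
            (c i : R) * ρ (x ^ i) * (f j : R) - (σ j (f j) : R) * ((c i : R) * ρ (x ^ i)) := by
          intro i
          rw [Subring.coe_mul, AddSubgroupClass.coe_sub, mul_sub, sub_mul, mul_assoc, hσρ,
            hcomm (c i) (c i).2 (σ j (f j)) (σ j (f j)).2]
          noncomm_ring
        simp only [e, Finset.sum_sub_distrib, ← Finset.sum_mul, ← Finset.mul_sum, hc, zero_mul, mul_zero, sub_zero]
      · intro i hi
        rcases Finset.mem_insert.mp hi with rfl | hi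
        · simp
        · simp [hcS i hi]
      · show c 0 * (σ 0 (f j) - σ j (f j)) = _
        rw [Finset.prod_insert hj, hc0, hσ0, mul_comm]
  intro q hq
  set y := x ^ p ^ k with hy
  suffices hnil : IsNilpotent (⟨ρ q, hgen q hq⟩ - σ (p ^ k) ⟨ρ q, hgen q hq⟩ : ↥A) by
    obtain ⟨N, hN'⟩ := hnil
    set b := (⟨ρ q, hgen q hq⟩ - σ (p ^ k) ⟨ρ q, hgen q hq⟩ : ↥A)
    have hb : ∀ n, b ^ (p ^ d) ^ n = b := by
      intro n
      induction n with
      | zero => simp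
      | succ n ih => rw [pow_succ, pow_mul, ih, hfrob]
    have hgt : N < (p ^ d) ^ N := Nat.lt_pow_self (Nat.one_lt_pow hd0 hp.out.one_lt)
    have h0 := hb N
    rw [← Nat.add_sub_cancel' hgt.le, pow_add, hN', zero_mul] at h0
    have h1 : (ρ q : R) = ρ (x ^ p ^ k) * ρ q * ρ (x ^ p ^ k)⁻¹ :=
      congrArg Subtype.val (sub_eq_zero.mp h0.symm)
    rw [map_mul, map_mul, ← h1]
  rw [nilpotent_iff_mem_prime]
  intro J hJ
  obtain ⟨j, hj, hall⟩ : ∃ j ∈ Finset.Ico 1 m, ∀ a : ↥A, a - σ j a ∈ J := by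
    by_contra hne
    push Not at hne
    choose! f hf using hne
    obtain ⟨c, hc, hcS, hc0⟩ := key (Finset.Ico 1 m) f (fun j hj => hj)
    have hm0 : 0 ∈ Finset.range m := Finset.mem_range.mpr (pow_pos hp.out.pos _)
    rw [Finset.sum_eq_single_of_mem 0 hm0 (fun i hi hi0 => by
      rw [hcS i (Finset.mem_Ico.mpr ⟨Nat.one_le_iff_ne_zero.mpr hi0, Finset.mem_range.mp hi⟩)]; simp)] at hc
    have hz : c 0 = 0 := Subtype.ext (by simpa using hc)
    rw [hc0] at hz
    obtain ⟨i, hi, hiJ⟩ := (hJ.prod_mem_iff).mp (hz ▸ J.zero_mem :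
      (∏ j ∈ Finset.Ico 1 m, (f j - σ j (f j))) ∈ J)
    exact hf i hi hiJ
  have hmul : ∀ (t : ℕ) (a : ↥A), a - σ (j * t) a ∈ J := by
    intro t
    induction t with
    | zero => intro a; rw [Nat.mul_zero, hσ0, sub_self]; exact J.zero_mem
    | succ t ih =>
      intro a
      have h := J.add_mem (hall a) (ih (σ j a))
      rw [sub_add_sub_cancel, ← hσadd, ← Nat.mul_succ] at h
      exact h
  obtain ⟨hj1, hj2⟩ := Finset.mem_Ico.mp hj
  obtain ⟨l, u, hu, hlu⟩ := Nat.exists_eq_pow_mul_and_not_dvd (by omega : j ≠ 0) p hp.out.ne_one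
  have hlk : l ≤ k := by
    by_contra hh
    have h1 : m ≤ p ^ l := Nat.pow_le_pow_right hp.out.pos (by omega)
    have : p ^ l ≤ j := hlu ▸ Nat.le_mul_of_pos_right _ (Nat.pos_of_ne_zero fun e => hu (e ▸ dvd_zero p))
    omega
  obtain ⟨t, ht⟩ : ∃ t, u * t % p = 1 := by
    obtain ⟨t, ht⟩ := Nat.exists_mul_mod_eq_gcd (show Nat.gcd u p < p by
      rw [Nat.coprime_comm.mp (hp.out.coprime_iff_not_dvd.mpr hu)]; exact hp.out.one_lt)
    rw [Nat.coprime_comm.mp (hp.out.coprime_iff_not_dvd.mpr hu)] at ht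
    exact ⟨t, ht.2⟩
  have hs := Nat.div_add_mod (u * t) p
  rw [ht] at hs
  have e : j * (p ^ (k - l) * t) = p ^ k + m * (u * t / p) := by
    calc j * (p ^ (k - l) * t) = (p ^ l * p ^ (k - l)) * (u * t) := by rw [hlu]; ring
      _ = p ^ k * (p * (u * t / p) + 1) := by rw [← pow_add, Nat.add_sub_cancel' hlk, hs]
      _ = _ := by rw [hm, pow_succ]; ring
  have hσmm : ∀ (s : ℕ) (a : ↥A), σ (m * s) a = a := by
    intro s
    induction s with
    | zero => intro a; rw [Nat.mul_zero, hσ0]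
    | succ s ih => intro a; rw [Nat.mul_succ, hσadd, hσm, ih]
  have h := hmul (p ^ (k - l) * t) ⟨ρ q, hgen q hq⟩
  rwa [e, hσadd, hσmm] at h

end Cfsg.Agent.Grp
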