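import Mathlib
import Cfsg.Prelude.Def_Local
import Cfsg.Agent.Lib.Grp.Cores
import Cfsg.Agent.Lib.Grp.PSolvable

/-!
The upper p-series: comparison with subgroups and quotients, subadditivity of the p-length, and
the elementary bounds for derived length and p-length through the other p-lengths.
-/

set_option autoImplicit false

namespace Cfsg.Agent.Grp

open Subgroup

universe u

variable {G : Type*} [Group G] {p : ℕ}

/-- the `n`-th term of the upper p-series -/
abbrev uSer (p : ℕ) (G : Type*) [Group G] (n : ℕ) : Subgroup G := (Cfsg.upperPSeries p G n).1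

theorem uSer_zero : uSer p G 0 = ⊥ := rfl

theorem uSer_succ_even {n : ℕ} (h : Even n) :
    uSer p G (n + 1) = (Cfsg.pPrimeCore p (G ⧸ uSer p G n)).comap (QuotientGroup.mk' (uSer p G n)) := by
  show (Cfsg.upperPSeries p G (n + 1)).1 = _
  rw [Cfsg.upperPSeries, if_pos h]

theorem uSer_succ_odd {n : ℕ} (h : Odd n) :
    uSer p G (n + 1) = (Cfsg.pCore p (G ⧸ uSer p G n)).comap (QuotientGroup.mk' (uSer p G n)) := by
  show (Cfsg.upperPSeries p G (n + 1)).1 = _
  rw [Cfsg.upperPSeries, if_neg (Nat.not_even_iff_odd.mpr h)]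

theorem uSer_le_succ (n : ℕ) : uSer p G n ≤ uSer p G (n + 1) := by
  rcases Nat.even_or_odd n with h | h
  · rw [uSer_succ_even h]; exact QuotientGroup.le_comap_mk' _ _
  · rw [uSer_succ_odd h]; exact QuotientGroup.le_comap_mk' _ _

theorem uSer_mono {m n : ℕ} (h : m ≤ n) : uSer p G m ≤ uSer p G n :=
  monotone_nat_of_le_succ (f := uSer p G) uSer_le_succ h

theorem uSer_relIndex_even [Finite G] [Fact p.Prime] {n : ℕ} (h : Even n) :
    ¬ p ∣ (uSer p G n).relIndex (uSer p G (n + 1)) := by
  have e := Subgroup.relIndex_ker (K := uSer p G (n + 1)) (QuotientGroup.mk' (uSer p G n))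
  rw [QuotientGroup.ker_mk'] at e
  rw [e, uSer_succ_even h, Subgroup.map_comap_eq_self_of_surjective (QuotientGroup.mk'_surjective _)]
  exact pPrimeCore_not_dvd

theorem uSer_relIndex_odd [Finite G] [Fact p.Prime] {n : ℕ} (h : Odd n) :
    ∃ m, (uSer p G n).relIndex (uSer p G (n + 1)) = p ^ m := by
  have e := Subgroup.relIndex_ker (K := uSer p G (n + 1)) (QuotientGroup.mk' (uSer p G n))
  rw [QuotientGroup.ker_mk'] at e
  rw [e, uSer_succ_odd h, Subgroup.map_comap_eq_self_of_surjective (QuotientGroup.mk'_surjective _)]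
  exact pCore_isPGroup.exists_card_eq

theorem le_uSer_succ_even [Finite G] [hp : Fact p.Prime] {n : ℕ} (h : Even n) {S A : Subgroup G}
    (hA : A.Normal) (hS : S ≤ uSer p G n) (hd : ¬ p ∣ S.relIndex A) : A ≤ uSer p G (n + 1) := by
  rw [uSer_succ_even h, ← Subgroup.map_le_iff_le_comap]
  refine le_pPrimeCore (hA.map _ (QuotientGroup.mk'_surjective _)) ?_
  rw [← Subgroup.relIndex_ker, QuotientGroup.ker_mk']
  exact ((hp.out.coprime_iff_not_dvd.mpr fun hdd =>
    hd (hdd.trans (Subgroup.relIndex_dvd_of_le_left A hS)))).symm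

theorem le_uSer_succ_odd [Finite G] [hp : Fact p.Prime] {n : ℕ} (h : Odd n) {S A : Subgroup G}
    (hA : A.Normal) (hS : S ≤ uSer p G n) (hd : ∃ m, S.relIndex A = p ^ m) : A ≤ uSer p G (n + 1) := by
  rw [uSer_succ_odd h, ← Subgroup.map_le_iff_le_comap]
  refine le_pCore (hA.map _ (QuotientGroup.mk'_surjective _)) ?_
  obtain ⟨m, hm⟩ := hd
  obtain ⟨j, -, hj⟩ := (Nat.dvd_prime_pow hp.out).mp (hm ▸ Subgroup.relIndex_dvd_of_le_left A hS)
  refine IsPGroup.of_card (n := j) ?_
  rw [← Subgroup.relIndex_ker, QuotientGroup.ker_mk']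
  exact hj

/-- A p'-extension is absorbed by an odd term. -/
theorem le_uSer_absorb [Finite G] [hp : Fact p.Prime] {n : ℕ} (h : Even n) {S A : Subgroup G}
    (hA : A.Normal) (hS : S ≤ uSer p G (n + 1)) (hd : ¬ p ∣ S.relIndex A) :
    A ≤ uSer p G (n + 1) := by
  have hU : (uSer p G (n + 1)).Normal := (Cfsg.upperPSeries p G (n + 1)).2
  have hsup : (A ⊔ uSer p G (n + 1)).Normal := inferInstance
  refine le_trans le_sup_left (le_uSer_succ_even h hsup le_rfl (S := uSer p G n) ?_)
  have e := Subgroup.relIndex_mul_relIndex (uSer p G n) (uSer p G (n + 1)) (A ⊔ uSer p G (n + 1))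
    (uSer_le_succ n) le_sup_right
  rw [← e, Subgroup.relIndex_sup_right]
  intro hdvd
  rcases hp.out.dvd_mul.mp hdvd with h1 | h1
  · exact uSer_relIndex_even h h1
  · exact hd (h1.trans (Subgroup.relIndex_dvd_of_le_left A hS))

/-- Comparison along a surjection. -/
theorem uSer_map_le {H : Type*} [Group H] [Finite G] [Finite H] [Fact p.Prime] (f : G →* H)
    (hf : Function.Surjective f) {a b : ℕ} (hpar : Even a ↔ Even b)
    (h : (uSer p G a).map f ≤ uSer p H b) (k : ℕ) :
    (uSer p G (a + k)).map f ≤ uSer p H (b + k) := by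
  induction k with
  | zero => exact h
  | succ k IH =>
    have hn : ((uSer p G (a + k + 1)).map f).Normal := (Cfsg.upperPSeries p G _).2.map f hf
    have hdvd := relIndex_map_dvd f (uSer_le_succ (p := p) (G := G) (a + k))
    rcases Nat.even_or_odd (a + k) with he | ho
    · refine le_uSer_succ_even ?_ hn IH fun hd => uSer_relIndex_even he (hd.trans hdvd)
      show Even (b + k)
      rw [Nat.even_add] at he ⊢; rw [← hpar]; exact he
    · refine le_uSer_succ_odd ?_ hn IH ?_
      · show Odd (b + k)
        rw [← Nat.not_even_iff_odd, Nat.even_add] at ho ⊢; rw [← hpar]; exact ho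
      · obtain ⟨m, hm⟩ := uSer_relIndex_odd (p := p) (G := G) ho
        obtain ⟨j, -, hj⟩ := (Nat.dvd_prime_pow (Fact.out : p.Prime)).mp (hm ▸ hdvd)
        exact ⟨j, hj⟩

theorem pLengthLE_of_surjective {H : Type*} [Group H] [Finite G] [Finite H] [Fact p.Prime]
    (f : G →* H) (hf : Function.Surjective f) {l : ℕ} (h : Cfsg.PLengthLE p l G) :
    Cfsg.PLengthLE p l H := by
  have h1 := uSer_map_le (p := p) f hf (a := 0) (b := 0) Iff.rfl (by rw [uSer_zero, Subgroup.map_bot]; exact bot_le) (2 * l + 1)
  rw [Nat.zero_add] at h1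
  have h2 : uSer p G (2 * l + 1) = ⊤ := h
  rw [h2, Subgroup.map_top_of_surjective f hf] at h1
  exact top_le_iff.mp h1

theorem pLengthLE_quotient_two [Finite G] [Fact p.Prime] {l : ℕ}
    (h : Cfsg.PLengthLE p (l + 1) G) : Cfsg.PLengthLE p l (G ⧸ uSer p G 2) := by
  have h1 := uSer_map_le (p := p) (QuotientGroup.mk' (uSer p G 2)) (QuotientGroup.mk'_surjective _)
    (a := 2) (b := 0) (by decide) (by rw [QuotientGroup.map_mk'_self]; exact bot_le) (2 * l + 1)
  rw [Nat.zero_add, show 2 + (2 * l + 1) = 2 * (l + 1) + 1 by ring] at h1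
  have h2 : uSer p G (2 * (l + 1) + 1) = ⊤ := h
  rw [h2, Subgroup.map_top_of_surjective _ (QuotientGroup.mk'_surjective _)] at h1
  exact top_le_iff.mp h1

/-- Characteristicity of the upper p-series. -/
theorem uSer_characteristic [Finite G] [Fact p.Prime] (n : ℕ) : (uSer p G n).Characteristic := by
  rw [Subgroup.characteristic_iff_map_le]
  intro φ
  have h := uSer_map_le (p := p) φ.toMonoidHom φ.surjective (a := 0) (b := 0) Iff.rfl
    (by rw [uSer_zero, Subgroup.map_bot]) n
  rwa [Nat.zero_add] at h

theorem uSer_map_subtype_le [Finite G] [Fact p.Prime] (N : Subgroup G) [hN : N.Normal] (n : ℕ) :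
    (uSer p (↥N) n).map N.subtype ≤ uSer p G n := by
  induction n with
  | zero => rw [uSer_zero, uSer_zero, Subgroup.map_bot]
  | succ n IH =>
    have := uSer_characteristic (p := p) (G := ↥N) (n + 1)
    have hA : ((uSer p (↥N) (n + 1)).map N.subtype).Normal := inferInstance
    have e : ((uSer p (↥N) n).map N.subtype).relIndex ((uSer p (↥N) (n + 1)).map N.subtype) =
        (uSer p (↥N) n).relIndex (uSer p (↥N) (n + 1)) :=
      Subgroup.relIndex_map_map_of_injective _ _ N.subtype_injective
    rcases Nat.even_or_odd n with he | ho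
    · exact le_uSer_succ_even he hA IH (by rw [e]; exact uSer_relIndex_even he)
    · exact le_uSer_succ_odd ho hA IH (by rw [e]; exact uSer_relIndex_odd ho)

theorem comap_subtype_uSer_le [Finite G] [Fact p.Prime] (N : Subgroup G) (n : ℕ) :
    (uSer p G n).comap N.subtype ≤ uSer p (↥N) n := by
  induction n with
  | zero => rw [uSer_zero, uSer_zero, MonoidHom.comap_bot, Subgroup.ker_subtype]
  | succ n IH =>
    have hn1 : (uSer p G (n + 1)).Normal := (Cfsg.upperPSeries p G (n + 1)).2
    have hA : ((uSer p G (n + 1)).comap N.subtype).Normal := hn1.comap _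
    have e : ((uSer p G n).comap N.subtype).relIndex ((uSer p G (n + 1)).comap N.subtype) ∣
        (uSer p G n).relIndex (uSer p G (n + 1)) := by
      rw [Subgroup.relIndex_comap]
      exact relIndex_dvd_of_normal_le (Cfsg.upperPSeries p G n).2 (Subgroup.map_comap_le _ _)
    rcases Nat.even_or_odd n with he | ho
    · exact le_uSer_succ_even he hA IH fun hd => uSer_relIndex_even he (hd.trans e)
    · obtain ⟨m, hm⟩ := uSer_relIndex_odd (p := p) (G := G) ho
      obtain ⟨j, -, hj⟩ := (Nat.dvd_prime_pow (Fact.out : p.Prime)).mp (hm ▸ e)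
      exact le_uSer_succ_odd ho hA IH ⟨j, hj⟩

theorem pLengthLE_subgroup [Finite G] [Fact p.Prime] (N : Subgroup G) {l : ℕ}
    (h : Cfsg.PLengthLE p l G) : Cfsg.PLengthLE p l ↥N := by
  have h2 : uSer p G (2 * l + 1) = ⊤ := h
  have h1 := comap_subtype_uSer_le (p := p) N (2 * l + 1)
  rw [h2, Subgroup.comap_top] at h1
  exact top_le_iff.mp h1

/-- Subadditivity. -/
theorem pLengthLE_extension [Finite G] [hp : Fact p.Prime] (N : Subgroup G) [hN : N.Normal]
    {a b : ℕ} (ha : N ≤ uSer p G (2 * a + 1)) (hb : Cfsg.PLengthLE p b (G ⧸ N)) :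
    Cfsg.PLengthLE p (a + b) G := by
  set f := QuotientGroup.mk' N
  have hf : Function.Surjective f := QuotientGroup.mk'_surjective N
  have e : ∀ n, ((uSer p (G ⧸ N) n).comap f).relIndex ((uSer p (G ⧸ N) (n + 1)).comap f) =
      (uSer p (G ⧸ N) n).relIndex (uSer p (G ⧸ N) (n + 1)) := fun n => by
    rw [Subgroup.relIndex_comap, Subgroup.map_comap_eq_self_of_surjective hf]
  have key : ∀ n, (uSer p (G ⧸ N) (n + 1)).comap f ≤ uSer p G (2 * a + (n + 1)) := by
    intro n
    induction n with
    | zero =>
      have hA : ((uSer p (G ⧸ N) 1).comap f).Normal := (Cfsg.upperPSeries p _ 1).2.comap f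
      refine le_uSer_absorb (even_two_mul a) hA (S := (uSer p (G ⧸ N) 0).comap f) ?_ ?_
      · rwa [uSer_zero, MonoidHom.comap_bot, QuotientGroup.ker_mk']
      · rw [e 0]; exact uSer_relIndex_even Even.zero
    | succ n IH =>
      have hA : ((uSer p (G ⧸ N) (n + 1 + 1)).comap f).Normal := (Cfsg.upperPSeries p _ _).2.comap f
      rcases Nat.even_or_odd (n + 1) with he | ho
      · exact le_uSer_succ_even ((even_two_mul a).add he) hA IH (by rw [e]; exact uSer_relIndex_even he)
      · exact le_uSer_succ_odd ((even_two_mul a).add_odd ho) hA IH (by rw [e]; exact uSer_relIndex_odd ho)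
  have h1 := key (2 * b)
  have h2 : uSer p (G ⧸ N) (2 * b + 1) = ⊤ := hb
  rw [h2, Subgroup.comap_top, show 2 * a + (2 * b + 1) = 2 * (a + b) + 1 by ring] at h1
  exact top_le_iff.mp h1

theorem pLengthLE_mono {k l : ℕ} (h : k ≤ l) (hk : Cfsg.PLengthLE p k G) : Cfsg.PLengthLE p l G := by
  have h2 : uSer p G (2 * k + 1) = ⊤ := hk
  have h1 := uSer_mono (p := p) (G := G) (show 2 * k + 1 ≤ 2 * l + 1 by omega)
  rw [h2] at h1
  exact top_le_iff.mp h1

theorem pLengthLE_one_of_isPGroup [Finite G] [Fact p.Prime] (hG : IsPGroup p G) :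
    Cfsg.PLengthLE p 1 G := by
  obtain ⟨m, hm⟩ := hG.exists_card_eq
  have h2 : (⊤ : Subgroup G) ≤ uSer p G (1 + 1) := by
    refine le_uSer_succ_odd odd_one inferInstance (S := ⊥) bot_le ⟨m, ?_⟩
    rw [Subgroup.relIndex_bot_left, Subgroup.card_top, hm]
  exact top_le_iff.mp (h2.trans (uSer_mono (show 1 + 1 ≤ 2 * 1 + 1 by omega)))

/-- Hall-Higman: the p-length is at most the product of the `1 + l_q`. -/
theorem pLengthLE_prod : ∀ (r : ℕ) (G : Type u) [Group G] [Finite G] (p : ℕ) [Fact p.Prime]
    (q : Fin r → ℕ), (∀ i, (q i).Prime ∧ q i ≠ p) →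
    (∀ s : ℕ, s.Prime → s ∣ Nat.card G → s ≠ p → ∃ i, q i = s) → ∀ (l : Fin r → ℕ),
    (∀ i, Cfsg.PLengthLE (q i) (l i) G) →
    Cfsg.PLengthLE p (Finset.univ.prod fun i => 1 + l i) G := by
  intro r
  induction r with
  | zero =>
    intro G _ _ p hp q _ hcover l _
    have hG : IsPGroup p G := by
      refine IsPGroup.of_card (n := (Nat.card G).primeFactorsList.length)
        (Nat.eq_prime_pow_of_unique_prime_dvd Nat.card_pos.ne' fun {s} hs hd => ?_)
      by_contra hne
      obtain ⟨i, -⟩ := hcover s hs hd hne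
      exact i.elim0
    simpa using pLengthLE_one_of_isPGroup hG
  | succ r IHr =>
    intro G _ _ p hp q hq hcover l hl
    rw [Fin.prod_univ_castSucc]
    set P := Finset.univ.prod fun i : Fin r => 1 + l i.castSucc
    set qq := q (Fin.last r) with hqq
    have hqp : Fact qq.Prime := ⟨(hq _).1⟩
    suffices h : ∀ (m : ℕ) (H : Type u) [Group H] [Finite H],
        (∀ s : ℕ, s.Prime → s ∣ Nat.card H → s ≠ p → ∃ i, q i = s) →
        (∀ i : Fin r, Cfsg.PLengthLE (q i.castSucc) (l i.castSucc) H) →
        Cfsg.PLengthLE qq m H → Cfsg.PLengthLE p (P * (1 + m)) H from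
      h (l (Fin.last r)) G hcover (fun i => hl i.castSucc) (hl (Fin.last r))
    intro m
    induction m with
    | zero =>
      intro H _ _ hcov hlen hm
      rw [show P * (1 + 0) = P by ring]
      have hm' : uSer qq H (0 + 1) = ⊤ := hm
      have hd := uSer_relIndex_even (p := qq) (G := H) Even.zero
      rw [hm', uSer_zero, Subgroup.relIndex_bot_left, Subgroup.card_top] at hd
      refine IHr H p (fun i => q i.castSucc) (fun i => hq _) (fun s hs hsd hsp => ?_) _ hlen
      obtain ⟨i, hi⟩ := hcov s hs hsd hsp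
      induction i using Fin.lastCases with
      | last => exact absurd (by rw [hqq, hi]; exact hsd) hd
      | cast i => exact ⟨i, hi⟩
    | succ m IHm =>
      intro H _ _ hcov hlen hm
      rw [show P * (1 + (m + 1)) = P + P * (1 + m) by ring]
      have hU1n : (uSer qq H 1).Normal := (Cfsg.upperPSeries qq H 1).2
      have hU2n : (uSer qq H 2).Normal := (Cfsg.upperPSeries qq H 2).2
      refine pLengthLE_extension (uSer qq H 2) ?_ ?_
      · have hcard : ¬ qq ∣ Nat.card ↥(uSer qq H 1) := by
          have hd := uSer_relIndex_even (p := qq) (G := H) Even.zero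
          rwa [uSer_zero, Subgroup.relIndex_bot_left] at hd
        have h1 : Cfsg.PLengthLE p P ↥(uSer qq H 1) := by
          refine IHr _ p (fun i => q i.castSucc) (fun i => hq _) (fun s hs hsd hsp => ?_) _
            (fun i => ?_)
          · obtain ⟨i, hi⟩ := hcov s hs (hsd.trans (Subgroup.card_subgroup_dvd_card _)) hsp
            induction i using Fin.lastCases with
            | last => exact absurd hsd (by rw [show s = qq from hi.symm]; exact hcard)
            | cast i => exact ⟨i, hi⟩
          · have := Fact.mk (hq i.castSucc).1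
            exact pLengthLE_subgroup _ (hlen i)
        have h1' : uSer p (↥(uSer qq H 1)) (2 * P + 1) = ⊤ := h1
        have h2 := uSer_map_subtype_le (p := p) (uSer qq H 1) (2 * P + 1)
        rw [h1', ← MonoidHom.range_eq_map, Subgroup.range_subtype] at h2
        refine le_uSer_absorb (even_two_mul P) hU2n h2 fun hdvd => ?_
        obtain ⟨j, hj⟩ := uSer_relIndex_odd (p := qq) (G := H) odd_one
        rw [show (uSer qq H 1).relIndex (uSer qq H 2) = qq ^ j from hj] at hdvd
        exact (hq _).2 ((Nat.prime_dvd_prime_iff_eq hp.out hqp.out).mp (hp.out.dvd_of_dvd_pow hdvd)).symm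
      · refine IHm _ (fun s hs hsd hsp => hcov s hs (hsd.trans ?_) hsp) (fun i => ?_)
          (pLengthLE_quotient_two hm)
        · exact Subgroup.card_quotient_dvd_card _
        · have := Fact.mk (hq i.castSucc).1
          exact pLengthLE_of_surjective _ (QuotientGroup.mk'_surjective _) (hlen i)

theorem derivedSeries_add_le {H : Subgroup G} {a : ℕ} (h : derivedSeries G a ≤ H) (b : ℕ) :
    derivedSeries G (a + b) ≤ (derivedSeries ↥H b).map H.subtype := by
  induction b with
  | zero => rwa [derivedSeries_zero, ← MonoidHom.range_eq_map, Subgroup.range_subtype, Nat.add_zero]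
  | succ b IH =>
    rw [← Nat.add_assoc, derivedSeries_succ, derivedSeries_succ, Subgroup.map_commutator]
    exact Subgroup.commutator_mono IH IH

theorem derivedSeries_bot_of_injective {K : Type*} [Group K] (f : K →* G) (hf : Function.Injective f)
    {d : ℕ} (h : derivedSeries G d = ⊥) : derivedSeries K d = ⊥ := by
  have h1 := map_derivedSeries_le_derivedSeries f d
  rw [h, le_bot_iff, Subgroup.map_eq_bot_iff] at h1
  exact le_bot_iff.mp (h1.trans (f.ker_eq_bot_iff.mpr hf).le)

theorem sylow_derived_quotient [Finite G] [Fact p.Prime] {d : ℕ} (N : Subgroup G) [N.Normal]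
    (hd : ∀ S : Sylow p G, derivedSeries ↥(S : Subgroup G) d = ⊥) (S : Sylow p (G ⧸ N)) :
    derivedSeries ↥(S : Subgroup (G ⧸ N)) d = ⊥ := by
  obtain ⟨P, rfl⟩ := Sylow.mapSurjective_surjective (QuotientGroup.mk'_surjective N) p S
  have hsurj := ((QuotientGroup.mk' N).subgroupMap_surjective (P : Subgroup G))
  have h1 := map_derivedSeries_eq hsurj d
  rw [hd P, Subgroup.map_bot] at h1
  exact h1.symm

/-- Hall-Higman: derived length is at most the sum of the `d_q l_q`. -/
theorem derivedSeries_sum_bot : ∀ (L : ℕ) (G : Type u) [Group G] [Finite G] (r : ℕ) (q : Fin r → ℕ),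
    (∀ i, (q i).Prime) → (∀ s : ℕ, s.Prime → s ∣ Nat.card G → ∃ i, q i = s) →
    ∀ (d l : Fin r → ℕ), (∀ i, ∀ S : Sylow (q i) G, derivedSeries ↥(S : Subgroup G) (d i) = ⊥) →
    (∀ i, Cfsg.PLengthLE (q i) (l i) G) → Finset.univ.sum l = L →
    derivedSeries G (Finset.univ.sum fun i => d i * l i) = ⊥ := by
  intro L
  induction L using Nat.strong_induction_on with
  | _ L IH =>
    intro G _ _ r q hq hcover d l hd hl hL
    set S := Finset.univ.sum fun i => d i * l i with hS
    have key : ∀ i, derivedSeries G S ≤ uSer (q i) G 1 := by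
      intro i
      have := Fact.mk (hq i)
      rcases Nat.eq_zero_or_pos (l i) with h0 | hpos
      · have h := hl i
        rw [h0] at h
        have h' : uSer (q i) G 1 = ⊤ := h
        rw [h']; exact le_top
      set U1 := uSer (q i) G 1
      set U2 := uSer (q i) G 2
      have hU1n : U1.Normal := (Cfsg.upperPSeries _ G 1).2
      have hU2n : U2.Normal := (Cfsg.upperPSeries _ G 2).2
      let l' : Fin r → ℕ := fun j => if j = i then l j - 1 else l j
      have hsplit : S = (Finset.univ.sum fun j => d j * l' j) + d i := by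
        rw [hS, show d i = Finset.univ.sum (fun j => if j = i then d j else 0) by simp,
          ← Finset.sum_add_distrib]
        refine Finset.sum_congr rfl fun j _ => ?_
        by_cases hji : j = i
        · subst hji
          simp only [l', ↓reduceIte]
          obtain ⟨t, ht⟩ : ∃ t, l j = t + 1 := ⟨l j - 1, by omega⟩
          rw [ht, Nat.add_sub_cancel]; ring
        · simp [l', hji]
      have hlt : Finset.univ.sum l' < L := by
        rw [← hL]
        refine Finset.sum_lt_sum (fun j _ => ?_) ⟨i, Finset.mem_univ i, ?_⟩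
        · show (if j = i then l j - 1 else l j) ≤ l j
          split <;> omega
        · show (if i = i then l i - 1 else l i) < l i
          rw [if_pos rfl]; omega
      have hl' : ∀ j, Cfsg.PLengthLE (q j) (l' j) (G ⧸ U2) := by
        intro j
        by_cases hji : j = i
        · subst hji
          simp only [l', ↓reduceIte]
          refine pLengthLE_quotient_two ?_
          rw [Nat.sub_add_cancel hpos]; exact hl j
        · simp only [l', if_neg hji]
          have := Fact.mk (hq j)
          exact pLengthLE_of_surjective _ (QuotientGroup.mk'_surjective U2) (hl j)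
      have h2 := IH _ hlt (G ⧸ U2) r q hq
        (fun s hs hsd => hcover s hs (hsd.trans (Subgroup.card_quotient_dvd_card _))) d l'
        (fun j => by have := Fact.mk (hq j); exact sylow_derived_quotient U2 (hd j)) hl' rfl
      set π := QuotientGroup.mk' U1
      have hπ : Function.Surjective π := QuotientGroup.mk'_surjective U1
      have h3 : derivedSeries G (Finset.univ.sum fun j => d j * l' j) ≤ U2 := by
        have h4 := map_derivedSeries_eq (QuotientGroup.mk'_surjective U2)
          (Finset.univ.sum fun j => d j * l' j)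
        rw [h2, Subgroup.map_eq_bot_iff, QuotientGroup.ker_mk'] at h4
        exact h4
      have h5 : derivedSeries (G ⧸ U1) (Finset.univ.sum fun j => d j * l' j) ≤ U2.map π := by
        rw [← map_derivedSeries_eq hπ]; exact Subgroup.map_mono h3
      obtain ⟨k, hk⟩ := uSer_relIndex_odd (p := q i) (G := G) odd_one
      have hM : IsPGroup (q i) ↥(U2.map π) := IsPGroup.of_card (n := k) (by
        rw [← Subgroup.relIndex_ker, QuotientGroup.ker_mk']; exact hk)
      obtain ⟨T, hT⟩ := hM.exists_le_sylow
      have h6 : derivedSeries ↥(U2.map π) (d i) = ⊥ :=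
        derivedSeries_bot_of_injective _ (Subgroup.inclusion_injective hT)
          (sylow_derived_quotient U1 (hd i) T)
      have h7 := derivedSeries_add_le h5 (d i)
      rw [h6, Subgroup.map_bot, ← hsplit, ← map_derivedSeries_eq hπ, le_bot_iff,
        Subgroup.map_eq_bot_iff, QuotientGroup.ker_mk'] at h7
      exact h7
    by_contra hne
    have h1 : Nat.card ↥(derivedSeries G S) ≠ 1 := fun h => hne (Subgroup.card_eq_one.mp h)
    obtain ⟨s, hs, hsd⟩ := Nat.exists_prime_and_dvd h1
    obtain ⟨i, rfl⟩ := hcover s hs (hsd.trans (Subgroup.card_subgroup_dvd_card _))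
    have := Fact.mk (hq i)
    have hd1 := uSer_relIndex_even (p := q i) (G := G) Even.zero
    rw [uSer_zero, Subgroup.relIndex_bot_left] at hd1
    exact hd1 (hsd.trans (Subgroup.card_dvd_of_le (key i)))

end Cfsg.Agent.Grp
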