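import Mathlib
import Cfsg.Agent.Lib.Grp.NormOperator
import Cfsg.Agent.Lib.Grp.PLengthSeries
import Cfsg.Agent.Lib.Grp.PSolvable
import Cfsg.Agent.Lib.Grp.Frattini
import Cfsg.Agent.Lib.Grp.PComponents
import Cfsg.Agent.Lib.Block.TISylow

/-!
The exponent of a Sylow `p`-subgroup bounds the `p`-length when all other Sylow subgroups are abelian.
-/

set_option autoImplicit false

namespace Cfsg.Agent.Grp

open Subgroup
open scoped commutatorElement

universe u

theorem pow_mul_eq_prod {E V : Type*} [Group E] [CommMonoid V] (ι : V →* E) (φ : ℕ → V → V) (x : E)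
    (hφ : ∀ i v, ι (φ i v) = x ^ i * ι v * (x ^ i)⁻¹) (v : V) (m : ℕ) :
    (ι v * x) ^ m = ι (∏ i ∈ Finset.range m, φ i v) * x ^ m := by
  induction m with
  | zero => simp
  | succ m ih => rw [pow_succ, ih, Finset.prod_range_succ, map_mul, hφ, pow_succ]; group

theorem pElement_pow_eq_one {G H : Type u} [Group G] [Finite G] [Group H] [Finite H] {p : ℕ} [Fact p.Prime]
    (f : G →* H) (hf : Function.Surjective f) {n : ℕ}
    (hexp : ∀ (P : Sylow p G), ∀ x ∈ (P : Subgroup G), x ^ p ^ n = 1) {y : H}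
    (hy : IsPGroup p ↥(zpowers y)) : y ^ p ^ n = 1 := by
  obtain ⟨y', rfl⟩ := hf y
  obtain ⟨a, -, hap, hay⟩ := exists_pElement_lift (p := p) f (y := y') hy
  obtain ⟨P, hP⟩ := hap.exists_le_sylow
  rw [← hay, ← map_pow, hexp P a (hP (mem_zpowers a)), map_one]

theorem exponent_quotient {G : Type u} [Group G] [Finite G] {p : ℕ} [hp : Fact p.Prime]
    (hG : Cfsg.IsPSolvable p G)
    (hab : ∀ (q : ℕ) [Fact q.Prime], q ≠ p → ∀ Q : Sylow q G, IsMulCommutative (Q : Subgroup G))
    {n : ℕ} (hexp : ∀ (P : Sylow p G), ∀ x ∈ (P : Subgroup G), x ^ p ^ (n + 1) = 1) :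
    ∀ x : G, IsPGroup p ↥(zpowers x) → x ^ p ^ n ∈ uSer p G 2 := by
  classical
  intro x hx
  rw [uSer_succ_odd odd_one, mem_comap]
  set G1 := G ⧸ uSer p G 1 with hG1
  set q1 := QuotientGroup.mk' (uSer p G 1) with hq1
  have hq1s : Function.Surjective q1 := QuotientGroup.mk'_surjective _
  have hps1 : Cfsg.IsPSolvable p G1 := isPSolvable_map hG q1 hq1s
  have hO1 : Cfsg.pPrimeCore p G1 = ⊥ := by
    rw [← Subgroup.map_comap_eq_self_of_surjective hq1s (Cfsg.pPrimeCore p G1),
      Subgroup.map_eq_bot_iff, hq1, QuotientGroup.ker_mk']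
    refine le_uSer_absorb Even.zero ((pPrimeCore_isNormal).comap q1) (S := uSer p G 1) le_rfl ?_
    have e := Subgroup.relIndex_ker (K := (Cfsg.pPrimeCore p G1).comap q1) q1
    rw [hq1, QuotientGroup.ker_mk'] at e
    rw [e, Subgroup.map_comap_eq_self_of_surjective hq1s]
    exact pPrimeCore_not_dvd
  set P0 := Cfsg.pCore p G1 with hP0
  haveI : P0.Normal := pCore_isNormal
  set Φ0 := (frattini ↥P0).map P0.subtype with hΦ0
  haveI : Φ0.Normal := inferInstance
  set G2 := G1 ⧸ Φ0
  set q2 := QuotientGroup.mk' Φ0 with hq2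
  have hq2s : Function.Surjective q2 := QuotientGroup.mk'_surjective _
  set V := P0.map q2 with hV
  haveI : V.Normal := (inferInstance : P0.Normal).map q2 hq2s
  have hP0p : IsPGroup p P0 := pCore_isPGroup
  have hmem : ∀ b ∈ frattini ↥P0, q2 (b : G1) = 1 := fun b hb =>
    (QuotientGroup.eq_one_iff _).mpr ⟨b, hb, rfl⟩
  have hVexp : ∀ v ∈ V, v ^ p = 1 := by
    rintro _ ⟨a, ha, rfl⟩
    rw [← map_pow]; exact hmem _ (pGroup_pow_mem_frattini hP0p ⟨a, ha⟩)
  haveI hVc : IsMulCommutative V := by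
    refine ⟨⟨?_⟩⟩
    rintro ⟨_, a, ha, rfl⟩ ⟨_, b, hb, rfl⟩
    refine Subtype.ext ?_
    show q2 a * q2 b = q2 b * q2 a
    rw [← commutatorElement_eq_one_iff_mul_comm, ← map_commutatorElement]
    exact hmem ⁅(⟨a, ha⟩ : ↥P0), ⟨b, hb⟩⁆ (pGroup_commutator_le_frattini hP0p
      (Subgroup.commutator_mem_commutator (Subgroup.mem_top _) (Subgroup.mem_top _)))
  letI : CommGroup ↥V := { (inferInstance : Group ↥V) with mul_comm := fun a b => hVc.is_comm.comm a b }
  let ψ : G2 →* MulAut ↥V := MulAut.conjNormal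
  -- the kernel of the action is `V`
  have hkerP : (ψ.comp q2).ker ≤ P0 := by
    refine le_pCore inferInstance (IsPGroup.iff_orderOf.mpr fun g => ?_)
    obtain ⟨k, m, hm, hkm⟩ := Nat.exists_eq_pow_mul_and_not_dvd (orderOf_pos g).ne' p hp.out.ne_one
    refine ⟨k, ?_⟩
    set a : G1 := (g : G1) ^ p ^ k with ha
    have hao : orderOf a = m := by
      rw [ha, orderOf_pow' _ (pow_ne_zero _ hp.out.ne_zero), Subgroup.orderOf_coe, hkm,
        Nat.gcd_eq_right (dvd_mul_right _ _), Nat.mul_div_cancel_left _ (pow_pos hp.out.pos _)]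
    have hcop : (Nat.card ↥(zpowers a)).Coprime (Nat.card P0) := by
      obtain ⟨j, hj⟩ := hP0p.exists_card_eq
      rw [Nat.card_zpowers, hao, hj]
      exact ((hp.out.coprime_iff_not_dvd.mpr hm).symm).pow_right j
    have haker : a ∈ (ψ.comp q2).ker := Subgroup.pow_mem _ g.2 _
    have hle : ⁅P0, zpowers a⁆ ≤ Φ0 := by
      rw [Subgroup.commutator_le]
      intro b hb c hc
      have hc' : ψ (q2 c) = 1 := Subgroup.zpowers_le.mpr haker hc
      have h := congrArg Subtype.val (DFunLike.congr_fun hc' ⟨q2 b, b, hb, rfl⟩)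
      simp only [ψ, MulAut.conjNormal_apply, MulAut.one_apply] at h
      rw [← QuotientGroup.eq_one_iff, show (QuotientGroup.mk ⁅b, c⁆ : G2) = q2 ⁅b, c⁆ from rfl,
        map_commutatorElement, commutatorElement_eq_one_iff_mul_comm]
      exact (mul_inv_eq_iff_eq_mul.mp h).symm
    have hn : zpowers a ≤ normalizer (P0 : Set G1) := by rw [Subgroup.normalizer_eq_top]; exact le_top
    have hsup := commutator_sup_fixed (zpowers a) P0 hn hcop (Or.inl inferInstance)
    have htop : ((P0 ⊓ centralizer (zpowers a : Set G1)).subgroupOf P0) ⊔ frattini ↥P0 = ⊤ := by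
      refine top_le_iff.mp fun y _ => ?_
      have hy : (y : G1) ∈ (((P0 ⊓ centralizer (zpowers a : Set G1)).subgroupOf P0) ⊔ frattini ↥P0).map P0.subtype := by
        rw [Subgroup.map_sup, Subgroup.map_subgroupOf_eq_of_le inf_le_left, sup_comm]
        exact (hsup.ge.trans (sup_le_sup_right hle _)) y.2
      obtain ⟨z, hz, hzy⟩ := hy
      rw [← Subtype.ext hzy]; exact hz
    have hc := frattini_nongenerating htop
    rw [Subgroup.subgroupOf_eq_top] at hc
    have haC : a ∈ centralizer (P0 : Set G1) := Subgroup.mem_centralizer_iff.mpr fun y hy =>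
      (Subgroup.mem_centralizer_iff.mp (hc hy).2 a (mem_zpowers a)).symm
    have haP : a ∈ P0 := centralizer_pCore_le_of_pSolvable hps1 hO1 haC
    obtain ⟨j, hj⟩ := (IsPGroup.iff_orderOf.mp hP0p) ⟨a, haP⟩
    rw [Subgroup.orderOf_mk, hao] at hj
    have hm1 : m = 1 := by
      rcases j.eq_zero_or_pos with rfl | hjp
      · simpa using hj
      · exact absurd (hj ▸ dvd_pow_self p hjp.ne') hm
    rw [hkm, hm1, mul_one]
  have hpsH : Cfsg.IsPSolvable p ↥(ψ.comp q2).range := isPSolvable_map hps1 _ (ψ.comp q2).rangeRestrict_surjective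
  have hOH : Cfsg.pCore p ↥(ψ.comp q2).range = ⊥ := by
    set f := (ψ.comp q2).rangeRestrict
    have hfs : Function.Surjective f := (ψ.comp q2).rangeRestrict_surjective
    have hpre : (Cfsg.pCore p ↥(ψ.comp q2).range).comap f ≤ P0 := by
      refine le_pCore ((pCore_isNormal).comap f) ?_
      refine (pCore_isPGroup).comap_of_ker_isPGroup f ?_
      rw [MonoidHom.ker_rangeRestrict]
      exact hP0p.to_le hkerP
    rw [← Subgroup.map_comap_eq_self_of_surjective hfs (Cfsg.pCore p _), Subgroup.map_eq_bot_iff,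
      MonoidHom.ker_rangeRestrict]
    intro a ha
    rw [MonoidHom.mem_ker, MonoidHom.comp_apply]
    refine MulEquiv.ext fun v => Subtype.ext ?_
    show q2 a * v * (q2 a)⁻¹ = v
    have h := congrArg Subtype.val (hVc.is_comm.comm (⟨q2 a, a, hpre ha, rfl⟩ : ↥V) v)
    simp only [Subgroup.coe_mul] at h
    rw [h, mul_inv_cancel_right]
  set K := Cfsg.pPrimeCore p ↥(ψ.comp q2).range with hK
  haveI : K.Normal := pPrimeCore_isNormal
  set h := (ψ.comp q2).rangeRestrict (q1 x) with hh
  have hxm : x ^ p ^ (n + 1) = 1 := by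
    obtain ⟨P, hP⟩ := hx.exists_le_sylow
    exact hexp P x (hP (mem_zpowers x))
  have hhm : h ^ p ^ (n + 1) = 1 := by rw [hh, ← map_pow, ← map_pow, hxm, map_one, map_one]
  suffices hcent : h ^ p ^ n ∈ centralizer (K : Set ↥(ψ.comp q2).range) by
    refine hkerP ?_
    have hK1 : h ^ p ^ n ∈ K := Block.centralizer_pPrimeCore_le hpsH hOH hcent
    have h1 : orderOf (h ^ p ^ n) ∣ p := orderOf_dvd_of_pow_eq_one (by rw [← pow_mul, ← pow_succ, hhm])
    have h2 := Nat.dvd_gcd h1 (Subgroup.orderOf_dvd_natCard _ hK1)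
    rw [(hp.out.coprime_iff_not_dvd.mpr pPrimeCore_not_dvd : p.Coprime (Nat.card ↥K))] at h2
    have h3 := orderOf_eq_one_iff.mp (Nat.dvd_one.mp h2)
    rw [hh, ← map_pow] at h3
    have h4 := congrArg Subtype.val h3
    rw [MonoidHom.mem_ker, map_pow]
    simpa [map_pow] using h4
  set T := zpowers h with hT
  have hTcop : (Nat.card T).Coprime (Nat.card K) := by
    rw [hT, Nat.card_zpowers]
    exact ((hp.out.coprime_iff_not_dvd.mpr pPrimeCore_not_dvd).pow_left (n + 1)).coprime_dvd_left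
      (orderOf_dvd_of_pow_eq_one hhm)
  have hTK : T ≤ normalizer (K : Set ↥(ψ.comp q2).range) := by rw [Subgroup.normalizer_eq_top]; exact le_top
  have hKle : K ≤ centralizer ({h ^ p ^ n} : Set ↥(ψ.comp q2).range) := by
    refine le_trans (le_of_forall_sylow (K := K) inf_le_left fun q hq => ?_) inf_le_right
    obtain ⟨X, hX, hTX⟩ := exists_invariant_sylow T K hTK hTcop (Or.inl inferInstance) q
    refine ⟨X, hX, le_inf hX.1 fun w hw => ?_⟩
    rw [Subgroup.mem_centralizer_singleton_iff]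
    by_cases hqp : q = p
    · subst hqp
      obtain ⟨j, hj⟩ := hX.2.1.exists_card_eq
      rcases j.eq_zero_or_pos with rfl | hj0
      · rw [pow_zero] at hj
        have := Subgroup.card_eq_one.mp hj
        rw [this, Subgroup.mem_bot] at hw
        simp [hw]
      · exact absurd ((hj ▸ dvd_pow_self q hj0.ne' : q ∣ Nat.card X).trans (Subgroup.card_dvd_of_le hX.1))
          pPrimeCore_not_dvd
    obtain ⟨S, hS⟩ := hX.2.1.exists_le_sylow
    obtain ⟨S', hS'⟩ := Sylow.mapSurjective_surjective (f := ((ψ.comp q2).rangeRestrict).comp q1)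
      ((ψ.comp q2).rangeRestrict_surjective.comp hq1s) q S
    have hScomm : ∀ a ∈ (S : Subgroup ↥(ψ.comp q2).range), ∀ b ∈ (S : Subgroup ↥(ψ.comp q2).range), a * b = b * a := by
      rw [← hS']
      rintro _ ⟨a, ha, rfl⟩ _ ⟨b, hb, rfl⟩
      rw [← map_mul, ← map_mul]
      exact congrArg _ (congrArg Subtype.val ((hab q hqp S').is_comm.comm ⟨a, ha⟩ ⟨b, hb⟩))
    let toEnd : MulAut ↥V →* AddMonoid.End (Additive ↥V) :=
      { toFun := fun e => MonoidHom.toAdditive e.toMonoidHom
        map_one' := rfl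
        map_mul' := fun _ _ => rfl }
    let ρ := toEnd.comp (ψ.comp q2).range.subtype
    have hchar : (p : AddMonoid.End (Additive ↥V)) = 0 := by
      refine DFunLike.ext _ _ fun v => ?_
      erw [AddMonoid.End.natCast_apply]
      exact congrArg Additive.ofMul (Subtype.ext (hVexp _ (Additive.toMul v).2))
    have hN : ∑ i ∈ Finset.range (p ^ (n + 1)), ρ (h ^ i) = 0 := by
      refine DFunLike.ext _ _ fun v => ?_
      erw [AddMonoidHom.finsetSum_apply]
      set v' : ↥V := Additive.toMul v with hv'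
      have hpp : IsPGroup p ↥(zpowers ((v' : G2) * q2 (q1 x))) := by
        have hxp : IsPGroup p ↥((zpowers x).map (q2.comp q1)) := hx.map _
        have hsup := (show IsPGroup p V from hP0p.map q2).to_sup_of_normal_left hxp
        exact hsup.to_le (zpowers_le.mpr (Subgroup.mul_mem_sup v'.2 ⟨x, mem_zpowers x, rfl⟩))
      have h1 := pElement_pow_eq_one (q2.comp q1) (hq2s.comp hq1s) hexp hpp
      have h2 := pow_mul_eq_prod V.subtype (fun i v => ψ (q2 (q1 x) ^ i) v) (q2 (q1 x))
        (fun i v => MulAut.conjNormal_apply _ _) v' (p ^ (n + 1))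
      rw [Subgroup.coe_subtype] at h2
      have hxm2 : q2 (q1 x) ^ p ^ (n + 1) = 1 := by rw [← map_pow, ← map_pow, hxm, map_one, map_one]
      rw [h1, hxm2, mul_one] at h2
      have h3 : (∏ i ∈ Finset.range (p ^ (n + 1)), ψ (q2 (q1 x) ^ i) v') = 1 := Subtype.ext h2.symm
      rw [show (0 : AddMonoid.End (Additive ↥V)) v = Additive.ofMul (1 : ↥V) from rfl, ← h3, ofMul_prod]
      refine Finset.sum_congr rfl fun i _ => ?_
      show Additive.ofMul (((h ^ i : ↥(ψ.comp q2).range) : MulAut ↥V) v') = _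
      rw [SubmonoidClass.coe_pow, map_pow]
      rfl
    have hxQ : ∀ a ∈ X, h * a * h⁻¹ ∈ X := fun a ha =>
      (mem_normalizer_iff.mp (hTX (mem_zpowers h)) a).mp ha
    have := norm_relation_centralizes hchar ρ X (fun a ha b hb => hScomm a (hS ha) b (hS hb))
      (fun hd => pPrimeCore_not_dvd (hd.trans (Subgroup.card_dvd_of_le hX.1))) h n hhm hxQ hN w hw
    have h5 : h ^ p ^ n * w * (h ^ p ^ n)⁻¹ = w := by
      refine Subtype.ext (MulEquiv.ext fun v => ?_)
      exact congrArg (fun e : AddMonoid.End (Additive ↥V) => Additive.toMul (e (Additive.ofMul v))) this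
    exact (mul_inv_eq_iff_eq_mul.mp h5).symm
  exact Subgroup.mem_centralizer_iff.mpr fun w hw => Subgroup.mem_centralizer_singleton_iff.mp (hKle hw)

theorem pLengthLE_of_abelian_exponent : ∀ (n : ℕ) (G : Type u) [Group G] [Finite G] (p : ℕ) [Fact p.Prime],
    Cfsg.IsPSolvable p G →
    (∀ (q : ℕ) [Fact q.Prime], q ≠ p → ∀ Q : Sylow q G, IsMulCommutative (Q : Subgroup G)) →
    (∀ (P : Sylow p G), ∀ x ∈ (P : Subgroup G), x ^ p ^ n = 1) → Cfsg.PLengthLE p n G
  | 0, G, _, _, p, hp, hG, _, hexp => by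
    have hd : ¬ p ∣ Nat.card G := by
      intro hd
      obtain ⟨g, hg⟩ := exists_prime_orderOf_dvd_card' p hd
      have hgp : IsPGroup p ↥(zpowers g) := IsPGroup.of_card (n := 1) (by rw [Nat.card_zpowers, hg, pow_one])
      obtain ⟨P, hP⟩ := hgp.exists_le_sylow
      have := hexp P g (hP (mem_zpowers g))
      rw [pow_zero, pow_one] at this
      rw [this, orderOf_one] at hg
      exact hp.out.one_lt.ne hg
    exact top_le_iff.mp (le_uSer_succ_even Even.zero inferInstance (S := ⊥) bot_le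
      (by rwa [Subgroup.relIndex_bot_left, Subgroup.card_top]))
  | n + 1, G, _, _, p, hp, hG, hab, hexp => by
    haveI : (uSer p G 2).Normal := (Cfsg.upperPSeries p G 2).2
    set f := QuotientGroup.mk' (uSer p G 2)
    have hf : Function.Surjective f := QuotientGroup.mk'_surjective _
    rw [Nat.add_comm n 1]
    refine pLengthLE_extension (uSer p G 2) (a := 1) (uSer_mono (by omega)) ?_
    refine pLengthLE_of_abelian_exponent n _ p (isPSolvable_map hG f hf) ?_ ?_
    · intro q hq hqp Q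
      obtain ⟨Q', rfl⟩ := Sylow.mapSurjective_surjective hf q Q
      refine ⟨⟨?_⟩⟩
      rintro ⟨_, a, ha, rfl⟩ ⟨_, b, hb, rfl⟩
      refine Subtype.ext ?_
      show f a * f b = f b * f a
      rw [← map_mul, ← map_mul]
      exact congrArg f (congrArg Subtype.val ((hab q hqp Q').is_comm.comm ⟨a, ha⟩ ⟨b, hb⟩))
    · intro P y hy
      obtain ⟨P', rfl⟩ := Sylow.mapSurjective_surjective hf p P
      obtain ⟨a, ha, rfl⟩ := hy
      rw [← map_pow]
      exact (QuotientGroup.eq_one_iff _).mpr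
        (exponent_quotient hG hab hexp a (P'.isPGroup'.to_le (zpowers_le.mpr ha)))

end Cfsg.Agent.Grp
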