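import Mathlib
import Cfsg.Agent.Lib.Grp.HHCommute
import Cfsg.Agent.Lib.Grp.HHSmall
import Cfsg.Agent.Lib.Grp.PLengthAbelian

/-!
The exponent of a Sylow `p`-subgroup bounds the `p`-length, `p` odd.
-/

set_option autoImplicit false
set_option linter.style.haveILetI false

namespace Cfsg.Agent.Grp.HHP

open Subgroup
open scoped commutatorElement

universe u

/-- The faithful action of a `p`-soluble group on the Frattini quotient of its `p`-core. -/
theorem exists_action {G : Type u} [Group G] [Finite G] {p : ℕ} [hp : Fact p.Prime]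
    (hG : Cfsg.IsPSolvable p G) :
    ∃ (Γ V : Type u) (_ : Group Γ) (_ : Finite Γ) (_ : CommGroup V) (_ : Finite V)
      (q : G →* Γ) (ι : V →* Γ) (χ : Γ →* MulAut V),
      Function.Surjective q ∧ Function.Injective ι ∧ (∀ g v, ι (χ g v) = g * ι v * g⁻¹) ∧
      (∀ v : V, v ^ p = 1) ∧ uSer p G 1 ≤ q.ker ∧ (χ.comp q).ker ≤ uSer p G 2 ∧
      Cfsg.pCore p ↥(χ.comp q).range = ⊥ ∧ χ.ker ≤ ι.range := by
  classical
  set G1 := G ⧸ uSer p G 1 with hG1
  set q1 := QuotientGroup.mk' (uSer p G 1) with hq1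
  have hq1s : Function.Surjective q1 := QuotientGroup.mk'_surjective _
  have hps1 : Cfsg.IsPSolvable p G1 := isPSolvable_map hG q1 hq1s
  have hO1 : Cfsg.pPrimeCore p G1 = ⊥ := by
    rw [← Subgroup.map_comap_eq_self_of_surjective hq1s (Cfsg.pPrimeCore p G1),
      Subgroup.map_eq_bot_iff, hq1, QuotientGroup.ker_mk']
    refine le_uSer_absorb Even.zero ((pPrimeCore_isNormal).comap q1) (S := uSer p G 1) le_rfl ?_
    have e := Subgroup.relIndex_ker (K := (Cfsg.pPrimeCore p G1).comap q1) q1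
    rw [hq1, QuotientGroup.ker_mk'] at e
    rw [e, Subgroup.map_comap_eq_self_of_surjective hq1s]
    exact pPrimeCore_not_dvd
  set P0 := Cfsg.pCore p G1 with hP0
  haveI : P0.Normal := pCore_isNormal
  set Φ0 := (frattini ↥P0).map P0.subtype with hΦ0
  haveI : Φ0.Normal := inferInstance
  set G2 := G1 ⧸ Φ0
  set q2 := QuotientGroup.mk' Φ0 with hq2
  have hq2s : Function.Surjective q2 := QuotientGroup.mk'_surjective _
  set V := P0.map q2 with hV
  haveI : V.Normal := (inferInstance : P0.Normal).map q2 hq2s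
  have hP0p : IsPGroup p P0 := pCore_isPGroup
  have hmem : ∀ b ∈ frattini ↥P0, q2 (b : G1) = 1 := fun b hb =>
    (QuotientGroup.eq_one_iff _).mpr ⟨b, hb, rfl⟩
  have hVexp : ∀ v ∈ V, v ^ p = 1 := by
    rintro _ ⟨a, ha, rfl⟩
    rw [← map_pow]; exact hmem _ (pGroup_pow_mem_frattini hP0p ⟨a, ha⟩)
  haveI hVc : IsMulCommutative V := by
    refine ⟨⟨?_⟩⟩
    rintro ⟨_, a, ha, rfl⟩ ⟨_, b, hb, rfl⟩
    refine Subtype.ext ?_
    show q2 a * q2 b = q2 b * q2 a
    rw [← commutatorElement_eq_one_iff_mul_comm, ← map_commutatorElement]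
    exact hmem ⁅(⟨a, ha⟩ : ↥P0), ⟨b, hb⟩⁆ (pGroup_commutator_le_frattini hP0p
      (Subgroup.commutator_mem_commutator (Subgroup.mem_top _) (Subgroup.mem_top _)))
  letI : CommGroup ↥V := { (inferInstance : Group ↥V) with mul_comm := fun a b => hVc.is_comm.comm a b }
  let ψ : G2 →* MulAut ↥V := MulAut.conjNormal
  -- the kernel of the action is `V`
  have hkerP : (ψ.comp q2).ker ≤ P0 := by
    refine le_pCore inferInstance (IsPGroup.iff_orderOf.mpr fun g => ?_)
    obtain ⟨k, m, hm, hkm⟩ := Nat.exists_eq_pow_mul_and_not_dvd (orderOf_pos g).ne' p hp.out.ne_one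
    refine ⟨k, ?_⟩
    set a : G1 := (g : G1) ^ p ^ k with ha
    have hao : orderOf a = m := by
      rw [ha, orderOf_pow' _ (pow_ne_zero _ hp.out.ne_zero), Subgroup.orderOf_coe, hkm,
        Nat.gcd_eq_right (dvd_mul_right _ _), Nat.mul_div_cancel_left _ (pow_pos hp.out.pos _)]
    have hcop : (Nat.card ↥(zpowers a)).Coprime (Nat.card P0) := by
      obtain ⟨j, hj⟩ := hP0p.exists_card_eq
      rw [Nat.card_zpowers, hao, hj]
      exact ((hp.out.coprime_iff_not_dvd.mpr hm).symm).pow_right j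
    have haker : a ∈ (ψ.comp q2).ker := Subgroup.pow_mem _ g.2 _
    have hle : ⁅P0, zpowers a⁆ ≤ Φ0 := by
      rw [Subgroup.commutator_le]
      intro b hb c hc
      have hc' : ψ (q2 c) = 1 := Subgroup.zpowers_le.mpr haker hc
      have h := congrArg Subtype.val (DFunLike.congr_fun hc' ⟨q2 b, b, hb, rfl⟩)
      simp only [ψ, MulAut.conjNormal_apply, MulAut.one_apply] at h
      rw [← QuotientGroup.eq_one_iff, show (QuotientGroup.mk ⁅b, c⁆ : G2) = q2 ⁅b, c⁆ from rfl,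
        map_commutatorElement, commutatorElement_eq_one_iff_mul_comm]
      exact (mul_inv_eq_iff_eq_mul.mp h).symm
    have hn : zpowers a ≤ normalizer (P0 : Set G1) := by rw [Subgroup.normalizer_eq_top]; exact le_top
    have hsup := commutator_sup_fixed (zpowers a) P0 hn hcop (Or.inl inferInstance)
    have htop : ((P0 ⊓ centralizer (zpowers a : Set G1)).subgroupOf P0) ⊔ frattini ↥P0 = ⊤ := by
      refine top_le_iff.mp fun y _ => ?_
      have hy : (y : G1) ∈ (((P0 ⊓ centralizer (zpowers a : Set G1)).subgroupOf P0) ⊔ frattini ↥P0).map P0.subtype := by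
        rw [Subgroup.map_sup, Subgroup.map_subgroupOf_eq_of_le inf_le_left, sup_comm]
        exact (hsup.ge.trans (sup_le_sup_right hle _)) y.2
      obtain ⟨z, hz, hzy⟩ := hy
      rw [← Subtype.ext hzy]; exact hz
    have hc := frattini_nongenerating htop
    rw [Subgroup.subgroupOf_eq_top] at hc
    have haC : a ∈ centralizer (P0 : Set G1) := Subgroup.mem_centralizer_iff.mpr fun y hy =>
      (Subgroup.mem_centralizer_iff.mp (hc hy).2 a (mem_zpowers a)).symm
    have haP : a ∈ P0 := centralizer_pCore_le_of_pSolvable hps1 hO1 haC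
    obtain ⟨j, hj⟩ := (IsPGroup.iff_orderOf.mp hP0p) ⟨a, haP⟩
    rw [Subgroup.orderOf_mk, hao] at hj
    have hm1 : m = 1 := by
      rcases j.eq_zero_or_pos with rfl | hjp
      · simpa using hj
      · exact absurd (hj ▸ dvd_pow_self p hjp.ne') hm
    rw [hkm, hm1, mul_one]
  have hpsH : Cfsg.IsPSolvable p ↥(ψ.comp q2).range := isPSolvable_map hps1 _ (ψ.comp q2).rangeRestrict_surjective
  have hOH : Cfsg.pCore p ↥(ψ.comp q2).range = ⊥ := by
    set f := (ψ.comp q2).rangeRestrict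
    have hfs : Function.Surjective f := (ψ.comp q2).rangeRestrict_surjective
    have hpre : (Cfsg.pCore p ↥(ψ.comp q2).range).comap f ≤ P0 := by
      refine le_pCore ((pCore_isNormal).comap f) ?_
      refine (pCore_isPGroup).comap_of_ker_isPGroup f ?_
      rw [MonoidHom.ker_rangeRestrict]
      exact hP0p.to_le hkerP
    rw [← Subgroup.map_comap_eq_self_of_surjective hfs (Cfsg.pCore p _), Subgroup.map_eq_bot_iff,
      MonoidHom.ker_rangeRestrict]
    intro a ha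
    rw [MonoidHom.mem_ker, MonoidHom.comp_apply]
    refine MulEquiv.ext fun v => Subtype.ext ?_
    show q2 a * v * (q2 a)⁻¹ = v
    have h := congrArg Subtype.val (hVc.is_comm.comm (⟨q2 a, a, hpre ha, rfl⟩ : ↥V) v)
    simp only [Subgroup.coe_mul] at h
    rw [h, mul_inv_cancel_right]
  refine ⟨G2, ↥V, inferInstance, inferInstance, inferInstance, inferInstance, q2.comp q1, V.subtype, ψ,
    hq2s.comp hq1s, V.subtype_injective, fun g v => MulAut.conjNormal_apply g v, fun v => Subtype.ext (hVexp _ v.2),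
    fun g hg => ?_, fun g hg => ?_, ?_, fun y hy => ?_⟩
  · rw [MonoidHom.mem_ker, MonoidHom.comp_apply, show q1 g = 1 from (QuotientGroup.eq_one_iff g).mpr hg, map_one]
  · rw [uSer_succ_odd odd_one, mem_comap]
    exact hkerP (show q1 g ∈ (ψ.comp q2).ker from hg)
  · have hr : (ψ.comp (q2.comp q1)).range = (ψ.comp q2).range := by
      rw [← MonoidHom.comp_assoc, MonoidHom.range_comp, MonoidHom.range_eq_top_of_surjective _ hq1s, ← MonoidHom.range_eq_map]
    rw [hr]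
    exact hOH
  · obtain ⟨y', rfl⟩ := hq2s y
    exact ⟨⟨q2 y', y', hkerP (show y' ∈ (ψ.comp q2).ker from hy), rfl⟩, rfl⟩

/-- The action on a section. -/
theorem exists_section_action {Γ : Type u} [Group Γ] [Finite Γ] (M X R : Subgroup Γ) (_hRX : R ≤ X)
    (hcomm : ∀ a ∈ X, ∀ b ∈ X, ⁅a, b⁆ ∈ R) (hM : ∀ d ∈ M, d ∈ normalizer (X : Set Γ))
    (hMR : ∀ d ∈ M, ∀ a ∈ R, d * a * d⁻¹ ∈ R) :
    ∃ (S : Type u) (_ : CommGroup S) (_ : Finite S) (f : X →* S) (σ : M →* MulAut S),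
      Function.Surjective f ∧ f.ker = R.subgroupOf X ∧
      ∀ (d : M) (a b : X), (b : Γ) = d * a * (d : Γ)⁻¹ → σ d (f a) = f b := by
  haveI hn : (R.subgroupOf X).Normal := ⟨fun r hr g => by
    have hr' : (r : Γ) ∈ R := hr
    show (g : Γ) * r * (g : Γ)⁻¹ ∈ R
    have h1 := R.mul_mem (hcomm g g.2 r r.2) hr'
    rwa [commutatorElement_def, inv_mul_cancel_right] at h1⟩
  letI : CommGroup (X ⧸ R.subgroupOf X) :=
    { (inferInstance : Group (X ⧸ R.subgroupOf X)) with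
      mul_comm := fun u w => by
        induction u using QuotientGroup.induction_on with
        | H a =>
          induction w using QuotientGroup.induction_on with
          | H b =>
            rw [← commutatorElement_eq_one_iff_mul_comm]
            show (((⁅a, b⁆ : X)) : X ⧸ R.subgroupOf X) = 1
            rw [QuotientGroup.eq_one_iff]
            exact hcomm a a.2 b b.2 }
  let τ : M →* MulAut X := X.normalizerMonoidHom.comp (Subgroup.inclusion hM)
  have hτ : ∀ (d : M) (a : X), ((τ d a : X) : Γ) = d * a * (d : Γ)⁻¹ := fun d a => rfl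
  have hmap : ∀ d, (R.subgroupOf X).map (τ d).toMonoidHom = R.subgroupOf X := fun d => by
    refine le_antisymm (Subgroup.map_le_iff_le_comap.mpr fun s hs => hMR d d.2 _ hs) fun s hs =>
      ⟨τ d⁻¹ s, hMR _ (d⁻¹).2 _ hs, ?_⟩
    show τ d (τ d⁻¹ s) = s
    rw [← MulAut.mul_apply, ← map_mul, mul_inv_cancel, map_one, MulAut.one_apply]
  let σ : M →* MulAut (X ⧸ R.subgroupOf X) :=
    { toFun := fun d => QuotientGroup.congr _ _ (τ d) (hmap d)
      map_one' := MulEquiv.ext fun x => QuotientGroup.induction_on x fun s => by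
        show ((τ 1 s : X) : X ⧸ R.subgroupOf X) = _
        rw [map_one]; rfl
      map_mul' := fun a b => MulEquiv.ext fun x => QuotientGroup.induction_on x fun s => by
        show ((τ (a * b) s : X) : X ⧸ R.subgroupOf X) = _
        rw [map_mul]; rfl }
  refine ⟨X ⧸ R.subgroupOf X, inferInstance, inferInstance, QuotientGroup.mk' _, σ,
    QuotientGroup.mk'_surjective _, QuotientGroup.ker_mk' _, fun d a b hb => ?_⟩
  show ((τ d a : X) : X ⧸ R.subgroupOf X) = (b : X ⧸ R.subgroupOf X)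
  rw [show τ d a = b from Subtype.ext hb.symm]

open HHExc in
/-- On a normalized `2`-group the `p ^ m`-th powers of two elements of vanishing norm commute. -/
theorem commutator_centralizes {K : Type*} [Field K] [IsAlgClosed K] {V : Type*} [AddCommGroup V]
    [Module K V] [FiniteDimensional K V] {Γ : Type u} [Group Γ] [Finite Γ] {p : ℕ} [hp : Fact p.Prime]
    [CharP K p] (hp2 : p ≠ 2) {ρ : Γ →* Module.End K V} (hρ : Function.Injective ρ) {P Q : Subgroup Γ}
    (hP : IsPGroup p P) (hQ : IsPGroup 2 Q) (hPQ : P ≤ normalizer (Q : Set Γ)) {m : ℕ} {h h' : Γ}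
    (hh : h ∈ P) (hh' : h' ∈ P) (hx : h ^ p ^ (m + 1) = 1) (hx' : h' ^ p ^ (m + 1) = 1)
    (hs : (ρ h - 1) ^ (p ^ (m + 1) - 1) = 0) (hs' : (ρ h' - 1) ^ (p ^ (m + 1) - 1) = 0) :
    ∀ t ∈ Q, ⁅h' ^ p ^ m, h ^ p ^ m⁆ * t * ⁅h' ^ p ^ m, h ^ p ^ m⁆⁻¹ = t := by
  classical
  set c := h ^ p ^ m with hc
  set c' := h' ^ p ^ m with hc'
  set g := ⁅c', c⁆ with hg
  have hcP : c ∈ P := pow_mem hh _
  have hc'P : c' ∈ P := pow_mem hh' _
  have hgP : g ∈ P := by rw [hg, commutatorElement_def]; exact mul_mem (mul_mem (mul_mem hc'P hcP) (inv_mem hc'P)) (inv_mem hcP)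
  -- both powers centralize in the generic case
  have hgen : ∀ X : Subgroup Γ, IsPGroup 2 X → P ≤ normalizer (X : Set Γ) →
      ((¬ ∃ k, p = 2 ^ k + 1) ∨ IsMulCommutative X) → ∀ t ∈ X, g * t * g⁻¹ = t := by
    intro X hX hPX hor t ht
    have hor' : (¬ ∃ k, p = 2 ^ k + 1) ∨ 2 ≠ 2 ∨ IsMulCommutative X ∨ p ^ (m + 1) - 1 < p ^ (m + 1) - p ^ m :=
      hor.imp_right fun h => Or.inr (Or.inl h)
    have h1 : ∀ u ∈ X, Commute c u := fun u hu => mul_inv_eq_iff_eq_mul.mp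
      (commute_of_injective hp2 (hp := hp) hp2 hρ hX (hPX hh) hx hs le_rfl hor' u hu)
    have h2 : ∀ u ∈ X, Commute c' u := fun u hu => mul_inv_eq_iff_eq_mul.mp
      (commute_of_injective hp2 (hp := hp) hp2 hρ hX (hPX hh') hx' hs' le_rfl hor' u hu)
    have h3 : Commute g t := by
      rw [hg, commutatorElement_def]
      exact (((h2 t ht).mul_left (h1 t ht)).mul_left (h2 t ht).inv_left).mul_left (h1 t ht).inv_left
    exact mul_inv_eq_iff_eq_mul.mpr h3
  by_cases hF : ∃ k, p = 2 ^ k + 1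
  swap
  · exact fun t ht => hgen Q hQ hPQ (Or.inl hF) t ht
  obtain ⟨b, hpb⟩ := hF
  have hb : b ≠ 0 := fun e => hp2 (by rw [hpb, e, pow_zero])
  set A := (normalClosure ({⟨g, hgP⟩} : Set P)).map P.subtype with hA
  have hAP : A ≤ P := map_subtype_le _
  have hgA : g ∈ A := ⟨⟨g, hgP⟩, subset_normalClosure (Set.mem_singleton _), rfl⟩
  have hAn : P ≤ normalizer (A : Set Γ) := fun d hd => mem_normalizer_iff.mpr fun y => by
    constructor
    · rintro ⟨y', hy', rfl⟩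
      exact ⟨⟨d, hd⟩ * y' * (⟨d, hd⟩ : P)⁻¹, normalClosure_normal.conj_mem _ hy' _, rfl⟩
    · rintro ⟨y', hy', e⟩
      refine ⟨(⟨d, hd⟩ : P)⁻¹ * y' * ⟨d, hd⟩, by simpa using normalClosure_normal.conj_mem _ hy' (⟨d, hd⟩ : P)⁻¹, ?_⟩
      have e' : (y' : Γ) = d * y * d⁻¹ := e
      simp [e', mul_assoc]
  -- the normal closure acts trivially as soon as `g` does
  have hclos : ∀ (X : Subgroup Γ) (C : Subgroup P), C.Normal → ⟨g, hgP⟩ ∈ C → ∀ a ∈ A, ∃ ha : a ∈ P, ⟨a, ha⟩ ∈ C := by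
    rintro X C hC hgC _ ⟨a, ha, rfl⟩
    haveI := hC
    exact ⟨a.2, normalClosure_le_normal (Set.singleton_subset_iff.mpr hgC) ha⟩
  suffices hQA : ⁅Q, A⁆ = ⊥ by
    intro t ht
    rw [commutator_eq_bot_iff_le_centralizer] at hQA
    exact mul_inv_eq_iff_eq_mul.mpr (mem_centralizer_iff.mp (hQA ht) g hgA)
  by_contra hnt
  obtain ⟨X, ⟨hXQ, hPX, hXnt⟩, hXmin⟩ := (Set.toFinite
    {U : Subgroup Γ | U ≤ Q ∧ P ≤ normalizer (U : Set Γ) ∧ ⁅U, A⁆ ≠ ⊥}).exists_minimal ⟨Q, le_rfl, hPQ, hnt⟩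
  have hX : IsPGroup 2 X := hQ.to_le hXQ
  have hcop : (Nat.card A).Coprime 2 := by
    obtain ⟨e, he⟩ := IsPGroup.iff_card.mp (hP.to_le hAP)
    rw [he]
    exact ((Nat.coprime_primes hp.out Nat.prime_two).mpr hp2).pow_left e
  obtain ⟨hXA, hstruct, -, -⟩ := Cfsg.Agent.S3736.result (p := 2) P A X hX hPX hAP hAn hcop hXnt
    (fun U hU hB => by
      by_contra h
      exact hU.not_ge (hXmin ⟨hU.le.trans hXQ, hB, h⟩ hU.le))
  have habel : ¬ IsMulCommutative X := by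
    intro hab
    refine hXnt (commutator_eq_bot_iff_le_centralizer.mpr fun t ht => mem_centralizer_iff.mpr fun a ha => ?_)
    let C : Subgroup P :=
      { carrier := {d | ∀ u ∈ X, (d : Γ) * u * (d : Γ)⁻¹ = u}
        mul_mem' := fun {d e} hd he u hu => by
          show (d : Γ) * e * u * ((d : Γ) * e)⁻¹ = u
          rw [show (d : Γ) * e * u * ((d : Γ) * e)⁻¹ = d * (e * u * (e : Γ)⁻¹) * (d : Γ)⁻¹ by group, he u hu, hd u hu]
        one_mem' := fun u _ => by simp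
        inv_mem' := fun {d} hd u hu => by
          show (d : Γ)⁻¹ * u * ((d : Γ)⁻¹)⁻¹ = u
          conv_lhs => rw [← hd u hu]
          group }
    have hCn : C.Normal := ⟨fun d hd e u hu => by
      have hu' : (e : Γ)⁻¹ * u * e ∈ X := by
        simpa using (mem_normalizer_iff.mp (hPX (inv_mem e.2)) u).mp hu
      show (e : Γ) * d * (e : Γ)⁻¹ * u * ((e : Γ) * d * (e : Γ)⁻¹)⁻¹ = u
      calc _ = (e : Γ) * (d * ((e : Γ)⁻¹ * u * e) * (d : Γ)⁻¹) * (e : Γ)⁻¹ := by group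
        _ = u := by rw [hd _ hu']; group⟩
    obtain ⟨haP, haC⟩ := hclos X C hCn (hgen X hX hPX (Or.inr hab)) a ha
    exact mul_inv_eq_iff_eq_mul.mp (haC t ht)
  have hspec : Cfsg.IsSpecial 2 X := hstruct.resolve_left fun h => habel h.1
  set Z := (center X).map X.subtype with hZ
  have hcomm : ∀ a ∈ X, ∀ d ∈ X, ⁅d, a⁆ ∈ Z := fun a ha d hd =>
    ⟨⁅(⟨d, hd⟩ : X), ⟨a, ha⟩⁆, hspec.2.2.le (commutator_mem_commutator (mem_top _) (mem_top _)), by
      simp [commutatorElement_def]⟩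
  have hsq : ∀ a ∈ X, a ^ 2 ∈ Z := fun a ha =>
    ⟨⟨a, ha⟩ ^ 2, hspec.2.1.le (pGroup_pow_mem_frattini hX _), rfl⟩
  have hS : Setting p X Z := ⟨map_subtype_le _, hcomm, fun z hz g hg => by
    obtain ⟨z', hz', rfl⟩ := hz
    exact congrArg Subtype.val (mem_center_iff.mp hz' ⟨g, hg⟩), by
    obtain ⟨e, he⟩ := IsPGroup.iff_card.mp hX
    rw [he]
    exact fun h => hp2 ((Nat.prime_dvd_prime_iff_eq hp.out Nat.prime_two).mp (hp.out.dvd_of_dvd_pow h))⟩
  have hPZ : P ≤ normalizer (Z : Set Γ) := fun d hd => by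
    refine Cfsg.Agent.Grp.mem_normalizer_of_map_eq.mpr ?_
    let e : X ≃* X := ((MulAut.conj d).subgroupMap X).trans
      (MulEquiv.subgroupCongr (Cfsg.Agent.Grp.mem_normalizer_of_map_eq.mp (hPX hd)))
    have he : (center X).map e.toMonoidHom = center X :=
      characteristic_iff_map_eq.mp inferInstance e
    conv_rhs => rw [hZ, ← he]
    rw [hZ, Subgroup.map_map, Subgroup.map_map]
    rfl
  have hZcard : (Nat.card Z : K) ≠ 0 := fun e =>
    hS.coprime (((CharP.cast_eq_zero_iff K p _).mp e).trans (card_dvd_of_le hS.le))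
  have htop := iSup_chEigen_eq_top ρ Z (fun a ha d hd => by
    rw [← map_mul, ← map_mul, hS.central d hd a (hS.le ha)]) hZcard
  -- `g` is trivial on every symplectic section
  have hsec : ∀ {ω : Γ → K} (hW : chEigen ρ Z ω ≠ ⊥), ∀ t ∈ X, t⁻¹ * (g * t * g⁻¹) ∈ rad hS hW := by
    intro ω hW t ht
    obtain ⟨hcst, -, hd⟩ := section_dichotomy (q := 2) hp2 hS hX (hPX hh) (hPZ hh) hx hs le_rfl hW
    obtain ⟨hc'st, -, hd'⟩ := section_dichotomy (q := 2) hp2 hS hX (hPX hh') (hPZ hh') hx' hs' le_rfl hW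
    set R := rad hS hW with hR
    have hRX : R ≤ X := fun r hr => (mem_rad.mp hr).1
    have hZR : ∀ z ∈ Z, z ∈ R := fun z hz => mem_rad.mpr ⟨hS.le hz, fun u hu => by
      rw [commutatorElement_eq_one_iff_mul_comm.mpr (hS.central z hz u hu), (ch_mul ρ hW).1]⟩
    obtain ⟨S, _, _, f, σ, hfs, hfk, hσ⟩ := exists_section_action (P ⊓ stab X Z ω) X R hRX
      (fun a ha d hd => hZR _ (hcomm d hd a ha)) (fun d hd => hPX hd.1) (fun d hd a ha => conj_mem_rad hd.2 ha)
    have hSp : IsPGroup p σ.range := (hP.to_le inf_le_left).of_surjective σ.rangeRestrict σ.rangeRestrict_surjective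
    have hS2 : ∀ s : S, s ^ 2 = 1 := fun s => by
      obtain ⟨a, rfl⟩ := hfs s
      rw [← map_pow, ← MonoidHom.mem_ker, hfk, mem_subgroupOf]
      exact hZR _ (hsq a a.2)
    have key : ∀ (h₀ : Γ) (h0P : h₀ ∈ P) (h0x : h₀ ^ p ^ (m + 1) = 1) (hst : h₀ ^ p ^ m ∈ stab X Z ω),
        ((∀ a ∈ X, a⁻¹ * (h₀ ^ p ^ m * a * (h₀ ^ p ^ m)⁻¹) ∈ R) ∨
          ∃ k b : ℕ, (k = 1 ∨ p = 3 ∧ k = 2) ∧ k ≤ m + 1 ∧ p ^ k = 2 ^ b + 1 ∧ 2 = 2 ∧
            p ^ (m + 1) - p ^ (m + 1 - k) ≤ p ^ (m + 1) - 1 ∧ h₀ ^ p ^ (m + 1 - k) ∈ stab X Z ω ∧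
            ∃ Q1 : Subgroup Γ, R ≤ Q1 ∧ Q1 ≤ X ∧ (∀ a ∈ X, a⁻¹ * (h₀ ^ p ^ m * a * (h₀ ^ p ^ m)⁻¹) ∈ Q1) ∧
              R.relIndex Q1 = 2 ^ b * 2 ^ b) →
        HHSmall.Small p b σ ⟨h₀ ^ p ^ m, pow_mem h0P _, hst⟩ := by
      intro h₀ h0P h0x hst hdi
      set d : (P ⊓ stab X Z ω : Subgroup Γ) := ⟨h₀ ^ p ^ m, pow_mem h0P _, hst⟩ with hd0
      have hdp : σ d ^ p = 1 := by
        rw [← map_pow, show d ^ p = 1 from Subtype.ext (show (h₀ ^ p ^ m) ^ p = 1 by rw [← pow_mul, ← pow_succ, h0x]),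
          map_one]
      refine ⟨hdp, ?_⟩
      have hrange : ∀ Q1 : Subgroup Γ, (∀ a ∈ X, a⁻¹ * (h₀ ^ p ^ m * a * (h₀ ^ p ^ m)⁻¹) ∈ Q1) →
          Nat.card (HHSmall.disp (σ d)).range ≤ Nat.card ((Q1.subgroupOf X).map f) := by
        intro Q1 hQ1
        refine Nat.le_of_dvd Nat.card_pos (card_dvd_of_le ?_)
        rintro _ ⟨s, rfl⟩
        obtain ⟨a, rfl⟩ := hfs s
        have ha' : (d : Γ) * a * (d : Γ)⁻¹ ∈ X := (mem_normalizer_iff.mp (hPX d.2.1) a).mp a.2
        refine ⟨a⁻¹ * ⟨_, ha'⟩, hQ1 a a.2, ?_⟩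
        rw [HHSmall.disp_apply, hσ d a ⟨_, ha'⟩ rfl, map_mul, map_inv, inv_mul_eq_div]
      have hidx : ∀ Q1 : Subgroup Γ, Q1 ≤ X → Nat.card ((Q1.subgroupOf X).map f) = R.relIndex Q1 := fun Q1 hQ1 => by
        rw [← relIndex_ker, hfk, relIndex_subgroupOf hQ1]
      rcases hdi with hdi | ⟨k, b', hk, hkm, hpk, -, -, hyst, Q1, -, hQ1X, hQ1, hcard⟩
      · left
        refine (hrange R hdi).trans ?_
        rw [hidx R hRX, relIndex_self]
        exact Nat.one_le_two_pow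
      have hbound := hrange Q1 hQ1
      rw [hidx Q1 hQ1X, hcard, ← pow_add] at hbound
      rcases hk with rfl | ⟨rfl, rfl⟩
      · left
        have : b' = b := Nat.pow_right_injective le_rfl (show 2 ^ b' = 2 ^ b by rw [pow_one] at hpk; omega)
        rw [this, ← two_mul] at hbound
        exact hbound
      · refine Or.inr ⟨rfl, ⟨h₀ ^ 3 ^ (m + 1 - 2), pow_mem h0P _, hyst⟩, Subtype.ext ?_, ?_⟩
        · show (h₀ ^ 3 ^ (m + 1 - 2)) ^ 3 = h₀ ^ 3 ^ m
          rw [← pow_mul, ← pow_succ]; congr 2; omega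
        · have : b' = 3 := Nat.pow_right_injective le_rfl (show 2 ^ b' = 2 ^ 3 by norm_num at hpk ⊢; omega)
          rw [this] at hbound
          exact hbound
    have hcomm' := HHSmall.small_commute hb hpb (Nat.card S) S _ σ le_rfl hSp hS2 _ _
      (key h' hh' hx' hc'st hd') (key h hh hx hcst hd)
    let d₁ : (P ⊓ stab X Z ω : Subgroup Γ) := ⟨c', hc'P, hc'st⟩
    let d₂ : (P ⊓ stab X Z ω : Subgroup Γ) := ⟨c, hcP, hcst⟩
    let gd : (P ⊓ stab X Z ω : Subgroup Γ) := ⁅d₁, d₂⁆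
    have hgd : σ gd = 1 := by
      show σ ⁅d₁, d₂⁆ = 1
      rw [map_commutatorElement, commutatorElement_eq_one_iff_mul_comm]
      exact hcomm'
    have hgv : (gd : Γ) = g := by simp [gd, d₁, d₂, hg, commutatorElement_def]
    have ht' : g * t * g⁻¹ ∈ X := (mem_normalizer_iff.mp (hPX hgP) t).mp ht
    have h1 := hσ gd ⟨t, ht⟩ ⟨_, ht'⟩ (by rw [hgv])
    rw [hgd, MulAut.one_apply] at h1
    have h2 : (⟨t, ht⟩ : X)⁻¹ * ⟨_, ht'⟩ ∈ f.ker := MonoidHom.mem_ker.mpr (by rw [map_mul, map_inv, ← h1, inv_mul_cancel])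
    rw [hfk] at h2
    exact h2
  -- hence on the Frattini quotient
  have hcent : ∀ t ∈ X, t⁻¹ * (g * t * g⁻¹) ∈ Z := by
    intro t ht
    have huX : t⁻¹ * (g * t * g⁻¹) ∈ X := X.mul_mem (inv_mem ht) ((mem_normalizer_iff.mp (hPX hgP) t).mp ht)
    refine ⟨⟨_, huX⟩, mem_center_iff.mpr fun u => Subtype.ext ?_, rfl⟩
    show (u : Γ) * _ = _ * (u : Γ)
    rw [← commutatorElement_eq_one_iff_mul_comm]
    apply hρ
    rw [← LinearMap.eqLocus_eq_top, eq_top_iff, ← htop]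
    refine iSup_le fun ω => ?_
    rcases eq_or_ne (chEigen ρ Z ω) ⊥ with h0 | hW
    · rw [h0]; exact bot_le
    intro v hv
    show ρ ⁅(u : Γ), _⁆ v = ρ 1 v
    rw [(mem_chEigen ρ).mp hv _ (hcomm _ huX u u.2), (mem_rad.mp (hsec hW t ht)).2 u u.2, one_smul, map_one,
      Module.End.one_apply]
  -- so the normal closure does
  have hXZ : X ≤ Z := by
    rw [← hXA, commutator_le]
    intro t ht a ha
    obtain ⟨S, _, _, f, σ, hfs, hfk, hσ⟩ := exists_section_action P X Z hS.le (fun a ha d hd => hcomm d hd a ha) hPX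
      (fun d hd a ha => (mem_normalizer_iff.mp (hPZ hd) a).mp ha)
    have hgk : (⟨g, hgP⟩ : P) ∈ σ.ker := MulEquiv.ext fun s => by
      obtain ⟨u, rfl⟩ := hfs s
      have hu' : g * u * g⁻¹ ∈ X := (mem_normalizer_iff.mp (hPX hgP) u).mp u.2
      rw [hσ ⟨g, hgP⟩ u ⟨_, hu'⟩ rfl, MulAut.one_apply, eq_comm, ← inv_mul_eq_one, ← map_inv, ← map_mul,
        ← MonoidHom.mem_ker, hfk, mem_subgroupOf]
      exact hcent u u.2
    obtain ⟨haP, hak⟩ := hclos X σ.ker inferInstance hgk a ha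
    have hti : t⁻¹ ∈ X := inv_mem ht
    have ha' : a * t⁻¹ * a⁻¹ ∈ X := (mem_normalizer_iff.mp (hPX haP) _).mp hti
    have h1 := hσ ⟨a, haP⟩ ⟨t⁻¹, hti⟩ ⟨_, ha'⟩ rfl
    rw [MonoidHom.mem_ker.mp hak, MulAut.one_apply] at h1
    have h2 : (⟨t⁻¹, hti⟩ : X)⁻¹ * ⟨_, ha'⟩ ∈ f.ker := MonoidHom.mem_ker.mpr (by rw [map_mul, map_inv, ← h1, inv_mul_cancel])
    rw [hfk] at h2
    have h3 : t⁻¹⁻¹ * (a * t⁻¹ * a⁻¹) ∈ Z := h2
    rw [inv_inv] at h3
    rw [commutatorElement_def, mul_assoc, mul_assoc]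
    rw [mul_assoc] at h3
    exact h3
  refine habel ⟨⟨fun a d => Subtype.ext ?_⟩⟩
  exact hS.central d (hXZ d.2) a a.2

/-- An element of order `p` centralizing the `p'`-core is trivial. -/
theorem pow_eq_one_of_norm {K : Type*} [Field K] [IsAlgClosed K] {W : Type*} [AddCommGroup W] [Module K W]
    [FiniteDimensional K W] {H : Type u} [Group H] [Finite H] {p : ℕ} [hp : Fact p.Prime] [CharP K p]
    (hp2 : p ≠ 2) (hH : Cfsg.IsPSolvable p H) (hO : Cfsg.pCore p H = ⊥) {ρ : H →* Module.End K W}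
    (hρ : Function.Injective ρ) {h : H} {m : ℕ} (hx : h ^ p ^ (m + 1) = 1) {s : ℕ} (hs : (ρ h - 1) ^ s = 0)
    (hsm : s ≤ p ^ (m + 1) - 1)
    (hexc : (¬ ∃ k, p = 2 ^ k + 1) ∨ (∀ S : Sylow 2 H, IsMulCommutative (S : Subgroup H)) ∨
      s < p ^ (m + 1) - p ^ m) : h ^ p ^ m = 1 := by
  classical
  set C := Cfsg.pPrimeCore p H with hC
  haveI : C.Normal := pPrimeCore_isNormal
  have hcop : (Nat.card (zpowers h)).Coprime (Nat.card C) := by
    rw [Nat.card_zpowers]
    exact ((hp.out.coprime_iff_not_dvd.mpr pPrimeCore_not_dvd).pow_left (m + 1)).coprime_dvd_left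
      (orderOf_dvd_of_pow_eq_one hx)
  have hle : C ≤ centralizer ({h ^ p ^ m} : Set H) := by
    refine le_trans (le_of_forall_sylow (K := C) inf_le_left fun q hq => ?_) inf_le_right
    obtain ⟨X, hX, hTX⟩ := exists_invariant_sylow (zpowers h) C
      (by rw [normalizer_eq_top]; exact le_top) hcop (Or.inl inferInstance) q
    refine ⟨X, hX, le_inf hX.1 fun w hw => ?_⟩
    rw [mem_centralizer_singleton_iff]
    by_cases hqp : q = p
    · subst hqp
      obtain ⟨j, hj⟩ := hX.2.1.exists_card_eq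
      rcases j.eq_zero_or_pos with rfl | hj0
      · rw [pow_zero] at hj
        have := card_eq_one.mp hj
        rw [this, mem_bot] at hw
        simp [hw]
      · exact absurd ((hj ▸ dvd_pow_self q hj0.ne' : q ∣ Nat.card X).trans (card_dvd_of_le hX.1))
          pPrimeCore_not_dvd
    have hexc' : (¬ ∃ k, p = 2 ^ k + 1) ∨ q ≠ 2 ∨ IsMulCommutative X ∨ s < p ^ (m + 1) - p ^ m := by
      rcases hexc with h | h | h
      · exact Or.inl h
      · by_cases hq2 : q = 2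
        · subst hq2
          obtain ⟨S, hS⟩ := hX.2.1.exists_le_sylow
          exact Or.inr (Or.inr (Or.inl ⟨⟨fun a b => by
            have h2 := congrArg Subtype.val ((h S).is_comm.comm ⟨(a : H), hS a.2⟩ ⟨(b : H), hS b.2⟩)
            exact Subtype.ext h2⟩⟩))
        · exact Or.inr (Or.inl hq2)
      · exact Or.inr (Or.inr (Or.inr h))
    exact (mul_inv_eq_iff_eq_mul.mp (HHExc.commute_of_injective hp2 (Ne.symm hqp) hρ hX.2.1
      (hTX (mem_zpowers h)) hx hs hsm hexc' w hw)).symm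
  have hK1 : h ^ p ^ m ∈ C := Block.centralizer_pPrimeCore_le hH hO (mem_centralizer_iff.mpr fun w hw =>
    mem_centralizer_singleton_iff.mp (hle hw))
  have h1 : orderOf (h ^ p ^ m) ∣ p := orderOf_dvd_of_pow_eq_one (by rw [← pow_mul, ← pow_succ, hx])
  have h2 := Nat.dvd_gcd h1 (orderOf_dvd_natCard _ hK1)
  rw [(hp.out.coprime_iff_not_dvd.mpr pPrimeCore_not_dvd : p.Coprime (Nat.card C))] at h2
  exact orderOf_eq_one_iff.mp (Nat.dvd_one.mp h2)

theorem norm_prod_eq_one {G Γ V : Type u} [Group G] [Finite G] [Group Γ] [Finite Γ] [CommGroup V] [Finite V]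
    {p : ℕ} [hp : Fact p.Prime] (q : G →* Γ) (hq : Function.Surjective q) (ι : V →* Γ)
    (hι : Function.Injective ι) (χ : Γ →* MulAut V) (hχ : ∀ g v, ι (χ g v) = g * ι v * g⁻¹)
    (hV : ∀ v : V, v ^ p = 1) {n : ℕ}
    (hexp : ∀ (P : Sylow p G), ∀ x ∈ (P : Subgroup G), x ^ p ^ n = 1) {x : G}
    (hx : IsPGroup p (zpowers x)) (v : V) :
    ∏ i ∈ Finset.range (p ^ n), ((χ.comp q) x ^ i) v = 1 := by
  haveI : ι.range.Normal := ⟨fun y ⟨w, hw⟩ g => ⟨χ g w, by rw [hχ, hw]⟩⟩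
  have hVp : IsPGroup p ι.range := by
    rintro ⟨_, w, rfl⟩
    exact ⟨1, Subtype.ext (by show ι w ^ p ^ 1 = 1; rw [pow_one, ← map_pow, hV, map_one])⟩
  have hpp : IsPGroup p (zpowers (ι v * q x)) :=
    (hVp.to_sup_of_normal_left (hx.map q)).to_le (zpowers_le.mpr (mul_mem_sup ⟨v, rfl⟩ ⟨x, mem_zpowers x, rfl⟩))
  have h1 := pElement_pow_eq_one q hq hexp hpp
  have h2 := pow_mul_eq_prod ι (fun i w => χ (q x ^ i) w) (q x) (fun i w => hχ _ w) v (p ^ n)
  have hxn : q x ^ p ^ n = 1 := by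
    obtain ⟨P, hP⟩ := hx.exists_le_sylow
    rw [← map_pow, hexp P x (hP (mem_zpowers x)), map_one]
  rw [h1, hxn, mul_one] at h2
  refine hι ?_
  rw [map_one, h2]
  congr 1
  refine Finset.prod_congr rfl fun i _ => ?_
  rw [map_pow]
  rfl

theorem sylow_commutative_of_surjective {G H : Type*} [Group G] [Finite G] [Group H] [Finite H] {q : ℕ}
    [Fact q.Prime] (f : G →* H) (hf : Function.Surjective f)
    (h : ∀ S : Sylow q G, IsMulCommutative (S : Subgroup G)) (S : Sylow q H) : IsMulCommutative (S : Subgroup H) := by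
  obtain ⟨S', rfl⟩ := Sylow.mapSurjective_surjective hf q S
  refine ⟨⟨?_⟩⟩
  rintro ⟨_, a, ha, rfl⟩ ⟨_, b, hb, rfl⟩
  refine Subtype.ext ?_
  show f a * f b = f b * f a
  rw [← map_mul, ← map_mul]
  exact congrArg f (congrArg Subtype.val ((h S').is_comm.comm ⟨a, ha⟩ ⟨b, hb⟩))

/-- Outside the exceptional case the top power lies in the second term. -/
theorem pow_mem_uSer_two {G : Type u} [Group G] [Finite G] {p : ℕ} [hp : Fact p.Prime] (hp2 : p ≠ 2)
    (hG : Cfsg.IsPSolvable p G)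
    (hexc : (¬ ∃ k, p = 2 ^ k + 1) ∨ ∀ S : Sylow 2 G, IsMulCommutative (S : Subgroup G)) {n : ℕ}
    (hexp : ∀ (P : Sylow p G), ∀ x ∈ (P : Subgroup G), x ^ p ^ (n + 1) = 1) :
    ∀ x : G, IsPGroup p (zpowers x) → x ^ p ^ n ∈ uSer p G 2 := by
  intro x hx
  obtain ⟨Γ, V, _, _, _, _, q, ι, χ, hq, hι, hχ, hV, -, hker, hO, -⟩ := exists_action (p := p) hG
  obtain ⟨W, _, _, _, L, hL, hLn, -⟩ := HHExc.exists_linearization (p := p) hV
  haveI : CharP (AlgebraicClosure (ZMod p)) p :=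
    charP_of_injective_algebraMap (algebraMap (ZMod p) (AlgebraicClosure (ZMod p))).injective p
  set ψ := χ.comp q
  refine hker (MonoidHom.mem_ker.mpr ?_)
  have hxn : ψ.rangeRestrict x ^ p ^ (n + 1) = 1 := by
    obtain ⟨P, hP⟩ := hx.exists_le_sylow
    rw [← map_pow, hexp P x (hP (mem_zpowers x)), map_one]
  have h1 := pow_eq_one_of_norm hp2 (isPSolvable_map hG _ ψ.rangeRestrict_surjective) hO
    (ρ := L.comp ψ.range.subtype) (hL.comp ψ.range.subtype_injective) hxn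
    (hLn _ (n + 1) (norm_prod_eq_one q hq ι hι χ hχ hV hexp hx)) le_rfl
    (hexc.imp_right fun h => Or.inl (sylow_commutative_of_surjective _ ψ.rangeRestrict_surjective h))
  rw [← map_pow] at h1
  exact congrArg Subtype.val h1

/-- Preimage of the second term along a surjection with kernel below the second term. -/
theorem comap_uSer_two_le {G H : Type*} [Group G] [Finite G] [Group H] [Finite H] {p : ℕ} [hp : Fact p.Prime]
    (f : G →* H) (hf : Function.Surjective f) (hker : f.ker ≤ uSer p G 2) :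
    (uSer p H 2).comap f ≤ uSer p G 4 := by
  have h3 : (uSer p H 1).comap f ≤ uSer p G 3 := by
    refine le_uSer_succ_even even_two ((Cfsg.upperPSeries p H 1).2.comap f) hker fun hd => ?_
    have e : f.ker.relIndex ((uSer p H 1).comap f) = (uSer p H 0).relIndex (uSer p H 1) := by
      rw [uSer_zero, relIndex_bot_left, relIndex_ker, map_comap_eq_self_of_surjective hf]
    rw [e] at hd
    exact uSer_relIndex_even Even.zero hd
  refine le_uSer_succ_odd (by decide) ((Cfsg.upperPSeries p H 2).2.comap f) h3 ?_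
  rw [relIndex_comap, map_comap_eq_self_of_surjective hf]
  exact uSer_relIndex_odd odd_one

/-- In every case the top power lies in the fourth term. -/
theorem pow_mem_uSer_four {G : Type u} [Group G] [Finite G] {p : ℕ} [hp : Fact p.Prime] (hp2 : p ≠ 2)
    (hG : Cfsg.IsPSolvable p G) {n : ℕ}
    (hexp : ∀ (P : Sylow p G), ∀ x ∈ (P : Subgroup G), x ^ p ^ (n + 1) = 1) :
    ∀ x : G, IsPGroup p (zpowers x) → x ^ p ^ n ∈ uSer p G 4 := by
  classical
  intro x hx
  obtain ⟨Γ, V, _, _, _, _, q, ι, χ, hq, hι, hχ, hV, -, hker, hO, -⟩ := exists_action (p := p) hG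
  obtain ⟨W, _, _, _, L, hL, hLn, -⟩ := HHExc.exists_linearization (p := p) hV
  haveI : CharP (AlgebraicClosure (ZMod p)) p :=
    charP_of_injective_algebraMap (algebraMap (ZMod p) (AlgebraicClosure (ZMod p))).injective p
  obtain ⟨H, hH⟩ : ∃ H, H = (χ.comp q).range := ⟨_, rfl⟩
  let f : G →* H := (χ.comp q).codRestrict H (fun g => hH ▸ ⟨g, rfl⟩)
  have hf : Function.Surjective f := fun ⟨y, hy⟩ => by
    rw [hH] at hy
    obtain ⟨g, rfl⟩ := hy
    exact ⟨g, rfl⟩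
  have hfk : f.ker ≤ uSer p G 2 := fun g hg => hker (congrArg Subtype.val (MonoidHom.mem_ker.mp hg))
  have hHs : Cfsg.IsPSolvable p H := isPSolvable_map hG f hf
  have hOH : Cfsg.pCore p H = ⊥ := by subst hH; exact hO
  let ρ := L.comp H.subtype
  have hρ : Function.Injective ρ := hL.comp H.subtype_injective
  have hexpH : ∀ (P : Sylow p H), ∀ y ∈ (P : Subgroup H), y ^ p ^ (n + 1) = 1 := fun P y hy =>
    pElement_pow_eq_one f hf hexp (P.isPGroup'.to_le (zpowers_le.mpr hy))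
  have hnorm : ∀ y : H, IsPGroup p (zpowers y) → (ρ y - 1) ^ (p ^ (n + 1) - 1) = 0 := by
    intro y hy
    obtain ⟨y', rfl⟩ := hf y
    obtain ⟨a, -, hap, hay⟩ := exists_pElement_lift (p := p) f (y := y') hy
    rw [← hay]
    exact hLn _ (n + 1) (norm_prod_eq_one q hq ι hι χ hχ hV hexp hap)
  refine comap_uSer_two_le f hf hfk ?_
  rw [mem_comap, map_pow]
  set h := f x
  have hhp : IsPGroup p (zpowers h) := by
    have := hx.map f
    rwa [MonoidHom.map_zpowers] at this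
  clear_value h
  -- the second layer
  obtain ⟨Γ₂, V₂, _, _, _, _, q₂, ι₂, χ₂, hq₂, hι₂, hχ₂, hV₂, hU₂, hker₂, hO₂, -⟩ := exists_action (p := p) hHs
  by_contra hcon
  obtain ⟨W₂, _, _, _, L₂, hL₂, -, hL₂c, -⟩ := HHExc.exists_linearization (p := p) hV₂
  set ψ₂ := χ₂.comp q₂
  obtain ⟨v, hv⟩ : ∃ v, (ψ₂ h ^ p ^ n) (∏ i ∈ Finset.range (p ^ n), (ψ₂ h ^ i) v) ≠
      ∏ i ∈ Finset.range (p ^ n), (ψ₂ h ^ i) v := by
    by_contra hall
    push Not at hall
    refine hcon (hker₂ (MonoidHom.mem_ker.mpr ?_))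
    have hhn : ψ₂.rangeRestrict h ^ p ^ (n + 1) = 1 := by
      obtain ⟨P, hP⟩ := hhp.exists_le_sylow
      rw [← map_pow, hexpH P h (hP (mem_zpowers h)), map_one]
    have e : p ^ (n + 1) = p * p ^ n := pow_succ' p n
    have hp3 : 3 * p ^ n ≤ p * p ^ n := Nat.mul_le_mul_right _ (by have := hp.out.two_le; omega)
    have hpn := pow_pos hp.out.pos n
    have h1 := pow_eq_one_of_norm hp2 (isPSolvable_map hHs _ ψ₂.rangeRestrict_surjective) hO₂
      (ρ := L₂.comp ψ₂.range.subtype) (hL₂.comp ψ₂.range.subtype_injective) hhn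
      (hL₂c _ n hall) (by omega) (Or.inr (Or.inr (by omega)))
    rw [← map_pow] at h1
    exact congrArg Subtype.val h1
  haveI : ι₂.range.Normal := ⟨fun y ⟨w, hw⟩ g => ⟨χ₂ g w, by rw [hχ₂, hw]⟩⟩
  have hVp : IsPGroup p ι₂.range := by
    rintro ⟨_, w, rfl⟩
    exact ⟨1, Subtype.ext (by show ι₂ w ^ p ^ 1 = 1; rw [pow_one, ← map_pow, hV₂, map_one])⟩
  -- a `p`-group containing both elements
  set Q₀ := ι₂.range ⊔ (zpowers h).map q₂
  have hQ₀ : IsPGroup p Q₀ := hVp.to_sup_of_normal_left (hhp.map q₂)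
  set M := Q₀.comap q₂
  have hhM : h ∈ M := mem_sup_right (mem_map_of_mem q₂ (mem_zpowers h))
  obtain ⟨P, hPM, hPp, hhP, hPmap⟩ : ∃ P : Subgroup H, P ≤ M ∧ IsPGroup p P ∧ h ∈ P ∧ Q₀ ≤ P.map q₂ := by
    have hhM' : IsPGroup p (zpowers (⟨h, hhM⟩ : M)) :=
      IsPGroup.of_equiv hhp ((zpowers (⟨h, hhM⟩ : M)).equivMapOfInjective M.subtype M.subtype_injective |>.trans
        (MulEquiv.subgroupCongr (by rw [MonoidHom.map_zpowers]; rfl))).symm
    obtain ⟨P, hP⟩ := hhM'.exists_le_sylow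
    let r : M →* Q₀ := q₂.subgroupComap Q₀
    have hr : Function.Surjective r := MonoidHom.subgroupComap_surjective_of_surjective _ _ hq₂
    refine ⟨(P : Subgroup M).map M.subtype, map_subtype_le _, P.isPGroup'.map _,
      ⟨⟨h, hhM⟩, hP (mem_zpowers _), rfl⟩, fun y hy => ?_⟩
    have e := Sylow.coe_mapSurjective hr P
    have htop : ((P.mapSurjective hr : Sylow p Q₀) : Subgroup Q₀) = ⊤ :=
      ((P.mapSurjective hr).is_maximal' (IsPGroup.of_injective hQ₀ (⊤ : Subgroup Q₀).subtype (⊤ : Subgroup Q₀).subtype_injective) le_top).symm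
    have hy' : (⟨y, hy⟩ : Q₀) ∈ ((P.mapSurjective hr : Sylow p Q₀) : Subgroup Q₀) := by rw [htop]; exact mem_top _
    rw [e] at hy'
    obtain ⟨w, hw, hwy⟩ := hy'
    exact ⟨w, ⟨w, hw, rfl⟩, congrArg Subtype.val hwy⟩
  obtain ⟨h', hh'P, hh'⟩ := hPmap (mul_mem_sup ⟨v, rfl⟩ (mem_map_of_mem q₂ (mem_zpowers h)))
  have hP1 : ∀ y ∈ P, y ^ p ^ (n + 1) = 1 := fun y hy => by
    obtain ⟨S, hS⟩ := hPp.exists_le_sylow
    exact hexpH S y (hS hy)
  set g := ⁅h' ^ p ^ n, h ^ p ^ n⁆ with hg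
  -- it lies outside the `p'`-core
  set C := Cfsg.pPrimeCore p H with hC
  haveI : C.Normal := pPrimeCore_isNormal
  have hCu : C ≤ uSer p H 1 := le_uSer_succ_even Even.zero inferInstance (S := ⊥) bot_le
    (by rw [relIndex_bot_left]; exact pPrimeCore_not_dvd)
  refine absurd (hCu.trans hU₂) fun hCk => hv ?_
  have hgC : g ∈ C := by
    refine Block.centralizer_pPrimeCore_le hHs hOH (mem_centralizer_iff.mpr fun w hw => ?_)
    suffices hle : C ≤ centralizer ({g} : Set H) from mem_centralizer_singleton_iff.mp (hle hw)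
    refine le_trans (le_of_forall_sylow (K := C) inf_le_left fun r hr => ?_) inf_le_right
    have hcop : (Nat.card P).Coprime (Nat.card C) := by
      obtain ⟨e, he⟩ := hPp.exists_card_eq
      rw [he]
      exact (hp.out.coprime_iff_not_dvd.mpr pPrimeCore_not_dvd).pow_left e
    haveI := hPp.isNilpotent
    obtain ⟨X, hX, hPX⟩ := exists_invariant_sylow P C (by rw [normalizer_eq_top]; exact le_top) hcop
      (Or.inl inferInstance) r
    refine ⟨X, hX, le_inf hX.1 fun w' hw' => ?_⟩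
    rw [mem_centralizer_singleton_iff]
    have hh1 := hnorm h hhp
    have hh'1 := hnorm h' (hPp.to_le (zpowers_le.mpr hh'P))
    by_cases hr2 : r = 2
    · subst hr2
      exact (mul_inv_eq_iff_eq_mul.mp (commutator_centralizes hp2 hρ hPp hX.2.1 hPX hhP hh'P (hP1 h hhP)
        (hP1 h' hh'P) hh1 hh'1 w' hw')).symm
    by_cases hrp : r = p
    · subst hrp
      obtain ⟨j, hj⟩ := hX.2.1.exists_card_eq
      rcases j.eq_zero_or_pos with rfl | hj0
      · rw [pow_zero] at hj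
        have := card_eq_one.mp hj
        rw [this, mem_bot] at hw'
        simp [hw']
      · exact absurd ((hj ▸ dvd_pow_self r hj0.ne' : r ∣ Nat.card X).trans (card_dvd_of_le hX.1))
          pPrimeCore_not_dvd
    have h1 : Commute (h ^ p ^ n) w' := mul_inv_eq_iff_eq_mul.mp (HHExc.commute_of_injective hp2 (Ne.symm hrp) hρ hX.2.1
      (hPX hhP) (hP1 h hhP) hh1 le_rfl (Or.inr (Or.inl hr2)) w' hw')
    have h2 : Commute (h' ^ p ^ n) w' := mul_inv_eq_iff_eq_mul.mp (HHExc.commute_of_injective hp2 (Ne.symm hrp) hρ hX.2.1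
      (hPX hh'P) (hP1 h' hh'P) hh'1 le_rfl (Or.inr (Or.inl hr2)) w' hw')
    have h3 : Commute g w' := by
      rw [hg, commutatorElement_def]
      exact (((h2).mul_left h1).mul_left h2.inv_left).mul_left h1.inv_left
    exact h3.eq.symm
  have hg1 := MonoidHom.mem_ker.mp (hCk hgC)
  have hpe := pow_mul_eq_prod ι₂ (fun i w => χ₂ (q₂ h ^ i) w) (q₂ h) (fun i w => hχ₂ _ w) v (p ^ n)
  rw [hg, map_commutatorElement, map_pow, map_pow, hh', hpe, commutatorElement_eq_one_iff_mul_comm] at hg1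
  have hfix : q₂ h ^ p ^ n * ι₂ (∏ i ∈ Finset.range (p ^ n), χ₂ (q₂ h ^ i) v) =
      ι₂ (∏ i ∈ Finset.range (p ^ n), χ₂ (q₂ h ^ i) v) * q₂ h ^ p ^ n := by
    refine mul_right_cancel (b := q₂ h ^ p ^ n) ?_
    rw [mul_assoc, hg1]
  refine hι₂ ?_
  have hprod : ∏ i ∈ Finset.range (p ^ n), (ψ₂ h ^ i) v = ∏ i ∈ Finset.range (p ^ n), χ₂ (q₂ h ^ i) v := by
    refine Finset.prod_congr rfl fun i _ => ?_
    rw [map_pow]
    rfl
  rw [hprod, show ψ₂ h ^ p ^ n = χ₂ (q₂ h ^ p ^ n) by rw [map_pow]; rfl, hχ₂]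
  exact mul_inv_eq_iff_eq_mul.mpr hfix

theorem pLengthLE_zero_of_exponent {G : Type*} [Group G] [Finite G] {p : ℕ} [hp : Fact p.Prime]
    (hexp : ∀ (P : Sylow p G), ∀ x ∈ (P : Subgroup G), x ^ p ^ 0 = 1) : Cfsg.PLengthLE p 0 G := by
  have hd : ¬ p ∣ Nat.card G := by
    intro hd
    obtain ⟨g, hg⟩ := exists_prime_orderOf_dvd_card' p hd
    obtain ⟨P, hP⟩ := (IsPGroup.of_card (n := 1) (G := zpowers g)
      (by rw [Nat.card_zpowers, hg, pow_one])).exists_le_sylow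
    have := hexp P g (hP (mem_zpowers g))
    rw [pow_zero, pow_one] at this
    rw [this, orderOf_one] at hg
    exact hp.out.one_lt.ne hg
  exact top_le_iff.mp (le_uSer_succ_even Even.zero inferInstance (S := ⊥) bot_le
    (by rwa [relIndex_bot_left, card_top]))

theorem exponent_quotient_of_mem {G : Type u} [Group G] [Finite G] {p : ℕ} [hp : Fact p.Prime]
    (N : Subgroup G) [N.Normal] {n : ℕ} (h : ∀ x : G, IsPGroup p (zpowers x) → x ^ p ^ n ∈ N) :
    ∀ (P : Sylow p (G ⧸ N)), ∀ y ∈ (P : Subgroup (G ⧸ N)), y ^ p ^ n = 1 := by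
  intro P y hy
  obtain ⟨P', rfl⟩ := Sylow.mapSurjective_surjective (QuotientGroup.mk'_surjective N) p P
  obtain ⟨a, ha, rfl⟩ := hy
  rw [← map_pow]
  exact (QuotientGroup.eq_one_iff _).mpr (h a (P'.isPGroup'.to_le (zpowers_le.mpr ha)))

theorem pLengthLE_exponent : ∀ (n : ℕ) (G : Type u) [Group G] [Finite G] (p : ℕ) [Fact p.Prime], p ≠ 2 →
    Cfsg.IsPSolvable p G →
    ((¬ ∃ k, p = 2 ^ k + 1) ∨ ∀ S : Sylow 2 G, IsMulCommutative (S : Subgroup G)) →
    (∀ (P : Sylow p G), ∀ x ∈ (P : Subgroup G), x ^ p ^ n = 1) → Cfsg.PLengthLE p n G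
  | 0, G, _, _, p, hp, _, _, _, hexp => pLengthLE_zero_of_exponent hexp
  | n + 1, G, _, _, p, hp, hp2, hG, hexc, hexp => by
    haveI : (uSer p G 2).Normal := (Cfsg.upperPSeries p G 2).2
    have hf : Function.Surjective (QuotientGroup.mk' (uSer p G 2)) := QuotientGroup.mk'_surjective _
    rw [Nat.add_comm n 1]
    exact pLengthLE_extension (uSer p G 2) (a := 1) (uSer_mono (by omega))
      (pLengthLE_exponent n _ p hp2 (isPSolvable_map hG _ hf)
        (hexc.imp_right fun h => sylow_commutative_of_surjective _ hf h)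
        (exponent_quotient_of_mem _ (pow_mem_uSer_two hp2 hG hexc hexp)))

theorem pLengthLE_two_mul_exponent : ∀ (n : ℕ) (G : Type u) [Group G] [Finite G] (p : ℕ) [Fact p.Prime],
    p ≠ 2 → Cfsg.IsPSolvable p G →
    (∀ (P : Sylow p G), ∀ x ∈ (P : Subgroup G), x ^ p ^ n = 1) → Cfsg.PLengthLE p (2 * n) G
  | 0, G, _, _, p, hp, _, _, hexp => pLengthLE_zero_of_exponent hexp
  | n + 1, G, _, _, p, hp, hp2, hG, hexp => by
    haveI : (uSer p G 4).Normal := (Cfsg.upperPSeries p G 4).2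
    have hf : Function.Surjective (QuotientGroup.mk' (uSer p G 4)) := QuotientGroup.mk'_surjective _
    rw [show 2 * (n + 1) = 2 + 2 * n by ring]
    exact pLengthLE_extension (uSer p G 4) (a := 2) (uSer_mono (by omega))
      (pLengthLE_two_mul_exponent n _ p hp2 (isPSolvable_map hG _ hf)
        (exponent_quotient_of_mem _ (pow_mem_uSer_four hp2 hG hexp)))

end Cfsg.Agent.Grp.HHP
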