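import Mathlib
import Cfsg.Agent.Lib.Grp.Basic
import Cfsg.Agent.Lib.Grp.Solvable
import Cfsg.Agent.S0144

/-!
# Hall's converse: groups with all p-complements are solvable
-/

namespace Cfsg.Agent.Grp.HallConv

open scoped Pointwise

universe u

variable {G : Type u} [Group G] [Finite G]

/-- Indices multiply for subgroups of coprime index. -/
theorem index_inf_of_coprime {H K : Subgroup G} (h : H.index.Coprime K.index) :
    (H ⊓ K).index = H.index * K.index := by
  refine le_antisymm Subgroup.index_inf_le ?_
  exact Nat.le_of_dvd (Nat.pos_of_ne_zero Subgroup.index_ne_zero_of_finite)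
    (h.mul_dvd_of_dvd_of_dvd (Subgroup.index_dvd_of_le inf_le_left) (Subgroup.index_dvd_of_le inf_le_right))

/-- Subgroups of coprime index factorize the group. -/
theorem exists_mul_of_coprime {H K : Subgroup G} (h : H.index.Coprime K.index) (g : G) :
    ∃ k ∈ K, ∃ x ∈ H, g = k * x := by
  have hrel : K.relIndex H = K.index := by
    have h1 := Subgroup.relIndex_mul_index (inf_le_left : H ⊓ K ≤ H)
    rw [Subgroup.inf_relIndex_left, index_inf_of_coprime h, mul_comm H.index] at h1
    exact Nat.eq_of_mul_eq_mul_right (Nat.pos_of_ne_zero H.index_ne_zero_of_finite) h1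
  let f : H ⧸ K.subgroupOf H → G ⧸ K := Quotient.map' (fun x : H => (x : G)) fun a b hab => by
    rw [QuotientGroup.leftRel_apply] at hab ⊢
    exact hab
  have hinj : Function.Injective f := by
    intro a b hab
    induction a using QuotientGroup.induction_on with
    | H a =>
      induction b using QuotientGroup.induction_on with
      | H b =>
        have h' : (QuotientGroup.mk (a : G) : G ⧸ K) = QuotientGroup.mk (b : G) := hab
        have h'' := QuotientGroup.eq.1 h'
        exact QuotientGroup.eq.2 (Subgroup.mem_subgroupOf.2 (by simpa using h''))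
  obtain ⟨q, hq⟩ := (hinj.bijective_of_nat_card_le (by
    change K.index ≤ K.relIndex H
    rw [hrel])).2 ((g⁻¹ : G) : G ⧸ K)
  induction q using QuotientGroup.induction_on with
  | H x =>
    refine ⟨g * x, ?_, (x : G)⁻¹, inv_mem x.2, by group⟩
    have := QuotientGroup.eq.1 (show ((x : G) : G ⧸ K) = ((g⁻¹ : G) : G ⧸ K) from hq)
    simpa using inv_mem this

/-- Wielandt: three solvable subgroups of pairwise coprime index. -/
theorem isSolvable_of_three : ∀ (n : ℕ) (G : Type u) [Group G] [Finite G], Nat.card G = n →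
    ∀ A B C : Subgroup G, Group.IsSolvable A → Group.IsSolvable B → Group.IsSolvable C →
    A.index.Coprime B.index → A.index.Coprime C.index → B.index.Coprime C.index → Group.IsSolvable G := by
  intro n
  induction n using Nat.strong_induction_on with
  | _ n ih =>
    intro G _ _ hn A B C hA hB hC hAB hAC hBC
    by_cases hA0 : A = ⊥
    · rw [hA0, Subgroup.index_bot] at hAB
      have : B = ⊤ := Subgroup.index_eq_one.1 (Nat.eq_one_of_dvd_coprimes hAB B.index_dvd_card dvd_rfl)
      subst this
      exact Grp.isSolvable_of_injective (Subgroup.topEquiv (G := G)).symm.toMonoidHom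
        (Subgroup.topEquiv (G := G)).symm.injective hB
    haveI : Nontrivial A := (Subgroup.nontrivial_iff_ne_bot A).2 hA0
    obtain ⟨M, hMn, hM0, -, hMmin⟩ := Grp.exists_minimal_normal_le (G := A) (N := ⊤) top_ne_bot
    haveI := hMn
    haveI := hA
    obtain ⟨l, hl, hMl⟩ := Grp.minimal_normal_solvable_isPGroup (N := M) inferInstance hM0 hMmin
    haveI : Fact l.Prime := ⟨hl⟩
    obtain ⟨K, hK, hKA, hKl⟩ : ∃ K : Subgroup G, Group.IsSolvable K ∧ A.index.Coprime K.index ∧ ¬ l ∣ K.index := by
      by_cases h : l ∣ B.index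
      · exact ⟨C, hC, hAC, fun hc => hl.ne_one (Nat.eq_one_of_dvd_coprimes hBC h hc)⟩
      · exact ⟨B, hB, hAB, h⟩
    set M₀ := M.map A.subtype with hM₀
    obtain ⟨Q⟩ : Nonempty (Sylow l K) := inferInstance
    have hQp : IsPGroup l ((Q : Subgroup K).map K.subtype) := Q.isPGroup'.map _
    have hQi : ¬ l ∣ ((Q : Subgroup K).map K.subtype).index := by
      rw [Subgroup.index_map_subtype]
      exact fun h => (hl.dvd_mul.1 h).elim Q.not_dvd_index hKl
    let P : Sylow l G := hQp.toSylow hQi
    obtain ⟨R, hR⟩ := (hMl.map A.subtype).exists_le_sylow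
    obtain ⟨g, hg⟩ := MulAction.exists_smul_eq G R P
    have hMK : M₀ ≤ K := by
      obtain ⟨k, hk, x, hx, rfl⟩ := exists_mul_of_coprime hKA g
      rintro _ ⟨m, hm, rfl⟩
      have hm' : (⟨x, hx⟩ : A)⁻¹ * m * (⟨x, hx⟩ : A) ∈ M := by
        simpa [mul_assoc] using hMn.conj_mem m hm (⟨x, hx⟩ : A)⁻¹
      have h1 : (k * x) * ((x⁻¹ * (m : G) * x)) * (k * x)⁻¹ ∈ ((k * x) • R : Sylow l G).toSubgroup := by
        rw [Sylow.coe_subgroup_smul]
        exact ⟨_, hR ⟨_, hm', rfl⟩, rfl⟩
      rw [hg] at h1
      have h2 : (k * x) * ((x⁻¹ * (m : G) * x)) * (k * x)⁻¹ ∈ K := Subgroup.map_subtype_le _ h1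
      have := mul_mem (mul_mem (inv_mem hk) h2) hk
      simpa [mul_assoc] using this
    set N := Subgroup.normalClosure (M₀ : Set G) with hN
    have hNK : N ≤ K := by
      refine (Subgroup.closure_le _).2 fun y hy => ?_
      obtain ⟨_, ⟨m, hm, rfl⟩, hc⟩ := Group.mem_conjugatesOfSet_iff.1 hy
      obtain ⟨g', rfl⟩ := isConj_iff.1 hc
      obtain ⟨k, hk, x, hx, rfl⟩ := exists_mul_of_coprime hKA g'
      have h1 : x * (m : G) * x⁻¹ ∈ K := hMK ⟨_, hMn.conj_mem m hm ⟨x, hx⟩, rfl⟩
      have := mul_mem (mul_mem hk h1) (inv_mem hk)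
      simpa [mul_assoc] using this
    have hN0 : N ≠ ⊥ := fun h => hM0 ((Subgroup.map_eq_bot_iff_of_injective _ A.subtype_injective).1
      (eq_bot_iff.2 (h ▸ Subgroup.le_normalClosure)))
    haveI : Group.IsSolvable N := Grp.isSolvable_of_injective (Subgroup.inclusion hNK)
      (Subgroup.inclusion_injective hNK) hK
    have hmap : ∀ H : Subgroup G, Group.IsSolvable H → Group.IsSolvable (H.map (QuotientGroup.mk' N)) := fun H hH =>
      Group.isSolvable_of_surjective ((QuotientGroup.mk' N).subgroupMap_surjective H)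
    have hd : ∀ H : Subgroup G, (H.map (QuotientGroup.mk' N)).index ∣ H.index := fun H =>
      Subgroup.index_map_dvd H (QuotientGroup.mk'_surjective N)
    haveI := ih _ (hn ▸ Grp.card_quotient_lt hN0) (G ⧸ N) rfl _ _ _ (hmap A hA) (hmap B hB) (hmap C hC)
      ((hAB.coprime_dvd_left (hd A)).coprime_dvd_right (hd B))
      ((hAC.coprime_dvd_left (hd A)).coprime_dvd_right (hd C))
      ((hBC.coprime_dvd_left (hd B)).coprime_dvd_right (hd C))
    exact Group.isSolvable_of_ker_le_range N.subtype (QuotientGroup.mk' N) (le_of_eq (by simp))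

/-- Hall's converse. -/
theorem isSolvable_of_complements : ∀ (n : ℕ) (G : Type u) [Group G] [Finite G], Nat.card G = n →
    (∀ p : ℕ, p.Prime → ∃ H : Subgroup G, H.index = p ^ (Nat.card G).factorization p) →
    Group.IsSolvable G := by
  intro n
  induction n using Nat.strong_induction_on with
  | _ n ih =>
    intro G _ _ hn h
    set F := (Nat.card G).primeFactors with hF
    by_cases htwo : ∃ p q : ℕ, p.Prime ∧ q.Prime ∧ F ⊆ {p, q}
    · obtain ⟨p, q, hp, hq, hsub⟩ := htwo
      by_cases hpq : p = q
      · subst hpq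
        refine Cfsg.Agent.S0144.result p p ((Nat.card G).factorization p) 0 hp hp ?_
        conv_lhs => rw [← Nat.prod_factorization_pow_eq_self (Nat.card_pos (α := G)).ne']
        rw [Finsupp.prod_of_support_subset _ (s := {p}) (by
          rw [Nat.support_factorization]; exact hsub.trans (by simp)) _ (fun i _ => pow_zero i), Finset.prod_singleton,
          pow_zero, mul_one]
      · refine Cfsg.Agent.S0144.result p q ((Nat.card G).factorization p) ((Nat.card G).factorization q) hp hq ?_
        conv_lhs => rw [← Nat.prod_factorization_pow_eq_self (Nat.card_pos (α := G)).ne']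
        rw [Finsupp.prod_of_support_subset _ (s := {p, q}) (by
          rw [Nat.support_factorization]; exact hsub) _ (fun i _ => pow_zero i), Finset.prod_pair hpq]
    push Not at htwo
    obtain ⟨p, hpF⟩ : F.Nonempty := by
      by_contra h'
      exact htwo 2 2 Nat.prime_two Nat.prime_two (by rw [Finset.not_nonempty_iff_eq_empty.1 h']; simp)
    have hp := (Nat.mem_primeFactors.1 hpF).1
    obtain ⟨q, hqF, hqp⟩ : ∃ q ∈ F, q ≠ p := by
      obtain ⟨q, hq1, hq2⟩ := Finset.not_subset.1 (htwo p p hp hp)
      exact ⟨q, hq1, by simpa using hq2⟩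
    have hq := (Nat.mem_primeFactors.1 hqF).1
    obtain ⟨r, hrF, hr'⟩ := Finset.not_subset.1 (htwo p q hp hq)
    have hr := (Nat.mem_primeFactors.1 hrF).1
    simp only [Finset.mem_insert, Finset.mem_singleton, not_or] at hr'
    choose H hH using h
    have hsol : ∀ (s : ℕ) (hs : s.Prime), s ∈ F → Group.IsSolvable (H s hs) := by
      intro s hs hsF
      have hcard : Nat.card (H s hs) * s ^ (Nat.card G).factorization s = Nat.card G := by
        rw [← hH s hs]; exact (H s hs).card_mul_index
      refine ih _ ?_ _ rfl fun l hl => ?_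
      · rw [← hn]
        have : 1 < s ^ (Nat.card G).factorization s :=
          Nat.one_lt_pow (hs.factorization_pos_of_dvd Nat.card_pos.ne' (Nat.mem_primeFactors.1 hsF).2.1).ne' hs.one_lt
        conv_rhs => rw [← hcard]
        exact lt_mul_of_one_lt_right Nat.card_pos this
      · have hf : (Nat.card (H s hs)).factorization l =
            if l = s then 0 else (Nat.card G).factorization l := by
          have := congrArg (fun m : ℕ => m.factorization l) hcard
          simp only [Nat.factorization_mul Nat.card_pos.ne' (pow_ne_zero _ hs.pos.ne'), Finsupp.add_apply,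
            hs.factorization_pow, Finsupp.single_apply] at this
          split_ifs with he
          · subst he; simpa using this
          · rw [if_neg (Ne.symm he)] at this; simpa using this
        rw [hf]
        split_ifs with he
        · exact ⟨⊤, by rw [Subgroup.index_top, pow_zero]⟩
        · refine ⟨(H l hl).subgroupOf (H s hs), ?_⟩
          have hco : (H s hs).index.Coprime (H l hl).index := by
            rw [hH, hH]; exact Nat.coprime_pow_primes _ _ hs hl (Ne.symm he)
          have h1 := Subgroup.relIndex_mul_index (inf_le_left : H s hs ⊓ H l hl ≤ H s hs)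
          rw [Subgroup.inf_relIndex_left, index_inf_of_coprime hco, mul_comm (H s hs).index] at h1
          exact (Nat.eq_of_mul_eq_mul_right (Nat.pos_of_ne_zero Subgroup.index_ne_zero_of_finite) h1).trans (hH l hl)
    refine isSolvable_of_three _ G rfl _ _ _ (hsol p hp hpF) (hsol q hq hqF) (hsol r hr hrF) ?_ ?_ ?_ <;>
      rw [hH, hH] <;> apply Nat.coprime_pow_primes <;> first | assumption | (intro e; subst e; simp_all)

/-- The product of two permutable subgroups. -/
def prodSub (A B : Subgroup G) (h : (A : Set G) * (B : Set G) = (B : Set G) * (A : Set G)) : Subgroup G where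
  carrier := (A : Set G) * (B : Set G)
  one_mem' := ⟨1, one_mem A, 1, one_mem B, one_mul 1⟩
  mul_mem' := fun {x y} hx hy => by
    have hxy : x * y ∈ (A : Set G) * (B : Set G) * ((A : Set G) * (B : Set G)) := Set.mul_mem_mul hx hy
    rw [mul_assoc (A : Set G), ← mul_assoc (B : Set G), ← h, mul_assoc (A : Set G) (B : Set G) (B : Set G),
      ← mul_assoc, coe_mul_coe, coe_mul_coe] at hxy
    exact hxy
  inv_mem' := fun {x} hx => by
    obtain ⟨a, ha, b, hb, rfl⟩ := hx
    rw [mul_inv_rev, h]
    exact Set.mul_mem_mul (inv_mem hb) (inv_mem ha)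

/-- A group with a Sylow system is solvable. -/
theorem isSolvable_of_sylowSystem (S : (p : Nat.Primes) → Sylow (p : ℕ) G)
    (hS : ∀ p q : Nat.Primes, (S p : Set G) * (S q : Set G) = (S q : Set G) * (S p : Set G)) :
    Group.IsSolvable G := by
  classical
  have key : ∀ F : Finset Nat.Primes, ∃ J : Subgroup G,
      (∀ q : Nat.Primes, (J : Set G) * (S q : Set G) = (S q : Set G) * (J : Set G)) ∧
      Nat.card J = ∏ q ∈ F, Nat.card (S q) := by
    intro F
    induction F using Finset.induction_on with
    | empty => exact ⟨⊥, fun q => by simp, by simp⟩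
    | insert t F ht ih =>
      obtain ⟨J, hJ, hJc⟩ := ih
      refine ⟨prodSub J (S t) (hJ t), fun q => ?_, ?_⟩
      · show ((J : Set G) * (S t : Set G)) * (S q : Set G) = (S q : Set G) * ((J : Set G) * (S t : Set G))
        rw [mul_assoc, hS t q, ← mul_assoc, hJ q, mul_assoc]
      · have hco : (Nat.card J).Coprime (Nat.card (S t)) := by
          rw [hJc]
          refine Nat.Coprime.prod_left fun q hq => ?_
          haveI := Fact.mk q.2
          haveI := Fact.mk t.2
          rw [(S q).card_eq_multiplicity, (S t).card_eq_multiplicity]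
          exact Nat.coprime_pow_primes _ _ q.2 t.2 fun e => ht (Subtype.ext e ▸ hq)
        have hd := Subgroup.inf_eq_bot_of_coprime (H := J) (K := (S t : Subgroup G)) hco
        rw [Finset.prod_insert ht, mul_comm, ← hJc, ← Nat.card_prod]
        refine Nat.card_congr (Equiv.symm (Equiv.ofBijective
          (fun x : J × (S t : Subgroup G) => (⟨(x.1 : G) * x.2, Set.mul_mem_mul x.1.2 x.2.2⟩ : prodSub J (S t) (hJ t)))
          ⟨fun x y e => ?_, fun x => ?_⟩))
        · exact Subgroup.mul_injective_of_disjoint (disjoint_iff.2 hd) (congrArg Subtype.val e)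
        · obtain ⟨a, ha, b, hb, e⟩ := x.2
          exact ⟨(⟨a, ha⟩, ⟨b, hb⟩), Subtype.ext e⟩
  refine isSolvable_of_complements _ G rfl fun p hp => ?_
  let P : Nat.Primes := ⟨p, hp⟩
  set F : Finset Nat.Primes := (Nat.card G).primeFactors.subtype Nat.Prime
  obtain ⟨J, -, hJ⟩ := key (F.erase P)
  refine ⟨J, ?_⟩
  have hmul := J.card_mul_index
  have hS' : ∀ q : Nat.Primes, Nat.card (S q) = (q : ℕ) ^ (Nat.card G).factorization q := fun q => by
    haveI := Fact.mk q.2
    exact (S q).card_eq_multiplicity
  have htot : (∏ q ∈ F, Nat.card (S q)) = Nat.card G := by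
    calc (∏ q ∈ F, Nat.card (S q)) = ∏ q ∈ F, (q : ℕ) ^ (Nat.card G).factorization q :=
          Finset.prod_congr rfl (fun q _ => hS' q)
      _ = ∏ q ∈ (Nat.card G).primeFactors.filter Nat.Prime, q ^ (Nat.card G).factorization q := by
          rw [← Finset.subtype_map, Finset.prod_map]; rfl
      _ = Nat.card G := by
          rw [Finset.filter_true_of_mem fun q hq => (Nat.mem_primeFactors.1 hq).1]
          conv_rhs => rw [← Nat.prod_factorization_pow_eq_self (Nat.card_pos (α := G)).ne']
          rfl
  by_cases hPF : P ∈ F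
  · rw [← Finset.mul_prod_erase F _ hPF, ← hJ, hS'] at htot
    refine Nat.eq_of_mul_eq_mul_left (Nat.card_pos (α := J)) (hmul.trans (htot.symm.trans (mul_comm _ _)))
  · rw [Finset.erase_eq_of_notMem hPF, htot] at hJ
    rw [Subgroup.eq_top_of_card_eq J hJ, Subgroup.index_top]
    have : (Nat.card G).factorization p = 0 := by
      rw [Nat.factorization_eq_zero_iff]
      by_contra hc
      push Not at hc
      exact hPF (Finset.mem_subtype.2 (Nat.mem_primeFactors.2 hc))
    rw [this, pow_zero]

end Cfsg.Agent.Grp.HallConv
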