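import Mathlib
import Cfsg.Agent.Lib.Alt.AutAlternating

/-! A double cover of the alternating groups inside the signed translations of `(ℤ/2)ⁿ`. -/

set_option autoImplicit false
set_option linter.style.haveILetI false

namespace Cfsg.Agent.Grp.SpinCover

open Matrix Equiv

variable {n : ℕ}

/-- Sign of a class. -/
def sg (a : ZMod 2) : ℚ := if a = 0 then 1 else -1

theorem zcases : ∀ a : ZMod 2, a = 0 ∨ a = 1 := by decide

theorem sg_zero : sg 0 = 1 := if_pos rfl

theorem sg_one : sg 1 = -1 := if_neg (by decide)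

theorem sg_add (a b : ZMod 2) : sg (a + b) = sg a * sg b := by
  rcases zcases a with rfl | rfl <;> rcases zcases b with rfl | rfl <;>
    simp [sg_zero, sg_one, show (1 : ZMod 2) + 1 = 0 by decide]

theorem sg_sq (a : ZMod 2) : sg a * sg a = 1 := by
  rcases zcases a with rfl | rfl <;> simp [sg_zero, sg_one]

theorem vec_add_self (a : Fin n → ZMod 2) : a + a = 0 :=
  funext fun i => by rcases zcases (a i) with h | h <;> simp [h, show (1 : ZMod 2) + 1 = 0 by decide]

variable (n) in
/-- The operators. -/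
abbrev Op : Type := Matrix (Fin n → ZMod 2) (Fin n → ZMod 2) ℚ

/-- A signed translation. -/
def X (a c : Fin n → ZMod 2) : Op n := Matrix.of fun T S => if T = S + a then sg (c ⬝ᵥ S) else 0

theorem X_apply (a c T S : Fin n → ZMod 2) : X a c T S = if T = S + a then sg (c ⬝ᵥ S) else 0 := rfl

theorem X_mul (a b c d : Fin n → ZMod 2) : X a c * X b d = sg (c ⬝ᵥ b) • X (a + b) (c + d) := by
  ext T S
  rw [Matrix.mul_apply, Finset.sum_eq_single (S + b) (fun U _ hU => by rw [X_apply b, if_neg hU, mul_zero])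
    (by simp), Matrix.smul_apply, X_apply b, if_pos rfl, X_apply a, X_apply, smul_eq_mul,
    show S + b + a = S + (a + b) by abel]
  split
  · rw [dotProduct_add, sg_add, add_dotProduct, sg_add]; ring
  · simp

theorem X_zero : X (0 : Fin n → ZMod 2) 0 = 1 := by
  ext T S
  simp [X_apply, Matrix.one_apply, sg_zero]

theorem X_comm (a b c d : Fin n → ZMod 2) :
    X a c * X b d = sg (c ⬝ᵥ b + d ⬝ᵥ a) • (X b d * X a c) := by
  rw [X_mul, X_mul, smul_smul, add_comm b a, add_comm d c, sg_add, mul_assoc, sg_sq, mul_one]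

theorem X_symm {a c : Fin n → ZMod 2} (h : c ⬝ᵥ a = 0) : (X a c)ᵀ = X a c := by
  ext T S
  rw [Matrix.transpose_apply, X_apply, X_apply]
  by_cases hT : T = S + a
  · rw [if_pos hT, if_pos (by rw [hT, add_assoc, vec_add_self, add_zero]), hT, dotProduct_add, h, add_zero]
  · rw [if_neg hT, if_neg fun hS => hT (by rw [hS, add_assoc, vec_add_self, add_zero])]

/-- Indices below. -/
def lo (i : Fin n) : Fin n → ZMod 2 := fun j => if j < i then 1 else 0

/-- Indices above. -/
def hi (i : Fin n) : Fin n → ZMod 2 := fun j => if i < j then 1 else 0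

/-- Left Clifford generator. -/
def L (i : Fin n) : Op n := X (Pi.single i 1) (lo i)

/-- Right Clifford generator. -/
def R (i : Fin n) : Op n := X (Pi.single i 1) (hi i)

variable (n) in
/-- Parity. -/
def P : Op n := X 0 1

theorem L_sq (i : Fin n) : L i * L i = 1 := by
  rw [L, X_mul, vec_add_self, vec_add_self, X_zero, dotProduct_single]
  simp [lo, sg_zero]

theorem L_anti {i j : Fin n} (h : i ≠ j) : L i * L j = -(L j * L i) := by
  rw [L, L, X_comm, dotProduct_single, dotProduct_single]
  rcases h.lt_or_gt with h | h <;> simp [lo, h, h.not_gt, sg_one]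

theorem L_R (i j : Fin n) : L i * R j = R j * L i := by
  rw [L, R, X_comm, dotProduct_single, dotProduct_single]
  rcases lt_or_ge j i with h | h
  · simp [lo, hi, h, show (1 : ZMod 2) + 1 = 0 by decide, sg_zero]
  · simp [lo, hi, h.not_gt, sg_zero]

theorem P_L (i : Fin n) : P n * L i = -(L i * P n) := by
  rw [P, L, X_comm, dotProduct_single]
  simp [sg_one]

theorem L_symm (i : Fin n) : (L i)ᵀ = L i := X_symm (by simp [lo])

theorem L_injective : Function.Injective (L : Fin n → Op n) := by
  intro i j h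
  have h1 := congrFun (congrFun h (Pi.single i 1)) 0
  simp only [L, X_apply, zero_add, dotProduct_zero, sg_zero, if_true] at h1
  by_contra hij
  rw [if_neg fun he => hij (by
    have := congrFun he i
    simpa [Pi.single_apply, hij] using this)] at h1
  exact one_ne_zero h1

/-- A root. -/
def d (i j : Fin n) : Op n := L i - L j

theorem d_sq {i j : Fin n} (h : i ≠ j) : d i j * d i j = (2 : ℚ) • 1 := by
  rw [d, sub_mul, mul_sub, mul_sub, L_sq, L_sq, L_anti h, two_smul]
  abel

theorem d_L {i j : Fin n} (h : i ≠ j) (k : Fin n) : d i j * L k = -(L (Equiv.swap i j k) * d i j) := by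
  rcases eq_or_ne k i with rfl | hki
  · rw [Equiv.swap_apply_left, d, sub_mul, mul_sub, L_sq, L_sq]; abel
  rcases eq_or_ne k j with rfl | hkj
  · rw [Equiv.swap_apply_right, d, sub_mul, mul_sub, L_sq, L_sq]; abel
  rw [Equiv.swap_apply_of_ne_of_ne hki hkj, d, sub_mul, mul_sub, L_anti hki.symm, L_anti hkj.symm]
  abel

theorem d_R (i j k : Fin n) : d i j * R k = R k * d i j := by
  rw [d, sub_mul, mul_sub, L_R, L_R]

theorem P_d (i j : Fin n) : P n * d i j = -(d i j * P n) := by
  rw [d, sub_mul, mul_sub, P_L, P_L]; abel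

theorem d_symm (i j : Fin n) : (d i j)ᵀ = d i j := by
  rw [d, Matrix.transpose_sub, L_symm, L_symm]

variable (n) in
/-- The double cover. -/
def G : Subgroup (Op n)ˣ where
  carrier := {x : (Op n)ˣ | (x : Op n)ᵀ * x = 1 ∧ (∀ i, (x : Op n) * R i = R i * (x : Op n)) ∧ P n * (x : Op n) = (x : Op n) * P n ∧
    ∃ σ ∈ alternatingGroup (Fin n), ∀ k, (x : Op n) * L k = L (σ k) * (x : Op n)}
  one_mem' := ⟨by simp, by simp, by simp, 1, one_mem _, by simp⟩
  mul_mem' := by
    rintro x y ⟨ox, rx, px, σ, hσ, lx⟩ ⟨oy, ry, py, τ, hτ, ly⟩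
    refine ⟨?_, fun i => ?_, ?_, σ * τ, mul_mem hσ hτ, fun k => ?_⟩
    · rw [Units.val_mul, Matrix.transpose_mul, Matrix.mul_assoc, ← Matrix.mul_assoc _ (x : Op n), ox, Matrix.one_mul, oy]
    · rw [Units.val_mul, mul_assoc, ry, ← mul_assoc, rx, mul_assoc]
    · rw [Units.val_mul, ← mul_assoc, px, mul_assoc, py, mul_assoc]
    · rw [Units.val_mul, mul_assoc, ly, ← mul_assoc, lx, mul_assoc, Equiv.Perm.mul_apply]
  inv_mem' := by
    rintro x ⟨ox, rx, px, σ, hσ, lx⟩
    have hinv : ((x⁻¹ : (Op n)ˣ) : Op n) = (x : Op n)ᵀ := Units.inv_eq_of_mul_eq_one_left ox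
    refine ⟨?_, fun i => ?_, ?_, σ⁻¹, inv_mem hσ, fun k => ?_⟩
    · rw [hinv, Matrix.transpose_transpose, ← hinv, Units.mul_inv]
    · exact (show Commute (x : Op n) (R i) from rx i).units_inv_left.eq
    · exact ((show Commute (x : Op n) (P n) from px.symm).units_inv_left.eq).symm
    · rw [Units.inv_mul_eq_iff_eq_mul, ← mul_assoc, lx, Equiv.Perm.coe_inv, Equiv.apply_symm_apply, mul_assoc, Units.mul_inv, mul_one]

theorem sigma_unique {x : (Op n)ˣ} {σ τ : Equiv.Perm (Fin n)} (h₁ : ∀ k, (x : Op n) * L k = L (σ k) * (x : Op n))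
    (h₂ : ∀ k, (x : Op n) * L k = L (τ k) * (x : Op n)) : σ = τ :=
  Equiv.ext fun k => L_injective (Units.mul_left_inj x |>.1 ((h₁ k).symm.trans (h₂ k)))

variable (n) in
/-- The covering map. -/
noncomputable def proj : G n →* alternatingGroup (Fin n) where
  toFun x := ⟨x.2.2.2.2.choose, x.2.2.2.2.choose_spec.1⟩
  map_one' := Subtype.ext (sigma_unique (x := 1) (1 : G n).2.2.2.2.choose_spec.2 (by simp))
  map_mul' x y := Subtype.ext (sigma_unique (x := (x * y : G n)) (x * y).2.2.2.2.choose_spec.2 fun k => by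
    show ((x : (Op n)ˣ) : Op n) * ((y : (Op n)ˣ) : Op n) * L k = _
    rw [mul_assoc, y.2.2.2.2.choose_spec.2, ← mul_assoc, x.2.2.2.2.choose_spec.2, mul_assoc]
    rfl)

theorem proj_eq (x : G n) {σ : Equiv.Perm (Fin n)} (h : ∀ k, ((x : (Op n)ˣ) : Op n) * L k = L (σ k) * ((x : (Op n)ˣ) : Op n)) :
    (proj n x : Equiv.Perm (Fin n)) = σ :=
  sigma_unique x.2.2.2.2.choose_spec.2 h

/-- A spin element. -/
def w (a b c e : Fin n) : Op n := (1 / 2 : ℚ) • (d a b * d c e)

theorem w_orth {a b c e : Fin n} (hab : a ≠ b) (hce : c ≠ e) :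
    (w a b c e)ᵀ * w a b c e = 1 ∧ w a b c e * (w a b c e)ᵀ = 1 := by
  rw [w, Matrix.transpose_smul, Matrix.transpose_mul, d_symm, d_symm]
  constructor
  · rw [smul_mul_assoc, mul_smul_comm, mul_assoc, ← mul_assoc (d a b), d_sq hab, smul_mul_assoc, one_mul,
      mul_smul_comm, d_sq hce, smul_smul, smul_smul, smul_smul]
    norm_num
  · rw [smul_mul_assoc, mul_smul_comm, mul_assoc, ← mul_assoc (d c e), d_sq hce, smul_mul_assoc, one_mul,
      mul_smul_comm, d_sq hab, smul_smul, smul_smul, smul_smul]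
    norm_num

theorem w_L {a b c e : Fin n} (hab : a ≠ b) (hce : c ≠ e) (k : Fin n) :
    w a b c e * L k = L ((Equiv.swap a b * Equiv.swap c e) k) * w a b c e := by
  rw [w, smul_mul_assoc, mul_smul_comm, mul_assoc, d_L hce, mul_neg, ← mul_assoc, d_L hab, neg_mul, neg_neg,
    mul_assoc, Equiv.Perm.mul_apply]

/-- The spin element in the cover. -/
noncomputable def W {a b c e : Fin n} (hab : a ≠ b) (hce : c ≠ e) : G n :=
  ⟨⟨w a b c e, (w a b c e)ᵀ, (w_orth hab hce).2, (w_orth hab hce).1⟩, (w_orth hab hce).1, fun i => by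
    show w a b c e * R i = R i * w a b c e
    rw [w, smul_mul_assoc, mul_smul_comm, mul_assoc, d_R, ← mul_assoc, d_R, mul_assoc], by
    show P n * w a b c e = w a b c e * P n
    rw [w, smul_mul_assoc, mul_smul_comm, ← mul_assoc, P_d, neg_mul, mul_assoc, P_d, mul_neg, neg_neg, mul_assoc],
    Equiv.swap a b * Equiv.swap c e, by
      rw [Equiv.Perm.mem_alternatingGroup, map_mul, Equiv.Perm.sign_swap hab, Equiv.Perm.sign_swap hce]; decide,
    w_L hab hce⟩

theorem proj_surjective (hn : 3 ≤ n) : Function.Surjective (proj n) := by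
  intro σ
  have h : alternatingGroup (Fin n) ≤ (proj n).range.map (alternatingGroup (Fin n)).subtype := by
    refine (Equiv.Perm.closure_three_cycles_eq_alternating (α := Fin n)).ge.trans ((Subgroup.closure_le _).2 ?_)
    intro x hx
    obtain ⟨a, ha⟩ : ∃ a, x a ≠ a := by
      by_contra h
      push Not at h
      exact hx.isCycle.ne_one (Equiv.ext h)
    have h2 : x (x a) ≠ x a := x.injective.ne ha
    refine ⟨proj n (W ha.symm h2.symm), ⟨_, rfl⟩, ?_⟩
    show ((proj n (W ha.symm h2.symm) : alternatingGroup (Fin n)) : Equiv.Perm (Fin n)) = x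
    rw [proj_eq _ (fun k => w_L ha.symm h2.symm k)]
    exact (AltAut.eq_cyc hx ha).1.symm
  obtain ⟨τ, hτ, hτσ⟩ := h σ.2
  obtain ⟨g, rfl⟩ := hτ
  exact ⟨g, Subtype.ext hτσ⟩

variable (n) in
/-- The central involution. -/
noncomputable def z : G n :=
  ⟨-1, by simp, by simp, by simp, 1, one_mem _, by simp⟩

theorem z_central : z n ∈ Subgroup.center (G n) :=
  Subgroup.mem_center_iff.2 fun x => Subtype.ext (Units.ext (by simp [z]))

theorem orderOf_z : orderOf (z n) = 2 := by
  refine orderOf_eq_prime (Subtype.ext (by simp [z])) fun h => ?_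
  have h1 := congrFun (congrFun (congrArg (fun g : G n => ((g : (Op n)ˣ) : Op n)) h) 0) 0
  simp [z] at h1
  linarith

theorem ker_proj : (proj n).ker = Subgroup.zpowers (z n) := by
  refine le_antisymm (fun x hx => ?_) ?_
  swap
  · rw [Subgroup.zpowers_le, MonoidHom.mem_ker]
    exact Subtype.ext (proj_eq _ fun k => by simp [z])
  set M : Op n := ((x : (Op n)ˣ) : Op n) with hM
  have hL : ∀ k, M * L k = L k * M := fun k => by
    have h := x.2.2.2.2.choose_spec.2 k
    have h1 : x.2.2.2.2.choose = 1 := congrArg Subtype.val (MonoidHom.mem_ker.1 hx)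
    rwa [h1, Equiv.Perm.one_apply] at h
  have hR : ∀ k, M * R k = R k * M := x.2.2.1
  have hP : P n * M = M * P n := x.2.2.2.1
  have hcolX : ∀ (a c T S : Fin n → ZMod 2), (M * X a c) T S = M T (S + a) * sg (c ⬝ᵥ S) := fun a c T S => by
    rw [Matrix.mul_apply, Finset.sum_eq_single (S + a) (fun U _ hU => by rw [X_apply, if_neg hU, mul_zero]) (by simp),
      X_apply, if_pos rfl]
  have hrowX : ∀ (a c T S : Fin n → ZMod 2), (X a c * M) T S = sg (c ⬝ᵥ (T + a)) * M (T + a) S := fun a c T S => by
    rw [Matrix.mul_apply, Finset.sum_eq_single (T + a)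
      (fun U _ hU => by rw [X_apply, if_neg fun h => hU (by rw [h, add_assoc, vec_add_self, add_zero]), zero_mul]) (by simp),
      X_apply, if_pos (by rw [add_assoc, vec_add_self, add_zero])]
  have heven : ∀ T : Fin n → ZMod 2, (1 : Fin n → ZMod 2) ⬝ᵥ T = 1 → M T 0 = 0 := fun T hT => by
    have h := congrFun (congrFun hP T) 0
    rw [P, hcolX, hrowX, add_zero, add_zero, hT, dotProduct_zero, sg_one, sg_zero] at h
    linarith
  have hdiag0 : ∀ T : Fin n → ZMod 2, T ≠ 0 → M T 0 = 0 := fun T hT => by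
    rcases zcases ((1 : Fin n → ZMod 2) ⬝ᵥ T) with he | he
    swap
    · exact heven T he
    obtain ⟨i, hi'⟩ := Function.ne_iff.1 hT
    have hTi : T i = 1 := (zcases (T i)).resolve_left hi'
    have h1 := congrFun (congrFun (hL i) (T + Pi.single i 1)) 0
    have h2 := congrFun (congrFun (hR i) (T + Pi.single i 1)) 0
    rw [L, hcolX, hrowX, dotProduct_zero, add_assoc T, vec_add_self, add_zero] at h1
    rw [R, hcolX, hrowX, dotProduct_zero, add_assoc T, vec_add_self, add_zero] at h2
    have hsum : lo i ⬝ᵥ T + hi i ⬝ᵥ T = 1 := by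
      have hdec : (1 : Fin n → ZMod 2) = lo i + hi i + Pi.single i 1 := by
        funext j
        rcases lt_trichotomy j i with h | rfl | h
        · simp [lo, hi, h, h.not_gt, h.ne]
        · simp [lo, hi]
        · simp [lo, hi, h, h.not_gt, h.ne']
      rw [hdec, add_dotProduct, add_dotProduct, single_dotProduct, hTi, one_mul] at he
      generalize lo i ⬝ᵥ T + hi i ⬝ᵥ T = s at he ⊢
      revert s; decide
    rw [h2] at h1
    rcases zcases (lo i ⬝ᵥ T) with ha | ha <;> rcases zcases (hi i ⬝ᵥ T) with hb | hb <;>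
      rw [ha, hb] at hsum h1 <;> first
        | exact absurd hsum (by decide)
        | (simp only [sg_zero, sg_one] at h1; linarith)
  have hscal : ∀ S T : Fin n → ZMod 2, M T S = if T = S then M 0 0 else 0 := by
    intro S
    rw [← Finset.univ_sum_single S]
    induction (Finset.univ : Finset (Fin n)) using Finset.induction with
    | empty =>
      intro T
      rw [Finset.sum_empty]
      split_ifs with h
      · rw [h]
      · exact hdiag0 T h
    | @insert i s his ih =>
      intro T
      rw [Finset.sum_insert his]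
      generalize (∑ j ∈ s, Pi.single j (S j)) = a at ih ⊢
      rcases zcases (S i) with h | h
      · rw [h, Pi.single_zero, zero_add]; exact ih T
      rw [h]
      have h1 := congrFun (congrFun (hL i) T) a
      rw [L, hcolX, hrowX, ih] at h1
      have e : (T + Pi.single i 1 = a) ↔ (T = Pi.single i 1 + a) := ⟨fun h => by
        rw [← h, add_comm T, ← add_assoc, vec_add_self, zero_add], fun h => by
        rw [h, add_comm _ a, add_assoc, vec_add_self, add_zero]⟩
      rw [add_comm (Pi.single i 1) a]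
      by_cases hT : T = Pi.single i 1 + a
      · rw [if_pos (e.2 hT), e.2 hT] at h1
        rw [if_pos (hT.trans (add_comm _ _))]
        exact mul_right_cancel₀ (fun h0 => by have := sg_sq (lo i ⬝ᵥ a); rw [h0] at this; norm_num at this)
          (h1.trans (mul_comm _ _))
      · rw [if_neg (mt e.1 hT), mul_zero] at h1
        rw [if_neg fun h => hT (h.trans (add_comm _ _))]
        exact (mul_eq_zero.1 h1).resolve_right fun h0 => by
          have := sg_sq (lo i ⬝ᵥ a); rw [h0] at this; norm_num at this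
  have hone : M = M 0 0 • (1 : Op n) := by
    ext T S
    rw [hscal S T, Matrix.smul_apply, Matrix.one_apply]
    split_ifs <;> simp
  have hsq : M 0 0 * M 0 0 = 1 := by
    have h : Mᵀ * M = 1 := x.2.1
    rw [hone, Matrix.transpose_smul, Matrix.transpose_one, smul_mul_assoc, one_mul, smul_smul] at h
    have := congrFun (congrFun h 0) 0
    simpa using this
  rcases mul_self_eq_one_iff.1 hsq with h | h <;> rw [h] at hone
  · rw [show x = 1 from Subtype.ext (Units.ext (by rw [← hM, hone, one_smul]; rfl))]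
    exact one_mem _
  · rw [show x = z n from Subtype.ext (Units.ext (by rw [← hM, hone, neg_one_smul]; rfl))]
    exact Subgroup.mem_zpowers _

instance : Finite (G n) := by
  haveI : Finite (proj n).ker := by
    rw [ker_proj]
    exact Nat.finite_of_card_ne_zero (by rw [Nat.card_zpowers, orderOf_z]; norm_num)
  haveI : Finite (G n ⧸ (proj n).ker) := Finite.of_equiv _ (QuotientGroup.quotientKerEquivRange (proj n)).toEquiv.symm
  exact Finite.of_equiv _ (Subgroup.groupEquivQuotientProdSubgroup (s := (proj n).ker)).symm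

theorem z_mem_commutator {a b c e : Fin n} (hab : a ≠ b) (hac : a ≠ c) (hae : a ≠ e) (hbc : b ≠ c) (hbe : b ≠ e) (hce : c ≠ e) :
    z n ∈ commutator (G n) := by
  have hd : ∀ i j : Fin n, i ≠ j → w a b c e * d i j = d ((Equiv.swap a b * Equiv.swap c e) i) ((Equiv.swap a b * Equiv.swap c e) j) * w a b c e :=
    fun i j _ => by rw [d, d, mul_sub, sub_mul, w_L hab hce, w_L hab hce]
  have hanti : d b e * d a c = -(d a c * d b e) := by
    rw [d, d, sub_mul, mul_sub, mul_sub, sub_mul, mul_sub, mul_sub, L_anti hab.symm, L_anti hbc, L_anti hae.symm, L_anti hce.symm]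
    abel
  have hAB : w a b c e * w a c b e = -(w a c b e * w a b c e) := by
    have e1 : w a b c e * d a c = d b e * w a b c e := by
      rw [hd a c hac]; simp [Equiv.swap_apply_of_ne_of_ne, hac, hae, hab.symm, hbc.symm, hbe.symm, hae.symm, hac.symm]
    have e2 : w a b c e * d b e = d a c * w a b c e := by
      rw [hd b e hbe]; simp [Equiv.swap_apply_of_ne_of_ne, hbc, hbe, hac.symm, hae.symm, hbc.symm, hbe.symm]
    show w a b c e * ((1 / 2 : ℚ) • (d a c * d b e)) = -(((1 / 2 : ℚ) • (d a c * d b e)) * w a b c e)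
    rw [mul_smul_comm, smul_mul_assoc, ← mul_assoc, e1, mul_assoc, e2, ← mul_assoc, hanti, neg_mul, smul_neg]
  have h := Subgroup.commutator_mem_commutator (Subgroup.mem_top (W hab hce)) (Subgroup.mem_top (W hac hbe))
  rw [← commutator_def] at h
  convert h using 1
  rw [commutatorElement_def, eq_mul_inv_iff_mul_eq, eq_mul_inv_iff_mul_eq]
  refine Subtype.ext (Units.ext ?_)
  show (-1 : Op n) * w a c b e * w a b c e = w a b c e * w a c b e
  rw [hAB, neg_one_mul, neg_mul]

end Cfsg.Agent.Grp.SpinCover
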