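import Cfsg.Prelude.Def_LocalStructure
import Cfsg.Agent.Lib.Block.OrderPrimeCases
import Cfsg.Agent.Lib.Grp.Coprime

/-!
# The least order of a group that is not `p`-closed

A finite group with a non-normal Sylow `p`-subgroup, `p` odd, has order at least
`min (p * m) (p * (p ^ 2 - 1) / 2)`, where `m` is the least prime power congruent to 1 modulo `p`.
-/

set_option autoImplicit false

namespace Cfsg.Agent.Grp.LeastNonPClosed

open Cfsg Cfsg.Agent.Block Cfsg.Agent.Char

universe u

/-- The only divisor `≡ ±1 (mod p)` in the small range. -/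
theorem divisor_eq {p k c d q : ℕ} (hp : 3 ≤ p) (hk : 1 ≤ k) (hc : 2 ≤ c)
    (hlt : 2 * ((1 + k * p) * c) < p * p - 1) (hdq : d * q = (1 + k * p) * c) (hd : 2 ≤ d)
    (hcong : (d : ℤ) ≡ 1 [ZMOD p] ∨ (d : ℤ) ≡ -1 [ZMOD p]) : d = 1 + k * p := by
  have h1p : 1 ≤ p * p := Nat.one_le_iff_ne_zero.mpr (by positivity)
  have hltZ : 2 * ((1 + (k : ℤ) * p) * c) < (p : ℤ) * p - 1 := by
    have : ((2 * ((1 + k * p) * c) : ℕ) : ℤ) < ((p * p - 1 : ℕ) : ℤ) := by exact_mod_cast hlt
    rw [Nat.cast_sub h1p] at this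
    push_cast at this
    linarith
  have hdqZ : (d : ℤ) * q = (1 + (k : ℤ) * p) * c := by exact_mod_cast hdq
  have hpZ : (3 : ℤ) ≤ p := by exact_mod_cast hp
  have hkZ : (1 : ℤ) ≤ k := by exact_mod_cast hk
  have hcZ : (2 : ℤ) ≤ c := by exact_mod_cast hc
  have hdZ : (2 : ℤ) ≤ d := by exact_mod_cast hd
  have hkc : 2 * (k : ℤ) * c < p := by nlinarith
  have hqpos : (0 : ℤ) < q := by
    rcases Nat.eq_zero_or_pos q with rfl | h
    · simp at hdqZ; rcases hdqZ with h | h <;> nlinarith
    · exact_mod_cast h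
  have hc2 : 2 * (c : ℤ) < p := by nlinarith
  rcases hcong with h | h
  · obtain ⟨m, hm⟩ := (Int.modEq_iff_dvd.mp h.symm : (p : ℤ) ∣ (d : ℤ) - 1)
    have hd' : (d : ℤ) = p * m + 1 := by linarith
    have hm1 : 1 ≤ m := by nlinarith
    obtain ⟨j, hj⟩ : (p : ℤ) ∣ (q : ℤ) - c := ⟨k * c - m * q, by
      have h := hdqZ
      rw [hd'] at h
      linear_combination h⟩
    have hj0 : 0 ≤ j := by nlinarith
    rcases hj0.eq_or_lt with h0 | h0
    · have hqc : q = c := by
        have : (q : ℤ) = c := by rw [← h0, mul_zero] at hj; linarith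
        exact_mod_cast this
      rw [hqc] at hdq
      exact Nat.eq_of_mul_eq_mul_right (by omega) hdq
    · exfalso
      have hq' : (p : ℤ) + 2 ≤ q := by nlinarith
      nlinarith
  · exfalso
    obtain ⟨m, hm⟩ := (Int.modEq_iff_dvd.mp h.symm : (p : ℤ) ∣ (d : ℤ) - (-1))
    have hd' : (d : ℤ) = p * m - 1 := by linarith
    have hm1 : 1 ≤ m := by nlinarith
    obtain ⟨j, hj⟩ : (p : ℤ) ∣ (q : ℤ) + c := ⟨m * q - k * c, by
      have h := hdqZ
      rw [hd'] at h
      linear_combination -h⟩
    have hj1 : 1 ≤ j := by nlinarith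
    have hq : (q : ℤ) = p * j - c := by linarith
    have hexp : m * j * p = c * (k + m) + j := by
      have h := hdqZ
      rw [hd', hq] at h
      have : (m * j * p - (c * (k + m) + j)) * p = 0 := by linear_combination h
      rcases mul_eq_zero.mp this with h | h <;> linarith
    have hmain : (m * (2 * j - 1) - 1) * (p : ℤ) < 2 * j := by nlinarith
    have hj' : j = 1 := by
      by_contra hne
      have hj2 : 2 ≤ j := by omega
      have : (2 * j - 2) * (p : ℤ) ≤ (m * (2 * j - 1) - 1) * p := by
        have : 2 * j - 2 ≤ m * (2 * j - 1) - 1 := by nlinarith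
        exact mul_le_mul_of_nonneg_right this (by linarith)
      have h3 : (2 * j - 2) * 3 ≤ (2 * j - 2) * (p : ℤ) := mul_le_mul_of_nonneg_left hpZ (by linarith)
      linarith
    subst hj'
    have hm' : m = 1 := by
      by_contra hne
      have hm2 : 2 ≤ m := by omega
      have h1 : (1 : ℤ) * p ≤ (m - 1) * p := mul_le_mul_of_nonneg_right (by linarith) (by linarith)
      ring_nf at hmain h1
      linarith
    subst hm'
    have e1 : (p : ℤ) - 1 = c * (k + 1) := by linarith
    have e2 : (p : ℤ) * p - 1 = c * (k + 1) * (p + 1) := by rw [← e1]; ring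
    have t1 : 0 ≤ ((k : ℤ) - 1) * (p - 1) * c :=
      mul_nonneg (mul_nonneg (by linarith) (by linarith)) (by linarith)
    ring_nf at hltZ e2 t1
    linarith

/-- The simple case. -/
theorem simple_case {G : Type u} [Group G] [Finite G] [IsSimpleGroup G] {p : ℕ} [Fact p.Prime]
    (hna : ¬ IsMulCommutative G) (hp : p ≠ 2) {m : ℕ} (hcard : Nat.card G = p * m) (hpm : ¬ p ∣ m)
    (hsmall : 2 * Nat.card G < p * (p * p - 1)) : False := by
  classical
  have hpp : p.Prime := Fact.out
  have hp3 : 3 ≤ p := by have := hpp.two_le; omega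
  obtain ⟨P⟩ : Nonempty (Sylow p G) := inferInstance
  obtain ⟨e, k, hk, -, he, he1, hep, ⟨c, hC⟩, hprod⟩ := OrdP.exists_e hna hcard hpm P
  have hm : m = c * e * (p * k + 1) := by
    apply Nat.eq_of_mul_eq_mul_left hpp.pos
    rw [← hprod, hC]; ring
  have hc0 : 1 ≤ c := by
    rcases Nat.eq_zero_or_pos c with rfl | h
    · have := Nat.card_pos (α := Subgroup.centralizer ((P : Subgroup G) : Set G))
      rw [hC] at this
      simp at this
    · exact h
  have hG : Nat.card G = p * ((1 + k * p) * (c * e)) := by rw [hcard, hm]; ring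
  have hlt : 2 * ((1 + k * p) * (c * e)) < p * p - 1 := by
    rw [hG, show 2 * (p * ((1 + k * p) * (c * e))) = p * (2 * ((1 + k * p) * (c * e))) by ring] at hsmall
    exact Nat.lt_of_mul_lt_mul_left hsmall
  have hce : 2 ≤ c * e := le_trans he1 (Nat.le_mul_of_pos_left e hc0)
  have hkce : 2 * k * (c * e) < p := by
    by_contra hge
    have := Nat.mul_le_mul_left p (not_lt.mp hge)
    have h2 : p * p - 1 < p * p := Nat.sub_lt (by positivity) one_pos
    nlinarith
  have hne : e ≠ p - 1 := by
    intro h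
    have : 2 * 1 * (1 * e) ≤ 2 * k * (c * e) := by gcongr <;> omega
    omega
  obtain ⟨M, hM⟩ := exists_isPModular p hpp
  obtain ⟨X, y, s, ε, hX, hXd, -, hε, -, hrel, hcol⟩ :=
    OrdP.data hna hM hp P (OrdP.card_sylow_eq hcard hpm P) he he1 hep hne
  obtain ⟨hsum, -⟩ := OrdP.degree_data hrel hcol
  set n := 1 + k * p with hn
  have hdeg : ∀ χ ∈ X, charDegree (χ : G → ℂ) = n ∧ s χ = 1 := by
    intro χ hχ
    obtain ⟨hne1, hs, hd, -⟩ := hXd χ hχ
    have h2 := OrdP.two_le_deg hna hne1
    have hdp : ¬ p ∣ charDegree (χ : G → ℂ) := by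
      intro hdvd
      have h0 := (Int.modEq_zero_iff_dvd.2 (Int.natCast_dvd_natCast.2 hdvd)).symm.trans hd
      rcases hs with e | e <;> rw [e] at h0 <;>
        · have h7 : (p : ℤ) ∣ 1 := by simpa using Int.modEq_iff_dvd.mp h0
          have := Int.le_of_dvd one_pos h7
          omega
    have hdvd : charDegree (χ : G → ℂ) ∣ n * (c * e) :=
      ((Nat.Prime.coprime_iff_not_dvd hpp).2 hdp).symm.dvd_of_dvd_mul_left (hG ▸ charDeg_dvd χ)
    obtain ⟨q, hq⟩ := hdvd
    have hdn : charDegree (χ : G → ℂ) = n := by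
      refine divisor_eq hp3 hk hce hlt hq.symm h2 ?_
      rcases hs with e | e
      · exact .inl (e ▸ hd)
      · exact .inr (e ▸ hd)
    refine ⟨hdn, hs.resolve_right fun hneg => ?_⟩
    rw [hneg, hdn, hn] at hd
    have h3 : (p : ℤ) ∣ -1 - ((1 + k * p : ℕ) : ℤ) := Int.modEq_iff_dvd.mp hd
    have h4 : (p : ℤ) ∣ 2 := by
      have h5 : (p : ℤ) ∣ (k : ℤ) * p := dvd_mul_left _ _
      have h6 := dvd_add h3 h5
      push_cast at h6
      rw [show (-1 - (1 + (k : ℤ) * p) + k * p) = -2 by ring, dvd_neg] at h6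
      exact h6
    have := Int.le_of_dvd (by norm_num) h4
    omega
  have hval : ∑ χ ∈ X, s χ * (charDegree (χ : G → ℂ) : ℤ) = (X.card : ℤ) * n := by
    rw [Finset.sum_congr rfl fun χ hχ => by rw [(hdeg χ hχ).2, (hdeg χ hχ).1, one_mul],
      Finset.sum_const, nsmul_eq_mul]
  rw [hval] at hsum
  set dy := charDegree (y : G → ℂ) with hdy
  have hdy0 : 0 < dy := charDeg_pos y
  have hdyval : dy = 1 + X.card * n := by
    rcases hε with rfl | rfl
    · rw [one_mul] at hsum; exact_mod_cast hsum
    · have : (0 : ℤ) ≤ (X.card : ℤ) * n := by positivity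
      omega
  have hdyG : dy ∣ p * (n * (c * e)) := hG ▸ charDeg_dvd y
  have hpdy : ¬ p ∣ dy := by
    intro hdvd
    have h1 : p ∣ 1 + X.card + X.card * k * p := by
      rw [show 1 + X.card + X.card * k * p = 1 + X.card * n by rw [hn]; ring, ← hdyval]
      exact hdvd
    have h2 : p ∣ 1 + X.card := (Nat.dvd_add_left (dvd_mul_left p _)).mp h1
    have := Nat.le_of_dvd (by omega) h2
    have he' := Nat.le_of_dvd (by omega) hep
    omega
  have h1 : dy ∣ n * (c * e) :=
    ((Nat.Prime.coprime_iff_not_dvd hpp).2 hpdy).symm.dvd_of_dvd_mul_left hdyG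
  have h2 : dy.Coprime n := by
    rw [hdyval, Nat.coprime_add_mul_right_left]
    exact Nat.coprime_one_left n
  have h3 := Nat.le_of_dvd (by omega) (h2.dvd_of_dvd_mul_left h1)
  have h4 : n ≤ X.card * n := Nat.le_mul_of_pos_left n (by omega)
  have h5 : c * e ≤ k * (c * e) := Nat.le_mul_of_pos_left _ hk
  have h6 : p ≤ k * p := Nat.le_mul_of_pos_left _ hk
  rw [mul_assoc 2] at hkce
  omega

/-- A prime power above one that is 1 modulo `p`, from a `p`-group moving a `q`-group. -/
theorem exists_congr {G : Type u} [Group G] [Finite G] {p q : ℕ} [Fact p.Prime] [hq : Fact q.Prime]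
    (hpq : p ≠ q) (P : Subgroup G) (hP : IsPGroup p P) (Q : Subgroup G) (hQ : IsPGroup q Q)
    (hPQ : P ≤ Subgroup.normalizer (Q : Set G)) (hnc : ¬ Q ≤ Subgroup.centralizer (P : Set G)) :
    ∃ a : ℕ, 1 ≤ a ∧ q ^ a % p = 1 ∧ q ^ a ∣ Nat.card Q := by
  classical
  have hpp : p.Prime := Fact.out
  let _ : MulAction P Q :=
    { smul := fun x y => ⟨(x : G) * y * (x : G)⁻¹, (Subgroup.mem_normalizer_iff.mp (hPQ x.2) y).mp y.2⟩
      one_smul := fun y => Subtype.ext (by show (1 : G) * y * (1 : G)⁻¹ = y; group)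
      mul_smul := fun x z y => Subtype.ext (by
        show ((x : G) * z) * y * ((x : G) * z)⁻¹ = (x : G) * ((z : G) * y * (z : G)⁻¹) * (x : G)⁻¹
        group) }
  have hmod := hP.card_modEq_card_fixedPoints Q
  set F := (Subgroup.centralizer (P : Set G)).subgroupOf Q with hF
  have hfix : Nat.card (MulAction.fixedPoints P Q) = Nat.card F := by
    refine Nat.card_congr (Equiv.subtypeEquivRight fun y => ?_)
    constructor
    · intro hy
      rw [hF, Subgroup.mem_subgroupOf, Subgroup.mem_centralizer_iff]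
      intro x hx
      exact mul_inv_eq_iff_eq_mul.mp (congrArg Subtype.val (hy ⟨x, hx⟩))
    · intro hy x
      exact Subtype.ext (mul_inv_eq_iff_eq_mul.mpr
        (Subgroup.mem_centralizer_iff.mp (Subgroup.mem_subgroupOf.mp hy) x x.2))
  rw [hfix] at hmod
  obtain ⟨n, hn⟩ := hQ.exists_card_eq
  obtain ⟨b, hbn, hb⟩ := (Nat.dvd_prime_pow hq.out).mp (hn ▸ Subgroup.card_subgroup_dvd_card F)
  rcases hbn.lt_or_eq with hlt | rfl
  · refine ⟨n - b, by omega, ?_, hn ▸ Nat.pow_dvd_pow q (by omega)⟩
    have hcop : Nat.Coprime p (q ^ b) := ((Nat.coprime_primes hpp hq.out).mpr hpq).pow_right b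
    have h1 : q ^ b * q ^ (n - b) ≡ q ^ b * 1 [MOD p] := by
      rw [mul_one, ← pow_add, show b + (n - b) = n by omega, ← hn, ← hb]
      exact hmod
    have h2 := Nat.ModEq.cancel_left_of_coprime hcop h1
    rw [Nat.ModEq, Nat.one_mod_eq_one.mpr hpp.ne_one] at h2
    exact h2
  · refine absurd ?_ hnc
    have : F = ⊤ := Subgroup.eq_top_of_card_eq _ (by rw [hb, hn])
    intro y hy
    exact Subgroup.mem_subgroupOf.mp (this ▸ Subgroup.mem_top (⟨y, hy⟩ : Q))

/-- The lower bound. -/
theorem lower {p : ℕ} [Fact p.Prime] (hp : p ≠ 2) {m : ℕ}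
    (hleast : ∀ k : ℕ, IsPrimePow k → k % p = 1 → m ≤ k) :
    ∀ (n : ℕ) (H : Type u) [Group H] [Finite H], Nat.card H = n → ¬ Cfsg.IsPClosed p H →
      min (p * m) (p * (p ^ 2 - 1) / 2) ≤ n := by
  intro n
  induction n using Nat.strong_induction_on with
  | _ n ih =>
  intro H _ _ hn hnc
  classical
  have hpp : p.Prime := Fact.out
  by_contra hlow
  rw [not_le] at hlow
  have hclosed : ∀ (K : Type u) [Group K] [Finite K], Nat.card K < n → Cfsg.IsPClosed p K := by
    intro K _ _ hK
    by_contra h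
    have := ih _ hK K rfl h
    omega
  unfold Cfsg.IsPClosed at hnc
  push Not at hnc
  obtain ⟨P, hP⟩ := hnc
  have hP1 : (P : Subgroup H) ≠ ⊥ := fun h => hP (h ▸ inferInstance)
  obtain ⟨a, ha⟩ := P.isPGroup'.exists_card_eq
  have ha1 : 1 ≤ a := by
    rcases Nat.eq_zero_or_pos a with rfl | h
    · exact absurd (Subgroup.card_eq_one.mp (by simpa using ha)) hP1
    · exact h
  have hsim : ∀ N : Subgroup H, N.Normal → N = ⊥ ∨ N = ⊤ := by
    intro N hN
    by_contra hno
    push Not at hno
    obtain ⟨hN1, hN2⟩ := hno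
    have hNlt : Nat.card N < n := by
      rw [← hn]
      exact lt_of_le_of_ne (Subgroup.card_le_card_group N) fun h => hN2 (Subgroup.eq_top_of_card_eq N h)
    have hQlt : Nat.card (H ⧸ N) < n := by
      rw [← Subgroup.index_eq_card, ← hn, ← N.card_mul_index]
      exact lt_mul_left (Nat.pos_of_ne_zero Subgroup.index_ne_zero_of_finite)
        (Finite.one_lt_card_iff_nontrivial.mpr ((Subgroup.nontrivial_iff_ne_bot N).mpr hN1))
    haveI := hN
    -- the Sylow subgroup of `N` is trivial
    obtain ⟨R, hRP⟩ : ∃ R : Sylow p N, (R : Subgroup N).map N.subtype ≤ (P : Subgroup H) := by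
      obtain ⟨R⟩ : Nonempty (Sylow p N) := inferInstance
      obtain ⟨P', hP'⟩ := (R.isPGroup'.map N.subtype).exists_le_sylow
      obtain ⟨g, hg⟩ := MulAction.exists_smul_eq H P' P
      have hRn : (R : Subgroup N).Normal := hclosed N hNlt R
      have hR2 : ((R : Subgroup N).map N.subtype).Normal := by
        rw [← Subgroup.normalizer_eq_top_iff, eq_top_iff, ← Sylow.normalizer_sup_eq_top R]
        refine sup_le le_rfl ?_
        have h := Subgroup.le_normalizer_map (H := (R : Subgroup N)) N.subtype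
        rwa [Subgroup.normalizer_eq_top_iff.mpr hRn, ← MonoidHom.range_eq_map, Subgroup.range_subtype] at h
      refine ⟨R, fun x hx => ?_⟩
      rw [← hg, Sylow.coe_subgroup_smul, Subgroup.mem_pointwise_smul_iff_inv_smul_mem]
      refine hP' ?_
      have := hR2.conj_mem x hx g⁻¹
      simpa [MulAut.smul_def] using this
    set R' := (R : Subgroup N).map N.subtype with hR'
    have hR'n : R'.Normal := by
      rw [← Subgroup.normalizer_eq_top_iff, eq_top_iff, hR', ← Sylow.normalizer_sup_eq_top R]
      refine sup_le le_rfl ?_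
      have h := Subgroup.le_normalizer_map (H := (R : Subgroup N)) N.subtype
      rwa [Subgroup.normalizer_eq_top_iff.mpr (hclosed N hNlt R), ← MonoidHom.range_eq_map,
        Subgroup.range_subtype] at h
    have hR1 : R' = ⊥ := by
      by_contra hR0
      haveI := hR'n
      refine hP ?_
      have hlt : Nat.card (H ⧸ R') < n := by
        rw [← Subgroup.index_eq_card, ← hn, ← R'.card_mul_index]
        exact lt_mul_left (Nat.pos_of_ne_zero Subgroup.index_ne_zero_of_finite)
          (Finite.one_lt_card_iff_nontrivial.mpr ((Subgroup.nontrivial_iff_ne_bot R').mpr hR0))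
      have h1 : ((P : Subgroup H).map (QuotientGroup.mk' R')).Normal := by
        have := hclosed _ hlt (P.mapSurjective (QuotientGroup.mk'_surjective R'))
        simpa using this
      have h2 := h1.comap (QuotientGroup.mk' R')
      rwa [Subgroup.comap_map_eq, QuotientGroup.ker_mk', sup_eq_left.mpr hRP] at h2
    have hNp : ¬ p ∣ Nat.card N := by
      intro h
      have h1 := R.pow_dvd_card_of_pow_dvd_card (n := 1) (by simpa using h)
      rw [← Subgroup.card_map_of_injective (f := N.subtype) N.subtype_injective, ← hR', hR1,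
        Subgroup.card_bot, pow_one] at h1
      exact hpp.ne_one (Nat.dvd_one.mp h1)
    have hPN : ((P : Subgroup H) ⊔ N).Normal := by
      have h1 : ((P : Subgroup H).map (QuotientGroup.mk' N)).Normal := by
        have := hclosed _ hQlt (P.mapSurjective (QuotientGroup.mk'_surjective N))
        simpa using this
      have h2 := h1.comap (QuotientGroup.mk' N)
      rwa [Subgroup.comap_map_eq, QuotientGroup.ker_mk'] at h2
    have hPNtop : (P : Subgroup H) ⊔ N = ⊤ := by
      by_contra htop
      refine hP ?_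
      haveI := hPN
      set K := (P : Subgroup H) ⊔ N with hK
      have hKlt : Nat.card K < n := by
        rw [← hn]
        exact lt_of_le_of_ne (Subgroup.card_le_card_group K) fun h => htop (Subgroup.eq_top_of_card_eq K h)
      have hsub := hclosed K hKlt (P.subtype le_sup_left)
      have hmap : ((P.subtype (N := K) le_sup_left : Sylow p K) : Subgroup K).map K.subtype = (P : Subgroup H) := by
        rw [Sylow.coe_subtype, Subgroup.subgroupOf_map_subtype, inf_eq_left]
        exact le_sup_left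
      rw [← Subgroup.normalizer_eq_top_iff, eq_top_iff,
        ← Sylow.normalizer_sup_eq_top (P.subtype (N := K) le_sup_left), hmap]
      refine sup_le le_rfl ?_
      have h := Subgroup.le_normalizer_map
        (H := ((P.subtype (N := K) le_sup_left : Sylow p K) : Subgroup K)) K.subtype
      rwa [Subgroup.normalizer_eq_top_iff.mpr hsub, ← MonoidHom.range_eq_map, Subgroup.range_subtype,
        hmap] at h
    have hcop : (Nat.card P).Coprime (Nat.card N) := by
      rw [ha]; exact Nat.Coprime.pow_left a ((Nat.Prime.coprime_iff_not_dvd hpp).mpr hNp)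
    have hPN' : (P : Subgroup H) ≤ Subgroup.normalizer (N : Set H) := by
      rw [Subgroup.normalizer_eq_top]; exact le_top
    obtain ⟨q, hq, hqN, hmov⟩ : ∃ (q : ℕ) (_ : Fact q.Prime), q ∣ Nat.card N ∧ ∃ Q : Subgroup H,
        Grp.IsSylowIn q Q N ∧ (P : Subgroup H) ≤ Subgroup.normalizer (Q : Set H) ∧
        ¬ Q ≤ Subgroup.centralizer ((P : Subgroup H) : Set H) := by
      by_contra hall
      push Not at hall
      refine hP ?_
      have hNC : N ≤ Subgroup.centralizer ((P : Subgroup H) : Set H) := by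
        set F := N ⊓ Subgroup.centralizer ((P : Subgroup H) : Set H) with hF
        have hd : Nat.card N ∣ Nat.card F := by
          rw [← Nat.factorization_le_iff_dvd Nat.card_pos.ne' Nat.card_pos.ne']
          intro q
          by_cases hqp : q.Prime
          swap
          · simp [Nat.factorization_eq_zero_of_not_prime _ hqp]
          by_cases hqd : q ∣ Nat.card N
          swap
          · simp [Nat.factorization_eq_zero_of_not_dvd hqd]
          haveI := Fact.mk hqp
          haveI : Group.IsNilpotent P := P.isPGroup'.isNilpotent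
          obtain ⟨Q, hQ, hQP⟩ := Grp.exists_invariant_sylow (P : Subgroup H) N hPN' hcop
            (.inl inferInstance) q
          have hle : Q ≤ F := le_inf hQ.1 (hall q ⟨hqp⟩ hqd Q hQ hQP)
          have := Subgroup.card_dvd_of_le hle
          rw [hQ.card] at this
          exact (hqp.pow_dvd_iff_le_factorization Nat.card_pos.ne').mp this
        exact (Subgroup.eq_of_le_of_card_ge inf_le_left (Nat.le_of_dvd Nat.card_pos hd)) ▸ inf_le_right
      rw [← Subgroup.normalizer_eq_top_iff, eq_top_iff, ← hPNtop]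
      exact sup_le Subgroup.le_normalizer (hNC.trans (Subgroup.centralizer_le_normalizer _))
    obtain ⟨Q, hQ, hPQ, hnQ⟩ := hmov
    have hpq : p ≠ q := fun h => hNp (h ▸ hqN)
    obtain ⟨b, hb1, hbmod, hbdvd⟩ := exists_congr hpq (P : Subgroup H) P.isPGroup' Q hQ.2.1 hPQ hnQ
    have hm := hleast (q ^ b) ⟨q, b, hq.out.prime, hb1, rfl⟩ hbmod
    have hdvd : Nat.card P * q ^ b ∣ n := by
      rw [← hn]
      refine Nat.Coprime.mul_dvd_of_dvd_of_dvd ?_ (Subgroup.card_subgroup_dvd_card _)
        (hbdvd.trans (Subgroup.card_subgroup_dvd_card Q))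
      rw [ha]
      exact Nat.Coprime.pow _ _ ((Nat.coprime_primes hpp hq.out).mpr hpq)
    have hge : p * m ≤ Nat.card P * q ^ b := by
      rw [ha]
      exact Nat.mul_le_mul (Nat.le_self_pow (by omega) p) hm
    have := Nat.le_of_dvd (hn ▸ Nat.card_pos) hdvd
    omega
  -- the simple case
  have hnab : ¬ IsMulCommutative H := fun h => hP ⟨fun x hx g => by
    rw [h.is_comm.comm g x, mul_inv_cancel_right]; exact hx⟩
  haveI : Nontrivial H := Subgroup.nontrivial_iff.mp (nontrivial_of_ne _ _ hP1)
  haveI : IsSimpleGroup H := ⟨fun N hN => hsim N hN⟩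
  have h2n : 2 * n < p * (p * p - 1) := by
    have h1 : n < p * (p ^ 2 - 1) / 2 := lt_of_lt_of_le hlow (min_le_right _ _)
    rw [sq] at h1
    omega
  have hnp : p + 1 ≤ Nat.card (Sylow p H) := by
    have h1 : Nat.card (Sylow p H) ≡ 1 [MOD p] := card_sylow_modEq_one p H
    have h2 : Nat.card (Sylow p H) ≠ 1 := by
      intro h
      have : Subsingleton (Sylow p H) := (Nat.card_eq_one_iff_unique.mp h).1
      exact hP (P.normal_of_subsingleton)
    have h3 : 0 < Nat.card (Sylow p H) := Nat.card_pos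
    obtain ⟨j, hj⟩ := (Nat.modEq_iff_dvd' h3).mp h1.symm
    rcases Nat.eq_zero_or_pos j with rfl | hj0
    · omega
    · have := Nat.le_mul_of_pos_right p hj0
      omega
  have hPle : Nat.card P * (p + 1) ≤ n := by
    have h1 := (Subgroup.normalizer ((P : Subgroup H) : Set H)).index_mul_card
    rw [show (Subgroup.normalizer ((P : Subgroup H) : Set H)).index = Nat.card (Sylow p H) from
      P.card_eq_index_normalizer.symm] at h1
    have h2 := Nat.le_of_dvd Nat.card_pos (Subgroup.card_dvd_of_le
      (Subgroup.le_normalizer (H := (P : Subgroup H))))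
    rw [← hn, ← h1, mul_comm]
    exact Nat.mul_le_mul hnp h2
  have ha' : a = 1 := by
    by_contra hne
    have h1 : p * p ≤ Nat.card P := by
      rw [ha, ← sq]
      exact Nat.pow_le_pow_right hpp.pos (by omega)
    have h2 := Nat.mul_le_mul_right (p + 1) h1
    have h3 : p * (p * p - 1) < p * (p * p) := by
      apply Nat.mul_lt_mul_of_pos_left (Nat.sub_lt (Nat.mul_pos hpp.pos hpp.pos) one_pos) hpp.pos
    have h4 : p * (p * p) ≤ p * p * (p + 1) := by
      rw [← mul_assoc]; exact Nat.mul_le_mul_left _ (Nat.le_succ p)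
    omega
  refine simple_case hnab hp (m := (P : Subgroup H).index) ?_ P.not_dvd_index ?_
  · rw [← (P : Subgroup H).card_mul_index, show Nat.card (P : Subgroup H) = p by rw [ha, ha', pow_one]]
  · rw [hn]; exact h2n

end Cfsg.Agent.Grp.LeastNonPClosed
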