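import Mathlib
import Cfsg.Prelude.Def_Transfer
import Cfsg.Agent.Lib.Grp.Cores
import Cfsg.Agent.Lib.Grp.Solvable
import Cfsg.Agent.Lib.Grp.CoprimeAbelian
import Cfsg.Agent.Lib.Grp.AmbivalentSolvable
import Cfsg.Agent.S0144

/-!
Finite groups all of whose element orders are at most four.
-/

set_option autoImplicit false

namespace Cfsg.Agent.Grp.SpectrumFour

open Subgroup
open scoped commutatorElement

universe u

variable {G : Type u} [Group G]

theorem levi_ring {R : Type*} [Ring R] {Y Z : R} (hY : Y * Y = 0) (hZ : Z * Z = 0)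
    (h : (Y + Z + Y * Z) * (Y + Z + Y * Z) = 0) :
    Y * Z + Z * Y = 0 ∧ (1 + Y) * (1 + Z) * (1 - Y) * (1 - Z) = 1 + (Y * Z + Y * Z) := by
  have e1 : Y * Z + Z * Y + Y * Z * Y + Z * Y * Z + Y * Z * Y * Z = 0 := by
    have : (Y + Z + Y * Z) * (Y + Z + Y * Z) =
        Y * Y + Z * Z + Y * Y * Z + Y * (Z * Z) +
          (Y * Z + Z * Y + Y * Z * Y + Z * Y * Z + Y * Z * Y * Z) := by noncomm_ring
    rw [this, hY, hZ, zero_mul, mul_zero, zero_add, zero_add, zero_add, zero_add] at h
    exact h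
  have e2 : Y * Z * Y + Y * Z * Y * Z = 0 := by
    have : Y * (Y * Z + Z * Y + Y * Z * Y + Z * Y * Z + Y * Z * Y * Z) =
        Y * Y * Z + Y * Y * (Z * Y) + Y * Y * (Z * Y * Z) + (Y * Z * Y + Y * Z * Y * Z) := by noncomm_ring
    rw [e1, hY, mul_zero, zero_mul, zero_mul, zero_mul, zero_add, zero_add, zero_add] at this
    exact this.symm
  have e3 : Y * Z * Y * Z = 0 := by
    have : (Y * Z * Y + Y * Z * Y * Z) * Z = Y * Z * Y * Z + Y * Z * Y * (Z * Z) := by noncomm_ring
    rw [e2, hZ, zero_mul, mul_zero, add_zero] at this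
    exact this.symm
  have e4 : Y * Z * Y = 0 := by rwa [e3, add_zero] at e2
  have e5 : Z * Y * Z = 0 := by
    have : (Y * Z + Z * Y + Y * Z * Y + Z * Y * Z + Y * Z * Y * Z) * Z =
        Y * (Z * Z) + Z * Y * Z + Y * Z * Y * Z + Z * Y * (Z * Z) + Y * Z * Y * (Z * Z) := by noncomm_ring
    rw [e1, hZ, e3, zero_mul, mul_zero, mul_zero, mul_zero, add_zero, add_zero, add_zero, zero_add] at this
    exact this.symm
  have hanti : Y * Z + Z * Y = 0 := by rwa [e3, e4, e5, add_zero, add_zero, add_zero] at e1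
  refine ⟨hanti, ?_⟩
  have : (1 + Y) * (1 + Z) * (1 - Y) * (1 - Z) = 1 + (Y * Z + Y * Z) - (Y * Z + Z * Y)
      - (Y * Y) + (Y * Y) * Z - Z * Z + Z * Y * Z - Y * Z * Y - Y * (Z * Z) + Y * Z * Y * Z := by
    noncomm_ring
  rw [this, hanti, hY, hZ, e3, e4, e5, zero_mul, mul_zero]
  abel

theorem levi_aux (x : G) [hA : IsMulCommutative ↥(Subgroup.normalClosure {x})]
    (h2 : ∀ a g : G, Commute a (g * a * g⁻¹)) (y z : G) :
    ⁅y, ⁅z, x⁆⁆ * ⁅z, ⁅y, x⁆⁆ = 1 ∧ ⁅⁅y, z⁆, x⁆ = ⁅y, ⁅z, x⁆⁆ * ⁅y, ⁅z, x⁆⁆ := by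
  classical
  let A := Subgroup.normalClosure {x}
  let _ : CommGroup A := { (inferInstance : Group A) with mul_comm := fun a b => mul_comm' a b }
  have hmem : ∀ (g : G) (a : A), ⁅g, (a : G)⁆ ∈ A := fun g a =>
    commutatorElement_def g (a : G) ▸ mul_mem (Subgroup.normalClosure_normal.conj_mem _ a.2 g) (inv_mem a.2)
  let φ : G → A → A := fun g a => ⟨⁅g, (a : G)⁆, hmem g a⟩
  have hφ : ∀ g a b, φ g (a * b) = φ g a * φ g b := fun g a b => by
    have h1 : φ g (a * b) = φ g a * (a * φ g b * a⁻¹) := Subtype.ext (by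
      show ⁅g, (a : G) * b⁆ = ⁅g, (a : G)⁆ * ((a : G) * ⁅g, (b : G)⁆ * (a : G)⁻¹)
      simp only [commutatorElement_def]; group)
    rw [h1, mul_comm a (φ g b), mul_inv_cancel_right]
  let D : G → AddMonoid.End (Additive A) := fun g =>
    AddMonoidHom.mk' (fun a => Additive.ofMul (φ g (Additive.toMul a))) fun a b => hφ g _ _
  have hmul : ∀ g h : G, D (g * h) = D g + D h + D g * D h := by
    intro g h
    refine AddMonoidHom.ext fun a => ?_
    show Additive.ofMul (φ (g * h) (Additive.toMul a)) =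
      Additive.ofMul (φ g (Additive.toMul a) * φ h (Additive.toMul a) * φ g (φ h (Additive.toMul a)))
    refine congrArg Additive.ofMul ?_
    generalize Additive.toMul a = b
    have h1 : φ (g * h) b = φ g (φ h b) * φ h b * φ g b := Subtype.ext (by
      show ⁅g * h, (b : G)⁆ = ⁅g, ⁅h, (b : G)⁆⁆ * ⁅h, (b : G)⁆ * ⁅g, (b : G)⁆
      simp only [commutatorElement_def]; group)
    rw [h1]; ac_rfl
  have hone : D 1 = 0 := AddMonoidHom.ext fun a => by
    show Additive.ofMul (φ 1 (Additive.toMul a)) = Additive.ofMul 1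
    exact congrArg _ (Subtype.ext (commutatorElement_one_left _))
  have hsq : ∀ g : G, D g * D g = 0 := fun g => AddMonoidHom.ext fun a => by
    show Additive.ofMul (φ g (φ g (Additive.toMul a))) = Additive.ofMul 1
    refine congrArg _ (Subtype.ext ?_)
    generalize Additive.toMul a = b
    show ⁅g, ⁅g, (b : G)⁆⁆ = 1
    rw [commutatorElement_eq_one_iff_mul_comm]
    have h1 : Commute g ((b : G) * g⁻¹ * (b : G)⁻¹) := by
      have := (h2 g (b : G)).inv_right
      rwa [show ((b : G) * g * (b : G)⁻¹)⁻¹ = (b : G) * g⁻¹ * (b : G)⁻¹ by group] at this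
    rw [commutatorElement_def, show g * (b : G) * g⁻¹ * (b : G)⁻¹ = g * ((b : G) * g⁻¹ * (b : G)⁻¹) by group]
    exact ((Commute.refl g).mul_right h1).eq
  have hc : ∀ g h : G, 1 + D (g * h) = (1 + D g) * (1 + D h) := fun g h => by
    rw [hmul]; noncomm_ring
  have hinv : ∀ g : G, 1 + D g⁻¹ = 1 - D g := fun g => by
    have h1 : (1 + D g⁻¹) * (1 + D g) = 1 := by rw [← hc, inv_mul_cancel, hone, add_zero]
    have h4 : (1 + D g) * (1 - D g) = 1 := by
      rw [mul_sub, mul_one, add_mul, one_mul, hsq, add_zero, add_sub_cancel_right]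
    exact left_inv_eq_right_inv h1 h4
  obtain ⟨hanti, hprod⟩ := levi_ring (hsq y) (hsq z) (by rw [← hmul]; exact hsq _)
  have hcom : D ⁅y, z⁆ = D y * D z + D y * D z := by
    refine add_left_cancel (a := (1 : AddMonoid.End (Additive A))) ?_
    rw [commutatorElement_def, hc, hc, hc, hinv, hinv, hprod]
  let ax : A := ⟨x, Subgroup.subset_normalClosure rfl⟩
  let val : AddMonoid.End (Additive A) → G := fun f => ((Additive.toMul (f (Additive.ofMul ax)) : A) : G)
  have e1 : val (D y * D z + D z * D y) = val 0 := congrArg val hanti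
  have e2 : val (D ⁅y, z⁆) = val (D y * D z + D y * D z) := congrArg val hcom
  exact ⟨e1, e2⟩

/-- A 2-Engel group without elements of order three has class at most two (Levi). -/
theorem levi (h2 : ∀ x g : G, Commute x (g * x * g⁻¹)) (h3 : ∀ x : G, x ^ 3 = 1 → x = 1) :
    ⁅commutator G, (⊤ : Subgroup G)⁆ = ⊥ := by
  have hN : ∀ x : G, IsMulCommutative ↥(Subgroup.normalClosure {x}) := by
    intro x
    refine isMulCommutative_closure ?_
    intro a ha b hb
    simp only [Group.conjugatesOfSet, Set.mem_iUnion, Set.mem_singleton_iff, exists_prop, exists_eq_left,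
      conjugatesOf, Set.mem_ofPred_eq, isConj_iff] at ha hb
    obtain ⟨g, rfl⟩ := ha
    obtain ⟨h, rfl⟩ := hb
    have := (h2 x (g⁻¹ * h)).map (MulAut.conj g).toMonoidHom
    simp only [MulEquiv.toMonoidHom_eq_coe, MonoidHom.coe_coe, MulAut.conj_apply] at this
    rw [show g * (g⁻¹ * h * x * (g⁻¹ * h)⁻¹) * g⁻¹ = h * x * h⁻¹ by group] at this
    exact this.eq
  have hop : ∀ x y z : G, ⁅y, ⁅z, x⁆⁆ * ⁅z, ⁅y, x⁆⁆ = 1 ∧
      ⁅⁅y, z⁆, x⁆ = ⁅y, ⁅z, x⁆⁆ * ⁅y, ⁅z, x⁆⁆ := fun x y z => by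
    haveI := hN x
    exact levi_aux x h2 y z
  have swap12 : ∀ a b c : G, ⁅a, ⁅b, c⁆⁆ = ⁅b, ⁅a, c⁆⁆⁻¹ := fun a b c =>
    eq_inv_of_mul_eq_one_left (hop c a b).1
  have hu : ∀ a u : G, ⁅a, u⁻¹⁆ = ⁅a, u⁆⁻¹ := by
    intro a u
    have m1 : Commute u (a * u⁻¹ * a⁻¹) := by
      have := (h2 u a).inv_right
      rwa [show (a * u * a⁻¹)⁻¹ = a * u⁻¹ * a⁻¹ by group] at this
    rw [commutatorElement_def, inv_inv, ← m1.eq, commutatorElement_def]
    group
  have swap23 : ∀ a b c : G, ⁅a, ⁅b, c⁆⁆ = ⁅a, ⁅c, b⁆⁆⁻¹ := fun a b c => by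
    rw [← commutatorElement_inv c b, hu]
  have key : ∀ x y z : G, ⁅y, ⁅z, x⁆⁆ = 1 := by
    intro x y z
    refine h3 _ ?_
    have h1 : ⁅⁅y, z⁆, x⁆ = ⁅y, ⁅z, x⁆⁆⁻¹ := by
      rw [← commutatorElement_inv x ⁅y, z⁆, swap12 x y z, swap23 y x z, inv_inv]
    rw [pow_three, ← (hop x y z).2, h1, mul_inv_cancel]
  rw [commutator_def, Subgroup.commutator_eq_bot_iff_le_centralizer, Subgroup.commutator_le]
  intro a _ b _
  rw [mem_centralizer_iff]
  intro c _
  exact commutatorElement_eq_one_iff_mul_comm.mp (key b c a)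

theorem commute_sq {x a : G} (hr : x * a * x = a⁻¹) (hz : Commute ⁅x, a⁆ a) : Commute (x ^ 2) a := by
  have e : x ^ 2 = (⁅x, a⁆ * a)⁻¹ * a⁻¹ := by
    rw [← hr, commutatorElement_def, pow_two]; group
  rw [e]
  exact ((hz.mul_left (Commute.refl a)).inv_left).mul_left (Commute.refl a).inv_left

theorem sq_core {x a b d : G} (ha : x * a * x = a⁻¹) (hb : x * b * x = b⁻¹) (hd : x * d * x = d⁻¹)
    (kb : Commute (x ^ 2) b) (kd : Commute (x ^ 2) d) (h1 : a * b * d = 1) (h2 : d * b * a = 1)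
    (hy : x ^ 2 * x ^ 2 = 1) : x ^ 2 = 1 := by
  have hconjx : ∀ w : G, x * w * x = w⁻¹ → x * w * x⁻¹ = w⁻¹ * (x ^ 2)⁻¹ := fun w hw => by
    rw [← hw, pow_two]; group
  have hyi : (x ^ 2)⁻¹ = x ^ 2 := inv_eq_of_mul_eq_one_left hy
  have h : x * (a * b * d) * x⁻¹ = 1 := by rw [h1, mul_one, mul_inv_cancel]
  rw [show x * (a * b * d) * x⁻¹ = (x * a * x⁻¹) * (x * b * x⁻¹) * (x * d * x⁻¹) by group,
    hconjx _ ha, hconjx _ hb, hconjx _ hd, hyi] at h
  set y := x ^ 2 with hyd
  rw [show a⁻¹ * y * (b⁻¹ * y) * (d⁻¹ * y) = a⁻¹ * (y * b⁻¹) * (y * d⁻¹) * y by group,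
    kb.inv_right.eq, kd.inv_right.eq,
    show a⁻¹ * (b⁻¹ * y) * (d⁻¹ * y) * y = a⁻¹ * b⁻¹ * (y * d⁻¹) * (y * y) by group,
    kd.inv_right.eq, hy, mul_one, ← mul_assoc,
    show a⁻¹ * b⁻¹ * d⁻¹ = (d * b * a)⁻¹ by group, h2, inv_one, one_mul] at h
  exact h

section Finite

variable [Finite G] (ho : ∀ g : G, orderOf g ≤ 4)
include ho

theorem pow_cases (g : G) : g ^ 3 = 1 ∨ g ^ 4 = 1 := by
  have h0 : 0 < orderOf g := orderOf_pos g
  have := pow_orderOf_eq_one g
  have h4 := ho g
  interval_cases h : orderOf g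
  · right; simp at this; simp [this]
  · right; rw [show (4 : ℕ) = 2 * 2 from rfl, pow_mul, this, one_pow]
  · left; exact this
  · right; exact this

theorem ns {x y : G} (hx : x ^ 3 = 1) (hx1 : x ≠ 1) (hy : y ^ 4 = 1) (hc : Commute x y) : y = 1 := by
  haveI := Fact.mk Nat.prime_three
  have h1 : orderOf y ∣ 4 := orderOf_dvd_of_pow_eq_one hy
  have hox : orderOf x = 3 := orderOf_eq_prime hx hx1
  have := hc.orderOf_mul_eq_mul_orderOf_of_coprime (by
    rw [hox]; exact Nat.Coprime.coprime_dvd_right h1 (by norm_num))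
  have h4 := ho (x * y)
  have := orderOf_pos y
  rw [← orderOf_eq_one_iff]
  rw [hox] at *
  omega

theorem of_quotient (N : Subgroup G) [N.Normal] : ∀ g : G ⧸ N, orderOf g ≤ 4 := by
  intro q
  obtain ⟨g, rfl⟩ := QuotientGroup.mk'_surjective N q
  exact (Nat.le_of_dvd (orderOf_pos g) (orderOf_map_dvd _ g)).trans (ho g)

theorem of_subgroup (H : Subgroup G) : ∀ g : H, orderOf g ≤ 4 := fun g => by
  rw [← Subgroup.orderOf_coe]; exact ho _

theorem isSolvable : Group.IsSolvable G := by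
  have h23 : ∀ q : ℕ, q.Prime → q ∣ Nat.card G → q = 2 ∨ q = 3 := fun q hq hd => by
    haveI := Fact.mk hq
    obtain ⟨x, hx⟩ := exists_prime_orderOf_dvd_card' q hd
    have := ho x
    rw [hx] at this
    have := hq.two_le
    interval_cases q
    · exact Or.inl rfl
    · exact Or.inr rfl
    · exact absurd hq (by decide)
  refine S0144.result 2 3 ((Nat.card G).factorization 2) ((Nat.card G).factorization 3) Nat.prime_two
    Nat.prime_three ?_
  refine Nat.eq_of_factorization_eq Nat.card_pos.ne' (by positivity) fun q => ?_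
  rw [Nat.factorization_mul (by positivity) (by positivity), Nat.Prime.factorization_pow Nat.prime_two,
    Nat.Prime.factorization_pow Nat.prime_three]
  by_cases h2 : q = 2
  · subst h2; simp
  by_cases h3 : q = 3
  · subst h3; simp
  rw [Finsupp.add_apply, Finsupp.single_apply, Finsupp.single_apply, if_neg (Ne.symm h2),
    if_neg (Ne.symm h3)]
  by_cases hq : q.Prime
  · exact Nat.factorization_eq_zero_of_not_dvd fun hd => by rcases h23 q hq hd <;> contradiction
  · exact Nat.factorization_eq_zero_of_not_prime _ hq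

theorem pow_of_isPGroup_two {H : Subgroup G} (hH : IsPGroup 2 H) : ∀ x ∈ H, x ^ 4 = 1 := by
  intro x hx
  obtain ⟨k, hk⟩ := hH ⟨x, hx⟩
  have hk' : x ^ 2 ^ k = 1 := congrArg Subtype.val hk
  rcases pow_cases ho x with h | h
  · have hd := Nat.dvd_gcd (orderOf_dvd_of_pow_eq_one hk') (orderOf_dvd_of_pow_eq_one h)
    rw [show Nat.gcd (2 ^ k) 3 = 1 from Nat.Coprime.pow_left k (by norm_num)] at hd
    rw [orderOf_eq_one_iff.mp (Nat.dvd_one.mp hd), one_pow]
  · exact h

theorem pow_of_isPGroup_three {H : Subgroup G} (hH : IsPGroup 3 H) : ∀ x ∈ H, x ^ 3 = 1 := by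
  intro x hx
  obtain ⟨k, hk⟩ := hH ⟨x, hx⟩
  have hk' : x ^ 3 ^ k = 1 := congrArg Subtype.val hk
  rcases pow_cases ho x with h | h
  · exact h
  · have hd := Nat.dvd_gcd (orderOf_dvd_of_pow_eq_one hk') (orderOf_dvd_of_pow_eq_one h)
    rw [show Nat.gcd (3 ^ k) 4 = 1 from Nat.Coprime.pow_left k (by norm_num)] at hd
    rw [orderOf_eq_one_iff.mp (Nat.dvd_one.mp hd), one_pow]

theorem three_fpf {N : Subgroup G} (hN : ∀ n ∈ N, n ^ 4 = 1) {c : G} (hc : c ^ 3 = 1) (hc1 : c ≠ 1) :
    N ⊓ centralizer {c} = ⊥ :=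
  (Subgroup.eq_bot_iff_forall _).mpr fun n hn => ns ho hc hc1 (hN n hn.1)
    (Subgroup.mem_centralizer_singleton_iff.mp hn.2).symm

/-- A 3-subgroup has order at most 3 when there is a nontrivial normal 2-subgroup. -/
theorem card_three_le {N : Subgroup G} [hNn : N.Normal] (hN : IsPGroup 2 N) (hN1 : N ≠ ⊥) {T : Subgroup G}
    (hT : IsPGroup 3 T) : Nat.card T ∣ 3 := by
  haveI := Fact.mk Nat.prime_two
  haveI := Fact.mk Nat.prime_three
  rcases eq_or_ne T ⊥ with rfl | hTb
  · simp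
  haveI : Nontrivial T := (Subgroup.nontrivial_iff_ne_bot _).mpr hTb
  haveI := hT.center_nontrivial
  obtain ⟨⟨z, hz⟩, hz1⟩ := exists_ne (1 : Subgroup.center T)
  have hzv1 : (z : G) ≠ 1 := fun e => hz1 (Subtype.ext (Subtype.ext e))
  have hz3 := pow_of_isPGroup_three ho hT z z.2
  suffices h : T = zpowers (z : G) by
    rw [h, Nat.card_zpowers, orderOf_eq_prime hz3 hzv1]
  refine le_antisymm (fun y hy => ?_) (zpowers_le.mpr z.2)
  let A := closure ({(z : G), y} : Set G)
  have hzy : Commute (z : G) y := congrArg Subtype.val (Subgroup.mem_center_iff.mp hz ⟨y, hy⟩).symm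
  have hAle : A ≤ T := by
    rw [closure_le]; rintro a (rfl | rfl)
    · exact z.2
    · exact hy
  haveI : IsMulCommutative A := by
    refine isMulCommutative_closure ?_
    rintro a (rfl | rfl) b (rfl | rfl)
    exacts [rfl, hzy.eq, hzy.eq.symm, rfl]
  let V := (center N).map N.subtype
  haveI : V.Normal := inferInstance
  haveI : IsMulCommutative V := inferInstance
  haveI : Nontrivial N := (Subgroup.nontrivial_iff_ne_bot _).mpr hN1
  haveI := hN.center_nontrivial
  have hV : V ≠ ⊥ := fun h => (Subgroup.nontrivial_iff_ne_bot _).mp ‹Nontrivial (center N)›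
    ((Subgroup.map_eq_bot_iff_of_injective _ N.subtype_injective).mp h)
  have hcyc : IsCyclic A := exists_centralizer_ne_bot_aux A V hV
    (by rw [V.normalizer_eq_top]; exact le_top) fun a ha ha1 =>
    three_fpf ho (fun n hn => pow_of_isPGroup_two ho hN n (map_subtype_le _ hn))
      (pow_of_isPGroup_three ho hT a (hAle ha)) ha1
  obtain ⟨⟨g, hg⟩, hgen⟩ := hcyc
  have hzg : (z : G) ∈ zpowers g := by
    obtain ⟨i, hi⟩ := Subgroup.mem_zpowers_iff.mp (hgen ⟨z, subset_closure (Or.inl rfl)⟩)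
    exact ⟨i, congrArg Subtype.val hi⟩
  have hyg : y ∈ zpowers g := by
    obtain ⟨i, hi⟩ := Subgroup.mem_zpowers_iff.mp (hgen ⟨y, subset_closure (Or.inr rfl)⟩)
    exact ⟨i, congrArg Subtype.val hi⟩
  have hle : zpowers (z : G) ≤ zpowers g := zpowers_le.mpr hzg
  rw [Subgroup.eq_of_le_of_card_ge hle (by
    rw [Nat.card_zpowers, Nat.card_zpowers, orderOf_eq_prime hz3 hzv1]
    exact orderOf_le_of_pow_eq_one (by norm_num) (pow_of_isPGroup_three ho hT g (hAle hg)))]
  exact hyg

/-- A normal subgroup whose nontrivial cosets of a given 3-element are all of order 3 has class at most 2. -/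
theorem class_two {N : Subgroup G} [hNn : N.Normal] (hN : IsPGroup 2 N) {c : G} (hc : c ^ 3 = 1) (hc1 : c ∉ N) :
    ⁅commutator N, (⊤ : Subgroup N)⁆ = ⊥ := by
  have h4 := pow_of_isPGroup_two ho hN
  have hout : ∀ n ∈ N, ∀ d : G, (d = c ∨ d = c⁻¹) → (n * d) ^ 3 = 1 := by
    intro n hn d hd
    refine (pow_cases ho _).resolve_right fun h => hc1 ?_
    have hd3 : d ^ 3 = 1 := by rcases hd with rfl | rfl <;> simp [hc]
    have e : ((n * d : G) : G ⧸ N) = d := by
      rw [QuotientGroup.mk_mul, (QuotientGroup.eq_one_iff n).mpr hn, one_mul]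
    have e4 : ((d ^ 4 : G) : G ⧸ N) = 1 := by
      rw [QuotientGroup.mk_pow, ← e, ← QuotientGroup.mk_pow, h, QuotientGroup.mk_one]
    rw [pow_succ, hd3, one_mul, QuotientGroup.eq_one_iff] at e4
    rcases hd with rfl | rfl
    · exact e4
    · exact inv_mem_iff.mp e4
  have hnd : ∀ d : G, (∀ n ∈ N, (n * d) ^ 3 = 1) → ∀ x ∈ N,
      x * (d * x * d⁻¹) * (d * (d * x * d⁻¹) * d⁻¹) = 1 := by
    intro d hd x hx
    have h1 := hd x hx
    have h0 := hd 1 (one_mem _)
    rw [one_mul] at h0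
    calc x * (d * x * d⁻¹) * (d * (d * x * d⁻¹) * d⁻¹) = (x * d) ^ 3 * (d ^ 3)⁻¹ := by
          simp only [pow_three]; group
      _ = 1 := by rw [h1, h0, inv_one, mul_one]
  have hcomm : ∀ x ∈ N, ∀ n ∈ N, Commute x (n * x * n⁻¹) := by
    intro x hx
    have hd : ∀ n ∈ N, ∀ d : G, (d = c ∨ d = c⁻¹) → Commute x ((n * d) * x * (n * d)⁻¹) := by
      intro n hn d hd
      set e := n * d with he
      have hall : ∀ m ∈ N, (m * e) ^ 3 = 1 := fun m hm => by
        rw [he, ← mul_assoc]; exact hout _ (mul_mem hm hn) d hd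
      have he3 : e ^ 3 = 1 := by simpa using hall 1 (one_mem _)
      have hinv : ∀ m ∈ N, (m * e⁻¹) ^ 3 = 1 := fun m hm => by
        have h1 : m * e⁻¹ = (e * m⁻¹)⁻¹ := by group
        rw [h1, inv_pow, inv_eq_one, show e * m⁻¹ = (e * m⁻¹ * e⁻¹) * e by group]
        exact hall _ (hNn.conj_mem _ (inv_mem hm) e)
      have ha := hnd e hall x hx
      have hb := hnd e⁻¹ hinv x hx
      set a := e * x * e⁻¹ with haa
      set b := e * a * e⁻¹ with hbb
      have e2 : e⁻¹ = e * e := by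
        rw [inv_eq_iff_mul_eq_one, ← mul_assoc, ← pow_three']; exact he3
      have hb' : e⁻¹ * x * (e⁻¹)⁻¹ = b := by
        calc e⁻¹ * x * (e⁻¹)⁻¹ = (e * e) * x * (e * e)⁻¹ := by rw [← e2]
          _ = b := by rw [hbb, haa]; group
      have ha' : e⁻¹ * (e⁻¹ * x * (e⁻¹)⁻¹) * (e⁻¹)⁻¹ = a := by
        rw [hb', hbb]; group
      rw [ha', hb'] at hb
      -- x a b = 1 = x b a
      have hab : a * b = b * a := mul_left_cancel (a := x)
        ((mul_assoc x a b).symm.trans (ha.trans (hb.symm.trans (mul_assoc x b a))))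
      have hx' : x = (a * b)⁻¹ := eq_inv_of_mul_eq_one_left ((mul_assoc x a b).symm.trans ha)
      rw [hx']
      exact ((Commute.refl a).mul_left (Commute.symm hab)).inv_left
    intro n hn
    have h1 := hd n hn c (Or.inl rfl)
    have h2 := hd n hn c⁻¹ (Or.inr rfl)
    have hall : ∀ m ∈ N, (m * c) ^ 3 = 1 := fun m hm => hout m hm c (Or.inl rfl)
    have h := hnd c hall x hx
    have e : n * x * n⁻¹ = ((n * c) * x * (n * c)⁻¹ * ((n * c⁻¹) * x * (n * c⁻¹)⁻¹))⁻¹ := by
      refine eq_inv_of_mul_eq_one_left ?_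
      have hc2 : c⁻¹ = c * c := by
        rw [inv_eq_iff_mul_eq_one, ← mul_assoc, ← pow_three']; exact hc
      calc _ = n * (x * (c * x * c⁻¹) * (c⁻¹ * x * (c⁻¹)⁻¹)) * n⁻¹ := by group
        _ = n * (x * (c * x * c⁻¹) * ((c * c) * x * (c * c)⁻¹)) * n⁻¹ := by rw [← hc2]
        _ = n * (x * (c * x * c⁻¹) * (c * (c * x * c⁻¹) * c⁻¹)) * n⁻¹ := by group
        _ = 1 := by rw [h, mul_one, mul_inv_cancel]
    rw [e]
    exact (h1.mul_right h2).inv_right
  refine levi (fun x g => Subtype.ext (hcomm x x.2 g g.2).eq) fun x hx => ?_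
  have hx4 := h4 x x.2
  have hx3 : (x : G) ^ 3 = 1 := congrArg Subtype.val hx
  rw [pow_succ, hx3, one_mul] at hx4
  exact Subtype.ext hx4

omit ho [Finite G] in
theorem perm_three {Q : Type u} [Group Q] [Finite Q] (hQ : ∀ g : Q, orderOf g ≤ 4) (h6 : Nat.card Q = 6) :
    Nonempty (Q ≃* Equiv.Perm (Fin 3)) := by
  haveI := Fact.mk Nat.prime_two
  haveI := Fact.mk Nat.prime_three
  obtain ⟨t, ht⟩ := exists_prime_orderOf_dvd_card' (G := Q) 2 (by rw [h6]; norm_num)
  obtain ⟨c, hc⟩ := exists_prime_orderOf_dvd_card' (G := Q) 3 (by rw [h6]; norm_num)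
  let K := zpowers t
  have hK : Nat.card K = 2 := by rw [Nat.card_zpowers, ht]
  have hind : Nat.card (Q ⧸ K) = 3 := by
    have := Subgroup.card_eq_card_quotient_mul_card_subgroup K
    rw [hK, h6] at this
    omega
  haveI := Fintype.ofFinite (Q ⧸ K)
  haveI := Fintype.ofFinite Q
  let e : Q ⧸ K ≃ Fin 3 := Fintype.equivFinOfCardEq (by rw [← Nat.card_eq_fintype_card, hind])
  let f : Q →* Equiv.Perm (Fin 3) := e.permCongrHom.toMonoidHom.comp (MulAction.toPermHom Q (Q ⧸ K))
  have hinj : Function.Injective f := by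
    refine e.permCongrHom.injective.comp ?_
    rw [← MonoidHom.ker_eq_bot_iff, ← Subgroup.normalCore_eq_ker]
    refine (Subgroup.eq_bot_iff_forall _).mpr fun a ha => ?_
    by_contra ha1
    have haK : ∀ b ∈ K.normalCore, b = 1 ∨ b = t := fun b hb => by
      obtain ⟨i, rfl⟩ := Subgroup.mem_zpowers_iff.mp (K.normalCore_le hb)
      rcases Int.even_or_odd i with ⟨j, rfl⟩ | ⟨j, rfl⟩
      · left
        rw [← two_mul, zpow_mul, show t ^ (2 : ℤ) = 1 by
          rw [show (2 : ℤ) = ((2 : ℕ) : ℤ) from rfl, zpow_natCast, ← ht, pow_orderOf_eq_one], one_zpow]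
      · right
        rw [zpow_add_one, zpow_mul, show t ^ (2 : ℤ) = 1 by
          rw [show (2 : ℤ) = ((2 : ℕ) : ℤ) from rfl, zpow_natCast, ← ht, pow_orderOf_eq_one], one_zpow, one_mul]
    have hat : a = t := (haK a ha).resolve_left ha1
    subst hat
    rcases haK _ (K.normalCore_normal.conj_mem a ha c) with h | h
    · exact ha1 (by simpa using h)
    · have hc1 : c ≠ 1 := fun e => by rw [e, orderOf_one] at hc; omega
      refine ha1 (ns hQ (x := c) (hc ▸ pow_orderOf_eq_one c) hc1 ?_ (mul_inv_eq_iff_eq_mul.mp h))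
      rw [show (4 : ℕ) = 2 * 2 from rfl, pow_mul, ← ht, pow_orderOf_eq_one, one_pow]
  refine ⟨MulEquiv.ofBijective f ((Fintype.bijective_iff_injective_and_card f).mpr ⟨hinj, ?_⟩)⟩
  all_goals first
    | exact Fintype.ofFinite Q
    | (rw [← Nat.card_eq_fintype_card, h6, Fintype.card_perm, Fintype.card_fin]; rfl)

theorem main (h4 : ∃ g : G, orderOf g = 4) (h3 : ∃ g : G, orderOf g = 3) :
    ∃ (N : Subgroup G) (_ : N.Normal),
      (IsPGroup 2 ↥N ∧ Monoid.exponent ↥N = 4 ∧ Group.nilpotencyClass ↥N ≤ 2 ∧ N.index = 3) ∨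
      (Cfsg.IsElementaryAbelian 2 N ∧ Nonempty (G ⧸ N ≃* Equiv.Perm (Fin 3))) ∨
      (Cfsg.IsElementaryAbelian 3 N ∧ ((IsCyclic (G ⧸ N) ∧ N.index = 4) ∨ Nonempty (G ⧸ N ≃* QuaternionGroup 2))) := by
  classical
  haveI := Fact.mk Nat.prime_two
  haveI := Fact.mk Nat.prime_three
  haveI := isSolvable ho
  obtain ⟨u, hu⟩ := h4
  obtain ⟨r, hr⟩ := h3
  have hr1 : r ≠ 1 := fun e => by rw [e, orderOf_one] at hr; omega
  have hr3 : r ^ 3 = 1 := hr ▸ pow_orderOf_eq_one r
  have hu4 : u ^ 4 = 1 := hu ▸ pow_orderOf_eq_one u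
  have hu2 : u ^ 2 ≠ 1 := fun e => by
    have := Nat.le_of_dvd two_pos (orderOf_dvd_of_pow_eq_one e); omega
  haveI : Nontrivial G := ⟨⟨r, 1, hr1⟩⟩
  obtain ⟨M, ⟨hMn, hMb⟩, hmin⟩ := Set.exists_min_image {N : Subgroup G | N.Normal ∧ N ≠ ⊥}
    (fun N => Nat.card N) (Set.toFinite _) ⟨⊤, inferInstance, top_ne_bot⟩
  haveI := hMn
  obtain ⟨p, hp, hMp⟩ := minimal_normal_solvable_isPGroup (N := M) inferInstance hMb
    fun M' hM hle => or_iff_not_imp_left.2 fun hb => Subgroup.eq_of_le_of_card_ge hle (hmin M' ⟨hM, hb⟩)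
  haveI := Fact.mk hp
  have hp23 : p = 2 ∨ p = 3 := by
    obtain ⟨x, hx, hxo⟩ := exists_prime_order_mem hMb
    obtain ⟨k, hk⟩ := IsPGroup.iff_orderOf.1 hMp ⟨x, hx⟩
    rw [Subgroup.orderOf_mk] at hk
    rw [hk] at hxo
    have hk1 : k = 1 := hxo.eq_one_of_pow
    rw [hk1, pow_one] at hk
    have hx4 := ho x
    have := hp.two_le
    rw [hk] at hx4
    interval_cases p
    · exact Or.inl rfl
    · exact Or.inr rfl
    · exact absurd hp (by decide)
  set N := Cfsg.pCore p G with hNdef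
  haveI hNn : N.Normal := pCore_isNormal
  have hNb : N ≠ ⊥ := fun h => hMb (le_bot_iff.mp (h ▸ le_pCore hMn hMp))
  have hNp : IsPGroup p N := pCore_isPGroup
  refine ⟨N, hNn, ?_⟩
  rcases hp23 with rfl | rfl
  · -- p = 2
    have hN4 := pow_of_isPGroup_two ho hNp
    have hoQ := of_quotient ho N
    -- nontrivial 3-element in the quotient
    have hrN : r ∉ N := fun h => hr1 (by
      have := hN4 r h; rwa [pow_succ, hr3, one_mul] at this)
    have hQ3 : 3 ∣ Nat.card (G ⧸ N) := by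
      have : orderOf (r : G ⧸ N) = 3 := orderOf_eq_prime
        (by rw [← QuotientGroup.mk_pow, hr3, QuotientGroup.mk_one])
        fun h => hrN ((QuotientGroup.eq_one_iff r).mp h)
      exact this ▸ orderOf_dvd_natCard _
    have hsyl : (Nat.card (G ⧸ N)).factorization 3 ≤ 1 := by
      obtain ⟨P⟩ : Nonempty (Sylow 3 G) := inferInstance
      have h1 := card_three_le ho hNp hNb P.isPGroup'
      rw [P.card_eq_multiplicity] at h1
      have h2 : (Nat.card G).factorization 3 ≤ 1 :=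
        (Nat.pow_dvd_pow_iff_le_right (x := 3) (by norm_num)).mp (by simpa using h1)
      exact le_trans ((Nat.factorization_le_iff_dvd Nat.card_pos.ne' Nat.card_pos.ne').mpr
        N.card_quotient_dvd_card 3) h2
    -- O_2 of the quotient is trivial
    have hO2 : ∀ R : Subgroup (G ⧸ N), R.Normal → IsPGroup 2 R → R = ⊥ := by
      intro R hRn hR
      have hc : IsPGroup 2 ↥(R.comap (QuotientGroup.mk' N)) :=
        hR.comap_of_ker_isPGroup _ (by rwa [QuotientGroup.ker_mk'])
      have hle := Subgroup.map_mono (f := QuotientGroup.mk' N) (le_pCore (hRn.comap _) hc)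
      rw [Subgroup.map_comap_eq_self_of_surjective (QuotientGroup.mk'_surjective N), ← hNdef,
        QuotientGroup.map_mk'_self] at hle
      exact le_bot_iff.mp hle
    haveI : Nontrivial (G ⧸ N) := ⟨⟨(r : G ⧸ N), 1, fun h => hrN ((QuotientGroup.eq_one_iff r).mp h)⟩⟩
    obtain ⟨T, ⟨hTn, hTb⟩, hTmin⟩ := Set.exists_min_image {T : Subgroup (G ⧸ N) | T.Normal ∧ T ≠ ⊥}
      (fun N => Nat.card N) (Set.toFinite _) ⟨⊤, inferInstance, top_ne_bot⟩
    haveI := hTn
    obtain ⟨q, hq, hTq⟩ := minimal_normal_solvable_isPGroup (N := T) inferInstance hTb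
      fun M' hM hle => or_iff_not_imp_left.2 fun hb => Subgroup.eq_of_le_of_card_ge hle (hTmin M' ⟨hM, hb⟩)
    haveI := Fact.mk hq
    have hq3 : q = 3 := by
      obtain ⟨x, hx, hxo⟩ := exists_prime_order_mem hTb
      obtain ⟨k, hk⟩ := IsPGroup.iff_orderOf.1 hTq ⟨x, hx⟩
      rw [Subgroup.orderOf_mk] at hk
      have h4' := hoQ x
      rw [hk] at hxo h4'
      rw [hxo.eq_one_of_pow, pow_one] at h4'
      have := hq.two_le
      interval_cases q
      · exact absurd (hO2 T hTn hTq) hTb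
      · rfl
      · exact absurd hq (by decide)
    subst hq3
    have hTcard : Nat.card T = 3 := by
      obtain ⟨k, hk⟩ := IsPGroup.iff_card.mp hTq
      have hd : 3 ^ k ∣ Nat.card (G ⧸ N) := hk ▸ Subgroup.card_subgroup_dvd_card T
      have := ((Nat.prime_three.pow_dvd_iff_le_factorization Nat.card_pos.ne').mp hd).trans hsyl
      have hk0 : k ≠ 0 := fun h => hTb (Subgroup.card_eq_one.mp (by rw [hk, h, pow_zero]))
      rw [hk, show k = 1 by omega, pow_one]
    obtain ⟨⟨c, hcT⟩, hco⟩ := exists_prime_orderOf_dvd_card' (G := T) 3 hTcard.symm.dvd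
    rw [Subgroup.orderOf_mk] at hco
    have hc1 : c ≠ 1 := fun e => by rw [e, orderOf_one] at hco; omega
    have hc3 : c ^ 3 = 1 := hco ▸ pow_orderOf_eq_one c
    have hTeq : zpowers c = T := Subgroup.eq_of_le_of_card_ge (zpowers_le.mpr hcT) (by rw [hTcard, Nat.card_zpowers, hco])
    have hCle : centralizer {c} ≤ T := by
      intro y hy
      have hy' : Commute c y := (Subgroup.mem_centralizer_singleton_iff.mp hy).symm
      have h3y : ∀ z : G ⧸ N, Commute c z → z ^ 3 = 1 := fun z hz =>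
        (pow_cases hoQ z).elim id fun h4 => by rw [ns hoQ hc3 hc1 h4 hz, one_pow]
      have hP : IsPGroup 3 ↥(centralizer {c}) := fun z => ⟨1, Subtype.ext (by
        simpa using h3y z (Subgroup.mem_centralizer_singleton_iff.mp z.2).symm)⟩
      obtain ⟨k, hk⟩ := IsPGroup.iff_card.mp hP
      have hd : 3 ^ k ∣ Nat.card (G ⧸ N) := hk ▸ Subgroup.card_subgroup_dvd_card _
      have hk1 := ((Nat.prime_three.pow_dvd_iff_le_factorization Nat.card_pos.ne').mp hd).trans hsyl
      have hle : T ≤ centralizer {c} := hTeq ▸ zpowers_le.mpr (Subgroup.mem_centralizer_singleton_iff.mpr rfl)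
      rw [Subgroup.eq_of_le_of_card_ge hle (by
        rw [hk, hTcard]; exact (Nat.pow_le_pow_right (by norm_num) hk1).trans (by norm_num))]
      exact hy
    -- index of T at most 2
    have hconj : ∀ g : G ⧸ N, g * c * g⁻¹ = c ∨ g * c * g⁻¹ = c⁻¹ := by
      intro g
      have hm : g * c * g⁻¹ ∈ zpowers c := by rw [hTeq]; exact hTn.conj_mem c hcT g
      obtain ⟨i, hi⟩ := (IsOfFinOrder.mem_zpowers_iff_mem_range_orderOf
        (x := c) (isOfFinOrder_of_finite c)).mp hm |> fun h => Finset.mem_image.mp h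
      rw [hco, Finset.mem_range] at hi
      obtain ⟨hi3, hie⟩ := hi
      interval_cases i
      · exact absurd (by simpa using hie.symm : c = 1) hc1
      · exact Or.inl (by rw [← hie, pow_one])
      · exact Or.inr (by
          rw [← hie]
          exact eq_inv_of_mul_eq_one_left (by rw [← pow_succ, hc3]))
    have hindex : T.index ∣ 2 := by
      by_cases hall : ∀ g : G ⧸ N, g ∈ T
      · rw [(Subgroup.eq_top_iff' T).mpr hall, Subgroup.index_top]; exact one_dvd 2
      · push Not at hall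
        obtain ⟨g, hg⟩ := hall
        have hginv : ∀ h : G ⧸ N, h ∉ T → h * c * h⁻¹ = c⁻¹ := fun h hh =>
          (hconj h).resolve_left fun e => hh (hCle (Subgroup.mem_centralizer_singleton_iff.mpr
            (mul_inv_eq_iff_eq_mul.mp e)))
        refine (Subgroup.index_eq_two_iff.mpr ⟨g, fun b => ?_⟩).dvd
        by_cases hb : b ∈ T
        · exact Or.inr ⟨hb, fun hbg => hg ((Subgroup.mul_mem_cancel_left T hb).mp hbg)⟩
        · refine Or.inl ⟨hCle (Subgroup.mem_centralizer_singleton_iff.mpr (mul_inv_eq_iff_eq_mul.mp ?_)), hb⟩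
          calc b * g * c * (b * g)⁻¹ = b * (g * c * g⁻¹) * b⁻¹ := by group
            _ = (b * c * b⁻¹)⁻¹ := by rw [hginv g hg]; group
            _ = c := by rw [hginv b hb, inv_inv]
    have hcardQ : Nat.card (G ⧸ N) = 3 * T.index := by rw [← hTcard, Subgroup.card_mul_index]
    obtain ⟨c0, rfl⟩ := QuotientGroup.mk_surjective c
    obtain ⟨c', hc'3, hc'N⟩ : ∃ c' : G, c' ^ 3 = 1 ∧ c' ∉ N := ⟨r, hr3, hrN⟩
    have hclass := class_two ho hNp hc'3 hc'N
    rcases (Nat.dvd_prime Nat.prime_two).mp hindex with h1 | h2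
    · left
      have hidx : N.index = 3 := by rw [Subgroup.index, hcardQ, h1]
      refine ⟨hNp, ?_, ?_, hidx⟩
      · have huN : u ∈ N := by
          rw [← QuotientGroup.eq_one_iff, ← orderOf_eq_one_iff]
          have h4' : orderOf (u : G ⧸ N) ∣ 4 := orderOf_dvd_of_pow_eq_one
            (by rw [← QuotientGroup.mk_pow, hu4, QuotientGroup.mk_one])
          have h3' : orderOf (u : G ⧸ N) ∣ 3 := hidx ▸ orderOf_dvd_natCard _
          exact Nat.dvd_one.mp (Nat.dvd_gcd h4' h3')
        refine Nat.dvd_antisymm (Monoid.exponent_dvd_of_forall_pow_eq_one fun x => Subtype.ext (hN4 x x.2)) ?_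
        have := Monoid.order_dvd_exponent (⟨u, huN⟩ : N)
        rwa [Subgroup.orderOf_mk, hu] at this
      · haveI := hNp.isNilpotent
        refine _root_.lowerCentralSeries_eq_bot_iff_nilpotencyClass_le.mp ?_
        exact hclass
    · right; left
      have hQ6 : Nat.card (G ⧸ N) = 6 := by rw [hcardQ, h2]
      refine ⟨?_, perm_three hoQ hQ6⟩
      obtain ⟨gb, hgb⟩ : ∃ g : G ⧸ N, g ∉ T := by
        by_contra h
        push Not at h
        rw [(Subgroup.eq_top_iff' T).mpr h, Subgroup.index_top] at h2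
        omega
      have hgi : gb * (c0 : G ⧸ N) * gb⁻¹ = (c0 : G ⧸ N)⁻¹ :=
        (hconj gb).resolve_left fun e => hgb (hCle (Subgroup.mem_centralizer_singleton_iff.mpr
          (mul_inv_eq_iff_eq_mul.mp e)))
      obtain ⟨g, rfl⟩ := QuotientGroup.mk_surjective gb
      -- c0 has order three
      have hc03 : c0 ^ 3 = 1 := by
        refine (pow_cases ho c0).resolve_right fun h => hc1 ?_
        have : ((c0 : G) : G ⧸ N) ^ 4 = 1 := by rw [← QuotientGroup.mk_pow, h, QuotientGroup.mk_one]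
        rwa [pow_succ, hc3, one_mul] at this
      have hc01 : c0 ≠ 1 := fun e => hc1 (by rw [e, QuotientGroup.mk_one])
      have hg4 : g ^ 4 = 1 := (pow_cases ho g).resolve_left fun h => hgb (by
        by_contra _
        have h3g : ((g : G) : G ⧸ N) ^ 3 = 1 := by rw [← QuotientGroup.mk_pow, h, QuotientGroup.mk_one]
        have hgT : ((g : G) : G ⧸ N) ^ 2 ∈ T := Subgroup.sq_mem_of_index_two h2 _
        have : ((g : G) : G ⧸ N) = (((g : G) : G ⧸ N) ^ 2) ^ 2 := by
          rw [← pow_mul, pow_succ, h3g, one_mul]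
        exact hgb (this ▸ pow_mem hgT 2))
      -- replace g by an element inverting c0
      have hinj : Function.Injective (fun n : N => (⟨(n : G) * c0⁻¹ * (n : G)⁻¹ * c0, by
          have := mul_mem n.2 (hNn.conj_mem _ (inv_mem n.2) c0⁻¹)
          rwa [inv_inv, ← mul_assoc, ← mul_assoc] at this⟩ : N)) := by
        intro a b hab
        have e : (a : G) * c0⁻¹ * (a : G)⁻¹ * c0 = (b : G) * c0⁻¹ * (b : G)⁻¹ * c0 := congrArg Subtype.val hab
        have e' := mul_right_cancel e
        have hcm : Commute c0 ((b : G)⁻¹ * a) := by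
          have h' : Commute c0⁻¹ ((b : G)⁻¹ * a) := by
            show c0⁻¹ * ((b : G)⁻¹ * a) = (b : G)⁻¹ * a * c0⁻¹
            calc c0⁻¹ * ((b : G)⁻¹ * a) = (b : G)⁻¹ * ((b : G) * c0⁻¹ * (b : G)⁻¹) * a := by group
              _ = _ := by rw [← e']; group
          simpa using h'.inv_left
        have := ns ho hc03 hc01 (hN4 _ (mul_mem (inv_mem b.2) a.2)) hcm
        exact Subtype.ext (inv_mul_eq_one.mp this).symm
      have hmemN : g * c0 * g⁻¹ * c0 ∈ N := by
        rw [← QuotientGroup.eq_one_iff, QuotientGroup.mk_mul, QuotientGroup.mk_mul, QuotientGroup.mk_mul,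
          QuotientGroup.mk_inv, hgi, inv_mul_cancel]
      obtain ⟨⟨n, hn⟩, hne⟩ := (Finite.surjective_of_injective hinj) ⟨_, hmemN⟩
      have hne' : n * c0⁻¹ * n⁻¹ * c0 = g * c0 * g⁻¹ * c0 := congrArg Subtype.val hne
      set t := n⁻¹ * g with htdef
      have htc : t * c0 * t⁻¹ = c0⁻¹ := by
        rw [htdef, show n⁻¹ * g * c0 * (n⁻¹ * g)⁻¹ = n⁻¹ * (g * c0 * g⁻¹) * n by group,
          ← mul_right_cancel hne']
        group
      have htT : ((t : G) : G ⧸ N) ∉ T := by
        rw [htdef, QuotientGroup.mk_mul, QuotientGroup.mk_inv, (QuotientGroup.eq_one_iff n).mpr hn,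
          inv_one, one_mul]
        exact hgb
      have ht2 : t * t = 1 := by
        have hcm : Commute c0 (t * t) := by
          show c0 * (t * t) = t * t * c0
          have h2' : t * t * c0 * (t * t)⁻¹ = c0 := by
            rw [show t * t * c0 * (t * t)⁻¹ = t * (t * c0 * t⁻¹) * t⁻¹ by group, htc,
              show t * c0⁻¹ * t⁻¹ = (t * c0 * t⁻¹)⁻¹ by group, htc, inv_inv]
          exact (mul_inv_eq_iff_eq_mul.mp h2').symm
        rcases pow_cases ho t with h | h
        · exfalso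
          have h3t : ((t : G) : G ⧸ N) ^ 3 = 1 := by rw [← QuotientGroup.mk_pow, h, QuotientGroup.mk_one]
          have hgT : ((t : G) : G ⧸ N) ^ 2 ∈ T := Subgroup.sq_mem_of_index_two h2 _
          have : ((t : G) : G ⧸ N) = (((t : G) : G ⧸ N) ^ 2) ^ 2 := by
            rw [← pow_mul, pow_succ, h3t, one_mul]
          exact htT (this ▸ pow_mem hgT 2)
        · refine ns ho hc03 hc01 ?_ hcm
          rw [← pow_two, ← pow_mul, show 2 * 4 = 4 * 2 from rfl, pow_mul, h, one_pow]
      have hexp : ∀ x ∈ N, x ^ 2 = 1 := by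
        intro x hx
        have htinv : t⁻¹ = t := inv_eq_of_mul_eq_one_left ht2
        -- the three involutions
        have hs : ∀ s : G, s * s = 1 → ((s : G) : G ⧸ N) ∉ T →
            x * (s * x * s) * x = (s * x * s)⁻¹ := by
          intro s hs2 hsT
          have h4s : (x * s) ^ 4 = 1 := (pow_cases ho (x * s)).resolve_left fun h => hsT (by
            have h3s : ((x * s : G) : G ⧸ N) ^ 3 = 1 := by rw [← QuotientGroup.mk_pow, h, QuotientGroup.mk_one]
            rw [QuotientGroup.mk_mul, (QuotientGroup.eq_one_iff x).mpr hx, one_mul] at h3s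
            have : ((s : G) : G ⧸ N) = (((s : G) : G ⧸ N) ^ 2) ^ 2 := by
              rw [← pow_mul, pow_succ, h3s, one_mul]
            exact this ▸ pow_mem (Subgroup.sq_mem_of_index_two h2 _) 2)
          refine eq_inv_of_mul_eq_one_left ?_
          calc x * (s * x * s) * x * (s * x * s) = (x * s) ^ 4 := by simp only [pow_succ, pow_zero]; group
            _ = 1 := h4s
        have hallc : ∀ m ∈ N, (m * c0) ^ 3 = 1 := by
          intro m hm
          refine (pow_cases ho _).resolve_right fun h => hc1 ?_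
          have : ((m * c0 : G) : G ⧸ N) ^ 4 = 1 := by rw [← QuotientGroup.mk_pow, h, QuotientGroup.mk_one]
          rw [QuotientGroup.mk_mul, (QuotientGroup.eq_one_iff m).mpr hm, one_mul] at this
          rwa [pow_succ, hc3, one_mul] at this
        have hxyz : x * (c0 * x * c0⁻¹) * (c0⁻¹ * x * c0) = 1 := by
          have h1 := hallc x hx
          have hcc : c0⁻¹ = c0 * c0 := by
            rw [inv_eq_iff_mul_eq_one, ← mul_assoc, ← pow_three']; exact hc03
          calc x * (c0 * x * c0⁻¹) * (c0⁻¹ * x * c0) = x * c0 * x * (c0⁻¹ * c0⁻¹) * x * c0 := by group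
            _ = (x * c0) ^ 3 := by rw [hcc]; simp only [pow_three]; rw [show c0 * c0 * (c0 * c0) = c0 * (c0 * c0 * c0) by group, ← pow_three', hc03, mul_one]; group
            _ = 1 := h1
        set a₀ := t * x * t with ha₀
        set a₁ := (t * c0) * x * (t * c0) with ha₁
        set a₂ := (t * c0⁻¹) * x * (t * c0⁻¹) with ha₂
        have hct : c0 * t = t * c0⁻¹ := by
          rw [← htc, htinv]; rw [show t * (t * c0 * t) = (t * t) * c0 * t by group, ht2, one_mul]
        have hct' : c0⁻¹ * t = t * c0 := by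
          rw [← htc, htinv, mul_assoc, ht2, mul_one]
        have hs1 : (t * c0) * (t * c0) = 1 := by
          rw [show t * c0 * (t * c0) = t * (c0 * t) * c0 by group, hct, ← mul_assoc, ht2]; group
        have hs2 : (t * c0⁻¹) * (t * c0⁻¹) = 1 := by
          rw [show t * c0⁻¹ * (t * c0⁻¹) = t * (c0⁻¹ * t) * c0⁻¹ by group, hct', ← mul_assoc, ht2]; group
        have hsT : ∀ d : G, ((d : G) : G ⧸ N) ∈ T → ((t * d : G) : G ⧸ N) ∉ T := fun d hd h => htT (by
          rw [QuotientGroup.mk_mul] at h; exact (Subgroup.mul_mem_cancel_right T hd).mp h)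
        have r0 := hs t ht2 htT
        have r1 := hs (t * c0) hs1 (hsT c0 hcT)
        have r2 := hs (t * c0⁻¹) hs2 (hsT _ (by rw [QuotientGroup.mk_inv]; exact inv_mem hcT))
        rw [← ha₀] at r0
        rw [← ha₁] at r1
        rw [← ha₂] at r2
        have hmem : ∀ s : G, s * s = 1 → s * x * s ∈ N := fun s hs' => by
          have := hNn.conj_mem x hx s
          rwa [inv_eq_of_mul_eq_one_left hs'] at this
        have hz : ∀ a ∈ N, Commute ⁅x, a⁆ a := fun a ha => by
          have hle : commutator N ≤ centralizer ((⊤ : Subgroup N) : Set N) :=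
            Subgroup.commutator_eq_bot_iff_le_centralizer.mp hclass
          exact (congrArg Subtype.val (Subgroup.mem_centralizer_iff.mp
            (hle (commutator_mem_commutator (Subgroup.mem_top (⟨x, hx⟩ : N)) (Subgroup.mem_top (⟨a, ha⟩ : N))))
            ⟨a, ha⟩ trivial)).symm
        have e1 : t * c0 * t = c0⁻¹ := by rwa [htinv] at htc
        have e2 : t * c0⁻¹ * t = c0 := by
          rw [← e1, show t * (t * c0 * t) * t = (t * t) * c0 * (t * t) by group, ht2, one_mul, mul_one]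
        have hyxz : x * (c0⁻¹ * x * c0) * (c0 * x * c0⁻¹) = 1 := by
          have hcc : c0⁻¹ = c0 * c0 := by
            rw [inv_eq_iff_mul_eq_one, ← mul_assoc, ← pow_three']; exact hc03
          have hinv' : ∀ m ∈ N, (m * c0⁻¹) ^ 3 = 1 := fun m hm => by
            rw [show m * c0⁻¹ = (c0 * m⁻¹)⁻¹ by group, inv_pow, inv_eq_one,
              show c0 * m⁻¹ = (c0 * m⁻¹ * c0⁻¹) * c0 by group]
            exact hallc _ (hNn.conj_mem _ (inv_mem hm) c0)
          calc x * (c0⁻¹ * x * c0) * (c0 * x * c0⁻¹) = (x * c0⁻¹) * x * (c0 * c0) * x * c0⁻¹ := by group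
            _ = (x * c0⁻¹) * (x * c0⁻¹) * (x * c0⁻¹) := by rw [← hcc]; group
            _ = 1 := by rw [← pow_three']; exact hinv' x hx
        have hprod : a₀ * a₁ * a₂ = 1 := by
          rw [ha₀, ha₁, ha₂]
          calc t * x * t * (t * c0 * x * (t * c0)) * (t * c0⁻¹ * x * (t * c0⁻¹))
              = t * x * (t * t) * c0 * x * (t * c0 * t) * c0⁻¹ * x * t * c0⁻¹ := by group
            _ = t * x * c0 * x * c0⁻¹ * c0⁻¹ * x * t * c0⁻¹ := by rw [e1, ht2]; group
            _ = t * (x * (c0 * x * c0⁻¹) * (c0⁻¹ * x * c0)) * (c0⁻¹ * t) * c0⁻¹ := by group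
            _ = 1 := by rw [hxyz, hct', mul_one, ← mul_assoc, ht2, one_mul, mul_inv_cancel]
        have hprod' : a₂ * a₁ * a₀ = 1 := by
          rw [ha₀, ha₁, ha₂]
          calc t * c0⁻¹ * x * (t * c0⁻¹) * (t * c0 * x * (t * c0)) * (t * x * t)
              = (t * c0⁻¹) * (x * (t * c0⁻¹ * t) * c0 * x * (t * c0 * t) * x) * t := by group
            _ = (t * c0⁻¹) * (x * (c0 * c0) * x * c0⁻¹ * x) * t := by rw [e1, e2]; group
            _ = t * ((c0⁻¹ * x * c0) * (c0 * x * c0⁻¹) * x) * t := by group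
            _ = t * (x⁻¹ * (x * (c0⁻¹ * x * c0) * (c0 * x * c0⁻¹)) * x) * t := by group
            _ = 1 := by rw [hyxz, mul_one, inv_mul_cancel, mul_one, ht2]
        exact sq_core r0 r1 r2 (commute_sq r1 (hz _ (hmem _ hs1))) (commute_sq r2 (hz _ (hmem _ hs2)))
          hprod hprod' (by rw [← pow_add]; exact hN4 x hx)
      refine ⟨⟨⟨fun a b => Subtype.ext ?_⟩⟩, hexp⟩
      have ha := hexp _ a.2
      have hb := hexp _ b.2
      have hab := hexp _ (mul_mem a.2 b.2)
      rw [pow_two, mul_eq_one_iff_inv_eq] at ha hb hab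
      show (a : G) * b = b * a
      rw [← hab, mul_inv_rev, ha, hb]
  · -- p = 3
    right; right
    have hN3 := pow_of_isPGroup_three ho hNp
    have hoQ := of_quotient ho N
    have hfpf : ∀ n ∈ N, ∀ y : G, y ^ 4 = 1 → y ≠ 1 → Commute y n → n = 1 := fun n hn y hy hy1 hc => by
      by_contra hn1
      exact hy1 (ns ho (hN3 n hn) hn1 hy hc.symm)
    -- an involution inverts N
    have hinv : ∀ t : G, t * t = 1 → t ≠ 1 → ∀ n ∈ N, t * n * t = n⁻¹ := by
      intro t ht ht1 n hn
      have htinv : t⁻¹ = t := inv_eq_of_mul_eq_one_left ht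
      have ht4 : t ^ 4 = 1 := by rw [show (4 : ℕ) = 2 * 2 from rfl, pow_mul, pow_two t, ht, one_pow]
      have hinj : Function.Injective (fun m : N => (⟨(m : G)⁻¹ * (t * m * t), mul_mem (inv_mem m.2) (by
          simpa [htinv] using hNn.conj_mem _ m.2 t)⟩ : N)) := by
        intro a b hab
        have e : (a : G)⁻¹ * (t * a * t) = (b : G)⁻¹ * (t * b * t) := congrArg Subtype.val hab
        have hc : Commute t ((b : G) * (a : G)⁻¹) := by
          show t * ((b : G) * (a : G)⁻¹) = (b : G) * (a : G)⁻¹ * t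
          calc t * ((b : G) * (a : G)⁻¹) = (b : G) * ((b : G)⁻¹ * (t * b * t)) * t⁻¹ * (a : G)⁻¹ := by group
            _ = (b : G) * ((a : G)⁻¹ * (t * a * t)) * t⁻¹ * (a : G)⁻¹ := by rw [e]
            _ = _ := by group
        exact Subtype.ext (mul_inv_eq_one.mp (hfpf _ (mul_mem b.2 (inv_mem a.2)) t ht4 ht1 hc)).symm
      obtain ⟨⟨m, hm⟩, hme⟩ := Finite.surjective_of_injective hinj ⟨n, hn⟩
      have e : m⁻¹ * (t * m * t) = n := congrArg Subtype.val hme
      rw [← e]
      calc t * (m⁻¹ * (t * m * t)) * t = (t * m⁻¹ * t) * m * (t * t) := by group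
        _ = (m⁻¹ * (t * m * t))⁻¹ := by rw [ht, mul_one, mul_inv_rev, mul_inv_rev, mul_inv_rev, htinv]; group
    have hu22 : u ^ 2 * u ^ 2 = 1 := by rw [← pow_add]; exact hu4
    have hN_el : Cfsg.IsElementaryAbelian 3 N := by
      refine ⟨⟨⟨fun a b => Subtype.ext ?_⟩⟩, hN3⟩
      have h1 := hinv _ hu22 hu2 _ (mul_mem a.2 b.2)
      rw [show u ^ 2 * ((a : G) * b) * u ^ 2 = (u ^ 2 * a * u ^ 2) * ((u ^ 2)⁻¹ * (u ^ 2)⁻¹) * (u ^ 2 * b * u ^ 2) by group,
        show (u ^ 2)⁻¹ * (u ^ 2)⁻¹ = 1 by rw [← mul_inv_rev, hu22, inv_one], mul_one,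
        hinv _ hu22 hu2 _ a.2, hinv _ hu22 hu2 _ b.2, ← mul_inv_rev, inv_inj] at h1
      exact h1.symm
    refine ⟨hN_el, ?_⟩
    -- three does not divide the index
    have hQ2 : IsPGroup 2 (G ⧸ N) := by
      by_contra hnp
      obtain ⟨cb, hc3, hc1⟩ : ∃ cb : G ⧸ N, cb ^ 3 = 1 ∧ cb ≠ 1 := by
        by_contra hno
        push Not at hno
        exact hnp fun x => ⟨2, (pow_cases hoQ x).elim (fun h => by rw [hno x h, one_pow]) id⟩
      haveI : Nontrivial (G ⧸ N) := ⟨⟨cb, 1, hc1⟩⟩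
      obtain ⟨R, ⟨hRn, hRb⟩, hRmin⟩ := Set.exists_min_image {T : Subgroup (G ⧸ N) | T.Normal ∧ T ≠ ⊥}
        (fun N => Nat.card N) (Set.toFinite _) ⟨⊤, inferInstance, top_ne_bot⟩
      haveI := hRn
      obtain ⟨hRc, q, hq, hRq⟩ := minimal_normal_solvable (N := R) inferInstance hRb
        fun M' hM hle => or_iff_not_imp_left.2 fun hb => Subgroup.eq_of_le_of_card_ge hle (hRmin M' ⟨hM, hb⟩)
      have hR2 : ∀ x ∈ R, x ^ 2 = 1 := by
        intro x hx
        by_cases hq2 : q = 2
        · exact hq2 ▸ hRq x hx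
        exfalso
        have hR3 : IsPGroup 3 R := fun y => ⟨1, Subtype.ext (by
          rcases pow_cases hoQ y.1 with h | h
          · simpa using h
          · have hd := Nat.dvd_gcd (orderOf_dvd_of_pow_eq_one (hRq _ y.2)) (orderOf_dvd_of_pow_eq_one h)
            rw [show Nat.gcd q 4 = 1 from by
              rw [show (4 : ℕ) = 2 ^ 2 from rfl]
              exact Nat.Coprime.pow_right 2 ((Nat.coprime_primes hq Nat.prime_two).mpr hq2)] at hd
            simp [orderOf_eq_one_iff.mp (Nat.dvd_one.mp hd)])⟩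
        have hc : IsPGroup 3 ↥(R.comap (QuotientGroup.mk' N)) :=
          hR3.comap_of_ker_isPGroup _ (by rwa [QuotientGroup.ker_mk'])
        have hle := Subgroup.map_mono (f := QuotientGroup.mk' N) (le_pCore (hRn.comap _) hc)
        rw [Subgroup.map_comap_eq_self_of_surjective (QuotientGroup.mk'_surjective N), ← hNdef,
          QuotientGroup.map_mk'_self] at hle
        exact hRb (le_bot_iff.mp hle)
      -- R has order two
      have hlift : ∀ x ∈ R, x ≠ 1 → ∃ t : G, t * t = 1 ∧ t ≠ 1 ∧ (t : G ⧸ N) = x := by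
        intro x hx hx1
        obtain ⟨g, rfl⟩ := QuotientGroup.mk_surjective x
        have hgN : g ^ 2 ∈ N := by rw [← QuotientGroup.eq_one_iff, QuotientGroup.mk_pow]; exact hR2 _ hx
        have hg3 : g ^ 2 ^ 2 = 1 ∨ g ^ 3 = 1 := (pow_cases ho g).symm.imp_left (by simp)
        rcases hg3 with h | h
        · refine ⟨g, ?_, fun e => hx1 (by rw [e, QuotientGroup.mk_one]), rfl⟩
          rw [← pow_two]
          have h3' := hN3 _ hgN
          have h4' : (g ^ 2) ^ 2 = 1 := by rw [← pow_mul]; exact h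
          rwa [pow_succ, h4', one_mul] at h3'
        · exfalso
          refine hx1 ?_
          have h1 : (g : G ⧸ N) ^ 3 = 1 := by rw [← QuotientGroup.mk_pow, h, QuotientGroup.mk_one]
          have h2 := hR2 _ hx
          rwa [pow_succ, h2, one_mul] at h1
      have hone : ∀ x ∈ R, ∀ y ∈ R, x ≠ 1 → y ≠ 1 → x = y := by
        intro x hx y hy hx1 hy1
        obtain ⟨s, hs, hs1, rfl⟩ := hlift x hx hx1
        obtain ⟨t, ht, ht1, rfl⟩ := hlift y hy hy1
        obtain ⟨n0, hn0, hn01⟩ : ∃ n ∈ N, n ≠ (1 : G) := by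
          by_contra hc; push Not at hc
          exact hNb ((Subgroup.eq_bot_iff_forall N).2 hc)
        by_contra hne
        have hst : Commute (s * t) n0 := by
          show s * t * n0 = n0 * (s * t)
          have e1 := hinv t ht ht1 n0 hn0
          have e2 := hinv s hs hs1 _ (inv_mem hn0)
          rw [inv_inv] at e2
          calc s * t * n0 = s * (t * n0 * t) * t⁻¹ := by group
            _ = s * n0⁻¹ * s * (s⁻¹ * t⁻¹) := by rw [e1]; group
            _ = n0 * (s * t) := by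
              rw [e2, inv_eq_of_mul_eq_one_left hs, inv_eq_of_mul_eq_one_left ht]
        rcases pow_cases ho (s * t) with h | h
        · refine hne ?_
          have h1 : ((s : G) : G ⧸ N) * (t : G ⧸ N) ∈ R := mul_mem hx hy
          have h3 : (((s : G) : G ⧸ N) * (t : G ⧸ N)) ^ 3 = 1 := by
            rw [← QuotientGroup.mk_mul, ← QuotientGroup.mk_pow, h, QuotientGroup.mk_one]
          rw [pow_succ, hR2 _ h1, one_mul, ← QuotientGroup.mk_mul, QuotientGroup.mk_mul] at h3
          rw [eq_inv_of_mul_eq_one_left h3]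
          exact inv_eq_of_mul_eq_one_left (by rw [← pow_two]; exact hR2 _ hy)
        · refine hn01 (hfpf n0 hn0 _ h (fun e => hne ?_) hst)
          have h' : ((s * t : G) : G ⧸ N) = 1 := by rw [e, QuotientGroup.mk_one]
          rw [QuotientGroup.mk_mul] at h'
          rw [eq_inv_of_mul_eq_one_left h']
          exact inv_eq_of_mul_eq_one_left (by rw [← pow_two]; exact hR2 _ hy)
      obtain ⟨z, hz, hz1⟩ : ∃ z ∈ R, z ≠ (1 : G ⧸ N) := by
        by_contra hc; push Not at hc
        exact hRb ((Subgroup.eq_bot_iff_forall R).2 hc)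
      refine hz1 (ns hoQ hc3 hc1 (by rw [show (4 : ℕ) = 2 * 2 from rfl, pow_mul, hR2 z hz, one_pow]) ?_)
      have := hone _ (hRn.conj_mem z hz cb) z hz (fun e => hz1 (by simpa using e)) hz1
      exact mul_inv_eq_iff_eq_mul.mp this
    obtain ⟨k, hk⟩ := IsPGroup.iff_card.mp hQ2
    obtain ⟨j, hj⟩ := IsPGroup.iff_card.mp hNp
    obtain ⟨K, hK⟩ := Subgroup.exists_right_complement'_of_coprime (N := N) (by
      rw [hj, Subgroup.index, hk]
      exact Nat.Coprime.pow j k (by norm_num))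
    let e : G ⧸ N ≃* K := hK.symm.QuotientMulEquiv
    have hK2 : IsPGroup 2 K := hQ2.of_equiv e
    have huniq : ∀ s t : K, orderOf s = 2 → orderOf t = 2 → s = t := by
      intro s t hs ht
      have f : ∀ w : K, orderOf w = 2 → (w : G) * w = 1 ∧ (w : G) ≠ 1 := fun w hw => by
        refine ⟨?_, fun e => ?_⟩
        · have := pow_orderOf_eq_one w
          rw [hw] at this
          rw [← pow_two]; exact congrArg Subtype.val this
        · rw [show w = 1 from Subtype.ext e, orderOf_one] at hw; omega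
      obtain ⟨hs2, hs1⟩ := f s hs
      obtain ⟨ht2, ht1⟩ := f t ht
      obtain ⟨n0, hn0, hn01⟩ : ∃ n ∈ N, n ≠ (1 : G) := by
        by_contra hc; push Not at hc
        exact hNb ((Subgroup.eq_bot_iff_forall N).2 hc)
      by_contra hne
      have hst : Commute ((s : G) * t) n0 := by
        show (s : G) * t * n0 = n0 * (s * t)
        have e1 := hinv t ht2 ht1 n0 hn0
        have e2 := hinv s hs2 hs1 _ (inv_mem hn0)
        rw [inv_inv] at e2
        calc (s : G) * t * n0 = s * (t * n0 * t) * (t : G)⁻¹ := by group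
          _ = s * n0⁻¹ * s * ((s : G)⁻¹ * (t : G)⁻¹) := by rw [e1]; group
          _ = n0 * (s * t) := by
            rw [e2, inv_eq_of_mul_eq_one_left hs2, inv_eq_of_mul_eq_one_left ht2]
      refine hn01 (hfpf n0 hn0 _ (pow_of_isPGroup_two ho hK2 _ (mul_mem s.2 t.2)) (fun e => hne ?_) hst)
      refine Subtype.ext ?_
      rw [eq_inv_of_mul_eq_one_left e]
      exact inv_eq_of_mul_eq_one_left ht2
    have hK4 : ∀ x : K, x ^ 4 = 1 := fun x => Subtype.ext (pow_of_isPGroup_two ho hK2 x x.2)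
    have huK : orderOf (e (u : G ⧸ N)) = 4 := by
      rw [MulEquiv.orderOf_eq]
      have hd : orderOf (u : G ⧸ N) ∣ 4 := orderOf_dvd_of_pow_eq_one
        (by rw [← QuotientGroup.mk_pow, hu4, QuotientGroup.mk_one])
      rcases (Nat.dvd_prime_pow Nat.prime_two).mp (show orderOf (u : G ⧸ N) ∣ 2 ^ 2 from hd) with ⟨i, hi, hie⟩
      interval_cases i
      all_goals first
        | exact hie
        | (exfalso
           have hmem : u ^ 2 ∈ N := by
             rw [← QuotientGroup.eq_one_iff, QuotientGroup.mk_pow, ← orderOf_dvd_iff_pow_eq_one, hie]; norm_num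
           have h3' := hN3 _ hmem
           rw [pow_three', hu22, one_mul] at h3'
           exact hu2 h3')
    rcases Ambivalent.cyclic_or_quaternion hK2 huniq with hcy | ⟨n, ⟨eq⟩⟩
    · left
      haveI := hcy
      refine ⟨isCyclic_of_surjective e.symm.toMonoidHom e.symm.surjective, ?_⟩
      rw [Subgroup.index, Nat.card_congr e.toEquiv]
      refine Nat.dvd_antisymm ?_ (huK ▸ orderOf_dvd_natCard _)
      rw [← IsCyclic.exponent_eq_card]
      exact Monoid.exponent_dvd_of_forall_pow_eq_one hK4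
    · right
      haveI : NeZero (2 ^ (n + 1)) := ⟨by positivity⟩
      have h1 : 2 * 2 ^ (n + 1) ≤ 4 := by
        rw [← QuaternionGroup.orderOf_a_one, ← MulEquiv.orderOf_eq eq.symm]
        exact orderOf_le_of_pow_eq_one (by norm_num) (hK4 _)
      have hn : n = 0 := by
        by_contra h
        have : 2 ^ 2 ≤ 2 ^ (n + 1) := Nat.pow_le_pow_right (by norm_num) (by omega)
        omega
      subst hn
      exact ⟨e.trans eq⟩

end Finite

end Cfsg.Agent.Grp.SpectrumFour
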