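import Cfsg.Agent.Lib.Grp.ExtraCentSimple
import Cfsg.Agent.Lib.Grp.SymplecticType
import Cfsg.Agent.Lib.Grp.Coprime
import Cfsg.Agent.Lib.Grp.Cores

/-!
Large extraspecial subgroups in sections of a centraliser.
-/

set_option autoImplicit false
set_option linter.style.haveILetI false
set_option linter.unusedSectionVars false

namespace Cfsg.Agent.Grp.ExtraCentSimple

open Subgroup
open scoped commutatorElement

variable {G : Type*} [Group G] [Finite G] {z : G} {Q : Subgroup G}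

theorem isExtraspecial_equiv {A B : Type*} [Group A] [Group B] {p : ℕ} (e : A ≃* B)
    (h : Cfsg.IsExtraspecial p A) : Cfsg.IsExtraspecial p B := by
  have hc : (Subgroup.center A).map e.toMonoidHom = Subgroup.center B := by
    ext x
    constructor
    · rintro ⟨a, ha, rfl⟩
      refine Subgroup.mem_center_iff.2 fun b => e.symm.injective ?_
      simp only [map_mul, MulEquiv.coe_toMonoidHom, MulEquiv.symm_apply_apply]
      exact Subgroup.mem_center_iff.1 ha _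
    · intro hx
      refine ⟨e.symm x, Subgroup.mem_center_iff.2 fun a => e.injective ?_, e.apply_symm_apply x⟩
      simp only [map_mul, MulEquiv.apply_symm_apply]
      exact Subgroup.mem_center_iff.1 hx _
  have hf : (frattini A).map e.toMonoidHom = frattini B := OrderIso.map_radical e.mapSubgroup
  refine ⟨⟨h.1.1.of_equiv e, ?_, ?_⟩, ?_⟩
  · rw [← hf, h.1.2.1, hc]
  · rw [← hc, ← h.1.2.2, commutator_def, commutator_def, Subgroup.map_commutator,
      Subgroup.map_top_of_surjective _ e.surjective]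
  · rw [← hc, Subgroup.card_map_of_injective (f := e.toMonoidHom) e.injective, h.2]

theorem isExtraspecial_of_ext (h : Spor.ExtraPair.Ext z Q) (hQ2 : IsPGroup 2 Q) {u : G} (hu : u ∈ Q)
    (hu1 : u ≠ 1) (huz : u ≠ z) : Cfsg.IsExtraspecial 2 ↥Q := by
  haveI : Fact (Nat.Prime 2) := ⟨Nat.prime_two⟩
  obtain ⟨T, hT⟩ : ∃ T, T = zpowers (⟨z, h.mem⟩ : Q) := ⟨_, rfl⟩
  have hmemT : ∀ x : Q, ((x : G) = 1 ∨ (x : G) = z) → x ∈ T := fun x hx => by
    rcases hx with e | e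
    · rw [show x = 1 from Subtype.ext e]; exact one_mem T
    · rw [show x = ⟨z, h.mem⟩ from Subtype.ext e, hT]; exact mem_zpowers _
  have hTc : Nat.card T = 2 := by
    rw [hT, Nat.card_zpowers]
    refine orderOf_eq_prime (Subtype.ext ?_) fun e => h.ne (congrArg Subtype.val e)
    show z ^ 2 = 1
    rw [pow_two, h.zz]
  have key : Cfsg.IsExtraspecial 2 ↥(⊤ : Subgroup Q) := by
    refine Grp.Symplectic.mkExtra hQ2 ⊤ T hTc ?_ le_top ?_ ?_ ?_ ?_
    · rw [hT, zpowers_le]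
      exact mem_center_iff.2 fun q => Subtype.ext (h.central q q.2)
    · intro hle
      rcases mem_zpowers_cases (z := (⟨z, h.mem⟩ : Q)) (Subtype.ext h.zz) (hT ▸ hle (mem_top (⟨u, hu⟩ : Q))) with e | e
      · exact hu1 (congrArg Subtype.val e)
      · exact huz (congrArg Subtype.val e)
    · rintro x ⟨-, hx⟩
      exact hmemT x (h.cen x x.2 fun q hq => congrArg Subtype.val (mem_centralizer_iff.1 hx ⟨q, hq⟩ (mem_top _)))
    · intro a _ b _
      exact hmemT _ (h.comm a a.2 b b.2)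
    · intro a _
      refine hmemT _ ?_
      rw [pow_two]
      exact h.sq a a.2
  exact isExtraspecial_equiv Subgroup.topEquiv key

/-- An extraspecial group with the properties `Ext` is large once some involution of it behaves like a conjugate
of its centre. -/
theorem isLarge_of_ext (h : Spor.ExtraPair.Ext z Q) (hQ2 : IsPGroup 2 Q) {u : G} (hu : u ∈ Q)
    (hu1 : u ≠ 1) (huz : u ≠ z) (huu : u * u = 1)
    (hkey : ∀ x, x * u = u * x → ∃ k : ℕ, (z * x * z⁻¹ * x⁻¹) ^ 2 ^ k = 1) : Cfsg.IsLargeExtraspecial Q := by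
  refine ⟨isExtraspecial_of_ext h hQ2 hu hu1 huz, le_antisymm (fun c hc => ?_) ?_, ?_, fun X hXodd hXQ => ?_⟩
  · have hcc : ∀ q ∈ Q, q * c = c * q := fun q hq => Subgroup.mem_centralizer_iff.1 hc q hq
    exact ⟨⟨c, h.self c hcc⟩, Subgroup.mem_center_iff.2 fun q => Subtype.ext (hcc q q.2), rfl⟩
  · rintro _ ⟨c, hc, rfl⟩
    exact Subgroup.mem_centralizer_iff.2 fun q hq =>
      congrArg Subtype.val (Subgroup.mem_center_iff.1 hc ⟨q, hq⟩)
  · intro c hc
    have hzZ : z ∈ (Subgroup.center ↥Q).map Q.subtype :=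
      ⟨⟨z, h.mem⟩, Subgroup.mem_center_iff.2 fun q => Subtype.ext (h.central q q.2), rfl⟩
    have hcz : c * z = z * c := (Subgroup.mem_centralizer_iff.1 hc z hzZ).symm
    have hcz' : c⁻¹ * z = z * c⁻¹ := (show Commute c z from hcz).inv_left
    refine Subgroup.mem_normalizer_iff.2 fun q => ⟨fun hq => h.norm c hcz q hq, fun hq => ?_⟩
    have := h.norm c⁻¹ hcz' _ hq
    simpa [mul_assoc] using this
  · have hXn : ∀ q ∈ Q, ∀ x ∈ X, q * x * q⁻¹ ∈ X := fun q hq x hx =>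
      (Subgroup.mem_normalizer_iff.1 (hXQ hq) x).1 hx
    have hXQ1 : ∀ y ∈ X, y ∈ Q → y = 1 := fun y hy hyQ => by
      obtain ⟨m, hm⟩ := hQ2 ⟨y, hyQ⟩
      have h2 : orderOf y ∣ 2 ^ m := orderOf_dvd_of_pow_eq_one (congrArg Subtype.val hm)
      have h3 : orderOf y ∣ Nat.card X := Subgroup.orderOf_dvd_natCard _ hy
      exact orderOf_eq_one_iff.1 (Nat.eq_one_of_dvd_coprimes
        (Nat.Coprime.pow_right m (hXodd.coprime_two_right)) h3 h2)
    refine eq_bot_of_free h hu hu1 huz huu hkey X hXn fun x hx hzx =>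
      hXQ1 x hx (h.self x fun q hq => ?_)
    have h1 : q * x * q⁻¹ * x⁻¹ = 1 := hXQ1 _ (mul_mem (hXn q hq x hx) (inv_mem hx)) (by
      rw [show q * x * q⁻¹ * x⁻¹ = q * (x * q⁻¹ * x⁻¹) by group]
      exact mul_mem hq (h.norm x hzx.symm _ (inv_mem hq)))
    exact mul_inv_eq_iff_eq_mul.1 (mul_inv_eq_one.1 h1)

/-- The image of a subgroup `P` of `Q` in a section `D / N`. -/
theorem isLarge_image (h : Spor.ExtraPair.Ext z Q) (hQ2 : IsPGroup 2 Q) {D P : Subgroup G} (N : Subgroup D)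
    [N.Normal] (hPQ : P ≤ Q) (hPD : P ≤ D) (hzP : z ∈ P) (hzN : (⟨z, hPD hzP⟩ : D) ∉ N)
    (hself : ∀ c : D, (∀ p : D, (p : G) ∈ P → c * p * c⁻¹ * p⁻¹ ∈ N) → c ∈ N ∨ c * ⟨z, hPD hzP⟩ ∈ N)
    (hnorm : ∀ c : D, c * ⟨z, hPD hzP⟩ * c⁻¹ * (⟨z, hPD hzP⟩ : D)⁻¹ ∈ N → ∀ p : D, (p : G) ∈ P →
      ((c * p * c⁻¹ : D) : G) ∈ P)
    {u : G} (hu : u ∈ P) (hu1 : (⟨u, hPD hu⟩ : D) ∉ N) (huz : (⟨u, hPD hu⟩ : D) * ⟨z, hPD hzP⟩ ∉ N)
    (huu : u * u = 1)
    (hkey : ∀ c : D, c * ⟨u, hPD hu⟩ * c⁻¹ * (⟨u, hPD hu⟩ : D)⁻¹ ∈ N →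
      ∃ k : ℕ, (z * (c : G) * z⁻¹ * (c : G)⁻¹) ^ 2 ^ k = 1) :
    Cfsg.IsLargeExtraspecial ((P.subgroupOf D).map (QuotientGroup.mk' N)) := by
  obtain ⟨f, hf⟩ : ∃ f : D →* D ⧸ N, f = QuotientGroup.mk' N := ⟨_, rfl⟩
  rw [← hf]
  have hk : ∀ x : D, f x = 1 ↔ x ∈ N := fun x => by rw [hf]; exact QuotientGroup.eq_one_iff x
  have hc : ∀ x y : D, f x * f y = f y * f x ↔ x * y * x⁻¹ * y⁻¹ ∈ N := fun x y => by
    rw [← hk, map_mul, map_mul, map_mul, map_inv, map_inv, mul_inv_eq_one, mul_inv_eq_iff_eq_mul]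
  obtain ⟨z', hz'⟩ : ∃ z', z' = (⟨z, hPD hzP⟩ : D) := ⟨_, rfl⟩
  rw [← hz'] at hzN hself hnorm huz
  have hz'v : (z' : G) = z := by rw [hz']
  have hz'P : (z' : G) ∈ P := hz'v ▸ hzP
  have hfz : f z' * f z' = 1 := by
    rw [← map_mul, show z' * z' = 1 from Subtype.ext (by simp [hz'v, h.zz]), map_one]
  have hfzi : (f z')⁻¹ = f z' := inv_eq_of_mul_eq_one_right hfz
  have hor : ∀ c : D, (∀ p : D, (p : G) ∈ P → f c * f p = f p * f c) → f c = 1 ∨ f c = f z' := fun c hcp => by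
    rcases hself c (fun p hp => (hc c p).1 (hcp p hp)) with e | e
    · exact Or.inl ((hk c).2 e)
    · refine Or.inr ?_
      have := (hk _).2 e
      rw [map_mul] at this
      rw [← hfzi]
      exact eq_inv_of_mul_eq_one_left this
  have hext : Spor.ExtraPair.Ext (f z') ((P.subgroupOf D).map f) := by
    refine ⟨⟨z', hz'P, rfl⟩, fun e => hzN ((hk z').1 e), hfz, ?_, ?_, ?_, ?_, ?_, ?_⟩
    · rintro _ ⟨q, hq, rfl⟩
      rw [← map_mul, ← map_mul]
      exact congrArg f (Subtype.ext (by simpa [hz'v] using h.central _ (hPQ hq)))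
    · rintro _ ⟨x, hx, rfl⟩ _ ⟨y, hy, rfl⟩
      rw [← map_commutatorElement]
      rcases h.comm x (hPQ hx) y (hPQ hy) with e | e
      · left; rw [show ⁅x, y⁆ = 1 from Subtype.ext e, map_one]
      · right; exact congrArg f (Subtype.ext (e.trans hz'v.symm))
    · rintro _ ⟨x, hx, rfl⟩
      rw [← map_mul]
      rcases h.sq x (hPQ hx) with e | e
      · left; rw [show x * x = 1 from Subtype.ext e, map_one]
      · right; exact congrArg f (Subtype.ext (e.trans hz'v.symm))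
    · rintro _ ⟨x, hx, rfl⟩ hcx
      exact hor x fun p hp => (hcx _ ⟨p, hp, rfl⟩).symm
    · intro c hcx
      obtain ⟨c, rfl⟩ : ∃ d, f d = c := by rw [hf]; exact QuotientGroup.mk'_surjective N c
      rcases hor c fun p hp => (hcx _ ⟨p, hp, rfl⟩).symm with e | e
      · rw [e]; exact one_mem _
      · rw [e]; exact ⟨z', hz'P, rfl⟩
    · rintro c hcx _ ⟨q, hq, rfl⟩
      obtain ⟨c, rfl⟩ : ∃ d, f d = c := by rw [hf]; exact QuotientGroup.mk'_surjective N c
      exact ⟨c * q * c⁻¹, hnorm c ((hc c z').1 hcx) q hq, by rw [map_mul, map_mul, map_inv]⟩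
  refine isLarge_of_ext hext ((IsPGroup.of_equiv (hQ2.to_le hPQ)
    (Subgroup.subgroupOfEquivOfLe hPD).symm).map f) (u := f ⟨u, hPD hu⟩) ⟨_, hu, rfl⟩
    (fun e => hu1 ((hk _).1 e)) (fun e => huz ((hk _).1 (by rw [map_mul, e, hfz]))) ?_ fun x hx => ?_
  · rw [← map_mul, show (⟨u, hPD hu⟩ : D) * ⟨u, hPD hu⟩ = 1 from Subtype.ext huu, map_one]
  · obtain ⟨c, rfl⟩ : ∃ d, f d = x := by rw [hf]; exact QuotientGroup.mk'_surjective N x
    obtain ⟨k, hk'⟩ := hkey c ((hc c _).1 hx)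
    refine ⟨k, ?_⟩
    rw [← map_inv, ← map_inv, ← map_mul, ← map_mul, ← map_mul, ← map_pow,
      show (z' * c * z'⁻¹ * c⁻¹) ^ 2 ^ k = 1 from Subtype.ext (by simpa [hz'v] using hk'), map_one]

/-- A conjugate of `z` in `Q` has a centraliser in which the commutators with `z` are `2`-elements. -/
theorem key_of_conj (h : Spor.ExtraPair.Ext z Q) (hQ2 : IsPGroup 2 Q) (hbig : 8 < Nat.card Q) {g : G}
    (hb : g * z * g⁻¹ ∈ Q) (hne : g * z * g⁻¹ ≠ z) :
    z ∈ Q.map (MulAut.conj g).toMonoidHom ∧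
      ∀ x, x * (g * z * g⁻¹) = g * z * g⁻¹ * x → ∃ k : ℕ, (z * x * z⁻¹ * x⁻¹) ^ 2 ^ k = 1 := by
  have hnc := centralizer_not_comm h hbig hb (fun e => h.ne (conj_eq_one_iff.1 e)) hne
  simp only [not_forall] at hnc
  obtain ⟨a, ha, hau, b, hb', hbu, hab⟩ := hnc
  have hzP : z ∈ Q.map (MulAut.conj g).toMonoidHom := h.mem_pair hb ⟨a, ha, hau, b, hb', hbu, hab⟩
  refine ⟨hzP, fun x hx => ?_⟩
  have hmem : z * x * z⁻¹ * x⁻¹ ∈ Q.map (MulAut.conj g).toMonoidHom := by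
    rw [show z * x * z⁻¹ * x⁻¹ = z * (x * z⁻¹ * x⁻¹) by group]
    exact mul_mem hzP ((h.map_conj g).norm x hx _ (inv_mem hzP))
  obtain ⟨m, hm⟩ := (hQ2.map (MulAut.conj g).toMonoidHom) ⟨_, hmem⟩
  exact ⟨m, congrArg Subtype.val hm⟩

/-- Moving `b` to `z` by a product of an element of `Q` and one of the conjugate group. -/
theorem conj_pair {b q r : G} {P : Subgroup G} (h : Spor.ExtraPair.Ext z Q) (h' : Spor.ExtraPair.Ext b P)
    (hb : b ∈ Q) (hz : z ∈ P) (hq : q ∈ Q) (hqb : ¬ q * b = b * q) (hr : r ∈ P) (hrz : ¬ r * z = z * r) :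
    r⁻¹ * q * b * (r⁻¹ * q)⁻¹ = z := by
  have e1 := ((h.conj_cases hb hq).resolve_left hqb).2
  have e2 := ((h'.conj_cases hz hr).resolve_left hrz).2
  calc r⁻¹ * q * b * (r⁻¹ * q)⁻¹ = r⁻¹ * (q * b * q⁻¹) * r := by group
    _ = r⁻¹ * (z * b) * r := by rw [e1, ← (h.central b hb)]
    _ = r⁻¹ * (r * z * r⁻¹) * r := by rw [e2]
    _ = z := by group

/-- The centre of the fixed points of a coprime group lies in the centre. -/
theorem fixed_center (h : Spor.ExtraPair.Ext z Q) (hQ2 : IsPGroup 2 Q) (A : Subgroup G) (hA : Odd (Nat.card A))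
    (hAz : ∀ a ∈ A, a * z = z * a) {x : G} (hx : x ∈ Q) (hxA : ∀ a ∈ A, a * x = x * a)
    (hxC : ∀ q ∈ Q, (∀ a ∈ A, a * q = q * a) → q * x = x * q) : x = 1 ∨ x = z := by
  haveI : Fact (Nat.Prime 2) := ⟨Nat.prime_two⟩
  have hAQ : A ≤ Subgroup.normalizer (Q : Set G) := fun a ha => mem_normalizer_iff.2 fun q =>
    ⟨fun hq => h.norm a (hAz a ha) q hq, fun hq => by
      simpa [mul_assoc] using h.norm a⁻¹ (Commute.inv_left (show Commute a z from hAz a ha)).eq _ hq⟩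
  obtain ⟨n, hn⟩ := IsPGroup.iff_card.1 hQ2
  have hcop : (Nat.card A).Coprime (Nat.card Q) := hn ▸ Nat.Coprime.pow_right n hA.coprime_two_right
  haveI : Group.IsNilpotent Q := hQ2.isNilpotent
  have hsolv : Group.IsSolvable Q := inferInstance
  have hcom : ⁅Q, A⁆ ≤ centralizer ({x} : Set G) := by
    rw [Subgroup.commutator_le]
    intro k hk a ha
    refine mem_centralizer_singleton_iff.2 (Commute.symm ?_).eq
    refine mul_inv_eq_iff_eq_mul.1 ?_
    have hax : x * a * x⁻¹ = a := by rw [← hxA a ha, mul_inv_cancel_right]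
    have hk' : x * k * x⁻¹ = k ∨ x * k * x⁻¹ = k * z := h.conj_eq hk hx
    calc x * ⁅k, a⁆ * x⁻¹ = ⁅x * k * x⁻¹, x * a * x⁻¹⁆ := by simp only [commutatorElement_def]; group
      _ = ⁅k, a⁆ := by
        rw [hax]
        rcases hk' with e | e <;> rw [e]
        simp only [commutatorElement_def]
        calc k * z * a * (k * z)⁻¹ * a⁻¹ = k * (z * a) * z⁻¹ * k⁻¹ * a⁻¹ := by group
          _ = k * (a * z) * z⁻¹ * k⁻¹ * a⁻¹ := by rw [hAz a ha]
          _ = _ := by group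
  refine h.cen x hx fun q hq => ?_
  obtain ⟨m, hm, c, ⟨hcQ, hcA⟩, rfl⟩ := exists_commutator_mul_fixed A Q hAQ hcop (Or.inr hsolv) hq
  have e1 : m * x = x * m := mem_centralizer_singleton_iff.1 (hcom hm)
  have e2 : c * x = x * c := hxC c hcQ fun a ha => mem_centralizer_iff.1 hcA a ha
  exact ((show Commute m x from e1).mul_left (show Commute c x from e2)).eq

/-- A central involution in a group of order twice an odd number. -/
theorem mem_or_mul_mem_oddCore {Y : Type*} [Group Y] [Finite Y] {w : Y} (hw : orderOf w = 2)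
    (hwc : ∀ y, y * w = w * y) (h4 : ¬ 4 ∣ Nat.card Y) (y : Y) :
    y ∈ Cfsg.oddCore Y ∨ y * w ∈ Cfsg.oddCore Y := by
  haveI : Fact (Nat.Prime 2) := ⟨Nat.prime_two⟩
  obtain ⟨P, hP⟩ := (IsPGroup.of_card (n := 1) (by rw [Nat.card_zpowers, hw, pow_one]) :
    IsPGroup 2 (zpowers w)).exists_le_sylow
  obtain ⟨n, hn⟩ := IsPGroup.iff_card.1 P.isPGroup'
  have hn1 : n ≤ 1 := by
    by_contra hlt
    exact h4 ((pow_dvd_pow 2 (by omega : 2 ≤ n)).trans (hn ▸ Subgroup.card_subgroup_dvd_card _))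
  have hPe : (P : Subgroup Y) = zpowers w := by
    refine (Subgroup.eq_of_le_of_card_ge hP ?_).symm
    rw [Nat.card_zpowers, hw, hn]
    calc 2 ^ n ≤ 2 ^ 1 := Nat.pow_le_pow_right (by norm_num) hn1
      _ = 2 := pow_one 2
  have hc : Subgroup.normalizer ((P : Subgroup Y) : Set Y) ≤ centralizer ((P : Subgroup Y) : Set Y) :=
    fun y _ => mem_centralizer_iff.2 fun v hv => by
      rw [SetLike.mem_coe, hPe] at hv
      obtain ⟨k, rfl⟩ := hv
      exact ((show Commute y w from hwc y).symm.zpow_left k).eq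
  have hK : (MonoidHom.transferSylow P hc).ker ≤ Cfsg.oddCore Y := Grp.le_pPrimeCore inferInstance
    ((Nat.Prime.coprime_iff_not_dvd Nat.prime_two).2 (MonoidHom.not_dvd_card_ker_transferSylow P hc)).symm
  obtain ⟨⟨k, v⟩, rfl⟩ := (MonoidHom.ker_transferSylow_isComplement' P hc).2 y
  have hvw : (v : Y) ∈ zpowers w := hPe ▸ v.2
  have hww : w * w = 1 := by rw [← pow_two, ← hw, pow_orderOf_eq_one]
  rcases mem_zpowers_cases hww hvw with e | e
  · exact Or.inl (by simpa [e] using hK k.2)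
  · exact Or.inr (by simpa [e, mul_assoc, hww] using hK k.2)

end Cfsg.Agent.Grp.ExtraCentSimple
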