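import Mathlib

/-!
Helpers for cyclic operators of prime power order: periods, eigenvectors, orbit sums, and the order of
two modulo Fermat-type prime powers.
-/

set_option autoImplicit false

namespace Cfsg.Agent.Grp.CyclicShift

open Module
open scoped commutatorElement

/-- A period set modulo `h` containing `d` contains `gcd d h`. -/
theorem period_gcd {h d : ℕ} [NeZero h] {P : ℕ → Prop} (h0 : P 0) (hadd : ∀ a b, P a → P b → P (a + b))
    (hmod : ∀ a, P a → P (a % h)) (hd : P d) : P (Nat.gcd d h % h) := by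
  have hmul : ∀ k : ℕ, P (d * k) := by
    intro k
    induction k with
    | zero => simpa using h0
    | succ k ih => rw [Nat.mul_succ]; exact hadd _ _ ih hd
  have h1 := hmod _ (hmul ((Nat.gcdA d h : ℤ) : ZMod h).val)
  convert h1 using 1
  have e : ((Nat.gcd d h : ℕ) : ZMod h) = ((d * ((Nat.gcdA d h : ℤ) : ZMod h).val : ℕ) : ZMod h) := by
    have e1 := congrArg (fun t : ℤ => (t : ZMod h)) (Nat.gcd_eq_gcd_ab d h)
    simp only [Int.cast_add, Int.cast_mul, Int.cast_natCast, ZMod.natCast_self, zero_mul, add_zero] at e1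
    rw [Nat.cast_mul, ZMod.natCast_val, ZMod.cast_id', id_eq]
    exact e1
  exact (ZMod.natCast_eq_natCast_iff' _ _ _).mp e

/-- A period set modulo `p ^ m` containing a non-multiple of `p ^ m` contains `p ^ (m - 1)`. -/
theorem period_prime_pow {p m d : ℕ} (hp : p.Prime) {P : ℕ → Prop} (h0 : P 0)
    (hadd : ∀ a b, P a → P b → P (a + b)) (hmod : ∀ a, P a → P (a % p ^ m)) (hd : P d)
    (hnd : ¬ p ^ m ∣ d) : P (p ^ (m - 1)) := by
  haveI : NeZero (p ^ m) := ⟨pow_ne_zero _ hp.ne_zero⟩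
  have h1 := period_gcd h0 hadd hmod hd
  obtain ⟨i, hi, hi'⟩ := (Nat.dvd_prime_pow hp).mp (Nat.gcd_dvd_right d (p ^ m))
  have him : i < m := lt_of_le_of_ne hi fun e => hnd (e ▸ hi' ▸ Nat.gcd_dvd_left d (p ^ m))
  rw [hi', Nat.mod_eq_of_lt (Nat.pow_lt_pow_right hp.one_lt him)] at h1
  have hmul : ∀ k : ℕ, P (p ^ i * k) := by
    intro k
    induction k with
    | zero => simpa using h0
    | succ k ih => rw [Nat.mul_succ]; exact hadd _ _ ih h1
  have h2 := hmul (p ^ (m - 1 - i))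
  rwa [← pow_add, show i + (m - 1 - i) = m - 1 by omega] at h2

variable {K : Type*} [Field K] {V : Type*} [AddCommGroup V] [Module K V]

/-- Simultaneous eigenvectors with distinct eigenvalue functions are independent. -/
theorem eq_zero_of_sum_eq_zero {ι α : Type*} (T : α → Module.End K V) (c : ι → α → K) (u : ι → V)
    (s : Finset ι) (hc : ∀ j ∈ s, ∀ a, T a (u j) = c j a • u j) (hinj : Set.InjOn c s)
    (hs : ∑ j ∈ s, u j = 0) : ∀ j ∈ s, u j = 0 := by
  classical
  induction hn : s.card using Nat.strong_induction_on generalizing s u with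
  | _ n ih =>
  intro j₁ hj₁
  by_cases hone : ∀ g ∈ s, g = j₁
  · rwa [Finset.sum_eq_single_of_mem j₁ hj₁ (fun g hg hne => absurd (hone g hg) hne)] at hs
  push Not at hone
  obtain ⟨j₂, hj₂, hne⟩ := hone
  obtain ⟨a, ha⟩ : ∃ a, c j₁ a ≠ c j₂ a := by
    by_contra hh
    push Not at hh
    exact hne (hinj hj₂ hj₁ (funext hh).symm)
  have hnew : ∑ j ∈ s.erase j₂, (c j a - c j₂ a) • u j = 0 := by
    rw [Finset.sum_erase _ (by rw [sub_self, zero_smul])]
    simp only [sub_smul, Finset.sum_sub_distrib]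
    rw [← Finset.smul_sum, hs, smul_zero, sub_zero, Finset.sum_congr rfl (fun j hj => (hc j hj a).symm),
      ← map_sum, hs, map_zero]
  have h3 := ih _ (hn ▸ Finset.card_erase_lt_of_mem hj₂) (fun j => (c j a - c j₂ a) • u j) (s.erase j₂)
    (fun j hj b => by rw [map_smul, hc j (Finset.mem_of_mem_erase hj) b, smul_comm])
    (hinj.mono (Finset.coe_subset.mpr (Finset.erase_subset _ _))) hnew rfl j₁
    (Finset.mem_erase.mpr ⟨Ne.symm hne, hj₁⟩)
  exact (smul_eq_zero.mp h3).resolve_left (sub_ne_zero.mpr ha)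

/-- Splitting a sum over a range of length `N * h` into blocks. -/
theorem sum_range_mul {M : Type*} [AddCommMonoid M] (f : ℕ → M) (N h : ℕ) :
    ∑ i ∈ Finset.range (N * h), f i = ∑ b ∈ Finset.range h, ∑ a ∈ Finset.range N, f (N * b + a) := by
  induction h with
  | zero => simp
  | succ h ih => rw [Nat.mul_succ, Finset.sum_range_add, ih, Finset.sum_range_succ]

/-- Splitting a product over a range of length `N * h` into blocks. -/
theorem prod_range_mul {M : Type*} [CommMonoid M] (f : ℕ → M) (N h : ℕ) :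
    ∏ i ∈ Finset.range (N * h), f i = ∏ b ∈ Finset.range h, ∏ a ∈ Finset.range N, f (N * b + a) := by
  induction h with
  | zero => simp
  | succ h ih => rw [Nat.mul_succ, Finset.prod_range_add, ih, Finset.prod_range_succ]

variable [IsAlgClosed K] [FiniteDimensional K V] {Γ : Type*} [Group Γ] [Finite Γ]

/-- A group acting commutatively on an invariant subspace in coprime characteristic is diagonalizable. -/
theorem mem_span_eigen (ρ : Γ →* Module.End K V) (A : Subgroup Γ) (hA : (Nat.card A : K) ≠ 0)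
    (W : Submodule K V) (hW : ∀ a ∈ A, ∀ v ∈ W, ρ a v ∈ W)
    (hcomm : ∀ a ∈ A, ∀ b ∈ A, ∀ v ∈ W, ρ a (ρ b v) = ρ b (ρ a v)) :
    W ≤ Submodule.span K {w | w ∈ W ∧ ∀ a ∈ A, ∃ c : K, ρ a w = c • w} := by
  induction hn : finrank K W using Nat.strong_induction_on generalizing W with
  | _ n ih =>
  by_cases hsc : ∀ a ∈ A, ∃ c : K, ∀ v ∈ W, ρ a v = c • v
  · intro v hv
    exact Submodule.subset_span ⟨hv, fun a ha => let ⟨c, hc⟩ := hsc a ha; ⟨c, hc v hv⟩⟩
  push Not at hsc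
  obtain ⟨a, ha, hne⟩ := hsc
  set N := Nat.card A with hN
  haveI : NeZero (N : K) := ⟨hA⟩
  haveI : NeZero N := ⟨Nat.card_pos.ne'⟩
  obtain ⟨η, hη⟩ := HasEnoughRootsOfUnity.exists_primitiveRoot K N
  set T := ρ a with hT
  have hTN : T ^ N = 1 := by
    rw [hT, ← map_pow, ← map_one ρ]
    congr 1
    have := congrArg Subtype.val (pow_card_eq_one' (x := (⟨a, ha⟩ : A)))
    simpa only [Subgroup.coe_pow, Subgroup.coe_one] using this
  intro v hv
  let w : ℕ → V := fun i => ∑ t ∈ Finset.range N, (η ^ i) ^ t • (T ^ t) v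
  have hTv : ∀ (t : ℕ), (T ^ t) v ∈ W := by
    intro t
    induction t with
    | zero => simpa using hv
    | succ t iht => rw [pow_succ', Module.End.mul_apply]; exact hW a ha _ iht
  have hwW : ∀ i, w i ∈ W := fun i => Submodule.sum_mem _ fun t _ => Submodule.smul_mem _ _ (hTv t)
  have hwT : ∀ i, η ^ i • T (w i) = w i := by
    intro i
    simp only [w, map_sum, map_smul, Finset.smul_sum, smul_smul, ← pow_succ']
    rw [Finset.sum_congr rfl (fun t _ => by rw [← Module.End.mul_apply, ← pow_succ'] :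
      ∀ t ∈ Finset.range N, (η ^ i) ^ (t + 1) • T ((T ^ t) v) = (η ^ i) ^ (t + 1) • (T ^ (t + 1)) v)]
    have h1 := Finset.sum_range_succ' (fun t => (η ^ i) ^ t • (T ^ t) v) N
    rw [Finset.sum_range_succ, hTN, ← pow_mul η i N, mul_comm i N, pow_mul, hη.pow_eq_one, one_pow, pow_zero,
      pow_zero] at h1
    exact (add_right_cancel h1).symm
  have hsum : ∑ i ∈ Finset.range N, w i = (N : K) • v := by
    simp only [w]
    rw [Finset.sum_comm, Finset.sum_eq_single_of_mem 0 (Finset.mem_range.mpr (NeZero.pos N))]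
    · simp [Nat.cast_smul_eq_nsmul]
    · intro t ht ht0
      rw [← Finset.sum_smul]
      have h1 : η ^ t ≠ 1 := hη.pow_ne_one_of_pos_of_lt ht0 (Finset.mem_range.mp ht)
      have h2 := geom_sum_mul (η ^ t) N
      rw [← pow_mul, mul_comm t N, pow_mul, hη.pow_eq_one, one_pow, sub_self] at h2
      rw [Finset.sum_congr rfl (fun i _ => (pow_right_comm η i t)),
        (mul_eq_zero.mp h2).resolve_right (sub_ne_zero.mpr h1), zero_smul]
  have hv' : v = (N : K)⁻¹ • ∑ i ∈ Finset.range N, w i := by rw [hsum, inv_smul_smul₀ hA]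
  rw [hv']
  refine Submodule.smul_mem _ _ (Submodule.sum_mem _ fun i _ => ?_)
  set S : Submodule K V := W ⊓ Module.End.eigenspace T (η ^ i)⁻¹ with hS
  have hηi : η ^ i ≠ 0 := pow_ne_zero _ (hη.ne_zero (NeZero.ne N))
  have hwS : w i ∈ S := by
    refine Submodule.mem_inf.mpr ⟨hwW i, Module.End.mem_eigenspace_iff.mpr ?_⟩
    conv_rhs => rw [← hwT i, inv_smul_smul₀ hηi]
  have hlt : S < W := by
    refine lt_of_le_of_ne inf_le_left fun e => ?_
    obtain ⟨u, hu, hu'⟩ := hne ((η ^ i)⁻¹)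
    rw [← e] at hu
    exact hu' (Module.End.mem_eigenspace_iff.mp (Submodule.mem_inf.mp hu).2)
  have hSW : ∀ b ∈ A, ∀ u ∈ S, ρ b u ∈ S := by
    intro b hb u hu
    obtain ⟨huW, huE⟩ := Submodule.mem_inf.mp hu
    refine Submodule.mem_inf.mpr ⟨hW b hb u huW, Module.End.mem_eigenspace_iff.mpr ?_⟩
    rw [hT, hcomm a ha b hb u huW, ← hT, Module.End.mem_eigenspace_iff.mp huE, map_smul]
  refine Submodule.span_mono ?_ (ih (finrank K S) (hn ▸ Submodule.finrank_lt_finrank_of_lt hlt) S hSW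
    (fun b hb b' hb' u hu => hcomm b hb b' hb' u (Submodule.mem_inf.mp hu).1) rfl hwS)
  exact fun u hu => ⟨(Submodule.mem_inf.mp hu.1).1, hu.2⟩

/-- If the orbit sum of a common eigenvector under `⟨x⟩` vanishes, the element of order `p` of `⟨x⟩` does
not move its character. -/
theorem eigen_fixed (ρ : Γ →* Module.End K V) {p m : ℕ} (hp : p.Prime) (x : Γ) (hx : x ^ (p ^ m) = 1)
    (A : Subgroup Γ) (hxA : x ∈ Subgroup.normalizer (A : Set Γ)) (v : V)
    (hv : ∀ a ∈ A, ∃ c : K, ρ a v = c • v) (hsum : ∑ b ∈ Finset.range (p ^ m), ρ (x ^ b) v = 0) :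
    ∀ a ∈ A, ρ ((x ^ p ^ (m - 1))⁻¹ * a * x ^ p ^ (m - 1)) v = ρ a v := by
  classical
  by_cases hv0 : v = 0
  · intro a _; simp [hv0]
  choose c hc using hv
  have hconj : ∀ (i : ℕ) a, a ∈ A → (x ^ i)⁻¹ * a * x ^ i ∈ A := by
    intro i a ha
    have h1 := (Subgroup.mem_normalizer_iff.mp (Subgroup.inv_mem _ (Subgroup.pow_mem _ hxA i)) a).mp ha
    simpa using h1
  let P : ℕ → Prop := fun d => ∀ a (ha : a ∈ A), c ((x ^ d)⁻¹ * a * x ^ d) (hconj d a ha) = c a ha
  have h0 : P 0 := fun a ha => by congr 1; simp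
  have hadd : ∀ i j, P i → P j → P (i + j) := by
    intro i j hi hj a ha
    rw [← hi a ha, ← hj _ (hconj i a ha)]
    congr 1
    rw [pow_add]; group
  have hmod : ∀ d, P d → P (d % p ^ m) := by
    intro d hd a ha
    rw [← hd a ha]
    congr 1
    rw [← pow_eq_pow_mod d hx]
  by_cases hP : P (p ^ (m - 1))
  · intro a ha
    rw [hc _ (hconj _ a ha), hP a ha, ← hc a ha]
  exfalso
  refine hv0 ?_
  have h1 := eq_zero_of_sum_eq_zero (fun a : ↥A => ρ (a : Γ))
    (fun (b : ℕ) (a : ↥A) => c ((x ^ b)⁻¹ * a * x ^ b) (hconj b a a.2)) (fun b => ρ (x ^ b) v)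
    (Finset.range (p ^ m)) (fun b _ a => by
      rw [← map_smul, ← hc _ (hconj b a a.2), ← Module.End.mul_apply, ← map_mul, ← Module.End.mul_apply, ← map_mul]
      congr 2
      group) ?_ hsum 0 (Finset.mem_range.mpr (pow_pos hp.pos m))
  · simpa using h1
  have key : ∀ i j : ℕ, i < j → j < p ^ m →
      (∀ a : ↥A, c ((x ^ i)⁻¹ * a * x ^ i) (hconj i a a.2) = c ((x ^ j)⁻¹ * a * x ^ j) (hconj j a a.2)) → False := by
    intro i j hlt hj hij
    refine hP (period_prime_pow hp h0 hadd hmod (d := j - i) (fun a ha => ?_) fun hd =>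
      absurd (Nat.le_of_dvd (by omega) hd) (by omega))
    have hz : x ^ i * a * (x ^ i)⁻¹ ∈ A :=
      (Subgroup.mem_normalizer_iff.mp (Subgroup.pow_mem _ hxA i) a).mp ha
    refine Eq.trans ?_ ((hij ⟨_, hz⟩).symm.trans ?_)
    · congr 1
      rw [show x ^ j = x ^ i * x ^ (j - i) by rw [← pow_add]; congr 1; omega]
      group
    · congr 1
      group
  intro i hi j hj hij
  simp only [Finset.coe_range, Set.mem_Iio] at hi hj
  rcases lt_trichotomy i j with h | h | h
  · exact (key i j h hj fun a => congrFun hij a).elim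
  · exact h
  · exact (key j i h hi fun a => (congrFun hij a).symm).elim

omit [IsAlgClosed K] [FiniteDimensional K V] in
/-- An operator on an abelian quotient `R / L` generating it by commutators acts freely. -/
theorem mem_of_commutator_mem (R L : Subgroup Γ) (t : Γ) (htR : t ∈ Subgroup.normalizer (R : Set Γ))
    (htL : t ∈ Subgroup.normalizer (L : Set Γ)) (hLR : L ≤ R) (hab : ∀ a ∈ R, ∀ b ∈ R, ⁅a, b⁆ ∈ L)
    (hgen : R ≤ ⁅R, Subgroup.zpowers t⁆) {a : Γ} (ha : a ∈ R) (hat : ⁅a, t⁆ ∈ L) : a ∈ L := by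
  classical
  set N := L.subgroupOf R with hN
  haveI hNn : N.Normal := ⟨fun l hl g => by
    have h1 : ((g * l * g⁻¹ : ↥R) : Γ) = ⁅(g : Γ), (l : Γ)⁆ * l := by
      simp only [Subgroup.coe_mul, Subgroup.coe_inv, commutatorElement_def]; group
    show ((g * l * g⁻¹ : ↥R) : Γ) ∈ L
    rw [h1]
    exact L.mul_mem (hab _ g.2 _ l.2) hl⟩
  have hcR : ∀ b ∈ R, t * b * t⁻¹ ∈ R := fun b hb => (Subgroup.mem_normalizer_iff.mp htR b).mp hb
  have hmemR : ∀ b ∈ R, ⁅b, t⁆ ∈ R := fun b hb => by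
    rw [show ⁅b, t⁆ = b * (t * b⁻¹ * t⁻¹) by rw [commutatorElement_def]; group]
    exact R.mul_mem hb (hcR _ (R.inv_mem hb))
  have hcommQ : ∀ u v : ↥R ⧸ N, u * v = v * u := by
    intro u v
    obtain ⟨u, rfl⟩ := QuotientGroup.mk_surjective u
    obtain ⟨v, rfl⟩ := QuotientGroup.mk_surjective v
    rw [← QuotientGroup.mk_mul, ← QuotientGroup.mk_mul, QuotientGroup.eq]
    show (((u * v)⁻¹ * (v * u) : ↥R) : Γ) ∈ L
    have e : (((u * v)⁻¹ * (v * u) : ↥R) : Γ) = ⁅(v : Γ)⁻¹, (u : Γ)⁻¹⁆ := by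
      simp only [Subgroup.coe_mul, Subgroup.coe_inv, commutatorElement_def]; group
    rw [e]
    exact hab _ (R.inv_mem v.2) _ (R.inv_mem u.2)
  let δ : ↥R →* ↥R ⧸ N := MonoidHom.mk' (fun b => ((⟨⁅(b : Γ), t⁆, hmemR _ b.2⟩ : ↥R) : ↥R ⧸ N)) fun b b' => by
    have e : (⟨⁅((b * b' : ↥R) : Γ), t⁆, hmemR _ (b * b').2⟩ : ↥R) =
        b * ⟨⁅(b' : Γ), t⁆, hmemR _ b'.2⟩ * b⁻¹ * ⟨⁅(b : Γ), t⁆, hmemR _ b.2⟩ := by
      refine Subtype.ext ?_
      simp only [Subgroup.coe_mul, Subgroup.coe_inv, commutatorElement_def]; group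
    rw [e, QuotientGroup.mk_mul, QuotientGroup.mk_mul, QuotientGroup.mk_mul,
      hcommQ (b : ↥R ⧸ N), mul_assoc (((⟨⁅(b' : Γ), t⁆, hmemR _ b'.2⟩ : ↥R) : ↥R ⧸ N)), ← QuotientGroup.mk_mul,
      mul_inv_cancel, QuotientGroup.mk_one, mul_one]
    exact hcommQ _ _
  have hker : N ≤ δ.ker := fun l hl => by
    show ((⟨⁅(l : Γ), t⁆, hmemR _ l.2⟩ : ↥R) : ↥R ⧸ N) = 1
    rw [QuotientGroup.eq_one_iff]
    show ⁅(l : Γ), t⁆ ∈ L
    rw [show ⁅(l : Γ), t⁆ = (l : Γ) * (t * (l : Γ)⁻¹ * t⁻¹) by rw [commutatorElement_def]; group]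
    exact L.mul_mem hl ((Subgroup.mem_normalizer_iff.mp htL _).mp (L.inv_mem hl))
  have hrange : ∀ i : ℕ, ∀ b (hb : b ∈ R) (h : ⁅b, t ^ i⁆ ∈ R), ((⟨⁅b, t ^ i⁆, h⟩ : ↥R) : ↥R ⧸ N) ∈ δ.range := by
    intro i
    induction i with
    | zero =>
      intro b hb h
      rw [show (⟨⁅b, t ^ 0⁆, h⟩ : ↥R) = 1 from Subtype.ext (by simp [commutatorElement_def]), QuotientGroup.mk_one]
      exact one_mem _
    | succ i ih =>
      intro b hb h
      -- conjugating `b` first, then peeling one factor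
      have e : ⁅b, t ^ (i + 1)⁆ = ⁅b, t⁆ * ⁅t * b * t⁻¹, t ^ i⁆ := by
        rw [commutatorElement_def, commutatorElement_def, commutatorElement_def, pow_succ]; group
      have hi : ⁅t * b * t⁻¹, t ^ i⁆ ∈ R := by
        have := R.mul_mem (R.inv_mem (hmemR b hb)) h
        rwa [e, inv_mul_cancel_left] at this
      rw [show (⟨⁅b, t ^ (i + 1)⁆, h⟩ : ↥R) = ⟨⁅b, t⁆, hmemR b hb⟩ * ⟨_, hi⟩ from Subtype.ext e,
        QuotientGroup.mk_mul]
      exact mul_mem ⟨⟨b, hb⟩, rfl⟩ (ih _ (hcR b hb) hi)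
  let S : Subgroup Γ := (δ.range.comap (QuotientGroup.mk' N)).map R.subtype
  have hRS : R ≤ S := hgen.trans (Subgroup.commutator_le.mpr fun b hb u hu => by
    obtain ⟨i, rfl⟩ := mem_powers_iff_mem_zpowers.mpr hu
    have htiR : t ^ i ∈ Subgroup.normalizer (R : Set Γ) := Subgroup.pow_mem _ htR i
    have h : ⁅b, t ^ i⁆ ∈ R := by
      rw [show ⁅b, t ^ i⁆ = b * (t ^ i * b⁻¹ * (t ^ i)⁻¹) by rw [commutatorElement_def]; group]
      exact R.mul_mem hb ((Subgroup.mem_normalizer_iff.mp htiR _).mp (R.inv_mem hb))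
    exact ⟨⟨_, h⟩, hrange i b hb h, rfl⟩)
  let δq : ↥R ⧸ N →* ↥R ⧸ N := QuotientGroup.lift N δ hker
  have hsurj : Function.Surjective δq := by
    intro u
    obtain ⟨u, rfl⟩ := QuotientGroup.mk_surjective u
    obtain ⟨u', hu', e⟩ := hRS u.2
    obtain ⟨b, hb⟩ := hu'
    exact ⟨(b : ↥R ⧸ N), by rw [← Subtype.ext e]; exact hb⟩
  haveI : Finite (↥R ⧸ N) := inferInstance
  have hinj := Finite.injective_iff_surjective.mpr hsurj
  have h1 : δq ((⟨a, ha⟩ : ↥R) : ↥R ⧸ N) = δq 1 := by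
    rw [map_one]
    show ((⟨⁅a, t⁆, hmemR a ha⟩ : ↥R) : ↥R ⧸ N) = 1
    rw [QuotientGroup.eq_one_iff]
    exact hat
  exact (QuotientGroup.eq_one_iff (⟨a, ha⟩ : ↥R)).mp (hinj h1)

omit [IsAlgClosed K] [FiniteDimensional K V] in
/-- A permutation of order dividing `p ^ n` whose `p ^ (n - 1)`-th power has one fixed point. -/
theorem dvd_card_sub_one {α : Type*} [Finite α] (f : Equiv.Perm α) (o : α) {p n : ℕ} (hp : p.Prime)
    (hn : 1 ≤ n) (hfo : f o = o) (hf : f ^ (p ^ n) = 1) (hfix : ∀ a, (f ^ (p ^ (n - 1))) a = a → a = o) :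
    p ^ n ∣ Nat.card α - 1 := by
  classical
  by_cases htriv : ∀ a, a = o
  · have : Nat.card α = 1 := by
      haveI : Nonempty α := ⟨o⟩
      haveI : Subsingleton α := ⟨fun a b => (htriv a).trans (htriv b).symm⟩
      exact Nat.card_unique
    simp [this]
  push Not at htriv
  obtain ⟨a₀, ha₀⟩ := htriv
  have hper : ∀ a, a ≠ o → ∀ i : ℕ, (f ^ i) a = a → p ^ n ∣ i := by
    intro a ha i hi
    by_contra hnd
    refine ha (hfix a (period_prime_pow (P := fun i => (f ^ i) a = a) hp (by simp) (fun i j hi hj => ?_)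
      (fun i hi => ?_) hi hnd))
    · rw [pow_add, Equiv.Perm.mul_apply, hj, hi]
    · rw [← pow_eq_pow_mod i hf]; exact hi
  have hord : orderOf f = p ^ n :=
    Nat.dvd_antisymm (orderOf_dvd_of_pow_eq_one hf) (hper a₀ ha₀ _ (by rw [pow_orderOf_eq_one]; rfl))
  let H := Subgroup.zpowers f
  have hgo : ∀ g : ↥H, (g : Equiv.Perm α) o = o := fun g => by
    obtain ⟨i, hi⟩ := mem_powers_iff_mem_zpowers.mpr g.2
    rw [← hi]
    show (f ^ i) o = o
    clear hi
    induction i with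
    | zero => rfl
    | succ i ih => rw [pow_succ, Equiv.Perm.mul_apply, hfo, ih]
  let X : SubMulAction ↥H α :=
    { carrier := {a | a ≠ o}
      smul_mem' := fun g a ha hc => ha ((g : Equiv.Perm α).injective (hc.trans (hgo g).symm)) }
  have hst : ∀ a : X, MulAction.stabilizer ↥H a = ⊥ := by
    rintro ⟨a, ha⟩
    rw [Subgroup.eq_bot_iff_forall]
    intro g hg
    obtain ⟨i, hi⟩ := mem_powers_iff_mem_zpowers.mpr g.2
    have h1 : (f ^ i) a = a := by
      have := congrArg Subtype.val hg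
      rw [SetLike.val_smul] at this
      rw [show f ^ i = (g : Equiv.Perm α) from hi]
      exact this
    refine Subtype.ext ?_
    rw [← hi, Subgroup.coe_one]
    exact orderOf_dvd_iff_pow_eq_one.mp (hord ▸ hper a ha i h1)
  have e := Nat.card_congr (MulAction.selfEquivOrbitsQuotientProd hst)
  rw [Nat.card_prod, show Nat.card ↥H = p ^ n by rw [Nat.card_zpowers, hord]] at e
  have hX : Nat.card X = Nat.card α - 1 := by
    show Nat.card {a : α // a ≠ o} = _
    let _ := Fintype.ofFinite α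
    rw [Nat.card_eq_fintype_card, Fintype.card_subtype_compl, Fintype.card_subtype_eq, Nat.card_eq_fintype_card]
  rw [hX] at e
  exact Dvd.intro_left _ e.symm

/-- The order of `2` modulo `p ^ (k + e)` when `p ^ k = 2 ^ m + 1`. -/
theorem two_order {p k e m D : ℕ} [hp : Fact p.Prime] (hp2 : p ≠ 2) (hk : 1 ≤ k) (hm : 2 ^ m + 1 = p ^ k)
    (hdvd : p ^ (k + e) ∣ 2 ^ D - 1) : 2 * m * p ^ e ∣ D := by
  have hodd : Odd p := hp.out.odd_of_ne_two hp2
  have hm0 : 1 ≤ m := by
    rcases Nat.eq_zero_or_pos m with rfl | hm0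
    · exfalso
      have h3 : p ∣ 2 := by
        have h4 : p ∣ p ^ k := dvd_pow_self p (by omega)
        rw [← hm] at h4
        simpa using h4
      exact hp2 ((Nat.prime_dvd_prime_iff_eq hp.out Nat.prime_two).mp h3)
    · exact hm0
  have hph : p ∣ 2 ^ (2 * m) - 1 ∧ padicValNat p (2 ^ (2 * m) - 1) = k := by
    obtain ⟨y, hy⟩ : ∃ y, 2 ^ m = y + 1 := ⟨2 ^ m - 1, by have := Nat.two_pow_pos m; omega⟩
    have e1 : 2 ^ (2 * m) - 1 = p ^ k * y := by
      have e2 : 2 ^ (2 * m) = p ^ k * y + 1 := by rw [mul_comm, pow_mul, sq, hy, ← hm, hy]; ring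
      omega
    have hy0 : y ≠ 0 := by
      rintro rfl
      have : 2 ^ 1 ≤ 2 ^ m := Nat.pow_le_pow_right (by norm_num) hm0
      omega
    have hpy : ¬ p ∣ y := by
      intro h
      have h1 : p ∣ p ^ k := dvd_pow_self p (by omega)
      rw [← hm, hy] at h1
      exact hp2 ((Nat.prime_dvd_prime_iff_eq hp.out Nat.prime_two).mp
        (by simpa [add_assoc] using (Nat.dvd_add_right h).mp h1))
    refine ⟨e1 ▸ Dvd.dvd.mul_right (dvd_pow_self p (by omega)) y, ?_⟩
    rw [e1, padicValNat.mul (pow_ne_zero _ hp.out.ne_zero) hy0, padicValNat.prime_pow,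
      padicValNat.eq_zero_of_not_dvd hpy, add_zero]
  set q := D / (2 * m) with hq
  set u := D % (2 * m) with hu
  have hD : D = 2 * m * q + u := (Nat.div_add_mod _ _).symm
  have h1 : ((2 : ZMod (p ^ k)) ^ D) = 1 := by
    have h3 : ((2 ^ D - 1 : ℕ) : ZMod (p ^ k)) = 0 :=
      (ZMod.natCast_eq_zero_iff _ _).mpr ((pow_dvd_pow p (Nat.le_add_right k e)).trans hdvd)
    rw [Nat.cast_sub (Nat.one_le_two_pow), Nat.cast_pow, sub_eq_zero, Nat.cast_one] at h3
    exact_mod_cast h3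
  have hneg : ((2 : ZMod (p ^ k)) ^ m) = -1 := by
    have h3 : (((2 ^ m + 1 : ℕ)) : ZMod (p ^ k)) = 0 := by rw [hm, ZMod.natCast_self]
    push_cast at h3
    exact eq_neg_of_add_eq_zero_left h3
  have h2 : ((2 : ZMod (p ^ k)) ^ u) = 1 := by
    rw [hD, pow_add, show 2 * m * q = m * (2 * q) by ring, pow_mul, hneg, pow_mul] at h1
    simpa using h1
  have hu0 : u = 0 := by
    by_contra hu0
    have hum : u < 2 * m := Nat.mod_lt _ (by omega)
    by_cases hle : u < m
    · have h3 : (((2 ^ u : ℕ)) : ZMod (p ^ k)) = ((1 : ℕ) : ZMod (p ^ k)) := by push_cast; exact h2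
      rw [ZMod.natCast_eq_natCast_iff', Nat.mod_eq_of_lt, Nat.mod_eq_of_lt] at h3
      · have : 2 ^ 1 ≤ 2 ^ u := Nat.pow_le_pow_right (by norm_num) (by omega)
        omega
      · have := Nat.two_pow_pos m; omega
      · have := Nat.pow_le_pow_right (show 1 ≤ 2 by norm_num) hle.le; omega
    · obtain ⟨w, hw⟩ := Nat.exists_eq_add_of_le (not_lt.mp hle)
      have h3 : (((2 ^ w + 1 : ℕ)) : ZMod (p ^ k)) = 0 := by
        push_cast
        rw [hw, pow_add, hneg] at h2
        linear_combination -h2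
      rw [ZMod.natCast_eq_zero_iff] at h3
      have := Nat.le_of_dvd (Nat.succ_pos _) h3
      have h4 : 2 ^ w < 2 ^ m := Nat.pow_lt_pow_right (by norm_num) (by omega)
      omega
  rw [hu0, add_zero] at hD
  rw [hD]
  refine Nat.mul_dvd_mul_left _ ?_
  rcases Nat.eq_zero_or_pos q with h | hq0
  · rw [h]; exact dvd_zero _
  have hlte := padicValNat.pow_sub_pow (p := p) (x := 2 ^ (2 * m)) (y := 1) hodd
    (Nat.one_lt_two_pow (by omega)) hph.1
    (fun h => hp2 ((Nat.prime_dvd_prime_iff_eq hp.out Nat.prime_two).mp (hp.out.dvd_of_dvd_pow h)))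
    hq0.ne'
  rw [one_pow, ← pow_mul, ← hD, hph.2] at hlte
  have hne : 2 ^ D - 1 ≠ 0 := by
    have : 1 < 2 ^ D := Nat.one_lt_two_pow (by rw [hD]; exact Nat.mul_ne_zero (by omega) hq0.ne')
    omega
  have h5 := (padicValNat_dvd_iff_le hne).mp hdvd
  rw [hlte] at h5
  exact (padicValNat_dvd_iff_le hq0.ne').mpr (by omega)

end Cfsg.Agent.Grp.CyclicShift
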