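import Mathlib
import Cfsg.Prelude.Def_CaseTheorems
import Cfsg.Agent.Lib.Grp.Components
import Cfsg.Agent.Lib.Grp.Quasisimple
import Cfsg.Agent.Lib.Grp.Subnormal
import Cfsg.Agent.Lib.Grp.Baer
import Cfsg.Agent.Lib.Grp.PComponents
import Cfsg.Agent.Lib.Grp.CoprimeAbelian

/-!
The odd core of the centralizer of an involution acting on a core-free group: some component is
normalized and not centralized.
-/

set_option autoImplicit false

namespace Cfsg.Agent.Grp

open Subgroup

universe u

section Perfect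

variable {D : Type*} [Group D]

/-- A map of a perfect group into its centre by commutators with an automorphism is trivial. -/
theorem perfect_fixed_of_central (hp : commutator D = ⊤) (σ : D →* D)
    (h : ∀ d, σ d * d⁻¹ ∈ Subgroup.center D) (d : D) : σ d = d := by
  let f : D →* ↥(Subgroup.center D) :=
    { toFun := fun g => ⟨σ g * g⁻¹, h g⟩
      map_one' := Subtype.ext (by simp)
      map_mul' := fun a b => Subtype.ext (by
        have hc := Subgroup.mem_center_iff.mp (h b) (σ a)
        show σ (a * b) * (a * b)⁻¹ = σ a * a⁻¹ * (σ b * b⁻¹)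
        calc σ (a * b) * (a * b)⁻¹ = σ a * (σ b * b⁻¹) * a⁻¹ := by rw [map_mul]; group
          _ = σ a * ((σ b * b⁻¹) * a⁻¹) := by group
          _ = σ a * (a⁻¹ * (σ b * b⁻¹)) := by rw [(Subgroup.mem_center_iff.mp (h b) a⁻¹)]
          _ = σ a * a⁻¹ * (σ b * b⁻¹) := by group) }
  have hker : f.ker = ⊤ := by
    refine top_le_iff.mp ?_
    rw [← hp, commutator_def, Subgroup.commutator_le]
    intro a _ b _
    rw [MonoidHom.mem_ker, map_commutatorElement, commutatorElement_eq_one_iff_mul_comm]
    exact Subtype.ext (Subgroup.mem_center_iff.mp (f a).2 (f b : D)).symm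
  have hd : d ∈ f.ker := hker ▸ Subgroup.mem_top d
  exact mul_inv_eq_one.mp (congrArg Subtype.val hd)

/-- A finite perfect group whose central quotient has odd order has odd order. -/
theorem even_quotient_center [Finite D] (hp : commutator D = ⊤) (he : 2 ∣ Nat.card D) :
    2 ∣ Nat.card (D ⧸ Subgroup.center D) := by
  haveI : Fact (Nat.Prime 2) := ⟨Nat.prime_two⟩
  by_contra hodd
  rw [← Subgroup.index_eq_card] at hodd
  have hker : (MonoidHom.transferCenterPow D).ker = ⊤ := by
    refine top_le_iff.mp ?_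
    rw [← hp, commutator_def, Subgroup.commutator_le]
    intro a _ b _
    rw [MonoidHom.mem_ker, map_commutatorElement, commutatorElement_eq_one_iff_mul_comm]
    exact Subtype.ext (Subgroup.mem_center_iff.mp (MonoidHom.transferCenterPow D a).2
      (MonoidHom.transferCenterPow D b : D)).symm
  obtain ⟨x, hx⟩ := exists_prime_orderOf_dvd_card' 2 he
  have h1 : x ∈ (MonoidHom.transferCenterPow D).ker := hker ▸ Subgroup.mem_top x
  have h2 := congrArg Subtype.val (MonoidHom.mem_ker.mp h1)
  simp only [MonoidHom.transferCenterPow_apply, OneMemClass.coe_one] at h2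
  exact hodd (hx ▸ orderOf_dvd_of_pow_eq_one h2)

/-- An involutive automorphism of a perfect group of even order fixes, modulo the centre, some
noncentral element of 2-power order. -/
theorem exists_two_element_fixed_mod_center [Finite D] (hp : commutator D = ⊤) (he : 2 ∣ Nat.card D)
    (σ : MulAut D) (hσ : ∀ x, σ (σ x) = x) :
    ∃ x : D, x ∉ Subgroup.center D ∧ (∃ k, x ^ 2 ^ k = 1) ∧ σ x * x⁻¹ ∈ Subgroup.center D := by
  classical
  haveI : Fact (Nat.Prime 2) := ⟨Nat.prime_two⟩
  set Z := Subgroup.center D with hZ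
  have hcc : Z.map σ.toMonoidHom = Z :=
    Subgroup.characteristic_iff_map_eq.mp (inferInstance : Z.Characteristic) σ
  let e : MulAut (D ⧸ Z) := QuotientGroup.congr Z Z σ hcc
  have he_mk : ∀ x : D, e (QuotientGroup.mk x) = QuotientGroup.mk (σ x) := fun x => rfl
  have hee : ∀ q, e (e q) = q := fun q => by
    obtain ⟨x, rfl⟩ := QuotientGroup.mk_surjective q
    rw [he_mk, he_mk, hσ]
  -- a fixed Sylow subgroup
  let P : Equiv.Perm (Sylow 2 (D ⧸ Z)) :=
    { toFun := fun S => e • S, invFun := fun S => e • S,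
      left_inv := fun S => by
        show e • e • S = S
        rw [← mul_smul, show e * e = 1 from MulEquiv.ext hee, one_smul]
      right_inv := fun S => by
        show e • e • S = S
        rw [← mul_smul, show e * e = 1 from MulEquiv.ext hee, one_smul] }
  have hP2 : P ^ 2 ^ 1 = 1 := by
    ext1 S
    show e • e • S = S
    rw [← mul_smul, show e * e = 1 from MulEquiv.ext hee, one_smul]
  haveI := Fintype.ofFinite (Sylow 2 (D ⧸ Z))
  obtain ⟨S, hS⟩ := Equiv.Perm.exists_fixed_point_of_prime
    (by rw [← Nat.card_eq_fintype_card]; exact not_dvd_card_sylow 2 (D ⧸ Z)) hP2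
  have hSe : ∀ q ∈ (S : Subgroup (D ⧸ Z)), e q ∈ (S : Subgroup (D ⧸ Z)) := by
    intro q hq
    have h : e • S = S := hS
    have h' := congrArg (fun T : Sylow 2 (D ⧸ Z) => (T : Subgroup (D ⧸ Z))) h
    simp only [Sylow.pointwise_smul_def] at h'
    rw [← h']
    exact Subgroup.smul_mem_pointwise_smul q e _ hq
  have hSd : 2 ∣ Nat.card (S : Subgroup (D ⧸ Z)) := Sylow.dvd_card_of_dvd_card S (even_quotient_center hp he)
  let Q : Equiv.Perm ↥(S : Subgroup (D ⧸ Z)) :=
    { toFun := fun q => ⟨e q, hSe q q.2⟩, invFun := fun q => ⟨e q, hSe q q.2⟩,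
      left_inv := fun q => Subtype.ext (hee q), right_inv := fun q => Subtype.ext (hee q) }
  have hQ2 : Q ^ 2 ^ 1 = 1 := by
    ext1 q
    exact Subtype.ext (hee q)
  haveI := Fintype.ofFinite ↥(S : Subgroup (D ⧸ Z))
  obtain ⟨q, hq, hq1⟩ := Equiv.Perm.exists_fixed_point_of_prime'
    (by rw [← Nat.card_eq_fintype_card]; exact hSd) hQ2 (a := 1) (Subtype.ext (map_one e))
  obtain ⟨y, hy⟩ := QuotientGroup.mk'_surjective Z (q : D ⧸ Z)
  obtain ⟨a, -, hap, hay⟩ := exists_pElement_lift (p := 2) (QuotientGroup.mk' Z) (y := y) (by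
    rw [hy]; exact S.isPGroup'.to_le (Subgroup.zpowers_le.mpr q.2))
  rw [hy] at hay
  refine ⟨a, fun haZ => hq1 (Subtype.ext ?_), ?_, ?_⟩
  · rw [← hay]; exact (QuotientGroup.eq_one_iff a).mpr haZ
  · obtain ⟨k, hk⟩ := hap ⟨a, Subgroup.mem_zpowers a⟩
    exact ⟨k, by simpa using congrArg Subtype.val hk⟩
  · rw [← QuotientGroup.eq_one_iff, QuotientGroup.mk_mul, QuotientGroup.mk_inv, ← he_mk, mul_inv_eq_one]
    have : (QuotientGroup.mk a : D ⧸ Z) = q := hay
    rw [this]
    exact congrArg Subtype.val hq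

end Perfect

variable {G : Type u} [Group G] [Finite G]

/-- A component of the subgroup `H`, seen in the ambient group. -/
def IsCompIn (H D : Subgroup G) : Prop :=
  ∃ E : Subgroup ↥H, Cfsg.IsComponent E ∧ D = E.map H.subtype

namespace IsCompIn

variable {H D D' : Subgroup G}

theorem le (h : IsCompIn H D) : D ≤ H := by
  obtain ⟨E, -, rfl⟩ := h; exact Subgroup.map_subtype_le E

theorem qs (h : IsCompIn H D) : Cfsg.IsQuasisimple ↥D := by
  obtain ⟨E, hE, rfl⟩ := h; exact (isQuasisimple_map_iff H.subtype_injective E).mpr hE.2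

theorem perfect (h : IsCompIn H D) : commutator ↥D = ⊤ := h.qs.1.commutator_eq_top

theorem commute (h : IsCompIn H D) (h' : IsCompIn H D') (hne : D ≠ D') :
    ∀ a ∈ D, ∀ b ∈ D', a * b = b * a := by
  obtain ⟨E, hE, rfl⟩ := h
  obtain ⟨E', hE', rfl⟩ := h'
  rintro _ ⟨a, ha, rfl⟩ _ ⟨b, hb, rfl⟩
  have := IsComponent.commute hE hE' (fun e => hne (by rw [e])) ha
  exact (congrArg Subtype.val (Subgroup.mem_centralizer_iff.mp this b hb)).symm

theorem not_comm (h : IsCompIn H D) : ¬ ∀ a ∈ D, ∀ b ∈ D, a * b = b * a := by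
  intro hc
  refine IsQuasisimple.center_ne_top h.qs (top_le_iff.mp fun a _ => ?_)
  exact Subgroup.mem_center_iff.mpr fun b => Subtype.ext (hc b b.2 a a.2)

theorem center_eq (h : IsCompIn H D) (h' : IsCompIn H D') (hne : D ≠ D') {z : G}
    (hz : z ∈ D) (hz' : z ∈ D') : ∀ a ∈ D, a * z = z * a := fun a ha => commute h h' hne a ha z hz'

theorem map_conj (h : IsCompIn H D) {g : G} (hg : g ∈ normalizer (H : Set G)) :
    IsCompIn H (D.map (MulAut.conj g).toMonoidHom) := by
  obtain ⟨E, hE, rfl⟩ := h
  refine ⟨E.map (H.normalizerMonoidHom ⟨g, hg⟩).toMonoidHom, IsComponent.map_iso _ hE, ?_⟩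
  rw [Subgroup.map_map, Subgroup.map_map]
  rfl

theorem normalized (h : IsCompIn H D) {D' : Subgroup G} (h' : IsCompIn H D') :
    D' ≤ normalizer (D : Set G) := by
  by_cases e : D = D'
  · rw [e]; exact Subgroup.le_normalizer
  · intro b hb
    refine Subgroup.centralizer_le_normalizer _ (Subgroup.mem_centralizer_iff.mpr fun a ha => ?_)
    exact commute h h' e a ha b hb

end IsCompIn

/-- The layer of `H` in the ambient group. -/
abbrev layerSet (H : Subgroup G) : Subgroup G := sSup {D | IsCompIn H D}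

theorem layerSet_normalized {H : Subgroup G} {g : G} (hg : g ∈ normalizer (H : Set G)) :
    g ∈ normalizer (layerSet H : Set G) := by
  have h : ∀ g ∈ normalizer (H : Set G), ∀ x ∈ layerSet H, g * x * g⁻¹ ∈ layerSet H := by
    intro g hg x hx
    have hle : layerSet H ≤ (layerSet H).comap (MulAut.conj g).toMonoidHom := by
      refine sSup_le fun D hD => ?_
      rw [← Subgroup.map_le_iff_le_comap]
      exact le_sSup (IsCompIn.map_conj hD hg)
    exact hle hx
  rw [mem_normalizer_iff]
  refine fun x => ⟨h g hg x, fun hx => ?_⟩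
  have h2 := h g⁻¹ ((normalizer (H : Set G)).inv_mem hg) _ hx
  simpa [mul_assoc] using h2

/-- Main lemma. -/
theorem exists_component_moved (H : Subgroup G) (hO : Cfsg.oddCore ↥H = ⊥) (t : G) (ht : t * t = 1)
    (htH : t ∈ normalizer (H : Set G)) (O : Subgroup G) (hOC : O ≤ H ⊓ centralizer ({t} : Set G))
    (hOn : H ⊓ centralizer ({t} : Set G) ≤ normalizer (O : Set G)) (hOodd : Odd (Nat.card O))
    (Y : Subgroup G) (hY1 : Y ≠ ⊥) (hYO : Y ≤ O) :
    ∃ E : Subgroup ↥H, Cfsg.IsComponent E ∧
      (E.map H.subtype).map (MulAut.conj t).toMonoidHom = E.map H.subtype ∧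
      Y ≤ normalizer ((E.map H.subtype : Subgroup G) : Set G) ∧
      ¬ (t ∈ centralizer ((E.map H.subtype : Subgroup G) : Set G)) ∧
      ¬ (Y ≤ centralizer ((E.map H.subtype : Subgroup G) : Set G)) := by
  haveI : Fact (Nat.Prime 2) := ⟨Nat.prime_two⟩
  set C := H ⊓ centralizer ({t} : Set G) with hC
  have htinv : t⁻¹ = t := inv_eq_of_mul_eq_one_right ht
  have hCt : ∀ c, c ∈ C → c * t = t * c := fun c hc => Subgroup.mem_centralizer_singleton_iff.mp hc.2
  have hmemC : ∀ c, c ∈ H → t * c * t⁻¹ = c → c ∈ C := fun c hc h =>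
    ⟨hc, Subgroup.mem_centralizer_singleton_iff.mpr (mul_inv_eq_iff_eq_mul.mp h).symm⟩
  have hYH : Y ≤ H := hYO.trans (hOC.trans inf_le_left)
  have hyt : ∀ y ∈ Y, y * t = t * y := fun y hy => hCt y (hOC (hYO hy))
  have hyodd : ∀ y ∈ O, Odd (orderOf y) := fun y hy => hOodd.of_dvd_nat (O.orderOf_dvd_natCard hy)
  -- 2-power elements of odd order are trivial
  have htwo : ∀ (u : G) (k : ℕ), u ^ 2 ^ k = 1 → Odd (orderOf u) → u = 1 := by
    intro u k hk hodd
    obtain ⟨j, -, hj⟩ := (Nat.dvd_prime_pow Nat.prime_two).mp (orderOf_dvd_of_pow_eq_one hk)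
    rcases Nat.eq_zero_or_pos j with h0 | h0
    · rw [h0, pow_zero] at hj; exact orderOf_eq_one_iff.mp hj
    · rw [hj, Nat.odd_pow_iff h0.ne'] at hodd; exact absurd hodd (by decide)
  have heven : ∀ D, IsCompIn H D → 2 ∣ Nat.card D := by
    rintro D ⟨E, hE, rfl⟩
    rw [Subgroup.card_map_of_injective H.subtype_injective]
    by_contra hodd
    have h := le_pPrimeCore_of_isSubnormal (p := 2) hE.1 ((Nat.prime_two.coprime_iff_not_dvd.mpr hodd).symm)
    rw [show Cfsg.pPrimeCore 2 ↥H = ⊥ from hO, le_bot_iff] at h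
    exact IsComponent.ne_bot hE h
  set F : Subgroup G := (Cfsg.fittingSubgroup ↥H).map H.subtype with hF
  have hFp : IsPGroup 2 F := by
    rw [hF, fitting_eq_pCore (p := 2) hO]
    exact pCore_isPGroup.map _
  have hFn : normalizer (H : Set G) ≤ normalizer (F : Set G) := by
    intro g hg
    have h : ∀ g ∈ normalizer (H : Set G), ∀ x ∈ F, g * x * g⁻¹ ∈ F := by
      rintro g hg x ⟨w, hw, rfl⟩
      exact ⟨_, (Subgroup.characteristic_iff_le_comap.mp inferInstance (H.normalizerMonoidHom ⟨g, hg⟩)) hw, rfl⟩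
    rw [mem_normalizer_iff]
    refine fun x => ⟨h g hg x, fun hx => ?_⟩
    have h2 := h g⁻¹ ((normalizer (H : Set G)).inv_mem hg) _ hx
    simpa [mul_assoc] using h2
  -- `Y` centralizes the Fitting subgroup
  have hYF : ∀ y ∈ Y, ∀ f ∈ F, y * f = f * y := by
    intro y hy f hf
    have h := thompson_PQ (p := 2) (zpowers t) (zpowers y)
      (by
        intro g
        obtain ⟨i, hi⟩ := Subgroup.mem_zpowers_iff.mp g.2
        refine ⟨1, Subtype.ext ?_⟩
        simp only [pow_one, SubmonoidClass.coe_pow, OneMemClass.coe_one, ← hi]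
        rw [← zpow_natCast, ← zpow_mul, mul_comm, zpow_mul, zpow_natCast, pow_two, ht, one_zpow])
      (by rw [Nat.card_zpowers]; exact Nat.coprime_two_right.mpr (hyodd y (hYO hy)))
      (by
        rw [zpowers_le, Subgroup.mem_centralizer_iff]
        rintro _ ⟨i, rfl⟩
        exact ((show Commute y t from hyt y hy).zpow_left i).eq)
      F hFp (zpowers_le.mpr (hFn htH)) (zpowers_le.mpr (hFn (Subgroup.le_normalizer (hYH hy)))) ?_
    · exact (Subgroup.mem_centralizer_iff.mp (h (mem_zpowers y)) f hf).symm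
    · rintro c ⟨hcF, hct⟩
      have hcH : c ∈ H := Subgroup.map_subtype_le _ hcF
      have hcC : c ∈ C := hmemC c hcH (by
        rw [Subgroup.mem_centralizer_iff.mp hct t (mem_zpowers t), mul_inv_cancel_right])
      have h1 : c * y * c⁻¹ * y⁻¹ ∈ O :=
        O.mul_mem ((mem_normalizer_iff.mp (hOn hcC) y).mp (hYO hy)) (O.inv_mem (hYO hy))
      have h2 : c * y * c⁻¹ * y⁻¹ ∈ F := by
        rw [show c * y * c⁻¹ * y⁻¹ = c * (y * c⁻¹ * y⁻¹) by group]
        exact F.mul_mem hcF ((mem_normalizer_iff.mp (hFn (Subgroup.le_normalizer (hYH hy))) _).mp (F.inv_mem hcF))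
      obtain ⟨k, hk⟩ := hFp ⟨_, h2⟩
      have h3 := htwo _ k (by simpa using congrArg Subtype.val hk) (hyodd _ h1)
      have h4 : c * y = y * c := mul_inv_eq_iff_eq_mul.mp (mul_inv_eq_one.mp h3)
      rw [Subgroup.mem_centralizer_iff]
      rintro _ ⟨i, rfl⟩
      exact (((show Commute y c from h4.symm)).zpow_left i).eq
  -- `O` centralizes perfect even subgroups of the layer fixed by `t`
  set Λ := layerSet H with hΛ
  have hΛH : Λ ≤ H := sSup_le fun D hD => IsCompIn.le hD
  have hOcent : ∀ M : Subgroup G, M ≤ Λ ⊓ centralizer ({t} : Set G) →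
      Λ ⊓ centralizer ({t} : Set G) ≤ normalizer (M : Set G) →
      Cfsg.IsQuasisimple ↥M → 2 ∣ Nat.card M → ∀ y ∈ O, ∀ m ∈ M, y * m = m * y := by
    intro M hM hMn hMq hMe y hy m hm
    set L := Λ ⊓ centralizer ({t} : Set G) with hL
    have hLC : L ≤ C := inf_le_inf_right _ hΛH
    have hMC : M ≤ C := hM.trans hLC
    have hLn : C ≤ normalizer (L : Set G) := by
      intro c hc
      rw [mem_normalizer_iff]
      intro w
      have hnΛ := mem_normalizer_iff.mp (layerSet_normalized (Subgroup.le_normalizer hc.1)) w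
      have hct : c ∈ centralizer ({t} : Set G) := hc.2
      constructor
      · exact fun hw => ⟨hnΛ.mp hw.1, Subgroup.mul_mem _ (Subgroup.mul_mem _ hct hw.2) (Subgroup.inv_mem _ hct)⟩
      · intro hw
        refine ⟨hnΛ.mpr hw.1, ?_⟩
        have := Subgroup.mul_mem _ (Subgroup.mul_mem _ (Subgroup.inv_mem _ hct) hw.2) hct
        simpa [mul_assoc] using this
    have hsub : (M.subgroupOf C).IsSubnormal := by
      refine IsSubnormal.step _ (L.subgroupOf C) (fun c hc => hM hc)
        ((Subgroup.normal_subgroupOf_iff_le_normalizer hLC).mpr hLn).isSubnormal ?_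
      refine (Subgroup.normal_subgroupOf_iff_le_normalizer (H := M.subgroupOf C) (K := L.subgroupOf C) (fun c hc => hM hc)).mpr ?_
      intro c hc
      rw [mem_normalizer_iff]
      exact fun w => mem_normalizer_iff.mp (hMn hc) (w : G)
    have hMcomp : Cfsg.IsComponent (M.subgroupOf C) := ⟨hsub, (isQuasisimple_subgroupOf_iff hMC).mpr hMq⟩
    have hOn' : (O.subgroupOf C).Normal := (Subgroup.normal_subgroupOf_iff_le_normalizer hOC).mpr hOn
    rcases component_le_or_commute hMcomp hOn'.isSubnormal with h | h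
    · exfalso
      have hle : M ≤ O := fun w hw => h (show (⟨w, hMC hw⟩ : ↥C) ∈ M.subgroupOf C from hw)
      have := hOodd.of_dvd_nat (Subgroup.card_dvd_of_le hle)
      exact (Nat.not_even_iff_odd.mpr this) (even_iff_two_dvd.mpr hMe)
    · have h' := Subgroup.commutator_eq_bot_iff_le_centralizer.mp h
      exact congrArg Subtype.val (Subgroup.mem_centralizer_iff.mp
        (h' (show (⟨m, hMC hm⟩ : ↥C) ∈ M.subgroupOf C from hm)) ⟨y, hOC hy⟩ hy)
  -- conjugation automorphism of a component
  have hautD : ∀ D, IsCompIn H D → ∀ g : G, D.map (MulAut.conj g).toMonoidHom = D →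
      g ∈ normalizer (D : Set G) := by
    intro D _ g hg
    rw [mem_normalizer_iff]
    refine fun z => ⟨fun hz => hg.le ⟨z, hz, rfl⟩, fun hz => ?_⟩
    obtain ⟨w, hw, hwz⟩ := hg.ge hz
    have : w = z := (MulAut.conj g).injective (by simpa using hwz)
    exact this ▸ hw
  have hyN : ∀ y ∈ Y, y ∈ normalizer (H : Set G) := fun y hy => Subgroup.le_normalizer (hYH hy)
  -- the three kinds of components
  have hcase : ∀ D, IsCompIn H D →
      (∀ y ∈ Y, ∀ d ∈ D, y * d = d * y) ∨
      (D.map (MulAut.conj t).toMonoidHom = D ∧ t ∉ centralizer (D : Set G) ∧ Y ≤ normalizer (D : Set G)) := by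
    intro D hD
    set D' := D.map (MulAut.conj t).toMonoidHom with hD'
    have hD'c : IsCompIn H D' := IsCompIn.map_conj hD htH
    have hconjback : ∀ z ∈ D', t * z * t⁻¹ ∈ D := by
      rintro _ ⟨w, hw, rfl⟩
      simp only [MulEquiv.coe_toMonoidHom, MulAut.conj_apply]
      rw [show t * (t * w * t⁻¹) * t⁻¹ = (t * t) * w * (t * t)⁻¹ by group, ht]; simpa using hw
    by_cases hmv : D' = D
    · by_cases hcent : t ∈ centralizer (D : Set G)
      · left
        intro y hy d hd
        refine hOcent D (le_inf (le_sSup hD) fun w hw => ?_) ?_ hD.qs (heven D hD) y (hYO hy) d hd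
        · rw [Subgroup.mem_centralizer_singleton_iff]
          exact Subgroup.mem_centralizer_iff.mp hcent w hw
        · exact inf_le_left.trans (sSup_le fun D2 hD2 => IsCompIn.normalized hD hD2)
      · right
        refine ⟨hmv, hcent, fun y hy => hautD D hD y ?_⟩
        by_contra hne
        set D1 := D.map (MulAut.conj y).toMonoidHom with hD1
        have hD1c : IsCompIn H D1 := IsCompIn.map_conj hD (hyN y hy)
        set D2 := D1.map (MulAut.conj y).toMonoidHom with hD2
        have hD2c : IsCompIn H D2 := IsCompIn.map_conj hD1c (hyN y hy)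
        have hD2ne : D2 ≠ D := by
          intro e
          refine hne ?_
          obtain ⟨k, hk⟩ := hyodd y (hYO hy)
          have hiter : ∀ j : ℕ, D.map (MulAut.conj (y ^ (2 * j))).toMonoidHom = D := by
            intro j
            induction j with
            | zero =>
              convert Subgroup.map_id D using 2
              ext x; simp
            | succ j ih =>
              conv_rhs => rw [← ih]
              rw [show y ^ (2 * (j + 1)) = y ^ (2 * j) * y * y by
                rw [mul_assoc, ← pow_two, ← pow_add]; ring_nf]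
              conv_rhs => rw [← e, hD2, hD1, Subgroup.map_map, Subgroup.map_map]
              congr 1
              ext x; simp [mul_assoc]
          have h1 := hiter k
          have hy1 : y ^ (2 * k) = y⁻¹ := by
            refine eq_inv_of_mul_eq_one_left ?_
            rw [← pow_succ, ← hk, pow_orderOf_eq_one]
          rw [hy1] at h1
          have h3 : D1 = (D.map (MulAut.conj y⁻¹).toMonoidHom).map (MulAut.conj y).toMonoidHom := by
            rw [h1]
          rw [h3, Subgroup.map_map]
          convert Subgroup.map_id D using 2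
          ext x; simp [mul_assoc]
        have hσ : t ∈ normalizer (D : Set G) := hautD D hD t hmv
        let σ : MulAut ↥D := D.normalizerMonoidHom ⟨t, hσ⟩
        obtain ⟨⟨x, hx⟩, hxc, ⟨k, hk⟩, hxz⟩ := exists_two_element_fixed_mod_center hD.perfect (heven D hD) σ
          (fun d => Subtype.ext (show t * (t * (d : G) * t⁻¹) * t⁻¹ = d by
            rw [show t * (t * (d : G) * t⁻¹) * t⁻¹ = (t * t) * d * (t * t)⁻¹ by group, ht]; group))
        set z := t * x * t⁻¹ * x⁻¹ with hz
        have hzD : z ∈ D := D.mul_mem ((mem_normalizer_iff.mp hσ x).mp hx) (D.inv_mem hx)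
        have hzc : ∀ d ∈ D, d * z = z * d := fun d hd =>
          congrArg Subtype.val (Subgroup.mem_center_iff.mp hxz ⟨d, hd⟩)
        have hxk : x ^ 2 ^ k = 1 := by simpa using congrArg Subtype.val hk
        have hzk : z ^ 2 ^ k = 1 := by
          have h1 : (t * x * t⁻¹) ^ 2 ^ k = 1 := by rw [conj_pow, hxk, mul_one, mul_inv_cancel]
          rw [show t * x * t⁻¹ = z * x by rw [hz]; group, ((show Commute z x from (hzc x hx).symm)).mul_pow,
            hxk, mul_one] at h1
          exact h1
        have hzF : z ∈ F := by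
          obtain ⟨E, hE, hDE⟩ := hD
          have hzE : (⟨z, (Subgroup.map_subtype_le E) (hDE ▸ hzD)⟩ : ↥H) ∈ E := by
            obtain ⟨w, hw, hwz⟩ := (hDE ▸ hzD : z ∈ E.map H.subtype)
            have : w = ⟨z, (Subgroup.map_subtype_le E) (hDE ▸ hzD)⟩ := Subtype.ext hwz
            exact this ▸ hw
          set zH : ↥H := ⟨z, (Subgroup.map_subtype_le E) (hDE ▸ hzD)⟩
          have hcommE : E ≤ centralizer {zH} := by
            intro w hw
            rw [Subgroup.mem_centralizer_singleton_iff]
            exact Subtype.ext (hzc _ (hDE ▸ ⟨w, hw, rfl⟩))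
          have hsn : (zpowers zH).IsSubnormal := by
            refine IsSubnormal.step _ E (zpowers_le.mpr hzE) hE.1 ?_
            refine (Subgroup.normal_subgroupOf_iff_le_normalizer (zpowers_le.mpr hzE)).mpr ?_
            refine le_trans ?_ (Subgroup.centralizer_le_normalizer _)
            rw [Subgroup.le_centralizer_iff, zpowers_le, Subgroup.mem_centralizer_iff]
            intro w hw
            exact Subgroup.mem_centralizer_singleton_iff.mp (hcommE hw)
          have hzp : IsPGroup 2 ↥(zpowers zH) := by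
            obtain ⟨j, -, hj⟩ := (Nat.dvd_prime_pow Nat.prime_two).mp
              (orderOf_dvd_of_pow_eq_one (show zH ^ 2 ^ k = 1 from Subtype.ext (by simpa using hzk)))
            exact IsPGroup.of_card (n := j) (by rw [Nat.card_zpowers, hj])
          exact ⟨zH, le_fitting_of_isSubnormal hsn hzp.isNilpotent (mem_zpowers zH), rfl⟩
        have hyz : y * z * y⁻¹ = z := by rw [hYF y hy z hzF, mul_inv_cancel_right]
        set x1 := y * x * y⁻¹ with hx1
        set x2 := y * x1 * y⁻¹ with hx2
        have hx1D : x1 ∈ D1 := ⟨x, hx, rfl⟩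
        have hx2D : x2 ∈ D2 := ⟨x1, hx1D, rfl⟩
        have hc1 : ∀ d ∈ D, d * x1 = x1 * d := fun d hd => IsCompIn.commute hD hD1c (Ne.symm hne) d hd x1 hx1D
        have hc2 : ∀ d ∈ D, d * x2 = x2 * d := fun d hd => IsCompIn.commute hD hD2c (Ne.symm hD2ne) d hd x2 hx2D
        set w := x * x1⁻¹ with hw
        have hwC : w ∈ C := by
          refine hmemC w (H.mul_mem (hD.le hx) (H.inv_mem (hD1c.le hx1D))) ?_
          have e1 : t * x * t⁻¹ = z * x := by rw [hz]; group
          have e2 : t * x1 * t⁻¹ = z * x1 := by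
            calc t * x1 * t⁻¹ = (t * y) * x * (t * y)⁻¹ := by rw [hx1]; group
              _ = y * (t * x * t⁻¹) * y⁻¹ := by rw [← hyt y hy]; group
              _ = (y * z * y⁻¹) * x1 := by rw [e1, hx1]; group
              _ = z * x1 := by rw [hyz]
          have hzx1 : z * x1 = x1 * z := hc1 z hzD
          calc t * w * t⁻¹ = (t * x * t⁻¹) * (t * x1 * t⁻¹)⁻¹ := by rw [hw]; group
            _ = (x * z) * (x1 * z)⁻¹ := by rw [e1, e2, hzx1, hzc x hx]
            _ = w := by rw [hw]; group
        set u := w⁻¹ * y * w * y⁻¹ with hu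
        have huO : u ∈ O := by
          refine O.mul_mem ?_ (O.inv_mem (hYO hy))
          simpa using (mem_normalizer_iff.mp (hOn (C.inv_mem hwC)) y).mp (hYO hy)
        set r := x1 * x1 * x2⁻¹ with hr
        have hue : u = x⁻¹ * r := by
          have e0 : u = x1 * x⁻¹ * x1 * x2⁻¹ := by rw [hu, hw, hx2, hx1]; group
          have h1 : x1 * x⁻¹ = x⁻¹ * x1 := (hc1 x⁻¹ (D.inv_mem hx)).symm
          rw [e0, h1, hr]; group
        have hrc : ∀ d ∈ D, d * r = r * d := fun d hd =>
          (((show Commute d x1 from hc1 d hd).mul_right (hc1 d hd)).mul_right (Commute.inv_right (hc2 d hd))).eq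
        set n := orderOf u with hn
        have hpow : (x⁻¹ * r) ^ n = 1 := by rw [← hue, hn, pow_orderOf_eq_one]
        rw [(show Commute x⁻¹ r from hrc x⁻¹ (D.inv_mem hx)).mul_pow, inv_pow] at hpow
        have hrn : r ^ n = x ^ n := (inv_mul_eq_one.mp hpow).symm
        obtain ⟨m, hm⟩ := exists_pow_eq_self_of_coprime (n := n) (x := x) (by
          refine (Nat.Coprime.coprime_dvd_right (orderOf_dvd_of_pow_eq_one hxk) ?_)
          exact (Nat.coprime_two_right.mpr (hyodd u huO)).pow_right k)
        refine hxc (Subgroup.mem_center_iff.mpr fun d => Subtype.ext ?_)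
        show (d : G) * x = x * d
        rw [← hm, ← hrn]
        exact (((show Commute (d : G) r from hrc d d.2).pow_right n).pow_right m).eq
    · left
      intro y hy
      have hcomm : ∀ a ∈ D, ∀ b ∈ D', a * b = b * a := IsCompIn.commute hD hD'c (Ne.symm hmv)
      let φ : ↥D →* G :=
        { toFun := fun d => (d : G) * (t * (d : G) * t⁻¹)
          map_one' := by simp
          map_mul' := fun a b => by
            have h1 := hcomm b b.2 (t * a * t⁻¹) ⟨a, a.2, rfl⟩
            calc ((a * b : ↥D) : G) * (t * ((a * b : ↥D) : G) * t⁻¹)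
                = (a : G) * ((b : G) * (t * a * t⁻¹)) * (t * b * t⁻¹) := by rw [Subgroup.coe_mul]; group
              _ = (a : G) * (t * a * t⁻¹ * b) * (t * b * t⁻¹) := by rw [h1]
              _ = _ := by group }
      have hφ : ∀ d : ↥D, φ d = (d : G) * (t * (d : G) * t⁻¹) := fun d => rfl
      set M := φ.range with hM
      have hφt : ∀ d, t * φ d * t⁻¹ = φ d := by
        intro d
        rw [hφ]
        calc t * ((d : G) * (t * d * t⁻¹)) * t⁻¹ = (t * d * t⁻¹) * ((t * t) * d * (t * t)⁻¹) := by group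
          _ = (t * d * t⁻¹) * d := by rw [ht]; group
          _ = _ := (hcomm d d.2 _ ⟨d, d.2, rfl⟩).symm
      have hΛn : Λ ≤ normalizer (D : Set G) := sSup_le fun D2 hD2 => IsCompIn.normalized hD hD2
      have hMn : Λ ⊓ centralizer ({t} : Set G) ≤ normalizer (M : Set G) := by
        have h : ∀ e ∈ Λ ⊓ centralizer ({t} : Set G), ∀ m ∈ M, e * m * e⁻¹ ∈ M := by
          rintro e he m ⟨d, rfl⟩
          refine ⟨⟨e * d * e⁻¹, (mem_normalizer_iff.mp (hΛn he.1) _).mp d.2⟩, ?_⟩
          have het : e * t = t * e := Subgroup.mem_centralizer_singleton_iff.mp he.2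
          rw [hφ, hφ]
          calc e * d * e⁻¹ * (t * (e * d * e⁻¹) * t⁻¹) = e * d * e⁻¹ * ((t * e) * d * (t * e)⁻¹) := by group
            _ = e * d * e⁻¹ * ((e * t) * d * (e * t)⁻¹) := by rw [het]
            _ = _ := by group
        intro e he
        rw [mem_normalizer_iff]
        refine fun m => ⟨h e he m, fun hm => ?_⟩
        have h2 := h e⁻¹ ((Λ ⊓ centralizer ({t} : Set G)).inv_mem he) _ hm
        simpa [mul_assoc] using h2
      have hMle : M ≤ Λ ⊓ centralizer ({t} : Set G) := by
        rintro _ ⟨d, rfl⟩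
        refine ⟨Λ.mul_mem ((le_sSup hD : D ≤ Λ) d.2)
          ((le_sSup hD'c : D' ≤ Λ) (show t * (d : G) * t⁻¹ ∈ D' from ⟨d, d.2, rfl⟩)), ?_⟩
        show φ d ∈ centralizer ({t} : Set G)
        rw [Subgroup.mem_centralizer_singleton_iff]
        exact (mul_inv_eq_iff_eq_mul.mp (hφt d)).symm
      have hker : ∀ d : ↥D, φ d = 1 → d ∈ Subgroup.center ↥D := by
        intro d hd
        rw [hφ] at hd
        have hdD' : (d : G) ∈ D' := by
          rw [eq_inv_of_mul_eq_one_left hd]
          exact D'.inv_mem ⟨d, d.2, rfl⟩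
        exact Subgroup.mem_center_iff.mpr fun a => Subtype.ext (hcomm a a.2 d hdD')
      have hne1 : ∃ a : ↥D, a ∉ Subgroup.center ↥D := by
        by_contra hall
        push Not at hall
        exact IsQuasisimple.center_ne_top hD.qs (top_le_iff.mp fun a _ => hall a)
      haveI : Nontrivial ↥M := by
        obtain ⟨a, ha⟩ := hne1
        exact ⟨⟨φ.rangeRestrict a, 1, fun e => ha (hker a (by simpa using congrArg Subtype.val e))⟩⟩
      have hMq : Cfsg.IsQuasisimple ↥M :=
        IsQuasisimple.of_surjective hD.qs φ.rangeRestrict_surjective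
      have hMe : 2 ∣ Nat.card M := by
        have h1 := even_quotient_center hD.perfect (heven D hD)
        have h2 : Nat.card (↥D ⧸ Subgroup.center ↥D) ∣ Nat.card M := by
          rw [← Subgroup.index_eq_card, ← Subgroup.index_ker]
          exact Subgroup.index_dvd_of_le fun d hd => hker d hd
        exact h1.trans h2
      have hyfix : ∀ d : ↥D, y * φ d * y⁻¹ = φ d := fun d => by
        rw [hOcent M hMle hMn hMq hMe y (hYO hy) _ ⟨d, rfl⟩, mul_inv_cancel_right]
      set D1 := D.map (MulAut.conj y).toMonoidHom with hD1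
      set D1' := D'.map (MulAut.conj y).toMonoidHom with hD1'
      have hD1c : IsCompIn H D1 := IsCompIn.map_conj hD (hyN y hy)
      have hD1'c : IsCompIn H D1' := IsCompIn.map_conj hD'c (hyN y hy)
      have hswap : D1' = D1.map (MulAut.conj t).toMonoidHom := by
        rw [hD1', hD1, hD', Subgroup.map_map, Subgroup.map_map]
        congr 1
        ext x
        simp only [MonoidHom.comp_apply, MulEquiv.coe_toMonoidHom, MulAut.conj_apply]
        calc y * (t * x * t⁻¹) * y⁻¹ = (y * t) * x * (y * t)⁻¹ := by group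
          _ = (t * y) * x * (t * y)⁻¹ := by rw [hyt y hy]
          _ = _ := by group
      have hback : ∀ X : Subgroup G, (X.map (MulAut.conj t).toMonoidHom).map (MulAut.conj t).toMonoidHom = X := by
        intro X
        rw [Subgroup.map_map]
        convert Subgroup.map_id X using 2
        ext x
        simp only [MonoidHom.comp_apply, MulEquiv.coe_toMonoidHom, MulAut.conj_apply, MonoidHom.id_apply]
        rw [show t * (t * x * t⁻¹) * t⁻¹ = (t * t) * x * (t * t)⁻¹ by group, ht]; group
      have hD1D : D1 = D := by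
        by_contra hne
        rcases eq_or_ne D1 D' with e | e
        · have e' : D1' = D := by rw [hswap, e, hD', hback]
          refine hne ?_
          obtain ⟨k, hk⟩ := hyodd y (hYO hy)
          have h2 : D.map (MulAut.conj (y * y)).toMonoidHom = D := by
            conv_rhs => rw [← e', hD1', ← e, hD1, Subgroup.map_map]
            congr 1
            ext x; simp [mul_assoc]
          have hiter : ∀ j : ℕ, D.map (MulAut.conj ((y * y) ^ j)).toMonoidHom = D := by
            intro j
            induction j with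
            | zero =>
              convert Subgroup.map_id D using 2
              ext x; simp
            | succ j ih =>
              conv_rhs => rw [← ih, ← h2, Subgroup.map_map]
              congr 1
              ext x; simp [pow_succ, mul_assoc]
          have hy1 : y = (y * y) ^ (k + 1) := by
            rw [← pow_two, ← pow_mul, show 2 * (k + 1) = orderOf y + 1 by omega, pow_succ,
              pow_orderOf_eq_one, one_mul]
          rw [hD1, hy1]
          exact hiter _
        · refine IsCompIn.not_comm hD fun a ha b hb => ?_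
          have e' : D1' ≠ D := fun h => e (by rw [hD', ← h, hswap, hback])
          have h1 := IsCompIn.commute hD hD1c (Ne.symm hne) a ha (y * b * y⁻¹) ⟨b, hb, rfl⟩
          have h2 := IsCompIn.commute hD hD1'c (Ne.symm e') a ha (y * (t * b * t⁻¹) * y⁻¹)
            ⟨_, ⟨b, hb, rfl⟩, rfl⟩
          have h3 : Commute a (φ ⟨b, hb⟩) := by
            rw [← hyfix ⟨b, hb⟩, hφ,
              show y * (b * (t * b * t⁻¹)) * y⁻¹ = (y * b * y⁻¹) * (y * (t * b * t⁻¹) * y⁻¹) by group]
            exact (show Commute a (y * b * y⁻¹) from h1).mul_right h2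
          have h4 : Commute a (t * b * t⁻¹) := hcomm a ha _ ⟨b, hb, rfl⟩
          have h5 := h3.mul_right h4.inv_right
          rw [hφ, mul_inv_cancel_right] at h5
          exact h5.eq
      have hyD : y ∈ normalizer (D : Set G) := hautD D hD y hD1D
      let σ : ↥D →* ↥D := (D.normalizerMonoidHom ⟨y, hyD⟩).toMonoidHom
      have hσc : ∀ d, σ d * d⁻¹ ∈ Subgroup.center ↥D := by
        intro d
        have h1 : y * (t * d * t⁻¹) * y⁻¹ ∈ D' := by
          rw [show y * (t * d * t⁻¹) * y⁻¹ = (y * t) * d * (y * t)⁻¹ by group, hyt y hy]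
          exact ⟨y * d * y⁻¹, (mem_normalizer_iff.mp hyD _).mp d.2, by simp [mul_assoc]⟩
        have h2 : (y * d * y⁻¹) * (d : G)⁻¹ ∈ D' := by
          have h3 := hyfix d
          rw [hφ, show y * ((d : G) * (t * d * t⁻¹)) * y⁻¹ = (y * d * y⁻¹) * (y * (t * d * t⁻¹) * y⁻¹) by group] at h3
          have h4 := hcomm d⁻¹ (D.inv_mem d.2) (t * d * t⁻¹) ⟨d, d.2, rfl⟩
          have h5 : (y * d * y⁻¹) * (d : G)⁻¹ = (d : G) * ((t * d * t⁻¹) * (y * (t * d * t⁻¹) * y⁻¹)⁻¹) * (d : G)⁻¹ := by
            have h6 : y * d * y⁻¹ = (d : G) * (t * d * t⁻¹) * (y * (t * d * t⁻¹) * y⁻¹)⁻¹ := eq_mul_inv_of_mul_eq h3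
            rw [h6]; group
          rw [h5]
          have hin : (t * d * t⁻¹) * (y * (t * d * t⁻¹) * y⁻¹)⁻¹ ∈ D' := D'.mul_mem ⟨d, d.2, rfl⟩ (D'.inv_mem h1)
          rw [hcomm d d.2 _ hin, mul_inv_cancel_right]
          exact hin
        refine Subgroup.mem_center_iff.mpr fun a => Subtype.ext ?_
        exact hcomm a a.2 _ h2
      intro d hd
      have h := congrArg Subtype.val (perfect_fixed_of_central hD.perfect σ hσc ⟨d, hd⟩)
      exact mul_inv_eq_iff_eq_mul.mp h
  by_contra hall
  push Not at hall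
  have hYΛ : ∀ D, IsCompIn H D → ∀ y ∈ Y, ∀ d ∈ D, y * d = d * y := by
    intro D hD
    rcases hcase D hD with h | ⟨h1, h2, h3⟩
    · exact h
    · obtain ⟨E, hE, rfl⟩ := hD
      have := hall E hE h1 h3 h2
      exact fun y hy d hd => (Subgroup.mem_centralizer_iff.mp (this hy) d hd).symm
  refine hY1 ((Subgroup.eq_bot_iff_forall _).mpr fun y hy => ?_)
  have hc : (⟨y, hYH hy⟩ : ↥H) ∈ centralizer (Cfsg.generalizedFittingSubgroup ↥H : Set ↥H) := by
    have hle : Cfsg.generalizedFittingSubgroup ↥H ≤ centralizer {(⟨y, hYH hy⟩ : ↥H)} := by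
      refine sup_le (sSup_le fun E hE => ?_) ?_
      · intro w hw
        rw [Subgroup.mem_centralizer_singleton_iff]
        exact (Subtype.ext (hYΛ _ ⟨E, hE, rfl⟩ y hy _ ⟨w, hw, rfl⟩)).symm
      · intro w hw
        rw [Subgroup.mem_centralizer_singleton_iff]
        exact (Subtype.ext (hYF y hy _ ⟨w, hw, rfl⟩)).symm
    exact Subgroup.mem_centralizer_iff.mpr fun w hw =>
      Subgroup.mem_centralizer_singleton_iff.mp (hle hw)
  have hyF : y ∈ F := ⟨_, centralizer_gfitting_le_fitting hc, rfl⟩
  obtain ⟨k, hk⟩ := hFp ⟨y, hyF⟩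
  exact htwo y k (by simpa using congrArg Subtype.val hk) (hyodd y (hYO hy))

end Cfsg.Agent.Grp
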