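import Mathlib
import Cfsg.Prelude.Def_Balance
import Cfsg.Agent.Lib.Grp.Components
import Cfsg.Agent.Lib.Grp.Quasisimple
import Cfsg.Agent.Lib.Grp.Subnormal
import Cfsg.Agent.Lib.Grp.Baer
import Cfsg.Agent.Lib.Grp.PComponents
import Cfsg.Agent.Lib.Grp.CoprimeAbelian
import Cfsg.Agent.Lib.Grp.CoreComponentAction

/-!
The action of `O_{p'}(C(x))` on the components of a group with trivial `p'`-core, and the reduction
of balance to components.
-/

set_option autoImplicit false

namespace Cfsg.Agent.Grp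

open Subgroup
open scoped commutatorElement

universe u

section Perfect

variable {D : Type*} [Group D]

/-- In a perfect group the prime divisors of the order divide the order of the central quotient. -/
theorem dvd_quotient_center [Finite D] {p : ℕ} [hp : Fact p.Prime] (hD : commutator D = ⊤)
    (he : p ∣ Nat.card D) : p ∣ Nat.card (D ⧸ Subgroup.center D) := by
  by_contra hodd
  rw [← Subgroup.index_eq_card] at hodd
  have hker : (MonoidHom.transferCenterPow D).ker = ⊤ := by
    refine top_le_iff.mp ?_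
    rw [← hD, commutator_def, Subgroup.commutator_le]
    intro a _ b _
    rw [MonoidHom.mem_ker, map_commutatorElement, commutatorElement_eq_one_iff_mul_comm]
    exact Subtype.ext (Subgroup.mem_center_iff.mp (MonoidHom.transferCenterPow D a).2
      (MonoidHom.transferCenterPow D b : D)).symm
  obtain ⟨x, hx⟩ := exists_prime_orderOf_dvd_card' p he
  have h1 : x ∈ (MonoidHom.transferCenterPow D).ker := hker ▸ Subgroup.mem_top x
  have h2 := congrArg Subtype.val (MonoidHom.mem_ker.mp h1)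
  simp only [MonoidHom.transferCenterPow_apply, OneMemClass.coe_one] at h2
  exact hodd (hx ▸ orderOf_dvd_of_pow_eq_one h2)

/-- An automorphism of order dividing `p` fixes a noncentral `p`-element modulo the centre. -/
theorem exists_pElement_fixed_mod_center [Finite D] {p : ℕ} [hp : Fact p.Prime] (hD : commutator D = ⊤)
    (he : p ∣ Nat.card D) (σ : MulAut D) (hσ : σ ^ p = 1) :
    ∃ u : D, u ∉ Subgroup.center D ∧ (∃ k, u ^ p ^ k = 1) ∧ σ u * u⁻¹ ∈ Subgroup.center D := by
  classical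
  set Z := Subgroup.center D with hZ
  have hcc : ∀ f : MulAut D, Z.map f.toMonoidHom = Z := fun f =>
    Subgroup.characteristic_iff_map_eq.mp (inferInstance : Z.Characteristic) f
  let ψ : MulAut D →* MulAut (D ⧸ Z) :=
    { toFun := fun f => QuotientGroup.congr Z Z f (hcc f)
      map_one' := MulEquiv.ext fun q => by
        obtain ⟨x, rfl⟩ := QuotientGroup.mk_surjective q; rfl
      map_mul' := fun f g => MulEquiv.ext fun q => by
        obtain ⟨x, rfl⟩ := QuotientGroup.mk_surjective q; rfl }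
  set e := ψ σ with he'
  have hep : e ^ p = 1 := by rw [he', ← map_pow, hσ, map_one]
  have he_mk : ∀ x : D, e (QuotientGroup.mk x) = QuotientGroup.mk (σ x) := fun x => rfl
  haveI := Fintype.ofFinite (Sylow p (D ⧸ Z))
  let P : Equiv.Perm (Sylow p (D ⧸ Z)) := MulAction.toPermHom (MulAut (D ⧸ Z)) _ e
  have hP : P ^ p ^ 1 = 1 := by rw [pow_one, ← map_pow, hep, map_one]
  obtain ⟨S, hS⟩ := Equiv.Perm.exists_fixed_point_of_prime
    (by rw [← Nat.card_eq_fintype_card]; exact not_dvd_card_sylow p (D ⧸ Z)) hP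
  have hSe : ∀ q ∈ (S : Subgroup (D ⧸ Z)), e q ∈ (S : Subgroup (D ⧸ Z)) := by
    intro q hq
    have h : e • S = S := hS
    have h' := congrArg (fun T : Sylow p (D ⧸ Z) => (T : Subgroup (D ⧸ Z))) h
    simp only [Sylow.pointwise_smul_def] at h'
    rw [← h']
    exact Subgroup.smul_mem_pointwise_smul q e _ hq
  have hSd : p ∣ Nat.card (S : Subgroup (D ⧸ Z)) := Sylow.dvd_card_of_dvd_card S (dvd_quotient_center hD he)
  haveI := Fintype.ofFinite ↥(S : Subgroup (D ⧸ Z))
  let f : ↥(S : Subgroup (D ⧸ Z)) → ↥(S : Subgroup (D ⧸ Z)) := fun q => ⟨e q, hSe q q.2⟩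
  have hf : Function.Bijective f :=
    Finite.injective_iff_bijective.mp fun a b hab => Subtype.ext (e.injective (congrArg Subtype.val hab))
  have hQ : ∀ (m : ℕ) (q : ↥(S : Subgroup (D ⧸ Z))), (((Equiv.ofBijective f hf) ^ m) q : D ⧸ Z) = (e ^ m) q := by
    intro m
    induction m with
    | zero => intro q; rfl
    | succ m ih =>
      intro q
      rw [pow_succ', pow_succ', Equiv.Perm.mul_apply, MulAut.mul_apply, ← ih q]
      rfl
  obtain ⟨q, hq, hq1⟩ := Equiv.Perm.exists_fixed_point_of_prime' (p := p)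
    (by rw [← Nat.card_eq_fintype_card]; exact hSd) (σ := Equiv.ofBijective f hf) (n := 1)
    (Equiv.ext fun q => Subtype.ext (by rw [pow_one, hQ p q, hep]; rfl)) (a := 1) (Subtype.ext (map_one e))
  obtain ⟨y, hy⟩ := QuotientGroup.mk'_surjective Z (q : D ⧸ Z)
  obtain ⟨a, -, hap, hay⟩ := exists_pElement_lift (p := p) (QuotientGroup.mk' Z) (y := y) (by
    rw [hy]; exact S.isPGroup'.to_le (Subgroup.zpowers_le.mpr q.2))
  rw [hy] at hay
  refine ⟨a, fun haZ => hq1 (Subtype.ext ?_), ?_, ?_⟩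
  · rw [← hay]; exact (QuotientGroup.eq_one_iff a).mpr haZ
  · obtain ⟨k, hk⟩ := hap ⟨a, Subgroup.mem_zpowers a⟩
    exact ⟨k, by simpa using congrArg Subtype.val hk⟩
  · rw [← QuotientGroup.eq_one_iff, QuotientGroup.mk_mul, QuotientGroup.mk_inv, ← he_mk, mul_inv_eq_one]
    rw [show (QuotientGroup.mk a : D ⧸ Z) = q from hay]
    exact congrArg Subtype.val hq

end Perfect

theorem pow_eq_one_coprime {G : Type*} [Group G] {p : ℕ} [hp : Fact p.Prime] {u : G} {k : ℕ}
    (hk : u ^ p ^ k = 1) (h : (orderOf u).Coprime p) : u = 1 := by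
  have h1 := Nat.dvd_gcd (dvd_refl (orderOf u)) (orderOf_dvd_of_pow_eq_one hk)
  rw [(h.pow_right k)] at h1
  exact orderOf_eq_one_iff.mp (Nat.dvd_one.mp h1)

variable {G : Type u} [Group G] [Finite G] {p : ℕ} [hp : Fact p.Prime]

theorem conj_eq_iff {L : Subgroup G} {g : G} :
    L.map (MulAut.conj g).toMonoidHom = L ↔ g ∈ normalizer (L : Set G) := by
  rw [mem_normalizer_iff_smul, ← map_conj_eq_smul]

theorem component_conj_commute {L : Subgroup G} (hL : Cfsg.IsComponent L) {g h : G}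
    (hn : h⁻¹ * g ∉ normalizer (L : Set G)) {a b : G} (ha : a ∈ L) (hb : b ∈ L) :
    Commute (h * a * h⁻¹) (g * b * g⁻¹) := by
  have hne : L ≠ L.map (MulAut.conj (h⁻¹ * g)).toMonoidHom := fun e => hn (conj_eq_iff.mp e.symm)
  have hc : Cfsg.IsComponent (L.map (MulAut.conj (h⁻¹ * g)).toMonoidHom) := IsComponent.map_iso _ hL
  have hcomm := Subgroup.mem_centralizer_iff.mp (IsComponent.commute hL hc hne ha)
    _ ⟨b, hb, rfl⟩
  simp only [MulEquiv.coe_toMonoidHom, MulAut.conj_apply] at hcomm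
  show h * a * h⁻¹ * (g * b * g⁻¹) = g * b * g⁻¹ * (h * a * h⁻¹)
  calc h * a * h⁻¹ * (g * b * g⁻¹) = h * (a * (h⁻¹ * g * b * (h⁻¹ * g)⁻¹)) * h⁻¹ := by group
    _ = h * ((h⁻¹ * g * b * (h⁻¹ * g)⁻¹) * a) * h⁻¹ := by rw [hcomm]
    _ = g * b * g⁻¹ * (h * a * h⁻¹) := by group

theorem component_dvd (hO : Cfsg.pPrimeCore p G = ⊥) {L : Subgroup G} (hL : Cfsg.IsComponent L) :
    p ∣ Nat.card L := by
  by_contra hd
  have h := le_pPrimeCore_of_isSubnormal (p := p) hL.1 ((hp.out.coprime_iff_not_dvd.mpr hd).symm)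
  rw [hO, le_bot_iff] at h
  exact IsComponent.ne_bot hL h

theorem component_perfect {L : Subgroup G} (hL : Cfsg.IsComponent L) : commutator ↥L = ⊤ :=
  hL.2.1.commutator_eq_top

theorem component_central_mem_fitting {L : Subgroup G} (hL : Cfsg.IsComponent L) {z : G} (hz : z ∈ L)
    (hc : ∀ a ∈ L, a * z = z * a) : z ∈ Cfsg.fittingSubgroup G := by
  have hcomm : IsMulCommutative ↥(zpowers z) := inferInstance
  have hsn : (zpowers z).IsSubnormal := by
    refine IsSubnormal.step _ L (zpowers_le.mpr hz) hL.1 ?_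
    refine (Subgroup.normal_subgroupOf_iff_le_normalizer (zpowers_le.mpr hz)).mpr ?_
    refine le_trans ?_ (Subgroup.centralizer_le_normalizer _)
    rw [Subgroup.le_centralizer_iff, zpowers_le, Subgroup.mem_centralizer_iff]
    exact hc
  have hnil : Group.IsNilpotent ↥(zpowers z) := by
    refine ⟨1, ?_⟩
    rw [Subgroup.upperCentralSeries_one]
    exact top_le_iff.mp fun a _ => Subgroup.mem_center_iff.mpr fun b => mul_comm' b a
  exact le_fitting_of_isSubnormal hsn hnil (mem_zpowers z)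

/-- Data: a `p`-element `x` and a normal `p'`-subgroup `O` of its centralizer. -/
structure CoreData (p : ℕ) (G : Type u) [Group G] where
  x : G
  O : Subgroup G
  hx : x ^ p = 1
  hO : Cfsg.pPrimeCore p G = ⊥
  hOC : ∀ y ∈ O, y * x = x * y
  hOn : ∀ c : G, c * x = x * c → ∀ y ∈ O, c * y * c⁻¹ ∈ O
  hOp : (Nat.card O).Coprime p

namespace CoreData

variable (d : CoreData p G)

theorem coprime_of_mem {y : G} (hy : y ∈ d.O) : (orderOf y).Coprime p :=
  d.hOp.coprime_dvd_left (d.O.orderOf_dvd_natCard hy)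

theorem centralizes_fitting : ∀ y ∈ d.O, ∀ f ∈ Cfsg.fittingSubgroup G, y * f = f * y := by
  intro y hy f hf
  have hFn := fittingSubgroup_isNormal (G := G)
  have hFp : IsPGroup p ↥(Cfsg.fittingSubgroup G) := by
    rw [fitting_eq_pCore (p := p) d.hO]; exact pCore_isPGroup
  have hxz : IsPGroup p ↥(zpowers d.x) := by
    intro g
    obtain ⟨i, hi⟩ := Subgroup.mem_zpowers_iff.mp g.2
    refine ⟨1, Subtype.ext ?_⟩
    simp only [pow_one, SubmonoidClass.coe_pow, OneMemClass.coe_one, ← hi]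
    rw [← zpow_natCast, ← zpow_mul, mul_comm, zpow_mul, zpow_natCast, d.hx, one_zpow]
  have hnle : ∀ g : G, zpowers g ≤ normalizer (Cfsg.fittingSubgroup G : Set G) := fun g => by
    rw [Subgroup.normalizer_eq_top]; exact le_top
  have h := thompson_PQ (p := p) (zpowers d.x) (zpowers y) hxz
    (by rw [Nat.card_zpowers]; exact d.coprime_of_mem hy)
    (by
      rw [zpowers_le, Subgroup.mem_centralizer_iff]
      rintro _ ⟨i, rfl⟩
      exact ((show Commute y d.x from d.hOC y hy).zpow_left i).eq)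
    _ hFp (hnle _) (hnle _) ?_
  · exact (Subgroup.mem_centralizer_iff.mp (h (mem_zpowers y)) f hf).symm
  · rintro c ⟨hcF, hcx⟩
    have hcx' : c * d.x = d.x * c := (Subgroup.mem_centralizer_iff.mp hcx d.x (mem_zpowers _)).symm
    have h1 : c * y * c⁻¹ * y⁻¹ ∈ d.O := d.O.mul_mem (d.hOn c hcx' y hy) (d.O.inv_mem hy)
    have h2 : c * y * c⁻¹ * y⁻¹ ∈ Cfsg.fittingSubgroup G := by
      rw [show c * y * c⁻¹ * y⁻¹ = c * (y * c⁻¹ * y⁻¹) by group]
      exact Subgroup.mul_mem _ hcF (hFn.conj_mem _ (Subgroup.inv_mem _ hcF) y)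
    obtain ⟨k, hk⟩ := hFp ⟨_, h2⟩
    have h3 := pow_eq_one_coprime (p := p) (k := k) (by simpa using congrArg Subtype.val hk)
      (d.coprime_of_mem h1)
    have h4 : c * y = y * c := mul_inv_eq_iff_eq_mul.mp (mul_inv_eq_one.mp h3)
    rw [Subgroup.mem_centralizer_iff]
    rintro _ ⟨i, rfl⟩
    exact (((show Commute y c from h4.symm)).zpow_left i).eq

/-- `O` centralizes quasisimple subgroups of the layer fixed by `x`, of order divisible by `p`. -/
theorem centralizes_diagonal {M : Subgroup G} (hM : M ≤ Cfsg.layer G ⊓ centralizer ({d.x} : Set G))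
    (hMn : Cfsg.layer G ⊓ centralizer ({d.x} : Set G) ≤ normalizer (M : Set G))
    (hMq : Cfsg.IsQuasisimple ↥M) (hMp : p ∣ Nat.card M) : ∀ y ∈ d.O, ∀ m ∈ M, y * m = m * y := by
  intro y hy m hm
  set C := centralizer ({d.x} : Set G) with hC
  set Lt := Cfsg.layer G ⊓ C with hLt
  have hOC : d.O ≤ C := fun w hw => Subgroup.mem_centralizer_singleton_iff.mpr (d.hOC w hw)
  have hMC : M ≤ C := hM.trans inf_le_right
  have hLn : (Lt.subgroupOf C).Normal := by
    refine ⟨fun w hw c => ⟨?_, (c * w * c⁻¹).2⟩⟩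
    exact (inferInstance : (Cfsg.layer G).Normal).conj_mem _ hw.1 _
  have hsub : (M.subgroupOf C).IsSubnormal := by
    refine IsSubnormal.step _ (Lt.subgroupOf C) (fun w hw => hM hw) hLn.isSubnormal ?_
    refine (Subgroup.normal_subgroupOf_iff_le_normalizer (H := M.subgroupOf C) (K := Lt.subgroupOf C)
      (fun w hw => hM hw)).mpr ?_
    intro c hc
    rw [mem_normalizer_iff]
    exact fun w => mem_normalizer_iff.mp (hMn hc) (w : G)
  have hMcomp : Cfsg.IsComponent (M.subgroupOf C) := ⟨hsub, (isQuasisimple_subgroupOf_iff hMC).mpr hMq⟩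
  have hOn' : (d.O.subgroupOf C).Normal :=
    ⟨fun w hw c => d.hOn c (Subgroup.mem_centralizer_singleton_iff.mp c.2) w hw⟩
  rcases component_le_or_commute hMcomp hOn'.isSubnormal with h | h
  · exfalso
    have hle : M ≤ d.O := fun w hw => h (show (⟨w, hMC hw⟩ : ↥C) ∈ M.subgroupOf C from hw)
    exact (hp.out.coprime_iff_not_dvd.mp (d.hOp.coprime_dvd_left (Subgroup.card_dvd_of_le hle)).symm) hMp
  · exact congrArg Subtype.val (Subgroup.mem_centralizer_iff.mp
      (Subgroup.commutator_eq_bot_iff_le_centralizer.mp h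
        (show (⟨m, hMC hm⟩ : ↥C) ∈ M.subgroupOf C from hm)) ⟨y, hOC hy⟩ hy)

theorem layer_le_normalizer {L : Subgroup G} (hL : Cfsg.IsComponent L) :
    Cfsg.layer G ≤ normalizer (L : Set G) := by
  refine sSup_le fun K hK => ?_
  by_cases e : L = K
  · rw [e]; exact Subgroup.le_normalizer
  · exact (IsComponent.commute hK hL (Ne.symm e)).trans (Subgroup.centralizer_le_normalizer _)

theorem centralizes_of_fixed {L : Subgroup G} (hL : Cfsg.IsComponent L)
    (hxL : ∀ a ∈ L, d.x * a = a * d.x) : ∀ y ∈ d.O, ∀ a ∈ L, y * a = a * y :=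
  d.centralizes_diagonal (le_inf (IsComponent.le_layer hL) fun a ha =>
    Subgroup.mem_centralizer_singleton_iff.mpr (hxL a ha).symm)
    (inf_le_left.trans (layer_le_normalizer hL)) hL.2 (component_dvd d.hO hL)

theorem centralizes_of_moved {L : Subgroup G} (hL : Cfsg.IsComponent L)
    (hx : d.x ∉ normalizer (L : Set G)) : ∀ y ∈ d.O, ∀ a ∈ L, y * a = a * y := by
  intro y hy
  have hpow : ∀ i : ℕ, d.x ^ i ∈ normalizer (L : Set G) → p ∣ i := by
    intro i hi
    by_contra hni
    refine hx ?_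
    obtain ⟨m, hm⟩ := exists_pow_eq_self_of_coprime (n := i) (x := d.x)
      (((hp.out.coprime_iff_not_dvd.mpr hni).symm).coprime_dvd_right (orderOf_dvd_of_pow_eq_one d.hx))
    exact hm ▸ Subgroup.pow_mem _ hi m
  -- partial products
  let ψ : ℕ → G → G := fun m a => (a * d.x) ^ m * (d.x ^ m)⁻¹
  have hψ : ∀ m a, ψ (m + 1) a = ψ m a * (d.x ^ m * a * (d.x ^ m)⁻¹) := fun m a => by
    simp only [ψ, pow_succ]; group
  have hψ0 : ∀ a, ψ 0 a = 1 := fun a => by simp [ψ]
  have hψc : ∀ (m : ℕ) (g : G) (a b : G), a ∈ L → b ∈ L →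
      (∀ i < m, g⁻¹ * d.x ^ i ∉ normalizer (L : Set G)) → Commute (g * a * g⁻¹) (ψ m b) := by
    intro m
    induction m with
    | zero => intro g a b _ _ _; rw [hψ0]; exact Commute.one_right _
    | succ m ih =>
      intro g a b ha hb hi
      rw [hψ]
      exact (ih g a b ha hb fun i him => hi i (Nat.lt_succ_of_lt him)).mul_right
        (component_conj_commute hL (hi m (Nat.lt_succ_self m)) ha hb)
  have hψhom : ∀ m ≤ p, ∀ a ∈ L, ∀ b ∈ L, ψ m (a * b) = ψ m a * ψ m b := by
    intro m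
    induction m with
    | zero => intro _ a _ b _; simp [hψ0]
    | succ m ih =>
      intro hm a ha b hb
      rw [hψ, hψ, hψ, ih (by omega) a ha b hb]
      have hc := hψc m (d.x ^ m) a b ha hb (fun i him hmem => by
        have hsub : d.x ^ (m - i) ∈ normalizer (L : Set G) := by
          have h := (normalizer (L : Set G)).inv_mem hmem
          rw [mul_inv_rev, inv_inv] at h
          rwa [show (d.x ^ i)⁻¹ * d.x ^ m = d.x ^ (m - i) by
            rw [show m = i + (m - i) by omega, pow_add, inv_mul_cancel_left, Nat.add_sub_cancel_left]] at h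
        have := Nat.le_of_dvd (by omega) (hpow _ hsub)
        omega)
      calc ψ m a * ψ m b * (d.x ^ m * (a * b) * (d.x ^ m)⁻¹)
          = ψ m a * (ψ m b * (d.x ^ m * a * (d.x ^ m)⁻¹)) * (d.x ^ m * b * (d.x ^ m)⁻¹) := by group
        _ = ψ m a * ((d.x ^ m * a * (d.x ^ m)⁻¹) * ψ m b) * (d.x ^ m * b * (d.x ^ m)⁻¹) := by rw [hc.eq]
        _ = _ := by group
  -- the other factors centralize `L`
  have hrest : ∀ m, m < p → ∀ a ∈ L, ∀ b ∈ L, Commute a (b⁻¹ * ψ (m + 1) b) := by
    intro m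
    induction m with
    | zero =>
      intro _ a _ b _
      have e : b⁻¹ * ψ (0 + 1) b = 1 := by rw [hψ, hψ0]; simp
      rw [e]; exact Commute.one_right _
    | succ m ih =>
      intro hm a ha b hb
      rw [hψ (m + 1), ← mul_assoc]
      refine (ih (by omega) a ha b hb).mul_right ?_
      have h := component_conj_commute hL (g := d.x ^ (m + 1)) (h := 1) (a := a) (b := b) (by
        rw [inv_one, one_mul]
        intro hmem
        have := Nat.le_of_dvd (by omega) (hpow _ hmem)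
        omega) ha hb
      simpa using h
  have hp1 : p - 1 + 1 = p := Nat.succ_pred_eq_of_pos hp.out.pos
  have hrest' : ∀ a ∈ L, ∀ b ∈ L, Commute a (b⁻¹ * (b * d.x) ^ p) := by
    intro a ha b hb
    have h := hrest (p - 1) (by omega) a ha b hb
    rw [hp1] at h
    simpa [ψ, d.hx] using h
  have hself : ∀ b ∈ L, Commute b ((b * d.x) ^ p) := by
    intro b hb
    have h := (Commute.refl b).mul_right (hrest' b hb b hb)
    rwa [mul_inv_cancel_left] at h
  let φ : ↥L →* G :=
    { toFun := fun a => ((a : G) * d.x) ^ p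
      map_one' := by simp [d.hx]
      map_mul' := fun a b => by
        have h := hψhom p le_rfl a a.2 b b.2
        simpa [ψ, d.hx] using h }
  have hφ : ∀ a : ↥L, φ a = ((a : G) * d.x) ^ p := fun a => rfl
  set M := φ.range with hM
  have hφx : ∀ a : ↥L, Commute d.x (φ a) := fun a => by
    have h1 : Commute ((a : G)⁻¹ * ((a : G) * d.x)) (φ a) :=
      ((hself a a.2).inv_left).mul_left (Commute.self_pow _ p)
    rwa [inv_mul_cancel_left] at h1
  have hψlayer : ∀ (m : ℕ) (a : G), a ∈ L → ψ m a ∈ Cfsg.layer G := by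
    intro m
    induction m with
    | zero => intro a _; rw [hψ0]; exact Subgroup.one_mem _
    | succ m ih =>
      intro a ha
      rw [hψ]
      exact Subgroup.mul_mem _ (ih a ha)
        ((inferInstance : (Cfsg.layer G).Normal).conj_mem _ (IsComponent.le_layer hL ha) _)
  have hMle : M ≤ Cfsg.layer G ⊓ centralizer ({d.x} : Set G) := by
    rintro _ ⟨a, rfl⟩
    refine ⟨?_, ?_⟩
    · have h := hψlayer p a a.2
      simpa [ψ, d.hx, hφ] using h
    · show φ a ∈ centralizer ({d.x} : Set G)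
      exact Subgroup.mem_centralizer_singleton_iff.mpr (hφx a).eq.symm
  have hMn : Cfsg.layer G ⊓ centralizer ({d.x} : Set G) ≤ normalizer (M : Set G) := by
    have h : ∀ e ∈ Cfsg.layer G ⊓ centralizer ({d.x} : Set G), ∀ m ∈ M, e * m * e⁻¹ ∈ M := by
      rintro e he m ⟨a, rfl⟩
      refine ⟨⟨e * a * e⁻¹, (mem_normalizer_iff.mp (layer_le_normalizer hL he.1) _).mp a.2⟩, ?_⟩
      have hex : e * d.x = d.x * e := Subgroup.mem_centralizer_singleton_iff.mp he.2
      rw [hφ, hφ, ← conj_pow]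
      congr 1
      calc e * (a : G) * e⁻¹ * d.x = e * (a : G) * (e⁻¹ * (d.x * e)) * e⁻¹ := by group
        _ = e * (a : G) * (e⁻¹ * (e * d.x)) * e⁻¹ := by rw [hex]
        _ = e * ((a : G) * d.x) * e⁻¹ := by group
    intro e he
    rw [mem_normalizer_iff]
    refine fun m => ⟨h e he m, fun hm => ?_⟩
    have h2 := h e⁻¹ ((Cfsg.layer G ⊓ centralizer ({d.x} : Set G)).inv_mem he) _ hm
    simpa [mul_assoc] using h2
  have hker : ∀ a : ↥L, φ a = 1 → a ∈ Subgroup.center ↥L := by
    intro a ha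
    rw [hφ] at ha
    refine Subgroup.mem_center_iff.mpr fun b => Subtype.ext ?_
    have h := hrest' b b.2 a a.2
    rw [ha, mul_one] at h
    exact (Commute.inv_right_iff.mp h).eq
  have hne1 : ∃ a : ↥L, a ∉ Subgroup.center ↥L := by
    by_contra hall
    push Not at hall
    exact IsQuasisimple.center_ne_top hL.2 (top_le_iff.mp fun a _ => hall a)
  haveI : Nontrivial ↥M := by
    obtain ⟨a, ha⟩ := hne1
    exact ⟨⟨φ.rangeRestrict a, 1, fun e => ha (hker a (by simpa using congrArg Subtype.val e))⟩⟩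
  have hMq : Cfsg.IsQuasisimple ↥M := IsQuasisimple.of_surjective hL.2 φ.rangeRestrict_surjective
  have hMp : p ∣ Nat.card M := by
    have h1 := dvd_quotient_center (component_perfect hL) (component_dvd d.hO hL)
    refine h1.trans ?_
    rw [← Subgroup.index_eq_card, ← Subgroup.index_ker]
    exact Subgroup.index_dvd_of_le fun a ha => hker a ha
  have hyfix : ∀ a : ↥L, y * φ a * y⁻¹ = φ a := fun a => by
    rw [d.centralizes_diagonal hMle hMn hMq hMp y hy _ ⟨a, rfl⟩, mul_inv_cancel_right]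
  have hyx : Commute y d.x := d.hOC y hy
  have hconj : ∀ a : ↥L, y * φ a * y⁻¹ = (y * (a : G) * y⁻¹ * d.x) ^ p := fun a => by
    rw [hφ, ← conj_pow]
    congr 1
    calc y * ((a : G) * d.x) * y⁻¹ = y * (a : G) * y⁻¹ * (y * d.x * y⁻¹) := by group
      _ = _ := by rw [hyx.eq, mul_inv_cancel_right]
  have hyN : y ∈ normalizer (L : Set G) := by
    by_cases hex : ∃ i : ℕ, d.x ^ i * y ∈ normalizer (L : Set G)
    · obtain ⟨i, hi⟩ := hex
      have h := Subgroup.pow_mem _ hi (orderOf y)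
      rw [(hyx.pow_right i).symm.mul_pow, pow_orderOf_eq_one, mul_one, ← pow_mul] at h
      have h2 : p ∣ i := (Nat.Coprime.dvd_of_dvd_mul_right (d.coprime_of_mem hy).symm (hpow _ h))
      obtain ⟨j, rfl⟩ := h2
      rwa [pow_mul, d.hx, one_pow, one_mul] at hi
    · exfalso
      push Not at hex
      obtain ⟨b, hb⟩ := hne1
      refine hb (Subgroup.mem_center_iff.mpr fun a => Subtype.ext ?_)
      have hcm : ∀ m : ℕ, Commute (a : G) ((y * b * y⁻¹ * d.x) ^ m * (d.x ^ m)⁻¹) := by
        intro m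
        induction m with
        | zero => simp
        | succ m ih =>
          have e : (y * b * y⁻¹ * d.x) ^ (m + 1) * (d.x ^ (m + 1))⁻¹ =
              ((y * b * y⁻¹ * d.x) ^ m * (d.x ^ m)⁻¹) * ((d.x ^ m * y) * b * (d.x ^ m * y)⁻¹) := by
            simp only [pow_succ]; group
          rw [e]
          refine ih.mul_right ?_
          have h := component_conj_commute hL (g := d.x ^ m * y) (h := 1) (a := (a : G)) (b := (b : G))
            (by rw [inv_one, one_mul]; exact hex m) a.2 b.2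
          simpa using h
      have h3 : Commute (a : G) (φ b) := by
        have h := hcm p
        rwa [d.hx, inv_one, mul_one, ← hconj, hyfix] at h
      have h4 := h3.mul_right (hrest' a a.2 b b.2).inv_right
      rw [hφ] at h4
      have e : ((b : G) * d.x) ^ p * ((b : G)⁻¹ * ((b : G) * d.x) ^ p)⁻¹ = b := by group
      rw [e] at h4
      exact h4.eq
  intro a ha
  let σ : ↥L →* ↥L := (L.normalizerMonoidHom ⟨y, hyN⟩).toMonoidHom
  have hσc : ∀ b : ↥L, σ b * b⁻¹ ∈ Subgroup.center ↥L := by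
    intro b
    refine hker _ ?_
    rw [map_mul, map_inv, mul_inv_eq_one]
    calc φ (σ b) = (y * (b : G) * y⁻¹ * d.x) ^ p := rfl
      _ = φ b := by rw [← hconj, hyfix]
  have h := congrArg Subtype.val (perfect_fixed_of_central (component_perfect hL) σ hσc ⟨a, ha⟩)
  exact mul_inv_eq_iff_eq_mul.mp h

theorem le_normalizer_component {L : Subgroup G} (hL : Cfsg.IsComponent L) :
    d.O ≤ normalizer (L : Set G) := by
  intro y hy
  by_cases hx : d.x ∈ normalizer (L : Set G)
  swap
  · exact Subgroup.centralizer_le_normalizer _ (Subgroup.mem_centralizer_iff.mpr fun a ha =>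
      (d.centralizes_of_moved hL hx y hy a ha).symm)
  by_contra hy1
  have hσp : (L.normalizerMonoidHom ⟨d.x, hx⟩) ^ p = 1 := by
    rw [← map_pow, show (⟨d.x, hx⟩ : ↥(normalizer (L : Set G))) ^ p = 1 from Subtype.ext (by simp [d.hx]), map_one]
  obtain ⟨⟨u, hu⟩, huc, ⟨k, hk⟩, huz⟩ :=
    exists_pElement_fixed_mod_center (component_perfect hL) (component_dvd d.hO hL) _ hσp
  have huk : u ^ p ^ k = 1 := by simpa using congrArg Subtype.val hk
  set z := d.x * u * d.x⁻¹ * u⁻¹ with hz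
  have hzL : z ∈ L := L.mul_mem ((mem_normalizer_iff.mp hx u).mp hu) (L.inv_mem hu)
  have hzc : ∀ a ∈ L, a * z = z * a := fun a ha =>
    congrArg Subtype.val (Subgroup.mem_center_iff.mp huz ⟨a, ha⟩)
  have hyz : y * z * y⁻¹ = z := by
    rw [d.centralizes_fitting y hy z (component_central_mem_fitting hL hzL hzc), mul_inv_cancel_right]
  have hyx : y * d.x = d.x * y := d.hOC y hy
  set u1 := y * u * y⁻¹ with hu1
  set u2 := y * u1 * y⁻¹ with hu2
  have hc1 : ∀ a ∈ L, Commute a u1 := fun a ha => by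
    simpa [hu1] using component_conj_commute hL (g := y) (h := 1) (a := a) (b := u) (by simpa using hy1) ha hu
  have hc2 : ∀ a ∈ L, Commute (y * a * y⁻¹) u2 := fun a ha => by
    have h := component_conj_commute hL (g := y * y) (h := y) (a := a) (b := u) (by simpa using hy1) ha hu
    have e : u2 = y * y * u * (y * y)⁻¹ := by rw [hu2, hu1]; group
    rwa [e]
  set w := u * u1⁻¹ with hw
  have hwx : w * d.x = d.x * w := by
    have e1 : d.x * u * d.x⁻¹ = z * u := by rw [hz]; group
    have e2 : d.x * u1 * d.x⁻¹ = z * u1 := by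
      calc d.x * u1 * d.x⁻¹ = (d.x * y) * u * (d.x * y)⁻¹ := by rw [hu1]; group
        _ = y * (d.x * u * d.x⁻¹) * y⁻¹ := by rw [← hyx]; group
        _ = (y * z * y⁻¹) * u1 := by rw [e1, hu1]; group
        _ = z * u1 := by rw [hyz]
    have h : d.x * w * d.x⁻¹ = w := by
      calc d.x * w * d.x⁻¹ = (d.x * u * d.x⁻¹) * (d.x * u1 * d.x⁻¹)⁻¹ := by rw [hw]; group
        _ = (u * z) * (u1 * z)⁻¹ := by rw [e1, e2, (hc1 z hzL).eq, hzc u hu]
        _ = w := by rw [hw]; group
    exact (mul_inv_eq_iff_eq_mul.mp h).symm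
  set v := w⁻¹ * y * w * y⁻¹ with hv
  have hvO : v ∈ d.O := by
    refine d.O.mul_mem ?_ (d.O.inv_mem hy)
    simpa using d.hOn w⁻¹ ((show Commute w d.x from hwx).inv_left).eq y hy
  have hve : v = u⁻¹ * (u1 * u1 * u2⁻¹) := by
    have e0 : v = u1 * u⁻¹ * u1 * u2⁻¹ := by rw [hv, hw, hu2, hu1]; group
    rw [e0, (hc1 u⁻¹ (L.inv_mem hu)).eq.symm]; group
  have hncn : (orderOf v).Coprime (orderOf u) :=
    ((d.coprime_of_mem hvO).pow_right k).coprime_dvd_right (orderOf_dvd_of_pow_eq_one huk)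
  refine huc ?_
  by_cases hp2 : p = 2
  · -- here `y²` moves `L` as well
    have hy2 : y * y ∉ normalizer (L : Set G) := by
      intro h
      refine hy1 ?_
      obtain ⟨m, hm⟩ := exists_pow_eq_self_of_coprime (n := 2) (x := y)
        (by rw [← hp2]; exact (d.coprime_of_mem hy).symm)
      rw [← hm]
      exact Subgroup.pow_mem _ (by rwa [pow_two]) m
    have hc3 : ∀ a ∈ L, Commute a u2 := fun a ha => by
      have h := component_conj_commute hL (g := y * y) (h := 1) (a := a) (b := u) (by simpa using hy2) ha hu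
      have e : u2 = y * y * u * (y * y)⁻¹ := by rw [hu2, hu1]; group
      rw [e]; simpa using h
    have hrc : ∀ a ∈ L, Commute a (u1 * u1 * u2⁻¹) := fun a ha =>
      ((hc1 a ha).mul_right (hc1 a ha)).mul_right (hc3 a ha).inv_right
    have hpow : (u⁻¹ * (u1 * u1 * u2⁻¹)) ^ orderOf v = 1 := by rw [← hve, pow_orderOf_eq_one]
    rw [(hrc u⁻¹ (L.inv_mem hu)).mul_pow, inv_pow] at hpow
    obtain ⟨m, hm⟩ := exists_pow_eq_self_of_coprime hncn
    refine Subgroup.mem_center_iff.mpr fun a => Subtype.ext ?_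
    show (a : G) * u = u * a
    rw [← hm, inv_mul_eq_one.mp hpow]
    exact (((hrc a a.2).pow_right _).pow_right m).eq
  · -- here the image of `u` appears squared
    have hrc : ∀ a ∈ L, Commute (y * a * y⁻¹) (u⁻¹ * u2⁻¹) := fun a ha => by
      refine Commute.mul_right ?_ (hc2 a ha).inv_right
      have h := component_conj_commute hL (g := y) (h := 1) (a := u⁻¹) (b := a) (by simpa using hy1) (L.inv_mem hu) ha
      simpa using h.symm
    have hve' : v = (u1 * u1) * (u⁻¹ * u2⁻¹) := by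
      rw [hve]
      have h : Commute u⁻¹ (u1 * u1) := (hc1 u⁻¹ (L.inv_mem hu)).mul_right (hc1 u⁻¹ (L.inv_mem hu))
      calc u⁻¹ * (u1 * u1 * u2⁻¹) = (u⁻¹ * (u1 * u1)) * u2⁻¹ := by group
        _ = (u1 * u1 * u⁻¹) * u2⁻¹ := by rw [h.eq]
        _ = _ := by group
    have hpow : ((u1 * u1) * (u⁻¹ * u2⁻¹)) ^ orderOf v = 1 := by rw [← hve', pow_orderOf_eq_one]
    rw [((hrc u hu).mul_left (hrc u hu)).mul_pow] at hpow
    have hu1sq : (u1 * u1) ^ orderOf v = u1 ^ (2 * orderOf v) := by rw [pow_mul, pow_two]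
    rw [hu1sq] at hpow
    have hcop2 : (2 * orderOf v).Coprime (orderOf u) := Nat.Coprime.mul_left
      ((((Nat.coprime_primes Nat.prime_two hp.out).mpr (Ne.symm hp2)).pow_right k).coprime_dvd_right
        (orderOf_dvd_of_pow_eq_one huk)) hncn
    obtain ⟨m, hm⟩ := exists_pow_eq_self_of_coprime hcop2
    refine Subgroup.mem_center_iff.mpr fun a => Subtype.ext ?_
    show (a : G) * u = u * a
    have h5 : Commute (y * a * y⁻¹) (u1 ^ (2 * orderOf v)) := by
      rw [eq_inv_of_mul_eq_one_left hpow]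
      exact ((hrc a a.2).pow_right _).inv_right
    have h6 := h5.pow_right m
    have hu1m : (u1 ^ (2 * orderOf v)) ^ m = u1 := by
      rw [hu1, conj_pow, conj_pow, hm]
    rw [hu1m] at h6
    have h7 := congrArg (fun g => y⁻¹ * g * y) h6.eq
    simpa [hu1, mul_assoc] using h7

theorem component_commutator {L : Subgroup G} (hL : Cfsg.IsComponent L)
    (hne : ⁅L, zpowers d.x⁆ ≠ L) : ∀ y ∈ d.O, ∀ a ∈ L, y * a = a * y := by
  by_cases hx : d.x ∈ normalizer (L : Set G)
  swap
  · exact d.centralizes_of_moved hL hx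
  refine d.centralizes_of_fixed hL ?_
  have hle : ⁅L, zpowers d.x⁆ ≤ L := commutator_le_left_of_le_normalizer (zpowers_le.mpr hx)
  have hn : (⁅L, zpowers d.x⁆.subgroupOf L).Normal :=
    (Subgroup.normal_subgroupOf_iff_le_normalizer hle).mpr (by
      rw [Subgroup.commutator_comm]; exact right_le_normalizer_commutator L _)
  have hc := (IsQuasisimple.eq_top_or_le_center hL.2 (⁅L, zpowers d.x⁆.subgroupOf L)).resolve_left
    fun h => hne (le_antisymm hle (Subgroup.subgroupOf_eq_top.mp h))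
  intro a ha
  let σ : ↥L →* ↥L := (L.normalizerMonoidHom ⟨d.x, hx⟩).toMonoidHom
  have h := congrArg Subtype.val (perfect_fixed_of_central (component_perfect hL) σ (fun b => by
    refine hc (mem_subgroupOf.mpr ?_)
    have h1 : ⁅d.x, (b : G)⁆ ∈ ⁅zpowers d.x, L⁆ := Subgroup.commutator_mem_commutator (mem_zpowers _) b.2
    rw [Subgroup.commutator_comm]
    simpa [commutatorElement_def, σ] using h1) ⟨a, ha⟩)
  exact mul_inv_eq_iff_eq_mul.mp h

/-- The image of `O ∩ R` in a quotient by `C(L)` lies in the core of the centralizer of the image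
of `x`. -/
theorem map_mem_core {L : Subgroup G} (hL : Cfsg.IsComponent L) {R : Subgroup G}
    (hRx : R ≤ centralizer ({d.x} : Set G)) (hRN : R ≤ normalizer (L : Set G)) (hxR : d.x ∈ R)
    {Q : Type*} [Group Q] [Finite Q] (f : ↥(L ⊔ R) →* Q) (hf : Function.Surjective f)
    (hker : ∀ h : ↥(L ⊔ R), f h = 1 ↔ ∀ a ∈ L, (h : G) * a = a * h)
    {y : G} (hyO : y ∈ d.O) (hyR : y ∈ R) :
    f ⟨y, Subgroup.mem_sup_right hyR⟩ ∈ Cfsg.centralizerPPrimeCore p (f ⟨d.x, Subgroup.mem_sup_right hxR⟩) := by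
  have hxN := hRN hxR
  have hON : d.O ≤ normalizer (L : Set G) := d.le_normalizer_component hL
  set x' : ↥(L ⊔ R) := ⟨d.x, Subgroup.mem_sup_right hxR⟩ with hx'
  let W0 : Subgroup G := (L ⊓ centralizer ({d.x} : Set G)) ⊔ (d.O ⊓ (L ⊔ R))
  have hW0H : W0 ≤ L ⊔ R := sup_le (inf_le_left.trans le_sup_left) inf_le_right
  have hW0C : W0 ≤ centralizer ({d.x} : Set G) :=
    sup_le inf_le_right (inf_le_left.trans fun o ho => Subgroup.mem_centralizer_singleton_iff.mpr (d.hOC o ho))
  have hOn0 : ((d.O ⊓ (L ⊔ R)).subgroupOf W0).Normal := by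
    refine ⟨fun o ho w => ⟨d.hOn w (Subgroup.mem_centralizer_singleton_iff.mp (hW0C w.2)) o ho.1, ?_⟩⟩
    exact (L ⊔ R).mul_mem ((L ⊔ R).mul_mem (hW0H w.2) ho.2) ((L ⊔ R).inv_mem (hW0H w.2))
  set W : Subgroup G := (Cfsg.pPrimeCore p ↥W0).map W0.subtype with hW
  have hOW : d.O ⊓ (L ⊔ R) ≤ W := by
    intro o ho
    refine ⟨⟨o, Subgroup.mem_sup_right ho⟩, le_pPrimeCore hOn0 ?_ (show _ ∈ (d.O ⊓ (L ⊔ R)).subgroupOf W0 from ho), rfl⟩
    rw [Nat.card_congr (Subgroup.subgroupOfEquivOfLe le_sup_right).toEquiv]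
    exact d.hOp.coprime_dvd_left (Subgroup.card_dvd_of_le inf_le_left)
  have hWH : W ≤ L ⊔ R := (Subgroup.map_subtype_le _).trans hW0H
  have hWp : (Nat.card W).Coprime p := by
    rw [hW, Subgroup.card_map_of_injective W0.subtype_injective]; exact pPrimeCore_coprime
  let Wf : Subgroup Q := (W.subgroupOf (L ⊔ R)).map f
  have hWfp : (Nat.card Wf).Coprime p := by
    refine hWp.coprime_dvd_left ((Subgroup.card_map_dvd (f := f) (W.subgroupOf (L ⊔ R))).trans ?_)
    rw [Nat.card_congr (Subgroup.subgroupOfEquivOfLe hWH).toEquiv]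
  have hWfC : Wf ≤ centralizer ({f x'} : Set Q) := by
    rintro _ ⟨w, hw, rfl⟩
    rw [Subgroup.mem_centralizer_singleton_iff, ← map_mul, ← map_mul]
    exact congrArg f (Subtype.ext (Subgroup.mem_centralizer_singleton_iff.mp
      (hW0C (Subgroup.map_subtype_le _ (mem_subgroupOf.mp hw)))))
  have hWchar : ∀ g : G, g ∈ normalizer (W0 : Set G) → ∀ w ∈ W, g * w * g⁻¹ ∈ W := by
    rintro g hg w ⟨v, hv, rfl⟩
    have := (inferInstance : (Cfsg.pPrimeCore p ↥W0).Characteristic)
    exact ⟨_, (Subgroup.characteristic_iff_le_comap.mp this (W0.normalizerMonoidHom ⟨g, hg⟩)) hv, rfl⟩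
  have hnormW0 : ∀ g : G, (∀ c ∈ L ⊓ centralizer ({d.x} : Set G), g * c * g⁻¹ ∈ W0) →
      (∀ o ∈ d.O ⊓ (L ⊔ R), g * o * g⁻¹ ∈ W0) → g ∈ normalizer (W0 : Set G) := by
    intro g h1 h2
    have hle : W0.map (MulAut.conj g).toMonoidHom ≤ W0 := by
      rw [Subgroup.map_sup]
      refine sup_le ?_ ?_
      · rintro _ ⟨c, hc, rfl⟩; exact h1 c hc
      · rintro _ ⟨o, ho, rfl⟩; exact h2 o ho
    refine conj_eq_iff.mp (Subgroup.eq_of_le_of_card_ge hle ?_)
    rw [Subgroup.card_map_of_injective (MulAut.conj g).injective]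
  have hnorm : ∀ q, q ∈ centralizer ({f x'} : Set Q) → ∀ w ∈ Wf, q * w * q⁻¹ ∈ Wf := by
    intro q hq
    obtain ⟨⟨h, hh⟩, rfl⟩ := hf q
    have hh' := hh
    rw [← SetLike.mem_coe, Subgroup.coe_mul_of_right_le_normalizer_left L R hRN] at hh'
    obtain ⟨l, hl, r, hr, rfl⟩ := hh'
    have hrx : r * d.x = d.x * r := Subgroup.mem_centralizer_singleton_iff.mp (hRx hr)
    set z := d.x * l * d.x⁻¹ * l⁻¹ with hz
    have hzL : z ∈ L := L.mul_mem ((mem_normalizer_iff.mp hxN l).mp hl) (L.inv_mem hl)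
    have hzc : ∀ a ∈ L, a * z = z * a := by
      rw [Subgroup.mem_centralizer_singleton_iff, ← map_mul, ← map_mul] at hq
      have h1 : f ⟨z, Subgroup.mem_sup_left hzL⟩ = 1 := by
        have e : (⟨z, Subgroup.mem_sup_left hzL⟩ : ↥(L ⊔ R)) = (x' * ⟨l * r, hh⟩) * (⟨l * r, hh⟩ * x')⁻¹ := by
          refine Subtype.ext ?_
          show z = d.x * (l * r) * ((l * r) * d.x)⁻¹
          have : (l * r) * d.x = l * d.x * r := by rw [mul_assoc, hrx, mul_assoc]
          rw [this, hz]; group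
        rw [e, map_mul, map_inv, ← hq, mul_inv_cancel]
      intro a ha
      exact ((hker _).mp h1 a ha).symm
    have hzF := component_central_mem_fitting hL hzL hzc
    have el : d.x * l * d.x⁻¹ = z * l := by rw [hz]; group
    have hln : l ∈ normalizer (W0 : Set G) := by
      refine hnormW0 l ?_ ?_
      · rintro c ⟨hcL, hcx⟩
        refine Subgroup.mem_sup_left ⟨L.mul_mem (L.mul_mem hl hcL) (L.inv_mem hl), ?_⟩
        have hcx' : c * d.x = d.x * c := Subgroup.mem_centralizer_singleton_iff.mp hcx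
        have hm : l * c * l⁻¹ ∈ L := L.mul_mem (L.mul_mem hl hcL) (L.inv_mem hl)
        show l * c * l⁻¹ ∈ centralizer ({d.x} : Set G)
        rw [Subgroup.mem_centralizer_singleton_iff, eq_comm, ← mul_inv_eq_iff_eq_mul]
        calc d.x * (l * c * l⁻¹) * d.x⁻¹ = (d.x * l * d.x⁻¹) * (d.x * c * d.x⁻¹) * (d.x * l * d.x⁻¹)⁻¹ := by group
          _ = z * (l * c * l⁻¹) * z⁻¹ := by rw [el, ← hcx', mul_inv_cancel_right]; group
          _ = _ := by rw [← hzc _ hm, mul_inv_cancel_right]
      · intro o ho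
        have hoN := hON ho.1
        have hm : l * (o * l⁻¹ * o⁻¹) ∈ L :=
          L.mul_mem hl ((mem_normalizer_iff.mp hoN _).mp (L.inv_mem hl))
        have hox : o * d.x = d.x * o := d.hOC o ho.1
        have hfix : l * (o * l⁻¹ * o⁻¹) ∈ centralizer ({d.x} : Set G) := by
          rw [Subgroup.mem_centralizer_singleton_iff, eq_comm, ← mul_inv_eq_iff_eq_mul]
          have hoz : o * z⁻¹ * o⁻¹ = z⁻¹ := by
            rw [d.centralizes_fitting o ho.1 _ (Subgroup.inv_mem _ hzF), mul_inv_cancel_right]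
          calc d.x * (l * (o * l⁻¹ * o⁻¹)) * d.x⁻¹
              = (d.x * l * d.x⁻¹) * ((d.x * o * d.x⁻¹) * (d.x * l * d.x⁻¹)⁻¹ * (d.x * o * d.x⁻¹)⁻¹) := by group
            _ = z * (l * (o * l⁻¹ * o⁻¹)) * (o * z⁻¹ * o⁻¹) := by rw [el, ← hox, mul_inv_cancel_right]; group
            _ = _ := by rw [hoz, ← hzc _ hm, mul_inv_cancel_right]
        have e : l * o * l⁻¹ = l * (o * l⁻¹ * o⁻¹) * o := by group
        rw [e]
        exact W0.mul_mem (Subgroup.mem_sup_left ⟨hm, hfix⟩) (Subgroup.mem_sup_right ho)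
    have hrn : r ∈ normalizer (W0 : Set G) := by
      refine hnormW0 r ?_ ?_
      · rintro c ⟨hcL, hcx⟩
        exact Subgroup.mem_sup_left ⟨(mem_normalizer_iff.mp (hRN hr) c).mp hcL,
          Subgroup.mul_mem _ (Subgroup.mul_mem _ (hRx hr) hcx) (Subgroup.inv_mem _ (hRx hr))⟩
      · intro o ho
        exact Subgroup.mem_sup_right ⟨d.hOn r hrx o ho.1, (L ⊔ R).mul_mem
          ((L ⊔ R).mul_mem (Subgroup.mem_sup_right hr) ho.2) ((L ⊔ R).inv_mem (Subgroup.mem_sup_right hr))⟩
    rintro _ ⟨w, hw, rfl⟩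
    refine ⟨⟨l * r, hh⟩ * w * ⟨l * r, hh⟩⁻¹, ?_, by simp⟩
    exact hWchar (l * r) (Subgroup.mul_mem _ hln hrn) _ (mem_subgroupOf.mp hw)
  have hn : (Wf.subgroupOf (centralizer ({f x'} : Set Q))).Normal := ⟨fun w hw c => hnorm c c.2 w hw⟩
  have hyW : f ⟨y, Subgroup.mem_sup_right hyR⟩ ∈ Wf :=
    ⟨_, mem_subgroupOf.mpr (hOW ⟨hyO, Subgroup.mem_sup_right hyR⟩), rfl⟩
  refine ⟨⟨_, hWfC hyW⟩, le_pPrimeCore hn ?_ (mem_subgroupOf.mpr hyW), rfl⟩
  rw [Nat.card_congr (Subgroup.subgroupOfEquivOfLe hWfC).toEquiv]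
  exact hWfp

end CoreData

/-- Reduction of a balance condition to components. -/
theorem eq_bot_of_component_condition (hO : Cfsg.pPrimeCore p G = ⊥) (A Y : Subgroup G) (hA1 : A ≠ ⊥)
    (hAp : ∀ a ∈ A, a ^ p = 1) (hAc : ∀ a ∈ A, ∀ b ∈ A, a * b = b * a)
    (hY : ∀ a ∈ A, a ≠ 1 → Y ≤ Cfsg.centralizerPPrimeCore p a)
    (hcond : ∀ L : Subgroup G, Cfsg.IsComponent L → A ≤ normalizer (L : Set G) → Y ≤ normalizer (L : Set G) →
      (∀ a ∈ A, a ≠ 1 → ¬ ∀ b ∈ L, a * b = b * a) →
      (∀ y ∈ Y, ∀ a ∈ A, y * a = a * y) →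
      ∀ y ∈ Y, ∀ b ∈ L, y * b = b * y) : Y = ⊥ := by
  let mk : ∀ a ∈ A, CoreData p G := fun a ha =>
    { x := a
      O := Cfsg.centralizerPPrimeCore p a
      hx := hAp a ha
      hO := hO
      hOC := fun y hy => Subgroup.mem_centralizer_singleton_iff.mp (Subgroup.map_subtype_le _ hy)
      hOn := by
        rintro c hc y ⟨w, hw, rfl⟩
        exact ⟨_, (pPrimeCore_isNormal).conj_mem w hw ⟨c, Subgroup.mem_centralizer_singleton_iff.mpr hc⟩, rfl⟩
      hOp := by
        show (Nat.card ↥((Cfsg.pPrimeCore p ↥(centralizer ({a} : Set G))).map (centralizer ({a} : Set G)).subtype)).Coprime p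
        rw [Subgroup.card_map_of_injective (Subgroup.subtype_injective _)]
        exact pPrimeCore_coprime }
  obtain ⟨⟨a0, ha0⟩, ha01⟩ := A.ne_bot_iff_exists_ne_one.mp hA1
  have ha01' : a0 ≠ 1 := fun e => ha01 (Subtype.ext e)
  have hYa : ∀ y ∈ Y, ∀ a ∈ A, y * a = a * y := by
    intro y hy a ha
    by_cases h1 : a = 1
    · simp [h1]
    · exact (mk a ha).hOC y (hY a ha h1 hy)
  have hcomp : ∀ L : Subgroup G, Cfsg.IsComponent L → ∀ y ∈ Y, ∀ b ∈ L, y * b = b * y := by
    intro L hL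
    by_cases hex : ∃ a ∈ A, a ≠ 1 ∧ (a ∉ normalizer (L : Set G) ∨ ∀ b ∈ L, a * b = b * a)
    · obtain ⟨a, ha, ha1, hcase⟩ := hex
      intro y hy
      rcases hcase with h | h
      · exact (mk a ha).centralizes_of_moved hL h y (hY a ha ha1 hy)
      · exact (mk a ha).centralizes_of_fixed hL h y (hY a ha ha1 hy)
    · push Not at hex
      refine hcond L hL ?_ ?_ (fun a ha ha1 hall => ?_) hYa
      · intro a ha
        by_cases h1 : a = 1
        · rw [h1]; exact Subgroup.one_mem _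
        · exact (hex a ha h1).1
      · exact fun y hy => (mk a0 ha0).le_normalizer_component hL (hY a0 ha0 ha01' hy)
      · obtain ⟨b, hb, hne⟩ := (hex a ha ha1).2
        exact hne (hall b hb)
  refine (Subgroup.eq_bot_iff_forall _).mpr fun y hy => ?_
  have hyO := hY a0 ha0 ha01' hy
  have hc : y ∈ centralizer (Cfsg.generalizedFittingSubgroup G : Set G) := by
    have hle : Cfsg.generalizedFittingSubgroup G ≤ centralizer {y} := by
      refine sup_le (sSup_le fun L hL => ?_) ?_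
      · intro b hb
        rw [Subgroup.mem_centralizer_singleton_iff]
        exact (hcomp L hL y hy b hb).symm
      · intro f hf
        rw [Subgroup.mem_centralizer_singleton_iff]
        exact ((mk a0 ha0).centralizes_fitting y hyO f hf).symm
    exact Subgroup.mem_centralizer_iff.mpr fun w hw => Subgroup.mem_centralizer_singleton_iff.mp (hle hw)
  have hyF := centralizer_gfitting_le_fitting hc
  rw [fitting_eq_pCore (p := p) hO] at hyF
  obtain ⟨k, hk⟩ := pCore_isPGroup (p := p) ⟨y, hyF⟩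
  exact pow_eq_one_coprime (p := p) (k := k) (by simpa using congrArg Subtype.val hk)
    ((mk a0 ha0).coprime_of_mem hyO)

end Cfsg.Agent.Grp
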