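import Mathlib
import Cfsg.Prelude.Def_Balance
import Cfsg.Agent.Lib.Grp.ComponentBalance
import Cfsg.Agent.Lib.Grp.PComponents

/-!
Reduction of balance to the automorphism groups of the components.
-/

set_option autoImplicit false

namespace Cfsg.Agent.Grp

open Subgroup
open scoped commutatorElement

universe u

variable {G : Type u} [Group G] {p : ℕ}

/-- A normal `p'`-subgroup of the centralizer of `x` lies in its `p'`-core. -/
theorem le_centralizerPPrimeCore {N : Subgroup G} {x : G} (hle : ∀ y ∈ N, y * x = x * y)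
    (hn : ∀ c : G, c * x = x * c → ∀ y ∈ N, c * y * c⁻¹ ∈ N) (hcop : (Nat.card N).Coprime p) :
    N ≤ Cfsg.centralizerPPrimeCore p x := by
  intro y hy
  have hNC : N ≤ centralizer ({x} : Set G) := fun w hw =>
    Subgroup.mem_centralizer_singleton_iff.mpr (hle w hw)
  have hn' : (N.subgroupOf (centralizer ({x} : Set G))).Normal :=
    ⟨fun w hw c => hn c (Subgroup.mem_centralizer_singleton_iff.mp c.2) w hw⟩
  refine ⟨⟨y, hNC hy⟩, le_pPrimeCore hn' ?_ (mem_subgroupOf.mpr hy), rfl⟩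
  rwa [Nat.card_congr (Subgroup.subgroupOfEquivOfLe hNC).toEquiv]

variable [Finite G] [hp : Fact p.Prime]

theorem centralizerPPrimeCore_coprime (a : G) : (Nat.card ↥(Cfsg.centralizerPPrimeCore p a)).Coprime p := by
  show (Nat.card ↥((Cfsg.pPrimeCore p ↥(centralizer ({a} : Set G))).map _)).Coprime p
  rw [Subgroup.card_map_of_injective (Subgroup.subtype_injective _)]
  exact pPrimeCore_coprime

omit [Finite G] hp in
theorem centralizerPPrimeCore_conj {a c y : G} (hc : c * a = a * c)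
    (hy : y ∈ Cfsg.centralizerPPrimeCore p a) : c * y * c⁻¹ ∈ Cfsg.centralizerPPrimeCore p a := by
  obtain ⟨w, hw, rfl⟩ := hy
  exact ⟨_, (pPrimeCore_isNormal).conj_mem w hw ⟨c, Subgroup.mem_centralizer_singleton_iff.mpr hc⟩, rfl⟩

omit [Finite G] hp in
theorem centralizerPPrimeCore_commute {a y : G} (hy : y ∈ Cfsg.centralizerPPrimeCore p a) :
    y * a = a * y :=
  Subgroup.mem_centralizer_singleton_iff.mp (Subgroup.map_subtype_le _ hy)

/-- The data of `x` and the `p'`-core of its centralizer. -/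
def CoreData.ofElement (hO : Cfsg.pPrimeCore p G = ⊥) (x : G) (hx : x ^ p = 1) : CoreData p G where
  x := x
  O := Cfsg.centralizerPPrimeCore p x
  hx := hx
  hO := hO
  hOC := fun _ hy => centralizerPPrimeCore_commute hy
  hOn := fun _ hc _ hy => centralizerPPrimeCore_conj hc hy
  hOp := centralizerPPrimeCore_coprime x

theorem mulAut_ker_iff_centralizes {L : Subgroup G} (hL : Cfsg.IsComponent L) {g : G}
    (hg : g ∈ normalizer (L : Set G)) :
    (∀ b ∈ L, g * b = b * g) ↔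
      ∀ b : ↥L, (L.normalizerMonoidHom ⟨g, hg⟩) b * b⁻¹ ∈ Subgroup.center ↥L := by
  constructor
  · intro h b
    have e : (L.normalizerMonoidHom ⟨g, hg⟩) b = b := Subtype.ext (by
      show g * (b : G) * g⁻¹ = b
      rw [h b b.2, mul_inv_cancel_right])
    rw [e, mul_inv_cancel]; exact Subgroup.one_mem _
  · intro h b hb
    have h1 := congrArg Subtype.val (perfect_fixed_of_central (component_perfect hL)
      (L.normalizerMonoidHom ⟨g, hg⟩).toMonoidHom h ⟨b, hb⟩)
    exact mul_inv_eq_iff_eq_mul.mp h1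

/-- `G` is balanced if the quotients `H/C_H(L)` are. -/
theorem balanced_of_components (hO : Cfsg.pPrimeCore p G = ⊥)
    (h : ∀ L : Subgroup G, Cfsg.IsComponent L → ∀ H : Subgroup G, L ≤ H → (L.subgroupOf H).Normal →
      ∀ [((centralizer (L : Set G)).subgroupOf H).Normal],
        Cfsg.IsBalancedFor p (↥H ⧸ (centralizer (L : Set G)).subgroupOf H)) :
    Cfsg.IsBalancedFor p G := by
  intro x hx
  have hxp : x ^ p = 1 := hx ▸ pow_orderOf_eq_one x
  have hx1 : x ≠ 1 := by
    intro e; rw [e, orderOf_one] at hx; exact hp.out.one_lt.ne hx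
  have hAp : ∀ a ∈ zpowers x, a ^ p = 1 := by
    rintro _ ⟨i, rfl⟩
    show (x ^ i) ^ p = 1
    rw [← zpow_natCast, ← zpow_mul, mul_comm, zpow_mul, zpow_natCast, hxp, one_zpow]
  suffices hY : Cfsg.centralizerPPrimeCore p x = ⊥ by rw [hY]; exact bot_le
  refine eq_bot_of_component_condition hO (zpowers x) _ (fun e => hx1 ?_) hAp ?_ ?_ ?_
  · have := mem_zpowers x; rw [e] at this; exact this
  · intro a ha b hb
    exact congrArg Subtype.val (mul_comm' (⟨a, ha⟩ : ↥(zpowers x)) ⟨b, hb⟩)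
  · intro a ha ha1
    obtain ⟨i, hi⟩ := ha
    have hcx : ∀ y ∈ centralizer ({a} : Set G), y ∈ centralizer ({x} : Set G) := by
      intro y hy
      have e : zpowers a = zpowers x := by
        refine Subgroup.eq_of_le_of_card_ge (zpowers_le.mpr ⟨i, hi⟩) ?_
        rw [Nat.card_zpowers, Nat.card_zpowers, hx, orderOf_eq_prime (hAp a ⟨i, hi⟩) ha1]
      rw [centralizer_singleton_eq_zpowers, ← e, ← centralizer_singleton_eq_zpowers]; exact hy
    refine le_centralizerPPrimeCore (fun y hy => ?_) (fun c hc y hy => ?_) (centralizerPPrimeCore_coprime x)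
    · rw [← hi]; exact ((show Commute y x from centralizerPPrimeCore_commute hy).zpow_right i).eq
    · exact centralizerPPrimeCore_conj (Subgroup.mem_centralizer_singleton_iff.mp
        (hcx c (Subgroup.mem_centralizer_singleton_iff.mpr hc))) hy
  · intro L hL hAN hYN hnc _ y hy
    set R : Subgroup G := centralizer ({x} : Set G) ⊓ normalizer (L : Set G) with hR
    have hxR : x ∈ R := ⟨Subgroup.mem_centralizer_singleton_iff.mpr rfl, hAN (mem_zpowers x)⟩
    have hyR : y ∈ R :=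
      ⟨Subgroup.mem_centralizer_singleton_iff.mpr (centralizerPPrimeCore_commute hy), hYN hy⟩
    have hHN : L ⊔ R ≤ normalizer (L : Set G) := sup_le Subgroup.le_normalizer inf_le_right
    have hLn : (L.subgroupOf (L ⊔ R)).Normal :=
      (Subgroup.normal_subgroupOf_iff_le_normalizer le_sup_left).mpr hHN
    haveI hCn : ((centralizer (L : Set G)).subgroupOf (L ⊔ R)).Normal := by
      refine ⟨fun c hc g => ?_⟩
      rw [mem_subgroupOf, Subgroup.mem_centralizer_iff] at hc ⊢
      intro b hb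
      have hgN := hHN g.2
      have hb' : (g : G)⁻¹ * b * g ∈ L := by
        have := (mem_normalizer_iff.mp (Subgroup.inv_mem _ hgN) b).mp hb
        simpa using this
      show b * ((g : G) * c * (g : G)⁻¹) = (g : G) * c * (g : G)⁻¹ * b
      calc b * ((g : G) * c * (g : G)⁻¹) = (g : G) * (((g : G)⁻¹ * b * g) * c) * (g : G)⁻¹ := by group
        _ = (g : G) * (c * ((g : G)⁻¹ * b * g)) * (g : G)⁻¹ := by rw [hc _ hb']
        _ = _ := by group
    have hbal := h L hL (L ⊔ R) le_sup_left hLn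
    set f := QuotientGroup.mk' ((centralizer (L : Set G)).subgroupOf (L ⊔ R)) with hf
    have hker : ∀ g : ↥(L ⊔ R), f g = 1 ↔ ∀ a ∈ L, (g : G) * a = a * g := by
      intro g
      rw [hf, QuotientGroup.mk'_apply, QuotientGroup.eq_one_iff, mem_subgroupOf, Subgroup.mem_centralizer_iff]
      exact ⟨fun hh a ha => (hh a ha).symm, fun hh a ha => (hh a ha).symm⟩
    have hmem := (CoreData.ofElement hO x hxp).map_mem_core hL (R := R) inf_le_left inf_le_right hxR f
      (QuotientGroup.mk'_surjective _) hker hy hyR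
    change f _ ∈ Cfsg.centralizerPPrimeCore p (f ⟨x, Subgroup.mem_sup_right hxR⟩) at hmem
    have hfx : orderOf (f ⟨x, Subgroup.mem_sup_right hxR⟩) = p := by
      refine orderOf_eq_prime ?_ ?_
      · rw [← map_pow, show (⟨x, Subgroup.mem_sup_right hxR⟩ : ↥(L ⊔ R)) ^ p = 1 from Subtype.ext hxp, map_one]
      · exact fun e => hnc x (mem_zpowers x) hx1 ((hker _).mp e)
    have hcore := hbal _ hfx hmem
    let φ : ↥L →* _ := f.comp (Subgroup.inclusion (le_sup_left : L ≤ L ⊔ R))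
    have hN0 : ((Cfsg.pPrimeCore p _).comap φ) ≤ Subgroup.center ↥L := by
      haveI := (pPrimeCore_isNormal (p := p) (G := ↥(L ⊔ R) ⧸ (centralizer (L : Set G)).subgroupOf (L ⊔ R)))
      rcases IsQuasisimple.eq_top_or_le_center hL.2 ((Cfsg.pPrimeCore p _).comap φ) with htop | hle
      · exfalso
        have h1 : (Nat.card φ.range).Coprime p := by
          refine (pPrimeCore_coprime).coprime_dvd_left (Subgroup.card_dvd_of_le ?_)
          rintro _ ⟨a, rfl⟩
          exact (show a ∈ (Cfsg.pPrimeCore p _).comap φ from htop ▸ Subgroup.mem_top a)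
        have h2 : p ∣ Nat.card φ.range := by
          refine (dvd_quotient_center (component_perfect hL) (component_dvd hO hL)).trans ?_
          rw [← Subgroup.index_eq_card, ← Subgroup.index_ker]
          refine Subgroup.index_dvd_of_le fun a ha => Subgroup.mem_center_iff.mpr fun b => Subtype.ext ?_
          exact ((hker _).mp ha b b.2).symm
        exact (hp.out.coprime_iff_not_dvd.mp h1.symm) h2
      · exact hle
    refine (mulAut_ker_iff_centralizes hL (hYN hy)).mpr fun b => hN0 ?_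
    show φ _ ∈ Cfsg.pPrimeCore p _
    have e : φ ((L.normalizerMonoidHom ⟨y, hYN hy⟩) b * b⁻¹) =
        f ⟨y, Subgroup.mem_sup_right hyR⟩ * (f ⟨b, Subgroup.mem_sup_left b.2⟩ *
          (f ⟨y, Subgroup.mem_sup_right hyR⟩)⁻¹ * (f ⟨b, Subgroup.mem_sup_left b.2⟩)⁻¹) := by
      rw [← map_inv, ← map_inv, ← map_mul, ← map_mul, ← map_mul]
      refine congrArg f (Subtype.ext ?_)
      show y * (b : G) * y⁻¹ * (b : G)⁻¹ = y * ((b : G) * y⁻¹ * (b : G)⁻¹)
      group
    rw [e]
    exact Subgroup.mul_mem _ hcore ((pPrimeCore_isNormal).conj_mem _ (Subgroup.inv_mem _ hcore) _)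

/-- Local balance of the components of `C(b)/O_{p'}(C(b))` gives balance. -/
theorem kBalanced_of_components {k : ℕ} (hk : 1 ≤ k)
    (h : ∀ x : G, orderOf x = p →
      ∀ K : Subgroup (↥(centralizer ({x} : Set G)) ⧸ Cfsg.pPrimeCore p ↥(centralizer ({x} : Set G))),
        Cfsg.IsComponent K → Cfsg.IsLocallyKBalanced p k (↥K ⧸ Subgroup.center ↥K)) :
    Cfsg.IsKBalanced p k G := by
  classical
  intro A hA hAcard b hb hAb g hg
  obtain ⟨hgΔ, hgb⟩ := Subgroup.mem_inf.mp hg
  set C := centralizer ({b} : Set G) with hC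
  haveI hCn : (Cfsg.pPrimeCore p ↥C).Normal := pPrimeCore_isNormal
  set π := QuotientGroup.mk' (Cfsg.pPrimeCore p ↥C) with hπ
  have hAC : A ≤ C := fun a ha => Subgroup.mem_centralizer_singleton_iff.mpr (hAb a ha)
  have hAp : IsPGroup p ↥(A.subgroupOf C) := fun a => ⟨1, Subtype.ext (Subtype.ext (by
    simpa using hA.2 _ (mem_subgroupOf.mp a.2)))⟩
  have hinj : ∀ a : ↥C, (a : G) ∈ A → π a = 1 → a = 1 := by
    intro a ha he
    have h1 : orderOf a ∣ Nat.card ↥(Cfsg.pPrimeCore p ↥C) :=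
      Subgroup.orderOf_dvd_natCard _ ((QuotientGroup.eq_one_iff a).mp he)
    exact pow_eq_one_coprime (p := p) (k := 1) (by rw [pow_one]; exact Subtype.ext (hA.2 _ ha))
      (pPrimeCore_coprime.coprime_dvd_left h1)
  set Ab := (A.subgroupOf C).map π with hAb'
  let Y := ((Cfsg.signalizerDelta p A ⊓ C).subgroupOf C).map π
  have hAbe : ∀ a ∈ Ab, a ^ p = 1 := by
    rintro _ ⟨a, ha, rfl⟩
    rw [← map_pow, show a ^ p = 1 from Subtype.ext (hA.2 _ (mem_subgroupOf.mp ha)), map_one]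
  have hAbc : ∀ a ∈ Ab, ∀ a' ∈ Ab, a * a' = a' * a := by
    rintro _ ⟨a, ha, rfl⟩ _ ⟨a', ha', rfl⟩
    rw [← map_mul, ← map_mul]
    have h1 : (a : G) * (a' : G) = (a' : G) * (a : G) := congrArg Subtype.val
      (hA.1.is_comm.comm (⟨(a : G), mem_subgroupOf.mp ha⟩ : ↥A) ⟨(a' : G), mem_subgroupOf.mp ha'⟩)
    exact congrArg π (Subtype.ext h1)
  have hAcard' : Nat.card ↥Ab = p ^ k := by
    rw [← hAcard, ← Nat.card_congr (Subgroup.subgroupOfEquivOfLe hAC).toEquiv]
    refine (Nat.card_congr (Equiv.ofBijective (fun a : ↥(A.subgroupOf C) => (⟨π a, a, a.2, rfl⟩ : ↥Ab))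
      ⟨fun a a' e => ?_, ?_⟩)).symm
    · have h1 := hinj ((a : ↥C) * (a' : ↥C)⁻¹) (A.mul_mem a.2 (A.inv_mem a'.2)) (by
        rw [map_mul, map_inv, mul_inv_eq_one]; exact congrArg Subtype.val e)
      exact Subtype.ext (mul_inv_eq_one.mp h1)
    · rintro ⟨_, a, ha, rfl⟩
      exact ⟨⟨a, ha⟩, rfl⟩
  have hAb1 : Ab ≠ ⊥ := by
    intro e
    rw [e, Subgroup.card_bot] at hAcard'
    exact absurd hAcard' (Nat.one_lt_pow (by omega) hp.out.one_lt).ne
  have hO : Cfsg.pPrimeCore p (↥C ⧸ Cfsg.pPrimeCore p ↥C) = ⊥ := pPrimeCore_quotient_bot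
  suffices hY : Y = ⊥ by
    have hgY : π ⟨g, hgb⟩ ∈ Y := ⟨_, mem_subgroupOf.mpr ⟨hgΔ, hgb⟩, rfl⟩
    rw [hY, Subgroup.mem_bot] at hgY
    exact ⟨⟨g, hgb⟩, (QuotientGroup.eq_one_iff _).mp hgY, rfl⟩
  have hYcore : ∀ a ∈ Ab, a ≠ 1 → Y ≤ Cfsg.centralizerPPrimeCore p a := by
    rintro _ ⟨a, ha, rfl⟩ ha1 _ ⟨y, hy, rfl⟩
    have hya : (y : G) ∈ Cfsg.centralizerPPrimeCore p (a : G) := by
      have hy1 := (Subgroup.mem_inf.mp (mem_subgroupOf.mp hy)).1
      exact Subgroup.mem_iInf.mp hy1 ⟨(a : G), mem_subgroupOf.mp ha, fun e => ha1 (by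
        rw [show a = 1 from Subtype.ext e, map_one])⟩
    have hCa : (centralizer ({a} : Set ↥C)).map π = centralizer ({π a} : Set _) := by
      rw [centralizer_singleton_eq_zpowers, centralizer_singleton_eq_zpowers (π a), ← MonoidHom.map_zpowers]
      exact map_centralizer_pGroup (hAp.to_le (zpowers_le.mpr ha))
    refine le_centralizerPPrimeCore (N := ((Cfsg.centralizerPPrimeCore p (a : G)).subgroupOf C).map π)
      ?_ ?_ ?_ ⟨y, mem_subgroupOf.mpr hya, rfl⟩
    · rintro _ ⟨w, hw, rfl⟩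
      rw [← map_mul, ← map_mul]
      exact congrArg π (Subtype.ext (centralizerPPrimeCore_commute (mem_subgroupOf.mp hw)))
    · rintro c hc _ ⟨w, hw, rfl⟩
      have hc' : c ∈ centralizer ({π a} : Set _) := Subgroup.mem_centralizer_singleton_iff.mpr hc
      rw [← hCa] at hc'
      obtain ⟨c', hc'', rfl⟩ := hc'
      refine ⟨c' * w * c'⁻¹, mem_subgroupOf.mpr ?_, by simp⟩
      exact centralizerPPrimeCore_conj (congrArg Subtype.val (Subgroup.mem_centralizer_singleton_iff.mp hc''))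
        (mem_subgroupOf.mp hw)
    · have hle : ((Cfsg.centralizerPPrimeCore p (a : G)).subgroupOf C).map C.subtype ≤
          Cfsg.centralizerPPrimeCore p (a : G) := by
        rintro _ ⟨w, hw, rfl⟩; exact hw
      refine (centralizerPPrimeCore_coprime (p := p) (a : G)).coprime_dvd_left ?_
      refine ((Subgroup.card_map_dvd (f := π) _).trans ?_)
      rw [← Subgroup.card_map_of_injective C.subtype_injective]
      exact Subgroup.card_dvd_of_le hle
  refine eq_bot_of_component_condition hO Ab Y hAb1 hAbe hAbc hYcore ?_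
  intro L hL hAN hYN hnc hYA y hy
  set R := normalizer (L : Set (↥C ⧸ Cfsg.pPrimeCore p ↥C)) ⊓ centralizer (Ab : Set _) with hR
  have hAR : Ab ≤ R := le_inf hAN fun a ha => Subgroup.mem_centralizer_iff.mpr fun a' ha' => hAbc a' ha' a ha
  have hyR : y ∈ R := ⟨hYN hy, Subgroup.mem_centralizer_iff.mpr fun a ha => (hYA y hy a ha).symm⟩
  have hHN : L ⊔ R ≤ normalizer (L : Set _) := sup_le Subgroup.le_normalizer inf_le_left
  set Z := Subgroup.center ↥L with hZ
  have hcc : ∀ e : MulAut ↥L, Z.map e.toMonoidHom = Z := fun e =>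
    Subgroup.characteristic_iff_map_eq.mp (inferInstance : Z.Characteristic) e
  let ψ : MulAut ↥L →* MulAut (↥L ⧸ Z) :=
    { toFun := fun e => QuotientGroup.congr Z Z e (hcc e)
      map_one' := MulEquiv.ext fun q => by
        obtain ⟨w, rfl⟩ := QuotientGroup.mk_surjective q; rfl
      map_mul' := fun e e' => MulEquiv.ext fun q => by
        obtain ⟨w, rfl⟩ := QuotientGroup.mk_surjective q; rfl }
  let f0 : ↥(L ⊔ R) →* MulAut (↥L ⧸ Z) := (ψ.comp L.normalizerMonoidHom).comp (Subgroup.inclusion hHN)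
  have hf0 : ∀ (u : ↥(L ⊔ R)) (w : ↥L), f0 u (QuotientGroup.mk w) =
      QuotientGroup.mk ((L.normalizerMonoidHom ⟨u, hHN u.2⟩) w) := fun u w => rfl
  have hker : ∀ u : ↥(L ⊔ R), f0 u = 1 ↔ ∀ a ∈ L, (u : ↥C ⧸ Cfsg.pPrimeCore p ↥C) * a = a * u := by
    intro u
    rw [mulAut_ker_iff_centralizes hL (hHN u.2)]
    constructor
    · intro e w
      have := hf0 u w
      rw [e, MulAut.one_apply] at this
      rw [← QuotientGroup.eq_one_iff, QuotientGroup.mk_mul, QuotientGroup.mk_inv, ← this, mul_inv_cancel]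
    · intro e
      refine MulEquiv.ext fun q => ?_
      obtain ⟨w, rfl⟩ := QuotientGroup.mk_surjective q
      rw [hf0, MulAut.one_apply]
      have := (QuotientGroup.eq_one_iff _).mpr (e w)
      rw [QuotientGroup.mk_mul, QuotientGroup.mk_inv, mul_inv_eq_one] at this
      exact this
  have hinn : (MulAut.conj : ↥L ⧸ Z →* MulAut (↥L ⧸ Z)).range ≤ f0.range := by
    rintro _ ⟨q, rfl⟩
    obtain ⟨l, rfl⟩ := QuotientGroup.mk_surjective q
    refine ⟨⟨l, Subgroup.mem_sup_left l.2⟩, MulEquiv.ext fun w => ?_⟩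
    obtain ⟨w, rfl⟩ := QuotientGroup.mk_surjective w
    rw [hf0, MulAut.conj_apply]
    rfl
  have hker' : ∀ u : ↥(L ⊔ R), f0.rangeRestrict u = 1 ↔ ∀ a ∈ L, (u : ↥C ⧸ Cfsg.pPrimeCore p ↥C) * a = a * u :=
    fun u => by rw [← hker]; exact ⟨fun e => congrArg Subtype.val e, fun e => Subtype.ext e⟩
  -- the image of `A`
  let Aq : Subgroup ↥f0.range := (Ab.subgroupOf (L ⊔ R)).map f0.rangeRestrict
  have hAq : Cfsg.IsElementaryAbelian p Aq := by
    refine ⟨⟨⟨?_⟩⟩, ?_⟩
    · rintro ⟨_, a, ha, rfl⟩ ⟨_, a', ha', rfl⟩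
      refine Subtype.ext ?_
      show f0.rangeRestrict a * f0.rangeRestrict a' = f0.rangeRestrict a' * f0.rangeRestrict a
      rw [← map_mul, ← map_mul]
      exact congrArg _ (Subtype.ext (hAbc _ (mem_subgroupOf.mp ha) _ (mem_subgroupOf.mp ha')))
    · rintro _ ⟨a, ha, rfl⟩
      rw [← map_pow, show a ^ p = 1 from Subtype.ext (hAbe _ (mem_subgroupOf.mp ha)), map_one]
  have hAqc : Nat.card ↥Aq = p ^ k := by
    rw [← hAcard', ← Nat.card_congr (Subgroup.subgroupOfEquivOfLe (hAR.trans le_sup_right : Ab ≤ L ⊔ R)).toEquiv]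
    refine (Nat.card_congr (Equiv.ofBijective
      (fun a : ↥(Ab.subgroupOf (L ⊔ R)) => (⟨f0.rangeRestrict a, a, a.2, rfl⟩ : ↥Aq))
      ⟨fun a a' e => ?_, ?_⟩)).symm
    · by_contra hne
      refine hnc _ (Ab.mul_mem a.2 (Ab.inv_mem a'.2)) (fun e1 => hne (Subtype.ext (Subtype.ext (mul_inv_eq_one.mp e1)))) ?_
      exact (hker' ((a : ↥(L ⊔ R)) * (a' : ↥(L ⊔ R))⁻¹)).mp (by
        rw [map_mul, map_inv, mul_inv_eq_one]; exact congrArg Subtype.val e)
    · rintro ⟨_, a, ha, rfl⟩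
      exact ⟨⟨a, ha⟩, rfl⟩
  have hΔ := h b hb L hL f0.range hinn Aq hAq hAqc
  have hyΔ : f0.rangeRestrict ⟨y, Subgroup.mem_sup_right hyR⟩ ∈ Cfsg.signalizerDelta p Aq := by
    refine Subgroup.mem_iInf.mpr ?_
    rintro ⟨_, ⟨a, ha, rfl⟩, ha1⟩
    have haA := mem_subgroupOf.mp ha
    have haR := hAR haA
    have ha1' : (a : ↥C ⧸ Cfsg.pPrimeCore p ↥C) ≠ 1 := fun e => ha1 (by
      rw [show a = 1 from Subtype.ext e, map_one])
    have hyO : y ∈ Cfsg.centralizerPPrimeCore p (a : ↥C ⧸ Cfsg.pPrimeCore p ↥C) :=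
      hYcore _ haA ha1' hy
    exact (CoreData.ofElement hO (a : ↥C ⧸ Cfsg.pPrimeCore p ↥C) (hAbe _ (mem_subgroupOf.mp ha))).map_mem_core hL
      (R := R) (fun r hr => Subgroup.mem_centralizer_singleton_iff.mpr
        (Subgroup.mem_centralizer_iff.mp hr.2 _ (mem_subgroupOf.mp ha)).symm)
      inf_le_left haR f0.rangeRestrict f0.rangeRestrict_surjective hker' hyO hyR
  rw [hΔ, Subgroup.mem_bot] at hyΔ
  exact (hker' _).mp hyΔ

end Cfsg.Agent.Grp
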