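import Mathlib
import Cfsg.Agent.Lib.Transfer.PolySeq
import Cfsg.Agent.Lib.Transfer.Regular
import Cfsg.Agent.Lib.Grp.Frattini

/-!
`p`-groups of class less than `p` are regular; minimal non-exponent-closed `p`-groups.
-/

set_option autoImplicit false

namespace Cfsg.Agent.Grp

open scoped commutatorElement
open Subgroup

variable {G : Type*} [Group G] [Finite G] {p : ℕ} [hp : Fact p.Prime]

theorem isRegularPGroup_of_class_lt (hG : IsPGroup p G)
    (hL : (⊤ : Subgroup G).lowerCentralSeries (p - 1) = ⊥) : Cfsg.IsRegularPGroup p G := by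
  refine ⟨hG, fun a b n => ?_⟩
  set K := Subgroup.closure ({a, b} : Set G) with hK
  have ha : a ∈ K := Subgroup.subset_closure (Set.mem_insert _ _)
  have hb : b ∈ K := Subgroup.subset_closure (Set.mem_insert_of_mem _ rfl)
  have hLK : (⊤ : Subgroup K).lowerCentralSeries (p - 1) = ⊥ := by
    refine (Subgroup.map_eq_bot_iff_of_injective _ K.subtype_injective).mp (le_bot_iff.mp ?_)
    rw [Subgroup.map_lowerCentralSeries, ← hL]
    exact Subgroup.lowerCentralSeries_mono _ le_top
  obtain ⟨c, hc, he⟩ := Transfer.PolySeq.hall_petrescu hp.out hLK ⟨a, ha⟩ ⟨b, hb⟩ n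
  refine ⟨c, ?_, by simpa using congrArg Subtype.val he⟩
  have hd : (commutator K).map K.subtype = ⁅K, K⁆ := by
    rw [commutator_def, Subgroup.map_commutator, ← MonoidHom.range_eq_map, Subgroup.range_subtype]
  have hle : (Cfsg.powerClosure p n (commutator K)).map K.subtype ≤ Cfsg.powerClosure p n ⁅K, K⁆ := by
    rw [Cfsg.powerClosure, MonoidHom.map_closure, Subgroup.closure_le]
    rintro _ ⟨_, ⟨x, hx, rfl⟩, rfl⟩
    exact Subgroup.subset_closure ⟨x, hd ▸ ⟨x, hx, rfl⟩, by simp⟩
  exact hle ⟨c, hc, rfl⟩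

theorem lowerCentralSeries_stable {n : ℕ}
    (h : (⊤ : Subgroup G).lowerCentralSeries (n + 1) = (⊤ : Subgroup G).lowerCentralSeries n) (k : ℕ) :
    (⊤ : Subgroup G).lowerCentralSeries (n + k) = (⊤ : Subgroup G).lowerCentralSeries n := by
  induction k with
  | zero => rfl
  | succ k ih => rw [← add_assoc, Subgroup.lowerCentralSeries_succ, ih, ← Subgroup.lowerCentralSeries_succ, h]

theorem pow_le_card_lowerCentralSeries (hG : IsPGroup p G) :
    ∀ k n : ℕ, (⊤ : Subgroup G).lowerCentralSeries (n + k) ≠ ⊥ →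
      p ^ (k + 1) ≤ Nat.card ((⊤ : Subgroup G).lowerCentralSeries n) := by
  intro k
  induction k with
  | zero =>
    intro n hn
    obtain ⟨e, he⟩ := (hG.to_subgroup ((⊤ : Subgroup G).lowerCentralSeries n)).exists_card_eq
    rcases Nat.eq_zero_or_pos e with rfl | he0
    · exact absurd (Subgroup.eq_bot_of_card_eq _ (by simpa using he)) hn
    · rw [he]; exact Nat.pow_le_pow_right hp.out.pos he0
  | succ k ih =>
    intro n hn
    have h1 := ih (n + 1) (by rwa [show n + 1 + k = n + (k + 1) by omega])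
    have hle : (⊤ : Subgroup G).lowerCentralSeries (n + 1) ≤ (⊤ : Subgroup G).lowerCentralSeries n :=
      Subgroup.lowerCentralSeries_antitone _ (Nat.le_succ n)
    have hne : (⊤ : Subgroup G).lowerCentralSeries (n + 1) ≠ (⊤ : Subgroup G).lowerCentralSeries n := by
      intro e
      obtain ⟨m, hm⟩ := Subgroup.nilpotent_iff_lowerCentralSeries.mp hG.isNilpotent
      apply hn
      rw [lowerCentralSeries_stable e, ← lowerCentralSeries_stable e m, eq_bot_iff]
      exact (Subgroup.lowerCentralSeries_antitone _ (Nat.le_add_left m n)).trans hm.le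
    obtain ⟨a, ha⟩ := (hG.to_subgroup ((⊤ : Subgroup G).lowerCentralSeries (n + 1))).exists_card_eq
    obtain ⟨b, hb⟩ := (hG.to_subgroup ((⊤ : Subgroup G).lowerCentralSeries n)).exists_card_eq
    rw [ha] at h1
    rw [hb]
    refine Nat.pow_le_pow_right hp.out.pos ?_
    have ha1 : k + 1 ≤ a := (Nat.pow_le_pow_iff_right hp.out.one_lt).mp h1
    have hlt : a < b := by
      refine (Nat.pow_lt_pow_iff_right hp.out.one_lt).mp ?_
      rw [← ha, ← hb]
      exact lt_of_le_of_ne (Subgroup.card_le_of_le hle) fun e =>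
        hne (Subgroup.eq_of_le_of_card_ge hle e.ge)
    omega

/-- The elements of order dividing `p` form a subgroup. -/
theorem pow_mul_of_closed {H : Type*} [Group H] {q : ℕ}
    (h : ∃ K : Subgroup H, (K : Set H) = {g : H | g ^ q = 1}) {a b : H} (ha : a ^ q = 1)
    (hb : b ^ q = 1) : (a * b) ^ q = 1 := by
  obtain ⟨K, hK⟩ := h
  have hm : ∀ g : H, g ∈ K ↔ g ^ q = 1 := fun g => by rw [← SetLike.mem_coe, hK]; rfl
  exact (hm _).mp (mul_mem ((hm a).mpr ha) ((hm b).mpr hb))

theorem minimal_nonclosed (hG : IsPGroup p G)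
    (hnc : ¬ (∃ H : Subgroup G, (H : Set G) = {g : G | g ^ p = 1}))
    (hsub : ∀ K : Subgroup G, K ≠ ⊤ → (∃ H : Subgroup ↥K, (H : Set ↥K) = {g : ↥K | g ^ p = 1}))
    (hquo : ∀ (N : Subgroup G) [N.Normal], N ≠ ⊥ →
      (∃ H : Subgroup (G ⧸ N), (H : Set (G ⧸ N)) = {g : (G ⧸ N) | g ^ p = 1})) :
    (∃ x y : G, Subgroup.closure ({x, y} : Set G) = ⊤) ∧
      (⊤ : Subgroup G).lowerCentralSeries (p - 1) ≠ ⊥ ∧
      Monoid.exponent G = p ^ 2 ∧ IsCyclic ↥(Subgroup.center G) ∧ p ^ (p + 1) ≤ Nat.card G := by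
  obtain ⟨x, y, hx, hy, hxy⟩ : ∃ x y : G, x ^ p = 1 ∧ y ^ p = 1 ∧ (x * y) ^ p ≠ 1 := by
    by_contra hc
    push Not at hc
    exact hnc ⟨{ carrier := {g | g ^ p = 1}
                 one_mem' := one_pow _
                 mul_mem' := fun {a b} ha hb => hc a b ha hb
                 inv_mem' := fun {a} ha => by show a⁻¹ ^ p = 1; rw [inv_pow, ha, inv_one] }, rfl⟩
  have hgen : Subgroup.closure ({x, y} : Set G) = ⊤ := by
    by_contra hne
    exact hxy (congrArg Subtype.val (pow_mul_of_closed (hsub _ hne)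
      (a := ⟨x, Subgroup.subset_closure (Set.mem_insert _ _)⟩)
      (b := ⟨y, Subgroup.subset_closure (Set.mem_insert_of_mem _ rfl)⟩)
      (Subtype.ext (by simpa using hx)) (Subtype.ext (by simpa using hy))))
  have hcls : (⊤ : Subgroup G).lowerCentralSeries (p - 1) ≠ ⊥ := fun hL => hxy (by
    simpa using Transfer.Regular.pow_mul_eq_one (isRegularPGroup_of_class_lt hG hL) (k := 1)
      (a := x) (b := y) (by simpa using hx) (by simpa using hy))
  -- every central subgroup of order `p` contains all `p`-th powers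
  have hkey : ∀ z ∈ Subgroup.center G, orderOf z = p → ∀ g : G, g ^ p ∈ Subgroup.zpowers z := by
    intro z hz hzp g
    haveI hn : (Subgroup.zpowers z).Normal := ⟨fun a ha g => by
      have hac : a ∈ Subgroup.center G := Subgroup.zpowers_le.mpr hz ha
      rwa [Subgroup.mem_center_iff.mp hac g, mul_inv_cancel_right]⟩
    obtain ⟨K, hK⟩ := hquo (Subgroup.zpowers z) (fun e => by
      rw [Subgroup.zpowers_eq_bot] at e
      rw [e, orderOf_one] at hzp
      exact hp.out.one_lt.ne hzp)
    have hKm : ∀ q, q ∈ K ↔ q ^ p = 1 := fun q => by rw [← SetLike.mem_coe, hK]; rfl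
    let π := QuotientGroup.mk' (Subgroup.zpowers z)
    have hall : (⊤ : Subgroup G) ≤ K.comap π := by
      rw [← hgen, Subgroup.closure_le, Set.insert_subset_iff, Set.singleton_subset_iff]
      exact ⟨(hKm _).mpr (by rw [← map_pow, hx, map_one]),
        (hKm _).mpr (by rw [← map_pow, hy, map_one])⟩
    have h1 := (hKm _).mp (hall (Subgroup.mem_top g))
    rw [← map_pow] at h1
    exact (QuotientGroup.eq_one_iff _).mp h1
  have hnt : Nontrivial G := ⟨⟨(x * y) ^ p, 1, hxy⟩⟩
  obtain ⟨c, hc, hcp⟩ : ∃ c ∈ Subgroup.center G, orderOf c = p := by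
    haveI := hG.center_nontrivial
    obtain ⟨e, he⟩ := (hG.to_subgroup (Subgroup.center G)).exists_card_eq
    have hd : p ∣ Nat.card (Subgroup.center G) := by
      rw [he]
      refine dvd_pow_self p fun h0 => ?_
      rw [h0, pow_zero] at he
      exact absurd he (Finite.one_lt_card (α := Subgroup.center G)).ne'
    obtain ⟨c, hc⟩ := exists_prime_orderOf_dvd_card' p hd
    exact ⟨c, c.2, by rw [Subgroup.orderOf_coe]; exact hc⟩
  have hp2 : ∀ g : G, g ^ p ^ 2 = 1 := fun g => by
    obtain ⟨i, hi⟩ := Subgroup.mem_zpowers_iff.mp (hkey c hc hcp g)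
    rw [sq, pow_mul, ← hi, ← zpow_natCast (c ^ i) p, ← zpow_mul, mul_comm, zpow_mul, zpow_natCast,
      ← hcp, pow_orderOf_eq_one, one_zpow]
  have hexp : Monoid.exponent G = p ^ 2 := by
    obtain ⟨j, hj, hje⟩ := (Nat.dvd_prime_pow hp.out).mp (Monoid.exponent_dvd_of_forall_pow_eq_one hp2)
    rw [hje]
    rcases lt_or_eq_of_le hj with hlt | rfl
    · refine absurd ?_ hxy
      obtain ⟨t, ht⟩ : p ^ j ∣ p := by
        conv_rhs => rw [← pow_one p]
        exact pow_dvd_pow p (by omega)
      rw [ht, pow_mul, ← hje, Monoid.pow_exponent_eq_one, one_pow]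
    · rfl
  have hcyc : IsCyclic ↥(Subgroup.center G) := by
    -- all central elements of order dividing `p` lie in one cyclic group
    have huniq : ∀ w ∈ Subgroup.center G, w ^ p = 1 → w ∈ Subgroup.zpowers ((x * y) ^ p) := by
      intro w hw hwp
      rcases eq_or_ne w 1 with rfl | hw1
      · exact one_mem _
      have hle : Subgroup.zpowers ((x * y) ^ p) ≤ Subgroup.zpowers w :=
        Subgroup.zpowers_le.mpr (hkey w hw (orderOf_eq_prime hwp hw1) _)
      have hord : orderOf ((x * y) ^ p) = p :=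
        orderOf_eq_prime (by rw [← pow_mul, ← sq]; exact hp2 _) hxy
      have := Subgroup.eq_of_le_of_card_ge hle (by
        rw [Nat.card_zpowers, Nat.card_zpowers, hord, orderOf_eq_prime hwp hw1])
      exact this.ge (Subgroup.mem_zpowers w)
    by_cases hz2 : ∃ z ∈ Subgroup.center G, z ^ p ≠ 1
    · obtain ⟨z, hz, hzp⟩ := hz2
      refine ⟨⟨⟨z, hz⟩, fun w => ?_⟩⟩
      have hzp' : orderOf (z ^ p) = p := orderOf_eq_prime (by rw [← pow_mul, ← sq]; exact hp2 _) hzp
      have hzc : z ^ p ∈ Subgroup.center G := pow_mem hz p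
      obtain ⟨i, hi⟩ := Subgroup.mem_zpowers_iff.mp (hkey _ hzc hzp' (w : G))
      have hcomm : Commute z (w : G) := Subgroup.mem_center_iff.mp w.2 z
      have h1 : ((w : G) * (z ^ i)⁻¹) ^ p = 1 := by
        rw [((hcomm.symm.zpow_right i).inv_right).mul_pow, inv_pow, ← hi, ← zpow_natCast (z ^ i) p,
          ← zpow_mul, mul_comm i, zpow_mul, zpow_natCast, mul_inv_cancel]
      have h2 : (w : G) * (z ^ i)⁻¹ ∈ Subgroup.zpowers z := by
        have h3 := huniq _ (mul_mem w.2 (inv_mem (zpow_mem hz i))) h1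
        have hle : Subgroup.zpowers ((x * y) ^ p) ≤ Subgroup.zpowers (z ^ p) :=
          Subgroup.zpowers_le.mpr (hkey _ hzc hzp' _)
        exact Subgroup.zpowers_le.mpr (pow_mem (Subgroup.mem_zpowers z) p) (hle h3)
      have h4 : (w : G) ∈ Subgroup.zpowers z := by
        simpa using mul_mem h2 (zpow_mem (Subgroup.mem_zpowers z) i)
      obtain ⟨j, hj⟩ := Subgroup.mem_zpowers_iff.mp h4
      exact Subgroup.mem_zpowers_iff.mpr ⟨j, Subtype.ext (by simpa using hj)⟩
    · push Not at hz2
      have hle : Subgroup.center G ≤ Subgroup.zpowers ((x * y) ^ p) :=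
        fun w hw => huniq w hw (hz2 w hw)
      exact isCyclic_of_injective (Subgroup.inclusion hle) (Subgroup.inclusion_injective hle)
  refine ⟨⟨x, y, hgen⟩, hcls, hexp, hcyc, ?_⟩
  -- the order
  have h1 := pow_le_card_lowerCentralSeries hG (p - 2) 1
    (by rwa [show 1 + (p - 2) = p - 1 by have := hp.out.two_le; omega])
  rw [top_lowerCentralSeries_one] at h1
  obtain ⟨e, he⟩ := hG.index (commutator G)
  have he2 : 2 ≤ e := by
    by_contra hlt
    have hcomm : ∀ z : G, z ∈ ({x, y} : Set G) → z ∉ commutator G → False := by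
      intro z _ hzC
      have htop : Subgroup.zpowers z = ⊤ := by
        refine frattini_nongenerating (eq_top_iff.2 ?_)
        refine le_trans ?_ (sup_le_sup_left (pGroup_commutator_le_frattini hG) _)
        have hlt' : commutator G < Subgroup.zpowers z ⊔ commutator G :=
          lt_of_le_of_ne le_sup_right fun h => hzC (h.ge (Subgroup.mem_sup_left (Subgroup.mem_zpowers z)))
        have hsm := Subgroup.index_strictAnti hlt'
        refine (Subgroup.index_eq_one.mp ?_).ge
        have hd : (Subgroup.zpowers z ⊔ commutator G).index ∣ p := by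
          have h := (Subgroup.index_dvd_of_le (le_sup_right : commutator G ≤ Subgroup.zpowers z ⊔ commutator G)).trans he.dvd
          exact h.trans ((pow_dvd_pow p (show e ≤ 1 by omega)).trans (pow_one p).dvd)
        rcases (Nat.dvd_prime hp.out).mp hd with h | h
        · exact h
        · have : p ^ e ≤ p ^ 1 := Nat.pow_le_pow_right hp.out.pos (by omega)
          rw [pow_one] at this
          omega
      have hcz : ∀ a b : G, Commute a b := fun a b => by
        obtain ⟨i, rfl⟩ := Subgroup.mem_zpowers_iff.mp (htop.ge (Subgroup.mem_top a))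
        obtain ⟨j, rfl⟩ := Subgroup.mem_zpowers_iff.mp (htop.ge (Subgroup.mem_top b))
        exact ((Commute.refl z).zpow_right j).zpow_left i
      exact hxy (by rw [(hcz x y).mul_pow, hx, hy, one_mul])
    have hne : commutator G ≠ ⊤ := by
      intro e
      have hf := pGroup_commutator_le_frattini hG
      rw [e] at hf
      have hb : (⊥ : Subgroup G) = ⊤ := frattini_nongenerating (eq_top_iff.2 (hf.trans le_sup_right))
      exact hxy (Subgroup.mem_bot.mp (hb.ge (Subgroup.mem_top _)))
    refine hne (top_le_iff.mp ?_)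
    rw [← hgen, Subgroup.closure_le, Set.insert_subset_iff, Set.singleton_subset_iff]
    exact ⟨by_contra fun h => hcomm x (Set.mem_insert _ _) h,
      by_contra fun h => hcomm y (Set.mem_insert_of_mem _ rfl) h⟩
  calc p ^ (p + 1) = p ^ (p - 2 + 1) * p ^ 2 := by
        rw [← pow_add]; congr 1; have := hp.out.two_le; omega
    _ ≤ Nat.card (commutator G) * p ^ e := Nat.mul_le_mul h1 (Nat.pow_le_pow_right hp.out.pos he2)
    _ = Nat.card G := by rw [← he, Subgroup.card_mul_index]

end Cfsg.Agent.Grp
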