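import Mathlib

/-!
Counting orbits of a permutation of prime order, and the resulting bound for the fixed space of a
linear map permuting a complete family of orthogonal idempotents of equal ranks.
-/

set_option autoImplicit false

namespace Cfsg.Agent.Grp.FixHalf

open Module

/-- A transversal of the orbits of a permutation of prime order. -/
theorem exists_orbit_reps {ι : Type*} [Fintype ι] [DecidableEq ι] {p : ℕ} (hp : p.Prime)
    (σ : Equiv.Perm ι) (hσ : σ ^ p = 1) :
    ∃ S : Finset ι, (∀ i, ∃ j ∈ S, ∃ n : ℕ, (σ ^ n) j = i) ∧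
      p * S.card = Fintype.card ι + (p - 1) * (Finset.univ.filter (fun i => σ i = i)).card := by
  classical
  let r : Setoid ι := Equiv.Perm.SameCycle.setoid σ
  let rep : Quotient r → ι := Quotient.out
  refine ⟨Finset.univ.image rep, fun i => ⟨rep (Quotient.mk r i), Finset.mem_image_of_mem _ (Finset.mem_univ _), ?_⟩, ?_⟩
  · have h : Equiv.Perm.SameCycle σ (rep (Quotient.mk r i)) i := Quotient.mk_out (s := r) i
    obtain ⟨n, hn⟩ := h.exists_nat_pow_eq
    exact ⟨n, hn⟩
  rw [Finset.card_image_of_injective _ Quotient.out_injective, Finset.card_univ]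
  -- sizes of the classes
  have hsize : ∀ i : ι, (Finset.univ.filter (fun j => Equiv.Perm.SameCycle σ i j)).card
      + (p - 1) * (if σ i = i then 1 else 0) = p := by
    intro i
    by_cases hi : σ i = i
    · have : Finset.univ.filter (fun j => Equiv.Perm.SameCycle σ i j) = {i} := by
        ext j
        simp only [Finset.mem_filter, Finset.mem_univ, true_and, Finset.mem_singleton]
        constructor
        · rintro ⟨n, rfl⟩
          exact Equiv.Perm.zpow_apply_eq_self_of_apply_eq_self hi n
        · rintro rfl
          exact Equiv.Perm.SameCycle.refl _ _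
      rw [this, if_pos hi, Finset.card_singleton]
      have := hp.one_le
      omega
    · rw [if_neg hi, mul_zero, add_zero]
      have hinj : Set.InjOn (fun n => (σ ^ n) i) (↑(Finset.range p) : Set ℕ) := by
        intro a ha b hb hab
        simp only [Finset.coe_range, Set.mem_Iio] at ha hb
        by_contra hne
        have key : ∀ a b : ℕ, a < b → b < p → (σ ^ a) i = (σ ^ b) i → False := by
          intro a b hab hbp he
          have hfix : (σ ^ (b - a)) i = i := by
            have : (σ ^ a) ((σ ^ (b - a)) i) = (σ ^ a) i := by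
              rw [← Equiv.Perm.mul_apply, ← pow_add, Nat.add_sub_cancel' hab.le, he]
            exact (σ ^ a).injective this
          have hco : Nat.Coprime (b - a) p :=
            ((hp.coprime_iff_not_dvd).mpr (Nat.not_dvd_of_pos_of_lt (by omega) (by omega))).symm
          have hfixp : (σ ^ p) i = i := by rw [hσ]; rfl
          have h1 : σ ^ (1 : ℤ) ∈ MulAction.stabilizer (Equiv.Perm ι) i := by
            have hb' := Nat.gcd_eq_gcd_ab (b - a) p
            rw [hco] at hb'
            have hb'' : (1 : ℤ) = ((b - a : ℕ) : ℤ) * Nat.gcdA (b - a) p + (p : ℤ) * Nat.gcdB (b - a) p := by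
              exact_mod_cast hb'
            rw [hb'', zpow_add, zpow_mul, zpow_mul, zpow_natCast, zpow_natCast]
            exact mul_mem (zpow_mem (show σ ^ (b - a) ∈ MulAction.stabilizer (Equiv.Perm ι) i from hfix) _)
              (zpow_mem (show σ ^ p ∈ MulAction.stabilizer (Equiv.Perm ι) i from hfixp) _)
          rw [zpow_one] at h1
          exact hi h1
        rcases lt_or_gt_of_ne hne with h | h
        · exact key a b h hb hab
        · exact key b a h ha hab.symm
      have : Finset.univ.filter (fun j => Equiv.Perm.SameCycle σ i j) = (Finset.range p).image (fun n => (σ ^ n) i) := by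
        ext j
        simp only [Finset.mem_filter, Finset.mem_univ, true_and, Finset.mem_image, Finset.mem_range]
        constructor
        · intro h
          obtain ⟨n, hn⟩ := h.exists_nat_pow_eq
          exact ⟨n % p, Nat.mod_lt _ hp.pos, by rw [← pow_eq_pow_mod n hσ, hn]⟩
        · rintro ⟨n, -, rfl⟩
          exact ⟨(n : ℤ), by rw [zpow_natCast]⟩
      rw [this, Finset.card_image_of_injOn hinj, Finset.card_range]
  have hfib : ∀ i : ι, (Finset.univ.filter (fun j => Quotient.mk r j = Quotient.mk r i)).card
      = (Finset.univ.filter (fun j => Equiv.Perm.SameCycle σ i j)).card := by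
    intro i
    congr 1
    ext j
    simp only [Finset.mem_filter, Finset.mem_univ, true_and]
    exact ⟨fun h => Equiv.Perm.SameCycle.symm (Quotient.exact (s := r) h),
      fun h => Quotient.sound (s := r) (Equiv.Perm.SameCycle.symm h)⟩
  have hfixsum : ∀ o : Quotient r, (Finset.univ.filter (fun i => σ i = i ∧ Quotient.mk r i = o)).card
      = if σ (rep o) = rep o then 1 else 0 := by
    intro o
    by_cases h : σ (rep o) = rep o
    · rw [if_pos h, Finset.card_eq_one]
      refine ⟨rep o, Finset.ext fun i => ?_⟩
      simp only [Finset.mem_filter, Finset.mem_univ, true_and, Finset.mem_singleton]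
      constructor
      · rintro ⟨hi, rfl⟩
        obtain ⟨n, hn⟩ : Equiv.Perm.SameCycle σ i (rep (Quotient.mk r i)) :=
          Equiv.Perm.SameCycle.symm (Quotient.mk_out (s := r) i)
        rw [← hn]
        exact (Equiv.Perm.zpow_apply_eq_self_of_apply_eq_self hi n).symm
      · rintro rfl
        exact ⟨h, Quotient.out_eq o⟩
    · rw [if_neg h, Finset.card_eq_zero]
      refine Finset.filter_eq_empty_iff.mpr fun i _ => ?_
      rintro ⟨hi, rfl⟩
      obtain ⟨n, hn⟩ : Equiv.Perm.SameCycle σ i (rep (Quotient.mk r i)) :=
        Equiv.Perm.SameCycle.symm (Quotient.mk_out (s := r) i)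
      rw [Equiv.Perm.zpow_apply_eq_self_of_apply_eq_self hi n] at hn
      rw [← hn] at h
      exact h hi
  have hι : Fintype.card ι = ∑ o : Quotient r, (Finset.univ.filter (fun j => Quotient.mk r j = o)).card :=
    Finset.card_eq_sum_card_fiberwise (fun _ _ => Finset.mem_univ _)
  have hfix : (Finset.univ.filter (fun i => σ i = i)).card
      = ∑ o : Quotient r, (Finset.univ.filter (fun i => σ i = i ∧ Quotient.mk r i = o)).card := by
    rw [Finset.card_eq_sum_card_fiberwise (f := Quotient.mk r) (t := Finset.univ) (fun _ _ => Finset.mem_univ _)]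
    simp only [Finset.filter_filter]
  rw [hι, hfix, Finset.mul_sum, ← Finset.sum_add_distrib, mul_comm, ← smul_eq_mul, ← Finset.card_univ,
    ← Finset.sum_const]
  refine Finset.sum_congr rfl fun o _ => ?_
  have h' := hsize (rep o)
  rw [← hfib (rep o), Quotient.out_eq o] at h'
  rw [hfixsum o]
  exact h'.symm

/-- The bound for a subspace on which a prime order permutation of orthogonal idempotents of equal
rank links the components. -/
theorem orbit_bound {K : Type*} [Field K] {W : Type*} [AddCommGroup W] [Module K W] [FiniteDimensional K W]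
    {ι : Type*} [Fintype ι] [DecidableEq ι] (π : ι → W →ₗ[K] W) (horth : ∀ i j, i ≠ j → π i ∘ₗ π j = 0)
    (hidem : ∀ i, π i ∘ₗ π i = π i) (hone : ∀ w, ∑ i, π i w = w) (d : ℕ)
    (hd : ∀ i, finrank K (LinearMap.range (π i)) = d) {p : ℕ} (hp : p.Prime) (σ : Equiv.Perm ι) (hσ : σ ^ p = 1)
    (F : Submodule K W) (hlink : ∀ w ∈ F, ∀ i, π i w = 0 → π (σ i) w = 0) :
    p * finrank K F * Fintype.card ι ≤
      (Fintype.card ι + (p - 1) * (Finset.univ.filter (fun i => σ i = i)).card) * finrank K W := by
  classical
  obtain ⟨S, hS, hcard⟩ := exists_orbit_reps hp σ hσ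
  let Ψ : ↥F →ₗ[K] ((j : ↥S) → LinearMap.range (π (j : ι))) :=
    LinearMap.pi fun j => ((π (j : ι)).rangeRestrict) ∘ₗ F.subtype
  have hΨ : Function.Injective Ψ := by
    rw [injective_iff_map_eq_zero]
    intro w hw
    have hz : ∀ j ∈ S, ∀ n : ℕ, π ((σ ^ n) j) (w : W) = 0 := by
      intro j hj n
      induction n with
      | zero =>
        have := congrArg Subtype.val (congrFun hw ⟨j, hj⟩)
        simpa [Ψ] using this
      | succ n ih => rw [pow_succ', Equiv.Perm.mul_apply]; exact hlink _ w.2 _ ih
    apply Subtype.ext
    rw [← hone (w : W)]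
    exact Finset.sum_eq_zero fun i _ => by obtain ⟨j, hj, n, rfl⟩ := hS i; exact hz j hj n
  have h1 : finrank K F ≤ S.card * d := by
    refine (LinearMap.finrank_le_finrank_of_injective hΨ).trans (le_of_eq ?_)
    rw [finrank_pi_fintype]
    simp [hd]
  have h2 : Fintype.card ι * d ≤ finrank K W := by
    let Φ : W →ₗ[K] ((i : ι) → LinearMap.range (π i)) := LinearMap.pi fun i => (π i).rangeRestrict
    have hΦ : Function.Surjective Φ := by
      intro f
      refine ⟨∑ i, (f i : W), funext fun i => Subtype.ext ?_⟩
      show π i (∑ j, (f j : W)) = (f i : W)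
      rw [map_sum, Finset.sum_eq_single i]
      · obtain ⟨w, hw⟩ := (f i).2
        rw [← hw, ← LinearMap.comp_apply, hidem]
      · intro j _ hji
        obtain ⟨w, hw⟩ := (f j).2
        rw [← hw, ← LinearMap.comp_apply, horth i j (Ne.symm hji), LinearMap.zero_apply]
      · intro h; exact absurd (Finset.mem_univ i) h
    refine le_trans (le_of_eq ?_) (LinearMap.finrank_le_finrank_of_surjective hΦ)
    rw [finrank_pi_fintype]
    simp [hd]
  calc p * finrank K F * Fintype.card ι ≤ p * (S.card * d) * Fintype.card ι := by gcongr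
    _ = (p * S.card) * (Fintype.card ι * d) := by ring
    _ ≤ (p * S.card) * finrank K W := by gcongr
    _ = _ := by rw [hcard]

end Cfsg.Agent.Grp.FixHalf
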