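import Mathlib
import Cfsg.Agent.Lib.Grp.FixHalfCount

/-!
Fixed points in transitive actions of solvable groups generated by conjugates of an element of prime
order at least five, and the resulting bound for imprimitive linear groups.
-/

set_option autoImplicit false
set_option linter.style.haveILetI false

namespace Cfsg.Agent.Grp.FixHalf

open Module
open scoped Pointwise

/-- An element of prime order `≥ 5` normally generating a solvable transitive group fixes at most a
third of the points. -/
theorem three_mul_fixed_le {G : Type*} [Group G] [Finite G] [Group.IsSolvable G] {Ω : Type*} [Fintype Ω]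
    [DecidableEq Ω] [MulAction G Ω] [Nontrivial Ω] [MulAction.IsPretransitive G Ω] (x : G) {p : ℕ}
    (hp : p.Prime) (hp3 : 3 < p) (hxp : x ^ p = 1) (hgen : Subgroup.normalClosure {x} = ⊤) :
    3 * (Finset.univ.filter (fun i : Ω => x • i = i)).card ≤ Fintype.card Ω := by
  classical
  by_cases hf : ∃ ω : Ω, x • ω = ω
  swap
  · rw [Finset.filter_eq_empty_iff.mpr fun i _ h => hf ⟨i, h⟩]; simp
  obtain ⟨ω, hω⟩ := hf
  have hS : MulAction.stabilizer G ω ≠ ⊤ := by
    intro h
    obtain ⟨a, b, hab⟩ := exists_pair_ne Ω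
    have key : ∀ a : Ω, a = ω := fun a => by
      obtain ⟨g, rfl⟩ := MulAction.exists_smul_eq G ω a
      exact (show g ∈ MulAction.stabilizer G ω by rw [h]; trivial)
    exact hab (by rw [key a, key b])
  obtain ⟨H, hHc, hSH⟩ := (eq_top_or_exists_le_coatom (MulAction.stabilizer G ω)).resolve_left hS
  have hxH : x ∈ H := hSH hω
  set K := H.normalCore with hKdef
  haveI hKn : K.Normal := Subgroup.normalCore_normal H
  have hKH : K ≤ H := Subgroup.normalCore_le H
  -- a minimal normal subgroup over the core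
  obtain ⟨M, ⟨hMn, hKM⟩, hMmin⟩ := Set.Finite.exists_minimal (s := {M : Subgroup G | M.Normal ∧ K < M})
    (Set.toFinite _) ⟨⊤, inferInstance, lt_of_le_of_lt hKH (lt_top_iff_ne_top.mpr hHc.1)⟩
  haveI := hMn
  have hMab : ⁅M, M⁆ ≤ K := by
    by_contra hnot
    have h1 : M ≤ ⁅M, M⁆ ⊔ K := hMmin ⟨inferInstance, right_lt_sup.mpr hnot⟩
      (sup_le (Subgroup.commutator_le_left M M) hKM.le)
    let f := QuotientGroup.mk' K
    have h2 : M.map f ≤ ⁅M.map f, M.map f⁆ := by
      rw [← Subgroup.map_commutator]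
      refine (Subgroup.map_mono h1).trans ?_
      rw [Subgroup.map_sup, QuotientGroup.map_mk'_self, sup_bot_eq]
    have h3 : ∀ n, M.map f ≤ derivedSeries (G ⧸ K) n := by
      intro n
      induction n with
      | zero => exact le_top
      | succ n ih => exact h2.trans (Subgroup.commutator_mono ih ih)
    obtain ⟨n, hn⟩ := (inferInstance : Group.IsSolvable (G ⧸ K)).solvable
    have h4 := h3 n
    rw [hn, le_bot_iff, Subgroup.map_eq_bot_iff, QuotientGroup.ker_mk'] at h4
    exact absurd h4 (not_le_of_gt hKM)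
  have hcomm : ∀ a ∈ M, ∀ b ∈ M, a * b * a⁻¹ * b⁻¹ ∈ K := fun a ha b hb =>
    hMab (by rw [← commutatorElement_def]; exact Subgroup.commutator_mem_commutator ha hb)
  have hMH : ¬ M ≤ H := fun h => absurd ((Subgroup.normal_le_normalCore).mpr h) (not_le_of_gt hKM)
  have hsup : M ⊔ H = ⊤ := hHc.2 _ (lt_of_le_of_ne le_sup_right fun h => hMH (h ▸ le_sup_left))
  have hD : M ⊓ H ≤ K := by
    haveI : (M ⊓ H).Normal := by
      rw [← Subgroup.normalizer_eq_top_iff, eq_top_iff, ← hsup]
      refine sup_le ?_ ?_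
      · intro m hm
        rw [Subgroup.mem_normalizer_iff]
        intro d
        have key : ∀ (m : G), m ∈ M → ∀ d, d ∈ M ⊓ H → m * d * m⁻¹ ∈ M ⊓ H := by
          intro m hm d hd
          obtain ⟨hdM, hdH⟩ := Subgroup.mem_inf.mp hd
          refine Subgroup.mem_inf.mpr ⟨hMn.conj_mem d hdM m, ?_⟩
          have := H.mul_mem (hKH (hcomm m hm d hdM)) hdH
          simpa [mul_assoc] using this
        refine ⟨key m hm d, fun h => ?_⟩
        have := key m⁻¹ (M.inv_mem hm) _ h
        simpa [mul_assoc] using this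
      · intro h hh
        rw [Subgroup.mem_normalizer_iff]
        intro d
        constructor
        · intro hd
          exact Subgroup.mem_inf.mpr ⟨hMn.conj_mem d (Subgroup.mem_inf.mp hd).1 h,
            H.mul_mem (H.mul_mem hh (Subgroup.mem_inf.mp hd).2) (H.inv_mem hh)⟩
        · intro hd
          obtain ⟨h1, h2⟩ := Subgroup.mem_inf.mp hd
          refine Subgroup.mem_inf.mpr ⟨?_, ?_⟩
          · have := hMn.conj_mem _ h1 h⁻¹
            simpa [mul_assoc] using this
          · have := H.mul_mem (H.mul_mem (H.inv_mem hh) h2) hh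
            simpa [mul_assoc] using this
    exact Subgroup.normal_le_normalCore.mpr inf_le_right
  -- the centralizer of x in M/K
  set C : Subgroup G := M ⊓ (Subgroup.centralizer {QuotientGroup.mk' K x}).comap (QuotientGroup.mk' K) with hC
  have memC : ∀ {m : G}, m ∈ C ↔ m ∈ M ∧ x * m * x⁻¹ * m⁻¹ ∈ K := by
    intro m
    rw [hC, Subgroup.mem_inf, Subgroup.mem_comap, Subgroup.mem_centralizer_singleton_iff, ← map_mul, ← map_mul]
    refine and_congr_right fun _ => ?_
    rw [QuotientGroup.mk'_apply, QuotientGroup.mk'_apply, QuotientGroup.eq]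
    have e : x * m * x⁻¹ * m⁻¹ = (x * m) * ((m * x)⁻¹ * (x * m)) * (x * m)⁻¹ := by group
    constructor
    · intro h
      rw [e]
      exact hKn.conj_mem _ h _
    · intro h
      rw [e] at h
      have h' := hKn.conj_mem _ h (x * m)⁻¹
      have e2 : (x * m)⁻¹ * ((x * m) * ((m * x)⁻¹ * (x * m)) * (x * m)⁻¹) * ((x * m)⁻¹)⁻¹ = (m * x)⁻¹ * (x * m) := by group
      rw [e2] at h'
      exact h'
  have hne : ∃ m ∈ M, m ∉ C := by
    by_contra! hall
    -- all elements act trivially on M/K
    let N := (Subgroup.centralizer ((M.map (QuotientGroup.mk' K) : Subgroup (G ⧸ K)) : Set (G ⧸ K))).comap (QuotientGroup.mk' K)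
    haveI : (M.map (QuotientGroup.mk' K)).Normal := hMn.map _ (QuotientGroup.mk'_surjective K)
    haveI : N.Normal := inferInstance
    have hxN : x ∈ N := by
      refine Subgroup.mem_centralizer_iff.mpr ?_
      rintro y ⟨m, hm, rfl⟩
      have := (Subgroup.mem_inf.mp (hall m hm)).2
      rw [Subgroup.mem_comap, Subgroup.mem_centralizer_singleton_iff] at this
      exact this
    have hN : N = ⊤ := top_le_iff.mp (hgen ▸ Subgroup.normalClosure_le_normal (Set.singleton_subset_iff.mpr hxN))
    haveI : H.Normal := by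
      rw [← Subgroup.normalizer_eq_top_iff, eq_top_iff, ← hsup]
      refine sup_le ?_ (Subgroup.le_normalizer)
      have key : ∀ m ∈ M, ∀ h ∈ H, m * h * m⁻¹ ∈ H := by
        intro m hm h hh
        have hc : h ∈ N := by rw [hN]; trivial
        have h1 := Subgroup.mem_centralizer_iff.mp hc _ (Subgroup.mem_map_of_mem _ hm)
        rw [← map_mul, ← map_mul, QuotientGroup.mk'_apply, QuotientGroup.mk'_apply, QuotientGroup.eq] at h1
        have h2 := hKH (hKn.conj_mem _ h1 (h * m))
        have h3 := H.mul_mem (H.inv_mem h2) hh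
        simpa [mul_assoc] using h3
      intro m hm
      rw [Subgroup.mem_normalizer_iff]
      refine fun d => ⟨key m hm d, fun h => ?_⟩
      have := key m⁻¹ (M.inv_mem hm) _ h
      simpa [mul_assoc] using this
    exact hHc.1 (top_le_iff.mp (hgen ▸ Subgroup.normalClosure_le_normal (Set.singleton_subset_iff.mpr hxH)))
  obtain ⟨m₁, hm₁, hm₁C⟩ := hne
  have hCx : ∀ m ∈ M, x * m * x⁻¹ ∈ C → m ∈ C := by
    intro m hm h
    refine memC.mpr ⟨hm, ?_⟩
    have := hKn.conj_mem _ (memC.mp h).2 x⁻¹
    simpa [mul_assoc] using this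
  have hthree : ∃ m₂ ∈ M, m₂ ∉ C ∧ m₁⁻¹ * m₂ ∉ C := by
    by_contra hnot
    push Not at hnot
    have hsq : m₁ * m₁ ∈ C := by
      by_contra h
      have := hnot _ (M.mul_mem hm₁ hm₁) h
      exact hm₁C (by simpa using this)
    have hxm : x * m₁ * x⁻¹ ∈ M := hMn.conj_mem m₁ hm₁ x
    have h1 : m₁⁻¹ * (x * m₁ * x⁻¹) ∈ C := hnot _ hxm fun h => hm₁C (hCx m₁ hm₁ h)
    let f := QuotientGroup.mk' K
    set c := f (m₁⁻¹ * (x * m₁ * x⁻¹)) with hc
    have hxc : Commute (f x) c := by
      have := (Subgroup.mem_inf.mp h1).2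
      rw [Subgroup.mem_comap, Subgroup.mem_centralizer_singleton_iff] at this
      exact this.symm
    have hMc : ∀ a ∈ M, ∀ b ∈ M, Commute (f a) (f b) := by
      intro a ha b hb
      show f a * f b = f b * f a
      rw [← map_mul, ← map_mul, QuotientGroup.mk'_apply, QuotientGroup.mk'_apply, QuotientGroup.eq]
      have := hcomm b⁻¹ (M.inv_mem hb) a⁻¹ (M.inv_mem ha)
      simpa [mul_assoc] using this
    have hconj : f x * f m₁ * (f x)⁻¹ = f m₁ * c := by simp [hc, mul_assoc]
    have hiter : ∀ j : ℕ, (f x) ^ j * f m₁ * ((f x) ^ j)⁻¹ = f m₁ * c ^ j := by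
      intro j
      induction j with
      | zero => simp
      | succ j ih =>
        calc (f x) ^ (j + 1) * f m₁ * ((f x) ^ (j + 1))⁻¹
            = f x * ((f x) ^ j * f m₁ * ((f x) ^ j)⁻¹) * (f x)⁻¹ := by rw [pow_succ']; group
          _ = (f x * f m₁ * (f x)⁻¹) * (f x * c ^ j * (f x)⁻¹) := by rw [ih]; group
          _ = f m₁ * c * c ^ j := by rw [hconj, (hxc.pow_right j).eq]; group
          _ = f m₁ * c ^ (j + 1) := by rw [pow_succ', mul_assoc]
    have hcp : c ^ p = 1 := by
      have := hiter p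
      rw [← map_pow, hxp] at this
      simpa using this
    have hc2 : c ^ 2 = 1 := by
      have h2 := (Subgroup.mem_inf.mp hsq).2
      rw [Subgroup.mem_comap, Subgroup.mem_centralizer_singleton_iff] at h2
      have h3 : (f m₁ * c) * (f m₁ * c) = f m₁ * f m₁ := by
        rw [← hconj]
        calc (f x * f m₁ * (f x)⁻¹) * (f x * f m₁ * (f x)⁻¹) = f x * f (m₁ * m₁) * (f x)⁻¹ := by
              rw [map_mul]; group
          _ = f m₁ * f m₁ := by rw [← h2, mul_inv_cancel_right, map_mul]
      have hcm : Commute (f m₁) c := hMc _ hm₁ _ (M.mul_mem (M.inv_mem hm₁) hxm)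
      rw [← sq, hcm.mul_pow, ← sq] at h3
      exact mul_left_cancel (h3.trans (mul_one _).symm)
    have hc1 : c = 1 := by
      have := pow_gcd_eq_one.mpr ⟨hcp, hc2⟩
      rwa [(Nat.coprime_primes hp Nat.prime_two).mpr (by omega), pow_one] at this
    refine hm₁C (memC.mpr ⟨hm₁, ?_⟩)
    rw [hc, QuotientGroup.mk'_apply, QuotientGroup.eq_one_iff] at hc1
    have := hKn.conj_mem _ hc1 m₁
    simpa [mul_assoc] using this
  obtain ⟨m₂, hm₂, hm₂C, hm₁₂⟩ := hthree
  -- three translates of the fixed cosets
  haveI : Fintype (G ⧸ H) := Fintype.ofFinite _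
  have hrep : ∀ α : G ⧸ H, ∃ m ∈ M, ((m : G) : G ⧸ H) = α := by
    intro α
    obtain ⟨g, rfl⟩ := QuotientGroup.mk_surjective α
    obtain ⟨m, hm, h, hh, rfl⟩ := (Subgroup.mem_sup_of_normal_left (s := M) (t := H)).mp (show g ∈ M ⊔ H by rw [hsup]; trivial)
    exact ⟨m, hm, QuotientGroup.eq.mpr (by simpa [mul_assoc] using hh)⟩
  have hfixC : ∀ α : G ⧸ H, x • α = α → ∃ m ∈ C, ((m : G) : G ⧸ H) = α := by
    intro α hα
    obtain ⟨m, hm, rfl⟩ := hrep α
    refine ⟨m, memC.mpr ⟨hm, ?_⟩, rfl⟩
    rw [MulAction.Quotient.smul_coe, smul_eq_mul, eq_comm, QuotientGroup.eq] at hα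
    have h1 : m⁻¹ * (x * m * x⁻¹) ∈ M ⊓ H := Subgroup.mem_inf.mpr
      ⟨M.mul_mem (M.inv_mem hm) (hMn.conj_mem m hm x), by simpa [mul_assoc] using H.mul_mem hα (H.inv_mem hxH)⟩
    have := hKn.conj_mem _ (hD h1) m
    simpa [mul_assoc] using this
  choose! r hr using hfixC
  have h3F : Fintype.card ({α : G ⧸ H // x • α = α} × Fin 3) ≤ Fintype.card (G ⧸ H) := by
    let t : Fin 3 → G := ![1, m₁, m₂]
    have htM : ∀ i, t i ∈ M := by
      intro i; fin_cases i <;> simp [t, hm₁, hm₂, M.one_mem]
    have htC : ∀ i j, (t i)⁻¹ * t j ∈ C → i = j := by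
      intro i j h
      fin_cases i <;> fin_cases j <;>
        first
        | rfl
        | (exfalso
           simp [t] at h
           first
           | exact hm₁C h
           | exact hm₂C h
           | exact hm₁₂ h
           | exact hm₁C (by simpa using C.inv_mem h)
           | exact hm₂C (by simpa using C.inv_mem h)
           | exact hm₁₂ (by simpa using C.inv_mem h))
    refine Fintype.card_le_of_injective (fun a => t a.2 • a.1.1) ?_
    rintro ⟨⟨α, hα⟩, i⟩ ⟨⟨β, hβ⟩, j⟩ h
    obtain ⟨hrα, hrα'⟩ := hr α hα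
    obtain ⟨hrβ, hrβ'⟩ := hr β hβ
    simp only at h
    have h' := h
    rw [← hrα', ← hrβ', MulAction.Quotient.smul_coe, MulAction.Quotient.smul_coe, smul_eq_mul, smul_eq_mul,
      QuotientGroup.eq] at h'
    have hM1 : (t i * r α)⁻¹ * (t j * r β) ∈ M :=
      M.mul_mem (M.inv_mem (M.mul_mem (htM i) (Subgroup.mem_inf.mp hrα).1))
        (M.mul_mem (htM j) (Subgroup.mem_inf.mp hrβ).1)
    have hK1 : (t i * r α)⁻¹ * (t j * r β) ∈ C := by
      have hk : (t i * r α)⁻¹ * (t j * r β) ∈ K := hD (Subgroup.mem_inf.mpr ⟨hM1, h'⟩)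
      refine memC.mpr ⟨hM1, K.mul_mem (hKn.conj_mem _ hk x) (K.inv_mem hk)⟩
    have hij : i = j := htC i j (by
      have := C.mul_mem (C.mul_mem hrα hK1) (C.inv_mem hrβ)
      simpa [mul_assoc] using this)
    subst hij
    simp only [smul_left_cancel_iff] at h
    subst h
    rfl
  -- pull back along the equivariant map
  choose g hg using fun α : Ω => MulAction.exists_smul_eq G ω α
  let φ : Ω → G ⧸ H := fun α => (g α : G ⧸ H)
  have hφ : ∀ (a : G) (α : Ω), φ (a • α) = a • φ α := by
    intro a α
    show ((g (a • α) : G) : G ⧸ H) = ((a * g α : G) : G ⧸ H)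
    rw [QuotientGroup.eq]
    apply hSH
    rw [MulAction.mem_stabilizer_iff, mul_smul, mul_smul, hg, inv_smul_eq_iff, hg]
  let k := (Finset.univ.filter (fun α => φ α = φ ω)).card
  have hfib : ∀ β : G ⧸ H, (Finset.univ.filter (fun α => φ α = β)).card = k := by
    intro β
    obtain ⟨a, ha⟩ := MulAction.exists_smul_eq G (φ ω) β
    refine (Finset.card_bij (fun α _ => a • α) ?_ ?_ ?_).symm
    · intro α hα; simp only [Finset.mem_filter, Finset.mem_univ, true_and] at hα ⊢; rw [hφ, hα, ha]
    · intro α _ α' _ h; exact smul_left_cancel a h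
    · intro α hα
      simp only [Finset.mem_filter, Finset.mem_univ, true_and] at hα
      exact ⟨a⁻¹ • α, by simp [hφ, hα, ← ha], smul_inv_smul a α⟩
  have hΩ : Fintype.card Ω = Fintype.card (G ⧸ H) * k := by
    rw [← Finset.card_univ, Finset.card_eq_sum_card_fiberwise (f := φ) (t := Finset.univ) (fun _ _ => Finset.mem_univ _)]
    simp [hfib]
  have hF : (Finset.univ.filter (fun i : Ω => x • i = i)).card ≤
      Fintype.card {α : G ⧸ H // x • α = α} * k := by
    rw [Fintype.card_subtype, Finset.card_eq_sum_card_fiberwise (s := Finset.univ.filter (fun i : Ω => x • i = i))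
      (f := φ) (t := Finset.univ.filter (fun α : G ⧸ H => x • α = α))]
    · refine (Finset.sum_le_card_nsmul _ _ k fun β _ => ?_).trans_eq (smul_eq_mul _ _)
      rw [← hfib β]
      exact Finset.card_le_card fun a ha => by simp only [Finset.mem_filter, Finset.mem_univ, true_and] at ha ⊢; exact ha.2
    · intro a ha
      simp only [Finset.coe_filter, Finset.mem_univ, true_and, Set.mem_ofPred_eq] at ha ⊢
      rw [← hφ, ha]
  rw [Fintype.card_prod, Fintype.card_fin] at h3F
  calc 3 * (Finset.univ.filter (fun i : Ω => x • i = i)).card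
      ≤ 3 * (Fintype.card {α : G ⧸ H // x • α = α} * k) := Nat.mul_le_mul_left 3 hF
    _ = (Fintype.card {α : G ⧸ H // x • α = α} * 3) * k := by ring
    _ ≤ Fintype.card (G ⧸ H) * k := Nat.mul_le_mul_right k h3F
    _ = Fintype.card Ω := hΩ.symm

/-- A nonzero nonunit of a reduced commutative Artinian ring gives a nontrivial idempotent. -/
theorem exists_idem_of_nonunit {R : Type*} [CommRing R] [IsArtinianRing R] [IsReduced R] {r : R}
    (hr0 : r ≠ 0) (hru : ¬ IsUnit r) : ∃ ε : R, ε * ε = ε ∧ ε ≠ 0 ∧ ε ≠ 1 := by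
  classical
  let e := IsArtinianRing.equivPi R
  refine ⟨e.symm (fun I => if e r I = 0 then 0 else 1), ?_, ?_, ?_⟩
  · rw [← map_mul]; congr 1; funext I; by_cases h : e r I = 0 <;> simp [h]
  · intro h
    apply hr0
    have h' := congrArg e h
    rw [e.apply_symm_apply, map_zero] at h'
    apply e.injective
    rw [map_zero]
    funext I
    by_contra hI
    have h'' := congrFun h' I
    simp only [Pi.zero_apply] at h'' hI
    rw [if_neg hI] at h''
    exact one_ne_zero h''
  · intro h
    apply hru
    have h' := congrArg e h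
    rw [e.apply_symm_apply, map_one] at h'
    have hunit : IsUnit (e r) := Pi.isUnit_iff.mpr fun I => by
      have hI : e r I ≠ 0 := fun hI => by
        have h'' := congrFun h' I
        simp only [Pi.one_apply] at h''
        rw [if_pos hI] at h''
        exact zero_ne_one h''
      letI := Ideal.Quotient.field I.asIdeal
      exact isUnit_iff_ne_zero.mpr hI
    have h2 := hunit.map e.symm
    rwa [e.symm_apply_apply] at h2

/-- A reduced commutative Artinian ring has finitely many idempotents. -/
theorem finite_idem (R : Type*) [CommRing R] [IsArtinianRing R] [IsReduced R] :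
    Finite {a : R // a * a = a} := by
  classical
  let e := IsArtinianRing.equivPi R
  refine Finite.of_injective (fun a => {I : MaximalSpectrum R | e a.1 I = 0}) ?_
  intro a b h
  apply Subtype.ext
  apply e.injective
  funext I
  have h01 : ∀ a : {a : R // a * a = a}, e a.1 I = 0 ∨ e a.1 I = 1 := fun a =>
    IsIdempotentElem.iff_eq_zero_or_one.mp (congrFun (show e a.1 * e a.1 = e a.1 by rw [← map_mul, a.2]) I)
  have hiff : e a.1 I = 0 ↔ e b.1 I = 0 := Set.ext_iff.mp h I
  rcases h01 a with ha | ha <;> rcases h01 b with hb | hb <;> simp_all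

variable {k : Type*} [Field k] {V : Type*} [AddCommGroup V] [Module k V] [FiniteDimensional k V]
variable {G : Type*} [Group G]

/-- The fixed space of a group element. -/
abbrev fixs (ρ : Representation k G V) (x : G) : Submodule k V := LinearMap.ker (ρ x - 1)

omit [FiniteDimensional k V] in
theorem mem_fixs {ρ : Representation k G V} {x : G} {v : V} : v ∈ fixs ρ x ↔ ρ x v = v := by
  simp [sub_eq_zero]

/-- Irreducibility as a predicate on invariant subspaces. -/
def Irred (ρ : Representation k G V) : Prop :=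
  Nontrivial V ∧ ∀ W : Submodule k V, (∀ g, ∀ v ∈ W, ρ g v ∈ W) → W = ⊥ ∨ W = ⊤

/-- The bound for imprimitive groups. -/
theorem bound_of_decomposition [Finite G] [Group.IsSolvable G] [Nontrivial V] (ρ : Representation k G V) (x : G) {p : ℕ}
    (hp : p.Prime) (hp3 : 3 < p) (hxp : x ^ p = 1) (hgen : Subgroup.normalClosure {x} = ⊤)
    {ι : Type*} [Fintype ι] [DecidableEq ι] [MulAction G ι] [MulAction.IsPretransitive G ι] [Nontrivial ι]
    (π : ι → Module.End k V) (horth : ∀ i j, i ≠ j → π i * π j = 0) (hidem : ∀ i, π i * π i = π i)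
    (hone : ∑ i, π i = 1) (hequiv : ∀ (g : G) (i : ι), ρ g * π i = π (g • i) * ρ g) :
    2 * finrank k (fixs ρ x) < finrank k V := by
  classical
  obtain ⟨i₀⟩ : Nonempty ι := inferInstance
  have hle : ∀ (g : G) i, finrank k (LinearMap.range (π i)) ≤ finrank k (LinearMap.range (π (g • i))) := by
    intro g i
    refine LinearMap.finrank_le_finrank_of_injective (f := (ρ g).restrict (p := LinearMap.range (π i))
      (q := LinearMap.range (π (g • i))) ?_) ?_
    · rintro v ⟨w, rfl⟩
      exact ⟨ρ g w, (LinearMap.congr_fun (hequiv g i) w).symm⟩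
    · intro a b h
      have h' := congrArg (fun v : LinearMap.range (π (g • i)) => ρ g⁻¹ (v : V)) h
      simp only [LinearMap.coe_restrict_apply, ← Module.End.mul_apply, ← map_mul, inv_mul_cancel, map_one] at h'
      exact Subtype.ext h'
  have hd : ∀ i, finrank k (LinearMap.range (π i)) = finrank k (LinearMap.range (π i₀)) := by
    intro i
    obtain ⟨g, rfl⟩ := MulAction.exists_smul_eq G i₀ i
    refine le_antisymm ?_ (hle g i₀)
    have := hle g⁻¹ (g • i₀)
    rwa [inv_smul_smul] at this
  have hlink : ∀ w ∈ fixs ρ x, ∀ i, π i w = 0 → π ((MulAction.toPermHom G ι x) i) w = 0 := by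
    intro w hw i hi
    have := LinearMap.congr_fun (hequiv x i) w
    rw [Module.End.mul_apply, Module.End.mul_apply, mem_fixs.mp hw, hi, map_zero] at this
    exact this.symm
  have hbd := orbit_bound π (fun i j h => horth i j h) (fun i => hidem i)
    (fun w => by rw [← LinearMap.sum_apply, hone]; rfl) _ hd hp (MulAction.toPermHom G ι x)
    (by rw [← map_pow, hxp, map_one]) (fixs ρ x) hlink
  have hf := three_mul_fixed_le (Ω := ι) x hp hp3 hxp hgen
  have hf' : (Finset.univ.filter (fun i => (MulAction.toPermHom G ι x) i = i)).card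
      = (Finset.univ.filter (fun i : ι => x • i = i)).card := by congr
  rw [hf'] at hbd
  set c := finrank k (fixs ρ x)
  set D := finrank k V with hDdef
  set t := Fintype.card ι
  set f := (Finset.univ.filter (fun i : ι => x • i = i)).card
  have ht : 0 < t := Fintype.card_pos
  have hD : 0 < D := Module.finrank_pos
  have h1 : 3 * (p * c * t) ≤ (p + 2) * (t * D) := by
    calc 3 * (p * c * t) ≤ 3 * ((t + (p - 1) * f) * D) := Nat.mul_le_mul_left 3 hbd
      _ = (3 * t + (p - 1) * (3 * f)) * D := by ring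
      _ ≤ (3 * t + (p - 1) * t) * D := by gcongr
      _ = _ := by obtain ⟨q, rfl⟩ : ∃ q, p = q + 1 := ⟨p - 1, by omega⟩; simp; ring
  by_contra hnot
  have h2 : 3 * (p * D * t) ≤ 2 * ((p + 2) * (t * D)) :=
    calc 3 * (p * D * t) ≤ 3 * (p * (2 * c) * t) := by gcongr; omega
      _ = 2 * (3 * (p * c * t)) := by ring
      _ ≤ _ := Nat.mul_le_mul_left 2 h1
  have htD : 0 < t * D := Nat.mul_pos ht hD
  have h3 : 3 * p ≤ 2 * (p + 2) := Nat.le_of_mul_le_mul_right (by linarith) htD
  have hp5 : p ≠ 4 := fun h => by subst h; norm_num at hp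
  omega

set_option maxHeartbeats 1600000 in
/-- A commutative algebra generated by the image of an abelian normal subgroup of an irreducible
linear group is a field, unless the fixed space bound holds. -/
theorem bound_or_invertible [Finite G] [Group.IsSolvable G] (ρ : Representation k G V) (hirr : Irred ρ) (x : G) {p : ℕ}
    (hp : p.Prime) (hp3 : 3 < p) (hxp : x ^ p = 1) (hgen : Subgroup.normalClosure {x} = ⊤)
    (A : Subgroup G) [A.Normal] (hA : ∀ a ∈ A, ∀ b ∈ A, Commute a b) :
    2 * finrank k (fixs ρ x) < finrank k V ∨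
      IsField ↥(Algebra.adjoin k (ρ '' (A : Set G))) := by
  classical
  haveI := hirr.1
  set R := Algebra.adjoin k (ρ '' (A : Set G)) with hRdef
  haveI : IsMulCommutative R := Algebra.isMulCommutative_adjoin k (by
    rintro _ ⟨a, ha, rfl⟩ _ ⟨b, hb, rfl⟩
    rw [← map_mul, ← map_mul, (hA a ha b hb).eq])
  letI : CommRing R := { (inferInstance : Ring R) with mul_comm := fun a b => mul_comm' a b }
  haveI : IsArtinianRing R := IsArtinianRing.of_finite k R
  have hcancel : ∀ g : G, ρ g⁻¹ * ρ g = 1 := fun g => by rw [← map_mul, inv_mul_cancel, map_one]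
  have hcancel' : ∀ g : G, ρ g * ρ g⁻¹ = 1 := fun g => by rw [← map_mul, mul_inv_cancel, map_one]
  have hRconj : ∀ (g : G) (r : Module.End k V), r ∈ R → ρ g * r * ρ g⁻¹ ∈ R := by
    intro g r hr
    induction hr using Algebra.adjoin_induction with
    | mem y hy =>
      obtain ⟨a, ha, rfl⟩ := hy
      rw [← map_mul, ← map_mul]
      exact Algebra.subset_adjoin ⟨_, (inferInstance : A.Normal).conj_mem a ha g, rfl⟩
    | algebraMap c =>
      rw [← Algebra.commutes c (ρ g), mul_assoc, hcancel', mul_one]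
      exact R.algebraMap_mem c
    | add a b _ _ ha hb => rw [mul_add, add_mul]; exact R.add_mem ha hb
    | mul a b _ _ ha hb =>
      have : ρ g * (a * b) * ρ g⁻¹ = (ρ g * a * ρ g⁻¹) * (ρ g * b * ρ g⁻¹) := by
        simp only [mul_assoc]; rw [← mul_assoc (ρ g⁻¹) (ρ g), hcancel, one_mul]
      rw [this]; exact R.mul_mem ha hb
  let cR : G → R →+* R := fun g =>
    { toFun := fun r => ⟨ρ g * r.1 * ρ g⁻¹, hRconj g r.1 r.2⟩
      map_one' := Subtype.ext (by simp [hcancel'])
      map_mul' := fun a b => Subtype.ext (by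
        show ρ g * (a.1 * b.1) * ρ g⁻¹ = (ρ g * a.1 * ρ g⁻¹) * (ρ g * b.1 * ρ g⁻¹)
        simp only [mul_assoc]; rw [← mul_assoc (ρ g⁻¹) (ρ g), hcancel, one_mul])
      map_zero' := Subtype.ext (by simp)
      map_add' := fun a b => Subtype.ext (by
        show ρ g * (a.1 + b.1) * ρ g⁻¹ = ρ g * a.1 * ρ g⁻¹ + ρ g * b.1 * ρ g⁻¹
        rw [mul_add, add_mul]) }
  have hcR1 : ∀ r, cR 1 r = r := fun r => Subtype.ext (by simp [cR])
  have hcRmul : ∀ a b r, cR (a * b) r = cR a (cR b r) := fun a b r => Subtype.ext (by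
    simp [cR, mul_assoc])
  have hcRρ : ∀ g (r : R), ρ g * r.1 = (cR g r).1 * ρ g := fun g r => by
    show ρ g * r.1 = ρ g * r.1 * ρ g⁻¹ * ρ g
    rw [mul_assoc, hcancel, mul_one]
  haveI : IsReduced R := by
    constructor
    intro n hn
    obtain ⟨j, hj⟩ := IsNoetherianRing.isNilpotent_nilradical R
    let W : Submodule k V := ⨅ m : {m : R // IsNilpotent m}, LinearMap.ker m.1.1
    have hWinv : ∀ g, ∀ v ∈ W, ρ g v ∈ W := by
      intro g v hv
      simp only [W, Submodule.mem_iInf, LinearMap.mem_ker] at hv ⊢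
      rintro ⟨m, hm⟩
      have h1 := LinearMap.congr_fun (hcRρ g (cR g⁻¹ m)) v
      rw [← hcRmul, mul_inv_cancel, hcR1, Module.End.mul_apply, Module.End.mul_apply,
        hv ⟨_, hm.map (cR g⁻¹)⟩, map_zero] at h1
      exact h1.symm
    rcases hirr.2 W hWinv with h | h
    · -- some nonzero vector is killed by all nilpotent elements
      exfalso
      have key : ∀ i, ∀ v : V, (∀ m ∈ (nilradical R) ^ i, m.1 v = 0) → v = 0 := by
        intro i
        induction i with
        | zero =>
          intro v hv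
          simpa using hv 1 (by simp)
        | succ i ih =>
          intro v hv
          refine ih v fun m hm => ?_
          have : m.1 v ∈ W := by
            simp only [W, Submodule.mem_iInf, LinearMap.mem_ker]
            rintro ⟨m', hm'⟩
            have := hv (m' * m) (by rw [pow_succ']; exact Ideal.mul_mem_mul (mem_nilradical.mpr hm') hm)
            exact this
          rwa [h, Submodule.mem_bot] at this
      obtain ⟨v, hv⟩ := exists_ne (0 : V)
      exact hv (key j v fun m hm => by rw [hj] at hm; rw [(Submodule.mem_bot R).mp hm]; rfl)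
    · refine Subtype.ext (LinearMap.ext fun v => ?_)
      have : v ∈ W := by rw [h]; trivial
      simp only [W, Submodule.mem_iInf, LinearMap.mem_ker] at this
      exact this ⟨n, hn⟩
  by_cases hF : ∀ r : R, r ≠ 0 → IsUnit r
  · exact Or.inr ⟨exists_pair_ne R, mul_comm, fun {r} hr => (hF r hr).exists_right_inv⟩
  left
  push Not at hF
  obtain ⟨r, hr0, hru⟩ := hF
  obtain ⟨ε, hεe, hε0, hε1⟩ := exists_idem_of_nonunit hr0 hru
  haveI hfinI : Finite {a : R // a * a = a} := finite_idem R
  -- atoms
  let IsAt : R → Prop := fun a => a * a = a ∧ a ≠ 0 ∧ ∀ b : R, b * b = b → a * b = 0 ∨ a * b = a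
  have hatom : ∀ a : R, a * a = a → a ≠ 0 → ∃ a', IsAt a' := by
    intro a ha ha0
    haveI := Fintype.ofFinite {a : R // a * a = a}
    let S : {a : R // a * a = a} → Finset {a : R // a * a = a} := fun b =>
      Finset.univ.filter fun f => f.1 ≠ 0 ∧ f.1 * b.1 = f.1
    obtain ⟨b, hb, hmin⟩ := (Finset.univ.filter fun b : {a : R // a * a = a} => b.1 ≠ 0).exists_min_image
      (fun b => (S b).card) ⟨⟨a, ha⟩, by simp [ha0]⟩
    simp only [Finset.mem_filter, Finset.mem_univ, true_and] at hb
    refine ⟨b.1, b.2, hb, fun f hf => ?_⟩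
    by_contra hne
    push Not at hne
    let bf : {a : R // a * a = a} := ⟨b.1 * f, by rw [mul_mul_mul_comm, b.2, hf]⟩
    have hlt : (S bf).card < (S b).card := by
      refine Finset.card_lt_card ⟨fun c hc => ?_, fun hsub => ?_⟩
      · simp only [S, Finset.mem_filter, Finset.mem_univ, true_and] at hc ⊢
        exact ⟨hc.1, by
          calc c.1 * b.1 = (c.1 * (b.1 * f)) * b.1 := by rw [hc.2]
            _ = c.1 * ((b.1 * b.1) * f) := by ring
            _ = c.1 := by rw [b.2, hc.2]⟩
      · have := hsub (show b ∈ S b by simp [S, hb, b.2])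
        simp only [S, Finset.mem_filter, Finset.mem_univ, true_and, bf] at this
        apply hne.2
        rw [← mul_assoc, b.2] at this
        exact this.2
    exact absurd (hmin bf (by simp [bf, hne.1])) (not_le.mpr hlt)
  have hatconj : ∀ g a, IsAt a → IsAt (cR g a) := by
    rintro g a ⟨h1, h2, h3⟩
    refine ⟨by rw [← map_mul, h1], fun h => h2 ?_, fun b hb => ?_⟩
    · have := congrArg (cR g⁻¹) h
      rwa [map_zero, ← hcRmul, inv_mul_cancel, hcR1] at this
    · have hb' : cR g⁻¹ b * cR g⁻¹ b = cR g⁻¹ b := by rw [← map_mul, hb]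
      have hbb : b = cR g (cR g⁻¹ b) := by rw [← hcRmul, mul_inv_cancel, hcR1]
      rcases h3 _ hb' with h | h
      · left; rw [hbb, ← map_mul, h, map_zero]
      · right; rw [hbb, ← map_mul, h]
  haveI : Finite {a : R // IsAt a} := Finite.of_injective
    (fun a => (⟨a.1, a.2.1⟩ : {a : R // a * a = a})) fun a b h =>
      Subtype.ext (congrArg (fun c : {a : R // a * a = a} => c.1) h)
  letI : Fintype {a : R // IsAt a} := Fintype.ofFinite _
  letI act : MulAction G {a : R // IsAt a} :=
    { smul := fun g a => ⟨cR g a.1, hatconj g _ a.2⟩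
      one_smul := fun a => Subtype.ext (hcR1 a.1)
      mul_smul := fun g h a => Subtype.ext (hcRmul g h a.1) }
  have horth : ∀ a b : {a : R // IsAt a}, a ≠ b → a.1 * b.1 = 0 := by
    intro a b hab
    rcases a.2.2.2 _ b.2.1 with h | h
    · exact h
    rcases b.2.2.2 _ a.2.1 with h' | h'
    · rw [mul_comm, h']
    · exact absurd (Subtype.ext (by rw [← h, mul_comm, h'])) hab
  -- one orbit sums to one
  obtain ⟨a₀, ha₀⟩ := hatom ε hεe hε0
  let O : Finset {a : R // IsAt a} := Finset.univ.filter fun a => a ∈ MulAction.orbit G (⟨a₀, ha₀⟩ : {a : R // IsAt a})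
  let s : R := ∑ a ∈ O, a.1
  have hs_idem : s * s = s := by
    simp only [s, Finset.sum_mul, Finset.mul_sum]
    refine Finset.sum_congr rfl fun a ha => ?_
    rw [Finset.sum_eq_single_of_mem a ha fun b _ hb => horth b a hb]
    exact a.2.1
  have hs_inv : ∀ g, cR g s = s := by
    intro g
    simp only [s, map_sum]
    refine Finset.sum_equiv (MulAction.toPerm g) (fun a => ?_) (fun a _ => rfl)
    simp only [O, Finset.mem_filter, Finset.mem_univ, true_and, MulAction.toPerm_apply]
    rw [← MulAction.orbit_eq_iff, ← MulAction.orbit_eq_iff, MulAction.orbit_smul]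
  have hs_mul : ∀ b : {a : R // IsAt a}, b.1 * s = if b ∈ O then b.1 else 0 := by
    intro b
    simp only [s, Finset.mul_sum]
    split_ifs with hb
    · rw [Finset.sum_eq_single_of_mem b hb fun a _ ha => horth b a (Ne.symm ha)]; exact b.2.1
    · exact Finset.sum_eq_zero fun a ha => horth b a fun h => hb (h ▸ ha)
  have hs1 : s = 1 := by
    have hs0 : s ≠ 0 := by
      intro h
      have := hs_mul ⟨a₀, ha₀⟩
      rw [h, mul_zero, if_pos (by simp [O])] at this
      exact ha₀.2.1 this.symm
    have hinv : ∀ g, ∀ v ∈ LinearMap.range s.1, ρ g v ∈ LinearMap.range s.1 := by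
      rintro g v ⟨w, rfl⟩
      refine ⟨ρ g w, ?_⟩
      have := LinearMap.congr_fun (hcRρ g s) w
      rw [hs_inv] at this
      exact this.symm
    apply Subtype.ext
    rcases hirr.2 _ hinv with h | h
    · exact absurd (Subtype.ext (LinearMap.range_eq_bot.mp h)) hs0
    · refine LinearMap.ext fun v => ?_
      obtain ⟨w, rfl⟩ := LinearMap.range_eq_top.mp h v
      exact LinearMap.congr_fun (congrArg Subtype.val hs_idem) w
  have hall : ∀ b : {a : R // IsAt a}, b ∈ O := by
    intro b
    by_contra hb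
    have := hs_mul b
    rw [hs1, mul_one, if_neg hb] at this
    exact b.2.2.1 this
  haveI : MulAction.IsPretransitive G {a : R // IsAt a} := by
    constructor
    intro a b
    have ha := hall a
    have hb := hall b
    simp only [O, Finset.mem_filter, Finset.mem_univ, true_and] at ha hb
    obtain ⟨g, hg⟩ := ha
    obtain ⟨h, hh⟩ := hb
    exact ⟨h * g⁻¹, by simp only at hg hh; rw [mul_smul, ← hg, inv_smul_smul, hh]⟩
  have hsum : ∑ a : {a : R // IsAt a}, a.1 = 1 := by
    rw [← hs1]
    exact (Finset.sum_subset (Finset.subset_univ O) fun b _ hb => absurd (hall b) hb).symm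
  haveI : Nontrivial {a : R // IsAt a} := by
    by_contra hnt
    rw [not_nontrivial_iff_subsingleton] at hnt
    have : (∑ a : {a : R // IsAt a}, a.1) = a₀ := Finset.sum_eq_single (⟨a₀, ha₀⟩ : {a : R // IsAt a})
      (fun b _ hb => absurd (Subsingleton.elim b _) hb) (fun h => absurd (Finset.mem_univ _) h)
    rw [hsum] at this
    rcases ha₀.2.2 ε hεe with h | h <;> rw [← this, one_mul] at h
    · exact hε0 h
    · exact hε1 h
  refine bound_of_decomposition ρ x hp hp3 hxp hgen (fun a : {a : R // IsAt a} => a.1.1)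
    (fun a b h => congrArg Subtype.val (horth a b h)) (fun a => congrArg Subtype.val a.2.1) ?_
    (fun g a => hcRρ g a.1)
  simpa using congrArg Subtype.val hsum

end Cfsg.Agent.Grp.FixHalf
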