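import Mathlib
import Cfsg.Agent.Lib.Grp.FixHalfImprim

/-!
The fixed space of an element of prime order inducing a nontrivial automorphism of a field of
endomorphisms, and the arithmetic used for the fixed space bound.
-/

set_option autoImplicit false
set_option linter.style.haveILetI false

namespace Cfsg.Agent.Grp.FixHalf

open Module

variable {k : Type*} [Field k] {V : Type*} [AddCommGroup V] [Module k V] [FiniteDimensional k V]
variable {G : Type*} [Group G]

/-- Vandermonde: an element of order `p` not centralising an invariant field of endomorphisms fixes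
at most a `p`-th of the space. -/
theorem mul_fix_le_of_semilinear (ρ : Representation k G V) (x : G) {p : ℕ} (hp : p.Prime) (hxp : x ^ p = 1)
    (R : Subalgebra k (Module.End k V)) [IsMulCommutative R] (hR : IsField R)
    (hconj : ∀ (g : G) (r : Module.End k V), r ∈ R → ρ g * r * ρ g⁻¹ ∈ R)
    (r₀ : Module.End k V) (hr₀ : r₀ ∈ R) (hne : ρ x * r₀ ≠ r₀ * ρ x) :
    p * finrank k (fixs ρ x) ≤ finrank k V := by
  classical
  letI : CommRing R := { (inferInstance : Ring R) with mul_comm := fun a b => mul_comm' a b }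
  haveI : IsDomain R := hR.isDomain
  let α : Fin p → R := fun i => ⟨ρ (x ^ (i : ℕ)) * r₀ * ρ (x ^ (i : ℕ))⁻¹, hconj _ _ hr₀⟩
  have hfix : ∀ g : G, ρ g * r₀ * ρ g⁻¹ = r₀ → ρ g * r₀ = r₀ * ρ g := by
    intro g h
    calc ρ g * r₀ = ρ g * r₀ * (ρ g⁻¹ * ρ g) := by rw [← map_mul, inv_mul_cancel, map_one, mul_one]
      _ = (ρ g * r₀ * ρ g⁻¹) * ρ g := by simp only [mul_assoc]
      _ = _ := by rw [h]
  have hα : Function.Injective α := by
    have key : ∀ i j : Fin p, (i : ℕ) < j → α i = α j → False := by
      intro i j hij h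
      have h' := congrArg (fun r : R => ρ (x ^ (i : ℕ))⁻¹ * r.1 * ρ (x ^ (i : ℕ))) h
      have hij' : x ^ (j : ℕ) = x ^ (i : ℕ) * x ^ ((j : ℕ) - i) := by rw [← pow_add, Nat.add_sub_cancel' hij.le]
      have hd : ρ (x ^ ((j : ℕ) - i)) * r₀ * ρ (x ^ ((j : ℕ) - i))⁻¹ = r₀ := by
        simp only [α] at h'
        rw [hij', mul_inv_rev, map_mul, map_mul] at h'
        simp only [← mul_assoc, ← map_mul, inv_mul_cancel, map_one, one_mul] at h'
        simp only [mul_assoc, ← map_mul, inv_mul_cancel, map_one, mul_one] at h'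
        simpa [mul_assoc] using h'.symm
      -- a generator of the powers of x
      have hco : Nat.Coprime ((j : ℕ) - i) p :=
        ((hp.coprime_iff_not_dvd).mpr (Nat.not_dvd_of_pos_of_lt (by omega) (by omega))).symm
      let S : Subgroup G :=
        { carrier := {g | Commute (ρ g) r₀}
          one_mem' := by simp
          mul_mem' := fun {a b} ha hb => by simp only [Set.mem_ofPred_eq, map_mul] at *; exact ha.mul_left hb
          inv_mem' := fun {a} ha => by
            simp only [Set.mem_ofPred_eq] at *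
            show ρ a⁻¹ * r₀ = r₀ * ρ a⁻¹
            calc ρ a⁻¹ * r₀ = ρ a⁻¹ * (r₀ * ρ a) * ρ a⁻¹ := by
                  simp only [mul_assoc, ← map_mul, mul_inv_cancel, map_one, mul_one]
              _ = r₀ * ρ a⁻¹ := by rw [← ha.eq]; simp only [← mul_assoc, ← map_mul, inv_mul_cancel, map_one, one_mul] }
      have hmem : x ^ ((j : ℕ) - i) ∈ S := hfix _ hd
      apply hne
      have h1 : x ^ (1 : ℤ) ∈ S := by
        have hb' := Nat.gcd_eq_gcd_ab ((j : ℕ) - i) p
        rw [hco] at hb'
        have hb'' : (1 : ℤ) = (((j : ℕ) - i : ℕ) : ℤ) * Nat.gcdA ((j : ℕ) - i) p + (p : ℤ) * Nat.gcdB ((j : ℕ) - i) p := by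
          exact_mod_cast hb'
        rw [hb'', zpow_add, zpow_mul, zpow_mul, zpow_natCast, zpow_natCast]
        exact mul_mem (zpow_mem hmem _) (by rw [hxp, one_zpow]; exact one_mem _)
      rw [zpow_one] at h1
      exact h1.eq
    intro i j h
    by_contra hne'
    rcases lt_or_gt_of_ne (fun e : (i : ℕ) = j => hne' (Fin.ext e)) with hlt | hlt
    · exact key i j hlt h
    · exact key j i hlt h.symm
  let T : (Fin p → fixs ρ x) →ₗ[k] V :=
    ∑ j : Fin p, ((r₀ ^ (j : ℕ)).comp ((fixs ρ x).subtype.comp (LinearMap.proj j)))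
  have hT : Function.Injective T := by
    rw [injective_iff_map_eq_zero]
    intro v hv
    let M : Matrix (Fin p) (Fin p) R := Matrix.vandermonde α
    have hdet : M.det ≠ 0 := Matrix.det_vandermonde_ne_zero_iff.mpr hα
    have hrow : ∀ i, ∑ j : Fin p, (M i j) • ((v j : V)) = 0 := by
      intro i
      have hpow : ∀ m : ℕ, ∀ w : fixs ρ x, ρ (x ^ m) (w : V) = w := by
        intro m w
        induction m with
        | zero => simp
        | succ m ih => rw [pow_succ, map_mul, Module.End.mul_apply, mem_fixs.mp w.2, ih]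
      have hαpow : ∀ (m : ℕ), ((α i) ^ m : R).1 * ρ (x ^ (i : ℕ)) = ρ (x ^ (i : ℕ)) * r₀ ^ m := by
        intro m
        induction m with
        | zero => simp
        | succ m ih =>
          rw [pow_succ, pow_succ]
          calc ((α i) ^ m : R).1 * (α i).1 * ρ (x ^ (i : ℕ))
              = ((α i) ^ m : R).1 * (ρ (x ^ (i : ℕ)) * r₀ * (ρ (x ^ (i : ℕ))⁻¹ * ρ (x ^ (i : ℕ)))) := by
                simp only [α, mul_assoc]
            _ = (((α i) ^ m : R).1 * ρ (x ^ (i : ℕ))) * r₀ := by
                rw [← map_mul, inv_mul_cancel, map_one, mul_one, mul_assoc]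
            _ = _ := by rw [ih, mul_assoc]
      have h0 : ρ (x ^ (i : ℕ)) (T v) = 0 := by rw [hv, map_zero]
      simp only [T, LinearMap.sum_apply, map_sum, LinearMap.comp_apply, LinearMap.proj_apply,
        Submodule.subtype_apply] at h0
      rw [← h0]
      refine Finset.sum_congr rfl fun j _ => ?_
      show ((α i) ^ (j : ℕ) : R).1 (v j : V) = _
      have := LinearMap.congr_fun (hαpow j) (v j : V)
      rw [Module.End.mul_apply, Module.End.mul_apply, hpow] at this
      exact this
    funext l
    apply Subtype.ext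
    have hsum : (∑ i, M.adjugate l i • ∑ j : Fin p, (M i j) • ((v j : V))) = M.det • ((v l : V)) := by
      simp only [Finset.smul_sum, smul_smul]
      rw [Finset.sum_comm]
      simp only [← Finset.sum_smul]
      have hadj : ∀ j, ∑ i, M.adjugate l i * M i j = (M.adjugate * M) l j := fun j => (Matrix.mul_apply).symm
      simp only [hadj, Matrix.adjugate_mul, Matrix.smul_apply, Matrix.one_apply, smul_eq_mul, mul_ite, mul_one,
        mul_zero, ite_smul, zero_smul, Finset.sum_ite_eq, Finset.mem_univ, if_true]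
    simp only [hrow, smul_zero, Finset.sum_const_zero] at hsum
    obtain ⟨b, hb⟩ := hR.mul_inv_cancel hdet
    have := congrArg (fun w => b • w) hsum
    rw [smul_zero, smul_smul, mul_comm, hb, one_smul] at this
    simpa using this.symm
  have := LinearMap.finrank_le_finrank_of_injective hT
  rwa [finrank_pi_fintype, Finset.sum_const, Finset.card_univ, Fintype.card_fin, smul_eq_mul] at this

/-- The arithmetic of the bound. -/
theorem arith_bound {p q s : ℕ} (hp : p.Prime) (hp3 : 3 < p) (hq : q.Prime) (hs : 2 ≤ s)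
    (h : q = p ∨ p ∣ q ^ s - 1) : 4 * (p - 1) ≤ (p - 4) * q ^ s := by
  have hp5 : 5 ≤ p := by
    by_contra hc
    have : p = 4 := by omega
    subst this; norm_num at hp
  have hqs : 4 ≤ q ^ s := le_trans (by norm_num : 4 ≤ 2 ^ 2)
    (le_trans (Nat.pow_le_pow_left hq.two_le 2) (Nat.pow_le_pow_right hq.pos hs))
  rcases h with rfl | h
  · calc 4 * (q - 1) ≤ 4 * q := Nat.mul_le_mul_left 4 (Nat.sub_le _ _)
      _ ≤ 1 * q ^ 2 := by nlinarith
      _ ≤ (q - 4) * q ^ s := Nat.mul_le_mul (by omega) (Nat.pow_le_pow_right hq.pos hs)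
  · rcases le_or_gt 7 p with h7 | h7
    · have hge : p + 1 ≤ q ^ s := by
        have := Nat.le_of_dvd (by omega) h
        omega
      refine le_trans ?_ (Nat.mul_le_mul_left (p - 4) hge)
      obtain ⟨r, rfl⟩ : ∃ r, p = r + 4 := ⟨p - 4, by omega⟩
      simp only [Nat.add_sub_cancel, show r + 4 - 1 = r + 3 from rfl]
      nlinarith
    · have hp' : p = 5 := by
        by_contra hc
        have : p = 6 := by omega
        subst this; norm_num at hp
      subst hp'
      by_contra hlt
      push Not at hlt
      have hlt' : q ^ s < 16 := by omega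
      have hq3 : q ≤ 3 := by
        by_contra hc
        have : 4 ^ 2 ≤ q ^ s := le_trans (Nat.pow_le_pow_left (by omega) 2) (Nat.pow_le_pow_right hq.pos hs)
        omega
      have hs3 : s ≤ 3 := by
        by_contra hc
        have : 2 ^ 4 ≤ q ^ s := le_trans (Nat.pow_le_pow_left hq.two_le 4) (Nat.pow_le_pow_right hq.pos (by omega))
        omega
      have := hq.two_le
      interval_cases q <;> interval_cases s <;> omega

end Cfsg.Agent.Grp.FixHalf
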