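import Mathlib
import Cfsg.Agent.Lib.Grp.FixHalfSemilinear

/-!
The fixed space bound when every abelian normal subgroup acts by scalars: conjugation on endomorphisms.
-/

set_option autoImplicit false
set_option linter.style.haveILetI false

namespace Cfsg.Agent.Grp.FixHalf

open Module

universe u

/-- The group form of the fixed point bound, for groups of order less than `n`. -/
def GroupBound (p n : ℕ) : Prop :=
  ∀ (H : Type u) [Group H] [Finite H] [Group.IsSolvable H] (y : H), y ^ p = 1 → y ≠ 1 →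
    Subgroup.normalClosure {y} = ⊤ → Nat.card H < n →
    ∀ (U : Type u) [CommGroup U] [Finite U] (q : ℕ), q.Prime → (∀ v : U, v ^ q = 1) →
      ∀ φ : H →* MulAut U, Function.Injective φ →
        (∀ W : Subgroup U, (∀ h, ∀ w ∈ W, φ h w ∈ W) → W = ⊥ ∨ W = ⊤) →
        Nat.card {v : U // φ y v = v} ^ 2 < Nat.card U

/-- A noncentral normal subgroup with central commutators, minimal. -/
theorem exists_min_noncentral {G : Type*} [Group G] [Finite G] [Group.IsSolvable G]
    (h : Subgroup.center G ≠ ⊤) :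
    ∃ E : Subgroup G, E.Normal ∧ ¬ E ≤ Subgroup.center G ∧ ⁅E, E⁆ ≤ Subgroup.center G ∧
      ∀ F : Subgroup G, F.Normal → F ≤ E → ¬ F ≤ Subgroup.center G → F = E := by
  classical
  set Z := Subgroup.center G
  obtain ⟨M, ⟨hMn, hZM⟩, hMmin⟩ := Set.Finite.exists_minimal (s := {M : Subgroup G | M.Normal ∧ Z < M})
    (Set.toFinite _) ⟨⊤, inferInstance, lt_top_iff_ne_top.mpr h⟩
  haveI := hMn
  have hMc : ⁅M, M⁆ ≤ Z := by
    by_contra hnot
    have h1 : M ≤ ⁅M, M⁆ ⊔ Z := hMmin ⟨inferInstance, right_lt_sup.mpr hnot⟩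
      (sup_le (Subgroup.commutator_le_left M M) hZM.le)
    let f := QuotientGroup.mk' Z
    have h2 : M.map f ≤ ⁅M.map f, M.map f⁆ := by
      rw [← Subgroup.map_commutator]
      refine (Subgroup.map_mono h1).trans ?_
      rw [Subgroup.map_sup, QuotientGroup.map_mk'_self, sup_bot_eq]
    have h3 : ∀ n, M.map f ≤ derivedSeries (G ⧸ Z) n := by
      intro n
      induction n with
      | zero => exact le_top
      | succ n ih => exact h2.trans (Subgroup.commutator_mono ih ih)
    obtain ⟨n, hn⟩ := (inferInstance : Group.IsSolvable (G ⧸ Z)).solvable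
    have h4 := h3 n
    rw [hn, le_bot_iff, Subgroup.map_eq_bot_iff, QuotientGroup.ker_mk'] at h4
    exact absurd h4 (not_le_of_gt hZM)
  obtain ⟨E, ⟨hEn, hEc, hEZ⟩, hEmin⟩ := Set.Finite.exists_minimal
    (s := {E : Subgroup G | E.Normal ∧ ¬ E ≤ Z ∧ ⁅E, E⁆ ≤ Z}) (Set.toFinite _)
    ⟨M, hMn, not_le_of_gt hZM, hMc⟩
  exact ⟨E, hEn, hEc, hEZ, fun F hF hFE hFc => le_antisymm hFE
    (hEmin ⟨hF, hFc, (Subgroup.commutator_mono hFE hFE).trans hEZ⟩ hFE)⟩

set_option maxHeartbeats 1600000 in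
theorem bound_of_scalar {K : Type*} [Field K] {V : Type*} [AddCommGroup V] [Module K V] [FiniteDimensional K V]
    {G : Type u} [Group G] [Finite G] [Group.IsSolvable G] (ρ : Representation K G V) (hirr : Irred ρ)
    (hinj : Function.Injective ρ) (x : G) {p : ℕ} (hp : p.Prime) (hp3 : 3 < p) (hxp : x ^ p = 1)
    (hgen : Subgroup.normalClosure {x} = ⊤) (hxc : x ∉ Subgroup.center G)
    (hab : ∀ A : Subgroup G, A.Normal → (∀ a ∈ A, ∀ b ∈ A, Commute a b) → A ≤ Subgroup.center G)
    (hscal : ∀ z ∈ Subgroup.center G, ∃ a : K, ρ z = a • (1 : Module.End K V))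
    (IH : GroupBound.{u} p (Nat.card G)) :
    2 * finrank K (fixs ρ x) < finrank K V := by
  classical
  haveI := hirr.1
  haveI := Fact.mk hp
  obtain ⟨E, hEn, hEc, hEZ, hEmin⟩ := exists_min_noncentral (G := G) (fun h => hxc (by rw [h]; trivial))
  haveI := hEn
  have hρρ : ∀ g : G, ρ g * ρ g⁻¹ = 1 := fun g => by rw [← map_mul, mul_inv_cancel, map_one]
  have hρρ' : ∀ g : G, ρ g⁻¹ * ρ g = 1 := fun g => by rw [← map_mul, inv_mul_cancel, map_one]
  -- the scalar of a central element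
  choose θ' hθ' using hscal
  let θ : G → K := fun z => if h : z ∈ Subgroup.center G then θ' z h else 1
  have hθ : ∀ z ∈ Subgroup.center G, ρ z = θ z • (1 : Module.End K V) := fun z hz => by
    simp only [θ, dif_pos hz]; exact hθ' z hz
  have hsmul : ∀ a b : K, a • (1 : Module.End K V) = b • (1 : Module.End K V) → a = b :=
    fun a b h => smul_left_injective K (one_ne_zero (α := Module.End K V)) h
  have hθone : θ 1 = 1 := hsmul _ _ (by rw [← hθ 1 (one_mem _), map_one, one_smul])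
  have hθmul : ∀ a ∈ Subgroup.center G, ∀ b ∈ Subgroup.center G, θ (a * b) = θ a * θ b := fun a ha b hb =>
    hsmul _ _ (by rw [← hθ _ (mul_mem ha hb), map_mul, hθ a ha, hθ b hb, smul_mul_assoc, one_mul, smul_smul])
  have hθ1 : ∀ a ∈ Subgroup.center G, θ a = 1 → a = 1 := fun a ha h =>
    hinj (by rw [hθ a ha, h, one_smul, map_one])
  have hcen : ∀ z ∈ Subgroup.center G, ∀ T : Module.End K V, ρ z * T * ρ z⁻¹ = T := by
    intro z hz T
    have hzT : ρ z * T = T * ρ z := by rw [hθ z hz, smul_mul_assoc, one_mul, mul_smul_comm, mul_one]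
    rw [hzT, mul_assoc, hρρ, mul_one]
  -- commutator scalars
  let χ : E → E → K := fun a b => θ ((a : G) * b * (a : G)⁻¹ * (b : G)⁻¹)
  have hcomm : ∀ a b : E, (a : G) * b * (a : G)⁻¹ * (b : G)⁻¹ ∈ Subgroup.center G := fun a b =>
    hEZ (by rw [← commutatorElement_def]; exact Subgroup.commutator_mem_commutator a.2 b.2)
  have hzc : ∀ z ∈ Subgroup.center G, ∀ g : G, g * z = z * g := fun z hz g => Subgroup.mem_center_iff.mp hz g
  have hχl : ∀ a a' b : E, χ (a * a') b = χ a b * χ a' b := by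
    intro a a' b
    have e : ((a * a' : E) : G) * b * ((a * a' : E) : G)⁻¹ * (b : G)⁻¹ =
        ((a : G) * b * (a : G)⁻¹ * (b : G)⁻¹) * ((a' : G) * b * (a' : G)⁻¹ * (b : G)⁻¹) := by
      rw [hzc _ (hcomm a' b) ((a : G) * b * (a : G)⁻¹ * (b : G)⁻¹)]
      calc ((a * a' : E) : G) * b * ((a * a' : E) : G)⁻¹ * (b : G)⁻¹
          = ((a : G) * ((a' : G) * b * (a' : G)⁻¹ * (b : G)⁻¹)) * (b * (a : G)⁻¹ * (b : G)⁻¹) := by push_cast; group
        _ = _ := by rw [hzc _ (hcomm a' b) (a : G)]; group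
    show θ _ = θ _ * θ _
    rw [e, hθmul _ (hcomm a b) _ (hcomm a' b)]
  have hχr : ∀ a b b' : E, χ a (b * b') = χ a b * χ a b' := by
    intro a b b'
    have e : (a : G) * ((b * b' : E) : G) * (a : G)⁻¹ * ((b * b' : E) : G)⁻¹ =
        ((a : G) * b * (a : G)⁻¹ * (b : G)⁻¹) * ((a : G) * b' * (a : G)⁻¹ * (b' : G)⁻¹) := by
      calc (a : G) * ((b * b' : E) : G) * (a : G)⁻¹ * ((b * b' : E) : G)⁻¹
          = ((a : G) * b * (a : G)⁻¹) * ((a : G) * b' * (a : G)⁻¹ * (b' : G)⁻¹) * (b : G)⁻¹ := by push_cast; group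
        _ = _ := by
            rw [mul_assoc ((a : G) * b * (a : G)⁻¹), ← hzc _ (hcomm a b') (b : G)⁻¹, ← mul_assoc]
    show θ _ = θ _ * θ _
    rw [e, hθmul _ (hcomm a b) _ (hcomm a b')]
  let Zs : Subgroup E := (Subgroup.center G).subgroupOf E
  have hχZ : ∀ z ∈ Zs, ∀ e : E, χ z e = 1 ∧ χ e z = 1 := by
    intro z hz e
    have hz' : (z : G) ∈ Subgroup.center G := hz
    constructor
    · show θ _ = 1; rw [← hzc _ hz' (e : G), mul_inv_cancel_right, mul_inv_cancel, hθone]
    · show θ _ = 1; rw [hzc _ hz' (e : G), mul_inv_cancel_right, mul_inv_cancel, hθone]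
  have hρχ : ∀ a b : E, ρ (a : G) * ρ (b : G) * ρ (a : G)⁻¹ = χ a b • ρ (b : G) := by
    intro a b
    have : (a : G) * b * (a : G)⁻¹ = ((a : G) * b * (a : G)⁻¹ * (b : G)⁻¹) * b := by group
    rw [← map_mul, ← map_mul, this, map_mul, hθ _ (hcomm a b), smul_mul_assoc, one_mul]
  -- the module U = E/Z
  haveI hZn : Zs.Normal := inferInstance
  letI : CommGroup (E ⧸ Zs) :=
    { (inferInstance : Group (E ⧸ Zs)) with
      mul_comm := by
        intro a b
        obtain ⟨a, rfl⟩ := QuotientGroup.mk_surjective a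
        obtain ⟨b, rfl⟩ := QuotientGroup.mk_surjective b
        rw [← QuotientGroup.mk_mul, ← QuotientGroup.mk_mul, QuotientGroup.eq]
        show ((((a * b)⁻¹ * (b * a) : E)) : G) ∈ Subgroup.center G
        push_cast
        simpa [mul_assoc] using hcomm (b⁻¹) (a⁻¹) }
  haveI : Fintype (E ⧸ Zs) := Fintype.ofFinite _
  have hmapZ : ∀ g : G, Zs.map ((MulAut.conjNormal (H := E) g) : E →* E) = Zs := by
    intro g
    have hfix : ∀ z ∈ Zs, MulAut.conjNormal (H := E) g z = z := fun z hz => Subtype.ext (by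
      rw [MulAut.conjNormal_apply, hzc _ (show (z : G) ∈ Subgroup.center G from hz) g, mul_inv_cancel_right])
    ext z
    rw [Subgroup.mem_map]
    constructor
    · rintro ⟨w, hw, rfl⟩; show MulAut.conjNormal (H := E) g w ∈ Zs; rw [hfix w hw]; exact hw
    · exact fun hz => ⟨z, hz, hfix z hz⟩
  let φ : G →* MulAut (E ⧸ Zs) :=
    { toFun := fun g => QuotientGroup.congr Zs Zs (MulAut.conjNormal g) (hmapZ g)
      map_one' := by
        ext a
        obtain ⟨a, rfl⟩ := QuotientGroup.mk_surjective a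
        simp [QuotientGroup.congr_mk]
      map_mul' := fun g h => by
        ext a
        obtain ⟨a, rfl⟩ := QuotientGroup.mk_surjective a
        simp [QuotientGroup.congr_mk] }
  have hφmk : ∀ (g : G) (e : E), φ g (e : E ⧸ Zs) = ((MulAut.conjNormal g e : E) : E ⧸ Zs) := fun g e =>
    QuotientGroup.congr_mk Zs Zs (MulAut.conjNormal g) (hmapZ g) e
  -- Z is the centre of E
  have hcentE : ∀ e : E, (∀ a : E, (a : G) * e = e * a) → e ∈ Zs := by
    intro e he
    refine hab (E ⊓ Subgroup.centralizer (E : Set G)) inferInstance (fun a ha b hb => ?_) ?_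
    · exact ((Subgroup.mem_centralizer_iff.mp (Subgroup.mem_inf.mp ha).2) b (Subgroup.mem_inf.mp hb).1).symm
    · exact Subgroup.mem_inf.mpr ⟨e.2, Subgroup.mem_centralizer_iff.mpr fun a ha => he ⟨a, ha⟩⟩
  have hχnd : ∀ e : E, e ∉ Zs → (∃ a, χ a e ≠ 1) ∧ (∃ a, χ e a ≠ 1) := by
    intro e he
    constructor <;> by_contra! hall <;> refine he (hcentE e fun a => ?_)
    · have := hθ1 _ (hcomm a e) (hall a)
      rw [mul_inv_eq_one, mul_inv_eq_iff_eq_mul] at this
      exact this
    · have := hθ1 _ (hcomm e a) (hall a)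
      rw [mul_inv_eq_one, mul_inv_eq_iff_eq_mul] at this
      exact this.symm
  have hEnc : ∃ e₀ : E, e₀ ∉ Zs := by
    by_contra! h
    exact hEc fun e he => h ⟨e, he⟩
  -- irreducibility
  have hUirr : ∀ W : Subgroup (E ⧸ Zs), (∀ g : G, ∀ w ∈ W, φ g w ∈ W) → W = ⊥ ∨ W = ⊤ := by
    intro W hW
    let F : Subgroup G := (W.comap (QuotientGroup.mk' Zs)).map E.subtype
    have hFE : F ≤ E := Subgroup.map_subtype_le _
    have hFn : F.Normal := by
      constructor
      rintro _ ⟨e, he, rfl⟩ g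
      refine ⟨MulAut.conjNormal g e, ?_, MulAut.conjNormal_apply g e⟩
      show ((MulAut.conjNormal g e : E) : E ⧸ Zs) ∈ W
      rw [← hφmk]; exact hW g _ he
    by_cases hFc : F ≤ Subgroup.center G
    · left
      rw [Subgroup.eq_bot_iff_forall]
      intro w hw
      obtain ⟨e, rfl⟩ := QuotientGroup.mk_surjective w
      rw [QuotientGroup.eq_one_iff]
      exact hFc ⟨e, hw, rfl⟩
    · right
      rw [eq_top_iff]
      intro w _
      obtain ⟨e, rfl⟩ := QuotientGroup.mk_surjective w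
      have : (e : G) ∈ F := by rw [hEmin F hFn hFE hFc]; exact e.2
      obtain ⟨e', he', hee⟩ := this
      exact Subtype.ext (show (e' : G) = e from hee) ▸ he'
  have hUnt : Nontrivial (E ⧸ Zs) := by
    obtain ⟨e₀, he₀⟩ := hEnc
    exact ⟨(e₀ : E ⧸ Zs), 1, fun h => he₀ ((QuotientGroup.eq_one_iff _).mp h)⟩
  -- exponent
  obtain ⟨q, hq, hqU⟩ := Nat.exists_prime_and_dvd (n := Nat.card (E ⧸ Zs)) (ne_of_gt Finite.one_lt_card)
  haveI := Fact.mk hq
  have hexp : ∀ v : E ⧸ Zs, v ^ q = 1 := by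
    obtain ⟨v₀, hv₀⟩ := exists_prime_orderOf_dvd_card' q hqU
    let W : Subgroup (E ⧸ Zs) := (powMonoidHom q).ker
    rcases hUirr W (fun g w hw => by
      rw [MonoidHom.mem_ker, powMonoidHom_apply] at *
      rw [← map_pow, hw, map_one]) with h | h
    · exfalso
      have : v₀ ∈ W := by rw [MonoidHom.mem_ker, powMonoidHom_apply, ← hv₀, pow_orderOf_eq_one]
      rw [h, Subgroup.mem_bot] at this
      rw [this, orderOf_one] at hv₀
      exact hq.one_lt.ne hv₀
    · intro v
      have : v ∈ W := by rw [h]; trivial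
      exact this
  have hpgroup : IsPGroup q (E ⧸ Zs) := fun v => ⟨1, by rw [pow_one]; exact hexp v⟩
  obtain ⟨m, hm⟩ := IsPGroup.iff_card.mp hpgroup
  have hm2 : 2 ≤ m := by
    by_contra hlt
    obtain ⟨e₀, he₀⟩ := hEnc
    obtain ⟨⟨a, ha⟩, -⟩ := hχnd e₀ he₀
    apply ha
    have hm1 : Nat.card (E ⧸ Zs) ∣ q := by rw [hm]; exact (pow_dvd_pow q (by omega : m ≤ 1)).trans (by simp)
    have hne : (e₀ : E ⧸ Zs) ≠ 1 := fun h => he₀ ((QuotientGroup.eq_one_iff _).mp h)
    have hmem : (a : E ⧸ Zs) ∈ Subgroup.zpowers (e₀ : E ⧸ Zs) := by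
      refine mem_zpowers_of_prime_card (p := q) ?_ hne
      exact ((Nat.dvd_prime hq).mp hm1).resolve_left (ne_of_gt Finite.one_lt_card)
    obtain ⟨n, hn⟩ := Subgroup.mem_zpowers_iff.mp hmem
    rw [← QuotientGroup.mk_zpow, QuotientGroup.eq] at hn
    show θ _ = 1
    have hz : ((((e₀ ^ n)⁻¹ * a : E)) : G) ∈ Subgroup.center G := hn
    have hca : Commute (a : G) (e₀ : G) := by
      have e : (a : G) = ((e₀ : G) ^ n) * ((((e₀ ^ n)⁻¹ * a : E)) : G) := by push_cast; group
      rw [e]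
      exact ((Commute.refl (e₀ : G)).zpow_left n).mul_left (hzc _ hz (e₀ : G)).symm
    rw [hca.eq, mul_inv_cancel_right, mul_inv_cancel, hθone]
  -- the order of U is invertible
  have hqK : (q : K) ≠ 0 := by
    intro h0
    obtain ⟨e₀, he₀⟩ := hEnc
    obtain ⟨⟨a, ha⟩, -⟩ := hχnd e₀ he₀
    haveI : CharP K q := (CharP.charP_iff_prime_eq_zero hq).mpr h0
    apply ha
    have hpow : ∀ n : ℕ, χ (a ^ n) e₀ = χ a e₀ ^ n := by
      intro n
      induction n with
      | zero => rw [pow_zero, pow_zero]; exact (hχZ 1 (one_mem _) e₀).1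
      | succ n ih => rw [pow_succ, hχl, ih, pow_succ]
    have hq1 : χ a e₀ ^ q = 1 := by
      rw [← hpow]
      exact (hχZ _ ((QuotientGroup.eq_one_iff _).mp (by rw [QuotientGroup.mk_pow]; exact hexp _)) e₀).1
    exact sub_eq_zero.mp (eq_zero_of_pow_eq_zero (n := q) (by rw [sub_pow_char, hq1, one_pow, sub_self]))
  have hNK : ((Fintype.card (E ⧸ Zs) : ℕ) : K) ≠ 0 := by
    rw [← Nat.card_eq_fintype_card, hm, Nat.cast_pow]; exact pow_ne_zero _ hqK
  -- representatives
  let s : E ⧸ Zs → E := Quotient.out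
  have hs : ∀ v, ((s v : E) : E ⧸ Zs) = v := fun v => Quotient.out_eq v
  let ω : E ⧸ Zs → E ⧸ Zs → K := fun v w => χ (s v) (s w)
  have hωmk : ∀ a b : E, ω (a : E ⧸ Zs) (b : E ⧸ Zs) = χ a b := by
    intro a b
    have ha : a⁻¹ * s (a : E ⧸ Zs) ∈ Zs := QuotientGroup.eq.mp (hs _).symm
    have hb : b⁻¹ * s (b : E ⧸ Zs) ∈ Zs := QuotientGroup.eq.mp (hs _).symm
    show χ (s (a : E ⧸ Zs)) (s (b : E ⧸ Zs)) = _
    conv_lhs => rw [← mul_inv_cancel_left a (s (a : E ⧸ Zs)), ← mul_inv_cancel_left b (s (b : E ⧸ Zs))]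
    rw [hχl, (hχZ _ ha _).1, hχr, (hχZ _ hb _).2, mul_one, mul_one]
  have hωl : ∀ v v' w, ω (v * v') w = ω v w * ω v' w := by
    intro v v' w
    obtain ⟨a, rfl⟩ := QuotientGroup.mk_surjective v
    obtain ⟨a', rfl⟩ := QuotientGroup.mk_surjective v'
    obtain ⟨b, rfl⟩ := QuotientGroup.mk_surjective w
    rw [← QuotientGroup.mk_mul, hωmk, hωmk, hωmk, hχl]
  have hωr : ∀ v w w', ω v (w * w') = ω v w * ω v w' := by
    intro v w w'
    obtain ⟨a, rfl⟩ := QuotientGroup.mk_surjective v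
    obtain ⟨b, rfl⟩ := QuotientGroup.mk_surjective w
    obtain ⟨b', rfl⟩ := QuotientGroup.mk_surjective w'
    rw [← QuotientGroup.mk_mul, hωmk, hωmk, hωmk, hχr]
  have hω1 : ∀ v, ω 1 v = 1 ∧ ω v 1 = 1 := fun v => by
    obtain ⟨a, rfl⟩ := QuotientGroup.mk_surjective v
    rw [← QuotientGroup.mk_one, hωmk, hωmk]; exact hχZ 1 (one_mem _) a
  have hsumL : ∀ w, ∑ v, ω v w = if w = 1 then (Fintype.card (E ⧸ Zs) : K) else 0 := by
    intro w
    split_ifs with h
    · subst h; simp [fun v => (hω1 v).2]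
    · obtain ⟨e, rfl⟩ := QuotientGroup.mk_surjective w
      obtain ⟨⟨a, ha⟩, -⟩ := hχnd e (fun he => h ((QuotientGroup.eq_one_iff _).mpr he))
      have h2 : χ a e * ∑ v, ω v (e : E ⧸ Zs) = ∑ v, ω v (e : E ⧸ Zs) := by
        rw [Finset.mul_sum]
        refine Fintype.sum_equiv (Equiv.mulLeft (a : E ⧸ Zs)) _ _ fun v => ?_
        rw [Equiv.coe_mulLeft, hωl, hωmk]
      exact (mul_left_eq_self₀.mp h2).resolve_left ha
  have hsumR : ∀ v, ∑ w, ω v w = if v = 1 then (Fintype.card (E ⧸ Zs) : K) else 0 := by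
    intro v
    split_ifs with h
    · subst h; simp [fun w => (hω1 w).1]
    · obtain ⟨e, rfl⟩ := QuotientGroup.mk_surjective v
      obtain ⟨-, ⟨a, ha⟩⟩ := hχnd e (fun he => h ((QuotientGroup.eq_one_iff _).mpr he))
      have h2 : χ e a * ∑ w, ω (e : E ⧸ Zs) w = ∑ w, ω (e : E ⧸ Zs) w := by
        rw [Finset.mul_sum]
        refine Fintype.sum_equiv (Equiv.mulLeft (a : E ⧸ Zs)) _ _ fun v => ?_
        rw [Equiv.coe_mulLeft, hωr, hωmk]
      exact (mul_left_eq_self₀.mp h2).resolve_left ha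
  -- conjugation and projections
  let cj : G → Module.End K (Module.End K V) := fun g =>
    (LinearMap.mulLeft K (ρ g)).comp (LinearMap.mulRight K (ρ g⁻¹))
  have hcj : ∀ g T, cj g T = ρ g * T * ρ g⁻¹ := fun g T => by simp [cj, mul_assoc]
  have hcjmul : ∀ a b T, cj (a * b) T = cj a (cj b T) := fun a b T => by simp [hcj, mul_assoc]
  have hcjz : ∀ a b : E, (a : E ⧸ Zs) = (b : E ⧸ Zs) → ∀ T, cj (a : G) T = cj (b : G) T := by
    intro a b h T
    have hz : ((a⁻¹ * b : E) : G) ∈ Subgroup.center G := (QuotientGroup.eq.mp h : a⁻¹ * b ∈ Zs)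
    have e : (b : G) = (a : G) * ((a⁻¹ * b : E) : G) := by push_cast; group
    rw [e, hcjmul, show cj ((a⁻¹ * b : E) : G) T = T by rw [hcj]; exact hcen _ hz T]
  let c : E ⧸ Zs → Module.End K (Module.End K V) := fun v => cj (s v : G)
  have hc : ∀ (a : E) T, c (a : E ⧸ Zs) T = cj (a : G) T := fun a T => hcjz _ _ (hs _) T
  have hcmul : ∀ v w T, c (v * w) T = c v (c w T) := by
    intro v w T
    obtain ⟨a, rfl⟩ := QuotientGroup.mk_surjective v
    obtain ⟨b, rfl⟩ := QuotientGroup.mk_surjective w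
    rw [← QuotientGroup.mk_mul, hc, hc, hc, Subgroup.coe_mul, hcjmul]
  let N : K := (Fintype.card (E ⧸ Zs) : K)
  let π : E ⧸ Zs → Module.End K (Module.End K V) := fun u => N⁻¹ • ∑ v, ω v u⁻¹ • c v
  have hπ : ∀ u T, π u T = N⁻¹ • ∑ v, ω v u⁻¹ • c v T := fun u T => by
    simp [π, LinearMap.smul_apply, LinearMap.sum_apply]
  have hcπ : ∀ w u T, c w (π u T) = ω w u • π u T := by
    intro w u T
    rw [hπ, map_smul, map_sum, smul_comm (ω w u) N⁻¹]
    congr 1
    rw [Finset.smul_sum]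
    refine Fintype.sum_equiv (Equiv.mulLeft w) _ _ fun v => ?_
    rw [map_smul, Equiv.coe_mulLeft, ← hcmul, smul_smul, hωl]
    congr 1
    rw [← mul_assoc, ← hωr, mul_inv_cancel, (hω1 w).2, one_mul]
  have hcomp : ∀ w u T, π w (π u T) = if w = u then π u T else 0 := by
    intro w u T
    rw [hπ w (π u T)]
    simp only [hcπ, smul_smul, ← hωr, ← Finset.sum_smul, hsumL]
    by_cases h : w = u
    · rw [if_pos h, if_pos (by rw [h, inv_mul_cancel]), inv_mul_cancel₀ hNK, one_smul]
    · rw [if_neg h, if_neg (fun e => h (inv_mul_eq_one.mp e)), mul_zero, zero_smul]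
  have hone : ∀ T, ∑ u, π u T = T := by
    intro T
    simp only [hπ, ← Finset.smul_sum]
    rw [Finset.sum_comm]
    have : ∀ v, ∑ u, ω v u⁻¹ • c v T = (if v = 1 then N else 0) • c v T := fun v => by
      rw [← Finset.sum_smul, ← hsumR v]
      congr 1
      exact Fintype.sum_equiv (Equiv.inv _) _ _ fun u => rfl
    simp only [this, ite_smul, zero_smul, Finset.sum_ite_eq', Finset.mem_univ, if_true]
    rw [smul_smul, inv_mul_cancel₀ hNK, one_smul, ← QuotientGroup.mk_one, hc, hcj]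
    simp
  -- equal ranks
  have hL : ∀ (e : E) u T, π u (ρ (e : G) * T) = ρ (e : G) * π (u * (e : E ⧸ Zs)⁻¹) T := by
    intro e u T
    rw [hπ, hπ, mul_smul_comm, Finset.mul_sum]
    congr 1
    refine Finset.sum_congr rfl fun v _ => ?_
    obtain ⟨a, rfl⟩ := QuotientGroup.mk_surjective v
    rw [hc, hc, hcj, hcj, mul_inv_rev, inv_inv]
    have : ρ (a : G) * (ρ (e : G) * T) * ρ (a : G)⁻¹ = χ a e • (ρ (e : G) * (ρ (a : G) * T * ρ (a : G)⁻¹)) := by
      rw [← smul_mul_assoc, ← hρχ]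
      calc ρ (a : G) * (ρ (e : G) * T) * ρ (a : G)⁻¹ = ρ (a : G) * ρ (e : G) * (1 * T * ρ (a : G)⁻¹) := by
            simp only [one_mul, mul_assoc]
        _ = _ := by rw [← hρρ' (a : G)]; simp only [mul_assoc]
    rw [this, mul_smul_comm, smul_smul, hωr, hωmk, mul_comm]
  let d := finrank K (LinearMap.range (π 1))
  have hd : ∀ u, finrank K (LinearMap.range (π u)) = d := by
    have key : ∀ (e : E) u, finrank K (LinearMap.range (π u)) ≤ finrank K (LinearMap.range (π (u * (e : E ⧸ Zs)))) := by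
      intro e u
      refine LinearMap.finrank_le_finrank_of_injective
        (f := (LinearMap.mulLeft K (ρ (e : G))).restrict (p := LinearMap.range (π u))
          (q := LinearMap.range (π (u * (e : E ⧸ Zs)))) ?_) ?_
      · rintro T ⟨S, rfl⟩
        exact ⟨ρ (e : G) * S, by rw [hL, mul_inv_cancel_right]; rfl⟩
      · intro a b h
        apply Subtype.ext
        have h' := congrArg (fun t : LinearMap.range (π (u * (e : E ⧸ Zs))) => ρ (e : G)⁻¹ * (t : Module.End K V)) h
        simp only [LinearMap.coe_restrict_apply, LinearMap.mulLeft_apply, ← mul_assoc, hρρ', one_mul] at h'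
        exact h'
    intro u
    obtain ⟨e, rfl⟩ := QuotientGroup.mk_surjective u
    refine le_antisymm ?_ ?_
    · have := key e⁻¹ (e : E ⧸ Zs)
      rwa [QuotientGroup.mk_inv, mul_inv_cancel] at this
    · have := key e 1
      rwa [one_mul] at this
  -- x permutes the projections
  have hxc' : ∀ v T, cj x (c v T) = c (φ x v) (cj x T) := by
    intro v T
    obtain ⟨a, rfl⟩ := QuotientGroup.mk_surjective v
    rw [hφmk, hc, hc, ← hcjmul, ← hcjmul, MulAut.conjNormal_apply, inv_mul_cancel_right]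
  have hωx : ∀ v w, ω (φ x v) (φ x w) = ω v w := by
    intro v w
    obtain ⟨a, rfl⟩ := QuotientGroup.mk_surjective v
    obtain ⟨b, rfl⟩ := QuotientGroup.mk_surjective w
    rw [hφmk, hφmk, hωmk, hωmk]
    show θ _ = θ _
    congr 1
    calc _ = x * ((a : G) * b * (a : G)⁻¹ * (b : G)⁻¹) * x⁻¹ := by simp [MulAut.conjNormal_apply, mul_assoc]
      _ = _ := by rw [hzc _ (hcomm a b) x, mul_inv_cancel_right]
  let σ : Equiv.Perm (E ⧸ Zs) := (φ x).toEquiv
  have hσ : σ ^ p = 1 := by
    have : ∀ n : ℕ, ∀ v, (σ ^ n) v = φ (x ^ n) v := by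
      intro n
      induction n with
      | zero => simp
      | succ n ih => intro v; rw [pow_succ', Equiv.Perm.mul_apply, ih, pow_succ', map_mul, MulAut.mul_apply]; rfl
    ext v; rw [this, hxp, map_one]; rfl
  let F : Submodule K (Module.End K V) := LinearMap.ker (cj x - 1)
  have hlink : ∀ T ∈ F, ∀ u, π u T = 0 → π (σ u) T = 0 := by
    intro T hT u hu
    have hT' : cj x T = T := sub_eq_zero.mp hT
    have := congrArg (cj x) hu
    rw [map_zero, hπ, map_smul, map_sum] at this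
    rw [hπ, ← this]
    congr 1
    refine (Fintype.sum_equiv σ _ _ fun v => ?_).symm
    rw [map_smul, hxc', hT']
    show ω v u⁻¹ • _ = ω (φ x v) (φ x u)⁻¹ • _
    rw [← map_inv, hωx]
    rfl
  have hbd := orbit_bound π (fun i j h => LinearMap.ext fun T => by
      rw [LinearMap.comp_apply, hcomp, if_neg h]; rfl)
    (fun i => LinearMap.ext fun T => by rw [LinearMap.comp_apply, hcomp, if_pos rfl]) hone d hd hp σ hσ F hlink
  obtain ⟨S, -, hScard⟩ := exists_orbit_reps hp σ hσ
  -- the induction hypothesis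
  let P : Subgroup (E ⧸ Zs) := MonoidHom.eqLocus (φ x).toMonoidHom (MonoidHom.id _)
  have hf : (Finset.univ.filter (fun i => σ i = i)).card = Nat.card P := by
    rw [Nat.card_eq_fintype_card]
    exact (Fintype.card_of_subtype _ fun v => by simp [σ, P, MonoidHom.eqLocus]).symm
  have hx1 : φ x ≠ 1 := by
    intro h
    have hker : φ.ker = ⊤ := top_le_iff.mp (hgen ▸ Subgroup.normalClosure_le_normal
      (Set.singleton_subset_iff.mpr h))
    obtain ⟨e₀, he₀⟩ := hEnc
    rcases hUirr (Subgroup.zpowers (e₀ : E ⧸ Zs)) (fun g w hw => by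
      rw [show φ g = 1 from (hker ▸ Subgroup.mem_top g : g ∈ φ.ker)]; exact hw) with h0 | h0
    · exact he₀ ((QuotientGroup.eq_one_iff _).mp (Subgroup.zpowers_eq_bot.mp h0))
    · have hcard : Nat.card (E ⧸ Zs) = orderOf ((e₀ : E ⧸ Zs)) := by
        rw [← Nat.card_zpowers, h0, Subgroup.card_top]
      have hdvd : orderOf ((e₀ : E ⧸ Zs)) ∣ q := orderOf_dvd_of_pow_eq_one (hexp _)
      rw [← hcard, hm] at hdvd
      have := (Nat.pow_dvd_pow_iff_le_right hq.one_lt).mp (hdvd.trans (pow_one q).symm.dvd)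
      omega
  have hIH : Nat.card P ^ 2 < Nat.card (E ⧸ Zs) := by
    haveI : Group.IsSolvable φ.range := Group.isSolvable_of_surjective φ.rangeRestrict_surjective
    have hlt : Nat.card φ.range < Nat.card G := by
      obtain ⟨e₀, he₀⟩ := hEnc
      have hker : φ.ker ≠ ⊥ := by
        intro h
        have : (e₀ : G) ∈ φ.ker := by
          rw [MonoidHom.mem_ker]
          ext v
          obtain ⟨a, rfl⟩ := QuotientGroup.mk_surjective v
          rw [hφmk, MulAut.one_apply, QuotientGroup.eq]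
          show (((MulAut.conjNormal (e₀ : G) a)⁻¹ * a : E) : G) ∈ Subgroup.center G
          rw [Subgroup.coe_mul, Subgroup.coe_inv, MulAut.conjNormal_apply]
          simpa [mul_assoc] using hcomm e₀ (a⁻¹)
        rw [h, Subgroup.mem_bot] at this
        exact he₀ (by show (e₀ : G) ∈ Subgroup.center G; rw [this]; exact one_mem _)
      rw [← Nat.card_congr (QuotientGroup.quotientKerEquivRange φ).toEquiv,
        φ.ker.card_eq_card_quotient_mul_card_subgroup]
      have : 1 < Nat.card φ.ker := φ.ker.one_lt_card_iff_ne_bot.mpr hker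
      have h0 : 0 < Nat.card (G ⧸ φ.ker) := Nat.card_pos
      nlinarith
    have := IH φ.range (φ.rangeRestrict x) (by rw [← map_pow, hxp, map_one])
      (fun h => hx1 (congrArg Subtype.val h)) (by
        rw [← Subgroup.map_top_of_surjective _ φ.rangeRestrict_surjective, ← hgen,
          Subgroup.map_normalClosure _ _ φ.rangeRestrict_surjective, Set.image_singleton]) hlt
      (E ⧸ Zs) q hq hexp φ.range.subtype Subtype.coe_injective
      (fun W hW => hUirr W fun g w hw => hW (φ.rangeRestrict g) w hw)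
    exact this
  obtain ⟨a, ha⟩ := IsPGroup.iff_card.mp (hpgroup.to_subgroup P)
  have ham : 2 * a < m := by
    rw [ha, hm, ← pow_mul] at hIH
    have := (Nat.pow_lt_pow_iff_right hq.one_lt).mp hIH
    omega
  have harith := arith_bound hp hp3 hq (s := m - a) (by omega) (by
    by_cases hqp : q = p
    · exact Or.inl hqp
    right
    have h1 : p ∣ q ^ m + (p - 1) * q ^ a := ⟨S.card, by rw [hScard, hf, ha, ← Nat.card_eq_fintype_card, hm]⟩
    have h2 : p ∣ (q ^ m - q ^ a) + p * q ^ a := by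
      convert h1 using 1
      have : q ^ a ≤ q ^ m := Nat.pow_le_pow_right hq.pos (by omega)
      obtain ⟨r, hr⟩ := Nat.exists_eq_add_of_le this
      obtain ⟨t, rfl⟩ : ∃ t, p = t + 1 := ⟨p - 1, by have := hp.one_lt; omega⟩
      rw [hr]; simp; ring
    rw [Nat.dvd_add_left (dvd_mul_right p _)] at h2
    have h3 : q ^ m - q ^ a = q ^ a * (q ^ (m - a) - 1) := by
      rw [Nat.mul_sub, mul_one, ← pow_add, Nat.add_sub_cancel' (by omega)]
    rw [h3] at h2
    exact ((Nat.Coprime.pow_right a ((Nat.coprime_primes hp hq).mpr (Ne.symm hqp))).dvd_mul_left).mp h2)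
  rw [hf, ha, ← Nat.card_eq_fintype_card, hm] at hbd
  have hsplit : q ^ m = q ^ a * q ^ (m - a) := by rw [← pow_add, Nat.add_sub_cancel' (by omega)]
  rw [hsplit] at hbd
  set Q := q ^ (m - a)
  set DD := finrank K (Module.End K V) with hDD
  have h4 : 4 * finrank K F ≤ DD := by
    have h1 : p * finrank K F * Q ≤ (Q + (p - 1)) * DD := by
      refine Nat.le_of_mul_le_mul_left ?_ (pow_pos hq.pos a)
      calc q ^ a * (p * finrank K F * Q) = p * finrank K F * (q ^ a * Q) := by ring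
        _ ≤ (q ^ a * Q + (p - 1) * q ^ a) * DD := hbd
        _ = q ^ a * ((Q + (p - 1)) * DD) := by ring
    have h2 : 4 * (Q + (p - 1)) ≤ p * Q := by
      have h4p : p = (p - 4) + 4 := by omega
      calc 4 * (Q + (p - 1)) = 4 * Q + 4 * (p - 1) := by ring
        _ ≤ 4 * Q + (p - 4) * Q := Nat.add_le_add_left harith _
        _ = ((p - 4) + 4) * Q := by ring
        _ = _ := by rw [← h4p]
    refine Nat.le_of_mul_le_mul_left ?_ (Nat.mul_pos hp.pos (pow_pos hq.pos (m - a)) : 0 < p * Q)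
    calc p * Q * (4 * finrank K F) = 4 * (p * finrank K F * Q) := by ring
      _ ≤ 4 * ((Q + (p - 1)) * DD) := Nat.mul_le_mul_left 4 h1
      _ = (4 * (Q + (p - 1))) * DD := by ring
      _ ≤ p * Q * DD := Nat.mul_le_mul_right DD h2
  -- the lower bound
  let Nx : Module.End K V := ρ x - 1
  let C : Submodule K V := fixs ρ x
  let Ψ : (V ⧸ LinearMap.range Nx →ₗ[K] C) →ₗ[K] Module.End K V :=
    { toFun := fun L => C.subtype.comp (L.comp (LinearMap.range Nx).mkQ)
      map_add' := fun L M => by ext v; simp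
      map_smul' := fun r L => by ext v; simp }
  have hΨinj : Function.Injective Ψ := by
    intro L M h
    refine LinearMap.ext fun w => ?_
    obtain ⟨v, rfl⟩ := Submodule.Quotient.mk_surjective _ w
    exact Subtype.ext (LinearMap.congr_fun h v)
  have hΨN : ∀ L, Ψ L * Nx = 0 := fun L => LinearMap.ext fun v => by
    show ((L ((LinearMap.range Nx).mkQ (Nx v)) : C) : V) = 0
    rw [Submodule.mkQ_apply, (Submodule.Quotient.mk_eq_zero _).mpr (LinearMap.mem_range_self Nx v), map_zero, ZeroMemClass.coe_zero]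
  have hΨF : LinearMap.range Ψ < F := by
    refine lt_of_le_of_ne ?_ ?_
    · rintro T ⟨L, rfl⟩
      show cj x (Ψ L) - Ψ L = 0
      have h1 : ρ x * Ψ L = Ψ L := LinearMap.ext fun v => mem_fixs.mp (L ((LinearMap.range Nx).mkQ v)).2
      have h2 : Ψ L * ρ x = Ψ L := by
        have : Ψ L * (ρ x - 1) = 0 := hΨN L
        rwa [mul_sub, mul_one, sub_eq_zero] at this
      rw [hcj, h1, sub_eq_zero]
      calc Ψ L * ρ x⁻¹ = (Ψ L * ρ x) * ρ x⁻¹ := by rw [h2]
        _ = Ψ L := by rw [mul_assoc, hρρ, mul_one]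
    · intro heq
      have h1 : (1 : Module.End K V) ∈ F := by
        show cj x 1 - 1 = 0
        rw [hcj, mul_one, hρρ, sub_self]
      rw [← heq] at h1
      obtain ⟨L, hL⟩ := h1
      have := hΨN L
      rw [hL, one_mul, sub_eq_zero] at this
      exact hxc (by rw [hinj (this.trans (map_one ρ).symm)]; exact one_mem _)
  have h5 := Submodule.finrank_lt_finrank_of_lt hΨF
  rw [LinearMap.finrank_range_of_inj hΨinj, Module.finrank_linearMap] at h5
  have h6 : finrank K (V ⧸ LinearMap.range Nx) = finrank K C := by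
    have h1 := Submodule.finrank_quotient_add_finrank (LinearMap.range Nx)
    have h2 := LinearMap.finrank_range_add_finrank_ker Nx
    show _ = finrank K (LinearMap.ker Nx)
    omega
  rw [h6] at h5
  rw [hDD, Module.finrank_linearMap] at h4
  show 2 * finrank K C < finrank K V
  by_contra hnot
  push Not at hnot
  have : finrank K V * finrank K V ≤ (2 * finrank K C) * (2 * finrank K C) := Nat.mul_le_mul hnot hnot
  nlinarith

end Cfsg.Agent.Grp.FixHalf
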