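import Mathlib
import Cfsg.Agent.Lib.Grp.FixHalfExtra

/-!
In a solvable group generated by the conjugates of an element of prime order at least five, that
element fixes less than half of a faithful irreducible module.
-/

set_option autoImplicit false
set_option linter.style.haveILetI false

namespace Cfsg.Agent.Grp.FixHalf

open Module

universe u v w

/-- A subspace invariant under generators of an algebra of endomorphisms is invariant under the algebra. -/
theorem adjoin_apply_mem {k : Type*} [Field k] {V : Type*} [AddCommGroup V] [Module k V]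
    (s : Set (Module.End k V)) (W : Submodule k V) (h : ∀ f ∈ s, ∀ v ∈ W, f v ∈ W)
    {r : Module.End k V} (hr : r ∈ Algebra.adjoin k s) : ∀ v ∈ W, r v ∈ W := by
  induction hr using Algebra.adjoin_induction with
  | mem y hy => exact h y hy
  | algebraMap c => exact fun v hv => by simpa [Module.algebraMap_end_apply] using W.smul_mem c hv
  | add a b _ _ ha hb => exact fun v hv => by simpa using W.add_mem (ha v hv) (hb v hv)
  | mul a b _ _ ha hb => exact fun v hv => by simpa using ha _ (hb v hv)

set_option maxHeartbeats 800000 in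
/-- The bound, given its group form for smaller groups. -/
theorem bound_step {k : Type w} [Field k] {V : Type v} [AddCommGroup V] [Module k V] [FiniteDimensional k V]
    {G : Type u} [Group G] [Finite G] [Group.IsSolvable G] (ρ : Representation k G V) (hirr : Irred ρ)
    (hinj : Function.Injective ρ) (x : G) {p : ℕ} (hp : p.Prime) (hp3 : 3 < p) (hxp : x ^ p = 1) (hx1 : x ≠ 1)
    (hgen : Subgroup.normalClosure {x} = ⊤) (IH : GroupBound.{u} p (Nat.card G)) :
    2 * finrank k (fixs ρ x) < finrank k V := by
  classical
  haveI := hirr.1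
  have hD : 0 < finrank k V := Module.finrank_pos
  by_cases hxc : x ∈ Subgroup.center G
  · rcases hirr.2 (fixs ρ x) (fun g v hv => by
      rw [mem_fixs] at hv ⊢
      rw [← Module.End.mul_apply, ← map_mul, ← Subgroup.mem_center_iff.mp hxc g, map_mul, Module.End.mul_apply, hv])
      with h | h
    · rw [h, finrank_bot]; omega
    · exfalso
      apply hx1
      apply hinj
      rw [map_one]
      refine LinearMap.ext fun v => mem_fixs.mp (h ▸ Submodule.mem_top)
  by_cases hall : ∀ A : Subgroup G, A.Normal → (∀ a ∈ A, ∀ b ∈ A, Commute a b) → A ≤ Subgroup.center G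
  swap
  · -- a noncentral abelian normal subgroup
    push Not at hall
    obtain ⟨A, hAn, hA, hAc⟩ := hall
    haveI := hAn
    rcases bound_or_invertible ρ hirr x hp hp3 hxp hgen A hA with h | hF
    · exact h
    set R := Algebra.adjoin k (ρ '' (A : Set G))
    haveI : IsMulCommutative R := Algebra.isMulCommutative_adjoin k (by
      rintro _ ⟨a, ha, rfl⟩ _ ⟨b, hb, rfl⟩
      rw [← map_mul, ← map_mul, (hA a ha b hb).eq])
    have hρρ : ∀ g : G, ρ g * ρ g⁻¹ = 1 := fun g => by rw [← map_mul, mul_inv_cancel, map_one]
    have hρρ' : ∀ g : G, ρ g⁻¹ * ρ g = 1 := fun g => by rw [← map_mul, inv_mul_cancel, map_one]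
    have hconj : ∀ (g : G) (r : Module.End k V), r ∈ R → ρ g * r * ρ g⁻¹ ∈ R := by
      intro g r hr
      induction hr using Algebra.adjoin_induction with
      | mem y hy =>
        obtain ⟨a, ha, rfl⟩ := hy
        rw [← map_mul, ← map_mul]
        exact Algebra.subset_adjoin ⟨_, hAn.conj_mem a ha g, rfl⟩
      | algebraMap c =>
        rw [← Algebra.commutes c (ρ g), mul_assoc, hρρ, mul_one]
        exact R.algebraMap_mem c
      | add a b _ _ ha hb => rw [mul_add, add_mul]; exact R.add_mem ha hb
      | mul a b _ _ ha hb =>
        have : ρ g * (a * b) * ρ g⁻¹ = (ρ g * a * ρ g⁻¹) * (ρ g * b * ρ g⁻¹) := by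
          simp only [mul_assoc]; rw [← mul_assoc (ρ g⁻¹) (ρ g), hρρ', one_mul]
        rw [this]; exact R.mul_mem ha hb
    by_cases hne : ∃ r₀ ∈ R, ρ x * r₀ ≠ r₀ * ρ x
    · obtain ⟨r₀, hr₀, hne⟩ := hne
      have h := mul_fix_le_of_semilinear ρ x hp hxp R hF hconj r₀ hr₀ hne
      rcases Nat.eq_zero_or_pos (finrank k (fixs ρ x)) with h0 | h0
      · rw [h0]; omega
      · nlinarith
    · exfalso
      push Not at hne
      let S : Subgroup G := Subgroup.centralizer (A : Set G)
      have hxS : x ∈ S := Subgroup.mem_centralizer_iff.mpr fun a ha => hinj (by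
        rw [map_mul, map_mul]; exact (hne _ (Algebra.subset_adjoin ⟨a, ha, rfl⟩)).symm)
      have hS : S = ⊤ := top_le_iff.mp (hgen ▸ Subgroup.normalClosure_le_normal (Set.singleton_subset_iff.mpr hxS))
      exact hAc fun a ha => Subgroup.mem_center_iff.mpr fun g =>
        ((Subgroup.mem_centralizer_iff.mp (show g ∈ S by rw [hS]; trivial)) a ha).symm
  -- scalars: the field generated by the centre
  rcases bound_or_invertible ρ hirr x hp hp3 hxp hgen (Subgroup.center G)
    (fun a _ b hb => Subgroup.mem_center_iff.mp hb a) with h | hF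
  · exact h
  set R := Algebra.adjoin k (ρ '' (Subgroup.center G : Set G)) with hR
  letI : Field R := hF.toField
  have hcomm : ∀ (g : G) (r : R), ρ g * r.1 = r.1 * ρ g := by
    intro g r
    have : r.1 ∈ Subalgebra.centralizer k {ρ g} := by
      refine Algebra.adjoin_le ?_ r.2
      rintro _ ⟨z, hz, rfl⟩
      rw [SetLike.mem_coe, Subalgebra.mem_centralizer_iff]
      rintro _ rfl
      rw [← map_mul, ← map_mul, Subgroup.mem_center_iff.mp hz g]
    exact (Subalgebra.mem_centralizer_iff k).mp this _ rfl
  haveI : Module.Finite R V := Module.Finite.of_restrictScalars_finite k R V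
  let ρK : Representation R G V :=
    { toFun := fun g =>
        { toFun := ρ g
          map_add' := map_add (ρ g)
          map_smul' := fun r v => by
            show ρ g (r.1 v) = r.1 (ρ g v)
            exact LinearMap.congr_fun (hcomm g r) v }
      map_one' := LinearMap.ext fun v => by show ρ 1 v = v; rw [map_one]; rfl
      map_mul' := fun g h => LinearMap.ext fun v => by show ρ (g * h) v = ρ g (ρ h v); rw [map_mul]; rfl }
  have hρK : ∀ g v, ρK g v = ρ g v := fun g v => rfl
  have hirrK : Irred ρK := by
    refine ⟨hirr.1, fun W hW => ?_⟩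
    rcases hirr.2 (W.restrictScalars k) (fun g v hv => hW g v hv) with h | h
    · exact Or.inl ((Submodule.restrictScalars_eq_bot_iff k R V).mp h)
    · exact Or.inr ((Submodule.restrictScalars_eq_top_iff k R V).mp h)
  have hinjK : Function.Injective ρK := fun a b h => hinj (LinearMap.ext fun v => by
    have := LinearMap.congr_fun h v
    exact this)
  have hcore := bound_of_scalar ρK hirrK hinjK x hp hp3 hxp hgen hxc hall (fun z hz =>
    ⟨⟨ρ z, Algebra.subset_adjoin ⟨z, hz, rfl⟩⟩, LinearMap.ext fun v => rfl⟩) IH
  have hfix : finrank k (fixs ρ x) = finrank k R * finrank R (fixs ρK x) := by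
    rw [Module.finrank_mul_finrank k R (fixs ρK x)]
    have : fixs ρ x = (fixs ρK x).restrictScalars k := by
      ext v
      rw [Submodule.restrictScalars_mem, mem_fixs, mem_fixs, hρK]
    rw [this]
    rfl
  rw [hfix, ← Module.finrank_mul_finrank k R V]
  have hRpos : 0 < finrank k R := Module.finrank_pos
  nlinarith

set_option maxHeartbeats 800000 in
/-- The group form, one step. -/
theorem groupBound_step {H : Type u} [Group H] [Finite H] [Group.IsSolvable H] {p : ℕ} (hp : p.Prime) (hp3 : 3 < p)
    (y : H) (hyp : y ^ p = 1) (hy1 : y ≠ 1) (hgen : Subgroup.normalClosure {y} = ⊤)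
    (U : Type u) [CommGroup U] [Finite U] (q : ℕ) (hq : q.Prime) (hexp : ∀ v : U, v ^ q = 1)
    (φ : H →* MulAut U) (hφ : Function.Injective φ)
    (hirrU : ∀ W : Subgroup U, (∀ h, ∀ w ∈ W, φ h w ∈ W) → W = ⊥ ∨ W = ⊤)
    (IH : GroupBound.{u} p (Nat.card H)) : Nat.card {v : U // φ y v = v} ^ 2 < Nat.card U := by
  haveI := Fact.mk hq
  haveI : Module (ZMod q) (Additive U) := AddCommGroup.zmodModule (n := q) (G := Additive U) (fun v => hexp (Additive.toMul v))
  haveI : Module.Finite (ZMod q) (Additive U) := Module.Finite.of_finite
  let ρ0 : H →* Module.End (ZMod q) (Additive U) :=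
    { toFun := fun h =>
        { toFun := fun v => Additive.ofMul (φ h (Additive.toMul v))
          map_add' := fun a b => map_mul (φ h) _ _
          map_smul' := fun r v => ZMod.map_smul ((φ h).toMonoidHom.toAdditive) r v }
      map_one' := LinearMap.ext fun v => by
        show Additive.ofMul (φ 1 (Additive.toMul v)) = v
        rw [map_one]; rfl
      map_mul' := fun a b => LinearMap.ext fun v => by
        show Additive.ofMul (φ (a * b) (Additive.toMul v)) = Additive.ofMul (φ a (φ b (Additive.toMul v)))
        rw [map_mul]; rfl }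
  let ρ : Representation (ZMod q) H (Additive U) := ρ0
  have hρ : ∀ h v, ρ h v = Additive.ofMul (φ h (Additive.toMul v)) := fun h v => rfl
  have hinj : Function.Injective ρ := fun a b hab => hφ (MulEquiv.ext fun v => by
    have := LinearMap.congr_fun hab (Additive.ofMul v)
    rw [hρ, hρ] at this
    exact Additive.ofMul.injective this)
  haveI : Nontrivial (Additive U) := by
    by_contra hn
    rw [not_nontrivial_iff_subsingleton] at hn
    refine hy1 (hinj ?_)
    exact LinearMap.ext fun v => Subsingleton.elim _ _
  have hirr : Irred ρ := by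
    refine ⟨inferInstance, fun W hW => ?_⟩
    let W' : Subgroup U := AddSubgroup.toSubgroup' W.toAddSubgroup
    rcases hirrU W' (fun h w hw => hW h (Additive.ofMul w) hw) with h | h
    · left
      rw [Submodule.eq_bot_iff]
      intro w hw
      have : Additive.toMul w ∈ W' := hw
      rw [h, Subgroup.mem_bot] at this
      exact Additive.toMul.injective this
    · right
      rw [eq_top_iff]
      intro w _
      have : Additive.toMul w ∈ W' := by rw [h]; trivial
      exact this
  have hb := bound_step ρ hirr hinj y hp hp3 hyp hy1 hgen IH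
  have hU : Nat.card U = q ^ finrank (ZMod q) (Additive U) := by
    rw [← Nat.card_congr (Additive.ofMul (α := U)).symm, Module.natCard_eq_pow_finrank (K := ZMod q), Nat.card_zmod]
  have hP : Nat.card {v : U // φ y v = v} = q ^ finrank (ZMod q) (fixs ρ y) := by
    have hcardq := Module.natCard_eq_pow_finrank (K := ZMod q) (V := fixs ρ y)
    rw [Nat.card_zmod] at hcardq
    rw [← hcardq]
    refine Nat.card_congr ((Additive.ofMul (α := U)).subtypeEquiv fun v => ?_)
    rw [mem_fixs, hρ]
    exact Additive.ofMul.injective.eq_iff.symm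
  rw [hU, hP, ← pow_mul]
  exact Nat.pow_lt_pow_right hq.one_lt (by omega)

/-- The group form, for groups of every order. -/
theorem groupBound {p : ℕ} (hp : p.Prime) (hp3 : 3 < p) : ∀ n, GroupBound.{u} p n := by
  intro n
  induction n using Nat.strong_induction_on with
  | _ n ih =>
    intro H _ _ _ y hyp hy1 hgen hlt U _ _ q hq hexp φ hφ hirrU
    exact groupBound_step hp hp3 y hyp hy1 hgen U q hq hexp φ hφ hirrU (ih (Nat.card H) hlt)

/-- Flavell: the fixed space of an element of prime order at least five which normally generates a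
solvable group has less than half the dimension of a faithful irreducible module. -/
theorem two_mul_fix_lt {k : Type w} [Field k] {V : Type v} [AddCommGroup V] [Module k V] [FiniteDimensional k V]
    {G : Type u} [Group G] [Finite G] [Group.IsSolvable G] (ρ : Representation k G V) (hirr : Irred ρ)
    (hinj : Function.Injective ρ) (x : G) {p : ℕ} (hp : p.Prime) (hp3 : 3 < p) (hxp : x ^ p = 1) (hx1 : x ≠ 1)
    (hgen : Subgroup.normalClosure {x} = ⊤) :
    2 * finrank k (fixs ρ x) < finrank k V :=
  bound_step ρ hirr hinj x hp hp3 hxp hx1 hgen (groupBound hp hp3 _)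

end Cfsg.Agent.Grp.FixHalf
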