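import Mathlib
import Cfsg.Agent.Lib.Grp.FixHalf
import Cfsg.Agent.Lib.Grp.CoprimeAbelian
import Cfsg.Agent.Lib.Grp.Cores
import Cfsg.Agent.Lib.Grp.Frattini

/-!
Maximal solvable subgroups generated by two conjugates of a subgroup of prime order at least five:
their Fitting subgroup centralises the coprime parts of the nilpotent subgroups they normalise.
-/

set_option autoImplicit false
set_option linter.style.haveILetI false

namespace Cfsg.Agent.Grp.FlavellPair

open Subgroup
open scoped Pointwise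

variable {G : Type*} [Group G]

theorem smul_zpowers (g x : G) : MulAut.conj g • zpowers x = zpowers (g * x * g⁻¹) := by
  rw [Subgroup.pointwise_smul_def]
  exact MonoidHom.map_zpowers (MulDistribMulAction.toMonoidEnd _ _ (MulAut.conj g)) x

theorem mem_sup_mul {H N : Subgroup G} (h : H ≤ normalizer (N : Set G)) {g : G} (hg : g ∈ H ⊔ N) :
    ∃ a ∈ H, ∃ b ∈ N, a * b = g := by
  have : g ∈ (↑(H ⊔ N) : Set G) := hg
  rw [Subgroup.coe_mul_of_left_le_normalizer_right H N h] at this
  exact Set.mem_mul.mp this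

theorem mem_sup_mul' {H N : Subgroup G} (h : H ≤ normalizer (N : Set G)) {g : G} (hg : g ∈ H ⊔ N) :
    ∃ b ∈ N, ∃ a ∈ H, b * a = g := by
  obtain ⟨a, ha, b, hb, hab⟩ := mem_sup_mul h (inv_mem hg)
  exact ⟨b⁻¹, N.inv_mem hb, a⁻¹, H.inv_mem ha, by rw [← mul_inv_rev, hab, inv_inv]⟩

/-- Two fixed point sets do not cover an irreducible module: some translate of the second generator
together with the first one covers the module. -/
theorem exists_cover [Finite G] {p : ℕ} (hp : p.Prime) (hp3 : 3 < p) (P A K U : Subgroup G) (hP : Nat.card P = p)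
    (hPA : P ≤ A) (a : G) (ha : a ∈ A) (hA : A = P ⊔ MulAut.conj a • P) (hsol : Group.IsSolvable A)
    {q r : ℕ} [Fact q.Prime] (hr : r.Prime) (hqr : q ≠ r) (hKA : K ≤ A) (hKn : A ≤ normalizer (K : Set G)) (hK : IsPGroup q K)
    [hUc : IsMulCommutative U] (hAU : A ≤ normalizer (U : Set G)) (hU : ∀ u ∈ U, u ^ r = 1) (hUne : U ≠ ⊥)
    (hUA : U ⊓ A = ⊥) (hUK : U ⊓ centralizer (K : Set G) = ⊥)
    (hUirr : ∀ W : Subgroup G, W ≤ U → A ≤ normalizer (W : Set G) → W = ⊥ ∨ W = U) :
    ∃ u ∈ U, U ≤ P ⊔ MulAut.conj (u * a) • P := by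
  classical
  haveI := Fact.mk hp
  haveI := Fact.mk hr
  haveI := hsol
  obtain ⟨⟨x, hx⟩, hxgen⟩ := (isCyclic_of_prime_card hP).exists_generator
  have hPx : P = zpowers x := le_antisymm (fun y hy => by
    obtain ⟨n, hn⟩ := mem_zpowers_iff.mp (hxgen ⟨y, hy⟩)
    exact ⟨n, congrArg Subtype.val hn⟩) (zpowers_le.mpr hx)
  have hxp : x ^ p = 1 := by
    have h := pow_card_eq_one' (x := (⟨x, hx⟩ : P))
    rw [hP] at h
    exact congrArg Subtype.val h
  have hUpg : IsPGroup r U := fun u => ⟨1, by rw [pow_one]; exact Subtype.ext (hU u u.2)⟩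
  -- the action
  let φ : A →* MulAut U := U.normalizerMonoidHom.comp (Subgroup.inclusion hAU)
  have hφ : ∀ (g : A) (v : U), ((φ g v : U) : G) = (g : G) * v * (g : G)⁻¹ := fun g v => rfl
  letI : CommGroup U := { (inferInstance : Group U) with mul_comm := fun u v => mul_comm' u v }
  set y : A := ⟨x, hPA hx⟩
  have hgen : normalClosure {y} = ⊤ := by
    rw [eq_top_iff]
    have hn : (normalClosure {y}).Normal := inferInstance
    have h1 : A ≤ (normalClosure {y}).map A.subtype := by
      conv_lhs => rw [hA]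
      refine sup_le ?_ ?_
      · rw [hPx, zpowers_le]; exact ⟨y, subset_normalClosure rfl, rfl⟩
      · rw [hPx, smul_zpowers, zpowers_le]
        exact ⟨⟨a, ha⟩ * y * ⟨a, ha⟩⁻¹, hn.conj_mem y (subset_normalClosure rfl) _, rfl⟩
    intro g _
    obtain ⟨g', hg', hgg⟩ := h1 g.2
    exact Subtype.ext (show (g' : G) = g from hgg) ▸ hg'
  -- the fixed points of x
  let C : G → Subgroup G := fun g => U ⊓ centralizer {g}
  have hy1 : φ y ≠ 1 := by
    intro h
    apply hUne
    have hker : φ.ker = ⊤ := top_le_iff.mp (hgen ▸ normalClosure_le_normal (Set.singleton_subset_iff.mpr h))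
    rw [← hUK, eq_comm, inf_eq_left]
    intro v hv
    rw [mem_centralizer_iff]
    intro g hg
    have h1 : (⟨g, hKA hg⟩ : A) ∈ φ.ker := by rw [hker]; trivial
    have h2 := hφ ⟨g, hKA hg⟩ ⟨v, hv⟩
    rw [MonoidHom.mem_ker.mp h1] at h2
    exact mul_inv_eq_iff_eq_mul.mp h2.symm
  have hhalf : Nat.card (C x) ^ 2 < Nat.card U := by
    haveI : Group.IsSolvable φ.range := Group.isSolvable_of_surjective φ.rangeRestrict_surjective
    have hb := FixHalf.groupBound hp hp3 (Nat.card φ.range + 1) φ.range (φ.rangeRestrict y) (by rw [← map_pow, show y ^ p = 1 from Subtype.ext hxp, map_one])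
      (fun h => hy1 (congrArg Subtype.val h)) (by
        rw [← Subgroup.map_top_of_surjective _ φ.rangeRestrict_surjective, ← hgen,
          Subgroup.map_normalClosure _ _ φ.rangeRestrict_surjective, Set.image_singleton])
      (Nat.lt_succ_self _) U r hr (fun u => Subtype.ext (hU u u.2)) φ.range.subtype Subtype.coe_injective (by
        intro W hW
        have hinv : A ≤ normalizer ((W.map U.subtype : Subgroup G) : Set G) := by
          intro g hg
          rw [mem_normalizer_iff]
          intro w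
          have key : ∀ g ∈ A, ∀ w, w ∈ W.map U.subtype → g * w * g⁻¹ ∈ W.map U.subtype := by
            rintro g hg _ ⟨v, hv, rfl⟩
            exact ⟨φ ⟨g, hg⟩ v, hW (φ.rangeRestrict ⟨g, hg⟩) v hv, hφ _ _⟩
          refine ⟨key g hg w, fun h => ?_⟩
          have := key g⁻¹ (A.inv_mem hg) _ h
          simpa [mul_assoc] using this
        rcases hUirr _ (map_subtype_le W) hinv with h | h
        · exact Or.inl ((map_eq_bot_iff_of_injective W U.subtype_injective).mp h)
        · right
          rw [eq_top_iff]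
          intro v _
          obtain ⟨v', hv', hvv⟩ := (h.ge v.2 : (v : G) ∈ W.map U.subtype)
          exact Subtype.ext (show (v' : G) = v from hvv) ▸ hv')
    refine lt_of_eq_of_lt ?_ hb
    congr 1
    refine Nat.card_congr
      { toFun := fun v => ⟨⟨v.1, v.2.1⟩, Subtype.ext ?_⟩
        invFun := fun v => ⟨(v.1 : G), v.1.2, ?_⟩
        left_inv := fun v => rfl
        right_inv := fun v => rfl }
    · have h := mem_centralizer_singleton_iff.mp v.2.2
      show x * (v.1 : G) * x⁻¹ = v.1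
      rw [← h, mul_inv_cancel_right]
    · show (v.1 : G) ∈ centralizer {x}
      rw [mem_centralizer_singleton_iff]
      have h : x * (v.1 : G) * x⁻¹ = v.1 := congrArg Subtype.val v.2
      exact (mul_inv_eq_iff_eq_mul.mp h).symm
  -- the fixed points of the second generator
  set x' := a * x * a⁻¹ with hx'
  have hx'A : x' ∈ A := A.mul_mem (A.mul_mem ha (hPA hx)) (A.inv_mem ha)
  have hC' : Nat.card (C x') ≤ Nat.card (C x) := by
    refine Nat.card_le_card_of_injective (fun v => (⟨a⁻¹ * v.1 * a, ?_, ?_⟩ : C x)) ?_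
    · have := (mem_normalizer_iff.mp (hAU (A.inv_mem ha)) v.1).mp v.2.1
      simpa using this
    · show a⁻¹ * v.1 * a ∈ centralizer {x}
      have h := mem_centralizer_singleton_iff.mp v.2.2
      rw [mem_centralizer_singleton_iff]
      calc a⁻¹ * v.1 * a * x = a⁻¹ * (v.1 * x') * a := by simp only [x']; group
        _ = a⁻¹ * (x' * v.1) * a := by rw [h]
        _ = _ := by simp only [x']; group
    · intro v w h
      have := congrArg Subtype.val h
      simp only [mul_left_inj, mul_right_inj] at this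
      exact Subtype.ext this
  obtain ⟨u, hu, hunot⟩ : ∃ u ∈ U, ∀ v ∈ C x, ∀ w ∈ C x', v * w ≠ u := by
    by_contra! hall
    have hle : Nat.card U ≤ Nat.card (C x × C x') := by
      refine Nat.card_le_card_of_surjective
        (fun vw : C x × C x' => (⟨vw.1.1 * vw.2.1, U.mul_mem vw.1.2.1 vw.2.2.1⟩ : U)) ?_
      rintro ⟨u, hu⟩
      obtain ⟨v, hv, w, hw, h⟩ := hall u hu
      exact ⟨(⟨v, hv⟩, ⟨w, hw⟩), Subtype.ext h⟩
    rw [Nat.card_prod] at hle
    have : Nat.card (C x) * Nat.card (C x') ≤ Nat.card (C x) ^ 2 := by rw [sq]; gcongr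
    omega
  refine ⟨u, hu, ?_⟩
  set B := P ⊔ MulAut.conj (u * a) • P with hB
  have hconjP : ∀ g : G, MulAut.conj g • P = zpowers (g * x * g⁻¹) := fun g => by
    rw [hPx, smul_zpowers]
  have hxB : x ∈ B := le_sup_left (a := P) hx
  have hx'B : u * x' * u⁻¹ ∈ B := by
    refine le_sup_right (a := P) ?_
    rw [hconjP, hx']
    convert mem_zpowers _ using 1
    group
  have hUn : (U.subgroupOf (normalizer (U : Set G))).Normal := Subgroup.normal_subgroupOf_iff_le_normalizer le_normalizer |>.mpr le_rfl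
  have hBL : B ≤ U ⊔ A := by
    refine sup_le (hPA.trans le_sup_right) ?_
    rw [hconjP, zpowers_le]
    exact mul_mem (mul_mem (mul_mem (mem_sup_left hu) (mem_sup_right ha)) (mem_sup_right (hPA hx)))
      (inv_mem (mul_mem (mem_sup_left hu) (mem_sup_right ha)))
  have hLU : U ⊔ A ≤ normalizer (U : Set G) := sup_le le_normalizer hAU
  have hBUtop : U ⊔ A ≤ B ⊔ U := by
    refine sup_le le_sup_right ?_
    rw [hA]
    refine sup_le (le_sup_of_le_left le_sup_left) ?_
    rw [hconjP, zpowers_le]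
    have : a * x * a⁻¹ = u⁻¹ * (u * x' * u⁻¹) * u := by rw [hx']; group
    rw [this]
    exact mul_mem (mul_mem (inv_mem (mem_sup_right hu)) (mem_sup_left hx'B)) (mem_sup_right hu)
  have hinv : A ≤ normalizer ((B ⊓ U : Subgroup G) : Set G) := by
    refine le_trans (le_sup_right.trans hBUtop) (sup_le ?_ ?_)
    · intro b hb
      rw [mem_normalizer_iff]
      intro v
      have hbU := mem_normalizer_iff.mp (hLU (hBL hb)) v
      constructor
      · rintro ⟨h1, h2⟩
        exact ⟨B.mul_mem (B.mul_mem hb h1) (B.inv_mem hb), hbU.mp h2⟩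
      · rintro ⟨h1, h2⟩
        refine ⟨?_, hbU.mpr h2⟩
        have := B.mul_mem (B.mul_mem (B.inv_mem hb) h1) hb
        simpa [mul_assoc] using this
    · intro v hv
      rw [mem_normalizer_iff]
      intro w
      by_cases hw : w ∈ U
      · have : v * w * v⁻¹ = w := by
          have := congrArg Subtype.val (mul_comm' (⟨v, hv⟩ : U) ⟨w, hw⟩)
          simp only [Subgroup.coe_mul] at this
          rw [this, mul_inv_cancel_right]
        rw [this]
      · refine ⟨fun h => absurd h.2 hw, fun h => absurd ?_ hw⟩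
        have := U.mul_mem (U.mul_mem (U.inv_mem hv) h.2) hv
        simpa [mul_assoc] using this
  rcases hUirr _ inf_le_right hinv with hBU | hBU
  swap
  · exact hBU ▸ inf_le_left
  exfalso
  -- the complement B meets U ⊔ K in a conjugate of K
  have hKU : K ≤ normalizer (U : Set G) := hKA.trans hAU
  set X := K ⊔ U with hX
  have hKUb : K ⊓ U = ⊥ := by
    rw [eq_bot_iff, ← hUA]
    exact le_inf inf_le_right (inf_le_left.trans hKA)
  have hcardX : Nat.card X = Nat.card K * Nat.card U := by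
    have := card_sup_mul_card_inf hKU
    rwa [hKUb, card_bot, mul_one] at this
  have hXA : U ⊔ A ≤ normalizer (X : Set G) := by
    refine sup_le (le_sup_right.trans le_normalizer) fun g hg => ?_
    rw [mem_normalizer_iff_smul, hX, smul_sup, mem_normalizer_iff_smul.mp (hKn hg), mem_normalizer_iff_smul.mp (hAU hg)]
  set Y := B ⊓ X with hY
  have hYU : Y ⊓ U = ⊥ := by
    rw [eq_bot_iff, ← hBU]
    exact le_inf (inf_le_left.trans inf_le_left) inf_le_right
  have hXle : X ≤ Y ⊔ U := by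
    intro g hg
    have hgL : g ∈ B ⊔ U := hBUtop (sup_le (hKA.trans le_sup_right) le_sup_left hg)
    obtain ⟨b, hb, v, hv, rfl⟩ := mem_sup_mul (hBL.trans hLU) hgL
    refine mul_mem (mem_sup_left ⟨hb, ?_⟩) (mem_sup_right hv)
    have := mul_mem hg (inv_mem (mem_sup_right (S := K) hv))
    simpa using this
  have hcardY : Nat.card Y = Nat.card K := by
    have h1 := card_sup_mul_card_inf (H := Y) (N := U) ((inf_le_left.trans hBL).trans hLU)
    have h2 : Y ⊔ U = X := le_antisymm (sup_le inf_le_right le_sup_right) hXle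
    rw [hYU, card_bot, mul_one, h2, hcardX] at h1
    exact (Nat.eq_of_mul_eq_mul_right Nat.card_pos h1).symm
  obtain ⟨kq, hkq⟩ := IsPGroup.iff_card.mp hK
  obtain ⟨ur, hur⟩ := IsPGroup.iff_card.mp hUpg
  have hsyl : ∀ T : Subgroup G, T ≤ X → Nat.card T = Nat.card K → IsSylowIn q T X := by
    intro T hT hcT
    refine ⟨hT, IsPGroup.of_card (n := kq) (hcT.trans hkq), ?_⟩
    have h1 := card_mul_relIndex hT
    rw [hcardX, hcT] at h1
    have : T.relIndex X = Nat.card U := Nat.eq_of_mul_eq_mul_left Nat.card_pos h1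
    rw [this, hur]
    exact fun h => hqr ((Nat.prime_dvd_prime_iff_eq Fact.out hr).mp (Fact.out (p := q.Prime) |>.dvd_of_dvd_pow h))
  obtain ⟨g, hg, hgY⟩ := (hsyl K le_sup_left rfl).conj (hsyl Y inf_le_right hcardY)
  obtain ⟨v, hv, k, hk, rfl⟩ := mem_sup_mul' hKU hg
  have hYv : MulAut.conj v • K = Y := by
    rw [← hgY, map_mul, mul_smul]
    congr 1
    exact (mem_normalizer_iff_smul.mp (le_normalizer hk)).symm
  have hvB : ∀ b ∈ B, v⁻¹ * b * v ∈ A := by
    intro b hb
    have hbY : b ∈ normalizer (Y : Set G) := by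
      rw [mem_normalizer_iff_smul, hY, smul_inf, mem_normalizer_iff_smul.mp (le_normalizer hb),
        mem_normalizer_iff_smul.mp (hXA (hBL hb))]
    have hbK : v⁻¹ * b * v ∈ normalizer (K : Set G) := by
      rw [mem_normalizer_iff_smul, map_mul, map_mul, mul_smul, mul_smul, hYv, mem_normalizer_iff_smul.mp hbY,
        ← hYv, smul_smul, ← map_mul, inv_mul_cancel, map_one, one_smul]
    have hmem : v⁻¹ * b * v ∈ U ⊔ A :=
      mul_mem (mul_mem (inv_mem (mem_sup_left hv)) (hBL hb)) (mem_sup_left hv)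
    rw [sup_comm] at hmem
    obtain ⟨c, hc, w, hw, hcw⟩ := mem_sup_mul hAU hmem
    have hwK : w ∈ normalizer (K : Set G) := by
      have := mul_mem (inv_mem (hKn hc)) hbK
      rwa [← hcw, inv_mul_cancel_left] at this
    have hwC : w ∈ U ⊓ centralizer (K : Set G) := by
      refine ⟨hw, mem_centralizer_iff.mpr fun k hk => ?_⟩
      have h1 : w * k * w⁻¹ * k⁻¹ ∈ K ⊓ U := by
        refine ⟨K.mul_mem ((mem_normalizer_iff.mp hwK k).mp hk) (K.inv_mem hk), ?_⟩
        have := U.mul_mem hw ((mem_normalizer_iff.mp (hKU hk) w⁻¹).mp (U.inv_mem hw))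
        simpa [mul_assoc] using this
      rw [hKUb, mem_bot, mul_inv_eq_one, mul_inv_eq_iff_eq_mul] at h1
      exact h1.symm
    rw [hUK, mem_bot] at hwC
    subst hwC
    rw [mul_one] at hcw
    exact hcw ▸ hc
  -- v fixes x, and v⁻¹u fixes the second generator
  have hfix : ∀ w ∈ U, ∀ z ∈ A, w⁻¹ * z * w ∈ A → w ∈ C z := by
    intro w hw z hz h
    refine ⟨hw, show w ∈ centralizer {z} from mem_centralizer_singleton_iff.mpr ?_⟩
    have h1 : (w⁻¹ * z * w) * z⁻¹ ∈ U ⊓ A := by
      refine ⟨?_, A.mul_mem h (A.inv_mem hz)⟩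
      have := U.mul_mem (U.inv_mem hw) ((mem_normalizer_iff.mp (hAU hz) w).mp hw)
      simpa [mul_assoc] using this
    rw [hUA, mem_bot, mul_inv_eq_one] at h1
    calc w * z = w * (w⁻¹ * z * w) := by rw [h1]
      _ = z * w := by group
  have h1 := hfix v hv x (hPA hx) (hvB x hxB)
  have h2 := hfix (u⁻¹ * v) (U.mul_mem (U.inv_mem hu) hv) x' hx'A (by
    have := hvB _ hx'B
    rw [mul_inv_rev, inv_inv]
    convert this using 1
    group)
  refine hunot v h1 (v⁻¹ * u) ?_ (by group)
  have := (C x').inv_mem h2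
  rwa [mul_inv_rev, inv_inv] at this

/-- A characteristic subgroup is normalised by the normaliser. -/
theorem normalizer_le_map_char (W : Subgroup G) (M : Subgroup W) [hM : M.Characteristic] :
    normalizer (W : Set G) ≤ normalizer ((M.map W.subtype : Subgroup G) : Set G) := by
  have key : ∀ g ∈ normalizer (W : Set G), ∀ m, m ∈ M.map W.subtype → g * m * g⁻¹ ∈ M.map W.subtype := by
    rintro g hg _ ⟨m, hm, rfl⟩
    refine ⟨W.normalizerMonoidHom ⟨g, hg⟩ m, ?_, rfl⟩
    have := hM.fixed (W.normalizerMonoidHom ⟨g, hg⟩)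
    exact this.ge hm
  intro g hg
  rw [mem_normalizer_iff]
  refine fun m => ⟨key g hg m, fun h => ?_⟩
  have := key g⁻¹ (inv_mem hg) _ h
  simpa [mul_assoc] using this

set_option maxHeartbeats 800000 in
/-- For a maximal solvable subgroup of the shape `⟨P, Pᵃ⟩`, a normal `q`-subgroup centralises every
normalised `r`-subgroup, `r ≠ q`. -/
theorem le_centralizer_of_maximal [Finite G] {p : ℕ} (hp : p.Prime) (hp3 : 3 < p) (P A : Subgroup G)
    (hP : Nat.card P = p) (a : G) (ha : a ∈ A) (hA : A = P ⊔ MulAut.conj a • P) (hsol : Group.IsSolvable A)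
    (hmax : ∀ B : Subgroup G, A ≤ B → Group.IsSolvable B → (∃ b ∈ B, B = P ⊔ MulAut.conj b • P) → B = A)
    {q r : ℕ} [Fact q.Prime] [hr : Fact r.Prime] (hqr : q ≠ r) (K : Subgroup G) (hKA : K ≤ A)
    (hKn : A ≤ normalizer (K : Set G)) (hK : IsPGroup q K) (W₀ : Subgroup G) (hW₀ : IsPGroup r W₀)
    (hAW₀ : A ≤ normalizer (W₀ : Set G)) : K ≤ centralizer (W₀ : Set G) := by
  classical
  by_contra hnot
  obtain ⟨W, ⟨hWW₀, hAW, hWK⟩, hmin⟩ := Set.Finite.exists_minimal
    (s := {W : Subgroup G | W ≤ W₀ ∧ A ≤ normalizer (W : Set G) ∧ ¬ K ≤ centralizer (W : Set G)})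
    (Set.toFinite _) ⟨W₀, le_rfl, hAW₀, hnot⟩
  have hPA : P ≤ A := hA ▸ le_sup_left
  have hWr : IsPGroup r W := hW₀.to_le hWW₀
  haveI hWnil : Group.IsNilpotent W := hWr.isNilpotent
  haveI hKnil : Group.IsNilpotent K := hK.isNilpotent
  have hcop : ∀ S : Subgroup G, IsPGroup r S → (Nat.card K).Coprime (Nat.card S) := fun S hS =>
    IsPGroup.coprime_card_of_ne q r hqr K S hK hS
  have hproper : ∀ M : Subgroup G, A ≤ normalizer (M : Set G) → M < W → K ≤ centralizer (M : Set G) := by
    intro M hM hlt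
    by_contra h
    exact absurd (hmin ⟨hlt.le.trans hWW₀, hM, h⟩ hlt.le) (not_le_of_gt hlt)
  have hKW : K ≤ normalizer (W : Set G) := hKA.trans hAW
  have hWsol : Group.IsSolvable W := inferInstance
  -- the Frattini subgroup of W
  set F := (frattini W).map W.subtype with hFdef
  have hNF : normalizer (W : Set G) ≤ normalizer (F : Set G) := normalizer_le_map_char W _
  have hFW : F ≤ W := map_subtype_le _
  have hWne : W ≠ ⊥ := by rintro rfl; exact hWK (fun g _ => mem_centralizer_iff.mpr fun h hh => by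
    rw [SetLike.mem_coe, mem_bot] at hh; subst hh; simp)
  haveI : Nontrivial W := (Subgroup.nontrivial_iff_ne_bot W).mpr hWne
  have hFlt : F < W := by
    refine lt_of_le_of_ne hFW fun h => ?_
    have : frattini W = ⊤ := by
      rw [eq_top_iff]
      intro w _
      obtain ⟨w', hw', e⟩ := (h.ge w.2 : (w : G) ∈ F)
      exact Subtype.ext (show (w' : G) = w from e) ▸ hw'
    obtain ⟨M, hM, -⟩ := (eq_top_or_exists_le_coatom (⊥ : Subgroup W)).resolve_left bot_ne_top
    exact hM.1 (top_le_iff.mp (this ▸ frattini_le_coatom hM))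
  have hFK := hproper F (hAW.trans hNF) hFlt
  -- [W,K]F = W
  have hcomW : ⁅W, K⁆ ≤ W := commutator_le_left_of_le_normalizer hKW
  have hgen : ⁅W, K⁆ ⊔ F = W := by
    by_contra hne
    have hn : A ≤ normalizer ((⁅W, K⁆ ⊔ F : Subgroup G) : Set G) := by
      intro g hg
      rw [mem_normalizer_iff_smul, smul_sup, mem_normalizer_iff_smul.mp (hNF (hAW hg))]
      congr 1
      rw [← map_conj_eq_smul, Subgroup.map_commutator, map_conj_eq_smul, map_conj_eq_smul,
        mem_normalizer_iff_smul.mp (hAW hg), mem_normalizer_iff_smul.mp (hKn hg)]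
    have h := hproper _ hn (lt_of_le_of_ne (sup_le hcomW hFW) hne)
    have h1 : ⁅⁅W, K⁆, K⁆ = ⊥ := by
      rw [commutator_comm]
      exact commutator_eq_bot_iff_le_centralizer.mpr (h.trans (centralizer_le (le_sup_left (a := ⁅W, K⁆))))
    rw [commutator_commutator_eq K W hKW (hcop W hWr) (Or.inr hWsol), commutator_comm] at h1
    exact hWK (commutator_eq_bot_iff_le_centralizer.mp h1)
  -- the quotient by F
  set N := normalizer (F : Set G) with hN
  haveI : (F.subgroupOf N).Normal := Subgroup.normal_subgroupOf_iff_le_normalizer le_normalizer |>.mpr le_rfl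
  let π := QuotientGroup.mk' (F.subgroupOf N)
  let bar : Subgroup G → Subgroup (N ⧸ F.subgroupOf N) := fun S => (S.subgroupOf N).map π
  have hWN : W ≤ N := le_normalizer.trans hNF
  have hAN : A ≤ N := hAW.trans hNF
  have hbar_mono : ∀ {S T : Subgroup G}, S ≤ T → bar S ≤ bar T := fun h => map_mono (fun _ hx => h hx)
  have hmk : ∀ {S : Subgroup G} {g : G} (hg : g ∈ S) (hgN : g ∈ N), π ⟨g, hgN⟩ ∈ bar S := fun hg hgN =>
    ⟨⟨_, hgN⟩, hg, rfl⟩
  have hnorm : ∀ S : Subgroup G, A ≤ normalizer (S : Set G) → bar A ≤ normalizer (bar S : Set _) := by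
    intro S hS
    refine le_trans (map_mono ?_) (le_normalizer_map π)
    intro g hg
    rw [mem_normalizer_iff]
    exact fun s => mem_normalizer_iff.mp (hS hg) (s : G)
  have hker : ∀ g : N, π g = 1 ↔ (g : G) ∈ F := fun g => by
    rw [QuotientGroup.mk'_apply, QuotientGroup.eq_one_iff]; rfl
  haveI hUc : IsMulCommutative (bar W) := by
    refine ⟨⟨?_⟩⟩
    rintro ⟨_, u, hu, rfl⟩ ⟨_, v, hv, rfl⟩
    apply Subtype.ext
    show π u * π v = π v * π u
    rw [← map_mul, ← map_mul, ← mul_inv_eq_one, ← map_inv, ← map_mul, hker]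
    refine ⟨⟨u, hu⟩ * ⟨v, hv⟩ * ((⟨v, hv⟩ : W) * ⟨u, hu⟩)⁻¹, ?_, rfl⟩
    refine pGroup_commutator_le_frattini hWr ?_
    have := Subgroup.commutator_mem_commutator (mem_top (⟨u, hu⟩ : W)) (mem_top (⟨v, hv⟩ : W))
    rw [_root_.commutator_def]
    simpa [commutatorElement_def, mul_assoc] using this
  have hUexp : ∀ u ∈ bar W, u ^ r = 1 := by
    rintro _ ⟨w, hw, rfl⟩
    rw [← map_pow, hker]
    exact ⟨(⟨w, hw⟩ : W) ^ r, pGroup_pow_mem_frattini hWr _, rfl⟩
  have hpre : ∀ {S : Subgroup G} (g : N), π g ∈ bar S → ∃ s ∈ S, ∃ f ∈ F, (g : G) = s * f := by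
    rintro S g ⟨s, hs, e⟩
    refine ⟨s, hs, (s : G)⁻¹ * g, ?_, by group⟩
    have h1 : π (s⁻¹ * g) = 1 := by rw [map_mul, map_inv, e, inv_mul_cancel]
    exact (hker _).mp h1
  have hbarK : bar K ≤ bar A := hbar_mono hKA
  have hbarKW : bar K ≤ normalizer (bar W : Set _) := hbarK.trans (hnorm W hAW)
  have hcardbar : ∀ S : Subgroup G, S ≤ N → Nat.card (bar S) ∣ Nat.card S := fun S hS =>
    (Subgroup.card_map_dvd _ _).trans (Nat.card_congr (Subgroup.subgroupOfEquivOfLe hS).toEquiv).dvd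
  have hcopbar : (Nat.card (bar K)).Coprime (Nat.card (bar W)) :=
    ((hcop W hWr).coprime_dvd_left (hcardbar K (hKA.trans hAN))).coprime_dvd_right (hcardbar W hWN)
  have hUK : bar W ⊓ centralizer (bar K : Set _) = ⊥ := by
    have h1 : bar W ≤ ⁅bar W, bar K⁆ := by
      rintro _ ⟨w, hw, rfl⟩
      have hw' : (w : G) ∈ ⁅W, K⁆ ⊔ F := hgen.symm ▸ (hw : (w : G) ∈ W)
      obtain ⟨c, hc, f, hf, hcf⟩ := mem_sup_mul (hcomW.trans (le_normalizer.trans hNF)) hw'
      have hcN : c ∈ N := hWN (hcomW hc)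
      have hπ : π w = π ⟨c, hcN⟩ := by
        rw [← mul_inv_eq_one, ← map_inv, ← map_mul, hker]
        show (w : G) * c⁻¹ ∈ F
        rw [← hcf]
        exact (mem_normalizer_iff.mp ((le_normalizer.trans hNF) (hcomW hc)) f).mp hf
      rw [hπ]
      have h2 : ⁅W.subgroupOf N, K.subgroupOf N⁆.map N.subtype = ⁅W, K⁆ := by
        rw [map_commutator, subgroupOf_map_subtype, subgroupOf_map_subtype, inf_eq_left.mpr hWN,
          inf_eq_left.mpr (hKA.trans hAN)]
      obtain ⟨c', hc', e⟩ := (h2.ge hc : c ∈ ⁅W.subgroupOf N, K.subgroupOf N⁆.map N.subtype)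
      have : c' = ⟨c, hcN⟩ := Subtype.ext e
      subst this
      show π ⟨c, hcN⟩ ∈ ⁅(W.subgroupOf N).map π, (K.subgroupOf N).map π⁆
      rw [← map_commutator]
      exact mem_map_of_mem π hc'
    have h2 := abelian_commutator_inf_fixed (bar K) (bar W) hbarKW hcopbar
    rwa [inf_eq_left.mpr (inf_le_left.trans h1)] at h2
  have hUA : bar W ⊓ bar A = ⊥ := by
    rw [eq_bot_iff]
    rintro z ⟨⟨w, hw, rfl⟩, hz⟩
    obtain ⟨s, hs, f, hf, hsf⟩ := hpre w hz
    have hsW : s ∈ W := by
      have : s = (w : G) * f⁻¹ := by rw [hsf, mul_inv_cancel_right]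
      rw [this]; exact W.mul_mem hw (W.inv_mem (hFW hf))
    -- W ⊓ A centralises K, hence lies in F
    have hWA : W ⊓ A < W := by
      refine lt_of_le_of_ne inf_le_left fun h => hWK ?_
      have hWA' : W ≤ A := h ▸ inf_le_right
      rw [← commutator_eq_bot_iff_le_centralizer, eq_bot_iff, ← inf_eq_bot_of_coprime (hcop W hWr)]
      refine le_inf ?_ ?_
      · exact commutator_le_left_of_le_normalizer (hWA'.trans hKn)
      · rw [commutator_comm]; exact hcomW
    have hn : A ≤ normalizer ((W ⊓ A : Subgroup G) : Set G) := by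
      intro g hg
      rw [mem_normalizer_iff_smul, smul_inf, mem_normalizer_iff_smul.mp (hAW hg),
        mem_normalizer_iff_smul.mp (le_normalizer hg)]
    have hsC := hproper _ hn hWA
    have hmem : π ⟨s, hWN hsW⟩ ∈ bar W ⊓ centralizer (bar K : Set _) := by
      refine ⟨hmk hsW _, mem_centralizer_iff.mpr ?_⟩
      rintro _ ⟨k, hk, rfl⟩
      rw [← map_mul, ← map_mul]
      congr 1
      exact Subtype.ext (mem_centralizer_iff.mp (hsC hk) s ⟨hsW, hs⟩).symm
    rw [hUK, mem_bot] at hmem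
    rw [mem_bot, hker, hsf]
    exact F.mul_mem ((hker _).mp hmem) hf
  have hUirr : ∀ S : Subgroup (N ⧸ F.subgroupOf N), S ≤ bar W → bar A ≤ normalizer (S : Set _) → S = ⊥ ∨ S = bar W := by
    intro S hS hSn
    let Y := W ⊓ (S.comap π).map N.subtype
    have hY : A ≤ normalizer (Y : Set G) := by
      have h1 : A ≤ normalizer (((S.comap π).map N.subtype : Subgroup G) : Set G) := by
        intro g hg
        have key : ∀ g ∈ A, ∀ y, y ∈ (S.comap π).map N.subtype → g * y * g⁻¹ ∈ (S.comap π).map N.subtype := by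
          rintro g hg _ ⟨y, hy, rfl⟩
          refine ⟨⟨g, hAN hg⟩ * y * ⟨g, hAN hg⟩⁻¹, ?_, rfl⟩
          show π (⟨g, hAN hg⟩ * y * ⟨g, hAN hg⟩⁻¹) ∈ S
          rw [map_mul, map_mul, map_inv]
          exact (mem_normalizer_iff.mp (hSn (hmk hg (hAN hg))) _).mp hy
        rw [mem_normalizer_iff]
        refine fun y => ⟨key g hg y, fun h => ?_⟩
        have := key g⁻¹ (A.inv_mem hg) _ h
        simpa [mul_assoc] using this
      intro g hg
      rw [mem_normalizer_iff_smul, smul_inf, mem_normalizer_iff_smul.mp (hAW hg),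
        mem_normalizer_iff_smul.mp (h1 hg)]
    rcases eq_or_lt_of_le (inf_le_left : Y ≤ W) with h | h
    · right
      refine le_antisymm hS ?_
      rintro _ ⟨w, hw, rfl⟩
      obtain ⟨y, hy, e⟩ := (h.ge hw : (w : G) ∈ Y).2
      exact Subtype.ext e ▸ hy
    · left
      have hC := hproper Y hY h
      rw [eq_bot_iff]
      intro z hz
      obtain ⟨w, hw, rfl⟩ := hS hz
      rw [← hUK]
      refine ⟨hmk hw _, mem_centralizer_iff.mpr ?_⟩
      rintro _ ⟨k, hk, rfl⟩
      rw [← map_mul, ← map_mul]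
      congr 1
      exact Subtype.ext (mem_centralizer_iff.mp (hC hk) w ⟨hw, ⟨w, hz, rfl⟩⟩).symm
  have hUne : bar W ≠ ⊥ := by
    intro h
    refine hFlt.not_ge fun w hw => ?_
    have := hmk hw (hWN hw)
    rw [h, mem_bot] at this
    exact (hker _).mp this
  have hPN : P ≤ N := hPA.trans hAN
  have hsmul : ∀ g : N, MulAut.conj (π g) • bar P = ((MulAut.conj (g : G) • P).subgroupOf N).map π := by
    intro g
    rw [← map_conj_eq_smul, ← map_conj_eq_smul]
    show map _ ((P.subgroupOf N).map π) = _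
    rw [map_map]
    ext z
    simp only [mem_map, mem_subgroupOf]
    constructor
    · rintro ⟨x, hx, rfl⟩
      exact ⟨g * x * g⁻¹, ⟨(x : G), hx, rfl⟩, by simp⟩
    · rintro ⟨x, ⟨y, hy, e⟩, rfl⟩
      refine ⟨⟨y, hPN hy⟩, hy, ?_⟩
      have : x = g * ⟨y, hPN hy⟩ * g⁻¹ := Subtype.ext e.symm
      simp [this]
  have hbarA : bar A = bar P ⊔ MulAut.conj (π ⟨a, hAN ha⟩) • bar P := by
    rw [hsmul]
    show (A.subgroupOf N).map π = _
    rw [← Subgroup.map_sup, ← subgroupOf_sup hPN]
    · exact congrArg (fun S : Subgroup G => (S.subgroupOf N).map π) hA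
    · exact le_trans (by rw [hA]; exact le_sup_right) hAN
  have hPbar : Nat.card (bar P) = p := by
    have hle : Nat.card (bar P) ∣ p := hP ▸ hcardbar P hPN
    refine ((Nat.dvd_prime hp).mp hle).resolve_left fun h1 => ?_
    have hb : bar P = ⊥ := Subgroup.card_eq_one.mp h1
    have hA1 : bar A = ⊥ := by rw [hbarA, hb, Subgroup.smul_bot, sup_bot_eq]
    apply hUne
    rw [eq_bot_iff, ← hUK, le_inf_iff]
    refine ⟨le_rfl, fun z _ => mem_centralizer_iff.mpr fun k hk => ?_⟩
    have hk' := hbarK hk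
    rw [hA1, mem_bot] at hk'
    subst hk'
    simp
  have hsolbar : Group.IsSolvable (bar A) :=
    isSolvable_map (isSolvable_of_injective ((Subgroup.subgroupOfEquivOfLe hAN).toMonoidHom)
      (MulEquiv.injective _) hsol) π
  obtain ⟨_, ⟨u, hu, rfl⟩, hcover⟩ := exists_cover hp hp3 (bar P) (bar A) (bar K) (bar W) hPbar (hbar_mono hPA)
    (π ⟨a, hAN ha⟩) (hmk ha _) hbarA hsolbar (q := q) hr.out hqr hbarK (hnorm K hKn)
    (IsPGroup.map ((hK.comap_subtype (K := N))) π) (hnorm W hAW) hUexp hUne hUA hUK hUirr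
  -- lift back
  set B := P ⊔ MulAut.conj ((u : G) * a) • P with hB
  have huaN : (u : G) * a ∈ N := N.mul_mem u.2 (hAN ha)
  have hBN : B ≤ N := sup_le hPN (by
    rintro _ ⟨y, hy, rfl⟩
    exact N.mul_mem (N.mul_mem huaN (hPN hy)) (N.inv_mem huaN))
  rw [← map_mul, hsmul, ← Subgroup.map_sup, show ((u * ⟨a, hAN ha⟩ : N) : G) = (u : G) * a from rfl, ← subgroupOf_sup hPN ((le_sup_right).trans hBN)] at hcover
  have hWB : W ≤ B := by
    have hsup : (B ⊓ W).subgroupOf W ⊔ frattini W = ⊤ := by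
      rw [eq_top_iff]
      intro w _
      obtain ⟨b, hb, f, hf, e⟩ := hpre (S := B) ⟨w, hWN w.2⟩ (hcover (hmk w.2 _))
      obtain ⟨f', hf', rfl⟩ := hf
      have hbW : b ∈ W := by
        have : b = (w : G) * (f' : G)⁻¹ := by
          rw [show (w : G) = b * f' from e, mul_inv_cancel_right]
        rw [this]; exact W.mul_mem w.2 (W.inv_mem f'.2)
      have : w = ⟨b, hbW⟩ * f' := Subtype.ext e
      rw [this]
      exact mul_mem (mem_sup_left ⟨hb, hbW⟩) (mem_sup_right hf')
    have := frattini_nongenerating (show (B ⊓ W).subgroupOf W ⊔ frattini W = ⊤ from hsup)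
    rw [Subgroup.subgroupOf_eq_top] at this
    exact this.trans inf_le_left
  have hPaB : MulAut.conj a • P ≤ B := by
    rintro _ ⟨y, hy, rfl⟩
    have h1 : (u : G) * a * y * ((u : G) * a)⁻¹ ∈ B := mem_sup_right ⟨y, hy, rfl⟩
    have h2 := B.mul_mem (B.mul_mem (B.inv_mem (hWB hu)) h1) (hWB hu)
    simpa [mul_assoc] using h2
  have hAB : A ≤ B := by rw [hA]; exact sup_le le_sup_left hPaB
  have hBAW : B ≤ A ⊔ W := by
    refine sup_le (hPA.trans le_sup_left) ?_
    rintro _ ⟨y, hy, rfl⟩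
    exact mul_mem (mul_mem (mul_mem (mem_sup_right hu) (mem_sup_left ha)) (mem_sup_left (hPA hy)))
      (inv_mem (mul_mem (mem_sup_right hu) (mem_sup_left ha)))
  have hBsol : Group.IsSolvable B := by
    refine isSolvable_of_le hBAW ?_
    have hAWle : A ⊔ W ≤ normalizer (W : Set G) := sup_le hAW le_normalizer
    haveI : (W.subgroupOf (A ⊔ W)).Normal :=
      (Subgroup.normal_subgroupOf_iff_le_normalizer le_sup_right).mpr hAWle
    haveI := hsol
    haveI : Group.IsSolvable (W.subgroupOf (A ⊔ W)) :=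
      isSolvable_of_injective ((Subgroup.subgroupOfEquivOfLe le_sup_right).toMonoidHom) (MulEquiv.injective _) hWsol
    let f : A →* (A ⊔ W : Subgroup G) ⧸ W.subgroupOf (A ⊔ W) :=
      (QuotientGroup.mk' _).comp (Subgroup.inclusion le_sup_left)
    have hf : Function.Surjective f := by
      intro z
      obtain ⟨⟨g, hg⟩, rfl⟩ := QuotientGroup.mk_surjective z
      obtain ⟨s, hs, w, hw, rfl⟩ := mem_sup_mul hAW hg
      refine ⟨⟨s, hs⟩, QuotientGroup.eq.mpr ?_⟩
      show s⁻¹ * (s * w) ∈ W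
      rwa [inv_mul_cancel_left]
    haveI : Group.IsSolvable ((A ⊔ W : Subgroup G) ⧸ W.subgroupOf (A ⊔ W)) := Group.isSolvable_of_surjective hf
    exact Group.isSolvable_of_ker_le_range (W.subgroupOf (A ⊔ W)).subtype (QuotientGroup.mk' _)
      ((QuotientGroup.ker_mk' (W.subgroupOf (A ⊔ W))).le.trans (range_subtype _).ge)
  have hBA : B = A := hmax B hAB hBsol ⟨(u : G) * a, B.mul_mem (hWB hu) (hAB ha), rfl⟩
  -- then W is a normal r-subgroup of A
  refine hWK ?_
  have hWA : W ≤ A := hBA ▸ hWB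
  rw [← commutator_eq_bot_iff_le_centralizer, eq_bot_iff, ← inf_eq_bot_of_coprime (hcop W hWr)]
  exact le_inf (commutator_le_left_of_le_normalizer (hWA.trans hKn)) (by rw [commutator_comm]; exact hcomW)

end Cfsg.Agent.Grp.FlavellPair
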