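import Mathlib
import Cfsg.Agent.Lib.Grp.Cores

/-!
A nilpotent subgroup normalising another one generates a nilpotent group with it when their primary
parts for different primes commute.
-/

set_option autoImplicit false

namespace Cfsg.Agent.Grp

open Subgroup

variable {G : Type*} [Group G]

/-- The `r`-core of a subgroup, inside the ambient group. -/
abbrev coreOf (r : ℕ) (X : Subgroup G) : Subgroup G := (Cfsg.pCore r ↥X).map X.subtype

theorem coreOf_le {r : ℕ} (X : Subgroup G) : coreOf r X ≤ X := map_subtype_le _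

theorem coreOf_isPGroup [Finite G] {r : ℕ} [Fact r.Prime] (X : Subgroup G) : IsPGroup r (coreOf r X) :=
  (pCore_isPGroup (p := r) (G := ↥X)).map _

theorem normalizer_le_coreOf (X : Subgroup G) (r : ℕ) :
    normalizer (X : Set G) ≤ normalizer ((coreOf r X : Subgroup G) : Set G) := by
  have key : ∀ g ∈ normalizer (X : Set G), ∀ m, m ∈ coreOf r X → g * m * g⁻¹ ∈ coreOf r X := by
    rintro g hg _ ⟨m, hm, rfl⟩
    refine ⟨X.normalizerMonoidHom ⟨g, hg⟩ m, ?_, rfl⟩
    have hle : (Cfsg.pCore r ↥X).map (X.normalizerMonoidHom ⟨g, hg⟩).toMonoidHom ≤ Cfsg.pCore r ↥X := by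
      haveI : (Cfsg.pCore r ↥X).Normal := pCore_isNormal
      rw [Cfsg.pCore, sSup_eq_iSup, Subgroup.map_iSup]
      refine iSup_le fun N => ?_
      rw [Subgroup.map_iSup]
      refine iSup_le fun hN => ?_
      refine le_iSup_of_le (N.map (X.normalizerMonoidHom ⟨g, hg⟩).toMonoidHom) (le_iSup_of_le ⟨?_, hN.2.map _⟩ le_rfl)
      exact hN.1.map _ (X.normalizerMonoidHom ⟨g, hg⟩).surjective
    exact hle ⟨m, hm, rfl⟩
  intro g hg
  rw [mem_normalizer_iff]
  refine fun m => ⟨key g hg m, fun h => ?_⟩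
  have := key g⁻¹ (inv_mem hg) _ h
  simpa [mul_assoc] using this

theorem eq_iSup_coreOf [Finite G] (X : Subgroup G) (hX : Group.IsNilpotent X) :
    X = ⨆ r : Nat.Primes, coreOf (r : ℕ) X := by
  have hF : Cfsg.fittingSubgroup ↥X = ⊤ := top_le_iff.mp (le_fittingSubgroup inferInstance
    (nilpotent_of_mulEquiv Subgroup.topEquiv.symm))
  rw [fittingSubgroup_eq_iSup_pCore] at hF
  conv_lhs => rw [← range_subtype X, MonoidHom.range_eq_map, ← hF, Subgroup.map_iSup]

/-- A join of pairwise commuting subgroups of coprime prime power orders is nilpotent. -/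
theorem isNilpotent_iSup_primes [Finite G] (R : Nat.Primes → Subgroup G)
    (hR : ∀ r : Nat.Primes, IsPGroup (r : ℕ) (R r))
    (hc : ∀ r s : Nat.Primes, r ≠ s → R r ≤ centralizer (R s : Set G)) :
    Group.IsNilpotent ↥(⨆ r, R r) := by
  classical
  let ι := {r : Nat.Primes // (r : ℕ) ∣ Nat.card G}
  haveI : Finite ι := Finite.of_injective
    (fun r : ι => (⟨(r.1 : ℕ), Nat.lt_succ_of_le (Nat.le_of_dvd Nat.card_pos r.2)⟩ : Fin (Nat.card G + 1)))
    (fun a b h => Subtype.ext (Subtype.ext (congrArg Fin.val h)))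
  haveI : Fintype ι := Fintype.ofFinite _
  have hcomm : Pairwise fun i j : ι => ∀ x y : G, x ∈ R i.1 → y ∈ R j.1 → Commute x y := fun i j hij x y hx hy =>
    (mem_centralizer_iff.mp (hc i.1 j.1 (fun e => hij (Subtype.ext e)) hx) y hy).symm
  have hsup : (⨆ r, R r) = (noncommPiCoprod hcomm).range := by
    rw [noncommPiCoprod_range]
    refine le_antisymm (iSup_le fun r => ?_) (iSup_le fun i => le_iSup R i.1)
    by_cases hd : ((r : ℕ) ∣ Nat.card G)
    · exact le_iSup (fun i : ι => R i.1) ⟨r, hd⟩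
    · intro x hx
      haveI := Fact.mk r.2
      obtain ⟨n, hn⟩ := IsPGroup.iff_orderOf.mp (hR r) ⟨x, hx⟩
      rw [Subgroup.orderOf_mk] at hn
      cases n with
      | zero => rw [pow_zero, orderOf_eq_one_iff] at hn; rw [hn]; exact one_mem _
      | succ n => exact absurd ((hn ▸ dvd_pow_self (r : ℕ) (Nat.succ_ne_zero n)).trans (orderOf_dvd_natCard x)) hd
  haveI : ∀ i : ι, Group.IsNilpotent ↥(R i.1) := fun i => by
    haveI := Fact.mk i.1.2
    exact (hR i.1).isNilpotent
  rw [hsup]
  exact Group.nilpotent_of_surjective _ (MonoidHom.rangeRestrict_surjective (noncommPiCoprod hcomm))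

/-- The join of two nilpotent subgroups, one normalising the other, with commuting coprime parts. -/
theorem isNilpotent_sup_of_commute [Finite G] (X Y : Subgroup G) (hX : Group.IsNilpotent X)
    (hY : Group.IsNilpotent Y) (hXY : X ≤ normalizer (Y : Set G))
    (h : ∀ r s : Nat.Primes, r ≠ s → coreOf (r : ℕ) X ≤ centralizer (coreOf (s : ℕ) Y : Set G)) :
    Group.IsNilpotent ↥(X ⊔ Y) := by
  have hsame : ∀ (Z : Subgroup G) (r s : Nat.Primes), r ≠ s →
      coreOf (r : ℕ) Z ≤ centralizer (coreOf (s : ℕ) Z : Set G) := by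
    intro Z r s hrs
    haveI := Fact.mk r.2
    haveI := Fact.mk s.2
    haveI := pCore_isNormal (p := (r : ℕ)) (G := ↥Z)
    haveI := pCore_isNormal (p := (s : ℕ)) (G := ↥Z)
    have := commute_of_coprime_normal (IsPGroup.coprime_card_of_ne (r : ℕ) (s : ℕ) (fun e => hrs (Subtype.ext e))
      (Cfsg.pCore (r : ℕ) ↥Z) (Cfsg.pCore (s : ℕ) ↥Z) pCore_isPGroup pCore_isPGroup)
    rintro _ ⟨a, ha, rfl⟩
    rw [mem_centralizer_iff]
    rintro _ ⟨b, hb, rfl⟩
    exact congrArg Subtype.val (mem_centralizer_iff.mp (this ha) b hb)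
  have hflip : ∀ {A B : Subgroup G}, A ≤ centralizer (B : Set G) → B ≤ centralizer (A : Set G) :=
    fun h => le_centralizer_iff.mp h
  have heq : X ⊔ Y = ⨆ r : Nat.Primes, (coreOf (r : ℕ) X ⊔ coreOf (r : ℕ) Y) := by
    rw [iSup_sup_eq, ← eq_iSup_coreOf X hX, ← eq_iSup_coreOf Y hY]
  rw [heq]
  refine isNilpotent_iSup_primes _ (fun r => ?_) (fun r s hrs => ?_)
  · haveI := Fact.mk r.2
    exact IsPGroup.to_sup_of_normal_right' (coreOf_isPGroup X) (coreOf_isPGroup Y)
      (((coreOf_le X).trans hXY).trans (normalizer_le_coreOf Y _))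
  · have h1 := hflip (h s r (Ne.symm hrs))
    have h2 := hsame X r s hrs
    have h3 := h r s hrs
    have h4 := hsame Y r s hrs
    refine sup_le ?_ ?_
    · exact hflip (sup_le (hflip h2) (hflip h3))
    · exact hflip (sup_le (hflip h1) (hflip h4))

end Cfsg.Agent.Grp
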