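import Mathlib
import Cfsg.Agent.Lib.Block.TwoClassLocal
import Cfsg.Agent.Lib.Grp.Baer
import Cfsg.Agent.Lib.Invol.Sylow
import Cfsg.Prelude

/-!
# The `p`-core of a group with a character nonzero on two classes

If the support `N` of the character is all of `O_p(G)`, then `N` is a Sylow `p`-subgroup.
-/

set_option linter.unusedSectionVars false

namespace Cfsg.Agent.Grp.TwoClassCore

open Cfsg.Agent.Block

universe u
variable {G : Type u} [Group G] [Finite G]

theorem pow_eq_one_of_conj {a b : G} (h : IsConj a b) {k : ℕ} (ha : a ^ k = 1) : b ^ k = 1 := by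
  obtain ⟨c, hc⟩ := isConj_iff.mp h
  rw [← hc, conj_pow, ha, mul_one, mul_inv_cancel]

theorem le_pCore {p : ℕ} {K : Subgroup G} (hK : K.Normal) (hp : IsPGroup p K) :
    K ≤ Cfsg.pCore p G := le_sSup ⟨hK, hp⟩

theorem pCore_quotient_eq_bot {p : ℕ} (N : Subgroup G) [N.Normal] (hNp : IsPGroup p N)
    (hcore : N = Cfsg.pCore p G) : Cfsg.pCore p (G ⧸ N) = ⊥ := by
  refine (sSup_eq_bot).mpr fun K ⟨hKn, hKp⟩ => ?_
  have hker : IsPGroup p (QuotientGroup.mk' N).ker := by rwa [QuotientGroup.ker_mk']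
  have hle : K.comap (QuotientGroup.mk' N) ≤ N :=
    (le_pCore inferInstance (hKp.comap_of_ker_isPGroup _ hker)).trans hcore.ge
  rw [eq_bot_iff]
  intro q hq
  obtain ⟨g, rfl⟩ := QuotientGroup.mk'_surjective N q
  exact (QuotientGroup.eq_one_iff g).mpr (hle hq)

/-- If centralisers have the same order as in the quotient, a coset of `N` is inside one class. -/
theorem isConj_mul (N : Subgroup G) [N.Normal] {y : G}
    (hc : Nat.card (Subgroup.centralizer ({y} : Set G)) =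
      Nat.card (Subgroup.centralizer ({(y : G ⧸ N)} : Set (G ⧸ N))))
    {n : G} (hn : n ∈ N) : IsConj y (y * n) := by
  classical
  let S : Set (G ⧸ N) := {q | IsConj (y : G ⧸ N) q}
  let f : {g : G // IsConj y g} → ((QuotientGroup.mk (s := N)) ⁻¹' S : Set G) := fun g =>
    ⟨g.1, (QuotientGroup.mk' N).map_isConj g.2⟩
  have hf : Function.Injective f := fun a b h => Subtype.ext (congrArg Subtype.val h :)
  have hcard : Nat.card {g : G // IsConj y g} =
      Nat.card ((QuotientGroup.mk (s := N)) ⁻¹' S : Set G) := by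
    rw [Nat.card_congr (QuotientGroup.preimageMkEquivSubgroupProdSet N S), Nat.card_prod,
      Cfsg.Agent.Char.card_conjClass]
    have h1 := (Subgroup.centralizer ({y} : Set G)).card_mul_index
    have h2 := (Subgroup.centralizer ({(y : G ⧸ N)} : Set (G ⧸ N))).card_mul_index
    have h3 : Nat.card S =
        (Subgroup.centralizer ({(y : G ⧸ N)} : Set (G ⧸ N))).index :=
      Cfsg.Agent.Char.card_conjClass (y : G ⧸ N)
    rw [← Subgroup.index_eq_card] at h2
    rw [h3]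
    refine Nat.eq_of_mul_eq_mul_left (Nat.card_pos (α := Subgroup.centralizer ({y} : Set G))) ?_
    rw [h1, ← N.card_mul_index, ← h2, hc]
    ring
  obtain ⟨g, hg⟩ := (hf.bijective_of_nat_card_le hcard.ge).2
    ⟨y * n, show IsConj (y : G ⧸ N) ((y * n : G) : G ⧸ N) by
      rw [QuotientGroup.mk_mul, (QuotientGroup.eq_one_iff n).mpr hn, mul_one]⟩
  have h4 : g.1 = y * n := congrArg Subtype.val hg
  exact h4 ▸ g.2

/-- An element of `p`-power order normalising a nontrivial `p`-group fixes a nontrivial element. -/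
theorem exists_commute {p : ℕ} [Fact p.Prime] (N : Subgroup G) [N.Normal] (hNp : IsPGroup p N)
    (hN1 : N ≠ ⊥) {y : G} (hy : ∃ k : ℕ, orderOf y = p ^ k) :
    ∃ n ∈ N, n ≠ 1 ∧ y * n = n * y := by
  classical
  obtain ⟨k, hk⟩ := hy
  have hY : IsPGroup p (Subgroup.zpowers y) := IsPGroup.of_card (by rw [Nat.card_zpowers, hk])
  have hdvd : p ∣ Nat.card N := by
    haveI : Nontrivial N := (Subgroup.nontrivial_iff_ne_bot N).mpr hN1
    obtain ⟨j, hj0, hj⟩ := hNp.nontrivial_iff_card.mp this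
    exact hj ▸ dvd_pow_self p hj0.ne'
  let act : MulAction (Subgroup.zpowers y) N :=
    MulAction.compHom N ((MulAut.conjNormal (H := N)).comp (Subgroup.zpowers y).subtype)
  letI := act
  have hfix1 : (1 : N) ∈ MulAction.fixedPoints (Subgroup.zpowers y) N := fun g =>
    map_one (MulAut.conjNormal (H := N) (g : G))
  obtain ⟨b, hb, hb1⟩ := hY.exists_fixed_point_of_prime_dvd_card_of_fixed_point N hdvd hfix1
  refine ⟨b, b.2, fun e => hb1 (Subtype.ext e.symm), ?_⟩
  have h1 : (MulAut.conjNormal (H := N) y b : G) = b :=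
    congrArg Subtype.val (hb ⟨y, Subgroup.mem_zpowers y⟩)
  rw [MulAut.conjNormal_apply] at h1
  exact mul_inv_eq_iff_eq_mul.mp h1

variable {p : ℕ} [Fact p.Prime] {N : Subgroup G} [N.Normal]

theorem centralizer_le (hcore : N = Cfsg.pCore p G) (hN1 : N ≠ ⊥)
    (hC : ∀ n ∈ N, n ≠ 1 → IsPGroup p (Subgroup.centralizer ({n} : Set G))) :
    Subgroup.centralizer (N : Set G) ≤ N := by
  obtain ⟨⟨n, hn⟩, hn1⟩ := (Subgroup.ne_bot_iff_exists_ne_one (H := N)).mp hN1
  refine le_of_le_of_eq (le_pCore inferInstance ?_) hcore.symm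
  exact (hC n hn fun e => hn1 (Subtype.ext e)).to_le
    (Subgroup.centralizer_le (Set.singleton_subset_iff.mpr hn))

theorem not_dvd_index_odd (hp2 : p ≠ 2) (hcore : N = Cfsg.pCore p G) (hN1 : N ≠ ⊥)
    (hNp : IsPGroup p N) (hab : ∀ a ∈ N, ∀ b ∈ N, a * b = b * a)
    (hC : ∀ n ∈ N, n ≠ 1 → IsPGroup p (Subgroup.centralizer ({n} : Set G)))
    (hk : Nat.card N - 1 ∣ Nat.card G)
    (hcent : ∀ y ∉ N, Nat.card (Subgroup.centralizer ({y} : Set G)) =
      Nat.card (Subgroup.centralizer ({(y : G ⧸ N)} : Set (G ⧸ N)))) :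
    ¬ p ∣ N.index := by
  classical
  have hp := (Fact.out : p.Prime)
  have hodd : ∀ n ∈ N, Odd (orderOf n) := by
    intro n hn
    obtain ⟨k, hk'⟩ := IsPGroup.iff_orderOf.mp hNp ⟨n, hn⟩
    rw [← Subgroup.orderOf_coe] at hk'
    rw [hk']
    exact (hp.odd_of_ne_two hp2).pow
  obtain ⟨j, hj⟩ := IsPGroup.iff_card.mp hNp
  have hj0 : j ≠ 0 := fun e => hN1 (Subgroup.card_eq_one.mp (by rw [hj, e, pow_zero]))
  have hNodd : Odd (Nat.card N) := hj ▸ (hp.odd_of_ne_two hp2).pow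
  have h2G : 2 ∣ Nat.card G := by
    refine dvd_trans ?_ hk
    obtain ⟨a, ha⟩ := hNodd
    exact ⟨a, by omega⟩
  haveI : Fact (Nat.Prime 2) := ⟨Nat.prime_two⟩
  obtain ⟨z, hz⟩ := exists_prime_orderOf_dvd_card' 2 h2G
  have hz2 : z * z = 1 := by rw [← sq, ← hz, pow_orderOf_eq_one]
  have hzinv : z⁻¹ = z := inv_eq_of_mul_eq_one_right hz2
  -- `z` inverts `N`
  have hinv : ∀ n ∈ N, z * n * z⁻¹ = n⁻¹ := by
    intro n hn
    have hw : z * n * z⁻¹ * n ∈ N := mul_mem (Subgroup.Normal.conj_mem inferInstance n hn z) hn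
    by_contra hne
    have hw1 : z * n * z⁻¹ * n ≠ 1 := fun e => hne (mul_eq_one_iff_eq_inv.mp e)
    have hzc : z ∈ Subgroup.centralizer ({z * n * z⁻¹ * n} : Set G) := by
      rw [Subgroup.mem_centralizer_singleton_iff]
      have e1 : z * (z * n * z⁻¹ * n) = n * (z * n * z⁻¹) * z := by
        rw [← mul_assoc, ← mul_assoc, ← mul_assoc, hz2, one_mul, hzinv]
        simp only [mul_assoc, hz2, mul_one]
      rw [e1, hab n hn _ (Subgroup.Normal.conj_mem inferInstance n hn z)]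
    obtain ⟨i, hi⟩ := IsPGroup.iff_orderOf.mp (hC _ hw hw1) ⟨z, hzc⟩
    rw [← Subgroup.orderOf_coe] at hi
    have h2 : Odd (2 : ℕ) := hz ▸ hi ▸ (hp.odd_of_ne_two hp2).pow
    exact absurd h2 (by decide)
  have hCN := centralizer_le hcore hN1 hC
  set C := Subgroup.centralizer ({z} : Set G) with hCdef
  have hCN1 : ∀ c ∈ C, c ∈ N → c = 1 := by
    intro c hc hcN
    have h1 := hinv c hcN
    rw [← (Subgroup.mem_centralizer_singleton_iff.mp hc), mul_inv_cancel_right] at h1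
    have h2 : c ^ 2 = 1 := by rw [sq]; exact mul_eq_one_iff_eq_inv.mpr h1
    rcases (Nat.dvd_prime Nat.prime_two).mp (orderOf_dvd_of_pow_eq_one h2) with h3 | h3
    · exact orderOf_eq_one_iff.mp h3
    · exact absurd (h3 ▸ hodd c hcN) (by decide)
  -- `G = C_G(z) N`
  have hlift : ∀ g : G, ∃ c ∈ C, c⁻¹ * g ∈ N := by
    intro g
    have he : z⁻¹ * (g⁻¹ * z * g) ∈ N := by
      apply hCN
      rw [Subgroup.mem_centralizer_iff]
      intro n hn
      have h1 := hinv n hn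
      have h2 := hinv _ (Subgroup.Normal.conj_mem inferInstance n hn g)
      have h3 : g⁻¹ * z * g * n * (g⁻¹ * z * g)⁻¹ = n⁻¹ := by
        calc g⁻¹ * z * g * n * (g⁻¹ * z * g)⁻¹
            = g⁻¹ * (z * (g * n * g⁻¹) * z⁻¹) * g := by group
          _ = g⁻¹ * (g * n * g⁻¹)⁻¹ * g := by rw [h2]
          _ = n⁻¹ := by group
      symm
      calc z⁻¹ * (g⁻¹ * z * g) * n
          = z⁻¹ * (g⁻¹ * z * g * n * (g⁻¹ * z * g)⁻¹) * (g⁻¹ * z * g) := by group
        _ = z⁻¹ * n⁻¹ * (g⁻¹ * z * g) := by rw [h3]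
        _ = z⁻¹ * (z * n * z⁻¹) * (g⁻¹ * z * g) := by rw [h1]
        _ = n * (z⁻¹ * (g⁻¹ * z * g)) := by group
    -- square roots in `N`
    set e := z⁻¹ * (g⁻¹ * z * g) with hedef
    obtain ⟨a, ha⟩ := hodd e he
    set m := (e ^ (a + 1))⁻¹ with hmdef
    have hm : m ∈ N := inv_mem (pow_mem he _)
    have hm2 : (m * m)⁻¹ = e := by
      rw [mul_inv_rev, hmdef, inv_inv, ← pow_add]
      have h1 : e ^ orderOf e = 1 := pow_orderOf_eq_one e
      rw [show a + 1 + (a + 1) = orderOf e + 1 by omega, pow_succ, h1, one_mul]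
    have h4 : m * z * m⁻¹ = g⁻¹ * z * g := by
      have h5 : g⁻¹ * z * g = z * e := by rw [hedef]; group
      rw [h5, ← hm2]
      have h1 := hinv m hm
      calc m * z * m⁻¹ = (z * m * z⁻¹)⁻¹ * z * m⁻¹ := by rw [h1, inv_inv]
        _ = z * (m * m)⁻¹ := by group
        _ = _ := rfl
    refine ⟨g * m, ?_, ?_⟩
    · rw [hCdef, Subgroup.mem_centralizer_singleton_iff]
      calc g * m * z = g * (m * z * m⁻¹) * m := by group
        _ = g * (g⁻¹ * z * g) * m := by rw [h4]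
        _ = z * (g * m) := by group
    · have : (g * m)⁻¹ * g = m⁻¹ := by group
      rw [this]; exact inv_mem hm
  intro hpi
  -- an element of order `p` in `C`
  let φ : C →* G ⧸ N := (QuotientGroup.mk' N).comp C.subtype
  have hφ : Function.Bijective φ := by
    refine ⟨(injective_iff_map_eq_one φ).mpr fun c hc => ?_, fun q => ?_⟩
    · exact Subtype.ext (hCN1 c c.2 ((QuotientGroup.eq_one_iff _).mp hc))
    · obtain ⟨g, rfl⟩ := QuotientGroup.mk_surjective q
      obtain ⟨c, hc, hcg⟩ := hlift g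
      exact ⟨⟨c, hc⟩, QuotientGroup.eq.mpr hcg⟩
  have hpC : p ∣ Nat.card C := by
    rw [Nat.card_eq_of_bijective φ hφ, ← Subgroup.index_eq_card]; exact hpi
  obtain ⟨y, hy⟩ := exists_prime_orderOf_dvd_card' p hpC
  rw [← Subgroup.orderOf_coe] at hy
  have hyN : (y : G) ∉ N := fun h => by
    rw [hCN1 _ y.2 h, orderOf_one] at hy
    exact hp.one_lt.ne hy
  let ψ : (Subgroup.centralizer ({(y : G)} : Set G) ⊓ C : Subgroup G) →
      Subgroup.centralizer ({((y : G) : G ⧸ N)} : Set (G ⧸ N)) := fun c => ⟨((c : G) : G ⧸ N), by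
    rw [Subgroup.mem_centralizer_singleton_iff, ← QuotientGroup.mk_mul, ← QuotientGroup.mk_mul,
      Subgroup.mem_centralizer_singleton_iff.mp c.2.1]⟩
  have hψ : Function.Surjective ψ := by
    rintro ⟨q, hq⟩
    obtain ⟨c, rfl⟩ := hφ.2 q
    have h1 : φ (c * y) = φ (y * c) := by
      rw [map_mul, map_mul]
      exact Subgroup.mem_centralizer_singleton_iff.mp hq
    have h2 : (c : G) * y = y * c := congrArg Subtype.val (hφ.1 h1)
    exact ⟨⟨c, Subgroup.mem_centralizer_singleton_iff.mpr h2, c.2⟩, rfl⟩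
  have hle : Nat.card (Subgroup.centralizer ({(y : G)} : Set G)) ≤
      Nat.card (Subgroup.centralizer ({(y : G)} : Set G) ⊓ C : Subgroup G) :=
    (hcent _ hyN).le.trans (Nat.card_le_card_of_surjective ψ hψ)
  have heq := Subgroup.eq_of_le_of_card_ge inf_le_left hle
  obtain ⟨n, hn, hn1, hyn⟩ := exists_commute N hNp hN1 (y := (y : G)) ⟨1, by rw [hy, pow_one]⟩
  have hnc : n ∈ Subgroup.centralizer ({(y : G)} : Set G) :=
    Subgroup.mem_centralizer_singleton_iff.mpr hyn.symm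
  rw [← heq] at hnc
  exact hn1 (hCN1 n hnc.2 hn)

theorem not_dvd_index_two {N : Subgroup G} [N.Normal] (hcore : N = Cfsg.pCore 2 G) (hN1 : N ≠ ⊥)
    (hNp : IsPGroup 2 N) (hab : ∀ a ∈ N, ∀ b ∈ N, a * b = b * a) (hexp : ∀ a ∈ N, a ^ 2 = 1)
    (hC : ∀ n ∈ N, n ≠ 1 → IsPGroup 2 (Subgroup.centralizer ({n} : Set G)))
    (hcent : ∀ y ∉ N, Nat.card (Subgroup.centralizer ({y} : Set G)) =
      Nat.card (Subgroup.centralizer ({(y : G ⧸ N)} : Set (G ⧸ N)))) :
    ¬ 2 ∣ N.index := by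
  classical
  haveI : Fact (Nat.Prime 2) := ⟨Nat.prime_two⟩
  intro h2
  rw [Subgroup.index_eq_card] at h2
  obtain ⟨t, ht⟩ := exists_prime_orderOf_dvd_card' 2 h2
  have htcore : t ∉ Cfsg.pCore 2 (G ⧸ N) := by
    rw [pCore_quotient_eq_bot N hNp hcore, Subgroup.mem_bot]
    rintro rfl
    simp at ht
  obtain ⟨g, hg⟩ := not_forall.mp (mt (Cfsg.Agent.Grp.baer_suzuki t) htcore)
  set s := g * t * g⁻¹ with hs_def
  have hs : orderOf s = 2 := by
    rw [hs_def, ← ht]; exact (MulAut.conj g).orderOf_eq t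
  -- an element of odd order inverted by `t`
  obtain ⟨a, b, hb, hab'⟩ := Nat.exists_eq_two_pow_mul_odd (orderOf_pos (t * s)).ne'
  have hb1 : b ≠ 1 := fun e => hg (Invol.isPGroup_closure_pair ht hs (by rw [hab', e, mul_one]))
  set w' := (t * s) ^ 2 ^ a with hw'
  have hw'o : orderOf w' = b := by
    rw [hw', orderOf_pow' _ (by positivity), hab',
      Nat.gcd_eq_right (dvd_mul_right _ _), Nat.mul_div_cancel_left _ (by positivity)]
  have ht2 : t * t = 1 := by rw [← sq, ← ht, pow_orderOf_eq_one]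
  have hs2 : s * s = 1 := by rw [← sq, ← hs, pow_orderOf_eq_one]
  have htw' : t * w' * t⁻¹ = w'⁻¹ := by
    rw [hw', ← conj_pow, ← inv_pow, mul_inv_rev, inv_eq_of_mul_eq_one_right ht2,
      inv_eq_of_mul_eq_one_right hs2, ← mul_assoc, ht2, one_mul]
  -- lift to an element of odd order
  obtain ⟨w₀, hw₀⟩ := QuotientGroup.mk_surjective w'
  obtain ⟨c, d, hd, hcd⟩ := Nat.exists_eq_two_pow_mul_odd (orderOf_pos w₀).ne'
  set w := w₀ ^ 2 ^ c with hw
  have hwo : orderOf w = d := by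
    rw [hw, orderOf_pow' _ (by positivity), hcd,
      Nat.gcd_eq_right (dvd_mul_right _ _), Nat.mul_div_cancel_left _ (by positivity)]
  have hwq : (w : G ⧸ N) = w' ^ 2 ^ c := by rw [hw, QuotientGroup.mk_pow, hw₀]
  have hwq1 : (w : G ⧸ N) ≠ 1 := fun e => by
    rw [hwq] at e
    have h1 := orderOf_dvd_of_pow_eq_one e
    rw [hw'o] at h1
    exact hb1 (Nat.eq_one_of_dvd_coprimes
      (Nat.Coprime.pow_right c (Nat.coprime_two_right.mpr hb)) dvd_rfl h1)
  have hfix : ∀ n ∈ N, n * w = w * n → n = 1 := by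
    intro n hn hnw
    by_contra hn1
    obtain ⟨i, hi⟩ := IsPGroup.iff_orderOf.mp (hC n hn hn1)
      ⟨w, Subgroup.mem_centralizer_singleton_iff.mpr hnw.symm⟩
    rw [← Subgroup.orderOf_coe] at hi
    rcases Nat.eq_zero_or_pos i with h0 | h0
    · rw [h0, pow_zero] at hi
      have h1 : w = 1 := orderOf_eq_one_iff.mp hi
      exact hwq1 (by rw [h1, QuotientGroup.mk_one])
    · have h1 : Odd (2 ^ i) := hi ▸ hwo ▸ hd
      rw [Nat.odd_pow_iff h0.ne'] at h1
      exact absurd h1 (by decide)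
  -- correct a lift of `t`
  obtain ⟨y, hy⟩ := QuotientGroup.mk_surjective t
  have he : y * w * y⁻¹ * w ∈ N := by
    rw [← QuotientGroup.eq_one_iff, QuotientGroup.mk_mul, QuotientGroup.mk_mul,
      QuotientGroup.mk_mul, QuotientGroup.mk_inv, hy, hwq, ← conj_pow, htw', inv_pow,
      inv_mul_cancel]
  let f : N → N := fun m => ⟨(m : G)⁻¹ * (w⁻¹ * m * w), mul_mem (inv_mem m.2)
    (by simpa using Subgroup.Normal.conj_mem inferInstance (m : G) m.2 w⁻¹)⟩
  have hf : Function.Surjective f := by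
    refine Finite.surjective_of_injective fun m m' h => ?_
    have h1 : (m : G)⁻¹ * (w⁻¹ * m * w) = (m' : G)⁻¹ * (w⁻¹ * m' * w) := congrArg Subtype.val h
    have h2 : w⁻¹ * ((m : G) * (m' : G)⁻¹) * w = (m : G) * (m' : G)⁻¹ := by
      calc w⁻¹ * ((m : G) * (m' : G)⁻¹) * w
          = (w⁻¹ * m * w) * (w⁻¹ * m' * w)⁻¹ := by group
        _ = (m : G) * ((m : G)⁻¹ * (w⁻¹ * m * w)) * ((m' : G)⁻¹ * (w⁻¹ * m' * w))⁻¹ *
            (m' : G)⁻¹ := by group
        _ = (m : G) * (m' : G)⁻¹ := by rw [h1]; group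
    have h3 := hfix _ (mul_mem m.2 (inv_mem m'.2)) (by
      calc (m : G) * (m' : G)⁻¹ * w = w * (w⁻¹ * ((m : G) * (m' : G)⁻¹) * w) := by group
        _ = _ := by rw [h2])
    exact Subtype.ext (mul_inv_eq_one.mp h3)
  obtain ⟨m, hm⟩ := hf ⟨_, he⟩
  have hm' : (m : G)⁻¹ * (w⁻¹ * m * w) = y * w * y⁻¹ * w := congrArg Subtype.val hm
  set y' := (m : G) * y with hy'
  have hinvw : y' * w * y'⁻¹ = w⁻¹ := by
    calc y' * w * y'⁻¹ = (m : G) * (y * w * y⁻¹ * w) * w⁻¹ * (m : G)⁻¹ := by rw [hy']; group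
      _ = (m : G) * ((m : G)⁻¹ * (w⁻¹ * m * w)) * w⁻¹ * (m : G)⁻¹ := by rw [hm']
      _ = w⁻¹ := by group
  have hy'q : (y' : G ⧸ N) = t := by
    rw [hy', QuotientGroup.mk_mul, (QuotientGroup.eq_one_iff _).mpr m.2, one_mul, hy]
  have hy'N : y' ∉ N := fun h => by
    rw [← QuotientGroup.eq_one_iff, hy'q] at h
    rw [h, orderOf_one] at ht
    exact absurd ht (by decide)
  have hsq : y' * y' ∈ N := by
    rw [← QuotientGroup.eq_one_iff, QuotientGroup.mk_mul, hy'q, ht2]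
  have hy'2 : y' * y' = 1 := by
    refine hfix _ hsq ?_
    have h1 : y' * w⁻¹ * y'⁻¹ = w := by
      calc y' * w⁻¹ * y'⁻¹ = (y' * w * y'⁻¹)⁻¹ := by group
        _ = w := by rw [hinvw, inv_inv]
    calc y' * y' * w = y' * (y' * w * y'⁻¹) * y' := by group
      _ = y' * w⁻¹ * y'⁻¹ * (y' * y') := by rw [hinvw]; group
      _ = _ := by rw [h1]
  apply hy'N
  refine centralizer_le hcore hN1 hC (Subgroup.mem_centralizer_iff.mpr fun n hn => ?_)
  have h1 := pow_eq_one_of_conj (isConj_mul N (hcent y' hy'N) hn)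
    (k := 2) (by rw [sq, hy'2])
  have h2 : n * n = 1 := by rw [← sq]; exact hexp n hn
  rw [sq] at h1
  calc n * y' = y' * (y' * n) * y' * (n * n) := by rw [← mul_assoc y' y', hy'2, h2]; group
    _ = y' * ((y' * n) * (y' * n)) * n := by group
    _ = y' * n := by rw [h1, mul_one]

end Cfsg.Agent.Grp.TwoClassCore
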