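import Mathlib
import Cfsg.Prelude.Def_Transfer
import Cfsg.Agent.Lib.Grp.HallHigman
import Cfsg.Agent.Lib.Grp.Coprime

/-!
The Hall–Higman counting theorem for a group acting on an elementary abelian group by conjugation.
-/

set_option autoImplicit false

namespace Cfsg.Agent.Grp

open Module
open scoped commutatorElement TensorProduct

variable {G : Type*} [Group G] [Finite G]

/-- A group with commutators in a centralized subgroup `Z` acting on an elementary abelian group, an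
element of `Z` acting non-trivially, and an element acting freely on the quotient. -/
theorem hallHigman_central {p q h : ℕ} [hp : Fact p.Prime] [hq : Fact q.Prime] (hpq : p ≠ q)
    (hh : 2 ≤ h) (hph : ¬ p ∣ h) (V Q Z : Subgroup G) (x : G) (hV : Cfsg.IsElementaryAbelian p V)
    (hQV : Q ≤ Subgroup.normalizer (V : Set G)) (hxV : x ∈ Subgroup.normalizer (V : Set G))
    (hxQ : x ∈ Subgroup.normalizer (Q : Set G)) (hxh : x ^ h = 1) (hxZ : ∀ z ∈ Z, x * z = z * x)
    (hZQ : Z ≤ Q) (hZc : ∀ z ∈ Z, ∀ g ∈ Q, g * z = z * g)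
    (hcomm : ∀ g ∈ Q, ∀ t ∈ Q, ⁅t, g⁆ ∈ Z)
    {z : G} (hz : z ∈ Z) (hzq' : z ^ q = 1) (hzV : ∃ v ∈ V, z * v ≠ v * z)
    (hnd : ∀ ω : G → AlgebraicClosure (ZMod p), (∀ a ∈ Z, ∀ b ∈ Z, ω (a * b) = ω a * ω b) → ω z ≠ 1 →
      ∀ g ∈ Q, g ∉ Z → ∃ t ∈ Q, ω ⁅t, g⁆ ≠ 1)
    (hfree : ∀ i, 0 < i → i < h → ∀ g ∈ Q, g⁻¹ * (x ^ i * g * (x ^ i)⁻¹) ∈ Z → g ∈ Z) :
    ∃ d : ℕ, d * d = Z.relIndex Q ∧ (h ∣ d + 1 ∨ h ∣ d - 1) ∧
      (V ⊓ Subgroup.centralizer ({x} : Set G) = ⊥ → Z < Q → d + 1 = h) := by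
  classical
  haveI := hV.1
  set Γ := Q ⊔ Subgroup.zpowers x with hΓ
  have hQΓ : Q ≤ Γ := le_sup_left
  have hxΓ : x ∈ Γ := Subgroup.mem_sup_right (Subgroup.mem_zpowers x)
  have hΓN : Γ ≤ Subgroup.normalizer (V : Set G) := sup_le hQV (Subgroup.zpowers_le.mpr hxV)
  letI : CommGroup V := { (inferInstance : Group V) with mul_comm := fun u v => IsMulCommutative.is_comm.comm u v }
  haveI : Module (ZMod p) (Additive V) := AddCommGroup.zmodModule (fun w => by
    refine Additive.toMul.injective (Subtype.ext ?_)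
    rw [toMul_nsmul, toMul_zero, SubmonoidClass.coe_pow, hV.2 _ (Additive.toMul w).2, Subgroup.coe_one])
  let τ : Γ →* MulAut V := V.normalizerMonoidHom.comp (Subgroup.inclusion hΓN)
  let ρ : Γ →* Module.End (ZMod p) (Additive V) :=
    { toFun := fun g => (τ g).toMonoidHom.toAdditive.toZModLinearMap p
      map_one' := LinearMap.ext fun w => by
        show Additive.ofMul (τ 1 (Additive.toMul w)) = w
        rw [map_one]; rfl
      map_mul' := fun g g' => LinearMap.ext fun w => by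
        show Additive.ofMul (τ (g * g') (Additive.toMul w)) = Additive.ofMul (τ g (τ g' (Additive.toMul w)))
        rw [map_mul]; rfl }
  have hρ : ∀ (g : Γ) (w : Additive V), ((Additive.toMul (ρ g w) : V) : G) = g * (Additive.toMul w : V) * (g : G)⁻¹ :=
    fun g w => rfl
  haveI : Module.Finite (ZMod p) (Additive V) := Module.Finite.of_finite
  let K := AlgebraicClosure (ZMod p)
  haveI : CharP K p := charP_of_injective_algebraMap (algebraMap (ZMod p) K).injective p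
  let V₁ := K ⊗[ZMod p] Additive V
  let ρK : Γ →* Module.End K V₁ :=
    (Module.End.baseChangeHom (ZMod p) K (Additive V)).toMonoidHom.comp ρ
  have hρK : ∀ g, ρK g = (ρ g).baseChange K := fun g => rfl
  have hinj : ∀ v : Additive V, (1 : K) ⊗ₜ[ZMod p] v = 0 → v = 0 := by
    intro v hv
    let b := Module.finBasis (ZMod p) (Additive V)
    refine b.repr.injective (Finsupp.ext fun i => (algebraMap (ZMod p) K).injective ?_)
    have h1 := congrArg (fun t => (b.baseChange K).repr t i) hv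
    simp only [Module.Basis.baseChange_repr_tmul, map_zero, Finsupp.coe_zero, Pi.zero_apply] at h1
    rw [map_zero, Finsupp.coe_zero, Pi.zero_apply, map_zero, Algebra.algebraMap_eq_smul_one]
    exact h1
  -- an eigenspace of `z` with non-trivial eigenvalue
  obtain ⟨v₀, hv₀, hzv⟩ := hzV
  let zΓ : Γ := ⟨z, hQΓ (hZQ hz)⟩
  have hzq : zΓ ^ q = 1 := Subtype.ext hzq' 
  set T := ρK zΓ with hT
  have hTq : T ^ q = 1 := by rw [hT, ← map_pow, hzq, map_one]
  have hqK : (q : K) ≠ 0 := fun e =>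
    hpq ((Nat.prime_dvd_prime_iff_eq hp.out hq.out).mp ((CharP.cast_eq_zero_iff K p q).mp e))
  have hT1 : T ≠ 1 := by
    intro e
    refine hzv ?_
    have h1 : (1 : K) ⊗ₜ[ZMod p] (ρ zΓ (Additive.ofMul ⟨v₀, hv₀⟩) - Additive.ofMul (⟨v₀, hv₀⟩ : V)) = 0 := by
      rw [TensorProduct.tmul_sub, ← LinearMap.baseChange_tmul, ← hρK, ← hT, e, Module.End.one_apply, sub_self]
    have h2 := hρ zΓ (Additive.ofMul ⟨v₀, hv₀⟩)
    rw [sub_eq_zero.mp (hinj _ h1)] at h2
    exact mul_inv_eq_iff_eq_mul.mp h2.symm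
  obtain ⟨l, hl1, hlbot⟩ : ∃ l : K, l ≠ 1 ∧ Module.End.eigenspace T l ≠ ⊥ := by
    by_contra hne
    push Not at hne
    haveI : NeZero (q : K) := ⟨hqK⟩
    haveI : NeZero q := ⟨hq.out.ne_zero⟩
    obtain ⟨ζ, hζ⟩ := HasEnoughRootsOfUnity.exists_primitiveRoot K q
    refine hT1 (LinearMap.ext fun v => ?_)
    set χ := AddChar.zmodChar q hζ.pow_eq_one with hχ
    have hprim : χ.IsPrimitive := AddChar.zmodChar_primitive_of_primitive_root q hζ
    haveI : Fact (1 < q) := ⟨hq.out.one_lt⟩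
    let w : ZMod q → V₁ := fun i => ∑ t : ZMod q, χ (i * (-t)) • (T ^ t.val) v
    have hw : ∀ i, T (w i) = χ i • w i := by
      intro i
      simp only [w, map_sum, Finset.smul_sum]
      refine Fintype.sum_equiv (Equiv.addLeft 1) _ _ fun t => ?_
      rw [map_smul, smul_smul, ← AddChar.map_add_eq_mul]
      show _ = χ (i + i * -(1 + t)) • (T ^ (1 + t).val) v
      rw [show i + i * -(1 + t) = i * -t by ring, ← pow_val_mul T hTq, Module.End.mul_apply, ZMod.val_one, pow_one]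
    have hsum : (q : K) • v = ∑ i : ZMod q, w i := by
      simp only [w]
      rw [Finset.sum_comm]
      simp only [← Finset.sum_smul, AddChar.sum_mulShift _ hprim, ZMod.card]
      simp [ZMod.val_zero]
    have hw0 : ∀ i : ZMod q, i ≠ 0 → w i = 0 := by
      intro i hi
      have h1 : w i ∈ Module.End.eigenspace T (χ i) := Module.End.mem_eigenspace_iff.mpr (hw i)
      rw [hne (χ i) ?_, Submodule.mem_bot] at h1
      · exact h1
      · intro e
        refine hi ?_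
        have e' : ζ ^ i.val = ζ ^ (0 : ℕ) := by rw [pow_zero]; exact e
        exact (ZMod.val_eq_zero i).mp (hζ.pow_inj (ZMod.val_lt i) hq.out.pos e')
    rw [Finset.sum_eq_single_of_mem (0 : ZMod q) (Finset.mem_univ _) (fun i _ hi => hw0 i hi)] at hsum
    have h2 : T ((q : K) • v) = (q : K) • v := by rw [hsum, hw, AddChar.map_zero_eq_one, one_smul]
    rw [map_smul] at h2
    exact smul_right_injective _ hqK h2
  set W₁ := Module.End.eigenspace T l with hW₁
  have hzcomm : ∀ w ∈ Z, ∀ g : Γ, (g : G) * w = w * g := by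
    intro w hw g
    have hle : Γ ≤ Subgroup.centralizer ({w} : Set G) := sup_le
      (fun g hg => Subgroup.mem_centralizer_singleton_iff.mpr (hZc w hw g hg))
      (Subgroup.zpowers_le.mpr (Subgroup.mem_centralizer_singleton_iff.mpr (hxZ w hw)))
    exact Subgroup.mem_centralizer_singleton_iff.mp (hle g.2)
  have hWinv₁ : ∀ g, ∀ v ∈ W₁, ρK g v ∈ W₁ := by
    intro g v hv
    rw [hW₁, Module.End.mem_eigenspace_iff] at hv ⊢
    rw [hT, ← Module.End.mul_apply, ← map_mul, show zΓ * g = g * zΓ from Subtype.ext (hzcomm z hz g).symm,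
      map_mul, Module.End.mul_apply, ← hT, hv, map_smul]
  obtain ⟨W, ⟨hW0, hW1, hWinv⟩, hWmin⟩ :=
    (IsWellFounded.wf : WellFounded ((· < ·) : Submodule K V₁ → Submodule K V₁ → Prop)).has_min
      {S : Submodule K V₁ | S ≠ ⊥ ∧ S ≤ W₁ ∧ ∀ g, ∀ v ∈ S, ρK g v ∈ S} ⟨W₁, hlbot, le_rfl, hWinv₁⟩
  haveI : Nontrivial W := Submodule.nontrivial_iff_ne_bot.mpr hW0
  let ρW : Γ →* Module.End K W :=
    { toFun := fun g => (ρK g).restrict (hWinv g)
      map_one' := LinearMap.ext fun v => Subtype.ext (by simp [LinearMap.restrict_apply])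
      map_mul' := fun a b => LinearMap.ext fun v => Subtype.ext (by simp [LinearMap.restrict_apply]) }
  have hirrW : ∀ S : Submodule K W, (∀ g, ∀ v ∈ S, ρW g v ∈ S) → S = ⊥ ∨ S = ⊤ := by
    intro S hS
    by_cases hS0 : S = ⊥
    · exact Or.inl hS0
    right
    by_contra hS1
    refine hWmin (S.map W.subtype) ⟨fun e => hS0 ?_, (Submodule.map_subtype_le W S).trans hW1, ?_⟩ ?_
    · refine Submodule.map_injective_of_injective W.injective_subtype ?_
      rw [e, Submodule.map_bot]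
    · rintro g _ ⟨v, hv, rfl⟩
      exact ⟨ρW g v, hS g v hv, rfl⟩
    · refine lt_of_le_of_ne (Submodule.map_subtype_le W S) fun e => hS1 ?_
      refine Submodule.map_injective_of_injective W.injective_subtype ?_
      rw [e, Submodule.map_top, Submodule.range_subtype]
  have hscal : ∀ w : Γ, (w : G) ∈ Z → ∃ c : K, ρW w = c • 1 := by
    intro w hw
    obtain ⟨c, hc⟩ := Module.End.exists_eigenvalue (K := K) (V := ↥W) (f := ρW w)
    refine ⟨c, LinearMap.ext fun v => ?_⟩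
    have htop : Module.End.eigenspace (R := K) (M := ↥W) (f := ρW w) c = ⊤ := by
      refine (hirrW _ fun g u hu => ?_).resolve_left hc
      rw [Module.End.mem_eigenspace_iff] at hu ⊢
      rw [← Module.End.mul_apply, ← map_mul, show w * g = g * w from Subtype.ext (hzcomm _ hw g).symm,
        map_mul, Module.End.mul_apply, hu, map_smul]
    exact Module.End.mem_eigenspace_iff.mp (htop ▸ Submodule.mem_top : v ∈ Module.End.eigenspace (R := K) (M := ↥W) (f := ρW w) c)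
  let Q' := Q.subgroupOf Γ
  let Z' := Z.subgroupOf Γ
  let ω : G → K := fun g => if hg : g ∈ Z then (hscal ⟨g, hQΓ (hZQ hg)⟩ hg).choose else 0
  have hω : ∀ g ∈ Z', ρW g = ω (g : G) • 1 := by
    intro g hg
    have hg' : (g : G) ∈ Z := hg
    simp only [ω, dif_pos hg']
    exact (hscal ⟨(g : G), hQΓ (hZQ hg')⟩ hg').choose_spec
  obtain ⟨u, hu⟩ := exists_ne (0 : W)
  have huniq : ∀ c c' : K, c • u = c' • u → c = c' := fun c c' e =>
    smul_left_injective K (fun e' => hu (Subtype.ext e') : (u : V₁) ≠ 0) (congrArg Subtype.val e)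
  have hmul : ∀ a ∈ Z, ∀ b ∈ Z, ω (a * b) = ω a * ω b := by
    intro a ha b hb
    refine huniq _ _ ?_
    have h1 := LinearMap.congr_fun (hω ⟨a * b, hQΓ (hZQ (Z.mul_mem ha hb))⟩ (Z.mul_mem ha hb)) u
    rw [show (⟨a * b, hQΓ (hZQ (Z.mul_mem ha hb))⟩ : Γ) = ⟨a, hQΓ (hZQ ha)⟩ * ⟨b, hQΓ (hZQ hb)⟩ from rfl,
      map_mul, hω _ ha, hω _ hb] at h1
    simp only [Module.End.mul_apply, LinearMap.smul_apply, Module.End.one_apply, smul_smul] at h1
    exact h1.symm
  have hωz : ω z ≠ 1 := by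
    intro e
    refine hl1 (huniq l 1 ?_)
    have h1 := LinearMap.congr_fun (hω zΓ hz) u
    rw [e, one_smul] at h1
    have h2 : ρW zΓ u = l • u := Subtype.ext (Module.End.mem_eigenspace_iff.mp (hW1 u.2))
    rw [← h2, h1, one_smul]
    rfl
  have hhK : (h : K) ≠ 0 := fun e => hph ((CharP.cast_eq_zero_iff K p h).mp e)
  obtain ⟨d, h1, h2, h3⟩ := hallHigman_free (K := K) (V := ↥W) (ρ := ρW) Q' Z' ⟨x, hxΓ⟩ hh hhK (Subtype.ext hxh)
    (by
      rw [Subgroup.mem_normalizer_iff]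
      exact fun g => Subgroup.mem_normalizer_iff.mp hxQ g)
    (fun w hw => Subtype.ext (hxZ _ hw))
    (fun g hg t ht => hcomm _ hg _ ht) (fun g => ω (g : G)) hω
    (fun g hg hgZ => by
      obtain ⟨t, ht, hne⟩ := hnd ω hmul hωz _ hg hgZ
      exact ⟨⟨t, hQΓ ht⟩, ht, hne⟩)
    (fun g hg => hZQ hg)
    (fun i hi hih g hg hgz => hfree i hi hih _ hg hgz)
  refine ⟨d, h1.trans (Subgroup.relIndex_subgroupOf hQΓ), h2, fun hfix hlt => h3 (fun v hv => ?_) ?_⟩
  · have hS : ∑ i ∈ Finset.range h, (ρ ⟨x, hxΓ⟩) ^ i = 0 := by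
      refine LinearMap.ext fun w => ?_
      set s := (∑ i ∈ Finset.range h, (ρ ⟨x, hxΓ⟩) ^ i) w with hs
      have hfixs : ρ ⟨x, hxΓ⟩ s = s := by
        have e1 : ρ ⟨x, hxΓ⟩ * (∑ i ∈ Finset.range h, (ρ ⟨x, hxΓ⟩) ^ i) = ∑ i ∈ Finset.range h, (ρ ⟨x, hxΓ⟩) ^ i := by
          have e2 := mul_geom_sum (ρ ⟨x, hxΓ⟩) h
          rw [← map_pow, show (⟨x, hxΓ⟩ : Γ) ^ h = 1 from Subtype.ext hxh, map_one, sub_self, sub_mul, one_mul, sub_eq_zero] at e2
          exact e2
        rw [hs, ← Module.End.mul_apply, e1]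
      have hmem : ((Additive.toMul s : V) : G) ∈ V ⊓ Subgroup.centralizer ({x} : Set G) := by
        refine ⟨(Additive.toMul s).2, Subgroup.mem_centralizer_singleton_iff.mpr ?_⟩
        have h4 := hρ ⟨x, hxΓ⟩ s
        rw [hfixs] at h4
        exact mul_inv_eq_iff_eq_mul.mp h4.symm |>.symm
      rw [hfix, Subgroup.mem_bot] at hmem
      exact Additive.toMul.injective (Subtype.ext hmem)
    have hSK : ∑ i ∈ Finset.range h, (ρK ⟨x, hxΓ⟩) ^ i = 0 := by
      have e3 := congrArg (Module.End.baseChangeHom (ZMod p) K (Additive V)) hS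
      simp only [map_sum, map_pow, map_zero] at e3
      exact e3
    have hv' : ρK ⟨x, hxΓ⟩ (v : V₁) = (v : V₁) := congrArg Subtype.val hv
    have hpw : ∀ i : ℕ, ((ρK ⟨x, hxΓ⟩) ^ i) (v : V₁) = (v : V₁) := by
      intro i
      induction i with
      | zero => rfl
      | succ i ih => rw [pow_succ', Module.End.mul_apply, ih, hv']
    have h5 := LinearMap.congr_fun hSK (v : V₁)
    rw [LinearMap.sum_apply, Finset.sum_congr rfl (fun i _ => hpw i), Finset.sum_const, Finset.card_range,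
      LinearMap.zero_apply, ← Nat.cast_smul_eq_nsmul K] at h5
    exact Subtype.ext ((smul_eq_zero.mp h5).resolve_left hhK)
  · refine lt_of_le_not_ge (fun g hg => hZQ hg) fun hle => hlt.not_ge fun g hg => ?_
    exact hle (show (⟨g, hQΓ hg⟩ : Γ) ∈ Q' from hg)



/-- A group with non-degenerate commutator pairing into a subgroup of prime order acting on an elementary
abelian group, with an element acting freely on the quotient. -/
theorem hallHigman_elementary {p q h : ℕ} [hp : Fact p.Prime] [hq : Fact q.Prime] (hpq : p ≠ q)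
    (hh : 2 ≤ h) (hph : ¬ p ∣ h) (V Q Z : Subgroup G) (x : G) (hV : Cfsg.IsElementaryAbelian p V)
    (hQV : Q ≤ Subgroup.normalizer (V : Set G)) (hxV : x ∈ Subgroup.normalizer (V : Set G))
    (hxQ : x ∈ Subgroup.normalizer (Q : Set G)) (hxh : x ^ h = 1) (hxZ : ∀ z ∈ Z, x * z = z * x)
    (hZQ : Z ≤ Q) (hZc : ∀ z ∈ Z, ∀ g ∈ Q, g * z = z * g) (hZcard : Nat.card Z = q)
    (hcomm : ∀ g ∈ Q, ∀ t ∈ Q, ⁅t, g⁆ ∈ Z)
    (hnondeg : ∀ g ∈ Q, g ∉ Z → ∃ t ∈ Q, ⁅t, g⁆ ≠ 1)
    (hfree : ∀ i, 0 < i → i < h → ∀ g ∈ Q, g⁻¹ * (x ^ i * g * (x ^ i)⁻¹) ∈ Z → g ∈ Z)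
    (hZV : ∃ z ∈ Z, ∃ v ∈ V, z * v ≠ v * z) :
    ∃ d : ℕ, d * d = Z.relIndex Q ∧ (h ∣ d + 1 ∨ h ∣ d - 1) ∧
      (V ⊓ Subgroup.centralizer ({x} : Set G) = ⊥ → Z < Q → d + 1 = h) := by
  obtain ⟨z, hz, hzV⟩ := hZV
  have hpow : ∀ w ∈ Z, w ^ q = 1 := fun w hw => by
    have := congrArg Subtype.val (pow_card_eq_one' (x := (⟨w, hw⟩ : Z)))
    rwa [Subgroup.coe_pow, hZcard] at this
  refine hallHigman_central hpq hh hph V Q Z x hV hQV hxV hxQ hxh hxZ hZQ hZc hcomm hz (hpow z hz) hzV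
    (fun ω hmul hωz g hg hgZ => ?_) hfree
  obtain ⟨t, ht, hne⟩ := hnondeg g hg hgZ
  refine ⟨t, ht, fun e => hωz ?_⟩
  have hc := hcomm g hg t ht
  have hgenc : Subgroup.zpowers ⁅t, g⁆ = Z := by
    refine Subgroup.eq_of_le_of_card_ge (Subgroup.zpowers_le.mpr hc) ?_
    rw [Nat.card_zpowers, hZcard, orderOf_eq_prime (hpow _ hc) hne]
  obtain ⟨i, hi⟩ := mem_powers_iff_mem_zpowers.mpr (hgenc.ge hz)
  have h1 : ∀ n : ℕ, ω (⁅t, g⁆ ^ (n + 1)) = 1 := by
    intro n
    induction n with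
    | zero => rw [zero_add, pow_one]; exact e
    | succ n ih => rw [pow_succ, hmul _ (Z.pow_mem hc _) _ hc, ih, e, one_mul]
  obtain ⟨n, hn⟩ : ∃ n, z = ⁅t, g⁆ ^ (n + 1) := ⟨i + q - 1, by
    rw [show i + q - 1 + 1 = i + q by have := hq.out.pos; omega, pow_add, hpow _ hc, mul_one]
    exact hi.symm⟩
  rw [hn]; exact h1 n

end Cfsg.Agent.Grp
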