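import Mathlib
import Cfsg.Prelude.Def_Transfer
import Cfsg.Agent.Lib.Grp.HallHigmanGroup

/-!
A group of prime order acting on an extraspecial group, both acting faithfully on an elementary abelian
group of different characteristic.
-/

set_option autoImplicit false

namespace Cfsg.Agent.Grp

open Subgroup
open scoped commutatorElement

variable {G : Type*} [Group G] [Finite G]

/-- An element fixing a coset of a centralized subgroup of coprime order fixes its elements. -/
theorem commute_of_fixed_mod {Z : Subgroup G} {y g : G} {h : ℕ} (hyh : y ^ h = 1)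
    (hyZ : ∀ z ∈ Z, y * z = z * y) (hcop : h.Coprime (Nat.card Z))
    (hg : g⁻¹ * (y * g * y⁻¹) ∈ Z) : y * g = g * y := by
  set c := g⁻¹ * (y * g * y⁻¹) with hc
  have hpow : ∀ n : ℕ, y ^ n * g * (y ^ n)⁻¹ = g * c ^ n := by
    intro n
    induction n with
    | zero => simp
    | succ n ih =>
      calc y ^ (n + 1) * g * (y ^ (n + 1))⁻¹ = y * (y ^ n * g * (y ^ n)⁻¹) * y⁻¹ := by rw [pow_succ']; group
        _ = (y * g * y⁻¹) * (y * c ^ n * y⁻¹) := by rw [ih]; group
        _ = g * c * c ^ n := by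
            rw [hyZ _ (Z.pow_mem hg n), mul_inv_cancel_right, show y * g * y⁻¹ = g * c from (mul_inv_cancel_left g (y * g * y⁻¹)).symm]
        _ = g * c ^ (n + 1) := by rw [pow_succ', mul_assoc]
  have h1 := hpow h
  rw [hyh, one_mul, inv_one, mul_one, left_eq_mul] at h1
  have h2 : c = 1 := orderOf_eq_one_iff.mp (Nat.eq_one_of_dvd_coprimes hcop (orderOf_dvd_of_pow_eq_one h1)
    (Subgroup.orderOf_dvd_natCard _ hg))
  exact mul_inv_eq_iff_eq_mul.mp (inv_mul_eq_one.mp h2).symm

theorem centralizer_singleton_zpowers (g : G) :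
    centralizer ({g} : Set G) = centralizer (zpowers g : Set G) := by
  refine le_antisymm (fun z hz => Subgroup.mem_centralizer_iff.mpr fun w hw => ?_)
    (Subgroup.centralizer_le (Set.singleton_subset_iff.mpr (mem_zpowers g)))
  obtain ⟨i, rfl⟩ := Subgroup.mem_zpowers_iff.mp hw
  exact ((show Commute z g from Subgroup.mem_centralizer_singleton_iff.mp hz).zpow_right i).eq.symm

/-- The Hall–Higman theorem for an extraspecial group. -/
theorem extraspecial_fixed {p q r : ℕ} (hp : p.Prime) (hq : q.Prime) (hr : r.Prime) (hpq : p ≠ q) (hpr : p ≠ r)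
    (hqr : q ≠ r) (X Q V : Subgroup G) (hX : Nat.card X = r) (hQ : Cfsg.IsExtraspecial q ↥Q)
    (hXQ : X ≤ normalizer (Q : Set G))
    (hCQ : Q ⊓ centralizer (X : Set G) = (Subgroup.center ↥Q).map Q.subtype)
    (hV : Cfsg.IsElementaryAbelian p V) (hXV : X ≤ normalizer (V : Set G)) (hQV : Q ≤ normalizer (V : Set G))
    (hZV : ∃ z ∈ (Subgroup.center ↥Q).map Q.subtype, ∃ v ∈ V, z * v ≠ v * z)
    (hCV : V ⊓ centralizer (X : Set G) = ⊥) :
    q = 2 ∧ ∃ n : ℕ, r = 2 ^ n + 1 ∧ Nat.card Q = 2 ^ (2 * n + 1) := by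
  haveI := Fact.mk hp
  haveI := Fact.mk hq
  haveI := Fact.mk hr
  obtain ⟨⟨hQp, -, hder⟩, hZq⟩ := hQ
  set Z := (Subgroup.center ↥Q).map Q.subtype with hZ
  have hZQ : Z ≤ Q := Subgroup.map_subtype_le _
  have hZcard : Nat.card Z = q := by rw [hZ, Subgroup.card_map_of_injective Q.subtype_injective, hZq]
  obtain ⟨x, hx⟩ := isCyclic_iff_exists_zpowers_eq_top.mp (isCyclic_of_prime_card hX : IsCyclic X)
  have hgen : Subgroup.zpowers (x : G) = X := by
    have h1 := congrArg (Subgroup.map X.subtype) hx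
    rwa [MonoidHom.map_zpowers, ← MonoidHom.range_eq_map, Subgroup.range_subtype] at h1
  have hCeq : centralizer (X : Set G) = centralizer ({(x : G)} : Set G) := by
    exact (congrArg (fun S : Subgroup G => centralizer (S : Set G)) hgen).symm.trans (centralizer_singleton_zpowers (x : G)).symm
  have hxr : (x : G) ^ r = 1 := by
    have h1 := congrArg Subtype.val (pow_card_eq_one' (x := x))
    rwa [Subgroup.coe_pow, hX] at h1
  have hord : orderOf (x : G) = r := by rw [← Nat.card_zpowers, hgen, hX]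
  have hxZ : ∀ z ∈ Z, (x : G) * z = z * x := fun z hz =>
    (Subgroup.mem_centralizer_iff.mp ((hCQ ▸ hz : z ∈ Q ⊓ centralizer (X : Set G))).2 x x.2)
  have hcop : r.Coprime (Nat.card Z) := by rw [hZcard]; exact (Nat.coprime_primes hr hq).mpr hqr.symm
  have hlt : Z < Q := by
    refine lt_of_le_not_ge hZQ fun hle => ?_
    have htop : Subgroup.center ↥Q = ⊤ := by
      refine top_le_iff.mp fun y _ => ?_
      obtain ⟨w, hw, hwy⟩ := hle y.2
      rwa [← Subtype.ext hwy]
    have h2 : commutator ↥Q = ⊥ := by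
      rw [_root_.commutator_def, eq_bot_iff, Subgroup.commutator_le]
      intro a _ b _
      rw [Subgroup.mem_bot, commutatorElement_eq_one_iff_mul_comm]
      exact Subgroup.mem_center_iff.mp (htop ▸ Subgroup.mem_top b) a
    rw [hder] at h2
    rw [h2, Subgroup.card_bot] at hZq
    exact hq.one_lt.ne hZq
  obtain ⟨d, hd, -, hd3⟩ := hallHigman_elementary hpq hr.two_le
    (fun e => hpr ((Nat.prime_dvd_prime_iff_eq hp hr).mp e)) V Q Z (x : G) hV hQV (hXV x.2) (hXQ x.2) hxr hxZ hZQ
    (fun z hz g hg => by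
      obtain ⟨w, hw, rfl⟩ := hz
      exact congrArg Subtype.val (Subgroup.mem_center_iff.mp hw ⟨g, hg⟩)) hZcard
    (fun g hg t ht => ⟨⁅(⟨t, ht⟩ : ↥Q), ⟨g, hg⟩⁆, hder.le
      (Subgroup.commutator_mem_commutator (mem_top _) (mem_top _)), rfl⟩)
    (fun g hg hgZ => by
      by_contra hne
      push Not at hne
      exact hgZ ⟨⟨g, hg⟩, Subgroup.mem_center_iff.mpr fun t =>
        Subtype.ext (commutatorElement_eq_one_iff_mul_comm.mp (hne t t.2)), rfl⟩)
    (fun i hi hir g hg hgz => by
      have hy : Subgroup.zpowers ((x : G) ^ i) = X := by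
        refine Eq.trans ?_ hgen
        refine Subgroup.eq_of_le_of_card_ge (Subgroup.zpowers_le.mpr (Subgroup.pow_mem _ (mem_zpowers _) i)) ?_
        rw [Nat.card_zpowers, Nat.card_zpowers, orderOf_pow' _ hi.ne', hord,
          Nat.Coprime.gcd_eq_one (hr.coprime_iff_not_dvd.mpr fun e => absurd (Nat.le_of_dvd hi e) (by omega)),
          Nat.div_one]
      have hyi : ∀ (i : ℕ) (z : G), z ∈ Z → (x : G) ^ i * z = z * (x : G) ^ i := fun i z hz =>
        ((show Commute (x : G) z from hxZ z hz).pow_left i).eq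
      have h1 := commute_of_fixed_mod (y := (x : G) ^ i) (h := r) (by rw [← pow_mul, mul_comm, pow_mul, hxr, one_pow])
        (hyi i) hcop hgz
      rw [← hCQ]
      refine ⟨hg, ?_⟩
      rw [← hy]
      show g ∈ centralizer (zpowers ((x : G) ^ i) : Set G)
      rw [← centralizer_singleton_zpowers, Subgroup.mem_centralizer_singleton_iff]
      exact h1.symm) hZV
  have hdr : d + 1 = r := hd3 (by rw [← hCeq]; exact hCV) hlt
  obtain ⟨j, hj⟩ := hQp.exists_card_eq
  have hidx : Z.relIndex Q ∣ q ^ j := by rw [← hj]; exact Subgroup.relIndex_dvd_card Z Q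
  obtain ⟨n, -, hn⟩ := (Nat.dvd_prime_pow hq).mp ((Dvd.intro d hd).trans hidx)
  have hn0 : n ≠ 0 := by
    rintro rfl
    rw [pow_zero] at hn
    subst hn
    exact hlt.not_ge (Subgroup.relIndex_eq_one.mp hd.symm)
  have hq2 : q = 2 := by
    rcases hq.eq_two_or_odd' with e | e
    · exact e
    exfalso
    have hr2 : r = 2 := (Nat.prime_dvd_prime_iff_eq Nat.prime_two hr).mp (by
      rw [← hdr, hn, ← even_iff_two_dvd]; exact (e.pow).add_one) |>.symm
    have hd1 : q ^ n = 1 := by omega
    exact hn0 ((Nat.pow_eq_one.mp hd1).resolve_left hq.one_lt.ne')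
  subst hq2
  refine ⟨rfl, n, by omega, ?_⟩
  rw [← card_mul_relIndex hZQ, ← hd, hZcard, hn, ← pow_add, ← pow_succ']
  congr 1
  omega

end Cfsg.Agent.Grp
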