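import Mathlib
import Cfsg.Prelude.Def_Transfer
import Cfsg.Agent.Lib.Grp.HallHigmanGroup
import Cfsg.Agent.Lib.Grp.ExtraspecialFixed
import Cfsg.Agent.Lib.Grp.CoprimeAbelian
import Cfsg.Agent.Lib.Grp.FrobeniusTower

/-!
An operator of prime order on a `q`-group, both acting faithfully on an elementary abelian group, has
fixed points apart from the Fermat prime case.
-/

set_option autoImplicit false

namespace Cfsg.Agent.Grp

open Subgroup
open scoped commutatorElement

variable {G : Type*} [Group G] [Finite G]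

/-- The abelian case. -/
theorem exists_fixed_of_fpf_abelian {r : ℕ} [hr : Fact r.Prime] (X Q V : Subgroup G) [IsMulCommutative Q]
    [IsMulCommutative V] (hX : Nat.card X = r) (hXQ : X ≤ normalizer (Q : Set G))
    (hXV : X ≤ normalizer (V : Set G)) (hQV : Q ≤ normalizer (V : Set G))
    (hfix : Q ⊓ centralizer (X : Set G) = ⊥) (hQ1 : Q ≠ ⊥) (hcop : (Nat.card Q).Coprime (Nat.card V))
    (hfaith : Q ⊓ centralizer (V : Set G) = ⊥) : V ⊓ centralizer (X : Set G) ≠ ⊥ := by
  obtain ⟨x, hx⟩ := isCyclic_iff_exists_zpowers_eq_top.mp (isCyclic_of_prime_card hX : IsCyclic X)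
  have hgen : Subgroup.zpowers (x : G) = X := by
    have h1 := congrArg (Subgroup.map X.subtype) hx
    rwa [MonoidHom.map_zpowers, ← MonoidHom.range_eq_map, Subgroup.range_subtype] at h1
  have hord : orderOf (x : G) = r := by rw [← Nat.card_zpowers, hgen, hX]
  have hinf := abelian_commutator_inf_fixed Q V hQV hcop
  set V₀ := ⁅V, Q⁆ with hV₀
  have hV₀le : V₀ ≤ V := commutator_le_left_of_le_normalizer hQV
  haveI hV₀c : IsMulCommutative V₀ :=
    ⟨⟨fun a b => Subtype.ext (congrArg (fun u : ↥V => (u : G))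
      ((inferInstance : IsMulCommutative V).is_comm.comm (⟨a, hV₀le a.2⟩ : V) ⟨b, hV₀le b.2⟩))⟩⟩
  have hV₀1 : V₀ ≠ ⊥ := fun e => hQ1 (le_bot_iff.mp (hfaith ▸
    le_inf le_rfl (Subgroup.le_centralizer_iff.mp (Subgroup.commutator_eq_bot_iff_le_centralizer.mp e))))
  obtain ⟨v, hv, hv1, hvx⟩ := Tower.exists_fixed (V := V₀) (Z := Q) (y := (x : G)) hr.out.pos hV₀c hV₀1
    inferInstance
    (fun z hz v hv => mem_conj_normalizer (right_le_normalizer_commutator Q V hz) hv)
    (fun v hv => by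
      have hle : V₀ ≤ V₀.comap (MulAut.conj (x : G)).toMonoidHom := by
        rw [hV₀, Subgroup.commutator_le]
        intro a ha b hb
        rw [Subgroup.mem_comap, map_commutatorElement, MulEquiv.coe_toMonoidHom]
        exact Subgroup.commutator_mem_commutator (mem_conj_normalizer (hXV x.2) ha)
          (mem_conj_normalizer (hXQ x.2) hb)
      exact hle hv)
    (fun z hz => mem_conj_normalizer (hXQ x.2) hz) (by rw [← hord]; exact pow_orderOf_eq_one _)
    (hcop.coprime_dvd_right (Subgroup.card_dvd_of_le hV₀le))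
    (fun v hv h => by
      have h1 : v ∈ (V ⊓ centralizer (Q : Set G)) ⊓ V₀ :=
        ⟨⟨hV₀le hv, Subgroup.mem_centralizer_iff.mpr fun z hz => h z hz⟩, hv⟩
      rwa [hV₀, hinf, Subgroup.mem_bot] at h1)
    (fun j hj hjr z hz h => by
      have h1 : z ∈ Q ⊓ centralizer (X : Set G) := by
        refine ⟨hz, ?_⟩
        have hy : Subgroup.zpowers ((x : G) ^ j) = X := by
          refine Eq.trans ?_ hgen
          refine Subgroup.eq_of_le_of_card_ge (Subgroup.zpowers_le.mpr (Subgroup.pow_mem _ (mem_zpowers _) j)) ?_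
          rw [Nat.card_zpowers, Nat.card_zpowers, orderOf_pow' _ hj.ne', hord,
            Nat.Coprime.gcd_eq_one (hr.out.coprime_iff_not_dvd.mpr fun e => absurd (Nat.le_of_dvd hj e) (by omega)),
            Nat.div_one]
        rw [← hy]
        show z ∈ centralizer (zpowers ((x : G) ^ j) : Set G)
        rw [← centralizer_singleton_zpowers, Subgroup.mem_centralizer_singleton_iff]
        exact h.symm
      rwa [hfix, Subgroup.mem_bot] at h1)
  intro e
  have h1 : v ∈ V ⊓ centralizer (X : Set G) := by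
    refine ⟨hV₀le hv, ?_⟩
    rw [← hgen]
    show v ∈ centralizer (zpowers (x : G) : Set G)
    rw [← centralizer_singleton_zpowers, Subgroup.mem_centralizer_singleton_iff]
    exact hvx.symm
  rw [e, Subgroup.mem_bot] at h1
  exact hv1 h1

/-- Fixed points of an operator of prime order, for a minimal group acted on nontrivially. -/
theorem exists_fixed_of_minimal {p q r : ℕ} [hp : Fact p.Prime] [hq : Fact q.Prime] [hr : Fact r.Prime]
    (hpq : p ≠ q) (hpr : p ≠ r) (hqr : q ≠ r) (X Q V : Subgroup G) (hX : Nat.card X = r) (hQ : IsPGroup q Q)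
    (hXQ : X ≤ normalizer (Q : Set G)) (hne : ⁅Q, X⁆ ≠ ⊥)
    (hmin : ∀ R : Subgroup G, R < Q → X ≤ normalizer (R : Set G) → ⁅R, X⁆ = ⊥)
    (hV : Cfsg.IsElementaryAbelian p V) (hXV : X ≤ normalizer (V : Set G)) (hQV : Q ≤ normalizer (V : Set G))
    (hfaith : Q ⊓ centralizer (V : Set G) = ⊥)
    (hexc : q = 2 → (∃ n : ℕ, r = 2 ^ n + 1) → IsMulCommutative Q) :
    V ⊓ centralizer (X : Set G) ≠ ⊥ := by
  haveI := hV.1
  haveI : Group.IsNilpotent Q := hQ.isNilpotent
  obtain ⟨k, hk⟩ := hQ.exists_card_eq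
  have hcop : (Nat.card X).Coprime (Nat.card Q) := by
    rw [hX, hk]; exact ((Nat.coprime_primes hr.out hq.out).mpr hqr.symm).pow_right k
  have hQX : ⁅Q, X⁆ = Q := by
    refine le_antisymm (commutator_le_left_of_le_normalizer hXQ) ?_
    by_contra hle
    have h1 := hmin ⁅Q, X⁆ (lt_of_le_not_ge (commutator_le_left_of_le_normalizer hXQ) hle)
      (right_le_normalizer_commutator X Q)
    rw [commutator_commutator_eq X Q hXQ hcop (Or.inr inferInstance)] at h1
    exact hne h1
  have hQ1 : Q ≠ ⊥ := fun e => hne (by rw [e, Subgroup.commutator_bot_left])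
  obtain ⟨l, hl⟩ : ∃ l, Nat.card V = p ^ l :=
    IsPGroup.exists_card_eq (fun v : V => ⟨1, Subtype.ext (by simpa using hV.2 v v.2)⟩)
  have hcopV : (Nat.card Q).Coprime (Nat.card V) := by
    rw [hk, hl]; exact (((Nat.coprime_primes hq.out hp.out).mpr hpq.symm).pow_left k).pow_right l
  by_cases hQc : IsMulCommutative Q
  · refine exists_fixed_of_fpf_abelian X Q V hX hXQ hXV hQV ?_ hQ1 hcopV hfaith
    have h1 := abelian_commutator_inf_fixed X Q hXQ hcop
    rw [hQX, inf_comm, ← inf_assoc, inf_idem] at h1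
    exact h1
  -- the non-abelian case
  intro hCV
  set D := ⁅Q, Q⁆ with hD
  have hDQ : D ≤ Q := Subgroup.commutator_le.mpr fun a ha b hb => by
    rw [commutatorElement_def]
    exact Q.mul_mem (Q.mul_mem (Q.mul_mem ha hb) (Q.inv_mem ha)) (Q.inv_mem hb)
  have hDinv : X ≤ normalizer (D : Set G) := by
    refine invariant_iff.mp fun b hb d hd => ?_
    have hle : D ≤ D.comap (MulAut.conj b).toMonoidHom := by
      rw [hD, Subgroup.commutator_le]
      intro a ha c hc
      rw [Subgroup.mem_comap, map_commutatorElement, MulEquiv.coe_toMonoidHom]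
      exact Subgroup.commutator_mem_commutator (mem_conj_normalizer (hXQ hb) ha) (mem_conj_normalizer (hXQ hb) hc)
    exact hle hd
  have hDlt : D < Q := by
    refine lt_of_le_of_ne hDQ fun e => hQ1 ?_
    have h1 : commutator ↥Q = ⊤ := by
      refine Subgroup.map_injective Q.subtype_injective ?_
      rw [_root_.commutator_def, Subgroup.map_commutator, ← MonoidHom.range_eq_map, Subgroup.range_subtype]
      exact e
    by_contra hb
    haveI : Nontrivial ↥Q := (Subgroup.nontrivial_iff_ne_bot Q).mpr hb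
    exact (Group.IsSolvable.commutator_lt_top_of_nontrivial (G := ↥Q)).ne h1
  have hDX : ⁅D, X⁆ = ⊥ := hmin D hDlt hDinv
  have hQD : ⁅Q, D⁆ = ⊥ := by
    have h1 : ⁅⁅Q, X⁆, D⁆ = ⊥ := Subgroup.commutator_commutator_eq_bot_of_rotate
      (by rw [Subgroup.commutator_comm X D, hDX, Subgroup.commutator_bot_left])
      (le_bot_iff.mp (hDX ▸ Subgroup.commutator_mono
        (commutator_le_left_of_le_normalizer (invariant_iff.mp fun b hb d hd => by
          rw [show b * d * b⁻¹ = ⁅b, d⁆ * d by rw [commutatorElement_def]; group]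
          exact D.mul_mem (Subgroup.commutator_mem_commutator hb (hDQ hd)) hd)) le_rfl))
    rwa [hQX] at h1
  set C := Q ⊓ centralizer (X : Set G) with hC
  have hDC : D ≤ C := le_inf hDQ (Subgroup.commutator_eq_bot_iff_le_centralizer.mp hDX)
  have hCc : ∀ z ∈ C, ∀ g ∈ Q, g * z = z * g := by
    have hCX : ⁅X, C⁆ = ⊥ := by
      rw [Subgroup.commutator_comm]
      exact Subgroup.commutator_eq_bot_iff_le_centralizer.mpr inf_le_right
    have h1 : ⁅⁅Q, X⁆, C⁆ = ⊥ := Subgroup.commutator_commutator_eq_bot_of_rotate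
      (by rw [hCX, Subgroup.commutator_bot_left])
      (le_bot_iff.mp (hDX ▸ Subgroup.commutator_mono (Subgroup.commutator_mono inf_le_left le_rfl) le_rfl))
    rw [hQX] at h1
    intro z hz g hg
    have h2 : ⁅g, z⁆ ∈ (⊥ : Subgroup G) := h1 ▸ Subgroup.commutator_mem_commutator hg hz
    exact commutatorElement_eq_one_iff_mul_comm.mp (Subgroup.mem_bot.mp h2)
  have hxC : ∀ y ∈ X, ∀ z ∈ C, y * z = z * y := fun y hy z hz => Subgroup.mem_centralizer_iff.mp hz.2 y hy
  -- an element of order `q` in the derived subgroup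
  have hD1 : D ≠ ⊥ := fun e => hQc ⟨⟨fun a b => Subtype.ext (commutatorElement_eq_one_iff_mul_comm.mp
    (Subgroup.mem_bot.mp (e ▸ Subgroup.commutator_mem_commutator a.2 b.2)))⟩⟩
  obtain ⟨z, hz, hzo⟩ := exists_prime_order_mem hD1
  have hzq : z ^ q = 1 := by
    have h1 : orderOf z ∣ q ^ k := hk ▸ Subgroup.orderOf_dvd_natCard Q (hDQ hz)
    have h2 : orderOf z = q := (Nat.prime_dvd_prime_iff_eq hzo hq.out).mp (hzo.dvd_of_dvd_pow h1)
    rw [← h2]; exact pow_orderOf_eq_one z
  have hz1 : z ≠ 1 := fun e => by rw [e, orderOf_one] at hzo; exact Nat.not_prime_one hzo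
  have hzV : ∃ v ∈ V, z * v ≠ v * z := by
    by_contra h
    push Not at h
    have h1 : z ∈ Q ⊓ centralizer (V : Set G) := ⟨hDQ hz, Subgroup.mem_centralizer_iff.mpr fun v hv => (h v hv).symm⟩
    rw [hfaith, Subgroup.mem_bot] at h1
    exact hz1 h1
  obtain ⟨x, hx⟩ := isCyclic_iff_exists_zpowers_eq_top.mp (isCyclic_of_prime_card hX : IsCyclic X)
  have hgen : Subgroup.zpowers (x : G) = X := by
    have h1 := congrArg (Subgroup.map X.subtype) hx
    rwa [MonoidHom.map_zpowers, ← MonoidHom.range_eq_map, Subgroup.range_subtype] at h1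
  have hord : orderOf (x : G) = r := by rw [← Nat.card_zpowers, hgen, hX]
  have hxr : (x : G) ^ r = 1 := by rw [← hord]; exact pow_orderOf_eq_one _
  have hCeq : centralizer ({(x : G)} : Set G) = centralizer (X : Set G) :=
    (centralizer_singleton_zpowers (x : G)).trans (congrArg (fun S : Subgroup G => centralizer (S : Set G)) hgen)
  have hcomm : ∀ g ∈ Q, ∀ t ∈ Q, ⁅t, g⁆ ∈ C := fun g hg t ht => hDC (Subgroup.commutator_mem_commutator ht hg)
  have hcopC : r.Coprime (Nat.card C) := (hX ▸ hcop).coprime_dvd_right (Subgroup.card_dvd_of_le inf_le_left)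
  obtain ⟨d, hd, -, hd3⟩ := hallHigman_central hpq hr.out.two_le
    (fun e => hpr ((Nat.prime_dvd_prime_iff_eq hp.out hr.out).mp e)) V Q C (x : G) hV hQV (hXV x.2) (hXQ x.2) hxr
    (fun z hz => hxC x x.2 z hz) inf_le_left hCc hcomm (hDC hz) hzq hzV
    (fun ω hmul hωz g hg hgC => by
      by_cases hω1 : ω 1 = 1
      swap
      · exact ⟨g, hg, by rw [commutatorElement_self]; exact hω1⟩
      by_contra hno
      push Not at hno
      have hlin : ∀ t ∈ Q, ∀ a ∈ Q, ∀ b ∈ Q, ω ⁅t, a * b⁆ = ω ⁅t, a⁆ * ω ⁅t, b⁆ := by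
        intro t ht a ha b hb
        rw [← hmul _ (hcomm a ha t ht) _ (hcomm b hb t ht)]
        congr 1
        calc ⁅t, a * b⁆ = ⁅t, a⁆ * (a * ⁅t, b⁆ * a⁻¹) := by simp only [commutatorElement_def]; group
          _ = _ := by rw [hCc _ (hcomm b hb t ht) a ha, mul_inv_cancel_right]
      let R : Subgroup G :=
        { carrier := {a | a ∈ Q ∧ ∀ t ∈ Q, ω ⁅t, a⁆ = 1}
          one_mem' := ⟨Q.one_mem, fun t _ => by rw [commutatorElement_one_right]; exact hω1⟩
          mul_mem' := fun {a b} ha hb => ⟨Q.mul_mem ha.1 hb.1, fun t ht => by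
            rw [hlin t ht a ha.1 b hb.1, ha.2 t ht, hb.2 t ht, one_mul]⟩
          inv_mem' := fun {a} ha => ⟨Q.inv_mem ha.1, fun t ht => by
            have h1 := hlin t ht a ha.1 a⁻¹ (Q.inv_mem ha.1)
            rw [mul_inv_cancel, commutatorElement_one_right, hω1, ha.2 t ht, one_mul] at h1
            exact h1.symm⟩ }
      have hRle : R ≤ Q := fun a ha => ha.1
      have hRinv : X ≤ normalizer (R : Set G) := invariant_iff.mp fun b hb a ha =>
        ⟨mem_conj_normalizer (hXQ hb) ha.1, fun t ht => by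
          have ht' : b⁻¹ * t * b ∈ Q := mem_conj_normalizer' (hXQ hb) ht
          rw [show ⁅t, b * a * b⁻¹⁆ = b * ⁅b⁻¹ * t * b, a⁆ * b⁻¹ by simp only [commutatorElement_def]; group,
            hxC b hb _ (hcomm a ha.1 _ ht'), mul_inv_cancel_right]
          exact ha.2 _ ht'⟩
      by_cases hRQ : R = Q
      · refine hωz ?_
        let K : Subgroup G :=
          { carrier := {a | a ∈ C ∧ ω a = 1}
            one_mem' := ⟨C.one_mem, hω1⟩
            mul_mem' := fun {a b} ha hb => ⟨C.mul_mem ha.1 hb.1, by rw [hmul a ha.1 b hb.1, ha.2, hb.2, one_mul]⟩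
            inv_mem' := fun {a} ha => ⟨C.inv_mem ha.1, by
              have h1 := hmul a ha.1 a⁻¹ (C.inv_mem ha.1)
              rw [mul_inv_cancel, hω1, ha.2, one_mul] at h1
              exact h1.symm⟩ }
        have hDK : D ≤ K := Subgroup.commutator_le.mpr fun a ha b hb =>
          ⟨hcomm b hb a ha, ((hRQ.ge hb : b ∈ R)).2 a ha⟩
        exact (hDK hz).2
      · have h1 := hmin R (lt_of_le_of_ne hRle hRQ) hRinv
        have hgR : g ∈ R := ⟨hg, hno⟩
        exact hgC ⟨hg, (Subgroup.commutator_eq_bot_iff_le_centralizer.mp h1) hgR⟩)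
    (fun i hi hir g hg hgz => by
      have hy : Subgroup.zpowers ((x : G) ^ i) = X := by
        refine Eq.trans ?_ hgen
        refine Subgroup.eq_of_le_of_card_ge (Subgroup.zpowers_le.mpr (Subgroup.pow_mem _ (mem_zpowers _) i)) ?_
        rw [Nat.card_zpowers, Nat.card_zpowers, orderOf_pow' _ hi.ne', hord,
          Nat.Coprime.gcd_eq_one (hr.out.coprime_iff_not_dvd.mpr fun e => absurd (Nat.le_of_dvd hi e) (by omega)),
          Nat.div_one]
      have h1 := commute_of_fixed_mod (y := (x : G) ^ i) (h := r) (by rw [← pow_mul, mul_comm, pow_mul, hxr, one_pow])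
        (fun z hz => ((show Commute (x : G) z from hxC x x.2 z hz).pow_left i).eq) hcopC hgz
      refine ⟨hg, ?_⟩
      rw [← hy]
      show g ∈ centralizer (zpowers ((x : G) ^ i) : Set G)
      rw [← centralizer_singleton_zpowers, Subgroup.mem_centralizer_singleton_iff]
      exact h1.symm)
  have hlt : C < Q := lt_of_le_not_ge inf_le_left fun hle =>
    hne (Subgroup.commutator_eq_bot_iff_le_centralizer.mpr (hle.trans inf_le_right))
  have hdr : d + 1 = r := hd3 (by rw [hCeq]; exact hCV) hlt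
  have hidx : C.relIndex Q ∣ q ^ k := by rw [← hk]; exact Subgroup.relIndex_dvd_card C Q
  obtain ⟨n, -, hn⟩ := (Nat.dvd_prime_pow hq.out).mp ((Dvd.intro d hd).trans hidx)
  rcases hq.out.eq_two_or_odd' with e | e
  · exact hQc (hexc e ⟨n, by rw [← hdr, hn, e]⟩)
  · have hr2 : r = 2 := ((Nat.prime_dvd_prime_iff_eq Nat.prime_two hr.out).mp (by
      rw [← hdr, hn, ← even_iff_two_dvd]; exact (e.pow).add_one)).symm
    have hd1 : d = 1 := by omega
    rw [hd1, one_mul] at hd
    exact hlt.not_ge (Subgroup.relIndex_eq_one.mp hd.symm)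

/-- Fixed points of an operator of prime order acting faithfully on a `q`-group. -/
theorem exists_fixed_of_faithful {p q r : ℕ} [Fact p.Prime] [Fact q.Prime] [Fact r.Prime]
    (hpq : p ≠ q) (hpr : p ≠ r) (hqr : q ≠ r) (X Q V : Subgroup G) (hX : Nat.card X = r) (hQ : IsPGroup q Q)
    (hXQ : X ≤ normalizer (Q : Set G)) (hne : ⁅Q, X⁆ ≠ ⊥)
    (hV : Cfsg.IsElementaryAbelian p V) (hXV : X ≤ normalizer (V : Set G)) (hQV : Q ≤ normalizer (V : Set G))
    (hfaith : Q ⊓ centralizer (V : Set G) = ⊥)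
    (hexc : q = 2 → (∃ n : ℕ, r = 2 ^ n + 1) → IsMulCommutative Q) :
    V ⊓ centralizer (X : Set G) ≠ ⊥ := by
  obtain ⟨R, ⟨hRQ, hRX, hR⟩, hmin⟩ := (wellFounded_lt (α := Subgroup G)).has_min
    {R : Subgroup G | R ≤ Q ∧ X ≤ normalizer (R : Set G) ∧ ⁅R, X⁆ ≠ ⊥} ⟨Q, le_rfl, hXQ, hne⟩
  refine exists_fixed_of_minimal hpq hpr hqr X R V hX (hQ.to_le hRQ) hRX hR (fun S hS hSX => ?_) hV hXV
    (hRQ.trans hQV) (le_bot_iff.mp (hfaith ▸ inf_le_inf_right _ hRQ)) (fun h2 hf => ?_)
  · by_contra h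
    exact hmin S ⟨hS.le.trans hRQ, hSX, h⟩ hS
  · haveI := hexc h2 hf
    exact ⟨⟨fun a b => Subtype.ext (congrArg (fun u : ↥Q => (u : G))
      ((inferInstance : IsMulCommutative Q).is_comm.comm (⟨a, hRQ a.2⟩ : Q) ⟨b, hRQ b.2⟩))⟩⟩

end Cfsg.Agent.Grp
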