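import Mathlib
import Cfsg.Prelude.Def_Transfer
import Cfsg.Agent.Lib.Grp.HallHigmanFaithful

/-!
Fixed points of operators of prime order without assuming faithful action.
-/

set_option autoImplicit false

namespace Cfsg.Agent.Grp

open Subgroup
open scoped commutatorElement

variable {G : Type*} [Group G] [Finite G]

/-- An operator of prime order not centralizing a `q`-group modulo the kernel of an action has fixed points. -/
theorem exists_fixed_of_not_centralizing {p q r : ℕ} [hp : Fact p.Prime] [hq : Fact q.Prime] [hr : Fact r.Prime]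
    (hpq : p ≠ q) (hpr : p ≠ r) (hqr : q ≠ r) (X Q V : Subgroup G) (hX : Nat.card X = r) (hQ : IsPGroup q Q)
    (hXQ : X ≤ normalizer (Q : Set G)) (hV : Cfsg.IsElementaryAbelian p V) (hXV : X ≤ normalizer (V : Set G))
    (hQV : Q ≤ normalizer (V : Set G)) (hne : ¬ ⁅Q, X⁆ ≤ centralizer (V : Set G))
    (hexc : q = 2 → (∃ n : ℕ, r = 2 ^ n + 1) → IsMulCommutative Q) :
    V ⊓ centralizer (X : Set G) ≠ ⊥ := by
  classical
  set N := normalizer (V : Set G) with hN
  set φ := V.normalizerMonoidHom with hφ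
  set M := ↥V ⋊[MonoidHom.id (MulAut ↥V)] MulAut ↥V with hM
  haveI : Finite (MulAut ↥V) := inferInstance
  haveI : Finite M := Finite.of_equiv _ SemidirectProduct.equivProd.symm
  let ι : ↥V →* M := SemidirectProduct.inl
  let j : ↥N →* M := SemidirectProduct.inr.comp φ
  have hjc : ∀ (n : ↥N) (v : ↥V), j n * ι v * (j n)⁻¹ = ι (φ n v) := fun n v => by
    show SemidirectProduct.inr (φ n) * ι v * (SemidirectProduct.inr (φ n))⁻¹ = _
    rw [← map_inv]
    exact (SemidirectProduct.inl_aut (φ := MonoidHom.id (MulAut ↥V)) (φ n) v).symm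
  have hjV : ∀ n : ↥N, j n ∈ normalizer ((ι.range : Subgroup M) : Set M) := by
    intro n
    refine (invariant_iff (A := (⊤ : Subgroup ↥N).map j)).mp ?_ (Subgroup.mem_map_of_mem j (mem_top n))
    rintro _ ⟨m, -, rfl⟩ _ ⟨v, rfl⟩
    exact ⟨φ m v, (hjc m v).symm⟩
  have hιinj : Function.Injective ι := SemidirectProduct.inl_injective
  have hker : ∀ n : ↥N, j n = 1 ↔ (n : G) ∈ centralizer (V : Set G) := by
    intro n
    have hinr : Function.Injective (SemidirectProduct.inr : MulAut ↥V →* M) := SemidirectProduct.inr_injective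
    show SemidirectProduct.inr (φ n) = (1 : M) ↔ _
    rw [map_eq_one_iff _ hinr, Subgroup.mem_centralizer_iff]
    constructor
    · intro h v hv
      have h0 : φ n (⟨v, hv⟩ : ↥V) = ⟨v, hv⟩ := by rw [h]; rfl
      have h1 : (n : G) * v * (n : G)⁻¹ = v := congrArg Subtype.val h0
      exact (mul_inv_eq_iff_eq_mul.mp h1).symm
    · intro h
      ext v
      show (n : G) * v * (n : G)⁻¹ = v
      rw [← h v v.2, mul_inv_cancel_right]
  set X' := (X.subgroupOf N).map j with hX'
  set Q' := (Q.subgroupOf N).map j with hQ'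
  have hX'r : Nat.card X' = r := by
    have hd : Nat.card X' ∣ r := by
      rw [hX', ← hX, ← Nat.card_congr (subgroupOfEquivOfLe hXV).toEquiv]
      exact Subgroup.card_map_dvd (X.subgroupOf N) j
    rcases (Nat.dvd_prime hr.out).mp hd with h | h
    · exfalso
      refine hne (Subgroup.commutator_le.mpr fun a ha b hb => ?_)
      have hb1 : j ⟨b, hXV hb⟩ = 1 := by
        have h1 : j ⟨b, hXV hb⟩ ∈ X' := Subgroup.mem_map_of_mem j (mem_subgroupOf.mpr hb)
        rw [Subgroup.card_eq_one.mp h, Subgroup.mem_bot] at h1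
        exact h1
      have h2 : j ⁅(⟨a, hQV ha⟩ : ↥N), ⟨b, hXV hb⟩⁆ = 1 := by
        rw [map_commutatorElement, hb1, commutatorElement_one_right]
      exact (hker _).mp h2
    · exact h
  have hXQ' : X' ≤ normalizer (Q' : Set M) := by
    refine invariant_iff.mp ?_
    rintro _ ⟨a, ha, rfl⟩ _ ⟨b, hb, rfl⟩
    rw [← map_inv, ← map_mul, ← map_mul]
    exact Subgroup.mem_map_of_mem j (mem_subgroupOf.mpr
      (mem_conj_normalizer (hXQ (mem_subgroupOf.mp ha)) (mem_subgroupOf.mp hb)))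
  have hne' : ⁅Q', X'⁆ ≠ ⊥ := by
    intro h
    refine hne (Subgroup.commutator_le.mpr fun a ha b hb => ?_)
    have h2 : j ⁅(⟨a, hQV ha⟩ : ↥N), ⟨b, hXV hb⟩⁆ = 1 := by
      rw [map_commutatorElement, ← Subgroup.mem_bot, ← h]
      exact Subgroup.commutator_mem_commutator (Subgroup.mem_map_of_mem j (mem_subgroupOf.mpr ha))
        (Subgroup.mem_map_of_mem j (mem_subgroupOf.mpr hb))
    exact (hker _).mp h2
  have hV' : Cfsg.IsElementaryAbelian p (ι.range) := by
    haveI := hV.1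
    refine ⟨⟨⟨?_⟩⟩, ?_⟩
    · rintro ⟨_, u, rfl⟩ ⟨_, w, rfl⟩
      refine Subtype.ext ?_
      show ι u * ι w = ι w * ι u
      rw [← map_mul, ← map_mul, (inferInstance : IsMulCommutative ↥V).is_comm.comm]
    · rintro _ ⟨u, rfl⟩
      rw [← map_pow, show u ^ p = 1 from Subtype.ext (hV.2 u u.2), map_one]
  have hfaith : Q' ⊓ centralizer ((ι.range : Subgroup M) : Set M) = ⊥ := by
    refine (Subgroup.eq_bot_iff_forall _).mpr ?_
    rintro _ ⟨⟨n, -, rfl⟩, hc⟩
    rw [hker, Subgroup.mem_centralizer_iff]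
    intro v hv
    have h2 := Subgroup.mem_centralizer_iff.mp hc (ι ⟨v, hv⟩) ⟨_, rfl⟩
    have h3 : ι (φ n ⟨v, hv⟩) = ι ⟨v, hv⟩ := by rw [← hjc, ← h2, mul_inv_cancel_right]
    have h4 : (n : G) * v * (n : G)⁻¹ = v := congrArg Subtype.val (hιinj h3)
    exact (mul_inv_eq_iff_eq_mul.mp h4).symm
  have hres := exists_fixed_of_faithful hpq hpr hqr X' Q' ι.range hX'r
    ((hQ.comap_subtype (K := N)).map j) hXQ' hne' hV'
    (by rintro _ ⟨n, -, rfl⟩; exact hjV n) (by rintro _ ⟨n, -, rfl⟩; exact hjV n) hfaith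
    (fun h2 hf => by
      have hQc := hexc h2 hf
      refine ⟨⟨?_⟩⟩
      rintro ⟨_, a, ha, rfl⟩ ⟨_, b, hb, rfl⟩
      refine Subtype.ext ?_
      show j a * j b = j b * j a
      rw [← map_mul, ← map_mul]
      congr 1
      exact Subtype.ext (congrArg (fun u : ↥Q => (u : G)) (hQc.is_comm.comm (⟨a, mem_subgroupOf.mp ha⟩ : ↥Q)
        ⟨b, mem_subgroupOf.mp hb⟩)))
  intro e
  refine hres ((Subgroup.eq_bot_iff_forall _).mpr ?_)
  rintro _ ⟨⟨v, rfl⟩, hc⟩
  have h1 : (v : G) ∈ V ⊓ centralizer (X : Set G) := by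
    refine ⟨v.2, Subgroup.mem_centralizer_iff.mpr fun b hb => ?_⟩
    have h2 := Subgroup.mem_centralizer_iff.mp hc (j ⟨b, hXV hb⟩)
      (Subgroup.mem_map_of_mem j (mem_subgroupOf.mpr hb))
    have h3 : ι (φ ⟨b, hXV hb⟩ v) = ι v := by rw [← hjc, h2, mul_inv_cancel_right]
    have h4 : b * (v : G) * b⁻¹ = v := congrArg Subtype.val (hιinj h3)
    exact mul_inv_eq_iff_eq_mul.mp h4
  rw [e, Subgroup.mem_bot] at h1
  rw [show v = 1 from Subtype.ext h1, map_one]

/-- In odd order, an operator of prime order without fixed points on a coprime module acts trivially on a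
normal complement, modulo the kernel. -/
theorem commutator_le_centralizer_of_fpf {ℓ r : ℕ} [hl : Fact ℓ.Prime] [hr : Fact r.Prime] (K R V : Subgroup G)
    (hR : Nat.card R = r) (hodd : Odd (Nat.card K)) (hK : Group.IsSolvable K)
    (hcop : (Nat.card R).Coprime (Nat.card K)) (hV : Cfsg.IsElementaryAbelian ℓ V) (hlR : ℓ ≠ r)
    (hlK : ¬ ℓ ∣ Nat.card K) (hRK : R ≤ normalizer (K : Set G)) (hKV : K ≤ normalizer (V : Set G))
    (hRV : R ≤ normalizer (V : Set G)) (hCV : V ⊓ centralizer (R : Set G) = ⊥) :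
    ⁅R, K⁆ ≤ centralizer (V : Set G) := by
  classical
  set C := centralizer (V : Set G) with hC
  have hCn : ∀ n ∈ normalizer (V : Set G), ∀ c ∈ C, n * c * n⁻¹ ∈ C := by
    intro n hn c hc
    rw [hC, Subgroup.mem_centralizer_iff] at hc ⊢
    intro v hv
    calc v * (n * c * n⁻¹) = n * ((n⁻¹ * v * n) * c) * n⁻¹ := by group
      _ = n * (c * (n⁻¹ * v * n)) * n⁻¹ := by rw [hc _ (mem_conj_normalizer' hn hv)]
      _ = _ := by group
  let S : Subgroup G :=
    { carrier := {k | k ∈ K ∧ ∀ b ∈ R, ⁅b, k⁆ ∈ C}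
      one_mem' := ⟨K.one_mem, fun b _ => by rw [commutatorElement_one_right]; exact C.one_mem⟩
      mul_mem' := fun {a c} ha hc => ⟨K.mul_mem ha.1 hc.1, fun b hb => by
        rw [show ⁅b, a * c⁆ = ⁅b, a⁆ * (a * ⁅b, c⁆ * a⁻¹) by simp only [commutatorElement_def]; group]
        exact C.mul_mem (ha.2 b hb) (hCn a (hKV ha.1) _ (hc.2 b hb))⟩
      inv_mem' := fun {a} ha => ⟨K.inv_mem ha.1, fun b hb => by
        rw [show ⁅b, a⁻¹⁆ = a⁻¹ * ⁅b, a⁆⁻¹ * a⁻¹⁻¹ by simp only [commutatorElement_def]; group]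
        exact hCn _ (hKV (K.inv_mem ha.1)) _ (C.inv_mem (ha.2 b hb))⟩ }
  have hSK : S ≤ K := fun k hk => hk.1
  have hKS : K ≤ S := le_of_forall_sylow hSK fun q hq => by
    obtain ⟨Y, hY, hYR⟩ := exists_invariant_sylow R K hRK hcop (Or.inr hK) q
    refine ⟨Y, hY, fun y hy => ⟨hY.1 hy, fun b hb => ?_⟩⟩
    by_cases hy1 : y = 1
    · rw [hy1, commutatorElement_one_right]; exact C.one_mem
    have hqK : q ∣ Nat.card K := by
      have h1 : q ∣ Nat.card Y := by
        obtain ⟨t, ht⟩ := hY.2.1.exists_card_eq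
        rcases t.eq_zero_or_pos with rfl | ht0
        · exact absurd (Subgroup.mem_bot.mp (Subgroup.card_eq_one.mp (by simpa using ht) ▸ hy)) hy1
        · rw [ht]; exact dvd_pow_self q ht0.ne'
      exact h1.trans (Subgroup.card_dvd_of_le hY.1)
    have hle : ⁅Y, R⁆ ≤ C := by
      by_contra hne
      refine exists_fixed_of_not_centralizing (p := ℓ) (q := q) (fun e => hlK (e ▸ hqK)) hlR
        (fun e => ?_) R Y V hR hY.2.1 hYR hV hRV (hY.1.trans hKV) hne (fun e => ?_) hCV
      · subst e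
        exact hq.out.one_lt.ne (Nat.eq_one_of_dvd_coprimes hcop (hR ▸ dvd_rfl) hqK).symm
      · subst e
        exact absurd (even_iff_two_dvd.mpr hqK) (Nat.not_even_iff_odd.mpr hodd)
    rw [← commutatorElement_inv]
    exact C.inv_mem (hle (Subgroup.commutator_mem_commutator hy hb))
  exact Subgroup.commutator_le.mpr fun b hb k hk => (hKS hk).2 b hb

end Cfsg.Agent.Grp
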