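import Mathlib
import Cfsg.Agent.Lib.Grp.Cores
import Cfsg.Agent.Lib.Grp.Subnormal
import Cfsg.Agent.Lib.Transfer.Alperin
import Cfsg.Agent.Lib.Invol.ZStar

/-!
Glauberman's theorem on automorphisms centralizing a Sylow 2-subgroup: if `E` is normal in `G`,
`O(E) = 1` and `C_G(E) = 1`, then the centralizer of a Sylow 2-subgroup of `E` has no nontrivial
perfect subgroup with a nontrivial 2-element.
-/

set_option autoImplicit false

namespace Cfsg.Agent.Grp

open scoped Pointwise commutatorElement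
open Subgroup

variable {G : Type*} [Group G]

/-- The odd part of the order of a subgroup. -/
noncomputable def oddCard (C : Subgroup G) : ℕ := ordCompl[2] (Nat.card C)

/-- `u` fixes the fusion of `P` inside `E`: its commutators with normalizers of centric subgroups
have odd order. -/
def FixesFusion (E P : Subgroup G) (u : G) : Prop :=
  ∀ Pi ≤ P, ∀ φ ∈ E, φ ∈ Subgroup.normalizer (Pi : Set G) →
    ¬ 2 ∣ Pi.relIndex (E ⊓ Subgroup.centralizer (Pi : Set G)) →
      ⁅φ, u⁆ ^ oddCard (E ⊓ Subgroup.centralizer (Pi : Set G)) = 1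

theorem oddCard_pow_mul [Finite G] {C V : Subgroup G} (hVc : ∀ v ∈ V, ∀ c ∈ C, c * v = v * c)
    (hidx : ¬ 2 ∣ V.relIndex C) {a b : G} (ha : a ∈ C) (hb : b ∈ C) :
    (a * b) ^ oddCard C = a ^ oddCard C * b ^ oddCard C ∧ a ^ oddCard C ∈ Subgroup.centralizer (C : Set G) := by
  have hV : V.subgroupOf C ≤ Subgroup.center C := fun v hv =>
    Subgroup.mem_center_iff.mpr fun c => Subtype.ext (hVc _ hv _ c.2)
  have hm2 : ¬ 2 ∣ (Subgroup.center C).index := fun h =>
    hidx (h.trans (Subgroup.index_dvd_of_le hV))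
  have hm : (Subgroup.center C).index ∣ oddCard C := by
    have h1 : (Subgroup.center C).index ∣ 2 ^ (Nat.card C).factorization 2 * oddCard C := by
      rw [oddCard, Nat.ordProj_mul_ordCompl_eq_self]
      exact Subgroup.index_dvd_card _
    exact (Nat.Coprime.pow_right _ ((Nat.coprime_comm.mp
      ((Nat.prime_two.coprime_iff_not_dvd).mpr hm2)))).dvd_of_dvd_mul_left h1
  obtain ⟨k, hk⟩ := hm
  have hpow : ∀ x : C, (x : G) ^ oddCard C =
      (((MonoidHom.transferCenterPow C x : Subgroup.center C) : C) : G) ^ k := by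
    intro x
    rw [hk, pow_mul, MonoidHom.transferCenterPow_apply, SubmonoidClass.coe_pow]
  constructor
  · have h := hpow (⟨a, ha⟩ * ⟨b, hb⟩)
    rw [map_mul] at h
    have hc : Commute (((MonoidHom.transferCenterPow C ⟨a, ha⟩ : Subgroup.center C) : C) : G)
        (((MonoidHom.transferCenterPow C ⟨b, hb⟩ : Subgroup.center C) : C) : G) :=
      (congrArg Subtype.val (Subgroup.mem_center_iff.mp (MonoidHom.transferCenterPow C ⟨a, ha⟩).2
        (MonoidHom.transferCenterPow C ⟨b, hb⟩ : Subgroup.center C).1)).symm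
    simp only [Subgroup.coe_mul] at h
    rw [h, hpow ⟨a, ha⟩, hpow ⟨b, hb⟩, hc.mul_pow]
  · rw [show a ^ oddCard C = _ from hpow ⟨a, ha⟩]
    refine Subgroup.pow_mem _ (Subgroup.mem_centralizer_iff.mpr fun c hc => ?_) _
    exact congrArg Subtype.val
      (Subgroup.mem_center_iff.mp (MonoidHom.transferCenterPow C ⟨a, ha⟩).2 ⟨c, hc⟩)

/-- The commutator trick: a commutator of two elements centralizing `P` fixes fusion. -/
theorem fixesFusion_commutator [Finite G] {E P : Subgroup G} [E.Normal] {w α : G}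
    (hw : w ∈ Subgroup.centralizer (P : Set G)) (hα : α ∈ Subgroup.centralizer (P : Set G)) (k : ℕ) :
    FixesFusion E P ((w⁻¹ * (α * w * α⁻¹)) ^ k) := by
  intro Pi hPi φ hφE hφ hidx
  set C := E ⊓ Subgroup.centralizer (Pi : Set G)
  set V := Pi ⊓ C
  set n := oddCard C
  have hn : n ≠ 0 := (Nat.ordCompl_pos 2 Nat.card_pos.ne').ne'
  have hVc : ∀ v ∈ V, ∀ c ∈ C, c * v = v * c := fun v hv c hc =>
    (Subgroup.mem_centralizer_iff.mp hc.2 v hv.1).symm
  have hVidx : ¬ 2 ∣ V.relIndex C := by rwa [Subgroup.inf_relIndex_right]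
  have hcP : ∀ y ∈ Subgroup.centralizer (P : Set G), ∀ v ∈ Pi, y * v * y⁻¹ = v := fun y hy v hv => by
    rw [← Subgroup.mem_centralizer_iff.mp hy v (hPi hv), mul_inv_cancel_right]
  have hconj : ∀ y : G, (∀ v ∈ Pi, y * v * y⁻¹ ∈ Pi) → ∀ c ∈ C, y * c * y⁻¹ ∈ C := by
    intro y hy c hc
    refine ⟨(inferInstance : E.Normal).conj_mem c hc.1 y, Subgroup.mem_centralizer_iff.mpr fun v hv => ?_⟩
    have hsurj : ∃ v' ∈ Pi, y * v' * y⁻¹ = v := by
      have hbij : Function.Bijective (fun v : Pi => (⟨y * v * y⁻¹, hy v v.2⟩ : Pi)) :=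
        Finite.injective_iff_bijective.mp fun a b h => Subtype.ext
          (mul_left_cancel (mul_right_cancel (congrArg Subtype.val h)))
      obtain ⟨v', hv'⟩ := hbij.2 ⟨v, hv⟩
      exact ⟨v', v'.2, congrArg Subtype.val hv'⟩
    obtain ⟨v', hv', rfl⟩ := hsurj
    calc y * v' * y⁻¹ * (y * c * y⁻¹) = y * (v' * c) * y⁻¹ := by group
      _ = y * (c * v') * y⁻¹ := by rw [Subgroup.mem_centralizer_iff.mp hc.2 v' hv']
      _ = _ := by group
  have hC : ∀ y ∈ Subgroup.centralizer (P : Set G), ∀ c ∈ C, y * c * y⁻¹ ∈ C := fun y hy =>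
    hconj y fun v hv => (hcP y hy v hv).symm ▸ hv
  have hφC : ∀ c ∈ C, φ * c * φ⁻¹ ∈ C := hconj φ fun v hv => (Subgroup.mem_normalizer_iff.mp hφ v).mp hv
  have hf : ∀ y ∈ Subgroup.centralizer (P : Set G), ⁅φ, y⁆ ∈ C := by
    intro y hy
    refine ⟨?_, Subgroup.mem_centralizer_iff.mpr fun v hv => ?_⟩
    · rw [commutatorElement_def, show φ * y * φ⁻¹ * y⁻¹ = φ * (y * φ⁻¹ * y⁻¹) by group]
      exact E.mul_mem hφE ((inferInstance : E.Normal).conj_mem _ (E.inv_mem hφE) y)
    · have hv1 : φ⁻¹ * v * φ ∈ Pi := by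
        have := (Subgroup.mem_normalizer_iff.mp ((Subgroup.normalizer (Pi : Set G)).inv_mem hφ) v).mp hv
        simpa using this
      have e : ⁅φ, y⁆ * v * ⁅φ, y⁆⁻¹ = v := by
        calc ⁅φ, y⁆ * v * ⁅φ, y⁆⁻¹
            = φ * (y * (φ⁻¹ * (y⁻¹ * v * (y⁻¹)⁻¹) * φ) * y⁻¹) * φ⁻¹ := by
              rw [commutatorElement_def]; group
          _ = φ * (y * (φ⁻¹ * v * φ) * y⁻¹) * φ⁻¹ := by
              rw [hcP y⁻¹ ((Subgroup.centralizer _).inv_mem hy) v hv]
          _ = v := by rw [hcP y hy _ hv1]; group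
      exact (mul_inv_eq_iff_eq_mul.mp e).symm
  have hmul : ∀ {a b : G}, a ∈ C → b ∈ C → (a * b) ^ n = a ^ n * b ^ n := fun ha hb =>
    (oddCard_pow_mul hVc hVidx ha hb).1
  -- `n`-th powers lie in `Pi`
  have hpowV : ∀ c ∈ C, c ^ n ∈ Pi := by
    intro c hc
    have hVn : (V.subgroupOf C).Normal := ⟨fun v hv g => by
      have e : g * v * g⁻¹ = v := Subtype.ext (by
        rw [Subgroup.coe_mul, Subgroup.coe_mul, Subgroup.coe_inv, hVc v hv g g.2, mul_inv_cancel_right])
      rwa [e]⟩
    have h1 : (V.subgroupOf C).index ∣ n := by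
      have h2 : (V.subgroupOf C).index ∣ 2 ^ (Nat.card C).factorization 2 * n := by
        rw [show n = ordCompl[2] (Nat.card C) from rfl, Nat.ordProj_mul_ordCompl_eq_self]
        exact Subgroup.index_dvd_card _
      exact (Nat.Coprime.pow_right _ ((Nat.coprime_comm.mp
        ((Nat.prime_two.coprime_iff_not_dvd).mpr hVidx)))).dvd_of_dvd_mul_left h2
    obtain ⟨j, hj⟩ := h1
    have := (V.subgroupOf C).pow_mem (Subgroup.pow_index_mem (V.subgroupOf C) (⟨c, hc⟩ : C)) j
    rw [← pow_mul, ← hj] at this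
    exact this.1
  have hfixed : ∀ y ∈ Subgroup.centralizer (P : Set G), ∀ c ∈ C, (y * c * y⁻¹) ^ n = c ^ n :=
    fun y hy c hc => by rw [conj_pow, hcP y hy _ (hpowV c hc)]
  set c := φ⁻¹ * (α⁻¹ * φ * α) with hc
  have hcC : c ∈ C := by
    have h1 := hφC _ (hf α⁻¹ ((Subgroup.centralizer _).inv_mem hα))
    have h2 : c = φ⁻¹ * ⁅φ, α⁻¹⁆⁻¹ * φ := by rw [hc, commutatorElement_def]; group
    rw [h2]
    have h3 := hconj φ⁻¹ (fun v hv => by
      simpa using (Subgroup.mem_normalizer_iff.mp
        ((Subgroup.normalizer (Pi : Set G)).inv_mem hφ) v).mp hv) _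
      (C.inv_mem (hf α⁻¹ ((Subgroup.centralizer _).inv_mem hα)))
    simpa using h3
  set w' := α * w * α⁻¹ with hw'
  have hw'P : w' ∈ Subgroup.centralizer (P : Set G) :=
    Subgroup.mul_mem _ (Subgroup.mul_mem _ hα hw) (Subgroup.inv_mem _ hα)
  -- the two values agree
  have hval : ⁅φ, w'⁆ ^ n = ⁅φ, w⁆ ^ n := by
    have e1 : ⁅φ, w'⁆ = α * (φ * ⁅c, w⁆ * φ⁻¹ * ⁅φ, w⁆) * α⁻¹ := by
      rw [hw', hc]; simp only [commutatorElement_def]; group
    have hcw : ⁅c, w⁆ ∈ C := by
      rw [commutatorElement_def, show c * w * c⁻¹ * w⁻¹ = c * (w * c⁻¹ * w⁻¹) by group]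
      exact C.mul_mem hcC (hC w hw _ (C.inv_mem hcC))
    have hcwn : ⁅c, w⁆ ^ n = 1 := by
      rw [commutatorElement_def, show c * w * c⁻¹ * w⁻¹ = c * (w * c⁻¹ * w⁻¹) by group,
        hmul hcC (hC w hw _ (C.inv_mem hcC)), hfixed w hw _ (C.inv_mem hcC), inv_pow, mul_inv_cancel]
    rw [e1, hfixed α hα _ (C.mul_mem (hφC _ hcw) (hf w hw)), hmul (hφC _ hcw) (hf w hw), conj_pow,
      hcwn, mul_one, mul_inv_cancel, one_mul]
  set u := w⁻¹ * w' with hu
  have huP : u ∈ Subgroup.centralizer (P : Set G) := Subgroup.mul_mem _ (Subgroup.inv_mem _ hw) hw'P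
  have hu1 : ⁅φ, u⁆ ^ n = 1 := by
    have e : ⁅φ, u⁆ = w⁻¹ * (⁅φ, w⁆⁻¹ * ⁅φ, w'⁆) * (w⁻¹)⁻¹ := by
      rw [hu]; simp only [commutatorElement_def]; group
    rw [e, hfixed w⁻¹ (Subgroup.inv_mem _ hw) _ (C.mul_mem (C.inv_mem (hf w hw)) (hf w' hw'P)),
      hmul (C.inv_mem (hf w hw)) (hf w' hw'P), inv_pow, hval, inv_mul_cancel]
  show ⁅φ, u ^ k⁆ ^ n = 1
  induction k with
  | zero => simp
  | succ k ih =>
    have e : ⁅φ, u ^ (k + 1)⁆ = ⁅φ, u⁆ * (u * ⁅φ, u ^ k⁆ * u⁻¹) := by
      simp only [commutatorElement_def, pow_succ']; group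
    have hk : u ^ k ∈ Subgroup.centralizer (P : Set G) := Subgroup.pow_mem _ huP k
    rw [e, hmul (hf u huP) (hC u huP _ (hf _ hk)), hu1, hfixed u huP _ (hf _ hk), ih, one_mul]

/-- An involution centralizing a Sylow 2-subgroup and fixing its fusion is isolated. -/
theorem isIsolated_of_fixesFusion [Finite G] {E P : Subgroup G} [E.Normal] {u : G}
    (hPE : P ≤ E) (hP : IsPGroup 2 P) (hidx : ¬ 2 ∣ P.relIndex E) (hu : orderOf u = 2)
    (huP : u ∈ Subgroup.centralizer (P : Set G)) (hfix : FixesFusion E P u)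
    (htop : E ⊔ Subgroup.zpowers u = ⊤) : Cfsg.IsIsolatedInvolution u := by
  have huz : IsPGroup 2 (Subgroup.zpowers u) :=
    IsPGroup.of_card (n := 1) (by rw [Nat.card_zpowers, hu, pow_one])
  have huN : Subgroup.zpowers u ≤ Subgroup.normalizer (P : Set G) :=
    Subgroup.zpowers_le.mpr (Subgroup.centralizer_le_normalizer _ huP)
  set Q0 := P ⊔ Subgroup.zpowers u
  have hQ0 : IsPGroup 2 Q0 := hP.to_sup_of_normal_left' huz huN
  have hQidx : ¬ 2 ∣ Q0.index := by
    intro h
    refine hidx ?_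
    have htop' : Q0 ⊔ E = ⊤ := eq_top_iff.mpr (htop ▸ sup_le le_sup_right
      ((le_sup_right : Subgroup.zpowers u ≤ Q0).trans le_sup_left))
    have h1 := card_sup_mul_card_inf_normal (H := Q0) (N := E)
    rw [htop', Subgroup.card_top, ← Subgroup.card_mul_index Q0, mul_assoc] at h1
    have h2 : Q0.index * Nat.card (Q0 ⊓ E : Subgroup G) = Nat.card E :=
      Nat.eq_of_mul_eq_mul_left Nat.card_pos h1
    have h3 : (Q0 ⊓ E).relIndex E = Q0.index := by
      have h4 := card_mul_relIndex (inf_le_right : Q0 ⊓ E ≤ E)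
      rw [← h2, mul_comm Q0.index] at h4
      exact Nat.eq_of_mul_eq_mul_left Nat.card_pos h4
    exact (h3 ▸ h).trans (Subgroup.relIndex_dvd_of_le_left E (le_inf le_sup_left hPE))
  have := Fact.mk Nat.prime_two
  set Q : Sylow 2 G := hQ0.toSylow hQidx with hQdef
  have hQcoe : (Q : Subgroup G) = Q0 := rfl
  have huQ : u ∈ (Q : Subgroup G) := Subgroup.mem_sup_right (Subgroup.mem_zpowers u)
  have hQE : (Q : Subgroup G) ⊓ E ≤ P := by
    have hle : P ≤ (Q : Subgroup G) ⊓ E := le_inf le_sup_left hPE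
    obtain ⟨j, hj⟩ := IsPGroup.iff_card.mp (hQ0.to_le (inf_le_left : (Q : Subgroup G) ⊓ E ≤ Q0))
    have h1 : P.relIndex ((Q : Subgroup G) ⊓ E) ∣ 2 ^ j :=
      ⟨Nat.card P, by rw [← hj, ← card_mul_relIndex hle, mul_comm]⟩
    obtain ⟨i, -, hi⟩ := (Nat.dvd_prime_pow Nat.prime_two).mp h1
    rcases Nat.eq_zero_or_pos i with rfl | hpos
    · exact Subgroup.relIndex_eq_one.mp hi
    · refine absurd ((hi ▸ dvd_pow_self 2 hpos.ne').trans ?_) hidx
      exact Dvd.intro _ (Subgroup.relIndex_mul_relIndex P _ E hle inf_le_right)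
  suffices key : ∀ (n : ℕ) (D : Subgroup G), D ≤ (Q : Subgroup G) → u ∈ D →
      Nat.card (Q : Subgroup G) ≤ Nat.card D + n → ∀ g : G,
      (∀ a ∈ D, g⁻¹ * a * g ∈ (Q : Subgroup G)) → g⁻¹ * u * g = u by
    have hconjQ : ∀ g : G, g⁻¹ * u * g ∈ (Q : Subgroup G) → g⁻¹ * u * g = u := by
      intro g hg
      refine key _ (Subgroup.zpowers u) (Subgroup.zpowers_le.mpr huQ) (Subgroup.mem_zpowers u)
        (Nat.le_add_left _ _) g ?_
      rintro _ ⟨j, rfl⟩
      have := (Q : Subgroup G).zpow_mem hg j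
      have e : (g⁻¹ * u * g) ^ j = g⁻¹ * u ^ j * g := by
        have := map_zpow (MulAut.conj g⁻¹) u j
        simp only [MulAut.conj_apply, inv_inv] at this
        exact this.symm
      rwa [e] at this
    refine ⟨hu, fun g hg => ?_⟩
    set x := g * u * g⁻¹ with hx
    have hxo : orderOf x = 2 := by
      rw [hx, show g * u * g⁻¹ = MulAut.conj g u from rfl, MulEquiv.orderOf_eq, hu]
    have hxz : IsPGroup 2 (Subgroup.zpowers x) :=
      IsPGroup.of_card (n := 1) (by rw [Nat.card_zpowers, hxo, pow_one])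
    have hn : Subgroup.zpowers x ≤ Subgroup.normalizer ((Subgroup.zpowers u : Subgroup G) : Set G) := by
      refine Subgroup.zpowers_le.mpr (Subgroup.centralizer_le_normalizer _ ?_)
      rw [Subgroup.zpowers_eq_closure, Subgroup.centralizer_closure,
        Subgroup.mem_centralizer_singleton_iff]
      exact hg.symm.eq
    obtain ⟨S, hS⟩ := (huz.to_sup_of_normal_left' hxz hn).exists_le_sylow
    obtain ⟨k, hk⟩ := MulAction.exists_smul_eq G Q S
    have hmem : ∀ y ∈ Subgroup.zpowers u ⊔ Subgroup.zpowers x, k⁻¹ * y * k ∈ (Q : Subgroup G) := by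
      intro y hy
      have := hS hy
      rwa [← hk, Transfer.mem_smul_sylow] at this
    have h1 := hconjQ k (hmem u (Subgroup.mem_sup_left (Subgroup.mem_zpowers u)))
    have h2 := hmem x (Subgroup.mem_sup_right (Subgroup.mem_zpowers x))
    have h3 := hconjQ (g⁻¹ * k) (by simpa [hx, mul_assoc] using h2)
    calc x = k * ((g⁻¹ * k)⁻¹ * u * (g⁻¹ * k)) * k⁻¹ := by rw [hx]; group
      _ = k * (k⁻¹ * u * k) * k⁻¹ := by rw [h3, h1]
      _ = u := by group
  intro n
  induction n using Nat.strong_induction_on with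
  | _ n ih =>
  -- the tame case
  have tame : ∀ (R : Sylow 2 G) (x : G), Transfer.TameStep Q R x →
      u ∈ ((Q : Subgroup G) ⊓ (R : Subgroup G)) →
      Nat.card (Q : Subgroup G) ≤ Nat.card ((Q : Subgroup G) ⊓ (R : Subgroup G) : Subgroup G) + n →
      x⁻¹ * u * x = u := by
    intro R x hT huD hn
    set D := (Q : Subgroup G) ⊓ (R : Subgroup G)
    set N := Subgroup.normalizer (D : Set G)
    obtain ⟨hxN, hQN, -⟩ := hT
    have huN : u ∈ N := Subgroup.le_normalizer huD
    obtain ⟨φ, hφE, v, hv, rfl⟩ := Subgroup.mem_sup_of_normal_left.mp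
      (show x ∈ E ⊔ Subgroup.zpowers u by rw [htop]; trivial)
    have hvD : v ∈ D := Subgroup.zpowers_le.mpr huD hv
    have hφN : φ ∈ N := by simpa using N.mul_mem hxN (N.inv_mem (Subgroup.le_normalizer hvD))
    suffices hφ : φ⁻¹ * u * φ = u by
      obtain ⟨j, rfl⟩ := hv
      calc (φ * u ^ j)⁻¹ * u * (φ * u ^ j) = (u ^ j)⁻¹ * (φ⁻¹ * u * φ) * u ^ j := by group
        _ = u := by rw [hφ, mul_assoc, (Commute.self_zpow u j).eq, inv_mul_cancel_left]
    set Pi := D ⊓ E
    have hPiP : Pi ≤ P := (inf_le_inf_right E inf_le_left).trans hQE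
    have hφPi : φ ∈ Subgroup.normalizer (Pi : Set G) := by
      rw [Subgroup.mem_normalizer_iff]
      intro y
      constructor
      · exact fun hy => ⟨(Subgroup.mem_normalizer_iff.mp hφN y).mp hy.1,
          (inferInstance : E.Normal).conj_mem y hy.2 φ⟩
      · intro hy
        refine ⟨(Subgroup.mem_normalizer_iff.mp hφN y).mpr hy.1, ?_⟩
        simpa [mul_assoc] using (inferInstance : E.Normal).conj_mem _ hy.2 φ⁻¹
    have hsplit : ∀ d ∈ D, ∃ a ∈ Pi, ∃ b ∈ Subgroup.zpowers u, d = a * b := by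
      intro d hd
      obtain ⟨a, ha, b, hb, hab⟩ := Subgroup.mem_sup_of_normal_left.mp
        (show d ∈ E ⊔ Subgroup.zpowers u by rw [htop]; trivial)
      refine ⟨a, ⟨?_, ha⟩, b, hb, hab.symm⟩
      rw [show a = d * b⁻¹ by rw [← hab, mul_inv_cancel_right]]
      exact D.mul_mem hd (D.inv_mem (Subgroup.zpowers_le.mpr huD hb))
    by_cases hcen : P ⊓ Subgroup.centralizer (Pi : Set G) ≤ Pi
    · -- centric case
      set C := E ⊓ Subgroup.centralizer (Pi : Set G)
      have hidx' : ¬ 2 ∣ Pi.relIndex C := by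
        intro hd
        set V := P ⊓ Subgroup.centralizer (Pi : Set G)
        have huC : Subgroup.zpowers u ≤ Subgroup.normalizer (C : Set G) := by
          refine Subgroup.zpowers_le.mpr (mem_normalizer_of_map_eq.mpr ?_)
          rw [Subgroup.map_inf _ _ _ (MulEquiv.injective _), map_conj_eq_smul, map_conj_eq_smul]
          congr 1
          · exact Subgroup.Normal.conj_smul_eq_self u E
          · rw [← map_conj_eq_smul]
            exact mem_normalizer_of_map_eq.mp (Subgroup.le_normalizer (Subgroup.mem_centralizer_iff.mpr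
              fun p' hp' => Subgroup.mem_centralizer_iff.mp huP p' (hPiP hp')))
        set U := V ⊔ Subgroup.zpowers u
        have hUQ : U ≤ (Q : Subgroup G) := sup_le_sup_right inf_le_left _
        have hUM : U ≤ C ⊔ Subgroup.zpowers u :=
          sup_le_sup_right (inf_le_inf_right _ hPE) _
        obtain ⟨S, hS⟩ := ((hQ0.to_le hUQ).comap_subtype (K := C ⊔ Subgroup.zpowers u)).exists_le_sylow
        set S' := (S : Subgroup ↥(C ⊔ Subgroup.zpowers u)).map (C ⊔ Subgroup.zpowers u).subtype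
        have hUS : U ≤ S' := fun y hy => ⟨⟨y, hUM hy⟩, hS hy, rfl⟩
        have hUC : U ⊓ C ≤ V := fun y hy => ⟨hQE ⟨hUQ hy.1, hy.2.1⟩, hy.2.2⟩
        -- `U` is not all of `S'`
        have hne : U ≠ S' := by
          intro he
          have hCs : ((C.subgroupOf (C ⊔ Subgroup.zpowers u))).IsSubnormal :=
            (Subgroup.normal_subgroupOf_iff_le_normalizer le_sup_left).mpr
              (sup_le Subgroup.le_normalizer huC) |>.isSubnormal
          refine not_dvd_relIndex_sylow S hCs (hd.trans ?_)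
          rw [← Subgroup.relIndex_map_map_of_injective _ _ (Subgroup.subtype_injective _),
            Subgroup.subgroupOf_map_subtype, inf_of_le_left le_sup_left,
            ← Subgroup.inf_relIndex_right S' C]
          exact Subgroup.relIndex_dvd_of_le_left C (by rw [← he]; exact hUC.trans hcen)
        have hlt : U < S' := lt_of_le_of_ne hUS hne
        have hS'p : IsPGroup 2 S' := S.isPGroup'.map _
        have hlt' : U.subgroupOf S' < ⊤ := lt_top_iff_ne_top.2 fun he =>
          hne (le_antisymm hUS (Subgroup.subgroupOf_eq_top.1 he))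
        have := hS'p.isNilpotent
        obtain ⟨⟨y, hyS⟩, hy, hyU⟩ := SetLike.exists_of_lt
          (Group.normalizerCondition_of_isNilpotent _ hlt')
        rw [← Subgroup.subgroupOf_normalizer_eq hUS, Subgroup.mem_subgroupOf] at hy
        rw [Subgroup.mem_subgroupOf] at hyU
        have hyM : y ∈ C ⊔ Subgroup.zpowers u := Subgroup.map_subtype_le _ hyS
        have hyM' : y ∈ ((Subgroup.zpowers u ⊔ C : Subgroup G) : Set G) := by rwa [sup_comm]
        rw [Subgroup.coe_mul_of_left_le_normalizer_right _ _ huC] at hyM'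
        obtain ⟨b, hb, w, hw, hwb⟩ := hyM'
        have hbU : b ∈ U := Subgroup.mem_sup_right hb
        have hwe : w = b⁻¹ * y := by rw [← hwb, inv_mul_cancel_left]
        have hwS : w ∈ S' := hwe ▸ S'.mul_mem (S'.inv_mem (hUS hbU)) hyS
        have hwU : w ∉ U := fun h => hyU (hwb ▸ U.mul_mem hbU h)
        have hwnU : w ∈ Subgroup.normalizer (U : Set G) :=
          hwe ▸ Subgroup.mul_mem _ (Subgroup.inv_mem _ (Subgroup.le_normalizer hbU)) hy
        -- `w` normalizes `D`
        have hwD : ∀ d ∈ D, w * d * w⁻¹ ∈ D := by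
          intro d hd'
          obtain ⟨a, ha, v', hv', rfl⟩ := hsplit d hd'
          have e : w * (a * v') * w⁻¹ = a * (w * v' * w⁻¹) := by
            rw [← mul_assoc w a v', ← Subgroup.mem_centralizer_iff.mp hw.2 a ha]; group
          rw [e]
          refine D.mul_mem ha.1 ?_
          have h2 := (Subgroup.mem_normalizer_iff.mp hwnU v').mp (Subgroup.mem_sup_right hv')
          exact (sup_le (hcen.trans inf_le_left) (Subgroup.zpowers_le.mpr huD) : U ≤ D) h2
        have hwN : w ∈ N := by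
          rw [mem_normalizer_iff_smul]
          refine Subgroup.eq_of_le_of_card_ge ?_ (card_conj_smul _ _).ge
          intro d hd'
          have h1 := hwD _ (mem_smul_conj.mp hd')
          simpa [mul_assoc] using h1
        -- move `w` into the Sylow subgroup `Q`
        have hT1 : ¬ 2 ∣ ((Q : Subgroup G).subgroupOf N).index := by
          rwa [Subgroup.inf_relIndex_right] at hQN
        set Q1 : Sylow 2 N := (Q.isPGroup'.comap_subtype (K := N)).toSylow hT1
        have hwp : IsPGroup 2 (Subgroup.zpowers (⟨w, hwN⟩ : N)) :=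
          IsPGroup.of_injective (hS'p.to_le (Subgroup.zpowers_le.mpr hwS))
            ((N.subtype.comp (Subgroup.zpowers (⟨w, hwN⟩ : N)).subtype).codRestrict
              (Subgroup.zpowers w) fun z => by
              obtain ⟨i, hi⟩ := z.2
              exact ⟨i, by simp [← hi]⟩)
            (fun _ _ h => Subtype.ext (Subtype.ext (congrArg Subtype.val h :)))
        obtain ⟨T, hTw⟩ := hwp.exists_le_sylow
        obtain ⟨h, hh⟩ := MulAction.exists_smul_eq N T Q1
        have hwQ : (h : G) * w * (h : G)⁻¹ ∈ (Q : Subgroup G) := by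
          have h1 : MulAut.conj h • (⟨w, hwN⟩ : N) ∈ ((h • T : Sylow 2 N) : Subgroup N) :=
            Subgroup.smul_mem_pointwise_smul _ _ _ (hTw (Subgroup.mem_zpowers _))
          rw [hh] at h1
          exact h1
        have hhPi : ∀ a ∈ Pi, (h : G)⁻¹ * a * h ∈ Pi := fun a ha => ⟨by
            simpa using (Subgroup.mem_normalizer_iff.mp (N.inv_mem h.2) a).mp ha.1,
          by simpa using (inferInstance : E.Normal).conj_mem a ha.2 (h : G)⁻¹⟩
        have h2 : (h : G) * w * (h : G)⁻¹ ∈ Pi := by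
          refine hcen ⟨hQE ⟨hwQ, (inferInstance : E.Normal).conj_mem w hw.1 h⟩, ?_⟩
          refine Subgroup.mem_centralizer_iff.mpr fun a ha => ?_
          calc a * ((h : G) * w * (h : G)⁻¹) = h * (((h : G)⁻¹ * a * h) * w) * (h : G)⁻¹ := by group
            _ = h * (w * ((h : G)⁻¹ * a * h)) * (h : G)⁻¹ := by
                rw [Subgroup.mem_centralizer_iff.mp hw.2 _ (hhPi a ha)]
            _ = _ := by group
        have h3 : w ∈ Pi := by simpa [mul_assoc] using hhPi _ h2
        exact hwU (Subgroup.mem_sup_left ⟨hPiP h3, hw.2⟩)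
      have hfx := hfix Pi hPiP φ hφE hφPi hidx'
      have hmem : ⁅φ, u⁆ ∈ Pi := by
        refine ⟨?_, ?_⟩
        · rw [commutatorElement_def]
          exact D.mul_mem ((Subgroup.mem_normalizer_iff.mp hφN u).mp huD) (D.inv_mem huD)
        · rw [commutatorElement_def, show φ * u * φ⁻¹ * u⁻¹ = φ * (u * φ⁻¹ * u⁻¹) by group]
          exact E.mul_mem hφE ((inferInstance : E.Normal).conj_mem _ (E.inv_mem hφE) u)
      have h1 : orderOf ⁅φ, u⁆ ∣ oddCard C := orderOf_dvd_of_pow_eq_one hfx
      obtain ⟨j, hj⟩ := IsPGroup.iff_card.mp (hP.to_le hPiP)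
      have h2 : orderOf ⁅φ, u⁆ ∣ 2 ^ j := hj ▸ Subgroup.orderOf_dvd_natCard _ hmem
      have h3 : ⁅φ, u⁆ = 1 := orderOf_eq_one_iff.mp (Nat.eq_one_of_dvd_coprimes
        ((Nat.coprime_ordCompl Nat.prime_two Nat.card_pos.ne').pow_left j) h2 h1)
      rw [commutatorElement_eq_one_iff_mul_comm] at h3
      rw [mul_assoc, ← h3, inv_mul_cancel_left]
    · -- a bigger subgroup: the Frattini argument
      obtain ⟨y, hy, hyPi⟩ := SetLike.not_le_iff_exists.mp hcen
      set C := Subgroup.centralizer (D : Set G)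
      have hyC : y ∈ (Q : Subgroup G) ⊓ C := by
        refine ⟨Subgroup.mem_sup_left hy.1, Subgroup.mem_centralizer_iff.mpr fun d hd => ?_⟩
        obtain ⟨a, ha, b, hb, rfl⟩ := hsplit d hd
        obtain ⟨i, rfl⟩ := hb
        exact (Commute.mul_left (Subgroup.mem_centralizer_iff.mp hy.2 a ha)
          ((show Commute u y from (Subgroup.mem_centralizer_iff.mp huP y hy.1).symm).zpow_left i)).eq
      have hyD : y ∉ D := fun h => hyPi ⟨h, hPE hy.1⟩
      set D' := D ⊔ ((Q : Subgroup G) ⊓ C)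
      have hD'Q : D' ≤ (Q : Subgroup G) := sup_le inf_le_left inf_le_left
      have hlt : Nat.card D < Nat.card D' := by
        refine lt_of_le_of_ne (Subgroup.card_le_of_le le_sup_left) fun h => hyD ?_
        rw [Subgroup.eq_of_le_of_card_ge le_sup_left h.ge]
        exact Subgroup.mem_sup_right hyC
      -- Frattini
      have hCN : C ≤ N := Subgroup.centralizer_le_normalizer _
      have hCn : (C.subgroupOf N).Normal := by
        rw [← Subgroup.normalizerMonoidHom_ker]; infer_instance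
      have hT1 : ¬ 2 ∣ ((Q : Subgroup G).subgroupOf N).index := by
        rwa [Subgroup.inf_relIndex_right] at hQN
      set Q1 : Sylow 2 N := (Q.isPGroup'.comap_subtype (K := N)).toSylow hT1
      have hQC : ¬ 2 ∣ ((Q : Subgroup G).subgroupOf C).index := by
        have h1 := not_dvd_relIndex_sylow Q1 hCn.isSubnormal
        rwa [show (Q1 : Subgroup N) = (Q : Subgroup G).subgroupOf N from rfl,
          Subgroup.relIndex_subgroupOf hCN] at h1
      set Q2 : Sylow 2 C := (Q.isPGroup'.comap_subtype (K := C)).toSylow hQC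
      have hCφ : ∀ c ∈ C, φ * c * φ⁻¹ ∈ C := fun c hc =>
        hCn.conj_mem ⟨c, hCN hc⟩ hc ⟨φ, hφN⟩
      have hφQ : MulAut.conj φ • ((Q : Subgroup G) ⊓ C) ≤ C := by
        intro z hz
        have := hCφ _ (mem_smul_conj.mp hz).2
        simpa [mul_assoc] using this
      obtain ⟨T, hT⟩ := (((Q.isPGroup'.to_le (inf_le_left : (Q : Subgroup G) ⊓ C ≤ _)).map
        (MulAut.conj φ).toMonoidHom).comap_subtype (K := C)).exists_le_sylow
      obtain ⟨c, hc⟩ := MulAction.exists_smul_eq C T Q2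
      have hx' : ∀ z ∈ (Q : Subgroup G) ⊓ C, (c : G) * φ * z * ((c : G) * φ)⁻¹ ∈ (Q : Subgroup G) ⊓ C := by
        intro z hz
        have h1 : (⟨φ * z * φ⁻¹, hCφ z hz.2⟩ : C) ∈ (T : Subgroup C) := hT ⟨z, hz, rfl⟩
        have h2 : MulAut.conj c • (⟨φ * z * φ⁻¹, hCφ z hz.2⟩ : C) ∈ ((c • T : Sylow 2 C) : Subgroup C) :=
          Subgroup.smul_mem_pointwise_smul _ _ _ h1
        rw [hc] at h2
        rw [show (c : G) * φ * z * ((c : G) * φ)⁻¹ = (c : G) * (φ * z * φ⁻¹) * (c : G)⁻¹ by group]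
        exact ⟨h2, C.mul_mem (C.mul_mem c.2 (hCφ z hz.2)) (C.inv_mem c.2)⟩
      set g' := ((c : G) * φ)⁻¹ with hg'
      have hg'N : (c : G) * φ ∈ N := N.mul_mem (hCN c.2) hφN
      have hle : D' ≤ D'.comap (MulAut.conj ((c : G) * φ)).toMonoidHom := by
        refine sup_le (fun z hz => ?_) fun z hz => Subgroup.mem_sup_right (hx' z hz)
        exact Subgroup.mem_sup_left ((Subgroup.mem_normalizer_iff.mp hg'N z).mp hz)
      have hcardQ := Subgroup.card_le_of_le hD'Q
      have h4 := ih (n - 1) (by omega) D' hD'Q (Subgroup.mem_sup_left huD) (by omega) g' fun a ha => by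
        have := hD'Q (hle ha)
        simpa [hg', mul_assoc] using this
      rw [hg', inv_inv] at h4
      have h5 : (c : G)⁻¹ * u * c = u := by
        rw [mul_assoc, Subgroup.mem_centralizer_iff.mp c.2 u huD, inv_mul_cancel_left]
      calc φ⁻¹ * u * φ = φ⁻¹ * ((c : G)⁻¹ * ((c : G) * φ * u * ((c : G) * φ)⁻¹) * c) * φ := by
            rw [h4, h5]
        _ = u := by group
  intro D hDQ huD hn g hg
  have hchain := Transfer.alperin Q (D : Set G) g hDQ (by rintro _ ⟨a, ha, rfl⟩; exact hg a ha)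
  clear hg
  generalize hA : (D : Set G) = A at hchain
  induction hchain generalizing D with
  | nil A => simp
  | @cons A R x y hT hsub _ ihy =>
    subst hA
    have hle : D ≤ (Q : Subgroup G) ⊓ (R : Subgroup G) := hsub
    have hx : x⁻¹ * u * x = u := by
      rcases Nat.lt_or_ge (Nat.card D) (Nat.card ((Q : Subgroup G) ⊓ (R : Subgroup G) : Subgroup G))
        with hlt | hge
      · have h2 := Subgroup.card_le_of_le (inf_le_left : (Q : Subgroup G) ⊓ (R : Subgroup G) ≤ (Q : Subgroup G))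
        refine ih (n - 1) (by omega) _ inf_le_left (hle huD) (by omega) x fun a ha => ?_
        have := (Subgroup.mem_normalizer_iff.mp ((Subgroup.normalizer _).inv_mem hT.1) a).mp ha
        rw [inv_inv] at this
        exact this.1
      · exact tame R x hT (hle huD) (by have := Subgroup.card_le_of_le hle; omega)
    have hy : y⁻¹ * u * y = u := by
      refine ihy (D.map (MulAut.conj x⁻¹).toMonoidHom) ?_ ⟨u, huD, by simpa using hx⟩ ?_ ?_
      · rintro _ ⟨a, ha, rfl⟩
        have := (Subgroup.mem_normalizer_iff.mp ((Subgroup.normalizer _).inv_mem hT.1) a).mp (hle ha)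
        rw [inv_inv] at this
        simp only [MulEquiv.coe_toMonoidHom, MulAut.conj_apply, inv_inv]
        exact this.1
      · rwa [Subgroup.card_map_of_injective (MulEquiv.injective _)]
      · rw [Subgroup.coe_map]; refine Set.image_congr fun a _ => ?_; simp
    calc (x * y)⁻¹ * u * (x * y) = y⁻¹ * (x⁻¹ * u * x) * y := by group
      _ = u := by rw [hx, hy]

/-- Glauberman: a perfect subgroup centralizing a Sylow 2-subgroup of `E` has no nontrivial
2-element, when `O(E) = 1` and `C_G(E) = 1`. -/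
theorem eq_one_of_perfect_le_centralizer_sylow [Finite G] {E P : Subgroup G} [E.Normal]
    (hPE : P ≤ E) (hP : IsPGroup 2 P) (hidx : ¬ 2 ∣ P.relIndex E)
    (hO : Cfsg.pPrimeCore 2 E = ⊥) (hcent : Subgroup.centralizer (E : Set G) = ⊥)
    {Z : Subgroup G} (hZ : ⁅Z, Z⁆ = Z) (hZP : Z ≤ Subgroup.centralizer (P : Set G)) {x : G}
    (hx : x ∈ Z) (hx2 : IsPGroup 2 (Subgroup.zpowers x)) : x = 1 := by
  have := Fact.mk Nat.prime_two
  set C := Subgroup.centralizer (P : Set G)
  obtain ⟨W⟩ : Nonempty (Sylow 2 C) := Sylow.nonempty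
  -- no nontrivial involution fixes fusion
  have key : ∀ u : G, orderOf u = 2 → u ∈ C → FixesFusion E P u → False := by
    intro u hu huC hfix
    set H := E ⊔ Subgroup.zpowers u with hH
    have hPH : P ≤ H := hPE.trans le_sup_left
    have huH : u ∈ H := Subgroup.mem_sup_right (Subgroup.mem_zpowers u)
    have hEn : (E.subgroupOf H).Normal := inferInstance
    have hiso : Cfsg.IsIsolatedInvolution (⟨u, huH⟩ : H) := by
      refine isIsolated_of_fixesFusion (E := E.subgroupOf H) (P := P.subgroupOf H)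
        (fun y hy => hPE hy) hP.comap_subtype ?_ ?_ ?_ ?_ ?_
      · rwa [Subgroup.relIndex_subgroupOf le_sup_left]
      · rwa [Subgroup.orderOf_mk]
      · exact Subgroup.mem_centralizer_iff.mpr fun p' hp' =>
          Subtype.ext (Subgroup.mem_centralizer_iff.mp huC _ hp')
      · intro Pi hPi φ hφE hφ hid
        have hC : (E.subgroupOf H ⊓ Subgroup.centralizer (Pi : Set H)).map H.subtype =
            E ⊓ Subgroup.centralizer ((Pi.map H.subtype : Subgroup G) : Set G) := by
          ext z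
          constructor
          · rintro ⟨z, hz, rfl⟩
            refine ⟨hz.1, Subgroup.mem_centralizer_iff.mpr ?_⟩
            rintro _ ⟨a, ha, rfl⟩
            exact congrArg Subtype.val (Subgroup.mem_centralizer_iff.mp hz.2 a ha)
          · rintro ⟨hzE, hzC⟩
            exact ⟨⟨z, (le_sup_left : E ≤ H) hzE⟩, ⟨hzE, Subgroup.mem_centralizer_iff.mpr fun a ha =>
              Subtype.ext (Subgroup.mem_centralizer_iff.mp hzC a ⟨a, ha, rfl⟩)⟩, rfl⟩
        have h1 := hfix (Pi.map H.subtype) (by rintro _ ⟨a, ha, rfl⟩; exact hPi ha) φ hφE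
          (Subgroup.le_normalizer_map H.subtype ⟨φ, hφ, rfl⟩) (by
            rwa [← hC, Subgroup.relIndex_map_map_of_injective _ _ H.subtype_injective])
        rw [← hC, oddCard, Subgroup.card_map_of_injective H.subtype_injective] at h1
        exact Subtype.ext h1
      · refine Subgroup.map_injective H.subtype_injective ?_
        rw [Subgroup.map_sup, MonoidHom.map_zpowers, Subgroup.subgroupOf_map_subtype,
          inf_of_le_left le_sup_left, ← MonoidHom.range_eq_map, Subgroup.range_subtype]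
        rfl
    obtain ⟨N, hN, hodd, hcomm⟩ := ZStar.exists_odd_normal hiso
    have hNE : N ≤ E.subgroupOf H := by
      intro m hm
      obtain ⟨a, ha, b, hb, hab⟩ := Subgroup.mem_sup_of_normal_left.mp m.2
      have hbE : b ∈ E := by
        obtain ⟨j, rfl⟩ := hb
        set q := QuotientGroup.mk' E
        have h1 : orderOf (q (m : G)) ∣ 2 := by
          rw [← hab, map_mul, show q a = 1 from (QuotientGroup.eq_one_iff a).mpr ha, one_mul, map_zpow]
          refine (orderOf_dvd_of_mem_zpowers ⟨j, rfl⟩).trans ?_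
          exact hu ▸ orderOf_map_dvd q u
        have h2 : orderOf (q (m : G)) ∣ Nat.card N := (orderOf_map_dvd q _).trans
          (by rw [Subgroup.orderOf_coe]; exact Subgroup.orderOf_dvd_natCard N hm)
        have h3 : q (m : G) = 1 := orderOf_eq_one_iff.mp
          (Nat.eq_one_of_dvd_coprimes hodd.coprime_two_left h1 h2)
        rw [← hab, map_mul, show q a = 1 from (QuotientGroup.eq_one_iff a).mpr ha, one_mul] at h3
        exact (QuotientGroup.eq_one_iff _).mp h3
      show (m : G) ∈ E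
      rw [← hab]
      exact E.mul_mem ha hbE
    have hN1 : N = ⊥ := by
      set e := Subgroup.subgroupOfEquivOfLe (le_sup_left : E ≤ H)
      have h1 : (N.subgroupOf (E.subgroupOf H)).map e.toMonoidHom ≤ ⊥ := by
        rw [← hO]
        refine le_pPrimeCore (hN.subgroupOf _ |>.map _ e.surjective) ?_
        rw [Subgroup.card_map_of_injective (MulEquiv.injective _),
          Nat.card_congr (Subgroup.subgroupOfEquivOfLe hNE).toEquiv]
        exact Nat.coprime_two_right.mpr hodd
      rw [le_bot_iff, Subgroup.map_eq_bot_iff_of_injective _ (MulEquiv.injective _),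
        Subgroup.subgroupOf_eq_bot] at h1
      exact le_bot_iff.mp ((le_inf le_rfl hNE).trans (disjoint_iff.mp h1).le)
    have huE : u ∈ Subgroup.centralizer (E : Set G) := Subgroup.mem_centralizer_iff.mpr fun z hz => by
      have := hcomm ⟨z, Subgroup.mem_sup_left hz⟩
      rw [hN1, Subgroup.mem_bot] at this
      have h2 : u * z * u⁻¹ * z⁻¹ = 1 := congrArg Subtype.val this
      rw [mul_inv_eq_one, mul_inv_eq_iff_eq_mul] at h2
      exact h2.symm
    rw [hcent, Subgroup.mem_bot] at huE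
    rw [huE, orderOf_one] at hu
    omega
  have hWc : Subgroup.normalizer ((W : Subgroup C) : Set C) ≤ Subgroup.centralizer ((W : Subgroup C) : Set C) := by
    intro a ha
    refine Subgroup.mem_centralizer_iff.mpr fun w hw => ?_
    by_contra hne
    set v : C := w⁻¹ * (a * w * a⁻¹) with hv
    have hvW : v ∈ (W : Subgroup C) :=
      Subgroup.mul_mem _ (Subgroup.inv_mem _ hw) ((Subgroup.mem_normalizer_iff.mp ha w).mp hw)
    have hv1 : v ≠ 1 := fun h => hne (by
      have h' : a * w * a⁻¹ = w := (inv_mul_eq_one.mp h).symm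
      exact (mul_inv_eq_iff_eq_mul.mp h').symm)
    obtain ⟨j, hj⟩ := IsPGroup.iff_orderOf.mp W.isPGroup' ⟨v, hvW⟩
    rw [Subgroup.orderOf_mk] at hj
    obtain ⟨i, rfl⟩ : ∃ i, j = i + 1 := Nat.exists_eq_succ_of_ne_zero fun h => hv1 (by
      rwa [h, pow_zero, orderOf_eq_one_iff] at hj)
    refine key ((v : G) ^ 2 ^ i) ?_ (C.pow_mem v.2 _) (fixesFusion_commutator w.2 a.2 (2 ^ i))
    rw [← Subgroup.orderOf_coe] at hj
    rw [orderOf_pow' _ (pow_pos two_pos i).ne', hj, Nat.gcd_eq_right ⟨2, pow_succ 2 i⟩, pow_succ,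
      Nat.mul_div_cancel_left _ (pow_pos two_pos i)]
  set τ := MonoidHom.transferSylow W hWc
  have hker : ¬ 2 ∣ Nat.card τ.ker := by
    have h := (MonoidHom.ker_transferSylow_isComplement' W hWc)
    rw [← h.index_eq_card]
    exact W.not_dvd_index
  have hxC : x ∈ C := hZP hx
  have h1 : τ ⟨x, hxC⟩ = 1 := by
    have hperf : ⁅Z.subgroupOf C, Z.subgroupOf C⁆ = Z.subgroupOf C :=
      Subgroup.map_injective C.subtype_injective (by
        rw [Subgroup.map_commutator, Subgroup.subgroupOf_map_subtype, inf_of_le_left hZP, hZ])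
    have hcom : IsMulCommutative (W : Subgroup C) := ⟨⟨fun y z => Subtype.ext
      (Subgroup.mem_centralizer_iff.mp (hWc (Subgroup.le_normalizer z.2)) y y.2)⟩⟩
    have : (Z.subgroupOf C).map τ = ⊥ := by
      rw [← hperf, Subgroup.map_commutator, Subgroup.commutator_eq_bot_iff_le_centralizer]
      exact fun y _ => Subgroup.mem_centralizer_iff.mpr fun z _ => hcom.is_comm.comm z y
    exact Subgroup.mem_bot.mp (this ▸ Subgroup.mem_map_of_mem τ (show (⟨x, hxC⟩ : C) ∈ Z.subgroupOf C from hx))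
  obtain ⟨k, hk⟩ := IsPGroup.iff_card.mp hx2
  have h2 : orderOf x ∣ Nat.card τ.ker := by
    rw [← Subgroup.orderOf_mk (H := C) x hxC]
    exact Subgroup.orderOf_dvd_natCard _ (show (⟨x, hxC⟩ : C) ∈ τ.ker from h1)
  have h3 : orderOf x ∣ 2 ^ k := by rw [← Nat.card_zpowers, hk]
  exact orderOf_eq_one_iff.mp (Nat.eq_one_of_dvd_coprimes
    ((Nat.prime_two.coprime_iff_not_dvd.mpr hker).pow_left k) h3 h2)

end Cfsg.Agent.Grp
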