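import Cfsg.Agent.Lib.Grp.LayerBalance
import Cfsg.Agent.Lib.Grp.AutSylow

/-!
L-balance: `L_{2'}(C_G(R)) ≤ L_{2'}(G)` for every 2-subgroup `R` (Gorenstein-Walter), and balance
of the `p`-layer under the Schreier property.
-/

set_option autoImplicit false

namespace Cfsg.Agent.Grp

open scoped Pointwise commutatorElement
open Subgroup

universe v

variable {G : Type*} [Group G] {p : ℕ}

/-- Reduction to a trivial `p'`-core. -/
theorem pLayerIn_le_of_quotient [Finite G] [Fact p.Prime] {R : Subgroup G} (hR : IsPGroup p R)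
    (h : pLayerIn p (Subgroup.centralizer
        (R.map (QuotientGroup.mk' (Cfsg.pPrimeCore p G)) : Set (G ⧸ Cfsg.pPrimeCore p G))) ≤
      Cfsg.pLayer p (G ⧸ Cfsg.pPrimeCore p G)) :
    pLayerIn p (Subgroup.centralizer (R : Set G)) ≤ Cfsg.pLayer p G := by
  set q := QuotientGroup.mk' (Cfsg.pPrimeCore p G)
  have := pLayer_normal (p := p) (G := G)
  have hmap : (pLayerIn p (Subgroup.centralizer (R : Set G))).map q ≤ (Cfsg.pLayer p G).map q := by
    rw [pLayer_map, ← pLayer_eq_layer pPrimeCore_quotient_bot]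
    refine (pLayerIn_map_le q (map_centralizer_pGroup hR).le ?_).trans h
    rw [Subgroup.subgroupOf_eq_top.mpr (map_centralizer_pGroup hR).ge]
    exact Subgroup.Normal.isSubnormal inferInstance
  set C := Subgroup.centralizer (R : Set G)
  rw [pLayerIn, Subgroup.map_le_iff_le_comap]
  refine pLayer_le_of_pElements fun K hK x hx hxp => ?_
  refine pElement_mem_of_sup (W := Cfsg.pLayer p G) (pPrimeCore_coprime (p := p) (G := G)) ?_ (by
    have := hxp.map C.subtype
    rwa [MonoidHom.map_zpowers] at this)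
  have h1 : q (x : G) ∈ (Cfsg.pLayer p G).map q :=
    hmap ⟨x, ⟨x, (le_sSup hK : K ≤ Cfsg.pLayer p C) hx, rfl⟩, rfl⟩
  rw [← Subgroup.mem_comap, Subgroup.comap_map_eq, QuotientGroup.ker_mk'] at h1
  exact h1

/-- The top of the climb: a Sylow 2-subgroup of the layer. -/
theorem pLayerIn_centralizer_sylow_le [Finite G] (hO : Cfsg.pPrimeCore 2 G = ⊥) {S : Subgroup G}
    (hSE : S ≤ Cfsg.layer G) (hS : IsPGroup 2 S) (hidx : ¬ 2 ∣ S.relIndex (Cfsg.layer G)) :
    pLayerIn 2 (Subgroup.centralizer (S : Set G)) ≤ layerCentralizer G := by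
  have := Fact.mk Nat.prime_two
  set E := Cfsg.layer G with hEdef
  set K := Subgroup.centralizer (E : Set G)
  have hKn : K.Normal := centralizer_normal' E
  set π := QuotientGroup.mk' K
  have hπE : (E.map π).Normal := (inferInstance : E.Normal).map π (QuotientGroup.mk'_surjective K)
  set C := Subgroup.centralizer (S : Set G)
  set Z := pLayerIn 2 C
  have hZ : ⁅Z.map π, Z.map π⁆ = Z.map π := by
    rw [← Subgroup.map_commutator, pLayerIn_perfect]
  have hcentE : Subgroup.centralizer ((E.map π : Subgroup (G ⧸ K)) : Set (G ⧸ K)) = ⊥ := by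
    rw [eq_bot_iff]
    intro z hz
    obtain ⟨x, rfl⟩ := QuotientGroup.mk'_surjective K z
    refine Subgroup.mem_bot.mpr ((QuotientGroup.eq_one_iff x).mpr ?_)
    have hx : ∀ a ∈ E, ⁅x, a⁆ ∈ E ⊓ K := fun a ha => ⟨by
      rw [commutatorElement_def]
      exact E.mul_mem ((inferInstance : E.Normal).conj_mem a ha x) (E.inv_mem ha), by
      refine (QuotientGroup.eq_one_iff _).mp (show π ⁅x, a⁆ = 1 from ?_)
      rw [map_commutatorElement, commutatorElement_eq_one_iff_mul_comm]
      exact (Subgroup.mem_centralizer_iff.mp hz _ ⟨a, ha, rfl⟩).symm⟩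
    suffices h : ⁅E, E⁆ ≤ Subgroup.centralizer {x} by
      rw [hEdef, layer_perfect, ← hEdef] at h
      exact Subgroup.mem_centralizer_iff.mpr fun y hy => Subgroup.mem_centralizer_singleton_iff.mp (h hy)
    rw [Subgroup.commutator_le]
    intro a ha b hb
    obtain ⟨hza, hza'⟩ := hx a ha
    obtain ⟨hzb, hzb'⟩ := hx b hb
    have key : ∀ {z1 z2 : G}, z1 ∈ K → z2 ∈ K → z2 ∈ E → ⁅z1 * a, z2 * b⁆ = ⁅a, b⁆ := by
      intro z1 z2 h1 h2 h2E
      have c1 : Commute a z1 := Subgroup.mem_centralizer_iff.mp h1 a ha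
      have c2 : Commute b z1 := Subgroup.mem_centralizer_iff.mp h1 b hb
      have c3 : Commute a z2 := Subgroup.mem_centralizer_iff.mp h2 a ha
      have c4 : Commute b z2 := Subgroup.mem_centralizer_iff.mp h2 b hb
      have c5 : Commute z2 z1 := Subgroup.mem_centralizer_iff.mp h1 z2 h2E
      rw [commutatorElement_mul_left_eq_conj_mul, commutatorElement_mul_right_eq_mul_conj,
        commutatorElement_mul_right_eq_mul_conj, commutatorElement_eq_one_iff_mul_comm.mpr c3.eq,
        commutatorElement_eq_one_iff_mul_comm.mpr c5.symm.eq,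
        commutatorElement_eq_one_iff_mul_comm.mpr c2.symm.eq]
      have c6 : Commute ⁅a, b⁆ z1 := by
        rw [commutatorElement_def]
        exact ((c1.mul_left c2).mul_left c1.inv_left).mul_left c2.inv_left
      have c7 : Commute ⁅a, b⁆ z2 := by
        rw [commutatorElement_def]
        exact ((c3.mul_left c4).mul_left c3.inv_left).mul_left c4.inv_left
      simp only [mul_one, one_mul, mul_inv_cancel]
      rw [← c7.eq, mul_inv_cancel_right, ← c6.eq, mul_inv_cancel_right]
    refine Subgroup.mem_centralizer_singleton_iff.mpr ?_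
    have e : x * ⁅a, b⁆ * x⁻¹ = ⁅a, b⁆ := by
      calc x * ⁅a, b⁆ * x⁻¹ = ⁅⁅x, a⁆ * a, ⁅x, b⁆ * b⁆ := by simp only [commutatorElement_def]; group
        _ = _ := key hza' hzb' hzb
    exact (mul_inv_eq_iff_eq_mul.mp e).symm
  have hOE : Cfsg.pPrimeCore 2 (E.map π : Subgroup (G ⧸ K)) = ⊥ := by
    set M := Cfsg.pPrimeCore 2 (E.map π : Subgroup (G ⧸ K))
    have hMn : (M.map (E.map π).subtype).Normal := normal_of_characteristic_map M
    set U := (M.map (E.map π).subtype).comap π ⊓ E
    have hcard : Odd (Nat.card (M.map (E.map π).subtype)) := by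
      rw [Subgroup.card_map_of_injective (Subgroup.subtype_injective _)]
      exact Nat.coprime_two_right.mp pPrimeCore_coprime
    have hUn : U.Normal := inferInstance
    have hUK : U ≤ K := by
      rw [Subgroup.le_centralizer_iff]
      refine sSup_le fun J hJ => ?_
      rcases component_le_or_commute hJ hUn.isSubnormal with h | h
      · exfalso
        set N : Subgroup J := (π.comp J.subtype).ker
        have hN : N ≤ Subgroup.center J := fun y hy => Subgroup.mem_center_iff.mpr fun w => Subtype.ext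
          (Subgroup.mem_centralizer_iff.mp
            (show (y : G) ∈ Subgroup.centralizer (E : Set G) from (QuotientGroup.eq_one_iff _).mp hy)
            w (IsComponent.le_layer hJ w.2))
        have h2 : N.index ∣ Nat.card (M.map (E.map π).subtype) := by
          rw [Subgroup.index_ker]
          refine Subgroup.card_dvd_of_le ?_
          rintro _ ⟨y, rfl⟩
          exact (h y.2).1
        exact Nat.not_even_iff_odd.mpr hcard (even_iff_two_dvd.mpr
          ((component_dvd_index hO hJ N hN).trans h2))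
      · exact Subgroup.commutator_eq_bot_iff_le_centralizer.mp h
    rw [eq_bot_iff]
    intro m hm
    obtain ⟨a, ha, ham⟩ := m.2
    have haU : a ∈ U := ⟨⟨m, hm, ham.symm⟩, ha⟩
    exact Subgroup.mem_bot.mpr (Subtype.ext (ham.symm.trans ((QuotientGroup.eq_one_iff a).mpr (hUK haU))))
  refine Subgroup.map_le_iff_le_comap.mpr (pLayer_le_of_pElements fun M hM x hx hxp => ?_)
  refine Subgroup.mem_sup_right ((QuotientGroup.eq_one_iff (x : G)).mp ?_)
  refine eq_one_of_perfect_le_centralizer_sylow (E := E.map π) (P := S.map π) (Subgroup.map_mono hSE)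
    (hS.map π) ?_ hOE hcentE hZ ?_ ⟨x, ⟨x, (le_sSup hM : M ≤ Cfsg.pLayer 2 C) hx, rfl⟩, rfl⟩ ?_
  · intro h
    refine hidx (h.trans ?_)
    have e : (S.map π).subgroupOf (E.map π) = (S.subgroupOf E).map (π.subgroupMap E) := by
      ext z
      constructor
      · rintro ⟨s, hs, hse⟩
        exact ⟨⟨s, hSE hs⟩, hs, Subtype.ext hse⟩
      · rintro ⟨s, hs, rfl⟩
        exact ⟨s, hs, rfl⟩
    rw [Subgroup.relIndex, e]
    exact Subgroup.index_map_dvd _ (MonoidHom.subgroupMap_surjective π E)
  · rintro _ ⟨z, hz, rfl⟩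
    rw [Subgroup.mem_centralizer_iff]
    rintro _ ⟨s, hs, rfl⟩
    rw [← map_mul, ← map_mul, Subgroup.mem_centralizer_iff.mp (pLayerIn_le C hz) s hs]
  · have := hxp.map (π.comp C.subtype)
    rw [MonoidHom.map_zpowers] at this
    exact this

/-- The climb through the 2-subgroups of the layer. -/
theorem pLayerIn_centralizer_le_layerCentralizer [Finite G] (hO : Cfsg.pPrimeCore 2 G = ⊥) :
    ∀ S ≤ Cfsg.layer G, IsPGroup 2 S →
      pLayerIn 2 (Subgroup.centralizer (S : Set G)) ≤ layerCentralizer G := by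
  have := Fact.mk Nat.prime_two
  set E := Cfsg.layer G
  intro S
  induction h : Nat.card E - Nat.card S using Nat.strong_induction_on generalizing S with
  | _ n ih =>
  intro hSE hS
  by_cases hidx : 2 ∣ S.relIndex E
  swap
  · exact pLayerIn_centralizer_sylow_le hO hSE hS hidx
  set N := Subgroup.normalizer (S : Set G)
  set D := E.subgroupOf N
  obtain ⟨T⟩ : Nonempty (Sylow 2 D) := Sylow.nonempty
  set T' := ((T : Subgroup D).map D.subtype).map N.subtype
  have hT'E : T' ≤ E := by rintro _ ⟨_, ⟨t, -, rfl⟩, rfl⟩; exact t.2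
  have hT'p : IsPGroup 2 T' := (T.isPGroup'.map _).map _
  have hSN : S ≤ N := Subgroup.le_normalizer
  have hSn : ((S.subgroupOf N).subgroupOf D).Normal := by
    have : (S.subgroupOf N).Normal := Subgroup.normal_subgroupOf_of_le_normalizer le_rfl
    infer_instance
  have hST : (S.subgroupOf N).subgroupOf D ≤ (T : Subgroup D) :=
    (le_pCore hSn (hS.comap_subtype.comap_subtype)).trans (pCore_le_sylow T)
  have hST' : S ≤ T' := fun s hs => ⟨⟨s, hSN hs⟩, ⟨⟨⟨s, hSN hs⟩, hSE hs⟩, hST hs, rfl⟩, rfl⟩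
  -- growth
  have hgrow : Nat.card S < Nat.card T' := by
    by_contra hle
    push Not at hle
    have heq : S = T' := Subgroup.eq_of_le_of_card_ge hST' hle
    obtain ⟨P, hP⟩ := (hS.comap_subtype (K := E)).exists_le_sylow
    have hlt : S.subgroupOf E < (P : Subgroup E) := lt_of_le_of_ne hP fun he =>
      P.not_dvd_index (by rw [← he]; exact hidx)
    obtain ⟨y, hy, hyS⟩ := SetLike.exists_of_lt (Transfer.lt_inf_normalizer P hlt)
    rw [← Subgroup.subgroupOf_normalizer_eq hSE] at hy
    have hyN : (y : G) ∈ N := hy.2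
    obtain ⟨U, hU⟩ := ((((P.isPGroup'.to_le (inf_le_left (b := (N.subgroupOf E)))).map E.subtype).comap_subtype
      (K := N)).comap_subtype (K := D)).exists_le_sylow
    obtain ⟨d, hd⟩ := MulAction.exists_smul_eq D U T
    have h1 : MulAut.conj d • (⟨⟨y, hyN⟩, y.2⟩ : D) ∈ ((d • U : Sylow 2 D) : Subgroup D) :=
      Subgroup.smul_mem_pointwise_smul _ _ _ (hU ⟨y, hy, rfl⟩)
    rw [hd] at h1
    have h2 : ((d : N) : G) * (y : G) * ((d : N) : G)⁻¹ ∈ T' := ⟨_, ⟨_, h1, rfl⟩, rfl⟩
    rw [← heq] at h2
    exact hyS ((Subgroup.mem_normalizer_iff.mp (d : N).2 (y : G)).mpr h2)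
  have hCN : Subgroup.centralizer (S : Set G) ≤ N := Subgroup.centralizer_le_normalizer _
  have hCn : ((Subgroup.centralizer (S : Set G)).subgroupOf N).Normal := by
    rw [← Subgroup.normalizerMonoidHom_ker]; infer_instance
  refine (pLayerIn_mono hCN hCn.isSubnormal).trans ?_
  have hLN : pLayerIn 2 N ≤ Subgroup.centralizer (S : Set G) := pLayerIn_normalizer_le_centralizer hS
  have hih := ih (Nat.card E - Nat.card T')
    (by have := Subgroup.card_le_of_le hT'E; omega) T' rfl hT'E hT'p
  rw [pLayerIn, Subgroup.map_le_iff_le_comap]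
  refine pLayer_le_step (W := (layerCentralizer G).comap N.subtype) (D := D)
    (T := (T : Subgroup D).map D.subtype) (N := ⊤)
    (fun y hy => Subgroup.mem_sup_left hy) (T.isPGroup'.map _) (Subgroup.map_subtype_le _)
    le_top le_top ?_
  rw [← Subgroup.map_le_iff_le_comap]
  refine (pLayerIn_map_le N.subtype (H' := Subgroup.centralizer (T' : Set G)) ?_ ?_).trans hih
  · rintro _ ⟨z, hz, rfl⟩
    rw [Subgroup.mem_centralizer_iff]
    rintro _ ⟨t, ht, rfl⟩
    exact congrArg Subtype.val (Subgroup.mem_centralizer_iff.mp hz.1 t ht)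
  · rw [Subgroup.subgroupOf_eq_top.mpr ?_]
    · exact Subgroup.Normal.isSubnormal inferInstance
    intro z hz
    have hzN : z ∈ N := hCN (Subgroup.centralizer_le (SetLike.coe_subset_coe.mpr hST') hz)
    exact ⟨⟨z, hzN⟩, ⟨Subgroup.mem_centralizer_iff.mpr fun t ht => Subtype.ext
      (Subgroup.mem_centralizer_iff.mp hz _ ⟨t, ht, rfl⟩), trivial⟩, rfl⟩

theorem lBalance_aux : ∀ (n : ℕ) (G : Type v) [Group G] [Finite G], Nat.card G = n →
    ∀ R : Subgroup G, IsPGroup 2 R →
      pLayerIn 2 (Subgroup.centralizer (R : Set G)) ≤ Cfsg.pLayer 2 G := by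
  intro n
  induction n using Nat.strong_induction_on with
  | _ n ih =>
  intro G _ _ hn R hR
  have := Fact.mk Nat.prime_two
  by_cases hO : Cfsg.pPrimeCore 2 G = ⊥
  swap
  · exact pLayerIn_le_of_quotient hR
      (ih _ (hn ▸ card_quotient_lt hO) _ rfl _ (hR.map _))
  rw [pLayer_eq_layer hO]
  set Q := Cfsg.pCore 2 G
  have hQn : Q.Normal := pCore_isNormal
  set R' := R ⊔ Q with hR'def
  have hR' : IsPGroup 2 R' := hR.to_sup_of_normal_right pCore_isPGroup
  have hMQ : pLayerIn 2 (Subgroup.centralizer (R : Set G)) ≤ Subgroup.centralizer (Q : Set G) :=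
    pLayerIn_centralizer_le_centralizer_pCore hR
  have hFQ : Cfsg.fittingSubgroup G = Q := fitting_eq_pCore hO
  refine perfect_le_layer (pLayerIn_perfect _) ?_ (by rwa [hFQ])
  set E := Cfsg.layer G with hEdef
  by_cases hE : E = ⊥
  · intro x _
    refine Subgroup.mem_sup_right (Subgroup.mem_centralizer_iff.mpr fun y hy => ?_)
    rw [← hEdef, hE, SetLike.mem_coe, Subgroup.mem_bot] at hy
    simp [hy]
  obtain ⟨J, hJ⟩ : ∃ J : Subgroup G, Cfsg.IsComponent J := by
    by_contra hno
    push Not at hno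
    exact hE (le_bot_iff.mp (sSup_le fun J hJ => absurd hJ (hno J)))
  obtain ⟨e, heE, hep, her, heJ, -⟩ := exists_orbit_element hO hR' hJ
  set Zc := E ⊓ Subgroup.centralizer (E : Set G)
  have hZcQ : Zc ≤ Q := hFQ ▸ layer_center_le_fitting
  set T := Subgroup.zpowers e ⊔ Zc with hTdef
  have hT : IsPGroup 2 T := by
    have := centralizer_normal' E
    exact hep.to_sup_of_normal_right (pCore_isPGroup.to_le hZcQ)
  have hTE : T ≤ E := sup_le (Subgroup.zpowers_le.mpr heE) inf_le_left
  have heT : e ∈ T := Subgroup.mem_sup_left (Subgroup.mem_zpowers e)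
  have hconj : ∀ r ∈ R', r * e * r⁻¹ ∈ T := fun r hr => by
    rw [show r * e * r⁻¹ = ⁅r, e⁆ * e by rw [commutatorElement_def]; group]
    exact T.mul_mem (Subgroup.mem_sup_right (her r hr)) heT
  have hRT : R' ≤ Subgroup.normalizer (T : Set G) := by
    intro r hr
    rw [mem_normalizer_iff_smul]
    refine Subgroup.eq_of_le_of_card_ge ?_ (card_conj_smul _ _).ge
    have hZn : Zc.Normal := by have := centralizer_normal' E; exact inferInstance
    rw [← map_conj_eq_smul, hTdef, Subgroup.map_sup, sup_le_iff, MonoidHom.map_zpowers,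
      Subgroup.zpowers_le]
    refine ⟨hconj r hr, ?_⟩
    rintro _ ⟨z, hz, rfl⟩
    exact Subgroup.mem_sup_right (hZn.conj_mem z hz r)
  set Y := Subgroup.normalizer (T : Set G)
  have hY : Y ≠ ⊤ := by
    intro h
    have hTn : T.Normal := Subgroup.normalizer_eq_top_iff.mp h
    refine heJ (Subgroup.mem_centralizer_iff.mpr fun y hy => ?_)
    have h1 := layer_le_centralizer_pCore (p := 2) (IsComponent.le_layer hJ hy)
    exact (Subgroup.mem_centralizer_iff.mp h1 e (le_pCore hTn hT heT)).symm
  -- the centralizer of `R' T`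
  set RT := R' ⊔ T
  have hRTp : IsPGroup 2 RT := hR'.to_sup_of_normal_right' hT hRT
  have hRTY : RT ≤ Y := sup_le hRT Subgroup.le_normalizer
  set C := Subgroup.centralizer (RT : Set G)
  have hCT : C ≤ Subgroup.centralizer (T : Set G) :=
    Subgroup.centralizer_le (SetLike.coe_subset_coe.mpr le_sup_right)
  have hCY : C ≤ Y := hCT.trans (Subgroup.centralizer_le_normalizer _)
  have hCYeq : C.subgroupOf Y = Subgroup.centralizer (RT.subgroupOf Y : Set Y) := by
    ext z
    constructor
    · exact fun hz => Subgroup.mem_centralizer_iff.mpr fun r hr =>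
        Subtype.ext (Subgroup.mem_centralizer_iff.mp hz _ hr)
    · exact fun hz => Subgroup.mem_centralizer_iff.mpr fun r hr =>
        congrArg Subtype.val (Subgroup.mem_centralizer_iff.mp hz ⟨r, hRTY hr⟩ hr)
  have hgood : pLayerIn 2 C ≤ layerCentralizer G := by
    refine le_trans ?_ (pLayerIn_centralizer_le_layerCentralizer hO T hTE hT)
    refine (pLayerIn_subgroupOf hCY).trans ?_
    have h1 : pLayerIn 2 (C.subgroupOf Y) ≤ Cfsg.pLayer 2 Y := by
      rw [hCYeq]
      exact ih _ (hn ▸ card_lt_of_ne_top hY) _ rfl _ hRTp.comap_subtype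
    refine (Subgroup.map_mono h1).trans ?_
    exact pLayerIn_le_of_le (Subgroup.centralizer_le_normalizer _) (pLayerIn_normalizer_le_centralizer hT)
  -- move to `N(R')`
  have hC' : Subgroup.centralizer (R' : Set G) ≤ Subgroup.centralizer (R : Set G) :=
    Subgroup.centralizer_le (SetLike.coe_subset_coe.mpr le_sup_left)
  have hCeq : Subgroup.centralizer (R : Set G) ⊓ Subgroup.centralizer (Q : Set G) ≤
      Subgroup.centralizer (R' : Set G) := by
    intro y hy
    have : R' ≤ Subgroup.centralizer {y} := sup_le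
      (fun r hr => Subgroup.mem_centralizer_singleton_iff.mpr (Subgroup.mem_centralizer_iff.mp hy.1 r hr))
      (fun r hr => Subgroup.mem_centralizer_singleton_iff.mpr (Subgroup.mem_centralizer_iff.mp hy.2 r hr))
    exact Subgroup.mem_centralizer_iff.mpr fun r hr => Subgroup.mem_centralizer_singleton_iff.mp (this hr)
  refine (pLayerIn_le_of_le hC' ((le_inf (pLayerIn_le _) hMQ).trans hCeq)).trans ?_
  set N := Subgroup.normalizer (R' : Set G)
  have hCN : Subgroup.centralizer (R' : Set G) ≤ N := Subgroup.centralizer_le_normalizer _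
  have hCn : ((Subgroup.centralizer (R' : Set G)).subgroupOf N).Normal := by
    rw [← Subgroup.normalizerMonoidHom_ker]; infer_instance
  refine (pLayerIn_mono hCN hCn.isSubnormal).trans ?_
  have hLN : pLayerIn 2 N ≤ Subgroup.centralizer (R' : Set G) := pLayerIn_normalizer_le_centralizer hR'
  have hTN : T ≤ N := by
    refine sup_le (Subgroup.zpowers_le.mpr ?_) (hZcQ.trans (le_sup_right.trans Subgroup.le_normalizer))
    rw [mem_normalizer_iff_smul]
    refine Subgroup.eq_of_le_of_card_ge ?_ (card_conj_smul _ _).ge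
    intro x hx
    have h1 := mem_smul_conj.mp hx
    rw [show x = (⁅(e⁻¹ * x * e), e⁆)⁻¹ * (e⁻¹ * x * e) by rw [commutatorElement_def]; group]
    exact R'.mul_mem (R'.inv_mem (Subgroup.mem_sup_right (hZcQ (her _ h1)))) h1
  rw [pLayerIn, Subgroup.map_le_iff_le_comap]
  refine pLayer_le_step (W := (layerCentralizer G).comap N.subtype) (D := E.subgroupOf N)
    (T := T.subgroupOf N) (N := (Subgroup.centralizer (R' : Set G)).subgroupOf N)
    (fun y hy => Subgroup.mem_sup_left hy) hT.comap_subtype (fun y hy => hTE hy)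
    (fun y hy => hLN (Subgroup.mem_map_of_mem N.subtype hy)) ?_ ?_
  · have hn : (R'.subgroupOf N).Normal := Subgroup.normal_subgroupOf_of_le_normalizer le_rfl
    have hO' := pPrimeCore_isNormal (p := 2) (G := N)
    intro y hy
    refine Subgroup.mem_centralizer_iff.mpr fun r hr => ?_
    obtain ⟨k, hk⟩ := IsPGroup.iff_card.mp (hR'.comap_subtype (K := N))
    have hdis : Disjoint (R'.subgroupOf N) (Cfsg.pPrimeCore 2 N) := disjoint_iff.mpr
      (inf_eq_bot_of_coprime (by rw [Subgroup.subgroupOf, hk]; exact pPrimeCore_coprime.symm.pow_left k))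
    exact congrArg Subtype.val (Subgroup.commute_of_normal_of_disjoint _ _ hn hO' hdis
      ⟨r, Subgroup.le_normalizer hr⟩ y hr hy)
  rw [← Subgroup.map_le_iff_le_comap]
  refine (pLayerIn_map_le N.subtype (H' := C) ?_ ?_).trans hgood
  · rintro _ ⟨z, hz, rfl⟩
    have : RT ≤ Subgroup.centralizer {(z : G)} := sup_le
      (fun r hr => Subgroup.mem_centralizer_singleton_iff.mpr (Subgroup.mem_centralizer_iff.mp hz.2 r hr))
      (fun t ht => Subgroup.mem_centralizer_singleton_iff.mpr
        (congrArg Subtype.val (Subgroup.mem_centralizer_iff.mp hz.1 ⟨t, hTN ht⟩ ht)))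
    exact Subgroup.mem_centralizer_iff.mpr fun r hr => Subgroup.mem_centralizer_singleton_iff.mp (this hr)
  · rw [Subgroup.subgroupOf_eq_top.mpr ?_]
    · exact Subgroup.Normal.isSubnormal inferInstance
    intro z hz
    have hzR : z ∈ Subgroup.centralizer (R' : Set G) :=
      Subgroup.centralizer_le (SetLike.coe_subset_coe.mpr (le_sup_left : R' ≤ RT)) hz
    exact ⟨⟨z, hCN hzR⟩, ⟨Subgroup.mem_centralizer_iff.mpr fun t ht => Subtype.ext
      (Subgroup.mem_centralizer_iff.mp (hCT hz) _ ht), hzR⟩, rfl⟩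

/-- L-balance. -/
theorem lBalance {G : Type v} [Group G] [Finite G] {R : Subgroup G} (hR : IsPGroup 2 R) :
    pLayerIn 2 (Subgroup.centralizer (R : Set G)) ≤ Cfsg.pLayer 2 G :=
  lBalance_aux _ G rfl R hR

/-- Balance of the `p`-layer under the Schreier property. -/
theorem pLayer_balance_of_schreier [Finite G] [Fact p.Prime]
    (hS : ∀ K : Subgroup (G ⧸ Cfsg.pPrimeCore p G), Cfsg.IsComponent K →
      Group.IsSolvable (Cfsg.Out (↥K ⧸ Subgroup.center ↥K)))
    {R : Subgroup G} (hR : IsPGroup p R) :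
    pLayerIn p (Subgroup.centralizer (R : Set G)) ≤ Cfsg.pLayer p G := by
  refine pLayerIn_le_of_quotient hR ?_
  rw [pLayer_eq_layer pPrimeCore_quotient_bot]
  exact pLayerIn_le_layer_of_schreier pPrimeCore_quotient_bot hS (hR.map _)

end Cfsg.Agent.Grp
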