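import Cfsg.Agent.Lib.Grp.Components
import Cfsg.Agent.Lib.Grp.LBalance
import Cfsg.Agent.Lib.Invol.BTheoremBase

/-!
A component of the centralizer of an involution, contained in the layer, against the components of
the whole group.
-/

set_option autoImplicit false
set_option linter.style.haveILetI false
set_option linter.unusedSectionVars false

namespace Cfsg.Agent.Grp.ComponentSplit

open scoped Pointwise commutatorElement
open Subgroup

universe u

variable {G : Type u} [Group G] [Finite G]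

theorem layer_normal : (Cfsg.layer G).Normal := by
  refine ⟨fun x hx g => ?_⟩
  have h1 : (Cfsg.layer G).map (MulAut.conj g).toMonoidHom ≤ Cfsg.layer G := layer_map_le (MulAut.conj g)
  exact h1 ⟨x, hx, rfl⟩

/-- The layer normalises each component. -/
theorem layer_le_normalizer {D : Subgroup G} (hD : Cfsg.IsComponent D) :
    Cfsg.layer G ≤ normalizer (D : Set G) := by
  refine sSup_le fun L hL => ?_
  by_cases h : L = D
  · exact h ▸ le_normalizer
  · exact (IsComponent.commute hL hD h).trans (centralizer_le_normalizer _)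

/-- The layer is the product of a component and its centralizer in the layer. -/
theorem exists_layer_decomp {D : Subgroup G} (hD : Cfsg.IsComponent D) {e : G}
    (he : e ∈ Cfsg.layer G) :
    ∃ d ∈ D, ∃ c ∈ centralizer (D : Set G), c ∈ Cfsg.layer G ∧ e = d * c := by
  have hle : Cfsg.layer G ≤ D ⊔ (Cfsg.layer G ⊓ centralizer (D : Set G)) := sSup_le fun L hL => by
    by_cases h : L = D
    · exact h ▸ le_sup_left
    · exact le_sup_of_le_right (le_inf (IsComponent.le_layer hL) (IsComponent.commute hL hD h))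
  have h1 := hle he
  rw [← SetLike.mem_coe, Subgroup.coe_mul_of_right_le_normalizer_left D _
    (inf_le_left.trans (layer_le_normalizer hD))] at h1
  obtain ⟨d, hd, c, hc, rfl⟩ := h1
  exact ⟨d, hd, c, hc.2, hc.1, rfl⟩

theorem exists_component_noncentral {L : Subgroup G} (hp : ⁅L, L⁆ = L) (hne : L ≠ ⊥)
    (hLE : L ≤ Cfsg.layer G) : ∃ D : Subgroup G, Cfsg.IsComponent D ∧ ⁅L, D⁆ ≠ ⊥ := by
  by_contra h
  push Not at h
  refine hne (eq_bot_of_perfect_of_comm hp fun x hx => ?_)
  have hle : Cfsg.layer G ≤ centralizer (L : Set G) := sSup_le fun D hD =>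
    le_centralizer_iff.1 (commutator_eq_bot_iff_le_centralizer.1 (h D hD))
  exact hle (hLE hx)

/-- The trichotomy: `L` is a component, or lies properly in an invariant one, or is the diagonal of
a pair of components. -/
theorem trichotomy {t : G} (ht : t * t = 1) {L : Subgroup G} (hLt : L ≤ centralizer ({t} : Set G))
    (hL : Cfsg.IsComponent (L.subgroupOf (centralizer ({t} : Set G)))) (hLE : L ≤ Cfsg.layer G) :
    ∃ D : Subgroup G, Cfsg.IsComponent D ∧ ⁅L, D⁆ ≠ ⊥ ∧
      (L = D ∨ (L < D ∧ MulAut.conj t • D = D) ∨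
        (MulAut.conj t • D ≠ D ∧
          (∀ x ∈ L, ∃ d ∈ D, x = d * (t * d * t⁻¹)) ∧ ∀ d ∈ D, d * (t * d * t⁻¹) ∈ L)) := by
  set C := centralizer ({t} : Set G) with hC
  have hLq : Cfsg.IsQuasisimple L := (isQuasisimple_subgroupOf_iff hLt).1 hL.2
  have hperf : ⁅L, L⁆ = L := Subgroup.isPerfect_iff.1 hLq.1
  have hLne : L ≠ ⊥ := (Subgroup.nontrivial_iff_ne_bot L).1 (IsQuasisimple.nontrivial hLq)
  obtain ⟨D, hD, hLD⟩ := exists_component_noncentral hperf hLne hLE
  refine ⟨D, hD, hLD, ?_⟩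
  have htinv : t⁻¹ = t := inv_eq_of_mul_eq_one_left ht
  have hEn := layer_normal (G := G)
  -- `C ∩ E` is normal in `C`
  set EC := (Cfsg.layer G).subgroupOf C with hEC
  haveI hECn : EC.Normal := hEn.subgroupOf C
  have hsub : ∀ S : Subgroup G, S ≤ Cfsg.layer G ⊓ C →
      (∀ e ∈ Cfsg.layer G ⊓ C, ∀ s ∈ S, e * s * e⁻¹ ∈ S) → (S.subgroupOf C).IsSubnormal := by
    intro S hS hn
    have hle : S.subgroupOf C ≤ EC := fun x hx => (hS hx).1
    refine IsSubnormal.step _ EC hle hECn.isSubnormal ?_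
    refine (normal_subgroupOf_iff_le_normalizer hle).2 fun e he => ?_
    refine mem_normalizer_iff.2 fun s => ⟨fun hs => hn _ ⟨he, e.2⟩ _ hs, fun hs => ?_⟩
    have h2 := hn _ ((Cfsg.layer G ⊓ C).inv_mem ⟨he, e.2⟩) _ hs
    show (s : G) ∈ S
    simpa [mul_assoc] using h2
  have hdich : ∀ S : Subgroup G, S ≤ Cfsg.layer G ⊓ C →
      (∀ e ∈ Cfsg.layer G ⊓ C, ∀ s ∈ S, e * s * e⁻¹ ∈ S) →
      L ≤ S ∨ ∀ x ∈ L, ∀ s ∈ S, x * s = s * x := by
    intro S hS hn
    rcases component_le_or_commute hL (hsub S hS hn) with h | h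
    · exact Or.inl fun x hx => h (show (⟨x, hLt hx⟩ : C) ∈ L.subgroupOf C from hx)
    · refine Or.inr fun x hx s hs => ?_
      exact congrArg Subtype.val (mem_centralizer_iff.1
        (commutator_eq_bot_iff_le_centralizer.1 h (show (⟨x, hLt hx⟩ : C) ∈ L.subgroupOf C from hx))
        ⟨s, (hS hs).2⟩ hs).symm
  have hDE : D ≤ Cfsg.layer G := IsComponent.le_layer hD
  have hDperf : ⁅D, D⁆ = D := IsComponent.perfect hD
  by_cases hinv : MulAut.conj t • D = D
  · by_cases hcent : D ≤ C
    · -- `t` centralises `D`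
      left
      rcases hdich D (le_inf hDE hcent)
        (fun e he d hd => (mem_normalizer_iff.1 (layer_le_normalizer hD he.1) d).1 hd) with h | h
      · exact IsComponent.eq_of_le (G := C) hL
          (IsComponent.subgroupOf hD hcent) (fun x hx => h hx) |> fun e => by
            have := congrArg (Subgroup.map C.subtype) e
            rwa [subgroupOf_map_subtype, subgroupOf_map_subtype, inf_eq_left.2 hLt,
              inf_eq_left.2 hcent] at this
      · exact absurd (commutator_eq_bot_iff_le_centralizer.2 fun x hx =>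
          mem_centralizer_iff.2 fun d hd => (h x hx d hd).symm) hLD
    right; left
    have hDn : ∀ e ∈ Cfsg.layer G ⊓ C, ∀ s ∈ D ⊓ C, e * s * e⁻¹ ∈ D ⊓ C := fun e he s hs =>
      ⟨(mem_normalizer_iff.1 (layer_le_normalizer hD he.1) s).1 hs.1,
        C.mul_mem (C.mul_mem he.2 hs.2) (C.inv_mem he.2)⟩
    rcases hdich (D ⊓ C) (inf_le_inf_right C hDE) hDn with h | h
    · exact ⟨lt_of_le_of_ne (h.trans inf_le_left) fun e => hcent (e ▸ hLt), hinv⟩
    · exfalso
      refine hLD (commutator_eq_bot_iff_le_centralizer.2 ?_)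
      set T := (D ⊓ C) ⊔ (Cfsg.layer G ⊓ centralizer (D : Set G)) with hT
      have hTn : Cfsg.layer G ⊓ centralizer (D : Set G) ≤ normalizer ((D ⊓ C : Subgroup G) : Set G) :=
        fun c hc => centralizer_le_normalizer _ (centralizer_le (fun x (hx : x ∈ D ⊓ C) => hx.1) hc.2)
      have hmem : ∀ x ∈ L, ∀ y ∈ L, ⁅x, y⁆ ∈ T := by
        intro x hx y hy
        obtain ⟨d, hd, c, hc, hcE, rfl⟩ := exists_layer_decomp hD (hLE hx)
        obtain ⟨d', hd', c', hc', hcE', rfl⟩ := exists_layer_decomp hD (hLE hy)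
        have c1 : ∀ z ∈ D, Commute z c := fun z hz => mem_centralizer_iff.1 hc z hz
        have c2 : ∀ z ∈ D, Commute z c' := fun z hz => mem_centralizer_iff.1 hc' z hz
        have hw : ⁅d * c, d' * c'⁆ = ⁅d, d'⁆ * ⁅c, c'⁆ := by
          simp only [commutatorElement_def, mul_inv_rev]
          calc d * c * (d' * c') * (c⁻¹ * d⁻¹) * (c'⁻¹ * d'⁻¹)
              = d * (c * d') * c' * c⁻¹ * d⁻¹ * c'⁻¹ * d'⁻¹ := by group
            _ = d * (d' * c) * c' * c⁻¹ * d⁻¹ * c'⁻¹ * d'⁻¹ := by rw [(c1 d' hd').symm.eq]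
            _ = d * d' * (c * c' * c⁻¹ * d⁻¹) * c'⁻¹ * d'⁻¹ := by group
            _ = d * d' * (d⁻¹ * (c * c' * c⁻¹)) * c'⁻¹ * d'⁻¹ := by
                rw [((((c1 _ (D.inv_mem hd)).mul_right (c2 _ (D.inv_mem hd))).mul_right
                  (c1 _ (D.inv_mem hd)).inv_right)).symm.eq]
            _ = d * d' * d⁻¹ * ((c * c' * c⁻¹ * c'⁻¹) * d'⁻¹) := by group
            _ = d * d' * d⁻¹ * (d'⁻¹ * (c * c' * c⁻¹ * c'⁻¹)) := by
                rw [((((c1 _ (D.inv_mem hd')).mul_right (c2 _ (D.inv_mem hd'))).mul_right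
                  (c1 _ (D.inv_mem hd')).inv_right).mul_right (c2 _ (D.inv_mem hd')).inv_right).symm.eq]
            _ = _ := by group
        rw [hw]
        refine mul_mem (mem_sup_left ⟨?_, ?_⟩) (mem_sup_right ⟨?_, ?_⟩)
        · exact D.mul_mem (D.mul_mem (D.mul_mem hd hd') (D.inv_mem hd)) (D.inv_mem hd')
        · -- fixed by `t`
          have ht' : ∀ z ∈ D, ∀ k ∈ centralizer (D : Set G), z * k ∈ C →
              ∃ m ∈ D, (∀ q ∈ D, Commute m q) ∧ t * z * t⁻¹ = z * m := by
            intro z hz k hk hzk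
            have htd : t * z * t⁻¹ ∈ D := by
              have := smul_mem_pointwise_smul z (MulAut.conj t) D hz
              rw [hinv] at this
              simpa using this
            refine ⟨z⁻¹ * (t * z * t⁻¹), D.mul_mem (D.inv_mem hz) htd, fun q hq => ?_, by group⟩
            have e1 : t * (z * k) * t⁻¹ = z * k := by
              rw [← mem_centralizer_singleton_iff.1 hzk, mul_inv_cancel_right]
            have e2 : z⁻¹ * (t * z * t⁻¹) = k * (t * k * t⁻¹)⁻¹ := by
              have : t * z * t⁻¹ = z * k * (t * k * t⁻¹)⁻¹ := by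
                conv_rhs => rw [← e1]
                group
              rw [this]; group
            rw [e2]
            have hk' : t * k * t⁻¹ ∈ centralizer (D : Set G) := by
              refine mem_centralizer_iff.2 fun r hr => ?_
              have hr' : t⁻¹ * r * t ∈ D := by
                have h3 : r ∈ MulAut.conj t • D := by rw [hinv]; exact hr
                exact mem_smul_conj.1 h3
              have := congrArg (fun y => t * y * t⁻¹) (mem_centralizer_iff.1 hk _ hr')
              simpa [mul_assoc] using this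
            exact (mem_centralizer_iff.1 ((centralizer _).mul_mem hk ((centralizer _).inv_mem hk')) q hq).symm
          obtain ⟨m, hm, hmc, em⟩ := ht' d hd c hc (hLt hx)
          obtain ⟨m', hm', hmc', em'⟩ := ht' d' hd' c' hc' (hLt hy)
          refine mem_centralizer_singleton_iff.2 ?_
          have key : t * ⁅d, d'⁆ * t⁻¹ = ⁅d, d'⁆ := by
            simp only [commutatorElement_def]
            calc t * (d * d' * d⁻¹ * d'⁻¹) * t⁻¹
                = (t * d * t⁻¹) * (t * d' * t⁻¹) * (t * d * t⁻¹)⁻¹ * (t * d' * t⁻¹)⁻¹ := by group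
              _ = d * (m * d') * m' * m⁻¹ * d⁻¹ * m'⁻¹ * d'⁻¹ := by rw [em, em']; group
              _ = d * (d' * m) * m' * m⁻¹ * d⁻¹ * m'⁻¹ * d'⁻¹ := by rw [(hmc d' hd').eq]
              _ = d * d' * ((m * m') * m⁻¹) * d⁻¹ * m'⁻¹ * d'⁻¹ := by group
              _ = d * d' * ((m' * m) * m⁻¹) * d⁻¹ * m'⁻¹ * d'⁻¹ := by rw [(hmc m' hm').eq]
              _ = d * d' * (m' * d⁻¹) * m'⁻¹ * d'⁻¹ := by group
              _ = d * d' * (d⁻¹ * m') * m'⁻¹ * d'⁻¹ := by rw [(hmc' _ (D.inv_mem hd)).eq]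
              _ = d * d' * d⁻¹ * d'⁻¹ := by group
          exact (mul_inv_eq_iff_eq_mul.1 key).symm
        · exact (Cfsg.layer G).mul_mem ((Cfsg.layer G).mul_mem ((Cfsg.layer G).mul_mem hcE hcE')
            ((Cfsg.layer G).inv_mem hcE)) ((Cfsg.layer G).inv_mem hcE')
        · exact (centralizer _).mul_mem ((centralizer _).mul_mem ((centralizer _).mul_mem hc hc')
            ((centralizer _).inv_mem hc)) ((centralizer _).inv_mem hc')
      have hLT : L ≤ T := by
        rw [← hperf, commutator_le]; exact hmem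
      rw [← hperf, commutator_le]
      intro x hx y hy
      have hdec : ∀ z ∈ L, ∃ w ∈ D ⊓ C, ∃ k ∈ centralizer (D : Set G), z = w * k := by
        intro z hz
        have h1 : z ∈ ((D ⊓ C) ⊔ (Cfsg.layer G ⊓ centralizer (D : Set G)) : Subgroup G) := hLT hz
        rw [← SetLike.mem_coe, Subgroup.coe_mul_of_right_le_normalizer_left _ _ hTn] at h1
        obtain ⟨w, hw, k, hk, rfl⟩ := h1
        exact ⟨w, hw, k, hk.2, rfl⟩
      obtain ⟨w, hw, k, hk, rfl⟩ := hdec x hx
      obtain ⟨w', hw', k', hk', rfl⟩ := hdec y hy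
      have e1 : Commute w (w' * k') := (h _ hy w hw).symm
      have e2 : Commute w k' := mem_centralizer_iff.1 hk' w hw.1
      have e3 : Commute w w' := by
        have := e1.mul_right e2.inv_right
        rwa [mul_inv_cancel_right] at this
      have e4 : Commute k w' := (mem_centralizer_iff.1 hk w' hw'.1 : Commute w' k).symm
      have : ⁅w * k, w' * k'⁆ = ⁅k, k'⁆ := by
        simp only [commutatorElement_def, mul_inv_rev]
        calc w * k * (w' * k') * (k⁻¹ * w⁻¹) * (k'⁻¹ * w'⁻¹)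
            = w * (k * w') * k' * k⁻¹ * (w⁻¹ * k'⁻¹) * w'⁻¹ := by group
          _ = w * (w' * k) * k' * k⁻¹ * (k'⁻¹ * w⁻¹) * w'⁻¹ := by
              rw [e4.eq, (e2.inv_inv).eq]
          _ = (w * w') * ((k * k' * k⁻¹ * k'⁻¹) * (w⁻¹ * w'⁻¹)) := by group
          _ = (w * w') * ((w⁻¹ * w'⁻¹) * (k * k' * k⁻¹ * k'⁻¹)) := by
              have hkk : k * k' * k⁻¹ * k'⁻¹ ∈ centralizer (D : Set G) :=
                (centralizer _).mul_mem ((centralizer _).mul_mem ((centralizer _).mul_mem hk hk')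
                  ((centralizer _).inv_mem hk)) ((centralizer _).inv_mem hk')
              rw [(mem_centralizer_iff.1 hkk _ (D.mul_mem (D.inv_mem hw.1) (D.inv_mem hw'.1))).symm]
          _ = (w * w') * (w⁻¹ * w'⁻¹) * (k * k' * k⁻¹ * k'⁻¹) := by group
          _ = _ := by
              rw [e3.eq, show w' * w * (w⁻¹ * w'⁻¹) = 1 by group, one_mul]
      rw [this]
      exact (centralizer _).mul_mem ((centralizer _).mul_mem ((centralizer _).mul_mem hk hk')
        ((centralizer _).inv_mem hk)) ((centralizer _).inv_mem hk')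
  right; right
  set Dt := MulAut.conj t • D with hDt
  have hDtc : Cfsg.IsComponent Dt := IsComponent.conj hD t
  have hcomm : ∀ x ∈ D, ∀ y ∈ Dt, Commute x y := fun x hx y hy =>
    mem_centralizer_iff.1 (IsComponent.commute hDtc hD hinv hy) x hx
  have hconj : ∀ x ∈ D, t * x * t⁻¹ ∈ Dt := fun x hx => by
    have := smul_mem_pointwise_smul x (MulAut.conj t) D hx
    simpa using this
  let φ : D →* G :=
    { toFun := fun d => (d : G) * (t * (d : G) * t⁻¹)
      map_one' := by simp
      map_mul' := fun a b => by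
        show (a : G) * b * (t * ((a : G) * b) * t⁻¹) = _
        calc (a : G) * b * (t * ((a : G) * b) * t⁻¹) = a * (b * (t * a * t⁻¹)) * (t * b * t⁻¹) := by group
          _ = a * ((t * a * t⁻¹) * b) * (t * b * t⁻¹) := by rw [(hcomm _ b.2 _ (hconj _ a.2)).eq]
          _ = _ := by group }
  set S := φ.range with hS
  have hSle : S ≤ Cfsg.layer G ⊓ C := by
    rintro _ ⟨d, rfl⟩
    refine ⟨(Cfsg.layer G).mul_mem (hDE d.2) (hEn.conj_mem _ (hDE d.2) t), mem_centralizer_singleton_iff.2 ?_⟩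
    show (d : G) * (t * (d : G) * t⁻¹) * t = t * ((d : G) * (t * (d : G) * t⁻¹))
    calc (d : G) * (t * (d : G) * t⁻¹) * t = ((d : G) * (t * (d : G) * t⁻¹)) * t := rfl
      _ = ((t * (d : G) * t⁻¹) * (d : G)) * t := by rw [(hcomm _ d.2 _ (hconj _ d.2)).eq]
      _ = t * (d : G) * t * (d : G) * t := by rw [htinv]
      _ = t * ((d : G) * (t * (d : G) * t⁻¹)) := by rw [htinv]; group
  have hSn : ∀ e ∈ Cfsg.layer G ⊓ C, ∀ s ∈ S, e * s * e⁻¹ ∈ S := by
    rintro e ⟨heE, heC⟩ _ ⟨d, rfl⟩
    refine ⟨⟨e * d * e⁻¹, (mem_normalizer_iff.1 (layer_le_normalizer hD heE) _).1 d.2⟩, ?_⟩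
    have h1 : t * e = e * t := (mem_centralizer_singleton_iff.1 heC).symm
    show e * (d : G) * e⁻¹ * (t * (e * (d : G) * e⁻¹) * t⁻¹) = e * ((d : G) * (t * (d : G) * t⁻¹)) * e⁻¹
    calc e * (d : G) * e⁻¹ * (t * (e * (d : G) * e⁻¹) * t⁻¹)
        = e * (d : G) * e⁻¹ * ((t * e) * (d : G) * (t * e)⁻¹) := by group
      _ = _ := by rw [h1]; group
  rcases hdich S hSle hSn with h | h
  · refine ⟨hinv, fun x hx => ?_, fun d hd => ?_⟩
    · obtain ⟨d, hd⟩ := h hx
      exact ⟨d, d.2, hd.symm⟩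
    · haveI : Nontrivial S :=
        (Subgroup.nontrivial_iff_ne_bot S).2 fun e => hLne (eq_bot_iff.2 (h.trans e.le))
      have hSq : Cfsg.IsQuasisimple S :=
        IsQuasisimple.of_surjective (f := φ.rangeRestrict) hD.2 φ.rangeRestrict_surjective
      have hSsub := hsub S hSle hSn
      have hSC : S ≤ C := hSle.trans inf_le_right
      have e := IsComponent.eq_of_le (G := C) hL
        ⟨hSsub, (isQuasisimple_subgroupOf_iff hSC).2 hSq⟩ (fun x hx => h hx)
      have : L = S := by
        have := congrArg (Subgroup.map C.subtype) e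
        rwa [subgroupOf_map_subtype, subgroupOf_map_subtype, inf_eq_left.2 hLt,
          inf_eq_left.2 hSC] at this
      exact this ▸ ⟨⟨d, hd⟩, rfl⟩
  · exfalso
    refine hLD ?_
    -- `L` centralises `D` modulo the centre, hence centralises it
    have hc1 : ⁅L, D⁆ ≤ D ⊓ centralizer (D : Set G) := by
      rw [commutator_le]
      intro x hx d hd
      have hxN := layer_le_normalizer hD (hLE hx)
      have hd' : x * d * x⁻¹ ∈ D := (mem_normalizer_iff.1 hxN d).1 hd
      have h1 : x * (d * (t * d * t⁻¹)) * x⁻¹ = d * (t * d * t⁻¹) := by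
        have h0 : x * (d * (t * d * t⁻¹)) = d * (t * d * t⁻¹) * x := h x hx (φ ⟨d, hd⟩) ⟨_, rfl⟩
        rw [h0, mul_inv_cancel_right]
      have h2 : x * (t * d * t⁻¹) * x⁻¹ ∈ Dt :=
        (mem_normalizer_iff.1 (layer_le_normalizer hDtc (hLE hx)) _).1 (hconj _ hd)
      have h3 : d⁻¹ * (x * d * x⁻¹) = (t * d * t⁻¹) * (x * (t * d * t⁻¹) * x⁻¹)⁻¹ := by
        rw [eq_mul_inv_iff_mul_eq, mul_assoc, show x * d * x⁻¹ * (x * (t * d * t⁻¹) * x⁻¹) =
          x * (d * (t * d * t⁻¹)) * x⁻¹ by group, h1, inv_mul_cancel_left]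
      have hz : d⁻¹ * (x * d * x⁻¹) ∈ D ⊓ centralizer (D : Set G) := by
        refine ⟨D.mul_mem (D.inv_mem hd) hd', mem_centralizer_iff.2 fun q hq => ?_⟩
        rw [h3]
        exact (hcomm q hq _ (Dt.mul_mem (hconj _ hd) (Dt.inv_mem h2))).eq
      have h4 : ⁅x, d⁆ = d * (d⁻¹ * (x * d * x⁻¹)) * d⁻¹ := by rw [commutatorElement_def]; group
      rw [h4, mem_centralizer_iff.1 hz.2 d hd, mul_inv_cancel_right]
      exact hz
    have h1 : ⁅⁅L, D⁆, D⁆ = ⊥ := commutator_eq_bot_iff_le_centralizer.2 (hc1.trans inf_le_right)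
    have h2 : ⁅⁅D, L⁆, D⁆ = ⊥ := by rw [commutator_comm D L]; exact h1
    have h3 := commutator_commutator_eq_bot_of_rotate h2 h1
    rwa [hDperf, commutator_comm] at h3

end Cfsg.Agent.Grp.ComponentSplit
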