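import Mathlib
import Cfsg.Agent.Lib.Grp.Basic
import Cfsg.Agent.Lib.Grp.Solvable
import Cfsg.Agent.Lib.Grp.Hall
import Cfsg.Agent.Lib.Grp.SchurZassenhaus

/-!
Conjugacy of subgroups of equal order in solvable groups with cyclic Sylow subgroups.
-/

set_option autoImplicit false

namespace Cfsg.Agent.Grp.SameOrder

open scoped Pointwise
open Subgroup

universe u

/-- All Sylow subgroups are cyclic, except possibly for the prime `r`. -/
def CycExcept (r : ℕ) (G : Type u) [Group G] : Prop :=
  ∀ p : ℕ, p.Prime → p ≠ r → ∀ P : Sylow p G, IsCyclic P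

variable {G : Type u} [Group G] [Finite G] {r : ℕ}

theorem CycExcept.quotient (h : CycExcept r G) (N : Subgroup G) [N.Normal] : CycExcept r (G ⧸ N) := by
  intro p hp hpr P
  haveI := Fact.mk hp
  obtain ⟨T, rfl⟩ := Sylow.mapSurjective_surjective (QuotientGroup.mk'_surjective N) p P
  haveI := h p hp hpr T
  exact isCyclic_of_surjective ((QuotientGroup.mk' N).subgroupMap (T : Subgroup G))
    ((QuotientGroup.mk' N).subgroupMap_surjective _)

theorem CycExcept.subgroup (h : CycExcept r G) (H : Subgroup G) : CycExcept r H := by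
  intro p hp hpr P
  haveI := Fact.mk hp
  obtain ⟨T, hT⟩ := (P.isPGroup'.map H.subtype).exists_le_sylow
  haveI := h p hp hpr T
  exact isCyclic_of_injective ((Subgroup.inclusion hT).comp
    ((P : Subgroup H).equivMapOfInjective H.subtype H.subtype_injective).toMonoidHom)
    ((Subgroup.inclusion_injective hT).comp (MulEquiv.injective _))

/-- A normal subgroup of prime order with cyclic Sylow subgroup lies in every subgroup of order divisible by it. -/
theorem le_of_dvd {p : ℕ} (hp : p.Prime) (hcyc : ∀ P : Sylow p G, IsCyclic P) (N : Subgroup G) [N.Normal]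
    (hN : Nat.card N = p) {H : Subgroup G} (hd : p ∣ Nat.card H) : N ≤ H := by
  haveI := Fact.mk hp
  obtain ⟨x, hx⟩ := exists_prime_orderOf_dvd_card' p hd
  have hxo : orderOf (x : G) = p := by rw [Subgroup.orderOf_coe, hx]
  obtain ⟨S, hS⟩ := (IsPGroup.of_card (n := 1) (by rw [Nat.card_zpowers, hxo, pow_one]) :
    IsPGroup p (Subgroup.zpowers (x : G))).exists_le_sylow
  obtain ⟨T, hT⟩ := (IsPGroup.of_card (n := 1) (by rw [hN, pow_one]) : IsPGroup p N).exists_le_sylow
  obtain ⟨g, hg⟩ := MulAction.exists_smul_eq G T S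
  have hNS : N ≤ S := by
    rw [← show MulAut.conj g • (T : Subgroup G) = S from congrArg Sylow.toSubgroup hg]
    intro y hy
    rw [Subgroup.mem_pointwise_smul_iff_inv_smul_mem]
    refine hT ?_
    simpa [MulAut.smul_def, mul_assoc] using (Subgroup.Normal.conj_mem' inferInstance y hy g)
  haveI := hcyc S
  have h1 : N.subgroupOf (S : Subgroup G) = (Subgroup.zpowers (x : G)).subgroupOf (S : Subgroup G) := by
    classical
    haveI := Fintype.ofFinite (S : Subgroup G)
    set U := N.subgroupOf (S : Subgroup G)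
    set V := (Subgroup.zpowers (x : G)).subgroupOf (S : Subgroup G)
    have hU : Nat.card U = p := by rw [Nat.card_congr (Subgroup.subgroupOfEquivOfLe hNS).toEquiv, hN]
    have hV : Nat.card V = p := by
      rw [Nat.card_congr (Subgroup.subgroupOfEquivOfLe hS).toEquiv, Nat.card_zpowers, hxo]
    have hsub : ∀ W : Subgroup (S : Subgroup G), Nat.card W = p →
        Finset.univ.filter (fun w => w ∈ W) = Finset.univ.filter (fun w : (S : Subgroup G) => w ^ p = 1) := by
      intro W hW
      refine Finset.eq_of_subset_of_card_le (fun w hw => ?_) ?_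
      · rw [Finset.mem_filter] at hw ⊢
        refine ⟨Finset.mem_univ _, ?_⟩
        have := pow_card_eq_one' (x := (⟨w, hw.2⟩ : W))
        rw [hW] at this
        exact congrArg Subtype.val this
      · refine (IsCyclic.card_pow_eq_one_le hp.pos).trans ?_
        rw [← Fintype.card_subtype, ← Nat.card_eq_fintype_card]
        exact hW.ge
    ext w
    have := Finset.ext_iff.mp ((hsub U hU).trans (hsub V hV).symm) w
    simpa using this
  intro y hy
  have h2 : (⟨y, hNS hy⟩ : (S : Subgroup G)) ∈ (Subgroup.zpowers (x : G)).subgroupOf (S : Subgroup G) :=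
    h1.le hy
  exact Subgroup.zpowers_le.mpr x.2 h2

/-- The inductive step: conjugate modulo `N`, equal or coprime to `N`. -/
theorem lift (N : Subgroup G) [N.Normal] (hs : Group.IsSolvable N) {H K : Subgroup G}
    (h : Nat.card H = Nat.card K) (hcase : (N ≤ H ∧ N ≤ K) ∨ (Nat.card N).Coprime (Nat.card H))
    (g : G) (hg : MulAut.conj (QuotientGroup.mk' N g) • H.map (QuotientGroup.mk' N) = K.map (QuotientGroup.mk' N)) :
    ∃ g : G, MulAut.conj g • H = K := by
  rw [conj_smul_map] at hg
  have hsup : MulAut.conj g • H ⊔ N = K ⊔ N := by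
    have := congrArg (Subgroup.comap (QuotientGroup.mk' N)) hg
    rwa [Subgroup.comap_map_eq, Subgroup.comap_map_eq, QuotientGroup.ker_mk'] at this
  rcases hcase with ⟨h1, h2⟩ | hcop
  · refine ⟨g, ?_⟩
    have hgN : N ≤ MulAut.conj g • H := by
      intro y hy
      rw [Subgroup.mem_pointwise_smul_iff_inv_smul_mem]
      refine h1 ?_
      simpa [MulAut.smul_def, mul_assoc] using (Subgroup.Normal.conj_mem' inferInstance y hy g)
    rwa [sup_eq_left.mpr hgN, sup_eq_left.mpr h2] at hsup
  · obtain ⟨n, -, hn⟩ := exists_conj_of_le_sup (N := N) (H := MulAut.conj g • H) (K := K)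
      (by rw [Subgroup.normalizer_eq_top N]; exact le_top)
      (le_sup_left.trans (hsup.symm.le.trans (sup_comm _ _).le))
      (by rw [card_conj_smul, h]) (by rw [card_conj_smul]; exact hcop) (Or.inl hs)
    exact ⟨n * g, by rw [← conj_smul_conj_smul, hn]⟩

omit [Finite G] in
theorem card_map_mk (N : Subgroup G) [N.Normal] (H : Subgroup G) :
    Nat.card (H.map (QuotientGroup.mk' N)) * Nat.card ↥(N ⊓ H) = Nat.card H := by
  have h := Subgroup.card_mul_index (((QuotientGroup.mk' N).subgroupMap H).ker)
  rw [Subgroup.index_ker, MonoidHom.range_eq_top.mpr ((QuotientGroup.mk' N).subgroupMap_surjective H),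
    Subgroup.card_top] at h
  rw [mul_comm, ← h]
  congr 1
  have e : ((QuotientGroup.mk' N).subgroupMap H).ker = N.subgroupOf H := by
    ext y
    rw [MonoidHom.mem_ker, Subgroup.mem_subgroupOf, ← QuotientGroup.eq_one_iff, Subtype.ext_iff]
    rfl
  rw [e, ← Subgroup.inf_subgroupOf_right, Nat.card_congr (Subgroup.subgroupOfEquivOfLe inf_le_right).toEquiv]

omit [Finite G] in
theorem card_map_eq_of_case (N : Subgroup G) [N.Normal] {H K : Subgroup G}
    (h : Nat.card H = Nat.card K) (hcase : (N ≤ H ∧ N ≤ K) ∨ (Nat.card N).Coprime (Nat.card H))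
    (hpos : 0 < Nat.card N) :
    Nat.card (H.map (QuotientGroup.mk' N)) = Nat.card (K.map (QuotientGroup.mk' N)) := by
  have h1 := card_map_mk N H
  have h2 := card_map_mk N K
  rcases hcase with ⟨a, b⟩ | hcop
  · rw [inf_eq_left.mpr a] at h1
    rw [inf_eq_left.mpr b] at h2
    exact Nat.eq_of_mul_eq_mul_right hpos (by rw [h1, h2, h])
  · have e1 : Nat.card ↥(N ⊓ H) = 1 := Nat.eq_one_of_dvd_coprimes hcop
      (Subgroup.card_dvd_of_le inf_le_left) (Subgroup.card_dvd_of_le inf_le_right)
    have e2 : Nat.card ↥(N ⊓ K) = 1 := Nat.eq_one_of_dvd_coprimes (h ▸ hcop)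
      (Subgroup.card_dvd_of_le inf_le_left) (Subgroup.card_dvd_of_le inf_le_right)
    rw [e1, mul_one] at h1
    rw [e2, mul_one] at h2
    rw [h1, h2, h]

theorem card_eq_prime_of_cyclic {p : ℕ} [Fact p.Prime] {N : Subgroup G} (hcyc : ∀ P : Sylow p G, IsCyclic P)
    (hN : N ≠ ⊥) (hexp : ∀ x ∈ N, x ^ p = 1) : Nat.card N = p := by
  have hNp : IsPGroup p N := fun x => ⟨1, Subtype.ext (by simpa using hexp x x.2)⟩
  obtain ⟨S, hS⟩ := hNp.exists_le_sylow
  haveI := hcyc S
  haveI : IsCyclic N := isCyclic_of_injective (Subgroup.inclusion hS) (Subgroup.inclusion_injective hS)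
  obtain ⟨g, hg⟩ := IsCyclic.exists_ofOrder_eq_natCard (α := N)
  have hd : orderOf g ∣ p := orderOf_dvd_of_pow_eq_one (Subtype.ext (by simpa using hexp g g.2))
  rcases (Nat.dvd_prime (Fact.out : p.Prime)).mp hd with e | e
  · exact absurd (Subgroup.eq_bot_of_card_eq N (hg ▸ e)) hN
  · rw [← hg, e]

/-- Subgroups of equal order prime to `r` are conjugate. -/
theorem conj_of_coprime : ∀ (n : ℕ) (G : Type u) [Group G] [Finite G], Nat.card G = n → Group.IsSolvable G →
    CycExcept r G → ∀ H K : Subgroup G, Nat.card H = Nat.card K →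
    (∀ p : ℕ, p.Prime → p ∣ Nat.card H → p ≠ r) → ∃ g : G, MulAut.conj g • H = K := by
  intro n
  induction n using Nat.strong_induction_on with
  | _ n ih =>
    intro G _ _ hn hs hc H K h hr
    haveI := hs
    by_cases hH : Nat.card H = 1
    · refine ⟨1, ?_⟩
      rw [map_one, one_smul, Subgroup.eq_bot_of_card_eq H hH, Subgroup.eq_bot_of_card_eq K (h ▸ hH)]
    have hnt : (⊤ : Subgroup G) ≠ ⊥ := fun e => hH (by
      rw [le_bot_iff.mp ((le_top (a := H)).trans e.le), Subgroup.card_bot])
    obtain ⟨N, hNn, hN, -, hNmin⟩ := exists_minimal_normal_le hnt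
    haveI := hNn
    have hNs : Group.IsSolvable N := inferInstance
    obtain ⟨-, p, hp, hexp⟩ := minimal_normal_solvable hNs hN hNmin
    haveI := Fact.mk hp
    have hNp : IsPGroup p N := fun x => ⟨1, Subtype.ext (by simpa using hexp x x.2)⟩
    have hcase : (N ≤ H ∧ N ≤ K) ∨ (Nat.card N).Coprime (Nat.card H) := by
      by_cases hd : p ∣ Nat.card H
      · have hpr := hr p hp hd
        have hcN := card_eq_prime_of_cyclic (hc p hp hpr) hN hexp
        exact Or.inl ⟨le_of_dvd hp (hc p hp hpr) N hcN hd, le_of_dvd hp (hc p hp hpr) N hcN (h ▸ hd)⟩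
      · obtain ⟨e, he⟩ := hNp.exists_card_eq
        exact Or.inr (he ▸ (hp.coprime_iff_not_dvd.mpr hd).pow_left e)
    have hcard := card_map_eq_of_case N h hcase Nat.card_pos
    obtain ⟨q, hq⟩ := ih _ (hn ▸ card_quotient_lt hN) (G ⧸ N) rfl inferInstance (hc.quotient N) _ _ hcard
      (fun s hs' hd => hr s hs' (hd.trans ⟨_, (card_map_mk N H).symm⟩))
    obtain ⟨g, rfl⟩ := QuotientGroup.mk'_surjective N q
    exact lift N hNs h hcase g hq

/-- Subgroups of prime power order and of equal order are conjugate. -/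
def PConj (G : Type u) [Group G] : Prop :=
  ∀ p : ℕ, p.Prime → ∀ H K : Subgroup G, IsPGroup p H → IsPGroup p K → Nat.card H = Nat.card K →
    ∃ g : G, K = H.map (MulAut.conj g).toMonoidHom

theorem eq_of_pConj (hD : PConj G) {p : ℕ} (hp : p.Prime) {N X : Subgroup G} [N.Normal]
    (hN : IsPGroup p N) (hX : IsPGroup p X) (h : Nat.card N = Nat.card X) : X = N := by
  obtain ⟨g, rfl⟩ := hD p hp N X hN hX h
  rw [map_conj_eq_smul]
  exact mem_normalizer_iff_smul.mp (by rw [Subgroup.normalizer_eq_top N]; exact Subgroup.mem_top g)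

theorem le_of_pConj (hD : PConj G) {p : ℕ} [Fact p.Prime] {N : Subgroup G} [N.Normal]
    (hN : IsPGroup p N) {H : Subgroup G} (hd : Nat.card N ∣ Nat.card H) : N ≤ H := by
  obtain ⟨e, he⟩ := hN.exists_card_eq
  obtain ⟨X, hX⟩ := Sylow.exists_subgroup_card_pow_prime (G := H) p (n := e) (he ▸ hd)
  have hc : Nat.card (X.map H.subtype) = p ^ e := by rw [Subgroup.card_map_of_injective H.subtype_injective, hX]
  rw [← eq_of_pConj hD (Fact.out : p.Prime) hN (IsPGroup.of_card hc) (by rw [hc, he])]
  exact Subgroup.map_subtype_le X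

/-- `PConj` passes to the quotient by a minimal normal subgroup of prime order, or by any normal `p`-subgroup. -/
theorem PConj.quotient (hD : PConj G) {p : ℕ} [Fact p.Prime] (N : Subgroup G) [N.Normal]
    (hN : IsPGroup p N) : PConj (G ⧸ N) := by
  intro q hq A B hA hB h
  haveI := Fact.mk hq
  let π := QuotientGroup.mk' N
  have hπ : Function.Surjective π := QuotientGroup.mk'_surjective N
  have key : ∀ A : Subgroup (G ⧸ N), IsPGroup q A → ∃ A' : Subgroup G, IsPGroup q A' ∧ A'.map π = A ∧
      Nat.card A' = Nat.card A * (if q = p then Nat.card N else 1) := by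
    intro A hA
    have hcard : Nat.card (A.comap π) = Nat.card A * Nat.card N := by
      have := card_map_mk N (A.comap π)
      rw [Subgroup.map_comap_eq_self_of_surjective hπ, inf_eq_left.mpr (fun x hx => by
        show π x ∈ A
        rw [show π x = 1 from (QuotientGroup.eq_one_iff x).mpr hx]; exact one_mem A)] at this
      exact this.symm
    by_cases hqp : q = p
    · subst hqp
      refine ⟨A.comap π, hA.comap_of_ker_isPGroup π (by rw [QuotientGroup.ker_mk']; exact hN),
        Subgroup.map_comap_eq_self_of_surjective hπ A, by rw [if_pos rfl, hcard]⟩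
    · obtain ⟨T⟩ : Nonempty (Sylow q (A.comap π)) := inferInstance
      obtain ⟨a, ha⟩ := hA.exists_card_eq
      obtain ⟨b, hb⟩ := hN.exists_card_eq
      have hTc : Nat.card T = q ^ a := by
        rw [Sylow.card_eq_multiplicity, hcard, ha, hb,
          Nat.factorization_mul (pow_ne_zero _ hq.ne_zero) (pow_ne_zero _ (Fact.out : p.Prime).ne_zero),
          Finsupp.add_apply, hq.factorization_pow, (Fact.out : p.Prime).factorization_pow,
          Finsupp.single_eq_same, Finsupp.single_eq_of_ne hqp, add_zero]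
      set A' := (T : Subgroup (A.comap π)).map (A.comap π).subtype
      have hA'c : Nat.card A' = q ^ a := by
        rw [Subgroup.card_map_of_injective (A.comap π).subtype_injective, hTc]
      have hA'q : IsPGroup q A' := IsPGroup.of_card hA'c
      refine ⟨A', hA'q, ?_, by rw [if_neg hqp, mul_one, hA'c, ha]⟩
      refine Subgroup.eq_of_le_of_card_ge ?_ ?_
      · rintro _ ⟨_, ⟨x, -, rfl⟩, rfl⟩; exact x.2
      · have := card_map_mk N A'
        have e1 : Nat.card ↥(N ⊓ A') = 1 := Nat.eq_one_of_dvd_coprimes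
          (((Nat.coprime_primes (Fact.out : p.Prime) hq).mpr (Ne.symm hqp)).pow b a)
          (hb ▸ Subgroup.card_dvd_of_le inf_le_left) (hA'c ▸ Subgroup.card_dvd_of_le inf_le_right)
        rw [e1, mul_one] at this
        rw [this, hA'c, ha]
  obtain ⟨A', hA', eA, cA⟩ := key A hA
  obtain ⟨B', hB', eB, cB⟩ := key B hB
  obtain ⟨g, hg⟩ := hD q hq A' B' hA' hB' (by rw [cA, cB, h])
  refine ⟨π g, ?_⟩
  rw [← eB, hg, ← eA, map_conj_eq_smul, map_conj_eq_smul, conj_smul_map]

/-- Subgroups of equal order are conjugate. -/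
theorem conj_of_pConj : ∀ (n : ℕ) (G : Type u) [Group G] [Finite G], Nat.card G = n → Group.IsSolvable G →
    CycExcept r G → PConj G → ∀ H K : Subgroup G, Nat.card H = Nat.card K →
    ∃ g : G, MulAut.conj g • H = K := by
  intro n
  induction n using Nat.strong_induction_on with
  | _ n ih =>
    intro G _ _ hn hs hc hD H K h
    haveI := hs
    by_cases hH : Nat.card H = 1
    · refine ⟨1, ?_⟩
      rw [map_one, one_smul, Subgroup.eq_bot_of_card_eq H hH, Subgroup.eq_bot_of_card_eq K (h ▸ hH)]
    have hnt : (⊤ : Subgroup G) ≠ ⊥ := fun e => hH (by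
      rw [le_bot_iff.mp ((le_top (a := H)).trans e.le), Subgroup.card_bot])
    obtain ⟨N, hNn, hN, -, hNmin⟩ := exists_minimal_normal_le hnt
    haveI := hNn
    have hNs : Group.IsSolvable N := inferInstance
    obtain ⟨-, p, hp, hexp⟩ := minimal_normal_solvable hNs hN hNmin
    haveI := Fact.mk hp
    have hNp : IsPGroup p N := fun x => ⟨1, Subtype.ext (by simpa using hexp x x.2)⟩
    obtain ⟨e, he⟩ := hNp.exists_card_eq
    by_cases hcase : (N ≤ H ∧ N ≤ K) ∨ (Nat.card N).Coprime (Nat.card H)
    · have hcard := card_map_eq_of_case N h hcase Nat.card_pos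
      obtain ⟨q, hq⟩ := ih _ (hn ▸ card_quotient_lt hN) (G ⧸ N) rfl inferInstance (hc.quotient N)
        (hD.quotient N hNp) _ _ hcard
      obtain ⟨g, rfl⟩ := QuotientGroup.mk'_surjective N q
      exact lift N hNs h hcase g hq
    push Not at hcase
    obtain ⟨hnle, hncop⟩ := hcase
    have hnd : ¬ Nat.card N ∣ Nat.card H := fun hd =>
      hnle (le_of_pConj hD hNp hd) (le_of_pConj hD hNp (h ▸ hd))
    have hpH : p ∣ Nat.card H := by
      by_contra hd
      exact hncop (he ▸ (hp.coprime_iff_not_dvd.mpr hd).pow_left e)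
    have hpr : p = r := by
      by_contra hne
      exact hnd (by rw [card_eq_prime_of_cyclic (hc p hp hne) hN hexp]; exact hpH)
    subst hpr
    -- the `p`-parts lie in `N`
    have hsplit : ∀ H : Subgroup G, ¬ Nat.card N ∣ Nat.card H → ∃ A L : Subgroup G, A ≤ N ∧ IsPGroup p A ∧
        A ⊔ L = H ∧ L ≤ Subgroup.normalizer (A : Set G) ∧
        Nat.card A = p ^ (Nat.card H).factorization p ∧ Nat.card A * Nat.card L = Nat.card H := by
      intro H hnd
      obtain ⟨T⟩ : Nonempty (Sylow p H) := inferInstance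
      set A := (T : Subgroup H).map H.subtype with hA
      have hAc : Nat.card A = p ^ (Nat.card H).factorization p := by
        rw [Subgroup.card_map_of_injective H.subtype_injective]; exact T.card_eq_multiplicity
      have hlt : (Nat.card H).factorization p ≤ e := by
        by_contra hlt
        exact hnd (he ▸ (pow_dvd_pow p (by omega)).trans (Nat.ordProj_dvd _ p))
      obtain ⟨X, hX⟩ := Sylow.exists_subgroup_card_pow_prime (G := N) p
        (n := (Nat.card H).factorization p) (he ▸ pow_dvd_pow p hlt)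
      have hXc : Nat.card (X.map N.subtype) = p ^ (Nat.card H).factorization p := by
        rw [Subgroup.card_map_of_injective N.subtype_injective, hX]
      obtain ⟨g, hg⟩ := hD p hp (X.map N.subtype) A (IsPGroup.of_card hXc) (IsPGroup.of_card hAc)
        (hXc.trans hAc.symm)
      have hAN : A ≤ N := by
        rw [hg]
        rintro _ ⟨x, hx, rfl⟩
        exact Subgroup.Normal.conj_mem inferInstance x (Subgroup.map_subtype_le X hx) g
      have hTn : (T : Subgroup H) = N.subgroupOf H := by
        refine T.3 ?_ (fun x hx => hAN ⟨x, hx, rfl⟩) |>.symm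
        exact hNp.comap_of_injective H.subtype H.subtype_injective
      haveI : (T : Subgroup H).Normal := hTn ▸ inferInstance
      obtain ⟨L, hL⟩ := Subgroup.exists_right_complement'_of_coprime (N := (T : Subgroup H)) (by
        rw [T.card_eq_multiplicity]
        exact (hp.coprime_iff_not_dvd.mpr T.not_dvd_index).pow_left _)
      refine ⟨A, L.map H.subtype, hAN, T.isPGroup'.map _, ?_, ?_, hAc, ?_⟩
      · rw [hA, ← Subgroup.map_sup, hL.sup_eq_top, ← MonoidHom.range_eq_map, Subgroup.range_subtype]
      · refine le_trans ?_ (Subgroup.le_normalizer_map H.subtype)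
        refine Subgroup.map_mono ?_
        rw [Subgroup.normalizer_eq_top]; exact le_top
      · rw [Subgroup.card_map_of_injective H.subtype_injective, Subgroup.card_map_of_injective H.subtype_injective]
        exact hL.card_mul
    obtain ⟨A, L, -, hAp, rfl, hLA, hAc, hALc⟩ := hsplit H hnd
    obtain ⟨B, M, -, hBp, rfl, hMB, hBc, hBMc⟩ := hsplit K (h ▸ hnd)
    have hAB : Nat.card A = Nat.card B := by rw [hAc, hBc, h]
    have hLM : Nat.card L = Nat.card M := by
      have := hALc.trans (h.trans hBMc.symm)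
      rw [hAB] at this
      exact Nat.eq_of_mul_eq_mul_left Nat.card_pos this
    have hLr : ∀ q : ℕ, q.Prime → q ∣ Nat.card L → q ≠ p := by
      rintro q hq hd rfl
      have h1 : q ^ ((Nat.card ↥(A ⊔ L)).factorization q + 1) ∣ Nat.card ↥(A ⊔ L) := by
        conv_rhs => rw [← hALc, hAc]
        rw [pow_succ]
        exact mul_dvd_mul_left _ hd
      exact Nat.pow_succ_factorization_not_dvd Nat.card_pos.ne' hq h1
    -- conjugate `B` to `A`
    obtain ⟨g, hg⟩ := hD p hp A B hAp hBp hAB
    rw [map_conj_eq_smul] at hg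
    have hLB : MulAut.conj g • L ≤ Subgroup.normalizer (B : Set G) := by
      intro y hy
      rw [Subgroup.mem_pointwise_smul_iff_inv_smul_mem] at hy
      have h1 := mem_normalizer_iff_smul.mp (hLA hy)
      rw [mem_normalizer_iff_smul, hg, conj_smul_conj_smul]
      have e' : y * g = g * ((MulAut.conj g)⁻¹ • y) := by simp [MulAut.smul_def, mul_assoc]
      rw [e', ← conj_smul_conj_smul, h1]
    set NB := Subgroup.normalizer (B : Set G)
    obtain ⟨c, hc'⟩ := conj_of_coprime (r := p) _ NB rfl inferInstance (hc.subgroup NB)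
      ((MulAut.conj g • L).subgroupOf NB) (M.subgroupOf NB) (by
        rw [Nat.card_congr (Subgroup.subgroupOfEquivOfLe hLB).toEquiv,
          Nat.card_congr (Subgroup.subgroupOfEquivOfLe hMB).toEquiv, card_conj_smul, hLM])
      (by rw [Nat.card_congr (Subgroup.subgroupOfEquivOfLe hLB).toEquiv, card_conj_smul]; exact hLr)
    have hc'' : MulAut.conj (c : G) • (MulAut.conj g • L) = M := by
      have := congrArg (Subgroup.map NB.subtype) hc'
      rw [← conj_smul_map, Subgroup.map_subgroupOf_eq_of_le hLB, Subgroup.map_subgroupOf_eq_of_le hMB] at this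
      exact this
    refine ⟨(c : G) * g, ?_⟩
    rw [Subgroup.smul_sup, ← conj_smul_conj_smul, ← hg, mem_normalizer_iff_smul.mp c.2,
      ← conj_smul_conj_smul, hc'']

end Cfsg.Agent.Grp.SameOrder
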