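import Cfsg.Agent.Lib.Grp.Baer
import Cfsg.Agent.Lib.Invol.Sylow

/-!
# Fixed point free involutions of a two-transitive group on a two-power number of points

Let a finite group act faithfully and two-transitively on `2 ^ k` points, so that a commutator of two elements fixing a
point `p` fixes another point only if it is trivial, and so that the elements of odd order fixing two points fix a common
third one.  Then a swapper of two points centralises the odd elements fixing them, so the product of two fixed point free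
conjugate involutions has two-power order, and the fixed point free involutions lie in `O_2`.
-/

set_option autoImplicit false

namespace Cfsg.Agent.Grp.FpfInvolution

universe u v

variable (B : Type u) (Y : Type v) [Group B] [MulAction B Y]

/-- The elements of odd order fixing two points. -/
def oddFix (p r : Y) : Set B := {x | x • p = p ∧ x • r = r ∧ Odd (orderOf x)}

/-- The hypotheses: two-transitivity, commutators in a point stabiliser move all other points, and a third point. -/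
structure Setting : Prop where
  two_trans : ∀ p r p' r' : Y, p ≠ r → p' ≠ r' → ∃ g : B, g • p = p' ∧ g • r = r'
  comm_free : ∀ p r : Y, r ≠ p → ∀ g h : B, g • p = p → h • p = p →
    (g * h * g⁻¹ * h⁻¹) • r = r → g * h * g⁻¹ * h⁻¹ = 1
  third : ∀ p r : Y, p ≠ r → ∃ t : Y, t ≠ p ∧ t ≠ r ∧ ∀ x ∈ oddFix B Y p r, x • t = t

variable {B Y}

theorem Setting.commute_of_two (S : Setting B Y) {p r : Y} (hpr : r ≠ p) {g h : B} (hgp : g • p = p)
    (hgr : g • r = r) (hhp : h • p = p) (hhr : h • r = r) : g * h = h * g := by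
  have h' := S.comm_free p r hpr g h hgp hhp (by
    rw [mul_smul, mul_smul, mul_smul, inv_smul_eq_iff.2 hhr.symm, inv_smul_eq_iff.2 hgr.symm, hhr, hgr])
  exact commutatorElement_eq_one_iff_mul_comm.1 (by rw [commutatorElement_def]; exact h')

theorem mem_oddFix_conj {p r : Y} {g x : B} (hx : x ∈ oddFix B Y p r) :
    g * x * g⁻¹ ∈ oddFix B Y (g • p) (g • r) := by
  obtain ⟨h1, h2, h3⟩ := hx
  refine ⟨?_, ?_, ?_⟩
  · rw [mul_smul, mul_smul, inv_smul_smul, h1]
  · rw [mul_smul, mul_smul, inv_smul_smul, h2]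
  · rwa [← MulAut.conj_apply, MulEquiv.orderOf_eq]

/-- The odd elements of a pair stabiliser fixed by a further pair are all the odd elements of that pair. -/
theorem Setting.oddFix_eq [Finite B] (S : Setting B Y) {p r a b : Y} (hpr : p ≠ r) (hab : a ≠ b)
    (ha : ∀ x ∈ oddFix B Y p r, x • a = a) (hb : ∀ x ∈ oddFix B Y p r, x • b = b) :
    oddFix B Y a b = oddFix B Y p r := by
  obtain ⟨g, hga, hgb⟩ := S.two_trans a b p r hab hpr
  have hsub : oddFix B Y p r ⊆ oddFix B Y a b := fun x hx => ⟨ha x hx, hb x hx, hx.2.2⟩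
  refine (Set.eq_of_subset_of_ncard_le hsub ?_ (Set.toFinite _)).symm
  refine Set.ncard_le_ncard_of_injOn (fun x => g * x * g⁻¹) (fun x hx => ?_) ?_ (Set.toFinite _)
  · have := mem_oddFix_conj (g := g) hx
    rwa [hga, hgb] at this
  · intro x _ y _ hxy
    exact mul_left_cancel (mul_right_cancel hxy)

/-- A swapper of two points centralises the odd elements fixing both. -/
theorem Setting.swap_commute [Finite B] (S : Setting B Y) {p r : Y} (hpr : p ≠ r) {τ : B} (hτp : τ • p = r)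
    (hτr : τ • r = p) {x : B} (hx : x ∈ oddFix B Y p r) : τ * x = x * τ := by
  set A := oddFix B Y p r with hA
  set Φ : Set Y := {y | ∀ x ∈ A, x • y = y} with hΦ
  have hpΦ : p ∈ Φ := fun x hx => hx.1
  have hrΦ : r ∈ Φ := fun x hx => hx.2.1
  -- an element moving the pair inside `Φ` normalises `A`
  have hnorm : ∀ g : B, g • p ∈ Φ → g • r ∈ Φ → ∀ x ∈ A, g * x * g⁻¹ ∈ A := fun g h1 h2 x hx => by
    have hne : g • p ≠ g • r := fun h => hpr (MulAction.injective g h)
    rw [hA, ← S.oddFix_eq hpr hne h1 h2]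
    exact mem_oddFix_conj hx
  -- the elements fixing `p` among these centralise `A`
  have hstab : ∀ g : B, g • p = p → (∀ x ∈ A, g * x * g⁻¹ ∈ A) → ∀ x ∈ A, g * x * g⁻¹ = x := by
    intro g hgp hg x hx
    obtain ⟨-, hgxr, -⟩ := hg x hx
    have h := S.comm_free p r hpr.symm g x hgp hx.1
      (by rw [mul_smul, inv_smul_eq_iff.2 hx.2.1.symm]; exact hgxr)
    calc g * x * g⁻¹ = g * x * g⁻¹ * x⁻¹ * x := by group
      _ = x := by rw [h, one_mul]
  -- two elements moving `p` and normalising `A` induce the same map on `A`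
  have hN : ∀ g : B, (∀ x ∈ A, g * x * g⁻¹ ∈ A) → ∀ y ∈ Φ, g • y ∈ Φ := by
    intro g hg y hy x hx
    have hinj : Function.Injective (fun a : A => (⟨g * a.1 * g⁻¹, hg a.1 a.2⟩ : A)) := fun a b h => by
      exact Subtype.ext (mul_left_cancel (mul_right_cancel (Subtype.ext_iff.1 h)))
    obtain ⟨⟨w, hw⟩, hwx⟩ := (Finite.surjective_of_injective hinj) ⟨x, hx⟩
    have hwx' : g * w * g⁻¹ = x := Subtype.ext_iff.1 hwx
    rw [← hwx', mul_smul, mul_smul, inv_smul_smul, hy w hw]
  have hsame : ∀ g h : B, (∀ x ∈ A, g * x * g⁻¹ ∈ A) → (∀ x ∈ A, h * x * h⁻¹ ∈ A) → g • p ≠ p → h • p ≠ p →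
      ∀ x ∈ A, g * x * g⁻¹ = h * x * h⁻¹ := by
    intro g h hg hh hgp hhp x hx
    have hgΦ := hN g hg p hpΦ
    have hhΦ := hN h hh p hpΦ
    obtain ⟨s, hsp, hsg⟩ := S.two_trans p (g • p) p (h • p) (Ne.symm hgp) (Ne.symm hhp)
    have hsA : ∀ x ∈ A, s * x * s⁻¹ ∈ A := by
      intro x hx
      have hA' : oddFix B Y p (g • p) = A := S.oddFix_eq hpr (Ne.symm hgp) hpΦ hgΦ
      have hA'' : oddFix B Y p (h • p) = A := S.oddFix_eq hpr (Ne.symm hhp) hpΦ hhΦ
      rw [← hA'] at hx
      have := mem_oddFix_conj (g := s) hx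
      rwa [hsp, hsg, hA''] at this
    have hk : (h⁻¹ * (s * g)) • p = p := by rw [mul_smul, mul_smul, hsg, inv_smul_smul]
    have hsgx : s * g * x * (s * g)⁻¹ = g * x * g⁻¹ := by
      calc s * g * x * (s * g)⁻¹ = s * (g * x * g⁻¹) * s⁻¹ := by group
        _ = g * x * g⁻¹ := hstab s hsp hsA _ (hg x hx)
    have hkA : ∀ x ∈ A, h⁻¹ * (s * g) * x * (h⁻¹ * (s * g))⁻¹ ∈ A := by
      intro x hx
      have hinj : Function.Injective (fun a : A => (⟨h * a.1 * h⁻¹, hh a.1 a.2⟩ : A)) := fun a b h' => by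
        exact Subtype.ext (mul_left_cancel (mul_right_cancel (Subtype.ext_iff.1 h')))
      obtain ⟨⟨w, hw⟩, hwx⟩ := (Finite.surjective_of_injective hinj) ⟨_, hsA _ (hg x hx)⟩
      have hwx' : h * w * h⁻¹ = s * (g * x * g⁻¹) * s⁻¹ := Subtype.ext_iff.1 hwx
      have : h⁻¹ * (s * g) * x * (h⁻¹ * (s * g))⁻¹ = w := by
        calc h⁻¹ * (s * g) * x * (h⁻¹ * (s * g))⁻¹ = h⁻¹ * (s * (g * x * g⁻¹) * s⁻¹) * h := by group
          _ = h⁻¹ * (h * w * h⁻¹) * h := by rw [hwx']
          _ = w := by group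
      rwa [this]
    have h1 := hstab _ hk hkA x hx
    calc g * x * g⁻¹ = h * (h⁻¹ * (s * g) * x * (h⁻¹ * (s * g))⁻¹) * h⁻¹ := by rw [← hsgx]; group
      _ = h * x * h⁻¹ := by rw [h1]
  obtain ⟨t, htp, htr, htA⟩ := S.third p r hpr
  obtain ⟨h, hhp, hhr⟩ := S.two_trans p r t p hpr htp
  have hτA := hnorm τ (hτp ▸ hrΦ) (hτr ▸ hpΦ)
  have hhA := hnorm h (hhp ▸ htA) (hhr ▸ hpΦ)
  have hτhA : ∀ x ∈ A, τ * h * x * (τ * h)⁻¹ ∈ A := fun x hx => by
    rw [show τ * h * x * (τ * h)⁻¹ = τ * (h * x * h⁻¹) * τ⁻¹ by group]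
    exact hτA _ (hhA x hx)
  have hτ1 : τ • p ≠ p := fun h' => hpr (h'.symm.trans hτp)
  have hh1 : h • p ≠ p := by rwa [hhp]
  have hτh1 : (τ * h) • p ≠ p := fun h' => htr (MulAction.injective τ (by
    rw [mul_smul, hhp] at h'; change τ • t = τ • r; rw [h', hτr]))
  have e1 := hsame τ h hτA hhA hτ1 hh1 x hx
  have e2 := hsame τ (τ * h) hτA hτhA hτ1 hτh1 x hx
  have e3 : h * x * h⁻¹ = x := by
    have e4 : τ * x * τ⁻¹ = τ * (h * x * h⁻¹) * τ⁻¹ := e2.trans (by group)
    exact (mul_left_cancel (mul_right_cancel e4)).symm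
  calc τ * x = τ * x * τ⁻¹ * τ := by group
    _ = x * τ := by rw [e1, e3]

/-- A fixed point free involution lies in `O_2`. -/
theorem Setting.mem_pCore [Finite B] [Finite Y] (S : Setting B Y) {k : ℕ} (hY : Nat.card Y = 2 ^ k) {i : B}
    (hi : orderOf i = 2) (hfree : ∀ y : Y, i • y ≠ y) : i ∈ Cfsg.pCore 2 B := by
  haveI : Fact (Nat.Prime 2) := ⟨Nat.prime_two⟩
  refine baer_suzuki i fun g => ?_
  set j := g * i * g⁻¹ with hj
  have hj2 : orderOf j = 2 := by rw [hj, ← MulAut.conj_apply, MulEquiv.orderOf_eq, hi]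
  have hm0 : orderOf (i * j) ≠ 0 := (orderOf_pos _).ne'
  by_cases hpow : ∀ r : ℕ, r.Prime → r ∣ orderOf (i * j) → r = 2
  · obtain ⟨a, ha⟩ : ∃ a, orderOf (i * j) = 2 ^ a := ⟨_, Nat.eq_prime_pow_of_unique_prime_dvd hm0 (fun {r} => hpow r)⟩
    exact Cfsg.Agent.Invol.isPGroup_closure_pair hi hj2 ha
  exfalso
  push Not at hpow
  obtain ⟨r, hr, hrm, hr2⟩ := hpow
  haveI : Fact r.Prime := ⟨hr⟩
  set x := (i * j) ^ (orderOf (i * j) / r) with hxdef
  have hx : orderOf x = r := orderOf_pow_orderOf_div hm0 hrm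
  have hii : i * i = 1 := by rw [← pow_two, ← hi, pow_orderOf_eq_one]
  have hjj : j * j = 1 := by rw [← pow_two, ← hj2, pow_orderOf_eq_one]
  have hinv : i * x * i⁻¹ = x⁻¹ := by
    rw [hxdef, ← conj_pow, ← inv_pow]
    congr 1
    rw [mul_inv_rev, inv_eq_of_mul_eq_one_right hjj, inv_eq_of_mul_eq_one_right hii]
    calc i * (i * j) * i = i * i * j * i := by group
      _ = j * i := by rw [hii, one_mul]
  have hP : IsPGroup r (Subgroup.zpowers x) := IsPGroup.of_card (n := 1) (by rw [Nat.card_zpowers, hx, pow_one])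
  have hnd : ¬ r ∣ Nat.card Y := by
    rw [hY]; exact fun h => hr2 ((Nat.prime_dvd_prime_iff_eq hr Nat.prime_two).1 (hr.dvd_of_dvd_pow h))
  obtain ⟨p, hp⟩ := hP.nonempty_fixed_point_of_prime_not_dvd_card Y hnd
  have hxp : x • p = p := hp ⟨x, Subgroup.mem_zpowers x⟩
  have hxi : x • (i • p) = i • p := by
    have : x * i = i * x⁻¹ := by
      rw [← hinv, inv_eq_of_mul_eq_one_right hii]
      calc x * i = i * i * x * i := by rw [hii, one_mul]
        _ = i * (i * x * i) := by group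
    rw [← mul_smul, this, mul_smul, inv_smul_eq_iff.2 hxp.symm]
  have hswap : i • (i • p) = p := by rw [← mul_smul, hii, one_smul]
  have hxA : x ∈ oddFix B Y p (i • p) := ⟨hxp, hxi, by rw [hx]; exact hr.odd_of_ne_two hr2⟩
  have hcomm := S.swap_commute (Ne.symm (hfree p)) rfl hswap hxA
  have hxx : x * x = 1 := by
    have h1 : x = x⁻¹ := by
      rw [← hinv, hcomm]
      group
    nth_rw 2 [h1]; exact mul_inv_cancel x
  have : r ∣ 2 := hx ▸ orderOf_dvd_of_pow_eq_one (by rw [pow_two, hxx])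
  exact hr2 ((Nat.prime_dvd_prime_iff_eq hr Nat.prime_two).1 this)

/-- A faithful transitive group on a non-trivial two-power number of points has a fixed point free involution. -/
theorem exists_free_involution [Finite B] [Finite Y] [FaithfulSMul B Y] [MulAction.IsPretransitive B Y] {k : ℕ}
    (hY : Nat.card Y = 2 ^ k) (hk : k ≠ 0) : ∃ i : B, orderOf i = 2 ∧ ∀ y : Y, i • y ≠ y := by
  haveI : Fact (Nat.Prime 2) := ⟨Nat.prime_two⟩
  obtain ⟨p₀⟩ : Nonempty Y := (Nat.card_pos_iff.1 (by rw [hY]; positivity)).1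
  obtain ⟨P⟩ : Nonempty (Sylow 2 B) := inferInstance
  set D := MulAction.stabilizer B p₀ with hD
  have hDi : D.index = 2 ^ k := by rw [hD, MulAction.index_stabilizer_of_transitive, hY]
  have hcop : ((P : Subgroup B).index).Coprime D.index := by
    rw [hDi]; exact (Nat.Coprime.pow_right k ((Nat.Prime.coprime_iff_not_dvd Nat.prime_two).2 P.not_dvd_index).symm)
  have htr : ∀ y : Y, ∃ s ∈ (P : Subgroup B), s • p₀ = y := by
    have hrel : D.index ≤ ((P : Subgroup B) ⊓ D).relIndex (P : Subgroup B) := by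
      have h1 : (P : Subgroup B).index * D.index ∣ ((P : Subgroup B) ⊓ D).index :=
        hcop.mul_dvd_of_dvd_of_dvd (Subgroup.index_dvd_of_le inf_le_left) (Subgroup.index_dvd_of_le inf_le_right)
      rw [← Subgroup.relIndex_mul_index (inf_le_left : (P : Subgroup B) ⊓ D ≤ P)] at h1
      have h2 := Nat.le_of_dvd (Nat.pos_of_ne_zero (mul_ne_zero Subgroup.FiniteIndex.index_ne_zero
        Subgroup.FiniteIndex.index_ne_zero)) h1
      exact Nat.le_of_mul_le_mul_right (by rwa [mul_comm] at h2) (Nat.pos_of_ne_zero Subgroup.FiniteIndex.index_ne_zero)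
    have horb : MulAction.orbit (P : Subgroup B) p₀ = Set.univ := by
      refine Set.eq_of_subset_of_ncard_le (Set.subset_univ _) ?_ (Set.toFinite _)
      rw [Set.ncard_univ, hY, ← hDi, ← MulAction.index_stabilizer]
      refine hrel.trans (le_of_eq ?_)
      rw [Subgroup.relIndex]
      congr 1
      ext s
      simp [Subgroup.mem_subgroupOf, hD, Subgroup.smul_def]
    intro y
    obtain ⟨⟨s, hs⟩, h⟩ := (horb.ge (Set.mem_univ y) : y ∈ MulAction.orbit (P : Subgroup B) p₀)
    exact ⟨s, hs, h⟩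
  have hPne : Nontrivial (P : Subgroup B) := by
    rw [Subgroup.nontrivial_iff_ne_bot]
    intro hbot
    have : Subsingleton Y := ⟨fun a b => by
      obtain ⟨s, hs, rfl⟩ := htr a
      obtain ⟨t, ht, rfl⟩ := htr b
      rw [hbot, Subgroup.mem_bot] at hs ht
      rw [hs, ht]⟩
    have := Finite.card_le_one_iff_subsingleton.2 this
    rw [hY] at this
    exact absurd this (not_le.2 (Nat.one_lt_two_pow hk))
  haveI := P.isPGroup'.center_nontrivial
  obtain ⟨c, hc⟩ := exists_prime_orderOf_dvd_card' (G := Subgroup.center (P : Subgroup B)) 2 (by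
    obtain ⟨n, hn0, hn⟩ := (IsPGroup.nontrivial_iff_card (P.isPGroup'.to_subgroup _)).1 ‹_›
    exact hn ▸ dvd_pow_self 2 hn0.ne')
  have hord : orderOf ((c : (P : Subgroup B)) : B) = 2 := by rw [Subgroup.orderOf_coe, Subgroup.orderOf_coe, hc]
  refine ⟨_, hord, fun y hy => ?_⟩
  have hone : ((c : (P : Subgroup B)) : B) = 1 := FaithfulSMul.eq_of_smul_eq_smul fun w : Y => by
    obtain ⟨a, ha, rfl⟩ := htr y
    obtain ⟨b, hb, rfl⟩ := htr w
    have hcomm : ∀ s ∈ (P : Subgroup B), s * (c : (P : Subgroup B)) = ((c : (P : Subgroup B)) : B) * s := fun s hs =>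
      congrArg Subtype.val ((Subgroup.mem_center_iff.1 c.2) ⟨s, hs⟩)
    rw [one_smul, ← mul_smul, ← hcomm b hb, mul_smul]
    congr 1
    rw [← mul_smul, ← hcomm a ha, mul_smul] at hy
    exact MulAction.injective a hy
  rw [hone, orderOf_one] at hord
  exact absurd hord (by norm_num)

/-- Such a setting does not exist when `O_2` is trivial. -/
theorem Setting.false_of_pCore [Finite B] [Finite Y] [FaithfulSMul B Y] (S : Setting B Y) {k : ℕ}
    (hY : Nat.card Y = 2 ^ k) (hk : k ≠ 0) (hcore : Cfsg.pCore 2 B = ⊥) : False := by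
  haveI : MulAction.IsPretransitive B Y := ⟨fun a b => by
    obtain ⟨c, hc⟩ : ∃ c : Y, c ≠ a := by
      by_contra h
      push Not at h
      have := Finite.card_le_one_iff_subsingleton.2 (⟨fun x y => (h x).trans (h y).symm⟩ : Subsingleton Y)
      rw [hY] at this
      exact absurd this (not_le.2 (Nat.one_lt_two_pow hk))
    obtain ⟨d, hd⟩ : ∃ d : Y, d ≠ b := by
      by_cases h : c = b
      · exact ⟨a, fun h' => hc (h.trans h'.symm)⟩
      · exact ⟨c, h⟩
    obtain ⟨g, hg, -⟩ := S.two_trans a c b d hc.symm hd.symm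
    exact ⟨g, hg⟩⟩
  obtain ⟨i, hi, hfree⟩ := exists_free_involution (B := B) hY hk
  have h1 := S.mem_pCore hY hi hfree
  rw [hcore, Subgroup.mem_bot] at h1
  rw [h1, orderOf_one] at hi
  exact absurd hi (by norm_num)

/-- The third point, from an element of order three which fixes only `p` and generates a subgroup normal in the
stabiliser of `p`. -/
theorem third_of_order_three {p r : Y} {ω : B} (hω : orderOf ω = 3) (hωp : ω • p = p) (hωr : ω • r ≠ r)
    (hpr : p ≠ r) (hnorm : ∀ g : B, g • p = p → g * ω * g⁻¹ = ω ∨ g * ω * g⁻¹ = ω⁻¹) :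
    ∃ t : Y, t ≠ p ∧ t ≠ r ∧ ∀ x ∈ oddFix B Y p r, x • t = t := by
  have hω2 : orderOf ω ≠ 1 := by omega
  refine ⟨ω • r, fun h => hpr (MulAction.injective ω (hωp.trans h.symm)), hωr, fun x hx => ?_⟩
  have hc : x * ω * x⁻¹ = ω := by
    rcases hnorm x hx.1 with h | h
    · exact h
    exfalso
    have hodd : ∀ m : ℕ, x ^ (2 * m) * ω * (x ^ (2 * m))⁻¹ = ω := by
      intro m
      induction m with
      | zero => simp
      | succ m ih =>
        rw [show 2 * (m + 1) = 2 + 2 * m by ring, pow_add, mul_inv_rev, pow_two]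
        calc x * x * x ^ (2 * m) * ω * ((x ^ (2 * m))⁻¹ * (x * x)⁻¹)
            = x * (x * (x ^ (2 * m) * ω * (x ^ (2 * m))⁻¹) * x⁻¹) * x⁻¹ := by group
          _ = ω := by rw [ih, h]; rw [show x * ω⁻¹ * x⁻¹ = (x * ω * x⁻¹)⁻¹ by group, h, inv_inv]
    obtain ⟨m, hm⟩ := hx.2.2
    have hpow : x ^ (2 * m) = x⁻¹ := by
      refine eq_inv_of_mul_eq_one_left ?_
      rw [← pow_succ, ← hm, pow_orderOf_eq_one]
    have h1 := hodd m
    rw [hpow, inv_inv] at h1
    have h2 : ω⁻¹ = ω := by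
      rw [← h]
      calc x * ω * x⁻¹ = x * (x⁻¹ * ω * x) * x⁻¹ := by rw [h1]
        _ = ω := by group
    have : orderOf ω ∣ 2 := orderOf_dvd_of_pow_eq_one (by rw [pow_two]; nth_rw 1 [← h2]; exact inv_mul_cancel ω)
    rw [hω] at this
    exact absurd this (by decide)
  have : x * ω = ω * x := by
    calc x * ω = x * ω * x⁻¹ * x := by group
      _ = ω * x := by rw [hc]
  rw [← mul_smul, this, mul_smul, hx.2.1]

end Cfsg.Agent.Grp.FpfInvolution
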