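import Mathlib

/-!
# A linear character that sees an inversion

If an operator group acts on an abelian group of odd order that is not a square, and one of the operators
inverts the group, then some linear character of the operator group is nontrivial on this operator: the
determinant on a layer of odd dimension.
-/

set_option autoImplicit false

namespace Cfsg.Agent.OddSquareDet

universe u v

variable {O : Type v} [CommGroup O] {H : Type u} [Group H]

/-- The action on an invariant subgroup. -/
def restrictAct (φ : H →* MulAut O) (S : Subgroup O) (hS : ∀ g : H, ∀ x ∈ S, φ g x ∈ S) :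
    H →* MulAut S where
  toFun g :=
    { toFun := fun x => ⟨φ g x, hS g x x.2⟩
      invFun := fun x => ⟨φ g⁻¹ x, hS g⁻¹ x x.2⟩
      left_inv := fun x => Subtype.ext (by
        show φ g⁻¹ (φ g (x : O)) = x
        rw [← MulAut.mul_apply, ← map_mul, inv_mul_cancel, map_one, MulAut.one_apply])
      right_inv := fun x => Subtype.ext (by
        show φ g (φ g⁻¹ (x : O)) = x
        rw [← MulAut.mul_apply, ← map_mul, mul_inv_cancel, map_one, MulAut.one_apply])
      map_mul' := fun x y => Subtype.ext (map_mul (φ g) (x : O) (y : O)) }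
  map_one' := MulEquiv.ext fun x => Subtype.ext (by show φ 1 (x : O) = x; rw [map_one, MulAut.one_apply])
  map_mul' g h := MulEquiv.ext fun x => Subtype.ext (by
    show φ (g * h) (x : O) = φ g (φ h (x : O))
    rw [map_mul, MulAut.mul_apply])

theorem coe_restrictAct (φ : H →* MulAut O) (S : Subgroup O) (hS : ∀ g : H, ∀ x ∈ S, φ g x ∈ S)
    (g : H) (x : S) : ((restrictAct φ S hS g x : S) : O) = φ g x := rfl

/-- The determinant of an action on a finite vector space of odd dimension. -/
theorem exists_hom_unit_module {V : Type v} [AddCommGroup V] [Finite V] {p : ℕ} [Fact p.Prime]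
    [Module (ZMod p) V] (hp : p ≠ 2) {d : ℕ} (hd : Nat.card V = p ^ d) (hdodd : Odd d)
    (f : H → V →+ V) (hone : ∀ x, f 1 x = x) (hmul : ∀ g h x, f (g * h) x = f g (f h x))
    {u : H} (hu : ∀ x, f u x = -x) :
    ∃ ψ : H →* (ZMod p)ˣ, ψ u ≠ 1 := by
  classical
  have hfin : Module.finrank (ZMod p) V = d := by
    have h1 : Nat.card V = Nat.card (ZMod p) ^ Module.finrank (ZMod p) V := Module.natCard_eq_pow_finrank
    rw [Nat.card_zmod, hd] at h1
    exact (Nat.pow_right_injective (Fact.out : p.Prime).two_le h1).symm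
  let δ : H →* ZMod p :=
    { toFun := fun g => LinearMap.det ((f g).toZModLinearMap p)
      map_one' := by
        rw [show (f 1).toZModLinearMap p = LinearMap.id from LinearMap.ext fun x => by
          rw [AddMonoidHom.coe_toZModLinearMap, hone]; rfl, LinearMap.det_id]
      map_mul' := fun g h => by
        rw [show (f (g * h)).toZModLinearMap p = ((f g).toZModLinearMap p).comp ((f h).toZModLinearMap p)
          from LinearMap.ext fun x => by
            simp only [LinearMap.comp_apply, AddMonoidHom.coe_toZModLinearMap, hmul], LinearMap.det_comp] }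
  refine ⟨δ.toHomUnits, ?_⟩
  intro h
  have h2 : LinearMap.det ((f u).toZModLinearMap p) = 1 := congrArg Units.val h
  rw [show (f u).toZModLinearMap p = (-1 : ZMod p) • LinearMap.id from LinearMap.ext fun x => by
    rw [LinearMap.smul_apply, LinearMap.id_apply, neg_one_smul, AddMonoidHom.coe_toZModLinearMap, hu],
    LinearMap.det_smul, LinearMap.det_id, mul_one, hfin, hdodd.neg_one_pow] at h2
  have : Fact (2 < p) := ⟨lt_of_le_of_ne (Fact.out : p.Prime).two_le (Ne.symm hp)⟩
  exact ZMod.neg_one_ne_one h2

/-- The determinant of the action on an elementary abelian group of odd dimension. -/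
theorem exists_hom_unit_elementary [Finite O] {p : ℕ} [Fact p.Prime] (hp : p ≠ 2)
    (hexp : ∀ x : O, x ^ p = 1) {d : ℕ} (hd : Nat.card O = p ^ d) (hdodd : Odd d)
    (φ : H →* MulAut O) {u : H} (hu : ∀ x, φ u x = x⁻¹) :
    ∃ ψ : H →* (ZMod p)ˣ, ψ u ≠ 1 :=
  @exists_hom_unit_module H _ (Additive O) _ _ p _
    (AddCommGroup.zmodModule (n := p) fun v => Additive.toMul.injective (by
      rw [toMul_nsmul, toMul_zero]; exact hexp _)) hp d
    ((Nat.card_congr Additive.toMul).trans hd) hdodd
    (fun g => MonoidHom.toAdditive (φ g).toMonoidHom)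
    (fun x => Additive.toMul.injective (by simp))
    (fun g h x => Additive.toMul.injective (by simp))
    u (fun x => Additive.toMul.injective (by simpa using hu x.toMul))

/-- An inversion of an abelian group of odd nonsquare order is nontrivial in some linear character of
the operator group. -/
theorem exists_hom_unit [Finite O] (φ : H →* MulAut O) {u : H} (hodd : Odd (Nat.card O))
    (hns : ¬IsSquare (Nat.card O)) (hu : ∀ x, φ u x = x⁻¹) :
    ∃ (p : ℕ) (ψ : H →* (ZMod p)ˣ), ψ u ≠ 1 := by
  classical
  induction hn : Nat.card O using Nat.strong_induction_on generalizing O with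
  | _ n ih =>
    have h1 : Nat.card O ≠ 1 := fun h => hns (h ▸ ⟨1, rfl⟩)
    obtain ⟨p, hp, hpd⟩ := Nat.exists_prime_and_dvd h1
    have : Fact p.Prime := ⟨hp⟩
    have hp2 : p ≠ 2 := fun h => hodd.not_two_dvd_nat (h ▸ hpd)
    obtain ⟨x, hx⟩ := exists_prime_orderOf_dvd_card' p hpd
    obtain ⟨f, hf⟩ : ∃ f : O →* O, f = powMonoidHom p := ⟨_, rfl⟩
    have hfap : ∀ y, f y = y ^ p := fun y => by rw [hf]; rfl
    have hKinv : ∀ g : H, ∀ y ∈ f.ker, φ g y ∈ f.ker := fun g y hy => by
      rw [MonoidHom.mem_ker, hfap] at hy ⊢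
      rw [← map_pow, hy, map_one]
    have hIinv : ∀ g : H, ∀ y ∈ f.range, φ g y ∈ f.range := by
      rintro g _ ⟨z, rfl⟩
      exact ⟨φ g z, by rw [hfap, hfap, map_pow]⟩
    have hK : IsPGroup p f.ker := fun y => ⟨1, Subtype.ext (by
      rw [pow_one, Subgroup.coe_pow, ← hfap, MonoidHom.mem_ker.1 y.2, Subgroup.coe_one])⟩
    obtain ⟨d, hd⟩ := IsPGroup.iff_card.1 hK
    rcases Nat.even_or_odd d with he | ho
    · -- the layer is a square: pass to the image of the power map
      have hmul : Nat.card O = Nat.card f.range * p ^ d := by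
        rw [Subgroup.card_eq_card_quotient_mul_card_subgroup f.ker, hd,
          Nat.card_congr (QuotientGroup.quotientKerEquivRange f).toEquiv]
      have hd0 : d ≠ 0 := by
        intro h
        rw [h, pow_zero] at hd
        have hxk : x ∈ f.ker := by rw [MonoidHom.mem_ker, hfap, ← hx]; exact pow_orderOf_eq_one x
        rw [Subgroup.card_eq_one.1 hd, Subgroup.mem_bot] at hxk
        rw [hxk, orderOf_one] at hx
        exact hp.ne_one hx.symm
      have hpos : 0 < Nat.card f.range := Nat.card_pos
      have hlt : Nat.card f.range < n := by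
        rw [← hn, hmul]
        exact lt_mul_of_one_lt_right hpos (Nat.one_lt_pow hd0 hp.one_lt)
      refine ih _ hlt (restrictAct φ f.range hIinv) ?_ ?_ (fun y => Subtype.ext ?_) rfl
      · exact (Nat.odd_mul.1 (hmul ▸ hodd)).1
      · rintro ⟨r, hr⟩
        obtain ⟨e, rfl⟩ := he
        exact hns ⟨r * p ^ e, by rw [hmul, hr, pow_add]; ring⟩
      · rw [coe_restrictAct, hu]; rfl
    · obtain ⟨ψ, hψ⟩ := exists_hom_unit_elementary hp2 (fun y : f.ker => Subtype.ext (by
        rw [Subgroup.coe_pow, ← hfap, MonoidHom.mem_ker.1 y.2, Subgroup.coe_one])) hd ho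
        (restrictAct φ f.ker hKinv) (u := u) (fun y => Subtype.ext (by rw [coe_restrictAct, hu]; rfl))
      exact ⟨p, ψ, hψ⟩

end Cfsg.Agent.OddSquareDet
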