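import Mathlib
import Cfsg.Prelude.Def_Local
import Cfsg.Agent.Lib.Grp.Signalizer

/-!
Fixed points of hyperplanes in a solvable group generated by balanced hyperplane fixed points.
-/

set_option autoImplicit false
set_option linter.unusedSectionVars false

namespace Cfsg.Agent.Grp

open Subgroup
open scoped commutatorElement

variable {G : Type*} [Group G] [Finite G] {p : ℕ} [Fact p.Prime] {A : Subgroup G}

theorem relIndex_eq_ne {B : Subgroup G} (h : B.relIndex A = p) : B ≠ A := fun e => by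
  rw [e, Subgroup.relIndex_self] at h
  exact (Fact.out : p.Prime).one_lt.ne h

theorem fixed_generated (hA : Cfsg.IsElementaryAbelian p A) (S : Set (Subgroup G))
    (hS : ∀ B ∈ S, B ≤ A ∧ B.relIndex A = p)
    (hSup : ∀ B ∈ S, ∀ B' ∈ S, ∀ D : Subgroup G, B ⊓ B' ≤ D → D ≤ A → D.relIndex A = p → D ∈ S) :
    ∀ (n : ℕ) (K : Subgroup G) (X W : Subgroup G → Subgroup G), Nat.card K = n →
      ¬ p ∣ Nat.card K → Group.IsSolvable K → A ≤ normalizer (K : Set G) →
      K = (⨆ B ∈ S, X B) →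
      (∀ B ∈ S, A ≤ normalizer (X B : Set G)) →
      (∀ B ∈ S, ∀ B' ∈ S, W (B ⊓ B') ≤ K ⊓ centralizer ((B ⊓ B' : Subgroup G) : Set G) ∧
        A ≤ normalizer (W (B ⊓ B') : Set G) ∧ X B ≤ W (B ⊓ B')) →
      (∀ B ∈ S, ∀ B' ∈ S, ∀ D ∈ S, B ⊓ B' ≤ D → W (B ⊓ B') ⊓ centralizer (D : Set G) ≤ X D) →
      ∀ B ∈ S, K ⊓ centralizer (B : Set G) ≤ X B := by
  classical
  intro n
  induction n using Nat.strong_induction_on with
  | _ n ih =>
  intro K X W hn hp hsol hAK hgen hXA hW hWD B hB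
  by_cases hK : K = ⊥
  · rw [hK, bot_inf_eq]; exact bot_le
  have hXK : ∀ D ∈ S, X D ≤ K := fun D hD => hgen ▸ le_iSup₂_of_le D hD le_rfl
  have hW' : ∀ B ∈ S, ∀ B' ∈ S, X B' ≤ W (B ⊓ B') := fun B hB B' hB' => by
    rw [inf_comm]; exact (hW B' hB' B hB).2.2
  set D0 := ⁅K, K⁆ with hD0
  have hD0K : D0 ≤ K := Subgroup.commutator_le.mpr fun a ha b hb =>
    K.mul_mem (K.mul_mem (K.mul_mem ha hb) (K.inv_mem ha)) (K.inv_mem hb)
  have hAD0 : A ≤ normalizer (D0 : Set G) := by
    rw [← invariant_iff]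
    intro a ha x hx
    have hle : K.map (MulAut.conj a).toMonoidHom ≤ K := by
      rintro _ ⟨k, hk, rfl⟩
      exact invariant_iff.mpr hAK a ha k hk
    have h1 : x ∈ D0.comap (MulAut.conj a).toMonoidHom := by
      refine (Subgroup.le_comap_map _ _).trans (Subgroup.comap_mono ?_) hx
      rw [hD0, Subgroup.map_commutator]
      exact Subgroup.commutator_mono hle hle
    exact h1
  have hlt : Nat.card D0 < n := by
    rw [← hn]
    refine lt_of_not_ge fun hge => ?_
    haveI := hsol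
    haveI : Nontrivial ↥K := (Subgroup.nontrivial_iff_ne_bot K).mpr hK
    refine (Group.IsSolvable.commutator_lt_top_of_nontrivial (G := ↥K)).ne ?_
    have e := congrArg (fun H : Subgroup G => H.subgroupOf K) (Subgroup.eq_of_le_of_card_ge hD0K hge)
    simp only [Subgroup.subgroupOf_self] at e
    rw [← e, commutator_def]
    refine Subgroup.map_injective K.subtype_injective ?_
    rw [Subgroup.map_subgroupOf_eq_of_le hD0K, Subgroup.map_commutator, ← MonoidHom.range_eq_map, Subgroup.range_subtype]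
  -- the derived group is generated by its traces
  set L0 := ⨆ D ∈ S, (X D ⊓ D0) with hL0
  have hL0D : L0 ≤ D0 := iSup₂_le fun D _ => inf_le_right
  have hWgen : ∀ B ∈ S, ∀ B' ∈ S, W (B ⊓ B') ⊓ D0 ≤ L0 := by
    intro B hB B' hB'
    have h := inf_centralizer_le_of_hyperplanes hA (W (B ⊓ B') ⊓ D0)
      (fun h => hp (h.trans (Subgroup.card_dvd_of_le (inf_le_right.trans hD0K))))
      (le_normalizer_inf' (hW B hB B' hB').2.1 hAD0) (T := L0) (F := B ⊓ B')
      (inf_le_left.trans (hS B hB).1)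
      (fun e => relIndex_eq_ne (hS B hB).2 (le_antisymm (hS B hB).1 (e ▸ inf_le_left)))
      (fun D hFD hDA hDi => ?_)
    · exact le_trans (le_inf le_rfl (inf_le_left.trans ((hW B hB B' hB').1.trans inf_le_right))) h
    · refine le_trans ?_ (le_iSup₂_of_le (f := fun D _ => X D ⊓ D0) D (hSup B hB B' hB' D hFD hDA hDi) le_rfl)
      exact le_inf ((inf_le_inf_right _ inf_le_left).trans (hWD B hB B' hB' D (hSup B hB B' hB' D hFD hDA hDi) hFD))
        (inf_le_left.trans inf_le_right)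
  have hKL0 : K ≤ normalizer (L0 : Set G) := by
    rw [hgen]
    refine iSup₂_le fun B' hB' => ?_
    rw [← invariant_iff]
    intro y hy x hx
    have h1 : L0 ≤ L0.comap (MulAut.conj y).toMonoidHom := by
      refine iSup₂_le fun B hB => ?_
      intro m hm
      have hyK := hXK B' hB' hy
      have hmK := hXK B hB hm.1
      refine hWgen B hB B' hB' ⟨?_, ?_⟩
      · show y * m * y⁻¹ ∈ W (B ⊓ B')
        exact Subgroup.mul_mem _ (Subgroup.mul_mem _ (hW' B hB B' hB' hy) ((hW B hB B' hB').2.2 hm.1))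
          (Subgroup.inv_mem _ (hW' B hB B' hB' hy))
      · show y * m * y⁻¹ ∈ D0
        rw [show y * m * y⁻¹ = ⁅y, m⁆ * m by rw [commutatorElement_def]; group]
        exact Subgroup.mul_mem _ (Subgroup.commutator_mem_commutator hyK hmK) hm.2
    exact h1 hx
  have hcom1 : ∀ B ∈ S, ∀ B' ∈ S, ∀ y ∈ X B, ∀ m ∈ X B', ⁅y, m⁆ ∈ L0 := by
    intro B hB B' hB' y hy m hm
    have hym := (hW B hB B' hB').2.2 hy
    have hm' := hW' B hB B' hB' hm
    exact hWgen B hB B' hB' ⟨Subgroup.mul_mem _ (Subgroup.mul_mem _ (Subgroup.mul_mem _ hym hm')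
      (Subgroup.inv_mem _ hym)) (Subgroup.inv_mem _ hm'),
      Subgroup.commutator_mem_commutator (hXK B hB hy) (hXK B' hB' hm)⟩
  let T : ∀ n' : G, n' ∈ K → Subgroup G := fun n' hn' =>
    ((centralizer ({QuotientGroup.mk ⟨n', hKL0 hn'⟩} : Set (↥(normalizer (L0 : Set G)) ⧸
      L0.subgroupOf (normalizer (L0 : Set G))))).comap (QuotientGroup.mk' _)).map
        (normalizer (L0 : Set G)).subtype
  have hT : ∀ (a : G) (ha : a ∈ K) (m : G) (hm : m ∈ K), a ∈ T m hm ↔ ⁅a, m⁆ ∈ L0 := by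
    intro a ha m hm
    have key : ∀ (h : a ∈ normalizer (L0 : Set G)),
        ((QuotientGroup.mk' (L0.subgroupOf (normalizer (L0 : Set G)))) ⟨a, h⟩ ∈
          centralizer ({QuotientGroup.mk ⟨m, hKL0 hm⟩} : Set _)) ↔ ⁅a, m⁆ ∈ L0 := by
      intro h
      have e := map_commutatorElement (QuotientGroup.mk' (L0.subgroupOf (normalizer (L0 : Set G))))
        (⟨a, h⟩ : ↥(normalizer (L0 : Set G))) ⟨m, hKL0 hm⟩
      rw [Subgroup.mem_centralizer_singleton_iff, ← commutatorElement_eq_one_iff_mul_comm]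
      simp only [QuotientGroup.mk'_apply] at e ⊢
      rw [← e, QuotientGroup.eq_one_iff]
      rfl
    constructor
    · rintro ⟨⟨b, hb⟩, hb', rfl⟩
      exact (key hb).mp hb'
    · intro h
      exact ⟨⟨a, hKL0 ha⟩, (key _).mpr h, rfl⟩
  have hD0L : D0 ≤ L0 := by
    rw [hD0, Subgroup.commutator_le]
    have h1 : ∀ B' (hB' : B' ∈ S), ∀ m (hm : m ∈ X B'), K ≤ T m (hXK B' hB' hm) := by
      intro B' hB' m hm
      refine hgen.le.trans (iSup₂_le fun B hB y hy => ?_)
      exact (hT y (hXK B hB hy) m (hXK B' hB' hm)).mpr (hcom1 B hB B' hB' y hy m hm)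
    intro a ha b hb
    have h2 : K ≤ T a ha := by
      refine hgen.le.trans (iSup₂_le fun B' hB' m hm => ?_)
      refine (hT m (hXK B' hB' hm) a ha).mpr ?_
      rw [← commutatorElement_inv]
      exact L0.inv_mem ((hT a ha m (hXK B' hB' hm)).mp (h1 B' hB' m hm ha))
    rw [← commutatorElement_inv]
    exact L0.inv_mem ((hT b hb a ha).mp (h2 hb))
  have hIH : ∀ B ∈ S, D0 ⊓ centralizer (B : Set G) ≤ X B ⊓ D0 := by
    refine ih _ hlt D0 (fun D => X D ⊓ D0) (fun F => W F ⊓ D0) rfl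
      (fun h => hp (h.trans (Subgroup.card_dvd_of_le hD0K))) (isSolvable_of_le hD0K hsol) hAD0
      (le_antisymm hD0L hL0D) (fun D hD => le_normalizer_inf' (hXA D hD) hAD0) ?_ ?_
    · intro B hB B' hB'
      exact ⟨le_inf inf_le_right (inf_le_left.trans ((hW B hB B' hB').1.trans inf_le_right)),
        le_normalizer_inf' (hW B hB B' hB').2.1 hAD0, inf_le_inf_right _ (hW B hB B' hB').2.2⟩
    · intro B hB B' hB' D hD hFD
      exact le_inf ((inf_le_inf_right _ inf_le_left).trans (hWD B hB B' hB' D hD hFD))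
        (inf_le_left.trans inf_le_right)
  -- averaging in the abelian quotient
  set T0 := X B ⊔ D0 with hT0
  have hT0K : T0 ≤ K := sup_le (hXK B hB) hD0K
  haveI hTn : (T0.subgroupOf K).Normal := by
    refine ⟨fun t ht k => ?_⟩
    rw [mem_subgroupOf] at ht ⊢
    show (k : G) * t * (k : G)⁻¹ ∈ T0
    rw [show (k : G) * t * (k : G)⁻¹ = ⁅(k : G), (t : G)⁆ * t by rw [commutatorElement_def]; group]
    exact T0.mul_mem (Subgroup.mem_sup_right (Subgroup.commutator_mem_commutator k.2 (hT0K ht))) ht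
  set Q := ↥K ⧸ T0.subgroupOf K with hQ
  letI : CommGroup Q :=
    { (inferInstance : Group Q) with
      mul_comm := fun x y => by
        obtain ⟨a, rfl⟩ := QuotientGroup.mk_surjective x
        obtain ⟨b, rfl⟩ := QuotientGroup.mk_surjective y
        rw [← commutatorElement_eq_one_iff_mul_comm]
        refine (QuotientGroup.eq_one_iff (N := T0.subgroupOf K) ⁅a, b⁆).mpr ?_
        exact Subgroup.mem_sup_right (Subgroup.commutator_mem_commutator a.2 b.2) }
  have hAT : A ≤ normalizer (T0 : Set G) := le_normalizer_sup' (hXA B hB) hAD0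
  have hBA := (hS B hB).1
  let conjB : ↥B → (↥K →* ↥K) := fun b =>
    (K.normalizerMonoidHom ⟨(b : G), hAK (hBA b.2)⟩).toMonoidHom
  let σ : ↥B → (Q →* Q) := fun b => QuotientGroup.map _ _ (conjB b) (fun t ht => by
    rw [mem_subgroupOf] at ht
    exact invariant_iff.mpr hAT b (hBA b.2) t ht)
  have hσmul : ∀ b c : ↥B, ∀ q : Q, σ b (σ c q) = σ (b * c) q := by
    intro b c q
    obtain ⟨k, rfl⟩ := QuotientGroup.mk_surjective q
    refine congrArg (QuotientGroup.mk (s := T0.subgroupOf K)) (Subtype.ext ?_)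
    show (b : G) * ((c : G) * k * (c : G)⁻¹) * (b : G)⁻¹ = ((b : G) * c) * k * ((b : G) * c)⁻¹
    group
  haveI := Fintype.ofFinite ↥B
  let Φ : Q →* Q := ∏ b : ↥B, σ b
  have hΦ : ∀ q, Φ q = ∏ b : ↥B, σ b q := fun q => MonoidHom.finsetProd_apply σ _ q
  have hker : ∀ B' ∈ S, (X B').subgroupOf K ≤ (Φ.comp (QuotientGroup.mk' (T0.subgroupOf K))).ker := by
    intro B' hB' x hx
    rw [mem_subgroupOf] at hx
    have hmem : Φ (QuotientGroup.mk x) ∈ ((X B').subgroupOf K).map (QuotientGroup.mk' (T0.subgroupOf K)) := by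
      rw [hΦ]
      refine Subgroup.prod_mem _ fun b _ => ⟨conjB b x, ?_, rfl⟩
      exact invariant_iff.mpr (hXA B' hB') b (hBA b.2) _ hx
    obtain ⟨u, hu, hue⟩ := hmem
    rw [SetLike.mem_coe, mem_subgroupOf] at hu
    have hfix : ∀ b ∈ B, b * (u : G) * b⁻¹ * (u : G)⁻¹ ∈ X B' ⊓ T0 := by
      intro b hb
      refine ⟨Subgroup.mul_mem _ (invariant_iff.mpr (hXA B' hB') b (hBA hb) _ hu) (Subgroup.inv_mem _ hu), ?_⟩
      have e : σ ⟨b, hb⟩ (QuotientGroup.mk u) = QuotientGroup.mk u := by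
        rw [show (QuotientGroup.mk u : Q) = Φ (QuotientGroup.mk x) from hue, hΦ, map_prod]
        simp only [hσmul]
        exact Fintype.prod_equiv (Equiv.mulLeft (⟨b, hb⟩ : ↥B)) _ _ (fun c => rfl)
      have e2 : (QuotientGroup.mk (conjB ⟨b, hb⟩ u * u⁻¹) : Q) = 1 := by
        rw [QuotientGroup.mk_mul, QuotientGroup.mk_inv, mul_inv_eq_one]; exact e
      exact mem_subgroupOf.mp ((QuotientGroup.eq_one_iff _).mp e2)
    have hcop : (Nat.card B).Coprime (Nat.card (X B')) := coprime_elemAb (elemAb_mono hA hBA)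
      (fun h => hp (h.trans (Subgroup.card_dvd_of_le (hXK B' hB'))))
    obtain ⟨c, ⟨hcX, hcB⟩, hc⟩ := exists_fixed_rep B (X B') (X B' ⊓ T0) (hBA.trans (hXA B' hB'))
      (inf_eq_bot_of_coprime hcop) (hcop.coprime_dvd_right (Subgroup.card_dvd_of_le inf_le_left))
      (Or.inr (isSolvable_of_le (inf_le_right.trans hT0K) hsol)) inf_le_left
      (le_normalizer_inf' Subgroup.le_normalizer (fun y hy => by
        have h1 := invariant_iff (A := K) (X := T0)
        exact h1.mp (fun k hk t ht => hTn.conj_mem ⟨t, hT0K ht⟩ (mem_subgroupOf.mpr ht) ⟨k, hk⟩) (hXK B' hB' hy)))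
      (le_normalizer_inf' (hBA.trans (hXA B' hB')) (hBA.trans hAT)) hu hfix
    have hcXB : c ∈ X B := hWD B' hB' B hB B hB inf_le_right ⟨(hW B' hB' B hB).2.2 hcX, hcB⟩
    rw [MonoidHom.mem_ker, MonoidHom.comp_apply, QuotientGroup.mk'_apply, ← hue, QuotientGroup.mk'_apply,
      QuotientGroup.eq_one_iff, mem_subgroupOf]
    have := T0.mul_mem (Subgroup.mem_sup_left hcXB : c ∈ T0) (T0.inv_mem hc.2)
    simpa [mul_inv_rev, ← mul_assoc] using this
  intro z hz
  have hall : K ≤ ((Φ.comp (QuotientGroup.mk' (T0.subgroupOf K))).ker).map K.subtype :=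
    hgen.le.trans (iSup₂_le fun B' hB' y hy => ⟨⟨y, hXK B' hB' hy⟩, hker B' hB' hy, rfl⟩)
  obtain ⟨⟨z', hz'K⟩, hzker, hzz⟩ := hall hz.1
  obtain rfl : z' = z := hzz
  have hfixz : ∀ b : ↥B, σ b (QuotientGroup.mk ⟨z', hz'K⟩) = QuotientGroup.mk ⟨z', hz'K⟩ := by
    intro b
    refine congrArg (QuotientGroup.mk (s := T0.subgroupOf K)) (Subtype.ext ?_)
    show (b : G) * z' * (b : G)⁻¹ = z'
    rw [Subgroup.mem_centralizer_iff.mp hz.2 b b.2, mul_inv_cancel_right]
  have hpow : (QuotientGroup.mk ⟨z', hz'K⟩ : Q) ^ Nat.card B = 1 := by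
    rw [SetLike.mem_coe, MonoidHom.mem_ker, MonoidHom.comp_apply, QuotientGroup.mk'_apply, hΦ] at hzker
    simp only [hfixz] at hzker
    rw [Finset.prod_const, Finset.card_univ, ← Nat.card_eq_fintype_card] at hzker
    exact hzker
  have hzT : z' ∈ T0 := by
    refine mem_subgroupOf.mp ((QuotientGroup.eq_one_iff (N := T0.subgroupOf K) (⟨z', hz'K⟩ : ↥K)).mp ?_)
    refine orderOf_eq_one_iff.mp (Nat.eq_one_of_dvd_coprimes
      ((coprime_elemAb (elemAb_mono hA hBA) hp)) (orderOf_dvd_of_pow_eq_one hpow) ?_)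
    exact (orderOf_map_dvd (QuotientGroup.mk' (T0.subgroupOf K)) _).trans (orderOf_dvd_natCard _)
  have hXD : X B ≤ normalizer (D0 : Set G) := fun y hy => by
    refine invariant_iff (A := K).mp ?_ (hXK B hB hy)
    intro k hk t ht
    rw [show k * t * k⁻¹ = ⁅k, t⁆ * t by rw [commutatorElement_def]; group]
    exact D0.mul_mem (Subgroup.commutator_mem_commutator hk (hD0K ht)) ht
  rw [← SetLike.mem_coe, hT0, Subgroup.coe_mul_of_left_le_normalizer_right _ _ hXD] at hzT
  obtain ⟨x, hx, k, hk, rfl⟩ := hzT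
  refine Subgroup.mul_mem _ hx (hIH B hB ⟨hk, ?_⟩).1
  have hxc : x ∈ centralizer (B : Set G) :=
    ((hW B hB B hB).2.2.trans ((hW B hB B hB).1.trans inf_le_right)) hx |> fun h => by rwa [inf_idem] at h
  have := Subgroup.mul_mem _ (Subgroup.inv_mem _ hxc) hz.2
  simpa using this

end Cfsg.Agent.Grp
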