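import Mathlib
import Cfsg.Agent.Lib.Grp.Hall
import Cfsg.Agent.Lib.Grp.Solvable
import Cfsg.Agent.Lib.Grp.Zassenhaus.Basics
import Cfsg.Agent.Lib.Grp.Zassenhaus.Complement

/-!
# Three primes in a solvable group
-/

set_option autoImplicit false

namespace Cfsg.Agent.Grp.ThreePrimes

universe u

variable {G : Type u} [Group G]

theorem exists_mul_order {x y : G} {a b : ℕ} (ha : a.Prime) (hb : b.Prime) (hab : a ≠ b) (hx : orderOf x = a)
    (hy : orderOf y = b) (hc : Commute x y) : ∃ g : G, orderOf g = a * b :=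
  ⟨x * y, by rw [hc.orderOf_mul_eq_mul_orderOf_of_coprime (by rw [hx, hy]; exact (Nat.coprime_primes ha hb).mpr hab), hx, hy]⟩

variable [Finite G]

theorem fpf_pair [Group.IsSolvable G] (h : Zas.HasFpf.{u, u} G) {p q : ℕ} (hp : p.Prime) (hq : q.Prime)
    (hpq : p ≠ q) (hpd : p ∣ Nat.card G) (hqd : q ∣ Nat.card G)
    (hall : ∀ s : ℕ, s.Prime → s ∣ Nat.card G → s = p ∨ s = q) : ∃ g : G, orderOf g = p * q := by
  classical
  have : Nontrivial G := Finite.one_lt_card_iff_nontrivial.mp (lt_of_lt_of_le hp.one_lt (Nat.le_of_dvd Nat.card_pos hpd))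
  obtain ⟨V, ⟨hVn, hV1⟩, hmin⟩ := (Set.toFinite {N : Subgroup G | N.Normal ∧ N ≠ ⊥}).exists_minimal
    ⟨⊤, inferInstance, top_ne_bot⟩
  obtain ⟨hVc, s, hs, hse⟩ := minimal_normal_solvable (N := V) inferInstance hV1 (fun M hM hle => by
    by_cases e : M = ⊥
    · exact Or.inl e
    · exact Or.inr (le_antisymm hle (hmin ⟨hM, e⟩ hle)))
  have := Fact.mk hs
  obtain ⟨y, hy, hy1⟩ : ∃ y ∈ V, y ≠ 1 := by
    by_contra hno
    push Not at hno
    exact hV1 ((Subgroup.eq_bot_iff_forall _).mpr hno)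
  have hys : orderOf y = s := orderOf_eq_prime (hse y hy) hy1
  have hsd : s ∣ Nat.card G := hys ▸ orderOf_dvd_natCard y
  suffices ∀ t : ℕ, t.Prime → t ≠ s → t ∣ Nat.card G → ∃ g : G, orderOf g = s * t by
    rcases hall s hs hsd with rfl | rfl
    · exact this q hq hpq.symm hqd
    · obtain ⟨g, hg⟩ := this p hp hpq hpd
      exact ⟨g, by rw [hg, mul_comm]⟩
  intro t ht hts htd
  have := Fact.mk ht
  obtain ⟨z, hz⟩ := exists_prime_orderOf_dvd_card' (G := G) t htd
  by_cases hs2 : s = 2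
  · subst hs2
    exact exists_mul_order hs ht hts.symm hys hz (Subgroup.mem_center_iff.mp (h.involution hys).1 z).symm
  refine exists_mul_order hs ht hts.symm hys hz (h.commute_of_normalize hys hz ?_).symm
  have hVs : IsPGroup s V := fun x => ⟨1, Subtype.ext (by simpa using hse x x.2)⟩
  obtain ⟨S, hS⟩ := hVs.exists_le_sylow
  have hcyc := h.sylow_cyclic hs2 S
  have hVcyc : IsCyclic V := isCyclic_of_injective (Subgroup.inclusion hS) (Subgroup.inclusion_injective hS)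
  obtain ⟨g, hg⟩ := IsCyclic.exists_ofOrder_eq_natCard (α := V)
  have hcard : Nat.card V ≤ s := by
    rw [← hg]
    exact Nat.le_of_dvd hs.pos (orderOf_dvd_of_pow_eq_one (Subtype.ext (hse g g.2)))
  have hVy : Subgroup.zpowers y = V := Subgroup.eq_of_le_of_card_ge (Subgroup.zpowers_le.mpr hy)
    (by rw [Nat.card_zpowers, hys]; exact hcard)
  rw [hVy]
  exact hVn.conj_mem y hy z

theorem key [Group.IsSolvable G] {p q r : ℕ} (hp : p.Prime) (hq : q.Prime) (hr : r.Prime) (hpq : p ≠ q)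
    (hpr : p ≠ r) (hqr : q ≠ r) (hpd : p ∣ Nat.card G) (hqd : q ∣ Nat.card G)
    (hall : ∀ s : ℕ, s.Prime → s ∣ Nat.card G → s = p ∨ s = q ∨ s = r)
    {N : Subgroup G} [hN : N.Normal] (hNr : IsPGroup r N) (hN1 : N ≠ ⊥) :
    (∃ g : G, orderOf g = p * q) ∨ (∃ g : G, orderOf g = p * r) ∨ (∃ g : G, orderOf g = q * r) := by
  classical
  have := Fact.mk hr
  have hn0 : Nat.card G ≠ 0 := Nat.card_pos.ne'
  set m := Nat.card G / r ^ (Nat.card G).factorization r
  have hm : Nat.card G = m * r ^ (Nat.card G).factorization r := (Nat.div_mul_cancel (Nat.ordProj_dvd _ _)).symm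
  have hcop : m.Coprime (r ^ (Nat.card G).factorization r) :=
    (((Nat.Prime.coprime_iff_not_dvd hr).mpr (Nat.not_dvd_ordCompl hr hn0)).symm).pow_right _
  obtain ⟨K, hK⟩ := exists_hall hm hcop
  have hdK : ∀ s : ℕ, s.Prime → s ≠ r → s ∣ Nat.card G → s ∣ Nat.card K := by
    intro s hs hsr hsd
    rw [hm] at hsd
    rw [hK]
    exact (hs.dvd_mul.mp hsd).resolve_right fun h => hsr ((Nat.prime_dvd_prime_iff_eq hs hr).mp (hs.dvd_of_dvd_pow h))
  have hKr : ¬ r ∣ Nat.card K := hK ▸ Nat.not_dvd_ordCompl hr hn0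
  by_cases hfix : ∃ x ∈ K, x ≠ 1 ∧ ∃ n ∈ N, n ≠ 1 ∧ Commute x n
  · obtain ⟨x, hx, hx1, n, hn, hn1, hc⟩ := hfix
    obtain ⟨s, hs, hsd⟩ := Nat.exists_prime_and_dvd (fun e => hx1 (orderOf_eq_one_iff.mp e))
    have hsK : s ∣ Nat.card K := hsd.trans (Subgroup.orderOf_dvd_natCard K hx)
    have hsr : s ≠ r := fun e => hKr (e ▸ hsK)
    obtain ⟨k, hk⟩ := IsPGroup.iff_orderOf.mp hNr ⟨n, hn⟩
    rw [Subgroup.orderOf_mk] at hk
    have hrd : r ∣ orderOf n := by
      rcases k with _ | k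
      · exact absurd (orderOf_eq_one_iff.mp (hk.trans (pow_zero r))) hn1
      · exact hk ▸ dvd_pow_self r k.succ_ne_zero
    have := exists_mul_order hs hr hsr (orderOf_pow_orderOf_div (orderOf_pos x).ne' hsd)
      (orderOf_pow_orderOf_div (orderOf_pos n).ne' hrd) (hc.pow_pow _ _)
    rcases hall s hs (hsK.trans (Subgroup.card_subgroup_dvd_card K)) with rfl | rfl | rfl
    · exact Or.inr (Or.inl this)
    · exact Or.inr (Or.inr this)
    · exact absurd rfl hsr
  push Not at hfix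
  have : Nontrivial N := N.nontrivial_iff_ne_bot.mpr hN1
  have : Nontrivial K := Finite.one_lt_card_iff_nontrivial.mp
    (lt_of_lt_of_le hp.one_lt (Nat.le_of_dvd Nat.card_pos (hdK p hp hpr hpd)))
  have hfpf : Zas.HasFpf.{u, u} K := Zas.hasFpf_of_fpf_aut ((MulAut.conjNormal (H := N)).comp K.subtype)
    fun k hk n hn => by
      by_contra hn1
      refine hfix k k.2 (fun e => hk (Subtype.ext e)) n n.2 (fun e => hn1 (Subtype.ext e)) ?_
      exact mul_inv_eq_iff_eq_mul.mp (congrArg Subtype.val hn)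
  obtain ⟨g, hg⟩ := fpf_pair hfpf hp hq hpq (hdK p hp hpr hpd) (hdK q hq hqr hqd) fun s hs hsK => by
    rcases hall s hs (hsK.trans (Subgroup.card_subgroup_dvd_card K)) with h | h | h
    · exact Or.inl h
    · exact Or.inr h
    · exact absurd (h ▸ hsK) hKr
  exact Or.inl ⟨g, by rw [Subgroup.orderOf_coe, hg]⟩

/-- Among three prime divisors of a solvable group two are adjacent in the prime graph. -/
theorem exists_edge [Group.IsSolvable G] {p q r : ℕ} (hp : p.Prime) (hq : q.Prime) (hr : r.Prime) (hpq : p ≠ q)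
    (hpr : p ≠ r) (hqr : q ≠ r) (hpd : p ∣ Nat.card G) (hqd : q ∣ Nat.card G) (hrd : r ∣ Nat.card G) :
    (∃ g : G, orderOf g = p * q) ∨ (∃ g : G, orderOf g = p * r) ∨ (∃ g : G, orderOf g = q * r) := by
  classical
  have hn0 : Nat.card G ≠ 0 := Nat.card_pos.ne'
  set a := p ^ (Nat.card G).factorization p * q ^ (Nat.card G).factorization q * r ^ (Nat.card G).factorization r
  have had : a ∣ Nat.card G := by
    refine Nat.Coprime.mul_dvd_of_dvd_of_dvd ?_ (Nat.Coprime.mul_dvd_of_dvd_of_dvd ?_ (Nat.ordProj_dvd _ _) (Nat.ordProj_dvd _ _)) (Nat.ordProj_dvd _ _)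
    · exact Nat.Coprime.mul_left (Nat.coprime_pow_primes _ _ hp hr hpr) (Nat.coprime_pow_primes _ _ hq hr hqr)
    · exact Nat.coprime_pow_primes _ _ hp hq hpq
  obtain ⟨b, hb⟩ := had
  have hnd : ∀ s : ℕ, s.Prime → s ∣ Nat.card G → s ^ (Nat.card G).factorization s ∣ a → ¬ s ∣ b := by
    intro s hs _ hsa ⟨c, hc⟩
    obtain ⟨d, hd⟩ := hsa
    have h1 : s ^ ((Nat.card G).factorization s + 1) ∣ Nat.card G := ⟨d * c, hb.trans (by rw [hd, hc, pow_succ]; ring)⟩
    have := (hs.pow_dvd_iff_le_factorization hn0).mp h1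
    omega
  have hpa : p ^ (Nat.card G).factorization p ∣ a := (dvd_mul_right _ _).mul_right _
  have hqa : q ^ (Nat.card G).factorization q ∣ a := (dvd_mul_left _ _).mul_right _
  have hra : r ^ (Nat.card G).factorization r ∣ a := dvd_mul_left _ _
  have hab : a.Coprime b := by
    refine Nat.Coprime.mul_left (Nat.Coprime.mul_left ?_ ?_) ?_ <;> refine Nat.Coprime.pow_left _ ?_
    · exact hp.coprime_iff_not_dvd.mpr (hnd p hp hpd hpa)
    · exact hq.coprime_iff_not_dvd.mpr (hnd q hq hqd hqa)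
    · exact hr.coprime_iff_not_dvd.mpr (hnd r hr hrd hra)
  obtain ⟨H, hH⟩ := exists_hall hb hab
  have hH' : ∀ s : ℕ, s.Prime → s ∣ Nat.card H → s = p ∨ s = q ∨ s = r := by
    intro s hs hsd
    rw [hH] at hsd
    rcases hs.dvd_mul.mp hsd with h | h
    · rcases hs.dvd_mul.mp h with h | h
      · exact Or.inl ((Nat.prime_dvd_prime_iff_eq hs hp).mp (hs.dvd_of_dvd_pow h))
      · exact Or.inr (Or.inl ((Nat.prime_dvd_prime_iff_eq hs hq).mp (hs.dvd_of_dvd_pow h)))
    · exact Or.inr (Or.inr ((Nat.prime_dvd_prime_iff_eq hs hr).mp (hs.dvd_of_dvd_pow h)))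
  have hin : ∀ s : ℕ, s.Prime → s ∣ Nat.card G → s ^ (Nat.card G).factorization s ∣ a → s ∣ Nat.card H := fun s hs hsd hsa =>
    hH ▸ (dvd_pow_self s (hs.factorization_pos_of_dvd hn0 hsd).ne').trans hsa
  have hP := hin p hp hpd hpa
  have hQ := hin q hq hqd hqa
  have hR := hin r hr hrd hra
  have : Nontrivial H := Finite.one_lt_card_iff_nontrivial.mp
    (lt_of_lt_of_le hp.one_lt (Nat.le_of_dvd Nat.card_pos hP))
  obtain ⟨N, ⟨hNn, hN1⟩, hmin⟩ := (Set.toFinite {N : Subgroup H | N.Normal ∧ N ≠ ⊥}).exists_minimal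
    ⟨⊤, inferInstance, top_ne_bot⟩
  obtain ⟨s, hs, hNs⟩ := minimal_normal_solvable_isPGroup (N := N) inferInstance hN1 (fun M hM hle => by
    by_cases e : M = ⊥
    · exact Or.inl e
    · exact Or.inr (le_antisymm hle (hmin ⟨hM, e⟩ hle)))
  have := Fact.mk hs
  have hsd : s ∣ Nat.card H := by
    obtain ⟨k, hk⟩ := IsPGroup.iff_card.mp hNs
    rcases k with _ | k
    · exact absurd (Subgroup.card_eq_one.mp (hk.trans (pow_zero s))) hN1
    · exact (hk ▸ dvd_pow_self s k.succ_ne_zero).trans (Subgroup.card_subgroup_dvd_card N)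
  have lift : ∀ n : ℕ, (∃ g : H, orderOf g = n) → ∃ g : G, orderOf g = n := fun n ⟨g, hg⟩ => ⟨g, by rw [Subgroup.orderOf_coe, hg]⟩
  rcases hH' s hs hsd with rfl | rfl | rfl
  · rcases key hq hr hp hqr hpq.symm hpr.symm hQ hR (fun t ht htd => by rcases hH' t ht htd with h | h | h <;> tauto) hNs hN1 with h | h | h
    · exact Or.inr (Or.inr (lift _ h))
    · exact Or.inl (lift _ (mul_comm q s ▸ h))
    · exact Or.inr (Or.inl (lift _ (mul_comm r s ▸ h)))
  · rcases key hp hr hq hpr hpq hqr.symm hP hR (fun t ht htd => by rcases hH' t ht htd with h | h | h <;> tauto) hNs hN1 with h | h | h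
    · exact Or.inr (Or.inl (lift _ h))
    · exact Or.inl (lift _ h)
    · exact Or.inr (Or.inr (lift _ (mul_comm r s ▸ h)))
  · rcases key hp hq hr hpq hpr hqr hP hQ hH' hNs hN1 with h | h | h
    · exact Or.inl (lift _ h)
    · exact Or.inr (Or.inl (lift _ h))
    · exact Or.inr (Or.inr (lift _ h))

end Cfsg.Agent.Grp.ThreePrimes
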