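import Mathlib
import Cfsg.Agent.Lib.Grp.Basic
import Cfsg.Agent.Lib.Grp.Solvable
import Cfsg.Agent.Lib.Grp.SolvableThreePrimes
import Cfsg.Agent.S0144

/-!
Groups in which every element has prime-power order (Higman).
-/

set_option autoImplicit false

namespace Cfsg.Agent.Grp.EPPO

open scoped Pointwise

universe u

/-- Every element has prime power order. -/
def EPPO (G : Type u) [Group G] : Prop := ∀ g : G, g ≠ 1 → IsPrimePow (orderOf g)

variable {G : Type u} [Group G] [Finite G]

omit [Finite G] in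
theorem EPPO.no_mixed (h : EPPO G) {g : G} {r s : ℕ} (hr : r.Prime) (hs : s.Prime) (hrs : r ≠ s)
    (hr' : r ∣ orderOf g) (hs' : s ∣ orderOf g) : False := by
  have hg : g ≠ 1 := fun e => by
    rw [e, orderOf_one, Nat.dvd_one] at hr'
    exact hr.one_lt.ne' hr'
  obtain ⟨q, k, hq, -, e⟩ := (isPrimePow_nat_iff _).mp (h g hg)
  rw [← e] at hr' hs'
  exact hrs (((Nat.prime_dvd_prime_iff_eq hr hq).mp (hr.dvd_of_dvd_pow hr')).trans
    ((Nat.prime_dvd_prime_iff_eq hs hq).mp (hs.dvd_of_dvd_pow hs')).symm)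

omit [Finite G] in
theorem EPPO.not_commute (h : EPPO G) {a b : G} {r s : ℕ} (hr : r.Prime) (hs : s.Prime) (hrs : r ≠ s)
    (ha : orderOf a = r) (hb : orderOf b = s) (hab : Commute a b) : False := by
  refine h.no_mixed (g := a * b) hr hs hrs ?_ ?_ <;>
    rw [hab.orderOf_mul_eq_mul_orderOf_of_coprime
      (by rw [ha, hb]; exact (Nat.coprime_primes hr hs).mpr hrs), ha, hb]
  · exact dvd_mul_right r s
  · exact dvd_mul_left s r

omit [Finite G] in
theorem EPPO.quotient (h : EPPO G) (N : Subgroup G) [N.Normal] : EPPO (G ⧸ N) := by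
  intro x hx
  obtain ⟨g, rfl⟩ := QuotientGroup.mk'_surjective N x
  have hg : g ≠ 1 := fun e => hx (by rw [e, map_one])
  exact (h g hg).dvd (orderOf_map_dvd _ g) fun e => hx (orderOf_eq_one_iff.mp e)

theorem exists_third_prime {H : Type u} [Group H] [Finite H] (hns : ¬ Group.IsSolvable H) {a b : ℕ}
    (ha : a.Prime) (hb : b.Prime) : ∃ r : ℕ, r.Prime ∧ r ∣ Nat.card H ∧ r ≠ a ∧ r ≠ b := by
  by_contra hc
  push Not at hc
  have key : ∀ n : ℕ, n ≠ 0 → (∀ r : ℕ, r.Prime → r ∣ n → r = a ∨ r = b) →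
      ∃ i j : ℕ, n = a ^ i * b ^ j := by
    intro n hn hr
    induction n using Nat.recOnPrimePow with
    | zero => exact absurd rfl hn
    | one => exact ⟨0, 0, by simp⟩
    | prime_pow_mul m r k hr' hrm hk ihm =>
      obtain ⟨i, j, hij⟩ := ihm (fun hm => hn (by simp [hm]))
        fun s hs hsd => hr s hs (hsd.mul_left _)
      rcases hr r hr' ((dvd_pow_self r hk.ne').mul_right m) with rfl | rfl
      · exact ⟨k + i, j, by rw [hij, pow_add, mul_assoc]⟩
      · exact ⟨i, k + j, by rw [hij, pow_add]; ring⟩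
  obtain ⟨i, j, hij⟩ := key _ Nat.card_pos.ne' fun r hr hd => by
    by_contra h'
    push Not at h'
    exact h'.2 (hc r hr hd h'.1)
  exact hns (Cfsg.Agent.S0144.result a b i j ha hb hij)

theorem isSolvable_of_isPGroup {p : ℕ} [Fact p.Prime] {H : Subgroup G} (h : IsPGroup p H) :
    Group.IsSolvable H := @IsNilpotent.to_isSolvable _ _ h.isNilpotent

theorem exists_orderOf_prime {H : Subgroup G} (hH : H ≠ ⊥) :
    ∃ x ∈ H, (orderOf x).Prime := by
  obtain ⟨r, hr, hrd⟩ := Nat.exists_prime_and_dvd (n := Nat.card H)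
    (fun e => hH (Subgroup.eq_bot_of_card_eq H e))
  haveI := Fact.mk hr
  obtain ⟨x, hx⟩ := exists_prime_orderOf_dvd_card' r hrd
  exact ⟨x, x.2, by rwa [Subgroup.orderOf_coe, hx]⟩

/-- The solvable radical is a `p`-group. -/
theorem radical_isPGroup (hns : ¬ Group.IsSolvable G) (h : EPPO G) (R : Subgroup G) [R.Normal]
    (hRs : Group.IsSolvable R) : ∃ p : ℕ, p.Prime ∧ IsPGroup p R := by
  rcases eq_or_ne R ⊥ with rfl | hR
  · exact ⟨2, Nat.prime_two, IsPGroup.of_bot⟩
  obtain ⟨A, hAn, hA, hAR, hAmin⟩ := exists_minimal_normal_le hR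
  haveI := hAn
  obtain ⟨p, hp, hAp⟩ := minimal_normal_solvable_isPGroup (isSolvable_of_le hAR hRs) hA hAmin
  refine ⟨p, hp, ?_⟩
  haveI := Fact.mk hp
  obtain ⟨F, hAF, ⟨hFn, hFR, hFp⟩, hFmax⟩ :=
    (Set.toFinite {F : Subgroup G | F.Normal ∧ F ≤ R ∧ IsPGroup p F}).exists_le_maximal ⟨hAn, hAR, hAp⟩
  by_contra hRp
  have hFne : F ≠ ⊥ := fun e => hA (le_bot_iff.mp (e ▸ hAF))
  have hFR' : F ≠ R := fun e => hRp (e ▸ hFp)
  haveI := hFn
  let π := QuotientGroup.mk' F
  have hπs : Function.Surjective π := QuotientGroup.mk'_surjective F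
  haveI hRm : (R.map π).Normal := Subgroup.Normal.map inferInstance π hπs
  have hRb : R.map π ≠ ⊥ := fun e => hFR' (le_antisymm hFR (by
    rw [Subgroup.map_eq_bot_iff, QuotientGroup.ker_mk'] at e; exact e))
  obtain ⟨S', hS'n, hS'ne, hS'R, hS'min⟩ := exists_minimal_normal_le hRb
  haveI := hS'n
  obtain ⟨q, hq, hS'q⟩ := minimal_normal_solvable_isPGroup
    (isSolvable_of_le hS'R (isSolvable_map hRs π)) hS'ne hS'min
  haveI := Fact.mk hq
  set S := S'.comap π with hS
  have hFS : F ≤ S := fun x hx => by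
    show π x ∈ S'
    rw [show π x = 1 from (QuotientGroup.eq_one_iff x).mpr hx]; exact one_mem _
  have hSR : S ≤ R := by
    refine (Subgroup.comap_mono hS'R).trans ?_
    rw [Subgroup.comap_map_eq, QuotientGroup.ker_mk']; exact sup_le le_rfl hFR
  have hSF : ¬ S ≤ F := fun hle => hS'ne (by
    rw [eq_bot_iff]
    intro y hy
    obtain ⟨x, rfl⟩ := hπs y
    exact (QuotientGroup.eq_one_iff x).mpr (hle hy))
  have hqp : q ≠ p := by
    rintro rfl
    refine hSF (hFmax ⟨inferInstance, hSR, ?_⟩ hFS)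
    exact hS'q.comap_of_ker_isPGroup π (by rw [QuotientGroup.ker_mk']; exact hFp)
  -- a Sylow `q`-subgroup of `S`
  obtain ⟨Q0⟩ : Nonempty (Sylow q S) := inferInstance
  set Q := (Q0 : Subgroup S).map S.subtype with hQ
  have hQp : IsPGroup q Q := Q0.isPGroup'.map _
  have hqS : q ∣ Nat.card S := by
    obtain ⟨k, hk⟩ := hS'q.exists_card_eq
    have hk0 : k ≠ 0 := fun e => hS'ne (Subgroup.eq_bot_of_card_eq _ (by simpa [e] using hk))
    have h1 : Nat.card S' ∣ Nat.card S := by
      rw [show S' = S.map π from (Subgroup.map_comap_eq_self_of_surjective hπs S').symm]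
      exact Subgroup.card_map_dvd _ _
    exact ((dvd_pow_self q hk0).trans hk.symm.dvd).trans h1
  have hQne : Q ≠ ⊥ := by
    intro e
    have e' : (Q0 : Subgroup S) = ⊥ :=
      (Subgroup.map_eq_bot_iff_of_injective _ S.subtype_injective).mp e
    have := Q0.not_dvd_index
    rw [e', Subgroup.index_bot] at this
    exact this hqS
  set N := Subgroup.normalizer (Q : Set G) with hN
  have hfr : N ⊔ S = ⊤ := Sylow.normalizer_sup_eq_top Q0
  -- `N` covers `G ⧸ R`
  have hNns : ¬ Group.IsSolvable N := fun hs => hns (by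
    have hGS : Group.IsSolvable (G ⧸ S) := by
      haveI := hs
      refine Group.isSolvable_of_surjective (f := (QuotientGroup.mk' S).comp N.subtype) ?_
      intro y
      obtain ⟨g, rfl⟩ := QuotientGroup.mk'_surjective S y
      obtain ⟨a, ha, b, hb, rfl⟩ := Subgroup.mem_sup_of_normal_right.mp
        (hfr.ge (Subgroup.mem_top g) : g ∈ N ⊔ S)
      refine ⟨⟨a, ha⟩, ?_⟩
      rw [map_mul, show QuotientGroup.mk' S b = 1 from (QuotientGroup.eq_one_iff b).mpr hb, mul_one]
      rfl
    exact (Group.isSolvable_iff_subgroup_quotient S).mpr ⟨isSolvable_of_le hSR hRs, hGS⟩)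
  -- the elements of order `q` of the centre of `Q` form a group of order `q`
  haveI : Nontrivial Q := (Subgroup.nontrivial_iff_ne_bot Q).mpr hQne
  haveI := hQp.center_nontrivial
  obtain ⟨z, hz⟩ : ∃ z : Subgroup.center Q, orderOf z = q := by
    obtain ⟨k, hk⟩ := (hQp.to_subgroup (Subgroup.center Q)).exists_card_eq
    have hk0 : k ≠ 0 := fun e => by
      rw [e, pow_zero] at hk
      exact absurd hk (Finite.one_lt_card (α := Subgroup.center Q)).ne'
    exact exists_prime_orderOf_dvd_card' q ((dvd_pow_self q hk0).trans hk.symm.dvd)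
  set z' : G := ((z : Q) : G) with hz'
  have hzo : orderOf z' = q := by rw [hz', Subgroup.orderOf_coe, Subgroup.orderOf_coe, hz]
  have huniq : ∀ w : G, orderOf w = q → Commute z' w → w ∈ Subgroup.zpowers z' := by
    intro w hw hzw
    by_contra hwz
    obtain ⟨hAab, p', hp', hAexp⟩ := minimal_normal_solvable (isSolvable_of_le hAR hRs) hA hAmin
    -- elements of order `q` act without fixed points on `A`
    have hfix : ∀ e : G, orderOf e = q → ∀ x ∈ A, e * x = x * e → x = 1 := by
      intro e he x hx hcomm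
      by_contra hx1
      obtain ⟨k, hk⟩ := IsPGroup.iff_orderOf.mp hAp ⟨x, hx⟩
      rw [Subgroup.orderOf_mk] at hk
      have hk0 : k ≠ 0 := fun e => hx1 (orderOf_eq_one_iff.mp (by simpa [e] using hk))
      refine h.no_mixed (g := e * x) hq hp hqp ?_ ?_ <;>
        rw [(show Commute e x from hcomm).orderOf_mul_eq_mul_orderOf_of_coprime
          (by rw [he, hk]; exact ((Nat.coprime_primes hq hp).mpr hqp).pow_right k), he, hk]
      · exact dvd_mul_right q _
      · exact (dvd_pow_self p hk0).mul_left _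
    letI : CommGroup A := { (inferInstance : Group A) with mul_comm := fun a b => hAab.is_comm.comm a b }
    let ψ : G →* MulAut A := MulAut.conjNormal
    have hnorm : ∀ e : G, orderOf e = q → ∀ x : A, ∏ i ∈ Finset.range q, ψ (e ^ i) x = 1 := by
      intro e he x
      have h1 : ψ e (∏ i ∈ Finset.range q, ψ (e ^ i) x) = ∏ i ∈ Finset.range q, ψ (e ^ i) x := by
        rw [map_prod]
        have hshift : ∏ i ∈ Finset.range q, ψ e (ψ (e ^ i) x) = ∏ i ∈ Finset.range q, ψ (e ^ (i + 1)) x :=
          Finset.prod_congr rfl fun i _ => by rw [pow_succ' e i, map_mul]; rfl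
        rw [hshift]
        have h2 := Finset.prod_range_succ' (fun i => ψ (e ^ i) x) q
        rw [Finset.prod_range_succ, ← he, pow_orderOf_eq_one, pow_zero, he] at h2
        exact (mul_right_cancel h2).symm
      exact Subtype.ext (hfix e he _ (Subtype.prop _) (mul_inv_eq_iff_eq_mul.mp (congrArg Subtype.val h1)))
    have hzq : z' ^ q = 1 := hzo ▸ pow_orderOf_eq_one z'
    have hwq : w ^ q = 1 := hw ▸ pow_orderOf_eq_one w
    have hord : ∀ j : ℕ, orderOf (w * z' ^ j) = q := fun j => orderOf_eq_prime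
      (by rw [(hzw.symm.pow_right j).mul_pow, hwq, ← pow_mul, mul_comm j, pow_mul, hzq, one_pow, one_mul])
      fun e => hwz (by
        rw [mul_eq_one_iff_eq_inv] at e
        rw [e]; exact inv_mem (pow_mem (Subgroup.mem_zpowers z') j))
    obtain ⟨a, ha, ha1⟩ := (Subgroup.bot_or_exists_ne_one A).resolve_left hA
    -- sum over all lines
    have hsum : ∏ j ∈ Finset.range q, ∏ i ∈ Finset.range q, ψ ((w * z' ^ j) ^ i) (⟨a, ha⟩ : A) = 1 :=
      Finset.prod_eq_one fun j _ => hnorm _ (hord j) _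
    rw [Finset.prod_comm, Finset.prod_eq_single_of_mem 0 (Finset.mem_range.mpr hq.pos)] at hsum
    · simp only [pow_zero, map_one, MulAut.one_apply, Finset.prod_const, Finset.card_range] at hsum
      obtain ⟨k, hk⟩ := hAp ⟨a, ha⟩
      exact ha1 (congrArg Subtype.val (orderOf_eq_one_iff.mp (Nat.eq_one_of_dvd_coprimes
        (((Nat.coprime_primes hp hq).mpr hqp.symm).pow_left k) (orderOf_dvd_of_pow_eq_one hk)
        (orderOf_dvd_of_pow_eq_one hsum))))
    · intro i hi hi0
      have hord' : orderOf (z' ^ i) = q := by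
        rw [Nat.Coprime.orderOf_pow, hzo]
        rw [hzo]
        exact hq.coprime_iff_not_dvd.mpr
          (Nat.not_dvd_of_pos_of_lt (Nat.pos_of_ne_zero hi0) (Finset.mem_range.mp hi))
      have he : ∀ j, ψ ((w * z' ^ j) ^ i) (⟨a, ha⟩ : A) = ψ (w ^ i) (ψ ((z' ^ i) ^ j) ⟨a, ha⟩) := fun j => by
        rw [(hzw.symm.pow_right j).mul_pow, ← pow_mul, mul_comm j, pow_mul, map_mul]; rfl
      rw [Finset.prod_congr rfl (fun j _ => he j), ← map_prod, hnorm _ hord', map_one]
  have hNZ : N ≤ Subgroup.normalizer (Subgroup.zpowers z' : Set G) := by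
    intro y hy
    have hmem : y * z' * y⁻¹ ∈ Q := (Subgroup.mem_normalizer_iff.mp hy z').mp (z : Q).2
    have hin : y * z' * y⁻¹ ∈ Subgroup.zpowers z' :=
      huniq _ (((MulAut.conj y).orderOf_eq z').trans hzo)
        (congrArg Subtype.val (Subgroup.mem_center_iff.mp z.2 ⟨_, hmem⟩)).symm
    rw [Subgroup.mem_normalizer_iff_map_conj_eq]
    refine Subgroup.eq_of_le_of_card_ge ?_ (Subgroup.card_map_of_injective (MulAut.conj y).injective).ge
    rintro _ ⟨x, ⟨i, rfl⟩, rfl⟩
    show MulAut.conj y (z' ^ i) ∈ Subgroup.zpowers z'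
    rw [map_zpow]
    exact zpow_mem hin i
  apply hNns
  let φ : N →* MulAut (Subgroup.zpowers z') :=
    (Subgroup.normalizerMonoidHom (Subgroup.zpowers z')).comp (Subgroup.inclusion hNZ)
  have hker : IsPGroup q φ.ker := by
    intro x
    have hc : ((x : N) : G) * z' = z' * ((x : N) : G) := by
      have h1 := congrArg (fun e : MulAut (Subgroup.zpowers z') =>
        ((e ⟨z', Subgroup.mem_zpowers z'⟩ : Subgroup.zpowers z') : G)) (MonoidHom.mem_ker.mp x.2)
      exact mul_inv_eq_iff_eq_mul.mp h1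
    refine ⟨(orderOf x).primeFactorsList.length, ?_⟩
    rw [← Nat.eq_prime_pow_of_unique_prime_dvd (orderOf_pos x).ne' (fun {s} hs hsd => ?_)]
    · exact pow_orderOf_eq_one x
    by_contra hsq
    have hox : orderOf ((x : N) : G) = orderOf x := by rw [Subgroup.orderOf_coe, Subgroup.orderOf_coe]
    obtain ⟨m, hm⟩ := hsd
    refine h.not_commute (a := ((x : N) : G) ^ m) hs hq hsq ?_ hzo ((show Commute _ _ from hc).pow_left m)
    rw [orderOf_pow_of_dvd (fun e => by rw [e, mul_zero] at hm; exact (orderOf_pos x).ne' hm)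
      (by rw [hox, hm]; exact dvd_mul_left m s), hox, hm, Nat.mul_div_cancel _ (Nat.pos_of_ne_zero
        fun e => by rw [e, mul_zero] at hm; exact (orderOf_pos x).ne' hm)]
  haveI hk : Group.IsSolvable φ.ker := @IsNilpotent.to_isSolvable _ _ hker.isNilpotent
  haveI hc : Group.IsSolvable φ.range := Group.isSolvable_of_comm fun a b => Subtype.ext (by
    haveI : IsCyclic (Subgroup.zpowers z') := inferInstance
    refine (IsCyclic.mulAutMulEquiv (Subgroup.zpowers z')).injective ?_
    rw [Subgroup.coe_mul, Subgroup.coe_mul, map_mul, map_mul, mul_comm])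
  exact (Group.isSolvable_iff_subgroup_quotient φ.ker).mpr ⟨hk,
    Group.isSolvable_of_surjective (f := (QuotientGroup.quotientKerEquivRange φ).symm.toMonoidHom)
      (MulEquiv.surjective _)⟩

/-- The minimal normal subgroup above the radical. -/
theorem socle_simple {H : Type u} [Group H] [Finite H] (h : EPPO H)
    (hrad : ∀ N : Subgroup H, N.Normal → Group.IsSolvable N → N = ⊥) (hH : (⊤ : Subgroup H) ≠ ⊥) :
    ∃ M : Subgroup H, M.Normal ∧ IsSimpleGroup M ∧ ¬ IsMulCommutative M ∧
      ∀ N : Subgroup H, N.Normal → N ≠ ⊥ → M ≤ N := by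
  obtain ⟨M, hMn, hM, -, hMmin⟩ := exists_minimal_normal_le hH
  have hMns : ¬ Group.IsSolvable M := fun hs => hM (hrad M hMn hs)
  -- two commuting subgroups, neither of prime power order
  have key : ∀ A B : Subgroup H, A ≠ ⊥ → (∀ r : ℕ, r.Prime → ¬ IsPGroup r B) →
      (∀ a ∈ A, ∀ b ∈ B, Commute a b) → False := by
    intro A B hA hB hcomm
    obtain ⟨a, ha, har⟩ := exists_orderOf_prime hA
    obtain ⟨s, hs, hsB, hsr⟩ : ∃ s : ℕ, s.Prime ∧ s ∣ Nat.card B ∧ s ≠ orderOf a := by
      by_contra hc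
      push Not at hc
      haveI := Fact.mk har
      exact hB _ har (IsPGroup.of_card (n := (Nat.card B).primeFactorsList.length)
        (Nat.eq_prime_pow_of_unique_prime_dvd Nat.card_pos.ne' fun {d} hd hdd => hc d hd hdd))
    haveI := Fact.mk hs
    obtain ⟨b, hb⟩ := exists_prime_orderOf_dvd_card' s hsB
    exact h.not_commute har hs hsr.symm rfl (by rw [Subgroup.orderOf_coe, hb]) (hcomm a ha b b.2)
  refine ⟨M, hMn, ?_, fun hc => hMns (Group.isSolvable_of_comm fun a b => hc.is_comm.comm a b),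
    fun N hN hN1 => ?_⟩
  · haveI : Nontrivial M := (Subgroup.nontrivial_iff_ne_bot M).mpr hM
    refine ⟨fun K hK => ?_⟩
    by_contra hKc
    push Not at hKc
    obtain ⟨K0, hK0n, hK0ne, hK0K, hK0min⟩ := exists_minimal_normal_le (N := K) hKc.1
    haveI := hK0n
    set A := K0.map M.subtype with hA
    have hAM : A ≤ M := Subgroup.map_subtype_le _
    have hAne : A ≠ ⊥ := fun e => hK0ne ((Subgroup.map_eq_bot_iff_of_injective _ M.subtype_injective).mp e)
    have hMA : M ≤ Subgroup.normalizer (A : Set H) := by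
      intro m hm
      refine Subgroup.mem_normalizer_iff.mpr fun a => ⟨?_, ?_⟩
      · rintro ⟨a, ha, rfl⟩
        exact ⟨_, hK0n.conj_mem a ha ⟨m, hm⟩, rfl⟩
      · rintro ⟨b, hb, e⟩
        refine ⟨_, hK0n.conj_mem' b hb ⟨m, hm⟩, ?_⟩
        show m⁻¹ * (b : H) * m = a
        rw [show (b : H) = m * a * m⁻¹ from e]; group
    obtain ⟨g, hg⟩ : ∃ g : H, A.map (MulAut.conj g).toMonoidHom ≠ A := by
      by_contra hc
      push Not at hc
      have hAn : A.Normal := ⟨fun a ha g => (hc g).le ⟨a, ha, rfl⟩⟩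
      rcases hMmin A hAn hAM with e | e
      · exact hAne e
      · exact hKc.2 (eq_top_iff.mpr fun x _ => hK0K (by
          obtain ⟨y, hy, hyx⟩ := e.ge x.2
          rw [← show y = x from Subtype.ext hyx]; exact hy))
    set B := A.map (MulAut.conj g).toMonoidHom with hB
    have hBM : B ≤ M := by
      rintro _ ⟨a, ha, rfl⟩
      exact hMn.conj_mem a (hAM ha) g
    have hMB : M ≤ Subgroup.normalizer (B : Set H) := by
      intro m hm
      have hm' := hMA (hMn.conj_mem' m hm g)
      refine Subgroup.mem_normalizer_iff.mpr fun b => ⟨?_, ?_⟩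
      · rintro ⟨a, ha, rfl⟩
        refine ⟨_, (Subgroup.mem_normalizer_iff.mp hm' a).mp ha, ?_⟩
        simp [MulAut.conj_apply]; group
      · rintro ⟨a, ha, e⟩
        refine ⟨(g⁻¹ * m * g)⁻¹ * a * (g⁻¹ * m * g),
          (Subgroup.mem_normalizer_iff.mp hm' _).mpr (by
            rw [show g⁻¹ * m * g * ((g⁻¹ * m * g)⁻¹ * a * (g⁻¹ * m * g)) * (g⁻¹ * m * g)⁻¹ = a by group]
            exact ha), ?_⟩
        rw [show b = m⁻¹ * (MulAut.conj g a) * m by
          rw [show MulAut.conj g a = m * b * m⁻¹ from e]; group]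
        simp [MulAut.conj_apply]; group
    have hinf : A ⊓ B = ⊥ := by
      haveI : ((A ⊓ B).subgroupOf M).Normal :=
        ⟨fun x hx m => ⟨(Subgroup.mem_normalizer_iff.mp (hMA m.2) _).mp hx.1,
          (Subgroup.mem_normalizer_iff.mp (hMB m.2) _).mp hx.2⟩⟩
      have hle : (A ⊓ B).subgroupOf M ≤ K0 := fun x hx => by
        obtain ⟨y, hy, e⟩ := hx.1
        rwa [← show y = x from Subtype.ext e]
      rcases hK0min _ this hle with e | e
      · rw [eq_bot_iff]
        intro x hx
        have : (⟨x, hAM hx.1⟩ : M) ∈ (A ⊓ B).subgroupOf M := hx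
        rw [e, Subgroup.mem_bot] at this
        exact congrArg Subtype.val this
      · exfalso
        apply hg
        have hle' : A ≤ B := by
          rintro _ ⟨x, hx, rfl⟩
          exact (e.ge hx).2
        exact (Subgroup.eq_of_le_of_card_ge hle'
          (Subgroup.card_map_of_injective (MulAut.conj g).injective).le).symm
    refine key B A (fun e => hAne ((Subgroup.map_eq_bot_iff_of_injective _ (MulAut.conj g).injective).mp e))
      (fun r hr hAr => ?_) fun b hb a ha => ?_
    · -- then `M` would be an `r`-group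
      haveI := Fact.mk hr
      have hO : (Cfsg.pCore r M).map M.subtype = ⊥ := by
        by_contra hne
        exact hne (hrad _ inferInstance (isSolvable_map (@IsNilpotent.to_isSolvable _ _
          (Cfsg.Agent.Grp.pCore_isPGroup).isNilpotent) M.subtype))
      have hK0r : IsPGroup r K0 := by
        have := hAr.comap_of_injective M.subtype M.subtype_injective
        rwa [hA, Subgroup.comap_map_eq_self_of_injective M.subtype_injective] at this
      have h1 : K0 ≤ Cfsg.pCore r M := le_pCore hK0n hK0r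
      exact hAne (le_bot_iff.mp ((Subgroup.map_mono h1).trans hO.le))
    · refine commutatorElement_eq_one_iff_mul_comm.mp (Subgroup.mem_bot.mp ?_)
      rw [← hinf, commutatorElement_def]
      refine ⟨?_, ?_⟩
      · exact mul_mem ((Subgroup.mem_normalizer_iff.mp (hMA (hBM hb)) a).mp ha) (A.inv_mem ha)
      · rw [mul_assoc b, mul_assoc b]
        exact mul_mem hb ((Subgroup.mem_normalizer_iff.mp (hMB (hAM ha)) _).mp (inv_mem hb))
  · haveI := hMn
    haveI := hN
    rcases hMmin (M ⊓ N) inferInstance inf_le_left with e | e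
    · exfalso
      refine key M N hM (fun r hr hNr => hN1 (hrad N hN ?_)) fun a ha b hb =>
        (Subgroup.commute_of_normal_of_disjoint M N hMn hN (disjoint_iff.mpr e) a b ha hb)
      haveI := Fact.mk hr
      exact isSolvable_of_isPGroup hNr
    · exact inf_eq_left.mp e

end Cfsg.Agent.Grp.EPPO
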