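import Cfsg.Agent.Lib.Grp.ComponentSplit

/-!
A component of largest order of an involution centralizer, in the presence of the B-property.
-/

set_option autoImplicit false
set_option linter.style.haveILetI false
set_option linter.unusedSectionVars false

namespace Cfsg.Agent.Grp.ComponentMax

open scoped Pointwise commutatorElement
open Subgroup

universe u

variable {G : Type u} [Group G] [Finite G]

theorem elementary_sup {A B : Subgroup G} (hA : Cfsg.IsElementaryAbelian 2 A)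
    (hB : Cfsg.IsElementaryAbelian 2 B) (h : ∀ x ∈ A, ∀ y ∈ B, x * y = y * x) :
    Cfsg.IsElementaryAbelian 2 (A ⊔ B : Subgroup G) := by
  have hAc : ∀ x ∈ A, ∀ y ∈ A, x * y = y * x := fun x hx y hy => by
    have := hA.1
    exact congrArg Subtype.val (this.is_comm.comm (⟨x, hx⟩ : A) ⟨y, hy⟩)
  have hBc : ∀ x ∈ B, ∀ y ∈ B, x * y = y * x := fun x hx y hy => by
    have := hB.1
    exact congrArg Subtype.val (this.is_comm.comm (⟨x, hx⟩ : B) ⟨y, hy⟩)
  have hAn : A ≤ normalizer (B : Set G) := fun a ha =>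
    centralizer_le_normalizer _ (mem_centralizer_iff.2 fun b hb => (h a ha b hb).symm)
  have hmem : ∀ x ∈ A ⊔ B, ∃ a ∈ A, ∃ b ∈ B, x = a * b := fun x hx => by
    rw [← SetLike.mem_coe, Subgroup.coe_mul_of_left_le_normalizer_right A B hAn] at hx
    obtain ⟨a, ha, b, hb, rfl⟩ := hx
    exact ⟨a, ha, b, hb, rfl⟩
  refine ⟨⟨⟨fun x y => Subtype.ext ?_⟩⟩, fun x hx => ?_⟩
  · obtain ⟨a, ha, b, hb, ex⟩ := hmem x x.2
    obtain ⟨a', ha', b', hb', ey⟩ := hmem y y.2
    show (x : G) * y = y * x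
    rw [ex, ey]
    calc a * b * (a' * b') = a * (b * a') * b' := by group
      _ = a * a' * (b * b') := by rw [← h a' ha' b hb]; group
      _ = a' * a * (b' * b) := by rw [hAc a ha a' ha', hBc b hb b' hb']
      _ = a' * (a * b') * b := by group
      _ = a' * b' * (a * b) := by rw [h a ha b' hb']; group
  · obtain ⟨a, ha, b, hb, rfl⟩ := hmem x hx
    rw [(show Commute a b from h a ha b hb).mul_pow, hA.2 a ha, hB.2 b hb, mul_one]

theorem isPGroup_of_elementary {A : Subgroup G} (hA : Cfsg.IsElementaryAbelian 2 A) : IsPGroup 2 A :=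
  fun x => ⟨1, Subtype.ext (by simpa using hA.2 x x.2)⟩

theorem prankLE_of_bound {X : Subgroup G} {k : ℕ}
    (h : ∀ B : Subgroup G, B ≤ X → Cfsg.IsElementaryAbelian 2 B → Nat.card B ≤ 2 ^ k) :
    Cfsg.PRankLE 2 k X := by
  intro A hA hexp
  rw [← card_map_of_injective (K := A) X.subtype_injective]
  refine h _ (map_subtype_le _) ⟨⟨⟨?_⟩⟩, ?_⟩
  · rintro ⟨_, x, hx, rfl⟩ ⟨_, y, hy, rfl⟩
    exact Subtype.ext (congrArg (fun z : A => ((z : X) : G)) (hA.is_comm.comm ⟨x, hx⟩ ⟨y, hy⟩))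
  · rintro _ ⟨x, hx, rfl⟩
    rw [← map_pow, hexp x hx, map_one]

theorem card_le_of_prankLE {X B : Subgroup G} {k : ℕ} (h : Cfsg.PRankLE 2 k X) (hB : B ≤ X)
    (hel : Cfsg.IsElementaryAbelian 2 B) : Nat.card B ≤ 2 ^ k := by
  rw [← Nat.card_congr (subgroupOfEquivOfLe hB).toEquiv]
  refine h _ ⟨⟨fun x y => Subtype.ext (Subtype.ext ?_)⟩⟩ fun x hx => Subtype.ext ?_
  · have := hel.1
    show ((x : X) : G) * ((y : X) : G) = ((y : X) : G) * ((x : X) : G)
    exact congrArg Subtype.val (this.is_comm.comm (⟨((x : X) : G), x.2⟩ : B) ⟨((y : X) : G), y.2⟩)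
  · exact hel.2 _ hx

/-- In the B-property with trivial core, the 2-layer of an involution centralizer is its layer. -/
theorem pLayer_le_layer (hO : Cfsg.oddCore G = ⊥) (hB : Cfsg.HasBProperty G) {b : G}
    (hb : orderOf b = 2) :
    Cfsg.pLayer 2 (centralizer ({b} : Set G)) ≤ Cfsg.layer (centralizer ({b} : Set G)) := by
  haveI : Fact (Nat.Prime 2) := ⟨Nat.prime_two⟩
  set C := centralizer ({b} : Set G) with hC
  have h0 := hB b hb
  rw [hO, le_bot_iff, map_eq_bot_iff_of_injective _ C.subtype_injective,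
    commutator_eq_bot_iff_le_centralizer] at h0
  refine sSup_le fun M hM => IsComponent.le_layer ⟨hM.1, ?_⟩
  refine Invol.isQuasisimple_of_map (QuotientGroup.mk' (Cfsg.pPrimeCore 2 C)) (IsPComponent.perfect hM)
    (fun k hk hk1 j hj => ?_) hM.2.1.2
  have hko : k ∈ Cfsg.oddCore C := (QuotientGroup.eq_one_iff k).1 hk1
  exact (mem_centralizer_iff.1 (h0 (le_sSup (show M ∈ {K | Cfsg.IsPComponent 2 K} from hM) hj)) k hko).symm

/-- A component of even order lies in the 2-layer. -/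
theorem component_le_pLayer {M : Subgroup G} (hM : Cfsg.IsComponent M) (hev : 2 ∣ Nat.card M) :
    M ≤ Cfsg.pLayer 2 G := by
  haveI : Fact (Nat.Prime 2) := ⟨Nat.prime_two⟩
  set O := Cfsg.pPrimeCore 2 G with hO
  haveI hOn : O.Normal := pPrimeCore_isNormal
  set N := O.subgroupOf M with hN
  have hnle : N ≠ ⊤ := fun e => by
    have hle : M ≤ O := subgroupOf_eq_top.1 e
    exact pPrimeCore_not_dvd (p := 2) (G := G) (hev.trans (card_dvd_of_le hle))
  have hNc : N ≤ center M := ((IsQuasisimple.eq_top_or_le_center hM.2 N).resolve_left hnle)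
  refine le_sSup (show Cfsg.IsPComponent 2 M from ⟨hM.1, ⟨hM.1.map (QuotientGroup.mk'_surjective O), ?_⟩,
    fun H hH hle hmap => ?_⟩)
  · haveI : Nontrivial (M.map (QuotientGroup.mk' O) : Subgroup (G ⧸ O)) := by
      rw [Subgroup.nontrivial_iff_ne_bot]
      intro e
      rw [Subgroup.map_eq_bot_iff, QuotientGroup.ker_mk'] at e
      exact hnle (subgroupOf_eq_top.2 e)
    exact IsQuasisimple.of_surjective hM.2 (MonoidHom.subgroupMap_surjective (QuotientGroup.mk' O) M)
  · rcases IsQuasisimple.eq_top_or_le_center_of_subnormal hM.2 (hH.subgroupOf (K := M)) with e | e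
    · exact le_antisymm hle (subgroupOf_eq_top.1 e)
    · exfalso
      refine IsQuasisimple.center_ne_top hM.2 (top_le_iff.1 fun x _ => ?_)
      have hx : (x : G) ∈ H ⊔ O := by
        rw [← QuotientGroup.ker_mk' O, ← comap_map_eq, hmap, mem_comap]
        exact mem_map_of_mem _ x.2
      obtain ⟨h, hh, o, ho, he⟩ := mem_sup_of_normal_right.1 hx
      have hoM : o ∈ M := by
        have : o = h⁻¹ * x := by rw [← he, inv_mul_cancel_left]
        rw [this]; exact M.mul_mem (M.inv_mem (hle hh)) x.2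
      have hxe : x = (⟨h, hle hh⟩ : M) * ⟨o, hoM⟩ := Subtype.ext he.symm
      rw [hxe]
      exact (center M).mul_mem (e hh) (hNc ho)

theorem main (hO : Cfsg.oddCore G = ⊥) (hB : Cfsg.HasBProperty G) {a : G} (ha : orderOf a = 2)
    {K : Subgroup G} (hKa : K ≤ centralizer ({a} : Set G))
    (hK : Cfsg.IsComponent (K.subgroupOf (centralizer ({a} : Set G))))
    (hmax : ∀ y : G, orderOf y = 2 → ∀ K' : Subgroup G, K' ≤ centralizer ({y} : Set G) →
      Cfsg.IsComponent (K'.subgroupOf (centralizer ({y} : Set G))) →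
      Nat.card K' ≤ Nat.card K ∧ (Nat.card K' = Nat.card K → ∀ k : ℕ,
        Cfsg.PRankLE 2 k ↥(centralizer ({a} : Set G) ⊓ centralizer (K : Set G)) →
        Cfsg.PRankLE 2 k ↥(centralizer ({y} : Set G) ⊓ centralizer (K' : Set G))))
    (hrk : ¬ Cfsg.PRankLE 2 1 ↥K) {B : Subgroup G}
    (hBle : B ≤ centralizer ({a} : Set G) ⊓ centralizer (K : Set G))
    (hBel : Cfsg.IsElementaryAbelian 2 B)
    (hBmax : ∀ B' : Subgroup G, B' ≤ centralizer ({a} : Set G) ⊓ centralizer (K : Set G) →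
      Cfsg.IsElementaryAbelian 2 B' → Nat.card B' ≤ Nat.card B)
    {b : G} (hb : b ∈ B) (hb1 : b ≠ 1) :
    K ≤ centralizer ({b} : Set G) ∧ Cfsg.IsComponent (K.subgroupOf (centralizer ({b} : Set G))) := by
  haveI : Fact (Nat.Prime 2) := ⟨Nat.prime_two⟩
  have ha2 : a * a = 1 := by rw [← sq, ← ha, pow_orderOf_eq_one]
  have hb2 : orderOf b = 2 := orderOf_eq_prime (hBel.2 b hb) hb1
  have haB : a ∈ B := by
    have hael : Cfsg.IsElementaryAbelian 2 (zpowers a) := by
      refine ⟨inferInstance, ?_⟩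
      rintro x ⟨i, rfl⟩
      rw [← zpow_natCast, ← zpow_mul, mul_comm, zpow_mul, zpow_natCast, ← ha, pow_orderOf_eq_one, one_zpow]
    have hle : B ⊔ zpowers a ≤ centralizer ({a} : Set G) ⊓ centralizer (K : Set G) :=
      sup_le hBle (zpowers_le.2 ⟨mem_centralizer_singleton_iff.2 rfl,
        mem_centralizer_iff.2 fun k hk => mem_centralizer_singleton_iff.1 (hKa hk)⟩)
    have hel := elementary_sup hBel hael fun x hx y hy => by
      obtain ⟨i, rfl⟩ := hy
      exact ((show Commute x a from mem_centralizer_singleton_iff.1 (hBle hx).1).zpow_right i).eq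
    have e := eq_of_le_of_card_ge (le_sup_left : B ≤ B ⊔ zpowers a) (hBmax _ hle hel)
    exact e ▸ mem_sup_right (mem_zpowers a)
  have hab : a * b = b * a := (mem_centralizer_singleton_iff.1 (hBle hb).1).symm
  set Cb := centralizer ({b} : Set G) with hCb
  have hKb : K ≤ Cb := fun x hx =>
    mem_centralizer_singleton_iff.2 (mem_centralizer_iff.1 (hBle hb).2 x hx)
  refine ⟨hKb, ?_⟩
  set a' : Cb := ⟨a, mem_centralizer_singleton_iff.2 hab⟩ with ha'
  set L := K.subgroupOf Cb with hLdef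
  have hLmap : L.map Cb.subtype = K := map_subgroupOf_eq_of_le hKb
  have hLa : L ≤ centralizer ({a'} : Set Cb) := fun x hx =>
    mem_centralizer_singleton_iff.2 (Subtype.ext (mem_centralizer_singleton_iff.1 (hKa hx)))
  have hKq : Cfsg.IsQuasisimple K := (isQuasisimple_subgroupOf_iff hKa).1 hK.2
  have hLq : Cfsg.IsQuasisimple L := (isQuasisimple_subgroupOf_iff hKb).2 hKq
  have hLc : Cfsg.IsComponent (L.subgroupOf (centralizer ({a'} : Set Cb))) := by
    refine ⟨?_, (isQuasisimple_subgroupOf_iff hLa).2 hLq⟩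
    let j : centralizer ({a'} : Set Cb) →* centralizer ({a} : Set G) :=
      MonoidHom.codRestrict (Cb.subtype.comp (centralizer ({a'} : Set Cb)).subtype) _ fun x =>
        mem_centralizer_singleton_iff.2 (congrArg Subtype.val (mem_centralizer_singleton_iff.1 x.2))
    have e : L.subgroupOf (centralizer ({a'} : Set Cb)) = (K.subgroupOf (centralizer ({a} : Set G))).comap j := rfl
    rw [e]
    exact hK.1.comap j
  -- an elementary abelian subgroup of order at least 4
  obtain ⟨A₀, hA₀c, hA₀e, hA₀card⟩ : ∃ A₀ : Subgroup K, IsMulCommutative A₀ ∧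
      (∀ x ∈ A₀, x ^ 2 = 1) ∧ 2 < Nat.card A₀ := by
    by_contra h
    push Not at h
    exact hrk fun A hA he => by simpa using h A hA he
  have hA₀p : IsPGroup 2 A₀ := fun x => ⟨1, Subtype.ext (by simpa using hA₀e x x.2)⟩
  obtain ⟨n, hn⟩ := hA₀p.exists_card_eq
  have hn2 : 2 ≤ n := by
    by_contra h
    interval_cases n <;> omega
  have hKev : 2 ∣ Nat.card K := (dvd_pow_self 2 (by omega : n ≠ 0)).trans (hn ▸ A₀.card_subgroup_dvd_card)
  have hA4 : 4 ≤ Nat.card A₀ := by
    rw [hn]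
    calc 4 = 2 ^ 2 := rfl
      _ ≤ 2 ^ n := Nat.pow_le_pow_right Nat.two_pos hn2
  have hLcard : Nat.card L = Nat.card K := Nat.card_congr (subgroupOfEquivOfLe hKb).toEquiv
  have hLE : L ≤ Cfsg.layer Cb := by
    refine le_trans ?_ (pLayer_le_layer hO hB hb2)
    have ha'2 : IsPGroup 2 (zpowers a') := IsPGroup.of_card (n := 1) (by
      rw [Nat.card_zpowers, pow_one, ← orderOf_coe]; exact ha)
    have h1 := lBalance ha'2
    rw [zpowers_eq_closure, centralizer_closure] at h1
    refine le_trans ?_ h1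
    intro x hx
    refine ⟨⟨x, hLa hx⟩, component_le_pLayer hLc ?_ hx, rfl⟩
    rw [Nat.card_congr (subgroupOfEquivOfLe hLa).toEquiv, hLcard]
    exact hKev
  obtain ⟨D, hD, hLD, hcase⟩ := ComponentSplit.trichotomy (t := a')
    (Subtype.ext ha2) hLa hLc hLE
  set D' := D.map Cb.subtype with hD'
  have hD'b : D' ≤ Cb := map_subtype_le _
  have hD'sub : D'.subgroupOf Cb = D := comap_map_eq_self_of_injective Cb.subtype_injective D
  have hD'card : Nat.card D' = Nat.card D := card_map_of_injective Cb.subtype_injective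
  obtain ⟨hle, hrank⟩ := hmax b hb2 D' hD'b (by rw [hD'sub]; exact hD)
  rcases hcase with hLD' | ⟨hlt, -⟩ | ⟨hne, hdiag, hdiag'⟩
  · exact hLD' ▸ hD
  · exfalso
    have h1 : K < D' := by
      refine lt_of_le_of_ne (hLmap ▸ Subgroup.map_mono hlt.le) fun e => hlt.ne ?_
      rw [hLdef, e, hD'sub]
    exact absurd (eq_of_le_of_card_ge h1.le hle) h1.ne
  exfalso
  have hDc : Cfsg.IsComponent (MulAut.conj a' • D) := IsComponent.conj hD a'
  let φ : D → L := fun d => ⟨(d : Cb) * (a' * (d : Cb) * a'⁻¹), hdiag' d d.2⟩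
  have hsurj : Function.Surjective φ := fun x => by
    obtain ⟨d, hd, e⟩ := hdiag x x.2
    exact ⟨⟨d, hd⟩, Subtype.ext e.symm⟩
  have hinj : Function.Injective φ := (hsurj.bijective_of_nat_card_le (by
    rw [hLcard, ← hD'card]; exact hle)).1
  have hcardeq : Nat.card D' = Nat.card K := by
    rw [hD'card, ← hLcard]
    exact Nat.card_eq_of_bijective φ ⟨hinj, hsurj⟩
  obtain ⟨k, hk⟩ := (isPGroup_of_elementary hBel).exists_card_eq
  have hrk' := hrank hcardeq k (prankLE_of_bound fun B' h1 h2 => hk ▸ hBmax B' h1 h2)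
  have hcomm : ∀ x ∈ D, ∀ y ∈ MulAut.conj a' • D, Commute x y := fun x hx y hy =>
    mem_centralizer_iff.1 (IsComponent.commute hDc hD hne hy) x hx
  have hainv : a'⁻¹ = a' := inv_eq_of_mul_eq_one_left (Subtype.ext ha2)
  have hconj : ∀ x ∈ D, a' * x * a'⁻¹ ∈ MulAut.conj a' • D := fun x hx => by
    simpa using smul_mem_pointwise_smul x (MulAut.conj a') D hx
  let φh : D →* L :=
    { toFun := φ
      map_one' := Subtype.ext (by simp [φ])
      map_mul' := fun x y => Subtype.ext (by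
        show (x : Cb) * y * (a' * ((x : Cb) * y) * a'⁻¹) = _
        calc (x : Cb) * y * (a' * ((x : Cb) * y) * a'⁻¹)
            = x * (y * (a' * x * a'⁻¹)) * (a' * y * a'⁻¹) := by group
          _ = x * ((a' * x * a'⁻¹) * y) * (a' * y * a'⁻¹) := by rw [(hcomm _ y.2 _ (hconj _ x.2)).eq]
          _ = _ := by simp [φ, mul_assoc]) }
  let e : D ≃* L := MulEquiv.ofBijective φh ⟨hinj, hsurj⟩
  -- `K`'s elementary subgroup, transported into `a D' a⁻¹`
  let ι : K →* G := ((MulAut.conj a).toMonoidHom.comp (Cb.subtype.comp D.subtype)).comp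
    (e.symm.toMonoidHom.comp (subgroupOfEquivOfLe hKb).symm.toMonoidHom)
  have hι : Function.Injective ι := by
    intro x y h
    have h1 := (MulAut.conj a).injective h
    exact (subgroupOfEquivOfLe hKb).symm.injective (e.symm.injective
      (Subtype.ext (Subtype.ext h1)))
  set E₀ := A₀.map ι with hE₀
  have hE₀card : 4 ≤ Nat.card E₀ := by rw [hE₀, card_map_of_injective hι]; exact hA4
  have hE₀el : Cfsg.IsElementaryAbelian 2 E₀ := by
    refine ⟨⟨⟨?_⟩⟩, ?_⟩
    · rintro ⟨_, x, hx, rfl⟩ ⟨_, y, hy, rfl⟩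
      refine Subtype.ext ?_
      show ι x * ι y = ι y * ι x
      have hxy : x * y = y * x := congrArg Subtype.val (hA₀c.is_comm.comm ⟨x, hx⟩ ⟨y, hy⟩)
      rw [← map_mul, ← map_mul, hxy]
    · rintro _ ⟨x, hx, rfl⟩
      rw [← map_pow, hA₀e x hx, map_one]
  have hE₀mem : ∀ x ∈ E₀, ∃ d ∈ D, x = a * (d : G) * a⁻¹ := by
    rintro _ ⟨x, -, rfl⟩
    exact ⟨_, (e.symm ((subgroupOfEquivOfLe hKb).symm x)).2, rfl⟩
  set BD := B ⊓ normalizer (D' : Set G) with hBD
  have hBa : ∀ x ∈ B, x * a = a * x := fun x hx => mem_centralizer_singleton_iff.1 (hBle hx).1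
  have hBcomm : ∀ x ∈ B, ∀ y ∈ B, x * y = y * x := fun x hx y hy => by
    have := hBel.1
    exact congrArg Subtype.val (this.is_comm.comm (⟨x, hx⟩ : B) ⟨y, hy⟩)
  have hBCb : B ≤ Cb := fun x hx => mem_centralizer_singleton_iff.2 (hBcomm x hx b hb)
  -- elements of `BD` centralise `D`
  have hBDc : ∀ x ∈ BD, ∀ d ∈ D, x * (d : G) = (d : G) * x := by
    rintro x ⟨hxB, hxN⟩ d hd
    set x' : Cb := ⟨x, hBCb hxB⟩ with hx'
    have hd'' : x * (d : G) * x⁻¹ ∈ D' := (mem_normalizer_iff.1 hxN _).1 ⟨d, hd, rfl⟩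
    obtain ⟨d₁, hd₁, e₁⟩ := hd''
    have e₁' : d₁ = x' * d * x'⁻¹ := Subtype.ext e₁
    have hfix : x' * (φ ⟨d, hd⟩ : Cb) * x'⁻¹ = (φ ⟨d, hd⟩ : Cb) := by
      have hL' : ((φ ⟨d, hd⟩ : Cb) : G) ∈ K := (φ ⟨d, hd⟩).2
      refine Subtype.ext ?_
      show x * ((φ ⟨d, hd⟩ : Cb) : G) * x⁻¹ = _
      rw [← mem_centralizer_iff.1 (hBle hxB).2 _ hL', mul_inv_cancel_right]
    have hxa : x' * a' = a' * x' := Subtype.ext (hBa x hxB)
    have : φ ⟨d₁, hd₁⟩ = φ ⟨d, hd⟩ := by
      refine Subtype.ext ?_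
      rw [← hfix]
      show d₁ * (a' * d₁ * a'⁻¹) = x' * (d * (a' * d * a'⁻¹)) * x'⁻¹
      rw [e₁']
      calc x' * d * x'⁻¹ * (a' * (x' * d * x'⁻¹) * a'⁻¹)
          = x' * d * x'⁻¹ * ((a' * x') * d * (a' * x')⁻¹) := by group
        _ = _ := by rw [← hxa]; group
    have e2 : d₁ = d := congrArg Subtype.val (hinj this)
    rw [e2] at e₁
    exact mul_inv_eq_iff_eq_mul.1 e₁.symm
  have hsplit : ∀ x ∈ B, x ∈ BD ∨ a * x ∈ BD := by
    intro x hxB
    set x' : Cb := ⟨x, hBCb hxB⟩ with hx'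
    have hD2 : Cfsg.IsComponent (MulAut.conj x' • D) := IsComponent.conj hD x'
    have hxL : ∀ l ∈ L, x' * l * x'⁻¹ = l := fun l hl => Subtype.ext (by
      have hl' : (l : G) * x = x * (l : G) := mem_centralizer_iff.1 (hBle hxB).2 _ hl
      show x * (l : G) * x⁻¹ = l
      rw [← hl', mul_inv_cancel_right])
    have hor : MulAut.conj x' • D = D ∨ MulAut.conj x' • D = MulAut.conj a' • D := by
      by_contra h
      push Not at h
      refine hLD (commutator_eq_bot_iff_le_centralizer.2 fun l hl => mem_centralizer_iff.2 fun d hd => ?_)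
      obtain ⟨d₀, hd₀, el⟩ := hdiag l hl
      have hd2 : x' * d * x'⁻¹ ∈ MulAut.conj x' • D := by
        simpa using smul_mem_pointwise_smul d (MulAut.conj x') D hd
      have c1 : Commute (x' * d * x'⁻¹) d₀ :=
        mem_centralizer_iff.1 (IsComponent.commute hD hD2 (Ne.symm h.1) hd₀) _ hd2
      have c2 : Commute (x' * d * x'⁻¹) (a' * d₀ * a'⁻¹) :=
        mem_centralizer_iff.1 (IsComponent.commute hDc hD2 (Ne.symm h.2) (hconj _ hd₀)) _ hd2
      have c3 : Commute (x' * d * x'⁻¹) (x' * l * x'⁻¹) := by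
        rw [hxL l hl, el]; exact c1.mul_right c2
      exact (Commute.conj_iff _).1 c3
    have hnorm : ∀ y : Cb, MulAut.conj y • D = D → (y : G) ∈ normalizer (D' : Set G) := by
      intro y hy
      rw [mem_normalizer_iff_smul, hD', ← map_conj_eq_smul, Subgroup.map_map]
      conv_rhs => rw [← hy, ← map_conj_eq_smul, Subgroup.map_map]
      rfl
    rcases hor with h | h
    · exact Or.inl ⟨hxB, hnorm x' h⟩
    · refine Or.inr ⟨B.mul_mem haB hxB, hnorm (a' * x') ?_⟩
      rw [map_mul, mul_smul, h, smul_smul, ← map_mul, show a' * a' = 1 from Subtype.ext ha2, map_one,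
        one_smul]
  have hBcard : Nat.card B ≤ 2 * Nat.card BD := by
    classical
    have hbool : Nat.card Bool = 2 := by simp
    rw [mul_comm, ← hbool, ← Nat.card_prod]
    refine Nat.card_le_card_of_injective (fun x : B =>
      if h : (x : G) ∈ BD then ((⟨x, h⟩, true) : BD × Bool)
      else (⟨a * x, (hsplit x x.2).resolve_left h⟩, false)) ?_
    intro x y hxy
    simp only at hxy
    split_ifs at hxy with h1 h2 h2
    · exact Subtype.ext (congrArg (fun z : BD × Bool => (z.1 : G)) hxy)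
    · simp at hxy
    · simp at hxy
    · exact Subtype.ext (mul_left_cancel (congrArg (fun z : BD × Bool => (z.1 : G)) hxy))
  have hcommBE : ∀ x ∈ BD, ∀ y ∈ E₀, x * y = y * x := by
    intro x hx y hy
    obtain ⟨d, hd, rfl⟩ := hE₀mem y hy
    have c1 : Commute x a := hBa x hx.1
    exact ((c1.mul_right (hBDc x hx d hd)).mul_right c1.inv_right).eq
  have hinf : BD ⊓ E₀ = ⊥ := by
    refine eq_bot_iff.2 fun x ⟨hx, hxE⟩ => ?_
    obtain ⟨d, hd, ex⟩ := hE₀mem x hxE
    have hx2 : x * x = 1 := by rw [← sq]; exact hBel.2 x hx.1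
    have hxd : (d : G) = x := by
      have h0 : x * a = a * x := hBa x hx.1
      have : (d : G) = a⁻¹ * x * a := by rw [ex]; group
      rw [this, mul_assoc, h0, inv_mul_cancel_left]
    have : φ ⟨d, hd⟩ = φ 1 := by
      refine Subtype.ext (Subtype.ext ?_)
      simp only [φ, OneMemClass.coe_one, mul_one, mul_inv_cancel]
      show (d : G) * (a * (d : G) * a⁻¹) = 1
      rw [← ex, hxd, hx2]
    have hd1 : (d : Cb) = 1 := congrArg Subtype.val (hinj this)
    rw [mem_bot, ← hxd, hd1, OneMemClass.coe_one]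
  have hle' : BD ⊔ E₀ ≤ centralizer ({b} : Set G) ⊓ centralizer (D' : Set G) := by
    refine sup_le (fun x hx => ⟨hBCb hx.1, mem_centralizer_iff.2 ?_⟩) fun y hy => ⟨?_, ?_⟩
    · rintro _ ⟨d, hd, rfl⟩
      exact (hBDc x hx d hd).symm
    · obtain ⟨d, hd, rfl⟩ := hE₀mem y hy
      exact (a' * d * a'⁻¹ : Cb).2
    · obtain ⟨d, hd, rfl⟩ := hE₀mem y hy
      refine mem_centralizer_iff.2 ?_
      rintro _ ⟨d', hd', rfl⟩
      exact congrArg Subtype.val (hcomm d' hd' _ (hconj d hd)).eq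
  have hBDel : Cfsg.IsElementaryAbelian 2 BD :=
    ⟨⟨⟨fun x y => Subtype.ext (hBcomm x x.2.1 y y.2.1)⟩⟩, fun x hx => hBel.2 x hx.1⟩
  have hfinal := card_le_of_prankLE hrk' hle' (elementary_sup hBDel hE₀el hcommBE)
  have hprod := card_sup_mul_card_inf (H := BD) (N := E₀) fun x hx =>
    centralizer_le_normalizer _ (mem_centralizer_iff.2 fun y hy => (hcommBE x hx y hy).symm)
  rw [hinf, card_bot, mul_one] at hprod
  rw [← hk, hprod] at hfinal
  have hpos : 0 < Nat.card BD := Nat.card_pos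
  nlinarith

end Cfsg.Agent.Grp.ComponentMax
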