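import Mathlib
import Cfsg.Agent.Lib.Grp.CoprimeAbelian

/-!
Generation of a group by the fixed points of cocyclic subgroups of an abelian coprime operator group.
-/

namespace Cfsg.Agent.Grp.Cocyclic

open scoped Pointwise commutatorElement
open Subgroup

universe u

variable {X : Type u} [Group X]

/-- Subgroups of `A` with cyclic factor group, above `A₀`. -/
def Cocyc (A A₀ : Subgroup X) : Set (Subgroup X) :=
  {B : Subgroup X | A₀ ≤ B ∧ B ≤ A ∧ ∃ a ∈ A, B ⊔ Subgroup.zpowers a = A}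

theorem smul_iSup_eq {ι : Sort*} (g : X) (f : ι → Subgroup X) (h : ∀ i, MulAut.conj g • f i = f i) :
    MulAut.conj g • (⨆ i, f i) = ⨆ i, f i := by
  rw [← map_conj_eq_smul, Subgroup.map_iSup]
  exact iSup_congr fun i => h i

theorem gen_aux [Finite X] (A G : Subgroup X) [hab : IsMulCommutative A] (hAG : A ≤ Subgroup.normalizer (G : Set X))
    (hcop : (Nat.card A).Coprime (Nat.card G)) :
    ∀ (k : ℕ) (A₀ G₀ : Subgroup X), A₀.relIndex A = k → A₀ ≤ A → G₀ ≤ G → A ≤ Subgroup.normalizer (G₀ : Set X) →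
      G₀ ≤ Subgroup.centralizer (A₀ : Set X) →
      G₀ ≤ ⨆ B ∈ Cocyc A A₀, G₀ ⊓ Subgroup.centralizer (B : Set X) := by
  intro k
  induction k using Nat.strong_induction_on with
  | _ k ih =>
  intro A₀ G₀ hk hA₀ hG₀ hAG₀ hcen
  by_cases hcyc : ∃ a ∈ A, A₀ ⊔ Subgroup.zpowers a = A
  · have hm : A₀ ∈ Cocyc A A₀ := ⟨le_rfl, hA₀, hcyc⟩
    exact le_iSup₂_of_le A₀ hm (le_inf le_rfl hcen)
  set Y := Subgroup.centralizer (A₀ : Set X)
  have hcommA : ∀ a ∈ A, ∀ b ∈ A, a * b = b * a := fun a ha b hb =>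
    congrArg Subtype.val (mul_comm' (⟨a, ha⟩ : A) ⟨b, hb⟩)
  have hAY : A ≤ Y := fun a ha => Subgroup.mem_centralizer_iff.mpr fun b hb => hcommA b (hA₀ hb) a ha
  set Z := A₀.subgroupOf Y
  have : Z.Normal := Subgroup.normal_subgroupOf_of_le_normalizer (Subgroup.centralizer_le_normalizer _)
  set f := QuotientGroup.mk' Z
  set A' := (A.subgroupOf Y).map f
  set G' := (G₀.subgroupOf Y).map f
  have hA'nc : ¬ IsCyclic A' := fun h => by
    obtain ⟨⟨g, hg⟩, hgen⟩ := h.exists_generator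
    obtain ⟨⟨a, haY⟩, ha, rfl⟩ := hg
    refine hcyc ⟨a, ha, le_antisymm (sup_le hA₀ (Subgroup.zpowers_le.mpr ha)) fun x hx => ?_⟩
    obtain ⟨n, hn⟩ := hgen ⟨f ⟨x, hAY hx⟩, Subgroup.mem_map_of_mem f hx⟩
    have hn' : f ((⟨a, haY⟩ : Y) ^ n) = f ⟨x, hAY hx⟩ := by
      rw [map_zpow]; exact congrArg Subtype.val hn
    have h1 : ((⟨a, haY⟩ : Y) ^ n)⁻¹ * ⟨x, hAY hx⟩ ∈ Z := (QuotientGroup.eq).mp hn'
    have h2 : (a ^ n)⁻¹ * x ∈ A₀ := by simpa [Z, Subgroup.mem_subgroupOf] using h1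
    have h3 := mul_mem ((le_sup_right (a := A₀) : Subgroup.zpowers a ≤ _) (zpow_mem (Subgroup.mem_zpowers a) n))
      ((le_sup_left (b := Subgroup.zpowers a) : A₀ ≤ _) h2)
    rwa [mul_inv_cancel_left] at h3
  have hA'G' : A' ≤ Subgroup.normalizer (G' : Set (Y ⧸ Z)) :=
    (Subgroup.map_mono fun x hx => Subgroup.mem_normalizer_iff.mpr fun y => by
      simpa [Subgroup.mem_subgroupOf] using Subgroup.mem_normalizer_iff.mp (hAG₀ hx) (y : X)).trans
      (Subgroup.le_normalizer_map f)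
  have hcop' : (Nat.card A').Coprime (Nat.card G') := by
    refine (hcop.coprime_dvd_left ?_).coprime_dvd_right ?_
    · exact (Subgroup.card_map_dvd _ f).trans (Nat.card_congr (Subgroup.subgroupOfEquivOfLe hAY).toEquiv).dvd
    · exact ((Subgroup.card_map_dvd _ f).trans (Nat.card_congr (Subgroup.subgroupOfEquivOfLe hcen).toEquiv).dvd).trans
        (Subgroup.card_dvd_of_le hG₀)
  have hdisj : ∀ x ∈ G₀, x ∈ A₀ → x = 1 := fun x hx hx0 => by
    have : x ∈ A ⊓ G := ⟨hA₀ hx0, hG₀ hx⟩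
    rwa [inf_eq_bot_of_coprime hcop, Subgroup.mem_bot] at this
  have : IsMulCommutative (A.subgroupOf Y) := inferInstance
  have : IsMulCommutative A' := Subgroup.map_isMulCommutative _ _
  have hgen := generated_by_centralizers A' G' hA'nc hA'G' hcop'
  set R := ⨆ B ∈ Cocyc A A₀, G₀ ⊓ Subgroup.centralizer (B : Set X)
  have hRG : R ≤ G₀ := iSup₂_le fun B _ => inf_le_left
  suffices hsuff : G' ≤ (R.subgroupOf Y).map f by
    intro x hx
    obtain ⟨⟨y, hyY⟩, hy, he⟩ := hsuff (Subgroup.mem_map_of_mem f (show (⟨x, hcen hx⟩ : Y) ∈ G₀.subgroupOf Y from hx))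
    have h1 : y⁻¹ * x ∈ A₀ := by simpa [Z, Subgroup.mem_subgroupOf] using (QuotientGroup.eq).mp he
    have h2 := hdisj _ (mul_mem (inv_mem (hRG hy)) hx) h1
    rw [inv_mul_eq_one] at h2
    exact h2 ▸ hy
  rw [← hgen]
  refine iSup₂_le ?_
  rintro _ ⟨⟨⟨a, haY⟩, ha, rfl⟩, ha1⟩
  have haA₀ : a ∉ A₀ := fun h => ha1 ((QuotientGroup.eq_one_iff _).mpr h)
  rintro _ ⟨⟨⟨x, hxY⟩, hx, rfl⟩, hxc⟩
  refine Subgroup.mem_map_of_mem f ?_
  show x ∈ R
  set A₁ := A₀ ⊔ Subgroup.zpowers a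
  have hA₁ : A₁ ≤ A := sup_le hA₀ (Subgroup.zpowers_le.mpr ha)
  set G₁ := G₀ ⊓ Subgroup.centralizer ({a} : Set X)
  have hxa : x ∈ G₁ := by
    refine ⟨hx, Subgroup.mem_centralizer_iff.mpr fun z hz => ?_⟩
    rw [Set.mem_singleton_iff] at hz
    subst hz
    have hcm := Subgroup.mem_centralizer_iff.mp hxc _ rfl
    rw [← map_mul, ← map_mul] at hcm
    have h1 : (⟨z, haY⟩ * ⟨x, hxY⟩ : Y)⁻¹ * (⟨x, hxY⟩ * ⟨z, haY⟩) ∈ Z := (QuotientGroup.eq).mp hcm
    have h2 : (z * x)⁻¹ * (x * z) ∈ A₀ := h1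
    have h3 : (z * x)⁻¹ * (x * z) ∈ G₀ := by
      have := G₀.mul_mem (G₀.inv_mem (show x ∈ G₀ from hx)) (mem_conj_normalizer' (K := G₀) (show z ∈ _ from hAG₀ ha) (show x ∈ G₀ from hx))
      simpa [mul_assoc] using this
    exact inv_mul_eq_one.mp (hdisj _ h3 h2)
  have hAG₁ : A ≤ Subgroup.normalizer (G₁ : Set X) := fun b hb => by
    rw [mem_normalizer_iff_smul, Subgroup.smul_inf, normalizer_le_smul hAG₀ hb, conj_smul_eq_self_of_mem]
    exact Subgroup.mem_centralizer_iff.mpr fun z hz => by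
      rw [Set.mem_singleton_iff] at hz
      subst hz
      exact hcommA z ha b hb
  have hcen₁ : G₁ ≤ Subgroup.centralizer (A₁ : Set X) := Subgroup.le_centralizer_iff.mp
    (sup_le (Subgroup.le_centralizer_iff.mp (inf_le_left.trans hcen)) (Subgroup.zpowers_le.mpr
      (Subgroup.mem_centralizer_iff.mpr fun y hy => (Subgroup.mem_centralizer_iff.mp hy.2 a rfl).symm)))
  have hlt : A₁.relIndex A < k := by
    rw [← hk, ← Subgroup.relIndex_mul_relIndex A₀ A₁ A le_sup_left hA₁]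
    refine lt_mul_of_one_lt_left (Nat.pos_of_ne_zero fun h => Subgroup.index_ne_zero_of_finite h) ?_
    refine lt_of_le_of_ne (Nat.pos_of_ne_zero fun h => Subgroup.index_ne_zero_of_finite h) fun h => haA₀ ?_
    exact Subgroup.relIndex_eq_one.mp h.symm (le_sup_right (a := A₀) (Subgroup.mem_zpowers a))
  refine (le_trans (ih _ hlt A₁ G₁ rfl hA₁ (inf_le_left.trans hG₀) hAG₁ hcen₁) (iSup₂_le fun B hB => ?_)) hxa
  have hm : B ∈ Cocyc A A₀ := ⟨le_trans le_sup_left hB.1, hB.2⟩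
  exact le_iSup₂_of_le B hm (inf_le_inf_right _ inf_le_left)

theorem generation [Finite X] (A G : Subgroup X) [IsMulCommutative A] (hAG : A ≤ Subgroup.normalizer (G : Set X))
    (hcop : (Nat.card A).Coprime (Nat.card G)) :
    (⨆ B ∈ Cocyc A ⊥, G ⊓ Subgroup.centralizer (B : Set X)) = G :=
  le_antisymm (iSup₂_le fun _ _ => inf_le_left)
    (gen_aux A G hAG hcop _ ⊥ G rfl bot_le le_rfl hAG (fun _ _ => Subgroup.mem_centralizer_iff.mpr fun b hb => by
      rw [Subgroup.coe_bot, Set.mem_singleton_iff] at hb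
      subst hb; simp))

theorem commutator_generation [Finite X] (A G : Subgroup X) [IsMulCommutative A]
    (hAG : A ≤ Subgroup.normalizer (G : Set X)) (hcop : (Nat.card A).Coprime (Nat.card G)) :
    (⨆ B ∈ Cocyc A ⊥, ⁅G ⊓ Subgroup.centralizer (B : Set X), A⁆) = ⁅G, A⁆ := by
  have hsolv : Group.IsSolvable A := Group.isSolvable_of_comm mul_comm'
  refine le_antisymm (iSup₂_le fun B _ => Subgroup.commutator_mono inf_le_left le_rfl) ?_
  set M := ⨆ B ∈ Cocyc A ⊥, ⁅G ⊓ Subgroup.centralizer (B : Set X), A⁆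
  set K := ⁅G, A⁆
  have hKG : K ≤ G := commutator_le_left_of_le_normalizer hAG
  have hAK : A ≤ Subgroup.normalizer (K : Set X) := right_le_normalizer_commutator A G
  have hAM : A ≤ Subgroup.normalizer (M : Set X) := fun a ha => by
    rw [mem_normalizer_iff_smul]
    exact smul_iSup_eq _ _ fun B => smul_iSup_eq _ _ fun _ => normalizer_le_smul (right_le_normalizer_commutator A _) ha
  set C := K ⊓ Subgroup.centralizer (A : Set X)
  have hCM : C ≤ Subgroup.normalizer (M : Set X) := fun c hc => by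
    rw [mem_normalizer_iff_smul]
    refine smul_iSup_eq _ _ fun B => smul_iSup_eq _ _ fun hB => ?_
    have hcB : c ∈ Subgroup.centralizer (B : Set X) := Subgroup.centralizer_le hB.2.1 hc.2
    rw [← map_conj_eq_smul, Subgroup.map_commutator, map_conj_eq_smul, map_conj_eq_smul, Subgroup.smul_inf,
      conj_smul_eq_self_of_mem (hKG hc.1), conj_smul_eq_self_of_mem hcB,
      mem_normalizer_iff_smul.mp (Subgroup.centralizer_le_normalizer _ hc.2)]
  have hle : K ≤ M ⊔ C := by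
    conv_lhs => rw [← generation A K hAK (hcop.coprime_dvd_right (Subgroup.card_dvd_of_le hKG))]
    refine iSup₂_le fun B hB => ?_
    have hAB : A ≤ Subgroup.normalizer ((K ⊓ Subgroup.centralizer (B : Set X) : Subgroup X) : Set X) := fun a ha => by
      rw [mem_normalizer_iff_smul, Subgroup.smul_inf, normalizer_le_smul hAK ha,
        conj_smul_eq_self_of_mem (Subgroup.mem_centralizer_iff.mpr fun b hb =>
          congrArg Subtype.val (mul_comm' (⟨b, hB.2.1 hb⟩ : A) ⟨a, ha⟩))]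
    rw [← commutator_sup_fixed A _ hAB (hcop.coprime_dvd_right (Subgroup.card_dvd_of_le (inf_le_left.trans hKG)))
      (Or.inl hsolv)]
    refine sup_le (le_sup_of_le_left ?_) (le_sup_of_le_right (inf_le_inf_right _ inf_le_left))
    exact le_iSup₂_of_le B hB (Subgroup.commutator_mono (inf_le_inf_right _ hKG) le_rfl)
  calc K = ⁅K, A⁆ := (commutator_commutator_eq A G hAG hcop (Or.inl hsolv)).symm
    _ ≤ M := by
      rw [Subgroup.commutator_le]
      intro x hx a ha
      have hx' : x ∈ ((M ⊔ C : Subgroup X) : Set X) := hle hx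
      rw [Subgroup.coe_mul_of_right_le_normalizer_left M C hCM] at hx'
      obtain ⟨m, hm, c, hc, rfl⟩ := hx'
      have e : ⁅m * c, a⁆ = ⁅m, a⁆ := by
        rw [commutatorElement_mul_left_eq_conj_mul,
          commutatorElement_eq_one_iff_mul_comm.mpr (Subgroup.mem_centralizer_iff.mp hc.2 a ha).symm]
        simp
      rw [e, commutatorElement_def]
      have := mem_conj_normalizer (hAM ha) (M.inv_mem hm)
      simpa [mul_assoc] using M.mul_mem hm this

end Cfsg.Agent.Grp.Cocyclic
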