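import Mathlib

/-!
# Commutative 2-groups with one involution

A finite commutative 2-group with at most one involution is cyclic: an element of largest order generates it.
-/

set_option autoImplicit false

namespace Cfsg.Agent.Grp

/-- A finite commutative 2-group with at most one involution is cyclic. -/
theorem isCyclic_of_one_invol {R : Type*} [Group R] [Finite R] (hR : IsPGroup 2 R)
    (hcomm : ∀ x y : R, Commute x y)
    (huniq : ∀ x y : R, x ≠ 1 → y ≠ 1 → x * x = 1 → y * y = 1 → x = y) : IsCyclic R := by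
  obtain ⟨x, -, hmax⟩ := Set.exists_max_image (Set.univ : Set R) orderOf (Set.toFinite _) ⟨1, Set.mem_univ 1⟩
  have hmax' : ∀ y, orderOf y ≤ orderOf x := fun y => hmax y (Set.mem_univ y)
  obtain ⟨k, hk⟩ := IsPGroup.iff_orderOf.1 hR x
  suffices key : ∀ d, ∀ y : R, orderOf y = 2 ^ d → y ∈ Subgroup.zpowers x by
    refine ⟨⟨x, fun y => ?_⟩⟩
    obtain ⟨d, hd⟩ := IsPGroup.iff_orderOf.1 hR y
    exact key d y hd
  intro d
  induction d with
  | zero =>
    intro y hy
    rw [pow_zero, orderOf_eq_one_iff] at hy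
    rw [hy]
    exact one_mem _
  | succ d ih =>
    intro y hy
    have hy2 : orderOf (y * y) = 2 ^ d := by
      rw [← pow_two, orderOf_pow, hy, pow_succ, Nat.gcd_eq_right (Dvd.intro_left _ rfl),
        Nat.mul_div_cancel _ two_pos]
    obtain ⟨i, hi⟩ := mem_powers_iff_mem_zpowers.2 (ih _ hy2)
    have hi' : x ^ i = y * y := hi
    have hk0 : k ≠ 0 := by
      rintro rfl
      have h := hmax' y
      rw [hy, hk, pow_zero] at h
      have h2 : 2 ≤ 2 ^ (d + 1) := Nat.le_self_pow (Nat.succ_ne_zero d) 2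
      omega
    rcases Nat.even_or_odd i with ⟨l, rfl⟩ | hodd
    · have hz : y * (x ^ l)⁻¹ * (y * (x ^ l)⁻¹) = 1 := by
        rw [show y * (x ^ l)⁻¹ * (y * (x ^ l)⁻¹) = y * ((x ^ l)⁻¹ * y) * (x ^ l)⁻¹ by group,
          (hcomm (x ^ l)⁻¹ y).eq,
          show y * (y * (x ^ l)⁻¹) * (x ^ l)⁻¹ = y * y * (x ^ l * x ^ l)⁻¹ by group, ← pow_add, hi',
          mul_inv_cancel]
      by_cases h1 : y * (x ^ l)⁻¹ = 1
      · rw [mul_inv_eq_one.1 h1]
        exact pow_mem (Subgroup.mem_zpowers x) l
      have hw1 : x ^ 2 ^ (k - 1) ≠ 1 := fun h => by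
        have hd' := orderOf_dvd_of_pow_eq_one h
        rw [hk] at hd'
        have := Nat.le_of_dvd (pow_pos two_pos _) hd'
        rw [Nat.pow_le_pow_iff_right (by norm_num : 1 < 2)] at this
        omega
      have hw2 : x ^ 2 ^ (k - 1) * x ^ 2 ^ (k - 1) = 1 := by
        rw [← pow_add, ← two_mul, ← pow_succ', show k - 1 + 1 = k by omega, ← hk, pow_orderOf_eq_one]
      have he := huniq _ _ h1 hw1 hz hw2
      rw [show y = y * (x ^ l)⁻¹ * x ^ l by group, he]
      exact mul_mem (pow_mem (Subgroup.mem_zpowers x) _) (pow_mem (Subgroup.mem_zpowers x) _)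
    · exfalso
      have hx : orderOf (x ^ i) = 2 ^ k := by
        rw [← hk]
        refine Nat.Coprime.orderOf_pow ?_
        rw [hk]
        exact (Nat.coprime_two_left.2 hodd).pow_left k
      rw [hi', hy2] at hx
      have h := hmax' y
      rw [hy, hk, ← hx, pow_succ] at h
      have := Nat.one_le_two_pow (n := d)
      omega

end Cfsg.Agent.Grp
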