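import Mathlib

/-! Automizers of primary subgroups above the elements of a section, when those subgroups are
conjugate into a given subgroup; and a bound on the sections isomorphic to the alternating group of
degree eight in the presence of an abelian subgroup of small `2`-rank and small even index. -/

set_option autoImplicit false

namespace Cfsg.Agent.Grp.SectionAut

open Subgroup

variable {G H Q : Type*} [Group G] [Group H] [Group Q]

theorem conj_pow_eq {R : Subgroup G} {g n : G} (hn : ∀ h ∈ R, g * h * g⁻¹ ∈ R)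
    (hgn : ∀ h ∈ R, n * h * n⁻¹ = g * h * g⁻¹) :
    ∀ i : ℕ, ∀ h ∈ R, g ^ i * h * (g ^ i)⁻¹ ∈ R ∧ n ^ i * h * (n ^ i)⁻¹ = g ^ i * h * (g ^ i)⁻¹
  | 0, h, hh => by simpa using hh
  | i + 1, h, hh => by
    obtain ⟨h1, h2⟩ := conj_pow_eq hn hgn i h hh
    have eg : ∀ x : G, x ^ (i + 1) * h * (x ^ (i + 1))⁻¹ = x * (x ^ i * h * (x ^ i)⁻¹) * x⁻¹ :=
      fun x => by rw [pow_succ']; group
    rw [eg, eg, h2]
    exact ⟨hn _ h1, hgn _ h1⟩

/-- A primary subgroup over a subgroup of prime order, with the elements normalising it. -/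
theorem exists_normalizing [Finite H] {ℓ : ℕ} [Fact ℓ.Prime] (π : H →* Q) (D : Subgroup H)
    [D.Normal] {x : Q} (hx : orderOf x = ℓ) (hxD : x ∈ D.map π) :
    ∃ R : Subgroup H, R ≤ D ∧ IsPGroup ℓ R ∧ x ∈ R.map π ∧ (∀ r ∈ R, π r ∈ zpowers x) ∧
      ∀ h : H, π h * x * (π h)⁻¹ ∈ zpowers x →
        ∃ d ∈ D, π d ∈ zpowers x ∧ ∀ r ∈ R, d * h * r * (d * h)⁻¹ ∈ R := by
  classical
  set D₀ : Subgroup H := D ⊓ (zpowers x).comap π
  obtain ⟨P⟩ : Nonempty (Sylow ℓ D₀) := inferInstance
  have hxo : Nat.card (zpowers x) = ℓ := by rw [Nat.card_zpowers, hx]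
  let φ : D₀ →* zpowers x := (π.comp D₀.subtype).codRestrict _ fun d => d.2.2
  have hφ : Function.Surjective φ := by
    rintro ⟨y, hy⟩
    obtain ⟨d, hd, e⟩ := hxD
    obtain ⟨k, rfl⟩ := mem_zpowers_iff.1 hy
    refine ⟨⟨d ^ k, zpow_mem hd k, ?_⟩, Subtype.ext ?_⟩
    · show π (d ^ k) ∈ zpowers x
      rw [map_zpow, e]; exact zpow_mem (mem_zpowers x) k
    · show π (d ^ k) = _
      rw [map_zpow, e]
  haveI : Finite (zpowers x) :=
    Nat.finite_of_card_ne_zero (by rw [hxo]; exact (Fact.out : ℓ.Prime).ne_zero)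
  have htop : ((P.mapSurjective hφ : Sylow ℓ (zpowers x)) : Subgroup (zpowers x)) = ⊤ := by
    refine eq_top_of_card_eq _ ?_
    have hp : IsPGroup ℓ (⊤ : Subgroup (zpowers x)) :=
      IsPGroup.of_card (n := 1) (by rw [Subgroup.card_top, hxo, pow_one])
    rw [← Sylow.is_maximal' _ hp le_top, Subgroup.card_top]
  refine ⟨(P : Subgroup D₀).map D₀.subtype, ?_, P.2.map _, ?_, ?_, ?_⟩
  · rintro _ ⟨d, -, rfl⟩; exact d.2.1
  · have hm : (⟨x, mem_zpowers x⟩ : zpowers x) ∈
        ((P.mapSurjective hφ : Sylow ℓ (zpowers x)) : Subgroup (zpowers x)) := by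
      rw [htop]; exact mem_top _
    rw [Sylow.coe_mapSurjective] at hm
    obtain ⟨d, hd, e⟩ := hm
    exact ⟨d, ⟨d, hd, rfl⟩, congrArg Subtype.val e⟩
  · rintro _ ⟨d, -, rfl⟩; exact d.2.2
  intro h hh
  have hpow : ∀ y ∈ zpowers x, π h * y * (π h)⁻¹ ∈ zpowers x := by
    intro y hy
    obtain ⟨k, rfl⟩ := mem_zpowers_iff.1 hy
    rw [← MulAut.conj_apply, map_zpow, MulAut.conj_apply]
    exact zpow_mem hh k
  have hinv : ∀ d ∈ D₀, h * d * h⁻¹ ∈ D₀ := by
    rintro d ⟨h1, h2⟩
    refine ⟨Subgroup.Normal.conj_mem inferInstance d h1 h, ?_⟩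
    show π (h * d * h⁻¹) ∈ zpowers x
    rw [map_mul, map_mul, map_inv]
    exact hpow _ h2
  let c : D₀ →* D₀ :=
    { toFun := fun d => ⟨h * d * h⁻¹, hinv d d.2⟩
      map_one' := Subtype.ext (by simp)
      map_mul' := fun a b => Subtype.ext (by simp [mul_assoc]) }
  have hcinj : Function.Injective c := fun a b e => Subtype.ext (by
    simpa [c] using congrArg Subtype.val e)
  have hcard : Nat.card ((P : Subgroup D₀).map c) = ℓ ^ (Nat.card D₀).factorization ℓ := by
    rw [Subgroup.card_map_of_injective hcinj, P.card_eq_multiplicity]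
  obtain ⟨d, hd⟩ := MulAction.exists_smul_eq D₀ (Sylow.ofCard _ hcard) P
  refine ⟨d, d.2.1, d.2.2, ?_⟩
  rintro _ ⟨r, hr, rfl⟩
  have hm : c r ∈ ((Sylow.ofCard _ hcard : Sylow ℓ D₀) : Subgroup D₀) := ⟨r, hr, rfl⟩
  have h2 : d * c r * d⁻¹ ∈ (P : Subgroup D₀) := by
    rw [← hd, Sylow.smul_def, Sylow.pointwise_smul_def]
    exact ⟨c r, hm, rfl⟩
  refine ⟨_, h2, ?_⟩
  show (d : H) * (h * (r : H) * h⁻¹) * (d : H)⁻¹ = (d : H) * h * (r : H) * ((d : H) * h)⁻¹
  group

/-- Primary subgroups are conjugate into a subgroup of index prime to `ℓ`. -/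
theorem exists_conj_le [Finite G] {ℓ : ℕ} [Fact ℓ.Prime] {T : Subgroup G} (hT : ¬ ℓ ∣ T.index)
    {R : Subgroup G} (hR : IsPGroup ℓ R) : ∃ c : G, ∀ h ∈ R, c * h * c⁻¹ ∈ T := by
  obtain ⟨S⟩ : Nonempty (Sylow ℓ T) := inferInstance
  have hcard : Nat.card ((S : Subgroup T).map T.subtype) =
      ℓ ^ (Nat.card G).factorization ℓ := by
    rw [Subgroup.card_map_of_injective T.subtype_injective, S.card_eq_multiplicity,
      ← T.card_mul_index, Nat.factorization_mul (Nat.card_pos).ne' (index_ne_zero_of_finite)]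
    simp [Nat.factorization_eq_zero_of_not_dvd hT]
  obtain ⟨P, hP⟩ := hR.exists_le_sylow
  obtain ⟨c, hc⟩ := MulAction.exists_smul_eq G P (Sylow.ofCard _ hcard)
  refine ⟨c, fun h hh => ?_⟩
  have hm : c * h * c⁻¹ ∈ ((c • P : Sylow ℓ G) : Subgroup G) := by
    rw [Sylow.smul_def, Sylow.pointwise_smul_def]
    exact ⟨h, hP hh, rfl⟩
  rw [hc] at hm
  obtain ⟨s, -, e⟩ : c * h * c⁻¹ ∈ (S : Subgroup T).map T.subtype := hm
  exact e ▸ s.2

theorem inj_conj {j : H →* G} (hj : Function.Injective j) (c : G) :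
    ∃ j' : H →* G, Function.Injective j' ∧ ∀ h, j' h = c * j h * c⁻¹ :=
  ⟨(MulAut.conj c).toMonoidHom.comp j, (MulAut.conj c).injective.comp hj, fun _ => rfl⟩

/-- If the `e`-th powers of the elements normalising a subgroup of `T` centralise it, then so do
they above a section. -/
theorem section_fusion [Finite G] {ℓ : ℕ} [Fact ℓ.Prime] {T : Subgroup G} (hT : ¬ ℓ ∣ T.index)
    {e : ℕ} (hW : ∀ (g : G) (R : Subgroup G), R ≤ T → (∀ h ∈ R, g * h * g⁻¹ ∈ R) →
      ∀ h ∈ R, g ^ e * h * (g ^ e)⁻¹ = h)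
    (j : H →* G) (hj : Function.Injective j) {π : H →* Q} (hπ : Function.Surjective π) {x y : Q}
    (hx : orderOf x = ℓ) (hy : y * x * y⁻¹ ∈ zpowers x) : y ^ e * x * (y ^ e)⁻¹ = x := by
  haveI : Finite H := Finite.of_injective j hj
  obtain ⟨R, -, hR, hxR, -, hconj⟩ :=
    exists_normalizing π (⊤ : Subgroup H) hx ⟨(hπ x).choose, mem_top _, (hπ x).choose_spec⟩
  obtain ⟨h, rfl⟩ := hπ y
  obtain ⟨d, -, hdx, hd⟩ := hconj h hy
  obtain ⟨c, hc⟩ := exists_conj_le hT (hR.map j)
  obtain ⟨j', hj', ej'⟩ := inj_conj hj c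
  obtain ⟨r, hr, rfl⟩ := hxR
  have hle : R.map j' ≤ T := by
    rintro _ ⟨s, hs, rfl⟩
    rw [ej']; exact hc _ ⟨s, hs, rfl⟩
  have hfix := hW (j' (d * h)) (R.map j') hle (by
    rintro _ ⟨s, hs, rfl⟩
    exact ⟨_, hd s hs, by simp only [map_mul, map_inv]⟩) (j' r) ⟨r, hr, rfl⟩
  have he : (d * h) ^ e * r * ((d * h) ^ e)⁻¹ = r := hj' (by
    simpa only [map_mul, map_inv, map_pow] using hfix)
  have he' := congrArg π he
  simp only [map_mul, map_inv, map_pow] at he'
  -- the correcting element commutes with the element of order `ℓ`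
  have hstep : ∀ i : ℕ, ∀ z ∈ zpowers (π r),
      (π d * π h) ^ i * z * ((π d * π h) ^ i)⁻¹ = π h ^ i * z * (π h ^ i)⁻¹ ∧
      π h ^ i * z * (π h ^ i)⁻¹ ∈ zpowers (π r) := by
    intro i
    induction i with
    | zero => intro z hz; simpa using hz
    | succ i ih =>
      intro z hz
      obtain ⟨k, rfl⟩ := mem_zpowers_iff.1 hz
      obtain ⟨h1, h2⟩ := ih _ hz
      have eg : ∀ a : Q, a ^ (i + 1) * π r ^ k * (a ^ (i + 1))⁻¹ =
          a * (a ^ i * π r ^ k * (a ^ i)⁻¹) * a⁻¹ := fun a => by rw [pow_succ']; group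
      rw [eg, eg, h1]
      obtain ⟨l, hl⟩ := mem_zpowers_iff.1 h2
      have h3 : π h * π r ^ l * (π h)⁻¹ ∈ zpowers (π r) := by
        rw [← MulAut.conj_apply, map_zpow, MulAut.conj_apply]; exact zpow_mem hy l
      rw [← hl]
      refine ⟨?_, h3⟩
      obtain ⟨m, hm⟩ := mem_zpowers_iff.1 h3
      obtain ⟨n, hn⟩ := mem_zpowers_iff.1 hdx
      calc π d * π h * π r ^ l * (π d * π h)⁻¹ = π d * (π h * π r ^ l * (π h)⁻¹) * (π d)⁻¹ := by
            group
        _ = _ := by rw [← hm, ← hn]; group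
  rw [← (hstep e (π r) (mem_zpowers _)).1]
  exact he'

/-! ### The alternating group of degree eight -/

theorem cycleType_of_order_four {c : Equiv.Perm (Fin 8)} (heven : Equiv.Perm.sign c = 1)
    (h4 : orderOf c = 4) : c.cycleType = {4, 4} ∨ c.cycleType = {4, 2} := by
  have hmem : ∀ n ∈ c.cycleType, n = 2 ∨ n = 4 := by
    intro n hn
    have h1 : n ∣ 4 := h4 ▸ Equiv.Perm.dvd_of_mem_cycleType hn
    have h2 := Equiv.Perm.two_le_of_mem_cycleType hn
    have : n ≤ 4 := Nat.le_of_dvd (by norm_num) h1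
    interval_cases n <;> simp_all
  have hsum : c.cycleType.sum ≤ 8 := by
    rw [Equiv.Perm.sum_cycleType]
    exact (Finset.card_le_univ _).trans (by simp)
  have hlcm : c.cycleType.lcm = 4 := by rw [Equiv.Perm.lcm_cycleType, h4]
  have hm : c.cycleType = Multiset.replicate (c.cycleType.count 2) 2 +
      Multiset.replicate (c.cycleType.count 4) 4 := by
    ext n
    simp only [Multiset.count_add, Multiset.count_replicate]
    by_cases hn : n ∈ c.cycleType
    · rcases hmem n hn with rfl | rfl <;> simp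
    · rw [Multiset.count_eq_zero_of_notMem hn]
      split_ifs with a b b <;> simp_all
  rw [Equiv.Perm.sign_of_cycleType] at heven
  obtain ⟨a, ha⟩ : ∃ a, a = c.cycleType.count 2 := ⟨_, rfl⟩
  obtain ⟨b, hb⟩ : ∃ b, b = c.cycleType.count 4 := ⟨_, rfl⟩
  rw [← ha, ← hb] at hm
  rw [hm] at hsum hlcm heven ⊢
  simp only [Multiset.sum_add, Multiset.sum_replicate, smul_eq_mul] at hsum
  have : b ≤ 2 := by omega
  interval_cases b
  · have : a ≤ 4 := by omega
    interval_cases a <;> revert hlcm <;> decide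
  · have : a ≤ 2 := by omega
    interval_cases a
    · revert heven; decide
    · right; decide
    · revert heven; decide
  · have : a = 0 := by omega
    subst this
    left; decide

theorem no_order_eight (c : Equiv.Perm (Fin 8)) (heven : Equiv.Perm.sign c = 1) :
    orderOf c ≠ 8 := by
  intro h8
  have hsum : c.cycleType.sum ≤ 8 := by
    rw [Equiv.Perm.sum_cycleType]
    exact (Finset.card_le_univ _).trans (by simp)
  have hmem : ∀ n ∈ c.cycleType, n ∣ 8 := fun n hn =>
    h8 ▸ Equiv.Perm.dvd_of_mem_cycleType hn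
  by_cases h : 8 ∈ c.cycleType
  · obtain ⟨t, ht⟩ := Multiset.exists_cons_of_mem h
    rw [ht, Multiset.sum_cons] at hsum
    have ht0 : t = 0 := by
      by_contra hne
      obtain ⟨n, hn⟩ := Multiset.exists_mem_of_ne_zero hne
      have h2 : 2 ≤ n := Equiv.Perm.two_le_of_mem_cycleType (by rw [ht]; exact Multiset.mem_cons_of_mem hn)
      have := Multiset.le_sum_of_mem hn
      omega
    rw [Equiv.Perm.sign_of_cycleType, ht, ht0] at heven
    revert heven; decide
  · have h4 : c.cycleType.lcm ∣ 4 := Multiset.lcm_dvd.2 fun n hn => by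
      obtain ⟨i, hi, rfl⟩ := (Nat.dvd_prime_pow Nat.prime_two).1
        (show n ∣ 2 ^ 3 from hmem n hn)
      interval_cases i
      all_goals first | exact absurd hn h | (exfalso; exact h (by norm_num at hn ⊢; exact hn)) | norm_num
    rw [Equiv.Perm.lcm_cycleType, h8] at h4
    norm_num at h4

/-- A quotient of a finite commutative group has no more square roots of unity. -/
theorem sqrt_one_le {A B : Type*} [Group A] [Group B] [Finite A] (φ : A →* B)
    (hφ : Function.Surjective φ) (sq : A →* A) (hsq : ∀ a, sq a = a ^ 2) :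
    Nat.card {b : B // b ^ 2 = 1} ≤ Nat.card sq.ker := by
  haveI : Finite B := Finite.of_surjective φ hφ
  have hcomm : ∀ a b : B, (a * b) ^ 2 = a ^ 2 * b ^ 2 := fun a b => by
    obtain ⟨x, rfl⟩ := hφ a
    obtain ⟨y, rfl⟩ := hφ b
    have := map_mul sq x y
    rw [hsq, hsq, hsq] at this
    rw [← map_mul, ← map_pow, this, map_mul, map_pow, map_pow]
  let sqB : B →* B :=
    { toFun := fun b => b ^ 2, map_one' := one_pow 2, map_mul' := hcomm }
  have hker : Nat.card sqB.ker = Nat.card {b : B // b ^ 2 = 1} := rfl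
  rw [← hker]
  have hB : Nat.card sqB.ker * Nat.card sqB.range = Nat.card B := by
    rw [sqB.ker.card_eq_card_quotient_mul_card_subgroup, mul_comm,
      Nat.card_congr (QuotientGroup.quotientKerEquivRange sqB).toEquiv]
  have hA : Nat.card sq.ker * Nat.card sq.range = Nat.card A := by
    rw [sq.ker.card_eq_card_quotient_mul_card_subgroup, mul_comm,
      Nat.card_congr (QuotientGroup.quotientKerEquivRange sq).toEquiv]
  have hmap : sq.range.map φ = sqB.range := by
    ext b
    constructor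
    · rintro ⟨_, ⟨a, rfl⟩, rfl⟩
      exact ⟨φ a, by show φ a ^ 2 = _; rw [← map_pow, hsq]⟩
    · rintro ⟨b, rfl⟩
      obtain ⟨a, rfl⟩ := hφ b
      exact ⟨sq a, ⟨a, rfl⟩, by rw [hsq, map_pow]; rfl⟩
  let θ : sq.range →* sqB.range :=
    (φ.comp sq.range.subtype).codRestrict _ fun a => hmap ▸ ⟨a, a.2, rfl⟩
  have hθ : Function.Surjective θ := by
    rintro ⟨b, hb⟩
    rw [← hmap] at hb
    obtain ⟨a, ha, rfl⟩ := hb
    exact ⟨⟨a, ha⟩, rfl⟩
  have h1 : Nat.card sq.range = Nat.card θ.ker * Nat.card sqB.range := by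
    rw [θ.ker.card_eq_card_quotient_mul_card_subgroup, mul_comm,
      Nat.card_congr (QuotientGroup.quotientKerEquivOfSurjective θ hθ).toEquiv]
  have h2 : Nat.card A = Nat.card φ.ker * Nat.card B := by
    rw [φ.ker.card_eq_card_quotient_mul_card_subgroup, mul_comm,
      Nat.card_congr (QuotientGroup.quotientKerEquivOfSurjective φ hφ).toEquiv]
  have h3 : Nat.card θ.ker ≤ Nat.card φ.ker :=
    Nat.card_le_card_of_injective (fun a => (⟨a.1.1, congrArg Subtype.val a.2⟩ : φ.ker))
      fun a b e => Subtype.ext (Subtype.ext (congrArg (fun z : φ.ker => (z : A)) e))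
  rw [h2, ← hB, h1] at hA
  have hA' : Nat.card sq.ker * Nat.card θ.ker * Nat.card sqB.range =
      Nat.card φ.ker * Nat.card sqB.ker * Nat.card sqB.range := by
    rw [mul_assoc, hA, mul_assoc]
  have h4 := Nat.eq_of_mul_eq_mul_right Nat.card_pos hA'
  have h5 : Nat.card φ.ker * Nat.card sqB.ker ≤ Nat.card φ.ker * Nat.card sq.ker := by
    rw [← h4, mul_comm]; exact Nat.mul_le_mul_right _ h3
  exact Nat.le_of_mul_le_mul_left h5 Nat.card_pos

/-- No commutative subgroup of the alternating group of degree eight has order at least sixteen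
and at most four square classes, all orders being powers of two. -/
theorem alt_eight_aux (A : Subgroup (alternatingGroup (Fin 8)))
    (hcomm : ∀ a ∈ A, ∀ b ∈ A, a * b = b * a) (h4 : ∀ a ∈ A, a ^ 4 = 1) (h16 : 16 ≤ Nat.card A)
    (hinv : Nat.card {a : A // a ^ 2 = 1} ≤ 4) : False := by
  classical
  let Ac : CommGroup A := { (inferInstance : Group A) with
    mul_comm := fun a b => Subtype.ext (hcomm a a.2 b b.2) }
  let sq : A →* A :=
    { toFun := fun a => a ^ 2
      map_one' := one_pow 2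
      map_mul' := fun a b => mul_pow a b 2 }
  have hker : Nat.card sq.ker = Nat.card {a : A // a ^ 2 = 1} := rfl
  have hrl : sq.range ≤ sq.ker := by
    rintro _ ⟨a, rfl⟩
    show (a ^ 2) ^ 2 = 1
    rw [← pow_mul]; exact Subtype.ext (by simpa using h4 a a.2)
  have hcard : Nat.card A = Nat.card sq.ker * Nat.card sq.range := by
    rw [sq.ker.card_eq_card_quotient_mul_card_subgroup, mul_comm,
      Nat.card_congr (QuotientGroup.quotientKerEquivRange sq).toEquiv]
  have hle : Nat.card sq.range ≤ Nat.card sq.ker := Subgroup.card_le_of_le hrl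
  have hk4 : Nat.card sq.ker ≤ 4 := hker ▸ hinv
  have h44 : Nat.card sq.ker = Nat.card sq.range ∧ Nat.card A = 16 := by
    have := Nat.mul_le_mul hk4 (hle.trans hk4)
    constructor <;> nlinarith
  have hsq : ∀ a : A, a ^ 2 = 1 → ∃ b : A, b ^ 2 = a := fun a ha =>
    (Subgroup.eq_of_le_of_card_ge hrl h44.1.le).ge (show a ∈ sq.ker from ha)
  let ι : A →* Equiv.Perm (Fin 8) := (alternatingGroup (Fin 8)).subtype.comp A.subtype
  have hι : Function.Injective ι := Subtype.val_injective.comp Subtype.val_injective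
  -- the elements of order four have two cycles of length four
  have hfour : ∀ a : A, a ^ 2 ≠ 1 → ∀ i, ι (a ^ 2) i ≠ i := by
    intro a ha
    have hord : orderOf (ι a) = 4 := by
      rw [orderOf_injective ι hι]
      exact orderOf_eq_prime_pow (p := 2) (n := 1) (by simpa using ha) (Subtype.ext (by simpa using h4 a a.2))
    have heven : Equiv.Perm.sign (ι a) = 1 := Equiv.Perm.mem_alternatingGroup.1 a.1.2
    rcases cycleType_of_order_four heven hord with hc | hc
    · intro i hi
      rw [map_pow] at hi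
      have hsupp : (ι a).support = Finset.univ := Finset.eq_univ_of_card _ (by
        rw [← Equiv.Perm.sum_cycleType, hc]; simp)
      obtain ⟨cy, hcy, hicy⟩ : ∃ cy ∈ (ι a).cycleFactorsFinset, i ∈ cy.support :=
        ⟨(ι a).cycleOf i, Equiv.Perm.cycleOf_mem_cycleFactorsFinset_iff.2 (by rw [hsupp]; simp),
          Equiv.Perm.mem_support_cycleOf_iff.2 ⟨Equiv.Perm.SameCycle.refl _ i, by rw [hsupp]; simp⟩⟩
      have hlen : cy.support.card = 4 := by
        have : cy.support.card ∈ (ι a).cycleType := by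
          rw [Equiv.Perm.cycleType_def]
          exact Multiset.mem_map.2 ⟨cy, hcy, rfl⟩
        rw [hc] at this; simpa using this
      have hcyc := (Equiv.Perm.mem_cycleFactorsFinset_iff.1 hcy).1
      have heq : (cy ^ 2) i = i := by
        have hpow : ∀ n : ℕ, (cy ^ n) i = ((ι a) ^ n) i := by
          intro n
          have hce : cy = (ι a).cycleOf i :=
            Equiv.Perm.cycle_is_cycleOf hicy hcy
          rw [hce, Equiv.Perm.cycleOf_pow_apply_self]
        rw [hpow, hi]
      have h2 := hcyc.pow_eq_one_iff' (Equiv.Perm.mem_support.1 hicy) |>.2 heq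
      have := orderOf_dvd_of_pow_eq_one h2
      rw [hcyc.orderOf, hlen] at this
      norm_num at this
    · exfalso
      have hcount : Nat.card (Subgroup.centralizer {ι a} : Subgroup (Equiv.Perm (Fin 8))) = 16 := by
        rw [Equiv.Perm.nat_card_centralizer, hc]; decide
      have hsub : A.map (alternatingGroup (Fin 8)).subtype ≤ Subgroup.centralizer {ι a} := by
        rintro _ ⟨b, hb, rfl⟩
        rw [Subgroup.mem_centralizer_singleton_iff]
        exact congrArg Subtype.val (hcomm b hb a a.2)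
      have heq := Subgroup.eq_of_le_of_card_ge hsub (by
        rw [Subgroup.card_map_of_injective Subtype.val_injective, hcount, h44.2])
      obtain ⟨cy, hcy, hlen⟩ : ∃ cy ∈ (ι a).cycleFactorsFinset, cy.support.card = 2 := by
        have : 2 ∈ (ι a).cycleType := by rw [hc]; simp
        rw [Equiv.Perm.cycleType_def] at this
        obtain ⟨cy, hcy, e⟩ := Multiset.mem_map.1 this
        exact ⟨cy, hcy, e⟩
      have hin : cy ∈ A.map (alternatingGroup (Fin 8)).subtype := by
        rw [heq, Subgroup.mem_centralizer_singleton_iff]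
        exact (Equiv.Perm.self_mem_cycle_factors_commute hcy).symm.eq.symm
      obtain ⟨b, -, hb⟩ := hin
      have hs : Equiv.Perm.sign cy = 1 := hb ▸ Equiv.Perm.mem_alternatingGroup.1 b.2
      rw [(Equiv.Perm.mem_cycleFactorsFinset_iff.1 hcy).1.sign, hlen] at hs
      revert hs; decide
  have hfree : ∀ a : A, a ≠ 1 → ι a 0 ≠ 0 := by
    intro a ha h0
    by_cases h2 : a ^ 2 = 1
    · obtain ⟨b, rfl⟩ := hsq a h2
      exact hfour b (fun e => ha e) 0 h0
    · refine hfour a h2 0 ?_
      rw [map_pow, pow_two, Equiv.Perm.mul_apply, h0, h0]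
  have hinj : Function.Injective fun a : A => ι a 0 := fun a b e => by
    by_contra hne
    refine hfree (b⁻¹ * a) (fun e' => hne (inv_mul_eq_one.1 e').symm) ?_
    simp only at e
    rw [map_mul, map_inv, Equiv.Perm.mul_apply, e, Equiv.Perm.inv_def, Equiv.symm_apply_apply]
  have := Nat.card_le_card_of_injective _ hinj
  rw [Nat.card_fin] at this
  omega

theorem alt_eight_card : Nat.card (alternatingGroup (Fin 8)) = 20160 := by
  rw [nat_card_alternatingGroup, Nat.card_fin]; rfl

theorem exists_hom_fin {m r : ℕ} (h : m ≤ r) :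
    ∃ f : alternatingGroup (Fin m) →* alternatingGroup (Fin r), Function.Injective f := by
  classical
  let e : Fin m ↪ Fin r := Fin.castLEEmb h
  let g : Equiv.Perm (Fin m) →* Equiv.Perm (Fin r) := Equiv.Perm.viaEmbeddingHom e
  refine ⟨(g.comp (alternatingGroup (Fin m)).subtype).codRestrict _ fun a => ?_,
    fun a b e' => Subtype.ext (Equiv.Perm.viaEmbeddingHom_injective e (congrArg Subtype.val e'))⟩
  show g a ∈ alternatingGroup (Fin r)
  rw [Equiv.Perm.mem_alternatingGroup, Equiv.Perm.viaEmbeddingHom_apply, Equiv.Perm.viaEmbedding, Equiv.Perm.sign_extendDomain]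
  exact Equiv.Perm.mem_alternatingGroup.1 a.2

/-- No section is alternating of degree eight or more, in the presence of a commutative subgroup
with at most four square roots of unity and index not divisible by eight. -/
theorem no_alt_eight [Finite G] {T : Subgroup G} (hcomm : ∀ a ∈ T, ∀ b ∈ T, a * b = b * a)
    (h2 : Nat.card {a : T // a ^ 2 = 1} ≤ 4) (hidx : ¬ 8 ∣ T.index)
    (j : H →* G) (hj : Function.Injective j) {r : ℕ} {π : H →* alternatingGroup (Fin r)}
    (hπ : Function.Surjective π) : r ≤ 7 := by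
  classical
  haveI : Fact (Nat.Prime 2) := ⟨Nat.prime_two⟩
  haveI : Finite H := Finite.of_injective j hj
  by_contra hr
  obtain ⟨f, hf⟩ := exists_hom_fin (show 8 ≤ r by omega)
  -- a section isomorphic to the alternating group of degree eight
  set H₁ := (f.range).comap π
  let π₁ : H₁ →* alternatingGroup (Fin 8) :=
    (MonoidHom.ofInjective hf).symm.toMonoidHom.comp
      ((π.comp H₁.subtype).codRestrict _ fun h => h.2)
  have hπ₁ : Function.Surjective π₁ := by
    refine (MonoidHom.ofInjective hf).symm.surjective.comp fun ⟨y, hy⟩ => ?_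
    obtain ⟨h, rfl⟩ := hπ y
    exact ⟨⟨h, hy⟩, rfl⟩
  obtain ⟨P⟩ : Nonempty (Sylow 2 H₁) := inferInstance
  have hS : Nat.card ((P.mapSurjective hπ₁ : Sylow 2 (alternatingGroup (Fin 8))) :
      Subgroup (alternatingGroup (Fin 8))) = 64 := by
    rw [Sylow.card_eq_multiplicity, alt_eight_card]
    have : (20160 : ℕ).factorization 2 = 6 := by
      rw [show (20160 : ℕ) = 2 ^ 6 * 315 by norm_num, Nat.factorization_mul (by norm_num) (by norm_num),
        Nat.Prime.factorization_pow Nat.prime_two]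
      simp [Nat.factorization_eq_zero_of_not_dvd (show ¬ 2 ∣ 315 by norm_num)]
    rw [this]; norm_num
  rw [Sylow.coe_mapSurjective] at hS
  -- put the Sylow subgroup next to `T`
  obtain ⟨S⟩ : Nonempty (Sylow 2 T) := inferInstance
  obtain ⟨Pg, hPg⟩ := (S.2.map T.subtype).exists_le_sylow
  have hrel : T.relIndex Pg ≤ 4 := by
    have hsub : Nat.card S ∣ Nat.card (T.subgroupOf Pg) := by
      rw [← Subgroup.card_map_of_injective T.subtype_injective]
      have hle : (S : Subgroup T).map T.subtype ≤ T ⊓ Pg := le_inf (Subgroup.map_subtype_le _) hPg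
      have h := Subgroup.card_dvd_of_le hle
      rwa [← Nat.card_congr (Subgroup.subgroupOfEquivOfLe
        (inf_le_right : T ⊓ (Pg : Subgroup G) ≤ Pg)).toEquiv, Subgroup.inf_subgroupOf_right] at h
    have hmul : Nat.card (T.subgroupOf Pg) * T.relIndex Pg = Nat.card Pg := by
      rw [Subgroup.relIndex]; exact Subgroup.card_mul_index _
    rw [Pg.card_eq_multiplicity, ← T.card_mul_index,
      Nat.factorization_mul (Nat.card_pos).ne' (index_ne_zero_of_finite), Finsupp.add_apply,
      pow_add, ← S.card_eq_multiplicity] at hmul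
    obtain ⟨t, ht⟩ := hsub
    have hb : (2 : ℕ) ^ T.index.factorization 2 ≤ 4 := by
      have hd := Nat.ordProj_dvd T.index 2
      by_contra hlt
      have h3 : 3 ≤ T.index.factorization 2 := by
        by_contra h3
        interval_cases T.index.factorization 2 <;> simp_all
      exact hidx ((pow_dvd_pow 2 h3).trans hd)
    rw [ht, mul_assoc] at hmul
    have := Nat.eq_of_mul_eq_mul_left Nat.card_pos hmul
    have ht0 : 0 < t := by
      rcases Nat.eq_zero_or_pos t with h0 | h0
      · rw [h0, mul_zero] at ht; exact absurd ht (Nat.card_pos).ne'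
      · exact h0
    nlinarith
  obtain ⟨c, hc⟩ : ∃ c : G, ∀ h ∈ (P : Subgroup H₁), c * j h * c⁻¹ ∈ Pg := by
    obtain ⟨P', hP'⟩ := (P.2.map (j.comp H₁.subtype)).exists_le_sylow
    obtain ⟨c, hc⟩ := MulAction.exists_smul_eq G P' Pg
    refine ⟨c, fun h hh => ?_⟩
    show c * j h * c⁻¹ ∈ ((Pg : Sylow 2 G) : Subgroup G)
    rw [← hc, Sylow.smul_def, Sylow.pointwise_smul_def]
    exact ⟨j h, hP' ⟨h, hh, rfl⟩, rfl⟩
  obtain ⟨j', hj', ej'⟩ := inj_conj hj c
  let k : (P : Subgroup H₁) →* G := j'.comp (H₁.subtype.comp (P : Subgroup H₁).subtype)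
  have hk : Function.Injective k := hj'.comp (Subtype.val_injective.comp Subtype.val_injective)
  set R₀ : Subgroup (P : Subgroup H₁) := T.comap k
  have hR₀ : R₀.index ≤ 4 := by
    rw [Subgroup.index_comap, show k.range = (k.range ⊓ Pg) from (inf_eq_left.2 ?_).symm]
    · exact (Subgroup.relIndex_le_of_le_right inf_le_right Subgroup.index_ne_zero_of_finite).trans hrel
    · rintro _ ⟨h, rfl⟩
      show j' _ ∈ Pg
      rw [ej']; exact hc _ h.2
  let ψ : (P : Subgroup H₁) →* alternatingGroup (Fin 8) := π₁.comp (P : Subgroup H₁).subtype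
  have hψ : Nat.card ψ.range = 64 := by
    rw [show ψ.range = (P : Subgroup H₁).map π₁ by rw [MonoidHom.range_comp, Subgroup.range_subtype]]
    exact hS
  set A := R₀.map ψ
  have hA : 16 ≤ Nat.card A := by
    have h1 : A.relIndex ψ.range ≤ 4 := by
      refine le_trans (Nat.le_of_dvd (Nat.pos_of_ne_zero Subgroup.index_ne_zero_of_finite) ?_) hR₀
      rw [MonoidHom.range_eq_map, Subgroup.relIndex_map_map, top_sup_eq, Subgroup.relIndex_top_right]
      exact Subgroup.index_dvd_of_le le_sup_left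
    have h2 : Nat.card A * A.relIndex ψ.range = 64 := by
      rw [← hψ, ← Nat.card_congr (Subgroup.subgroupOfEquivOfLe
        (Subgroup.map_le_range ψ R₀)).toEquiv, Subgroup.relIndex]
      exact Subgroup.card_mul_index _
    nlinarith
  have hkc : ∀ a ∈ R₀, ∀ b ∈ R₀, a * b = b * a := fun a ha b hb => hk (by
    rw [map_mul, map_mul]; exact hcomm _ ha _ hb)
  refine alt_eight_aux A ?_ ?_ hA ?_
  · rintro _ ⟨a, ha, rfl⟩ _ ⟨b, hb, rfl⟩
    rw [← map_mul, ← map_mul, hkc a ha b hb]
  · rintro _ ⟨a, -, rfl⟩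
    obtain ⟨n, hn⟩ := P.2 a
    have h1 : (ψ a) ^ (2 ^ n) = 1 := by rw [← map_pow, hn, map_one]
    obtain ⟨i, hi, he⟩ := (Nat.dvd_prime_pow Nat.prime_two).1 (orderOf_dvd_of_pow_eq_one h1)
    rcases Nat.lt_or_ge i 3 with h3 | h3
    · exact orderOf_dvd_iff_pow_eq_one.1 (he ▸ (pow_dvd_pow 2 (by omega : i ≤ 2)))
    · exfalso
      have heven : Equiv.Perm.sign (((ψ a) ^ (2 ^ (i - 3)) : alternatingGroup (Fin 8)) :
          Equiv.Perm (Fin 8)) = 1 := Equiv.Perm.mem_alternatingGroup.1 (Subtype.mem _)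
      exact no_order_eight _ heven (by
        rw [show (((ψ a) ^ (2 ^ (i - 3)) : alternatingGroup (Fin 8)) : Equiv.Perm (Fin 8)) =
              (alternatingGroup (Fin 8)).subtype ((ψ a) ^ (2 ^ (i - 3))) from rfl,
          orderOf_injective _ Subtype.val_injective, orderOf_pow' _ (by positivity), he,
          Nat.gcd_eq_right (pow_dvd_pow 2 (by omega)), Nat.pow_div (by omega) (by norm_num),
          show i - (i - 3) = 3 by omega])
  · -- the square classes
    let R₁ := R₀
    let Rc : CommGroup R₁ := { (inferInstance : Group R₁) with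
      mul_comm := fun a b => Subtype.ext (hkc a a.2 b b.2) }
    let sq : R₁ →* R₁ :=
      { toFun := fun a => a ^ 2
        map_one' := one_pow 2
        map_mul' := fun a b => mul_pow a b 2 }
    have hb : Nat.card sq.ker ≤ 4 := by
      refine le_trans (Nat.card_le_card_of_injective
        (fun a : sq.ker => (⟨⟨k a.1.1, a.1.2⟩, Subtype.ext (by
          show (k a.1.1) ^ 2 = 1
          rw [← map_pow, show a.1.1 ^ 2 = 1 from congrArg Subtype.val a.2, map_one])⟩ :
            {t : T // t ^ 2 = 1})) fun a b e => ?_) h2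
      exact Subtype.ext (Subtype.ext (hk (congrArg Subtype.val (congrArg Subtype.val e))))
    let φ : R₁ →* A := (ψ.comp R₀.subtype).codRestrict _ fun a => ⟨a, a.2, rfl⟩
    have hφ : Function.Surjective φ := by
      rintro ⟨_, a, ha, rfl⟩; exact ⟨⟨a, ha⟩, rfl⟩
    exact le_trans (sqrt_one_le φ hφ sq (fun _ => rfl)) hb

end Cfsg.Agent.Grp.SectionAut
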