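import Cfsg.Agent.Lib.Fus.SLTwoAdjoinFinite

/-!
Subgroups of `SL(2, L)` with two independent upper transvections and a lower one.
-/

set_option autoImplicit false

namespace Cfsg.Agent.Grp.UpperLower

open Matrix Cfsg.Agent.Grp.SL2 Cfsg.Agent.PSL2Spec Cfsg.Agent.Dickson Cfsg.Agent.Fus.AdjoinSL

variable {L : Type*} [Field L] [Fintype L]

local notation "SL₂" => Matrix.SpecialLinearGroup (Fin 2) L

variable (p : ℕ) [hp : Fact p.Prime] [CharP L p]

include hp

/-- The upper parameters of a subgroup. -/
def upSet (D : Subgroup SL₂) : AddSubgroup L where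
  carrier := {t | up t ∈ D}
  add_mem' := fun {s t} hs ht => by
    show up (s + t) ∈ D
    rw [← up_mul]; exact mul_mem hs ht
  zero_mem' := by show up (0 : L) ∈ D; rw [up_zero]; exact one_mem _
  neg_mem' := fun {t} ht => by
    show up (-t) ∈ D
    have e : up (-t) = (up t)⁻¹ := eq_inv_of_mul_eq_one_left (by rw [up_mul, neg_add_cancel, up_zero])
    rw [e]; exact inv_mem ht

/-- Generation by two independent upper transvections and a lower one, inside the field their
products generate. -/
theorem eq_top (D : Subgroup SL₂) {μ k : L} (hk : k ≠ 0) (h1 : up (1 : L) ∈ D) (hμ : up μ ∈ D)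
    (hμp : ∀ n : ℕ, μ ≠ n) (hlow : low k ∈ D)
    (hgen : ∀ L0 : Subfield L, (∀ s, up s ∈ D → s * k ∈ L0) → L0 = ⊤) : D = ⊤ := by
  classical
  haveI := finite_pgl (F := L)
  have hu0 : ∀ {s : L}, s ≠ 0 → proj (up s : SL₂) ≠ 1 := fun {s} hs e => by
    rcases proj_one_iff.mp e with e | e
    · exact hs (eq_of_up_eq (r := 0) (Or.inl (by rw [up_zero]; exact e)))
    · exact hs (eq_of_up_eq (r := 0) (Or.inr (by rw [up_zero]; exact e)))
  have hup : ∀ s : L, proj (up s : SL₂) ^ p = 1 := fun s => by
    rw [← map_pow, up_pow, CharP.cast_eq_zero, zero_mul, up_zero, map_one]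
  have hord : p ∣ Nat.card (D.map proj : Subgroup _) := by
    rw [← orderOf_eq_prime (hup 1) (hu0 one_ne_zero)]
    exact Subgroup.orderOf_dvd_natCard _ (Subgroup.mem_map_of_mem _ h1)
  have hnine : p = 3 → 9 ∣ Nat.card (D.map proj : Subgroup _) := by
    intro h3
    let ψ : Multiplicative (upSet D) →* Matrix.ProjectiveSpecialLinearGroup (Fin 2) L :=
      { toFun := fun c => proj (up (c.toAdd : L))
        map_one' := by simp [up_zero]
        map_mul' := fun c d => by rw [← map_mul, up_mul, toAdd_mul, AddSubgroup.coe_add] }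
    have hψ : Function.Injective ψ := by
      intro c d h
      rcases proj_eq_iff.mp h with e | e
      · exact Multiplicative.toAdd.injective (Subtype.ext (eq_of_up_eq (Or.inl e)).symm)
      · exact Multiplicative.toAdd.injective (Subtype.ext (eq_of_up_eq (Or.inr e)).symm)
    have hle : ψ.range ≤ D.map proj := by
      rintro _ ⟨c, rfl⟩; exact Subgroup.mem_map_of_mem _ c.toAdd.2
    refine dvd_trans ?_ (Subgroup.card_dvd_of_le hle)
    rw [← Nat.card_congr (MonoidHom.ofInjective hψ).toEquiv, Nat.card_congr Multiplicative.toAdd]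
    obtain ⟨f, -, hf⟩ := FiniteField.card L p
    have hdvd : Nat.card (upSet D) ∣ p ^ (f : ℕ) := by
      rw [← hf, ← Nat.card_eq_fintype_card]; exact AddSubgroup.card_addSubgroup_dvd_card _
    obtain ⟨i, -, hi⟩ := (Nat.dvd_prime_pow hp.out).mp hdvd
    rcases Nat.lt_or_ge i 2 with h | h
    · exfalso
      have hsub : AddSubgroup.zmultiples (1 : L) ≤ upSet D := AddSubgroup.zmultiples_le.2 h1
      have hc : Nat.card (AddSubgroup.zmultiples (1 : L)) = p := by
        rw [Nat.card_zmultiples]
        exact addOrderOf_eq_prime (by rw [nsmul_one, CharP.cast_eq_zero]) one_ne_zero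
      have e : upSet D = AddSubgroup.zmultiples (1 : L) := by
        refine (AddSubgroup.eq_of_le_of_card_ge hsub ?_).symm
        rw [hc, hi]
        exact (Nat.pow_le_pow_right hp.out.pos (by omega : i ≤ 1)).trans (pow_one p).le
      have hm : μ ∈ AddSubgroup.zmultiples (1 : L) := e ▸ hμ
      obtain ⟨z, hz⟩ := AddSubgroup.mem_zmultiples_iff.1 hm
      refine hμp (z % p).toNat ?_
      rw [← hz, zsmul_one, ← Int.cast_natCast (R := L),
        Int.toNat_of_nonneg (Int.emod_nonneg _ (by exact_mod_cast hp.out.ne_zero))]
      exact ((CharP.intCast_eq_intCast L p).2 (Int.mod_modEq z p)).symm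
    · rw [hi, h3]; exact dvd_trans (by norm_num) (pow_dvd_pow 3 h)
  have hμ0 : μ ≠ 0 := by simpa using hμp 0
  have h1μ : (1 : L) + μ ≠ 0 := fun e => hμp (p - 1) <| by
    rw [Nat.cast_sub hp.out.pos, CharP.cast_eq_zero, Nat.cast_one]
    linear_combination e
  have htop : D.map proj = ⊤ := by
    rcases dickson p (D.map proj) with h | ⟨a, -, ha, hap, h⟩ | ⟨a, -, ha, hap, hidx, h, -⟩ |
      ⟨a, -, ha, hap, h⟩ | ⟨hc, -, h⟩ | ⟨hc, -, h⟩ | ⟨hc, -, h⟩ | h
    · exact absurd (Subgroup.mem_bot.mp (h ▸ Subgroup.mem_map_of_mem _ h1)) (hu0 one_ne_zero)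
    · exact absurd (h (Subgroup.mem_map_of_mem _ h1)) (not_uni_le_semi p ha hap one_ne_zero)
    · refine absurd ?_ (not_uni_le_semi p ha hap h1μ)
      have hm : ∀ (s : L) (hs : up s ∈ D), (¬ (⟨proj (up s), Subgroup.mem_map_of_mem _ hs⟩ :
          D.map proj) ∈ (tor a).subgroupOf (D.map proj)) ∨ s = 0 := fun s hs => by
        by_cases h0 : s = 0
        · exact Or.inr h0
        · exact Or.inl (not_uni_le_semi p ha hap h0)
      have := (Subgroup.mul_mem_iff_of_index_two hidx).2
        (iff_of_false ((hm 1 h1).resolve_right one_ne_zero) ((hm μ hμ).resolve_right hμ0))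
      simpa [Subgroup.mem_subgroupOf, ← map_mul, up_mul] using this
    · exfalso
      have hN := h
      have hu : proj (up (1 : L)) ∈ tor a :=
        mem_uni_tor p ha hap (hN (Subgroup.mem_map_of_mem _ h1)) (hup 1)
      have hl : proj (low k) ∈ tor a := by
        refine mem_uni_tor p ha hap (hN (Subgroup.mem_map_of_mem _ hlow)) ?_
        rw [← map_pow, low_pow, CharP.cast_eq_zero, zero_mul, low_zero, map_one]
      have hc := ((pslData (F := L) p).comm ha hu hl).eq
      rw [← map_mul, ← map_mul] at hc
      rcases proj_eq_iff.mp hc with e | e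
      · have := congrFun (congrFun (congrArg Subtype.val e) 0) 0
        simp [Matrix.SpecialLinearGroup.coe_mul, coe_up, coe_low, Matrix.mul_apply,
          Fin.sum_univ_two] at this
        exact hk this
      · have e0 := congrFun (congrFun (congrArg Subtype.val e) 0) 0
        have e1 := congrFun (congrFun (congrArg Subtype.val e) 0) 1
        simp [Matrix.SpecialLinearGroup.coe_mul, Matrix.SpecialLinearGroup.coe_neg, coe_up, coe_low,
          Matrix.mul_apply, Fin.sum_univ_two] at e0 e1
        exact hk (by linear_combination e0 - e1)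
    · rcases h with h | h
      · exact absurd hord h
      · have := hnine h; rw [hc] at this; norm_num at this
    · exact absurd hord h
    · rcases h with h | h
      · exact absurd hord h
      · have := hnine h; rw [hc] at this; norm_num at this
    · obtain ⟨K, P, -, hK⟩ := h
      have hle : (D.map proj).map Matrix.ProjectiveSpecialLinearGroup.toPGL ≤
          ((pglMap K.subtype).range).map
            (MulAut.conj (Matrix.ProjGenLinGroup.mk P)).toMonoidHom := by
        rcases hK with hK | hK
        · exact hK.le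
        · exact hK.le.trans (Subgroup.map_mono (pslImg_le _))
      have htr : ∀ s, up s ∈ D → (2 + s * k) ^ 2 ∈ K := fun s hs => by
        have := sq_tr_mem (hle (Subgroup.mem_map_of_mem _
          (Subgroup.mem_map_of_mem _ (mul_mem hs hlow))))
        have e : tr (up s * low k) = 2 + s * k := by
          simp [tr, Matrix.SpecialLinearGroup.coe_mul, coe_up, coe_low, Matrix.mul_apply,
            Fin.sum_univ_two]
          ring
        rwa [e] at this
      have hKtop : K = ⊤ := hgen K fun s hs => by
        by_cases h2 : (2 : L) = 0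
        · have hsq : (s * k) ^ 2 ∈ K := by simpa [h2] using htr s hs
          haveI : CharP L 2 := CharTwo.of_one_ne_zero_of_two_eq_zero one_ne_zero h2
          obtain ⟨f, -, hf⟩ := FiniteField.card L 2
          have e : ((s * k) ^ 2) ^ 2 ^ ((f : ℕ) - 1) = s * k := by
            rw [← pow_mul, ← pow_succ', Nat.sub_add_cancel f.pos, ← hf, FiniteField.pow_card]
          exact e ▸ K.pow_mem hsq _
        · have h80 : (8 : L) ≠ 0 := by
            rw [show (8 : L) = 2 * 2 * 2 by norm_num]; exact mul_ne_zero (mul_ne_zero h2 h2) h2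
          have := K.div_mem (K.sub_mem (htr s hs) (htr (-s) ((upSet D).neg_mem hs)))
            (natCast_mem K 8)
          convert this using 1
          rw [eq_div_iff (by exact_mod_cast h80)]
          push_cast
          ring
      refine Subgroup.eq_top_of_le_card _ ?_
      have e1 : Nat.card ((D.map proj).map Matrix.ProjectiveSpecialLinearGroup.toPGL) =
          Nat.card (D.map proj : Subgroup (Matrix.ProjectiveSpecialLinearGroup (Fin 2) L)) :=
        Subgroup.card_map_of_injective Matrix.ProjectiveSpecialLinearGroup.toPGL_injective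
      have e2 : (pslImg K.subtype).map (MulAut.conj (Matrix.ProjGenLinGroup.mk P)).toMonoidHom ≤
          (D.map proj).map Matrix.ProjectiveSpecialLinearGroup.toPGL := by
        rcases hK with hK | hK
        · rw [hK]; exact Subgroup.map_mono (pslImg_le _)
        · rw [hK]
      have e3 := Subgroup.card_le_of_le e2
      rw [e1, Subgroup.card_map_of_injective (MulEquiv.injective _)] at e3
      subst hKtop
      obtain ⟨i1⟩ := nonempty_pslImg (⊤ : Subfield L).subtype
      obtain ⟨i2⟩ := nonempty_psl_congr (Subfield.topEquiv : (⊤ : Subfield L) ≃+* L)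
      rw [Nat.card_congr (i1.trans i2).toEquiv] at e3
      exact e3
  have hpow : ∀ g : SL₂, g ^ p = 1 → g ∈ D := by
    intro g hg
    obtain ⟨y, hy, e⟩ := Subgroup.mem_map.mp (htop ▸ Subgroup.mem_top (proj g))
    rcases proj_eq_iff.mp e with e | e
    · rw [e]; exact hy
    · by_cases h2 : (2 : L) = 0
      · have hneg : -y = y := Subtype.ext (by
          ext i j
          simp only [Matrix.SpecialLinearGroup.coe_neg, Matrix.neg_apply]
          linear_combination -((y : Matrix (Fin 2) (Fin 2) L) i j) * h2)
        rw [e, hneg]; exact hy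
      · have hodd : p ≠ 2 := fun e2 => h2 (by subst e2; exact_mod_cast CharP.cast_eq_zero L 2)
        have hm1 : (-1 : SL₂) ∈ D := by
          have hyp : y ^ p = -1 := by
            have : y = -g := by rw [e, neg_neg]
            rw [this, neg_pow, hg, mul_one, (hp.out.eq_two_or_odd'.resolve_left hodd).neg_one_pow]
          exact hyp ▸ pow_mem hy p
        rw [e, ← neg_one_mul]; exact mul_mem hm1 hy
  exact eq_top_of_up_low
    (fun t => hpow _ (by rw [up_pow, CharP.cast_eq_zero, zero_mul, up_zero]))
    (fun t => hpow _ (by rw [low_pow, CharP.cast_eq_zero, zero_mul, low_zero]))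

end Cfsg.Agent.Grp.UpperLower
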