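import Mathlib
import Cfsg.Prelude.Def_KGroupFacts
import Cfsg.Agent.Lib.Grp.PComponents
import Cfsg.Agent.Lib.Grp.Components
import Cfsg.Agent.Lib.Grp.Subnormal
import Cfsg.Agent.Lib.Grp.LocalFitting

/-!
Machinery for balance of the `p`-layer: functoriality of the `p`-layer for maps with subnormal
image, the covering step, elements of the layer fixed by a `p`-group, and the Schreier case.
-/

set_option autoImplicit false

namespace Cfsg.Agent.Grp

open scoped Pointwise commutatorElement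
open Subgroup

variable {G : Type*} [Group G] {p : ℕ}

/-- A `p`-element of `W ⊔ O` lies in `W` when `W` is normal and `O` has order prime to `p`. -/
theorem pElement_mem_of_sup [Finite G] [hp : Fact p.Prime] {W O : Subgroup G} [W.Normal]
    (hO : (Nat.card O).Coprime p) {x : G} (hx : x ∈ W ⊔ O)
    (hxp : IsPGroup p (Subgroup.zpowers x)) : x ∈ W := by
  refine (QuotientGroup.eq_one_iff x).mp ?_
  have h1 : QuotientGroup.mk' W x ∈ O.map (QuotientGroup.mk' W) := by
    have := Subgroup.mem_map_of_mem (QuotientGroup.mk' W) hx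
    rwa [Subgroup.map_sup, QuotientGroup.map_mk'_self, bot_sup_eq] at this
  obtain ⟨k, hk⟩ := IsPGroup.iff_card.mp hxp
  have h2 : orderOf (QuotientGroup.mk' W x) ∣ p ^ k :=
    (orderOf_map_dvd (QuotientGroup.mk' W) x).trans (by rw [← Nat.card_zpowers, hk])
  have h3 : orderOf (QuotientGroup.mk' W x) ∣ Nat.card O :=
    (by rw [← Subgroup.orderOf_mk _ h1]; exact orderOf_dvd_natCard _ :
      orderOf (QuotientGroup.mk' W x) ∣ Nat.card (O.map (QuotientGroup.mk' W))).trans
      (Subgroup.card_map_dvd _ _)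
  exact orderOf_eq_one_iff.mp (Nat.eq_one_of_dvd_coprimes (hO.pow_right k) h3 h2)

/-- The `p`-elements of a subnormal image of an extension of a quasisimple group by a `p'`-group
lie in the `p`-layer. -/
theorem pElement_mem_pLayer {A B : Type*} [Group A] [Group B] [Finite A] [Finite B] [Fact p.Prime]
    (f : A →* B) (hf : f.range.IsSubnormal) (N : Subgroup A) [hNn : N.Normal]
    (hq : Cfsg.IsQuasisimple (A ⧸ N)) (hN : (Nat.card N).Coprime p) {x : B} (hx : x ∈ f.range)
    (hxp : IsPGroup p (Subgroup.zpowers x)) : x ∈ Cfsg.pLayer p B := by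
  have hN1 : N.map f ≤ Cfsg.pPrimeCore p B := by
    refine le_pPrimeCore_of_isSubnormal ?_
      (Nat.Coprime.coprime_dvd_left (Subgroup.card_map_dvd _ _) hN)
    have : ((N.map f.rangeRestrict).map f.range.subtype).IsSubnormal :=
      ((hNn.map _ f.rangeRestrict_surjective).isSubnormal).trans' hf
    rwa [Subgroup.map_map, MonoidHom.subtype_comp_rangeRestrict] at this
  set q := QuotientGroup.mk' (Cfsg.pPrimeCore p B)
  set K := f.range.map q
  have hKs : K.IsSubnormal := hf.map (QuotientGroup.mk'_surjective _)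
  by_cases hK : K = ⊥
  · have hxO : q x = 1 := Subgroup.mem_bot.mp (hK ▸ Subgroup.mem_map_of_mem q hx)
    have := pElement_mem_of_sup (W := (⊥ : Subgroup B)) (pPrimeCore_coprime (p := p) (G := B))
      (Subgroup.mem_sup_right ((QuotientGroup.eq_one_iff x).mp hxO)) hxp
    rw [Subgroup.mem_bot.mp this]
    exact Subgroup.one_mem _
  have hnt : Nontrivial K := (Subgroup.nontrivial_iff_ne_bot K).mpr hK
  let φ : A →* K := (q.comp f).codRestrict K fun a =>
    ⟨f a, ⟨a, rfl⟩, rfl⟩
  have hφ : Function.Surjective φ := by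
    rintro ⟨_, _, ⟨a, rfl⟩, rfl⟩
    exact ⟨a, rfl⟩
  have hker : N ≤ φ.ker := fun a ha => Subtype.ext
    ((QuotientGroup.eq_one_iff (f a)).mpr (hN1 ⟨a, ha, rfl⟩))
  have hcomp : Cfsg.IsComponent K :=
    ⟨hKs, IsQuasisimple.of_surjective hq (f := QuotientGroup.lift N φ hker)
      (QuotientGroup.lift_surjective_of_surjective N φ hφ hker)⟩
  exact (le_sSup (lift_pRes_isPComponent hcomp).2 : pRes p (K.comap q) ≤ Cfsg.pLayer p B)
    (mem_pRes (Subgroup.mem_comap.mpr (Subgroup.mem_map_of_mem q hx)) hxp)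

theorem pLayer_le_of_pElements [Finite G] [Fact p.Prime] {W : Subgroup G}
    (h : ∀ K : Subgroup G, Cfsg.IsPComponent p K → ∀ x ∈ K, IsPGroup p (Subgroup.zpowers x) → x ∈ W) :
    Cfsg.pLayer p G ≤ W := by
  refine sSup_le fun K hK => ?_
  rw [IsPComponent.eq_pRes hK, pRes, Subgroup.closure_le]
  rintro x ⟨hx, hxp⟩
  refine h K hK x ?_ hxp
  rw [IsPComponent.eq_pRes hK]
  exact mem_pRes hx hxp

theorem pLayer_perfect [Finite G] [Fact p.Prime] :
    ⁅Cfsg.pLayer p G, Cfsg.pLayer p G⁆ = Cfsg.pLayer p G := by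
  refine le_antisymm (Subgroup.commutator_le_self _) (sSup_le fun K hK => ?_)
  calc K = ⁅K, K⁆ := (IsPComponent.perfect hK).symm
    _ ≤ _ := Subgroup.commutator_mono (le_sSup hK) (le_sSup hK)

/-- A hom with subnormal image maps the `p`-layer into the `p`-layer. -/
theorem pLayer_map_le {A B : Type*} [Group A] [Group B] [Finite A] [Finite B] [Fact p.Prime]
    (f : A →* B) (hf : f.range.IsSubnormal) :
    (Cfsg.pLayer p A).map f ≤ Cfsg.pLayer p B := by
  rw [Subgroup.map_le_iff_le_comap]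
  refine pLayer_le_of_pElements fun K hK x hx hxp => ?_
  refine pElement_mem_pLayer (f.comp K.subtype) ?_ (Cfsg.pPrimeCore p K)
    (IsPComponent.quotient_quasisimple hK) pPrimeCore_coprime ⟨⟨x, hx⟩, rfl⟩ ?_
  · have : ((K.map f.rangeRestrict).map f.range.subtype).IsSubnormal :=
      (hK.1.map f.rangeRestrict_surjective).trans' hf
    rw [MonoidHom.range_comp, Subgroup.range_subtype]
    rwa [Subgroup.map_map, MonoidHom.subtype_comp_rangeRestrict] at this
  · have := hxp.map f
    rwa [MonoidHom.map_zpowers] at this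

/-- A `p`-component lies in a normal subgroup or centralizes it modulo `O_{p'}`. -/
theorem pComponent_le_or_commute [Finite G] [Fact p.Prime] {K : Subgroup G}
    (hK : Cfsg.IsPComponent p K) (D : Subgroup G) [hD : D.Normal] :
    K ≤ D ∨ ∀ m ∈ K, ∀ d ∈ D, ⁅m, d⁆ ∈ Cfsg.pPrimeCore p G := by
  set q := QuotientGroup.mk' (Cfsg.pPrimeCore p G)
  have hDn : (D.map q).Normal := hD.map q (QuotientGroup.mk'_surjective _)
  rcases component_le_or_commute hK.2.1 hDn.isSubnormal with h | h
  · left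
    rw [IsPComponent.eq_pRes hK, pRes, Subgroup.closure_le]
    rintro x ⟨hx, hxp⟩
    refine pElement_mem_of_sup (pPrimeCore_coprime (p := p)) ?_ hxp
    have : q x ∈ D.map q := h hx
    rw [← Subgroup.mem_comap, Subgroup.comap_map_eq, QuotientGroup.ker_mk'] at this
    exact this
  · right
    intro m hm d hd
    refine (QuotientGroup.eq_one_iff _).mp (show q ⁅m, d⁆ = 1 from ?_)
    rw [map_commutatorElement]
    exact Subgroup.mem_bot.mp (h ▸ Subgroup.commutator_mem_commutator
      (Subgroup.mem_map_of_mem q hm) (Subgroup.mem_map_of_mem q hd))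

/-- The `p`-layer centralizes normal `p`-subgroups. -/
theorem pLayer_le_centralizer_pGroup [Finite G] [Fact p.Prime] (D : Subgroup G) [D.Normal]
    (hD : IsPGroup p D) : Cfsg.pLayer p G ≤ Subgroup.centralizer (D : Set G) := by
  refine sSup_le fun K hK => ?_
  rcases pComponent_le_or_commute hK D with h | h
  · have := (hD.to_le h).isNilpotent
    have e := eq_bot_of_perfect_of_solvable (IsPComponent.perfect hK) inferInstance
    exact absurd (by rw [e, Subgroup.map_bot]) (IsComponent.ne_bot hK.2.1)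
  · intro m hm
    rw [Subgroup.mem_centralizer_iff]
    intro d hd
    have h1 : ⁅m, d⁆ ∈ D ⊓ Cfsg.pPrimeCore p G :=
      ⟨D.mul_mem (Subgroup.Normal.conj_mem inferInstance d hd m) (D.inv_mem hd), h m hm d hd⟩
    obtain ⟨k, hk⟩ := IsPGroup.iff_card.mp hD
    rw [inf_eq_bot_of_coprime (by rw [hk]; exact (pPrimeCore_coprime.symm.pow_left k)),
      Subgroup.mem_bot, commutatorElement_eq_one_iff_mul_comm] at h1
    exact h1.symm

/-- The covering step: a normal subgroup containing `D` and the `p`-layer of the centralizer of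
a `p`-subgroup of `D` contains the whole `p`-layer. -/
theorem pLayer_le_step [Finite G] [Fact p.Prime] {W D T N : Subgroup G} [W.Normal] [D.Normal]
    [N.Normal] (hDW : D ≤ W) (hT : IsPGroup p T) (hTD : T ≤ D)
    (hNL : Cfsg.pLayer p G ≤ N) (hNO : Cfsg.pPrimeCore p G ≤ N)
    (hC : (Cfsg.pLayer p ↥(Subgroup.centralizer (T : Set G) ⊓ N)).map
      (Subgroup.centralizer (T : Set G) ⊓ N).subtype ≤ W) :
    Cfsg.pLayer p G ≤ W := by
  refine pLayer_le_of_pElements fun K hK x hx hxp => ?_
  rcases pComponent_le_or_commute hK D with h | h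
  · exact hDW (h hx)
  set q := QuotientGroup.mk' (Cfsg.pPrimeCore p G) with hqdef
  set C := Subgroup.centralizer (T : Set G) ⊓ N with hCdef
  have lift : ∀ m ∈ K, ∃ c ∈ C, q c = q m := by
    intro m hm
    have h1 : q m ∈ (Subgroup.centralizer (T : Set G)).map q := by
      rw [hqdef, map_centralizer_pGroup hT, Subgroup.mem_centralizer_iff]
      rintro _ ⟨t, ht, rfl⟩
      have h2 : q ⁅m, t⁆ = 1 := (QuotientGroup.eq_one_iff _).mpr (h m hm t (hTD ht))
      rw [map_commutatorElement, commutatorElement_eq_one_iff_mul_comm] at h2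
      exact h2.symm
    obtain ⟨c, hc, hcm⟩ := h1
    refine ⟨c, ⟨hc, ?_⟩, hcm⟩
    have h3 : m⁻¹ * c ∈ Cfsg.pPrimeCore p G := QuotientGroup.eq.mp hcm.symm
    simpa using N.mul_mem (hNL ((le_sSup hK : K ≤ Cfsg.pLayer p G) hm)) (hNO h3)
  set P := (K.map q).comap q ⊓ C
  obtain ⟨c, hc, hcx⟩ := lift x hx
  have hqp : IsPGroup p (Subgroup.zpowers (q c)) := by
    rw [hcx, ← MonoidHom.map_zpowers]; exact hxp.map q
  obtain ⟨a, ha, hap, haq⟩ := exists_pElement_lift q hqp
  have hcP : c ∈ P := ⟨⟨x, hx, hcx.symm⟩, hc⟩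
  have haP : a ∈ P := Subgroup.zpowers_le.mpr hcP ha
  have hPC : P ≤ C := inf_le_right
  let φ : P →* (K.map q : Subgroup (G ⧸ Cfsg.pPrimeCore p G)) :=
    (q.comp P.subtype).codRestrict _ fun y => y.2.1
  have hφ : Function.Surjective φ := by
    rintro ⟨_, m, hm, rfl⟩
    obtain ⟨c', hc', hcm'⟩ := lift m hm
    exact ⟨⟨c', ⟨⟨m, hm, hcm'.symm⟩, hc'⟩⟩, Subtype.ext hcm'⟩
  have hker : (Nat.card φ.ker).Coprime p := by
    refine Nat.Coprime.coprime_dvd_left ?_ (pPrimeCore_coprime (p := p) (G := G))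
    rw [← Subgroup.card_map_of_injective P.subtype_injective]
    refine Subgroup.card_dvd_of_le ?_
    rintro _ ⟨y, hy, rfl⟩
    exact (QuotientGroup.eq_one_iff _).mp (congrArg Subtype.val hy)
  have hq : Cfsg.IsQuasisimple (P ⧸ φ.ker) :=
    (isQuasisimple_congr (QuotientGroup.quotientKerEquivOfSurjective φ hφ)).mpr hK.2.1.2
  have hrange : (Subgroup.inclusion hPC).range.IsSubnormal := by
    have e : (Subgroup.inclusion hPC).range = ((K.map q).comap q).subgroupOf C := by
      ext ⟨y, hy⟩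
      simp [P, Subgroup.inclusion, Subgroup.mem_subgroupOf, hy]
    rw [e]
    exact (hK.2.1.1.comap q).subgroupOf
  have hapC : IsPGroup p (Subgroup.zpowers (⟨a, hPC haP⟩ : C)) :=
    IsPGroup.of_injective hap ((C.subtype.comp (Subgroup.zpowers (⟨a, hPC haP⟩ : C)).subtype).codRestrict
      (Subgroup.zpowers a) fun y => by
        obtain ⟨n, hn⟩ := y.2
        exact ⟨n, by simp [← hn]⟩)
      (fun u v huv => Subtype.ext (Subtype.ext (congrArg Subtype.val huv :)))
  have haW : a ∈ W := hC ⟨⟨a, hPC haP⟩, pElement_mem_pLayer (Subgroup.inclusion hPC) hrange φ.ker hq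
    hker ⟨⟨a, haP⟩, rfl⟩ hapC, rfl⟩
  refine pElement_mem_of_sup (pPrimeCore_coprime (p := p)) ?_ hxp
  have h4 : a⁻¹ * x ∈ Cfsg.pPrimeCore p G := QuotientGroup.eq.mp (haq.trans hcx)
  simpa using (W ⊔ Cfsg.pPrimeCore p G).mul_mem (Subgroup.mem_sup_left haW) (Subgroup.mem_sup_right h4)

/-! ### The `p`-layer of a subgroup, inside the ambient group -/

/-- The `p`-layer of the subgroup `H`, as a subgroup of the ambient group. -/
def pLayerIn (p : ℕ) (H : Subgroup G) : Subgroup G := (Cfsg.pLayer p H).map H.subtype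

theorem pLayerIn_le (H : Subgroup G) : pLayerIn p H ≤ H := Subgroup.map_subtype_le _

theorem pLayerIn_perfect [Finite G] [Fact p.Prime] (H : Subgroup G) :
    ⁅pLayerIn p H, pLayerIn p H⁆ = pLayerIn p H := by
  rw [pLayerIn, ← Subgroup.map_commutator, pLayer_perfect]

theorem pLayerIn_map_le [Finite G] [Fact p.Prime] {Y : Type*} [Group Y] [Finite Y] (f : G →* Y)
    {H : Subgroup G} {H' : Subgroup Y} (h : H.map f ≤ H')
    (hsn : ((H.map f).subgroupOf H').IsSubnormal) :
    (pLayerIn p H).map f ≤ pLayerIn p H' := by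
  let g : H →* H' := (f.comp H.subtype).codRestrict H' fun y => h ⟨y, y.2, rfl⟩
  have hg : g.range = (H.map f).subgroupOf H' := by
    ext z
    constructor
    · rintro ⟨y, rfl⟩
      exact ⟨y, y.2, rfl⟩
    · rintro ⟨y, hy, he⟩
      exact ⟨⟨y, hy⟩, Subtype.ext he⟩
  have := Subgroup.map_mono (f := H'.subtype) (pLayer_map_le (p := p) g (hg ▸ hsn))
  rw [Subgroup.map_map] at this
  rw [pLayerIn, Subgroup.map_map]
  exact this

theorem pLayerIn_mono [Finite G] [Fact p.Prime] {H K : Subgroup G} (h : H ≤ K)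
    (hsn : (H.subgroupOf K).IsSubnormal) : pLayerIn p H ≤ pLayerIn p K := by
  have := pLayerIn_map_le (p := p) (MonoidHom.id G) (H := H) (H' := K)
    (by rwa [Subgroup.map_id]) (by rwa [Subgroup.map_id])
  rwa [Subgroup.map_id] at this

/-- If the `p`-layer of `K` lies in a subgroup `H` of `K`, it lies in the `p`-layer of `H`. -/
theorem pLayerIn_le_of_le [Finite G] [Fact p.Prime] {H K : Subgroup G} (h : H ≤ K)
    (hL : pLayerIn p K ≤ H) : pLayerIn p K ≤ pLayerIn p H := by
  rw [pLayerIn, Subgroup.map_le_iff_le_comap]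
  refine pLayer_le_of_pElements fun M hM x hx hxp => ?_
  have hMH : ∀ y ∈ M, (y : G) ∈ H := fun y hy =>
    hL (Subgroup.mem_map_of_mem K.subtype ((le_sSup hM : M ≤ Cfsg.pLayer p K) hy))
  let f : M →* H := (K.subtype.comp M.subtype).codRestrict H fun y => hMH y y.2
  have hf : f.range = M.comap (Subgroup.inclusion h) := by
    ext z
    constructor
    · rintro ⟨y, rfl⟩
      have e : Subgroup.inclusion h (f y) = (y : K) := Subtype.ext rfl
      rw [Subgroup.mem_comap, e]
      exact y.2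
    · intro hz
      exact ⟨⟨_, hz⟩, Subtype.ext rfl⟩
  refine ⟨f ⟨x, hx⟩, pElement_mem_pLayer f (hf ▸ hM.1.comap _) (Cfsg.pPrimeCore p M)
    (IsPComponent.quotient_quasisimple hM) pPrimeCore_coprime ⟨_, rfl⟩ ?_, rfl⟩
  rw [← MonoidHom.map_zpowers]
  refine IsPGroup.map ?_ f
  refine IsPGroup.of_injective hxp ((M.subtype.comp (Subgroup.zpowers (⟨x, hx⟩ : M)).subtype).codRestrict
    (Subgroup.zpowers x) fun y => by
      obtain ⟨n, hn⟩ := y.2
      exact ⟨n, by simp [← hn]⟩)
    (fun u v huv => Subtype.ext (Subtype.ext (congrArg Subtype.val huv :)))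

theorem pLayerIn_subgroupOf [Finite G] [Fact p.Prime] {H Y : Subgroup G} (h : H ≤ Y) :
    pLayerIn p H ≤ (pLayerIn p (H.subgroupOf Y)).map Y.subtype := by
  let e : H →* H.subgroupOf Y := (Subgroup.subgroupOfEquivOfLe h).symm.toMonoidHom
  have he : e.range = ⊤ := MonoidHom.range_eq_top.mpr (MulEquiv.surjective _)
  have h1 : (Cfsg.pLayer p H).map e ≤ Cfsg.pLayer p (H.subgroupOf Y) :=
    pLayer_map_le e (by rw [he]; exact Subgroup.Normal.isSubnormal inferInstance)
  intro z hz
  obtain ⟨w, hw, rfl⟩ := hz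
  exact ⟨_, ⟨e w, h1 ⟨w, hw, rfl⟩, rfl⟩, rfl⟩

theorem pLayerIn_normalizer_le_centralizer [Finite G] [Fact p.Prime] {R : Subgroup G}
    (hR : IsPGroup p R) :
    pLayerIn p (Subgroup.normalizer (R : Set G)) ≤ Subgroup.centralizer (R : Set G) := by
  set N := Subgroup.normalizer (R : Set G)
  have : (R.subgroupOf N).Normal := Subgroup.normal_subgroupOf_of_le_normalizer le_rfl
  have h := pLayer_le_centralizer_pGroup (p := p) (R.subgroupOf N) hR.comap_subtype
  rintro _ ⟨y, hy, rfl⟩
  rw [Subgroup.mem_centralizer_iff]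
  intro r hr
  exact congrArg Subtype.val
    (Subgroup.mem_centralizer_iff.mp (h hy) ⟨r, Subgroup.le_normalizer hr⟩ hr)

/-! ### Groups with trivial `p'`-core -/

theorem pLayer_eq_layer [Finite G] [Fact p.Prime] (hO : Cfsg.pPrimeCore p G = ⊥) :
    Cfsg.pLayer p G = Cfsg.layer G := by
  set q := QuotientGroup.mk' (Cfsg.pPrimeCore p G)
  have hinj : Function.Injective q := by
    rw [← MonoidHom.ker_eq_bot_iff, QuotientGroup.ker_mk']; exact hO
  let e : G ≃* G ⧸ Cfsg.pPrimeCore p G :=
    MulEquiv.ofBijective q ⟨hinj, QuotientGroup.mk'_surjective _⟩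
  refine le_antisymm (sSup_le fun K hK => ?_) (sSup_le fun L hL => ?_)
  · refine IsComponent.le_layer ⟨hK.1, (isQuasisimple_map_iff hinj K).mp hK.2.1.2⟩
  · exact le_sSup ⟨hL.1, IsComponent.map_iso e hL, fun H _ _ hm =>
      Subgroup.map_injective hinj hm⟩

theorem centralizer_normal' (H : Subgroup G) [H.Normal] :
    (Subgroup.centralizer (H : Set G)).Normal := by
  refine ⟨fun c hc g => Subgroup.mem_centralizer_iff.mpr fun h hh => ?_⟩
  have := Subgroup.mem_centralizer_iff.mp hc (g⁻¹ * h * g)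
    (by simpa using (inferInstance : H.Normal).conj_mem h hh g⁻¹)
  calc h * (g * c * g⁻¹) = g * ((g⁻¹ * h * g) * c) * g⁻¹ := by group
    _ = g * (c * (g⁻¹ * h * g)) * g⁻¹ := by rw [this]
    _ = _ := by group

/-- `E(G) C_G(E(G))`. -/
def layerCentralizer (G : Type*) [Group G] : Subgroup G :=
  Cfsg.layer G ⊔ Subgroup.centralizer (Cfsg.layer G : Set G)

instance layerCentralizer_normal : (layerCentralizer G).Normal := by
  have := centralizer_normal' (Cfsg.layer G)
  rw [layerCentralizer]; infer_instance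

theorem perfect_le_layer [Finite G] {M : Subgroup G} (hM : ⁅M, M⁆ = M)
    (hW : M ≤ layerCentralizer G)
    (hF : M ≤ Subgroup.centralizer (Cfsg.fittingSubgroup G : Set G)) : M ≤ Cfsg.layer G := by
  have hle : M ≤ Cfsg.layer G ⊔ Cfsg.fittingSubgroup G := by
    intro m hm
    obtain ⟨e, he, c, hc, rfl⟩ := Subgroup.mem_sup_of_normal_left.mp (hW hm)
    refine Subgroup.mul_mem_sup he (centralizer_gfitting_le_fitting (G := G) ?_)
    have hcF : c ∈ Subgroup.centralizer (Cfsg.fittingSubgroup G : Set G) := by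
      have := (Subgroup.centralizer (Cfsg.fittingSubgroup G : Set G)).mul_mem
        ((Subgroup.centralizer _).inv_mem (layer_le_centralizer_fitting he)) (hF hm)
      simpa using this
    have : Cfsg.generalizedFittingSubgroup G ≤ Subgroup.centralizer {c} := by
      refine sup_le ?_ ?_
      · intro y hy
        exact Subgroup.mem_centralizer_singleton_iff.mpr (Subgroup.mem_centralizer_iff.mp hc y hy)
      · intro y hy
        exact Subgroup.mem_centralizer_singleton_iff.mpr (Subgroup.mem_centralizer_iff.mp hcF y hy)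
    exact Subgroup.mem_centralizer_iff.mpr fun y hy =>
      Subgroup.mem_centralizer_singleton_iff.mp (this hy)
  set f := QuotientGroup.mk' (Cfsg.layer G)
  have h1 : M.map f = ⊥ := by
    refine eq_bot_of_perfect_of_solvable (by rw [← Subgroup.map_commutator, hM]) ?_
    have hn : Group.IsNilpotent ((Cfsg.fittingSubgroup G).map f) :=
      isNilpotent_map fittingSubgroup_isNilpotent f
    refine isSolvable_of_le (K := (Cfsg.fittingSubgroup G).map f) ?_ inferInstance
    refine (Subgroup.map_mono hle).trans (le_of_eq ?_)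
    rw [Subgroup.map_sup, QuotientGroup.map_mk'_self, bot_sup_eq]
  intro m hm
  exact (QuotientGroup.eq_one_iff m).mp (Subgroup.mem_bot.mp (h1 ▸ Subgroup.mem_map_of_mem f hm))

theorem pLayerIn_centralizer_le_centralizer_pCore [Finite G] [Fact p.Prime] {R : Subgroup G}
    (hR : IsPGroup p R) :
    pLayerIn p (Subgroup.centralizer (R : Set G)) ≤
      Subgroup.centralizer (Cfsg.pCore p G : Set G) := by
  set C := Subgroup.centralizer (R : Set G)
  refine perfect_le_of_coprime_elements (p := p) (pLayerIn_perfect C) fun y hy hyp => ?_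
  have hn := pCore_isNormal (p := p) (G := G)
  refine mem_centralizer_pCore hR hyp (pLayerIn_le C hy) fun u hu => ?_
  obtain ⟨w, hw, rfl⟩ := hy
  have hD : IsPGroup p ((Cfsg.pCore p G).subgroupOf C) := pCore_isPGroup.comap_subtype
  exact Subgroup.mem_centralizer_singleton_iff.mpr (congrArg Subtype.val
    (Subgroup.mem_centralizer_iff.mp (pLayer_le_centralizer_pGroup _ hD hw) ⟨u, hu.2⟩ hu.1))

/-- A `p`-group normalizing a component fixes, modulo the centre of the layer, a `p`-element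
supported exactly on the orbit of the component. -/
theorem exists_orbit_element [Finite G] [hp : Fact p.Prime] (hO : Cfsg.pPrimeCore p G = ⊥)
    {R : Subgroup G} (hR : IsPGroup p R) {J : Subgroup G} (hJ : Cfsg.IsComponent J) :
    ∃ e ∈ Cfsg.layer G, IsPGroup p (Subgroup.zpowers e) ∧
      (∀ r ∈ R, ⁅r, e⁆ ∈ Cfsg.layer G ⊓ Subgroup.centralizer (Cfsg.layer G : Set G)) ∧
      e ∉ Subgroup.centralizer (J : Set G) ∧
      ∀ J' : Subgroup G, Cfsg.IsComponent J' → e ∉ Subgroup.centralizer (J' : Set G) →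
        ∃ r ∈ R, MulAut.conj r • J = J' := by
  set F : Subgroup G := ⨆ r ∈ R, MulAut.conj r • J with hFdef
  have hle : ∀ r ∈ R, MulAut.conj r • J ≤ F := fun r hr =>
    le_iSup₂ (f := fun r (_ : r ∈ R) => MulAut.conj r • J) r hr
  have hFinv : ∀ r ∈ R, ∀ x ∈ F, r * x * r⁻¹ ∈ F := by
    intro r hr x hx
    have : F ≤ F.comap (MulAut.conj r).toMonoidHom := by
      refine iSup₂_le fun s hs => ?_
      rw [← Subgroup.map_le_iff_le_comap, map_conj_eq_smul, conj_smul_conj_smul]
      exact hle _ (R.mul_mem hr hs)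
    simpa using this hx
  have hJF : J ≤ F := by simpa using hle 1 R.one_mem
  have hFE : F ≤ Cfsg.layer G :=
    iSup₂_le fun r _ => IsComponent.le_layer (IsComponent.conj hJ r)
  obtain ⟨S, hS⟩ := hR.exists_le_sylow
  set P := (S : Subgroup G) ⊓ F
  set Z := P ⊓ Subgroup.centralizer (F : Set G)
  -- elements of `P` outside the centre
  have hPZ : ¬ P ≤ Z := by
    intro h
    have hSJ : ((S : Subgroup G).subgroupOf J) ≤ Subgroup.center J := by
      intro z hz
      refine Subgroup.mem_center_iff.mpr fun y => Subtype.ext ?_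
      exact Subgroup.mem_centralizer_iff.mp (h ⟨hz, hJF z.2⟩).2 y (hJF y.2)
    have h1 := component_dvd_index hO hJ _ hSJ
    exact not_dvd_relIndex_sylow S hJ.1 h1
  -- descending chain
  have hRS : ∀ r ∈ R, ∀ x ∈ P, ⁅x, r⁆ ∈ P := fun r hr x hx => by
    refine ⟨?_, ?_⟩
    · rw [commutatorElement_def]
      exact (S : Subgroup G).mul_mem ((S : Subgroup G).mul_mem
        ((S : Subgroup G).mul_mem hx.1 (hS hr)) ((S : Subgroup G).inv_mem hx.1))
        ((S : Subgroup G).inv_mem (hS hr))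
    · rw [commutatorElement_def, show x * r * x⁻¹ * r⁻¹ = x * (r * x⁻¹ * r⁻¹) by group]
      exact F.mul_mem hx.2 (hFinv r hr _ (F.inv_mem hx.2))
  have hchain : ∀ n : ℕ, (∀ x ∈ P, x ∈ (((⊤ : Subgroup (S : Subgroup G)).lowerCentralSeries n).map
      (S : Subgroup G).subtype) → x ∈ Z) → ∀ k ≤ n,
      (∀ x ∈ P, x ∈ (((⊤ : Subgroup (S : Subgroup G)).lowerCentralSeries k).map
        (S : Subgroup G).subtype) → x ∈ Z) ∨
      ∃ e ∈ P, e ∉ Z ∧ ∀ r ∈ R, ⁅e, r⁆ ∈ Z := by
    intro n hn
    have step : ∀ k, (∀ x ∈ P, x ∈ (((⊤ : Subgroup (S : Subgroup G)).lowerCentralSeries (k + 1)).map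
        (S : Subgroup G).subtype) → x ∈ Z) →
        (∀ x ∈ P, x ∈ (((⊤ : Subgroup (S : Subgroup G)).lowerCentralSeries k).map
          (S : Subgroup G).subtype) → x ∈ Z) ∨ ∃ e ∈ P, e ∉ Z ∧ ∀ r ∈ R, ⁅e, r⁆ ∈ Z := by
      intro k hk
      by_contra hcon
      push Not at hcon
      obtain ⟨⟨x, hx, hxk, hxZ⟩, hno⟩ := hcon
      obtain ⟨r, hr, hrZ⟩ := hno x hx hxZ
      refine hrZ (hk _ (hRS r hr x hx) ?_)
      rw [Subgroup.lowerCentralSeries_succ, Subgroup.map_commutator, ← MonoidHom.range_eq_map,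
        Subgroup.range_subtype]
      exact Subgroup.commutator_mem_commutator hxk (hS hr)
    intro k hk
    induction hk using Nat.decreasingInduction with
    | self => exact Or.inl hn
    | of_succ j hj ih => exact ih.elim (step j) Or.inr
  have := S.isPGroup'.isNilpotent
  obtain ⟨n, hn⟩ := (Subgroup.nilpotent_iff_lowerCentralSeries (G := ↥(S : Subgroup G))).mp this
  rcases hchain n (fun x _ hx => by
      rw [hn, Subgroup.map_bot, Subgroup.mem_bot] at hx
      rw [hx]; exact Z.one_mem) 0 (Nat.zero_le n) with h | ⟨e, heP, heZ, hcomm⟩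
  · exact absurd (fun x hx => h x hx (by
      rw [Subgroup.lowerCentralSeries_zero, ← MonoidHom.range_eq_map, Subgroup.range_subtype]
      exact hx.1)) hPZ
  have hFother : ∀ J', Cfsg.IsComponent J' → (¬ ∃ r ∈ R, MulAut.conj r • J = J') →
      F ≤ Subgroup.centralizer (J' : Set G) := fun J' hJ' hno =>
    iSup₂_le fun r hr => IsComponent.commute (IsComponent.conj hJ r) hJ' fun h => hno ⟨r, hr, h⟩
  have hZE : F ⊓ Subgroup.centralizer (F : Set G) ≤
      Subgroup.centralizer (Cfsg.layer G : Set G) := by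
    rw [Subgroup.le_centralizer_iff]
    refine sSup_le fun J' hJ' => ?_
    rw [Subgroup.le_centralizer_iff]
    by_cases hno : ∃ r ∈ R, MulAut.conj r • J = J'
    · obtain ⟨r, hr, rfl⟩ := hno
      exact inf_le_right.trans (Subgroup.centralizer_le (SetLike.coe_subset_coe.mpr (hle r hr)))
    · exact inf_le_left.trans (hFother J' hJ' hno)
  have hre : ∀ r ∈ R, ⁅r, e⁆ ∈ Cfsg.layer G ⊓ Subgroup.centralizer (Cfsg.layer G : Set G) := by
    intro r hr
    rw [← commutatorElement_inv]
    exact Subgroup.inv_mem _ ⟨hFE (hcomm r hr).1.2, hZE ⟨(hcomm r hr).1.2, (hcomm r hr).2⟩⟩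
  have hmove : ∀ r ∈ R, e ∈ Subgroup.centralizer (J : Set G) →
      e ∈ Subgroup.centralizer ((MulAut.conj r • J : Subgroup G) : Set G) := by
    intro r hr hc
    rw [Subgroup.mem_centralizer_iff]
    intro y hy
    have hy' : r⁻¹ * y * r ∈ J := mem_smul_conj.mp hy
    have h1 : Commute (r⁻¹ * y * r) e := Subgroup.mem_centralizer_iff.mp hc _ hy'
    have h2 : Commute y (r * e * r⁻¹) := by
      have := h1.map (MulAut.conj r).toMonoidHom
      simpa [mul_assoc] using this
    have h3 : Commute y ⁅r, e⁆ := Subgroup.mem_centralizer_iff.mp (hre r hr).2 y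
      (IsComponent.le_layer (IsComponent.conj hJ r) hy)
    have h4 := h3.inv_right.mul_right h2
    rw [show (⁅r, e⁆)⁻¹ * (r * e * r⁻¹) = e by rw [commutatorElement_def]; group] at h4
    exact h4.eq
  refine ⟨e, hFE heP.2, ?_, hre, ?_, fun J' hJ' hne => ?_⟩
  · exact S.isPGroup'.to_le (Subgroup.zpowers_le.mpr heP.1)
  · intro hc
    refine heZ ⟨heP, ?_⟩
    suffices h : F ≤ Subgroup.centralizer {e} from Subgroup.mem_centralizer_iff.mpr fun y hy =>
      Subgroup.mem_centralizer_singleton_iff.mp (h hy)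
    refine iSup₂_le fun r hr y hy => ?_
    exact Subgroup.mem_centralizer_singleton_iff.mpr
      (Subgroup.mem_centralizer_iff.mp (hmove r hr hc) y hy)
  · by_contra hno
    exact hne (hFother J' hJ' hno heP.2)

/-- A perfect group centralizing `R` and an orbit element normalizes the component. -/
theorem perfect_le_normalizer_component [Finite G] [hp : Fact p.Prime] {R : Subgroup G}
    (hR : IsPGroup p R) {J : Subgroup G} (hJ : Cfsg.IsComponent J) {e : G}
    (heJ : e ∉ Subgroup.centralizer (J : Set G))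
    (hsupp : ∀ J' : Subgroup G, Cfsg.IsComponent J' → e ∉ Subgroup.centralizer (J' : Set G) →
      ∃ r ∈ R, MulAut.conj r • J = J')
    {Z : Subgroup G} (hZ : ⁅Z, Z⁆ = Z) (hZe : Z ≤ Subgroup.centralizer {e})
    (hZR : Z ≤ Subgroup.centralizer (R : Set G)) :
    Z ≤ Subgroup.normalizer (J : Set G) := by
  have horb : ∀ z ∈ Z, ∃ r ∈ R, MulAut.conj r • J = MulAut.conj z • J := by
    intro z hz
    refine hsupp _ (IsComponent.conj hJ z) fun hc => heJ (Subgroup.mem_centralizer_iff.mpr fun y hy => ?_)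
    have he : Commute z e := Subgroup.mem_centralizer_singleton_iff.mp (hZe hz)
    have h1 : Commute (z * y * z⁻¹) e := Subgroup.mem_centralizer_iff.mp hc _ (by
      rw [SetLike.mem_coe, mem_smul_conj]; simpa [mul_assoc] using hy)
    have h2 := h1.map (MulAut.conj z⁻¹).toMonoidHom
    have h3 : z⁻¹ * e * z = e := by rw [mul_assoc, ← he.eq, inv_mul_cancel_left]
    simp only [MulEquiv.coe_toMonoidHom, MulAut.conj_apply, inv_inv] at h2
    rw [h3, show z⁻¹ * (z * y * z⁻¹) * z = y by group] at h2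
    exact h2.eq
  have hzr : ∀ z ∈ Z, ∀ r ∈ R, Commute r z := fun z hz r hr =>
    Subgroup.mem_centralizer_iff.mp (hZR hz) r hr
  set H : Subgroup Z := (Subgroup.normalizer (J : Set G)).subgroupOf Z
  have hpow : ∀ z ∈ Z, ∀ r ∈ R, MulAut.conj r • J = MulAut.conj z • J →
      ∀ n : ℕ, MulAut.conj (z ^ n) • J = MulAut.conj (r ^ n) • J := by
    intro z hz r hr he n
    induction n with
    | zero => simp
    | succ n ih =>
      rw [pow_succ z n, ← conj_smul_conj_smul, ← he, conj_smul_conj_smul,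
        ((hzr z hz r hr).pow_right n).symm.eq, ← conj_smul_conj_smul, ih, conj_smul_conj_smul,
        ← pow_succ']
  have hHn : H.Normal := by
    refine ⟨fun h hh z => ?_⟩
    obtain ⟨r, hr, hrz⟩ := horb _ (Z.inv_mem z.2)
    show ((z : G) * h * (z : G)⁻¹) ∈ Subgroup.normalizer (J : Set G)
    rw [mem_normalizer_iff_smul, ← conj_smul_conj_smul, ← hrz, conj_smul_conj_smul]
    have : Commute ((h : G)) r := (hzr h h.2 r hr).symm
    have hh' : MulAut.conj (h : G) • J = J := mem_normalizer_iff_smul.mp hh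
    rw [mul_assoc, this.eq, ← conj_smul_conj_smul, ← conj_smul_conj_smul,
      hh', hrz, conj_smul_conj_smul, mul_inv_cancel, map_one, one_smul]
  have hpg : IsPGroup p (Z ⧸ H) := by
    intro x
    obtain ⟨z, rfl⟩ := QuotientGroup.mk_surjective x
    obtain ⟨r, hr, hrz⟩ := horb z z.2
    obtain ⟨k, hk⟩ := hR ⟨r, hr⟩
    refine ⟨k, ?_⟩
    rw [← QuotientGroup.mk_pow, QuotientGroup.eq_one_iff]
    show (((z ^ p ^ k : Z)) : G) ∈ Subgroup.normalizer (J : Set G)
    rw [SubmonoidClass.coe_pow, mem_normalizer_iff_smul, hpow z z.2 r hr hrz,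
      show r ^ p ^ k = 1 by simpa using congrArg Subtype.val hk, map_one, one_smul]
  have hperf : Group.IsPerfect Z := Subgroup.isPerfect_iff.mpr hZ
  have hsub : Subsingleton (Z ⧸ H) := by
    by_contra hne
    rw [not_subsingleton_iff_nontrivial] at hne
    have := hpg.isNilpotent
    exact Group.IsPerfect.not_isSolvable (Z ⧸ H) inferInstance
  intro z hz
  have : (⟨z, hz⟩ : Z) ∈ H := by rw [QuotientGroup.subsingleton_iff.mp hsub]; trivial
  exact this

/-- Under the Schreier property a perfect group normalizing a component induces inner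
automorphisms on it. -/
theorem exists_inner_of_schreier [Finite G] {J Z : Subgroup G} (hJ : Cfsg.IsComponent J)
    (hS : Group.IsSolvable (Cfsg.Out (↥J ⧸ Subgroup.center ↥J))) (hZ : ⁅Z, Z⁆ = Z)
    (hZJ : Z ≤ Subgroup.normalizer (J : Set G)) {m : G} (hm : m ∈ Z) :
    ∃ j ∈ J, j⁻¹ * m ∈ Subgroup.centralizer (J : Set G) := by
  let toQ : MulAut J →* MulAut (↥J ⧸ Subgroup.center ↥J) :=
    { toFun := fun a => QuotientGroup.congr _ _ a
        (Subgroup.characteristic_iff_map_eq.mp inferInstance a)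
      map_one' := by
        ext x
        obtain ⟨y, rfl⟩ := QuotientGroup.mk_surjective x
        rfl
      map_mul' := fun a b => by
        ext x
        obtain ⟨y, rfl⟩ := QuotientGroup.mk_surjective x
        rfl }
  let φ : Z →* Cfsg.Out (↥J ⧸ Subgroup.center ↥J) :=
    (QuotientGroup.mk' _).comp (toQ.comp ((J.normalizerMonoidHom).comp (Subgroup.inclusion hZJ)))
  have hperf : Group.IsPerfect Z := Subgroup.isPerfect_iff.mpr hZ
  have htriv : φ.range = ⊥ := by
    refine eq_bot_of_perfect_of_solvable ?_ inferInstance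
    rw [MonoidHom.range_eq_map, ← Subgroup.map_commutator, ← commutator_def, hperf.commutator_eq_top]
  have h1 : φ ⟨m, hm⟩ = 1 := Subgroup.mem_bot.mp (htriv ▸ ⟨_, rfl⟩)
  obtain ⟨x, hx⟩ := (QuotientGroup.eq_one_iff _).mp h1
  obtain ⟨j, rfl⟩ := QuotientGroup.mk_surjective x
  refine ⟨j, j.2, ?_⟩
  set c : G := (j : G)⁻¹ * m with hc
  have hcn : c ∈ Subgroup.normalizer (J : Set G) :=
    Subgroup.mul_mem _ (Subgroup.inv_mem _ (Subgroup.le_normalizer j.2)) (hZJ hm)
  have hcy : ∀ y : J, ∃ z ∈ Subgroup.center J, c * y * c⁻¹ = ((y * z : J) : G) := by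
    intro y
    have h2 := DFunLike.congr_fun hx (QuotientGroup.mk y)
    have hmy : m * (y : G) * m⁻¹ ∈ J := (Subgroup.mem_normalizer_iff.mp (hZJ hm) y).mp y.2
    have h3 : (j * y * j⁻¹)⁻¹ * ⟨_, hmy⟩ ∈ Subgroup.center J := QuotientGroup.eq.mp h2
    refine ⟨j⁻¹ * ((j * y * j⁻¹)⁻¹ * ⟨_, hmy⟩) * j,
      by simpa using (inferInstance : (Subgroup.center J).Normal).conj_mem _ h3 j⁻¹, ?_⟩
    simp only [hc, Subgroup.coe_mul, Subgroup.coe_inv, mul_inv_rev, inv_inv, mul_assoc,
      inv_mul_cancel_left, mul_inv_cancel_left]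
  suffices h : ⁅J, J⁆ ≤ Subgroup.centralizer {c} by
    rw [IsComponent.perfect hJ] at h
    exact Subgroup.mem_centralizer_iff.mpr fun y hy =>
      Subgroup.mem_centralizer_singleton_iff.mp (h hy)
  rw [Subgroup.commutator_le]
  intro a ha b hb
  obtain ⟨za, hza, ea⟩ := hcy ⟨a, ha⟩
  obtain ⟨zb, hzb, eb⟩ := hcy ⟨b, hb⟩
  have e1 : c * ⁅a, b⁆ * c⁻¹ = ⁅a, b⁆ := by
    have e2 : ⁅(⟨a, ha⟩ : J) * za, ⟨b, hb⟩ * zb⁆ = ⁅(⟨a, ha⟩ : J), ⟨b, hb⟩⁆ := by
      have hza' := Subgroup.mem_center_iff.mp hza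
      have hzb' := Subgroup.mem_center_iff.mp hzb
      simp only [commutatorElement_def, mul_inv_rev, mul_assoc]
      rw [← mul_assoc za, (hza' _).symm, mul_assoc, ← mul_assoc za, (hza' _).symm, mul_assoc,
        mul_inv_cancel_left, ← mul_assoc zb, (hzb' _).symm, mul_assoc, mul_inv_cancel_left]
    calc c * ⁅a, b⁆ * c⁻¹ = ⁅c * a * c⁻¹, c * b * c⁻¹⁆ := by
          simp only [commutatorElement_def]; group
      _ = ((⁅(⟨a, ha⟩ : J) * za, ⟨b, hb⟩ * zb⁆ : J) : G) := by rw [ea, eb]; rfl
      _ = ⁅a, b⁆ := by rw [e2]; rfl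
  exact Subgroup.mem_centralizer_singleton_iff.mpr (mul_inv_eq_iff_eq_mul.mp e1).symm

/-- A perfect group inducing inner automorphisms on every component lies in `E(G) C_G(E(G))`. -/
theorem mem_layerCentralizer_of_inner [Finite G] {m : G}
    (h : ∀ J : Subgroup G, Cfsg.IsComponent J →
      ∃ j ∈ J, j⁻¹ * m ∈ Subgroup.centralizer (J : Set G)) : m ∈ layerCentralizer G := by
  classical
  obtain ⟨S, hS, hsup⟩ := components_finset (G := G)
  suffices key : ∀ T ⊆ S, ∃ e ∈ T.sup id, ∀ J ∈ T, e⁻¹ * m ∈ Subgroup.centralizer ((J : Subgroup G) : Set G) by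
    obtain ⟨e, he, hc⟩ := key S (Finset.Subset.refl S)
    rw [hsup] at he
    have hcE : e⁻¹ * m ∈ Subgroup.centralizer (Cfsg.layer G : Set G) := by
      suffices hle : Cfsg.layer G ≤ Subgroup.centralizer {e⁻¹ * m} from
        Subgroup.mem_centralizer_iff.mpr fun y hy => Subgroup.mem_centralizer_singleton_iff.mp (hle hy)
      rw [← hsup]
      refine Finset.sup_le fun J hJ y hy => ?_
      exact Subgroup.mem_centralizer_singleton_iff.mpr (Subgroup.mem_centralizer_iff.mp (hc J hJ) y hy)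
    simpa [layerCentralizer] using Subgroup.mul_mem_sup he hcE
  intro T hT
  induction T using Finset.induction_on with
  | empty => exact ⟨1, Subgroup.one_mem _, by simp⟩
  | insert J T hJT ih =>
    obtain ⟨e, he, hc⟩ := ih fun x hx => hT (Finset.mem_insert_of_mem hx)
    have hJc : Cfsg.IsComponent J := (hS J).mp (hT (Finset.mem_insert_self J T))
    obtain ⟨j, hj, hjm⟩ := h J hJc
    have hTJ : T.sup id ≤ Subgroup.centralizer (J : Set G) :=
      Finset.sup_le fun K hK => IsComponent.commute ((hS K).mp (hT (Finset.mem_insert_of_mem hK)))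
        hJc fun e => hJT (e ▸ hK)
    have hje : Commute j e := Subgroup.mem_centralizer_iff.mp (hTJ he) j hj
    refine ⟨e * j, ?_, fun K hK => ?_⟩
    · rw [Finset.sup_insert, sup_comm]
      exact Subgroup.mul_mem_sup he hj
    rcases Finset.mem_insert.mp hK with rfl | hK
    · rw [show (e * j)⁻¹ * m = e⁻¹ * (j⁻¹ * m) by
        rw [mul_inv_rev, hje.inv_inv.eq, mul_assoc]]
      exact Subgroup.mul_mem _ (Subgroup.inv_mem _ (hTJ he)) hjm
    · rw [mul_inv_rev, mul_assoc]
      exact Subgroup.mul_mem _ (Subgroup.inv_mem _ (IsComponent.commute hJc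
        ((hS K).mp (hT (Finset.mem_insert_of_mem hK))) (fun e => hJT (e ▸ hK)) hj)) (hc K hK)

/-- `p`-layer of the local subgroup in a core-free group with the Schreier property. -/
theorem pLayerIn_le_layer_of_schreier [Finite G] [hp : Fact p.Prime]
    (hO : Cfsg.pPrimeCore p G = ⊥)
    (hS : ∀ J : Subgroup G, Cfsg.IsComponent J → Group.IsSolvable (Cfsg.Out (↥J ⧸ Subgroup.center ↥J)))
    {R : Subgroup G} (hR : IsPGroup p R) :
    pLayerIn p (Subgroup.centralizer (R : Set G)) ≤ Cfsg.layer G := by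
  set Q := Cfsg.pCore p G
  have hQn : Q.Normal := pCore_isNormal
  set R' := R ⊔ Q
  have hR' : IsPGroup p R' := hR.to_sup_of_normal_right pCore_isPGroup
  have hMQ : pLayerIn p (Subgroup.centralizer (R : Set G)) ≤ Subgroup.centralizer (Q : Set G) :=
    pLayerIn_centralizer_le_centralizer_pCore hR
  have hFQ : Cfsg.fittingSubgroup G = Q := fitting_eq_pCore hO
  refine perfect_le_layer (pLayerIn_perfect _) ?_ (by rwa [hFQ])
  have hC' : Subgroup.centralizer (R' : Set G) ≤ Subgroup.centralizer (R : Set G) :=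
    Subgroup.centralizer_le (SetLike.coe_subset_coe.mpr le_sup_left)
  have hCeq : Subgroup.centralizer (R : Set G) ⊓ Subgroup.centralizer (Q : Set G) ≤
      Subgroup.centralizer (R' : Set G) := by
    intro y hy
    have : R' ≤ Subgroup.centralizer {y} := sup_le
      (fun r hr => Subgroup.mem_centralizer_singleton_iff.mpr (Subgroup.mem_centralizer_iff.mp hy.1 r hr))
      (fun r hr => Subgroup.mem_centralizer_singleton_iff.mpr (Subgroup.mem_centralizer_iff.mp hy.2 r hr))
    exact Subgroup.mem_centralizer_iff.mpr fun r hr => Subgroup.mem_centralizer_singleton_iff.mp (this hr)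
  refine (pLayerIn_le_of_le hC' ((le_inf (pLayerIn_le _) hMQ).trans hCeq)).trans ?_
  set N := Subgroup.normalizer (R' : Set G)
  have hCN : Subgroup.centralizer (R' : Set G) ≤ N := Subgroup.centralizer_le_normalizer _
  have hCn : ((Subgroup.centralizer (R' : Set G)).subgroupOf N).Normal := by
    rw [← Subgroup.normalizerMonoidHom_ker]; infer_instance
  refine (pLayerIn_mono hCN hCn.isSubnormal).trans ?_
  have hLN : pLayerIn p N ≤ Subgroup.centralizer (R' : Set G) := pLayerIn_normalizer_le_centralizer hR'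
  rw [pLayerIn, Subgroup.map_le_iff_le_comap]
  set D := (Cfsg.layer G).subgroupOf N
  obtain ⟨T⟩ : Nonempty (Sylow p D) := Sylow.nonempty
  refine pLayer_le_step (W := (layerCentralizer G).comap N.subtype) (D := D)
    (T := (T : Subgroup D).map D.subtype)
    (N := (Subgroup.centralizer (R' : Set G)).subgroupOf N)
    (fun y hy => Subgroup.mem_sup_left hy) (T.isPGroup'.map _) (Subgroup.map_subtype_le _)
    (fun y hy => hLN (Subgroup.mem_map_of_mem N.subtype hy)) ?_ ?_
  · -- the `p'`-core of `N` centralizes `R'`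
    have hn : (R'.subgroupOf N).Normal := Subgroup.normal_subgroupOf_of_le_normalizer le_rfl
    have hO' := pPrimeCore_isNormal (p := p) (G := N)
    intro y hy
    refine Subgroup.mem_centralizer_iff.mpr fun r hr => ?_
    obtain ⟨k, hk⟩ := IsPGroup.iff_card.mp (hR'.comap_subtype (K := N))
    have hdis : Disjoint (R'.subgroupOf N) (Cfsg.pPrimeCore p N) := disjoint_iff.mpr
      (inf_eq_bot_of_coprime (by rw [Subgroup.subgroupOf, hk]; exact pPrimeCore_coprime.symm.pow_left k))
    exact congrArg Subtype.val (Subgroup.commute_of_normal_of_disjoint _ _ hn hO' hdis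
      ⟨r, Subgroup.le_normalizer hr⟩ y hr hy)
  set C := Subgroup.centralizer (((T : Subgroup D).map D.subtype : Subgroup N) : Set N) ⊓
    (Subgroup.centralizer (R' : Set G)).subgroupOf N with hCdef
  set Z := ((Cfsg.pLayer p C).map C.subtype).map N.subtype
  have hZ : ⁅Z, Z⁆ = Z := by
    rw [← Subgroup.map_commutator, ← Subgroup.map_commutator, pLayer_perfect]
  have hZR : Z ≤ Subgroup.centralizer (R' : Set G) := by
    rintro _ ⟨_, ⟨w, -, rfl⟩, rfl⟩
    exact w.2.2
  intro y hy
  refine mem_layerCentralizer_of_inner fun J hJ =>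
    exists_inner_of_schreier hJ (hS J hJ) hZ ?_ ⟨y, hy, rfl⟩
  obtain ⟨e, heE, hep, her, heJ, hsupp⟩ := exists_orbit_element hO hR' hJ
  have heN : e ∈ N := by
    rw [mem_normalizer_iff_smul]
    refine Subgroup.eq_of_le_of_card_ge ?_ (card_conj_smul _ _).ge
    intro x hx
    have h1 := mem_smul_conj.mp hx
    have h2 : ⁅(e⁻¹ * x * e), e⁆ ∈ Q := by
      obtain ⟨hE', hcE⟩ := her _ h1
      rw [← hFQ]
      exact layer_center_le_fitting ⟨hE', hcE⟩
    have h3 : x = (⁅(e⁻¹ * x * e), e⁆)⁻¹ * (e⁻¹ * x * e) := by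
      rw [commutatorElement_def]; group
    rw [h3]
    exact R'.mul_mem (R'.inv_mem (Subgroup.mem_sup_right h2)) h1
  -- a conjugate of `e` by an element of `D` lies in `T`
  have heD : (⟨⟨e, heN⟩, heE⟩ : D) ∈ (⊤ : Subgroup D) := trivial
  have hpD : IsPGroup p (Subgroup.zpowers (⟨⟨e, heN⟩, heE⟩ : D)) := by
    refine IsPGroup.of_injective hep (((N.subtype.comp D.subtype).comp
      (Subgroup.zpowers (⟨⟨e, heN⟩, heE⟩ : D)).subtype).codRestrict (Subgroup.zpowers e) fun u => by
        obtain ⟨n, hn⟩ := u.2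
        exact ⟨n, by simp [← hn]⟩) (fun u v huv => Subtype.ext (Subtype.ext (Subtype.ext
          (congrArg Subtype.val huv :))))
  obtain ⟨T', hT'⟩ := hpD.exists_le_sylow
  obtain ⟨d, hd⟩ := MulAction.exists_smul_eq D T' T
  set d' : G := ((d : N) : G) with hd'
  set e' : G := d' * e * d'⁻¹ with he'
  have hd'E : d' ∈ Cfsg.layer G := d.2
  have hnorm : ∀ J' : Subgroup G, Cfsg.IsComponent J' → d' ∈ Subgroup.normalizer (J' : Set G) := by
    intro J' hJ'
    refine (sSup_le fun K hK => ?_ : Cfsg.layer G ≤ Subgroup.normalizer (J' : Set G)) hd'E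
    rcases eq_or_ne K J' with e | e
    · exact e ▸ Subgroup.le_normalizer
    · exact (IsComponent.commute hK hJ' e).trans (Subgroup.centralizer_le_normalizer _)
  have hiff : ∀ J' : Subgroup G, Cfsg.IsComponent J' →
      (e' ∈ Subgroup.centralizer (J' : Set G) ↔ e ∈ Subgroup.centralizer (J' : Set G)) := by
    intro J' hJ'
    have hn := Subgroup.mem_normalizer_iff.mp (hnorm J' hJ')
    constructor <;> intro h <;> rw [Subgroup.mem_centralizer_iff] at h ⊢ <;> intro w hw
    · have h1 := h _ ((hn w).mp hw)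
      rw [he', show d' * w * d'⁻¹ * (d' * e * d'⁻¹) = d' * (w * e) * d'⁻¹ by group,
        show d' * e * d'⁻¹ * (d' * w * d'⁻¹) = d' * (e * w) * d'⁻¹ by group] at h1
      exact mul_left_cancel (mul_right_cancel h1)
    · have h1 := h (d'⁻¹ * w * d') ((hn _).mpr (by simpa [mul_assoc] using hw))
      calc w * e' = d' * ((d'⁻¹ * w * d') * e) * d'⁻¹ := by rw [he']; group
        _ = d' * (e * (d'⁻¹ * w * d')) * d'⁻¹ := by rw [h1]
        _ = e' * w := by rw [he']; group
  have he'T : ((⟨⟨e', N.mul_mem (N.mul_mem d.1.2 heN) (N.inv_mem d.1.2)⟩,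
      (Cfsg.layer G).mul_mem ((Cfsg.layer G).mul_mem hd'E heE) ((Cfsg.layer G).inv_mem hd'E)⟩ : D))
      ∈ (T : Subgroup D) := by
    rw [← hd]
    exact Subgroup.smul_mem_pointwise_smul _ (MulAut.conj d) _ (hT' (Subgroup.mem_zpowers _))
  refine perfect_le_normalizer_component hR' hJ (e := e') (fun h => heJ ((hiff J hJ).mp h))
    (fun J' hJ' h => hsupp J' hJ' fun h' => h ((hiff J' hJ').mpr h')) hZ ?_ hZR
  rintro _ ⟨_, ⟨w, -, rfl⟩, rfl⟩
  refine Subgroup.mem_centralizer_singleton_iff.mpr (congrArg Subtype.val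
    (Subgroup.mem_centralizer_iff.mp w.2.1 _ ⟨_, he'T, rfl⟩)).symm

end Cfsg.Agent.Grp
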