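import Mathlib
import Cfsg.Agent.Lib.Grp.Solvable
import Cfsg.Agent.Lib.Grp.Coprime

/-!
Solvable primitive permutation groups.
-/

namespace Cfsg.Agent.Grp

open scoped Pointwise
open Subgroup

variable {G : Type*} [Group G] [Finite G] [Group.IsSolvable G] {Ω : Type*} [MulAction G Ω]
  [FaithfulSMul G Ω]

omit [Finite G] [Group.IsSolvable G] in
theorem normal_le_stabilizer_eq_bot (hprim : MulAction.IsPreprimitive G Ω) (K : Subgroup G)
    [K.Normal] (ω : Ω) (h : K ≤ MulAction.stabilizer G ω) : K = ⊥ := by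
  refine (Subgroup.eq_bot_iff_forall K).mpr fun x hx => FaithfulSMul.eq_of_smul_eq_smul fun α : Ω => ?_
  obtain ⟨g, rfl⟩ := MulAction.exists_smul_eq G ω α
  have : g⁻¹ * x * g ∈ MulAction.stabilizer G ω := h (by simpa using Normal.conj_mem inferInstance x hx g⁻¹)
  rw [MulAction.mem_stabilizer_iff, mul_smul, mul_smul, inv_smul_eq_iff] at this
  rw [one_smul, this]

theorem solvable_primitive (hprim : MulAction.IsPreprimitive G Ω) (M : Subgroup G) [M.Normal]
    (hM : M ≠ ⊥) (hmin : ∀ K : Subgroup G, K.Normal → K ≤ M → K = ⊥ ∨ K = M) (ω : Ω) :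
    M ⊓ MulAction.stabilizer G ω = ⊥ ∧ M ⊔ MulAction.stabilizer G ω = ⊤ ∧
      MulAction.IsPretransitive M Ω ∧
      MulAction.stabilizer G ω ⊓ Subgroup.centralizer (M : Set G) = ⊥ ∧
      ∀ K : Subgroup G, K ≤ M → MulAction.stabilizer G ω ≤ Subgroup.normalizer (K : Set G) →
        K = ⊥ ∨ K = M := by
  set H := MulAction.stabilizer G ω with hH
  have hne : Nontrivial Ω := by
    by_contra h
    rw [not_nontrivial_iff_subsingleton] at h
    exact hM (normal_le_stabilizer_eq_bot hprim M ω fun x _ => Subsingleton.elim _ _)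
  have := hprim
  have hco : IsCoatom H := MulAction.IsPreprimitive.isCoatom_stabilizer_of_isPreprimitive G ω
  have hMH : ¬ M ≤ H := fun h => hM (normal_le_stabilizer_eq_bot hprim M ω h)
  have htop : H ⊔ M = ⊤ :=
    hco.2 _ (lt_of_le_of_ne le_sup_left fun e => hMH (e ▸ le_sup_right))
  obtain ⟨hab, -⟩ := minimal_normal_solvable inferInstance hM hmin
  have hMc : ∀ K : Subgroup G, K ≤ M → M ≤ Subgroup.normalizer (K : Set G) := fun K hK m hm =>
    Subgroup.centralizer_le_normalizer _ (Subgroup.mem_centralizer_iff.mpr fun y hy =>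
      congrArg Subtype.val (mul_comm' (⟨y, hK hy⟩ : M) ⟨m, hm⟩))
  have hnorm : ∀ K : Subgroup G, K ≤ M → H ≤ Subgroup.normalizer (K : Set G) → K.Normal :=
    fun K hK hn => Subgroup.normalizer_eq_top_iff.mp
      (top_unique (htop.ge.trans (sup_le hn (hMc K hK))))
  have hHn : ∀ (N : Subgroup G), N.Normal → H ≤ Subgroup.normalizer ((N ⊓ H : Subgroup G) : Set G) := by
    intro N hN h hh
    rw [mem_normalizer_iff_smul, Subgroup.smul_inf, conj_smul_eq_self_of_mem hh,
      normalizer_le_smul (le_top.trans (Subgroup.normalizer_eq_top (H := N)).ge) (Subgroup.mem_top h)]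
  have h1 : M ⊓ H = ⊥ := by
    have := hnorm _ inf_le_left (hHn M inferInstance)
    exact normal_le_stabilizer_eq_bot hprim _ ω inf_le_right
  refine ⟨h1, by rw [sup_comm, htop], ⟨fun a b => ?_⟩, ?_, fun K hK hn => hmin K (hnorm K hK hn) hK⟩
  · have key : ∀ α : Ω, ∃ m : M, m • ω = α := by
      intro α
      obtain ⟨g, rfl⟩ := MulAction.exists_smul_eq G ω α
      obtain ⟨m, hm, h, hh, rfl⟩ := Subgroup.mem_sup_of_normal_left.mp
        (show g ∈ M ⊔ H by rw [sup_comm, htop]; trivial)
      refine ⟨⟨m, hm⟩, ?_⟩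
      show m • ω = (m * h) • ω
      rw [mul_smul, MulAction.mem_stabilizer_iff.mp hh]
    obtain ⟨x, rfl⟩ := key a
    obtain ⟨y, rfl⟩ := key b
    exact ⟨y * x⁻¹, by rw [mul_smul, inv_smul_smul]⟩
  · have : (H ⊓ Subgroup.centralizer (M : Set G)).Normal := by
      refine Subgroup.normalizer_eq_top_iff.mp (top_unique (htop.ge.trans (sup_le ?_ ?_)))
      · rw [inf_comm]; exact hHn _ inferInstance
      · exact fun m hm => Subgroup.centralizer_le_normalizer _
          (Subgroup.mem_centralizer_iff.mpr fun y hy =>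
            (Subgroup.mem_centralizer_iff.mp hy.2 m hm).symm)
    exact normal_le_stabilizer_eq_bot hprim _ ω inf_le_left

end Cfsg.Agent.Grp
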