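import Mathlib

/-!
Kreknin's theorem and Higman's class bound for Lie rings graded by `ZMod p` with trivial zero
component, in terms of graded families of additive subgroups.
-/

set_option autoImplicit false

namespace Cfsg.Agent.Kreknin

variable {A : Type*} [LieRing A] {p : ℕ}

theorem closure_lie_left {S : Set A} {B : AddSubgroup A} {g : A} (h : ∀ z ∈ S, ⁅z, g⁆ ∈ B) :
    ∀ u ∈ AddSubgroup.closure S, ⁅u, g⁆ ∈ B := by
  intro u hu
  induction hu using AddSubgroup.closure_induction with
  | mem z hz => exact h z hz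
  | zero => simp
  | add a b _ _ ha hb => rw [add_lie]; exact add_mem ha hb
  | neg a _ ha => rw [neg_lie]; exact neg_mem ha

theorem closure_lie_right {S : Set A} {B : AddSubgroup A} {g : A} (h : ∀ z ∈ S, ⁅g, z⁆ ∈ B) :
    ∀ u ∈ AddSubgroup.closure S, ⁅g, u⁆ ∈ B := by
  intro u hu
  induction hu using AddSubgroup.closure_induction with
  | mem z hz => exact h z hz
  | zero => simp
  | add a b _ _ ha hb => rw [lie_add]; exact add_mem ha hb
  | neg a _ ha => rw [lie_neg]; exact neg_mem ha

/-- The graded product. -/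
def gbrk (F K : ZMod p → AddSubgroup A) (k : ZMod p) : AddSubgroup A :=
  AddSubgroup.closure {z | ∃ a b, a + b = k ∧ ∃ x ∈ F a, ∃ y ∈ K b, ⁅x, y⁆ = z}

theorem lie_mem_gbrk {F K : ZMod p → AddSubgroup A} {a b : ZMod p} {x y : A} (hx : x ∈ F a)
    (hy : y ∈ K b) : ⁅x, y⁆ ∈ gbrk F K (a + b) :=
  AddSubgroup.subset_closure ⟨a, b, rfl, x, hx, y, hy, rfl⟩

theorem gbrk_le {F K : ZMod p → AddSubgroup A} {k : ZMod p} {Z : AddSubgroup A}
    (h : ∀ a b, a + b = k → ∀ x ∈ F a, ∀ y ∈ K b, ⁅x, y⁆ ∈ Z) : gbrk F K k ≤ Z :=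
  (AddSubgroup.closure_le _).mpr fun _ ⟨a, b, hab, x, hx, y, hy, e⟩ => e ▸ h a b hab x hx y hy

/-- Closed families. -/
def Closed (F : ZMod p → AddSubgroup A) : Prop :=
  ∀ a b, ∀ x ∈ F a, ∀ y ∈ F b, ⁅x, y⁆ ∈ F (a + b)

/-- The graded derived series. -/
def gder (F : ZMod p → AddSubgroup A) : ℕ → ZMod p → AddSubgroup A
  | 0 => F
  | n + 1 => gbrk (gder F n) (gder F n)

theorem gder_gder (F : ZMod p → AddSubgroup A) (m n : ℕ) : gder (gder F m) n = gder F (m + n) := by
  induction n with
  | zero => rfl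
  | succ n ih => rw [← add_assoc, gder, gder, ih]

theorem gder_succ_le {F : ZMod p → AddSubgroup A} (hF : Closed F) :
    ∀ n k, gder F (n + 1) k ≤ gder F n k := by
  intro n
  induction n with
  | zero => exact fun k => gbrk_le fun a b hab x hx y hy => hab ▸ hF a b x hx y hy
  | succ n ih => exact fun k => gbrk_le fun a b hab x hx y hy =>
      hab ▸ lie_mem_gbrk (ih a hx) (ih b hy)

theorem gder_closed {F : ZMod p → AddSubgroup A} (hF : Closed F) (n : ℕ) : Closed (gder F n) :=
  fun a b _ hx _ hy => gder_succ_le hF n (a + b) (lie_mem_gbrk hx hy)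

theorem gder_le {F : ZMod p → AddSubgroup A} (hF : Closed F) : ∀ n k, gder F n k ≤ F k
  | 0, _ => le_rfl
  | n + 1, k => (gder_succ_le hF n k).trans (gder_le hF n k)

/-- The family generated by the components of representative above `s`. -/
inductive Gen (F : ZMod p → AddSubgroup A) (s : ℕ) : ZMod p → A → Prop
  | of {k : ZMod p} {x : A} : s < k.val → x ∈ F k → Gen F s k x
  | zero {k : ZMod p} : Gen F s k 0
  | add {k : ZMod p} {x y : A} : Gen F s k x → Gen F s k y → Gen F s k (x + y)
  | neg {k : ZMod p} {x : A} : Gen F s k x → Gen F s k (-x)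
  | lie {a b : ZMod p} {x y : A} : Gen F s a x → Gen F s b y → Gen F s (a + b) ⁅x, y⁆

/-- `Gen` as a family. -/
def gen (F : ZMod p → AddSubgroup A) (s : ℕ) (k : ZMod p) : AddSubgroup A where
  carrier := {x | Gen F s k x}
  zero_mem' := Gen.zero
  add_mem' := Gen.add
  neg_mem' := Gen.neg

theorem gen_le {F K : ZMod p → AddSubgroup A} {s : ℕ} (h : ∀ k, s < k.val → F k ≤ K k)
    (hK : Closed K) : ∀ k, gen F s k ≤ K k := by
  intro k x (hx : Gen F s k x)
  induction hx with
  | of h1 h2 => exact h _ h1 h2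
  | zero => exact zero_mem _
  | add _ _ h1 h2 => exact add_mem h1 h2
  | neg _ h1 => exact neg_mem h1
  | lie _ _ h1 h2 => exact hK _ _ _ h1 _ h2

/-- Left-normed products of generators. -/
inductive Mono (F : ZMod p → AddSubgroup A) (s : ℕ) : ZMod p → A → Prop
  | of {k : ZMod p} {x : A} : s < k.val → x ∈ F k → Mono F s k x
  | lie {e d : ZMod p} {u g : A} : Mono F s e u → s < d.val → g ∈ F d → Mono F s (e + d) ⁅u, g⁆

theorem Mono.mem {F : ZMod p → AddSubgroup A} (hF : Closed F) {s : ℕ} {k : ZMod p} {x : A}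
    (h : Mono F s k x) : x ∈ F k := by
  induction h with
  | of _ h => exact h
  | lie _ _ hg ih => exact hF _ _ _ ih _ hg

/-- Products of a monomial and a generator. -/
def mono2 (F : ZMod p → AddSubgroup A) (s : ℕ) (k : ZMod p) : AddSubgroup A :=
  AddSubgroup.closure
    {z | ∃ e d u g, e + d = k ∧ Mono F s e u ∧ s < d.val ∧ g ∈ F d ∧ ⁅u, g⁆ = z}

theorem mono2_le (F : ZMod p → AddSubgroup A) (s : ℕ) (k : ZMod p) :
    mono2 F s k ≤ AddSubgroup.closure {z | Mono F s k z} :=
  (AddSubgroup.closure_le _).mpr fun _ ⟨_, _, _, _, he, hu, hd, hg, e⟩ =>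
    AddSubgroup.subset_closure (e ▸ he ▸ Mono.lie hu hd hg)

theorem lie_mono_mem {F : ZMod p → AddSubgroup A} {s : ℕ} {b : ZMod p} {v : A} (hv : Mono F s b v) :
    ∀ a, ∀ u ∈ AddSubgroup.closure {z | Mono F s a z}, ⁅u, v⁆ ∈ mono2 F s (a + b) := by
  induction hv with
  | @of b g hb hg =>
    intro a
    exact closure_lie_left fun z hz => AddSubgroup.subset_closure ⟨a, b, z, g, rfl, hz, hb, hg, rfl⟩
  | @lie e d w g hw hd hg ih =>
    intro a u hu
    rw [leibniz_lie u w g, ← lie_skew w ⁅u, g⁆]
    refine add_mem ?_ (neg_mem ?_)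
    · refine closure_lie_left (S := {z | Mono F s (a + e) z}) (fun z hz =>
        AddSubgroup.subset_closure ?_) _ (mono2_le F s _ (ih a u hu))
      exact ⟨a + e, d, z, g, by rw [add_assoc], hz, hd, hg, rfl⟩
    · have h1 : ⁅u, g⁆ ∈ AddSubgroup.closure {z | Mono F s (a + d) z} :=
        closure_lie_left (fun z hz => AddSubgroup.subset_closure (Mono.lie hz hd hg)) u hu
      have h2 := ih (a + d) _ h1
      rwa [show a + d + e = a + (e + d) by abel] at h2

theorem gen_le_mono (F : ZMod p → AddSubgroup A) (s : ℕ) (k : ZMod p) :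
    gen F s k ≤ AddSubgroup.closure {z | Mono F s k z} := by
  refine gen_le (K := fun k => AddSubgroup.closure {z | Mono F s k z})
    (fun k hk x hx => AddSubgroup.subset_closure (Mono.of hk hx)) ?_ k
  exact fun a b x hx => closure_lie_right fun z hz => mono2_le F s _ (lie_mono_mem hz a x hx)

variable {H : ZMod p → AddSubgroup A}

/-- Kreknin: high derived terms are generated by high components. -/
theorem gder_le_gen [hp : Fact p.Prime] (h0 : H 0 = ⊥) :
    ∀ s, s ≤ p - 1 → ∀ F : ZMod p → AddSubgroup A, Closed F → (∀ k, F k ≤ H k) →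
      ∀ k, gder F (2 ^ s - 1) k ≤ gen F s k := by
  intro s
  induction s with
  | zero =>
    intro _ F _ hFH k x hx
    by_cases hk : k = 0
    · have h1 : x ∈ H k := hFH k hx
      rw [hk, h0, AddSubgroup.mem_bot] at h1
      rw [h1]; exact Gen.zero
    · exact Gen.of (Nat.pos_of_ne_zero fun h => hk ((ZMod.val_eq_zero k).mp h)) hx
  | succ s ih =>
    intro hs F hF hFH k
    set n := 2 ^ s - 1
    have hn : 2 ^ (s + 1) - 1 = (n + 1) + n := by
      have := Nat.one_le_two_pow (n := s)
      simp only [n, pow_succ]; omega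
    rw [hn, ← gder_gder]
    have hK : ∀ k, s < k.val → gder F (n + 1) k ≤ gen F (s + 1) k := by
      intro k hk
      rcases Nat.lt_or_ge (s + 1) k.val with hlt | hge
      · exact fun x hx => Gen.of hlt (gder_le hF (n + 1) k hx)
      have hkv : k.val = s + 1 := by omega
      refine gbrk_le fun a b hab x hx y hy => ?_
      subst hab
      have hx' := gen_le_mono F s a (ih (by omega) F hF hFH a hx)
      have hy' := gen_le_mono F s b (ih (by omega) F hF hFH b hy)
      have h1 : ⁅x, y⁆ ∈ mono2 F s (a + b) :=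
        closure_lie_right (fun z hz => lie_mono_mem hz a x hx') y hy'
      revert h1
      refine fun h1 => (AddSubgroup.closure_le _).mpr ?_ h1
      rintro _ ⟨e, d, u, g, hed, hu, hd, hg, rfl⟩
      rw [← hed] at hkv ⊢
      rcases Nat.lt_or_ge (s + 1) d.val with hdl | hdg
      · refine Gen.lie (Gen.of ?_ (hu.mem hF)) (Gen.of hdl hg)
        have h1 : d.val < p := ZMod.val_lt d
        have he : e = ((e + d).val + (p - d.val) : ℕ) := by
          rw [Nat.cast_add, Nat.cast_sub h1.le, ZMod.natCast_self, ZMod.natCast_val, ZMod.natCast_val,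
            ZMod.cast_id, ZMod.cast_id]
          abel
        rw [he, hkv, ZMod.val_natCast, Nat.mod_eq_of_lt (by omega)]
        omega
      · have hde : d = e + d := ZMod.val_injective p (by omega)
        have he0 : e = 0 := by simpa using hde
        have h1 : u ∈ H e := hFH e (hu.mem hF)
        rw [he0, h0, AddSubgroup.mem_bot] at h1
        rw [h1, zero_lie]
        exact zero_mem _
    refine (ih (by omega) (gder F (n + 1)) (gder_closed hF _)
      (fun k => (gder_le hF _ k).trans (hFH k)) k).trans ?_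
    exact gen_le hK (fun a b x hx y hy => Gen.lie hx hy) k

/-- Kreknin's theorem. -/
theorem gder_eq_bot [hp : Fact p.Prime] (h0 : H 0 = ⊥) (hH : Closed H) (k : ZMod p) :
    gder H (2 ^ (p - 1) - 1) k = ⊥ := by
  refine le_bot_iff.mp ((gder_le_gen h0 (p - 1) le_rfl H hH (fun _ => le_rfl) k).trans ?_)
  refine gen_le (K := fun _ => ⊥) (fun k hk => ?_) ?_ k
  · have := ZMod.val_lt k; omega
  · intro a b x hx y hy
    rw [AddSubgroup.mem_bot] at hx ⊢
    simp [hx]

/-! ### The class bound -/

/-- The graded lower central series. -/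
def glw (H : ZMod p → AddSubgroup A) : ℕ → ZMod p → AddSubgroup A
  | 0 => H
  | n + 1 => gbrk (glw H n) H

theorem glw_succ_le (hH : Closed H) : ∀ n k, glw H (n + 1) k ≤ glw H n k := by
  intro n
  induction n with
  | zero => exact fun k => gbrk_le fun a b hab x hx y hy => hab ▸ hH a b x hx y hy
  | succ n ih => exact fun k => gbrk_le fun a b hab x hx y hy => hab ▸ lie_mem_gbrk (ih a hx) hy

theorem glw_antitone (hH : Closed H) {m n : ℕ} (h : m ≤ n) (k : ZMod p) :
    glw H n k ≤ glw H m k := by
  induction h with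
  | refl => exact le_rfl
  | step _ ih => exact (glw_succ_le hH _ k).trans ih

theorem glw_bracket : ∀ j i : ℕ, ∀ a b : ZMod p, ∀ x ∈ glw H i a, ∀ y ∈ glw H j b,
    ⁅x, y⁆ ∈ glw H (i + j + 1) (a + b) := by
  intro j
  induction j with
  | zero => exact fun i a b x hx y hy => lie_mem_gbrk hx hy
  | succ j ih =>
    intro i a b x hx
    refine closure_lie_right ?_
    rintro _ ⟨c, d, rfl, u, hu, v, hv, rfl⟩
    rw [leibniz_lie x u v, ← lie_skew u ⁅x, v⁆]
    refine add_mem ?_ (neg_mem ?_)
    · have h1 := lie_mem_gbrk (K := H) (ih i a c x hx u hu) hv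
      rw [show i + (j + 1) + 1 = (i + j + 1) + 1 by omega, ← add_assoc a c d]
      exact h1
    · have h1 := ih (i + 1) (a + d) c ⁅x, v⁆ (lie_mem_gbrk hx hv) u hu
      rw [show i + (j + 1) + 1 = i + 1 + j + 1 by omega, show a + (c + d) = a + d + c by abel]
      exact h1

theorem gder_ideal (hH : Closed H) : ∀ n : ℕ, ∀ a b : ZMod p, ∀ x ∈ gder H n a, ∀ y ∈ H b,
    ⁅x, y⁆ ∈ gder H n (a + b) := by
  intro n
  induction n with
  | zero => exact hH
  | succ n ih =>
    intro a b x hx y hy
    refine closure_lie_left ?_ x hx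
    rintro _ ⟨c, d, rfl, u, hu, v, hv, rfl⟩
    rw [lie_lie u v y]
    refine sub_mem ?_ ?_
    · rw [add_assoc]; exact lie_mem_gbrk hu (ih d b v hv y hy)
    · rw [show c + d + b = d + (c + b) by abel]
      exact lie_mem_gbrk hv (ih c b u hu y hy)

/-- The value of `m` under a list of operators: weights, degrees, elements. -/
def act (m : A) : List (ℕ × ZMod p × A) → A
  | [] => m
  | (_, _, x) :: l => act ⁅m, x⁆ l

theorem act_append (m : A) (l₁ l₂ : List (ℕ × ZMod p × A)) :
    act m (l₁ ++ l₂) = act (act m l₁) l₂ := by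
  induction l₁ generalizing m with
  | nil => rfl
  | cons t l ih => obtain ⟨w, e, x⟩ := t; simp [act, ih]

theorem act_sub (m m' : A) (l : List (ℕ × ZMod p × A)) : act (m - m') l = act m l - act m' l := by
  induction l generalizing m m' with
  | nil => rfl
  | cons t l ih => obtain ⟨w, e, x⟩ := t; simp [act, sub_lie, ih]

theorem act_zero (l : List (ℕ × ZMod p × A)) : act (0 : A) l = 0 := by
  induction l with
  | nil => rfl
  | cons t l ih => obtain ⟨w, e, x⟩ := t; simp [act, ih]

theorem exists_subperm_sum [hp : Fact p.Prime] (t : ZMod p) :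
    ∀ l : List (ZMod p), (∀ e ∈ l, e ≠ 0) → p - 1 ≤ l.length → ∃ l' : List (ZMod p), l'.Sublist l ∧ l'.sum = t := by
  classical
  intro l hl hlen
  suffices key : ∀ l : List (ZMod p), (∀ e ∈ l, e ≠ 0) →
      min p (l.length + 1) ≤ ((Finset.univ : Finset (ZMod p)).filter
        fun t => ∃ l' : List (ZMod p), l'.Sublist l ∧ l'.sum = t).card by
    have h1 := key l hl
    have hp' := hp.out.one_lt
    have h2 : ((Finset.univ : Finset (ZMod p)).filter
        fun t => ∃ l' : List (ZMod p), l'.Sublist l ∧ l'.sum = t) = Finset.univ :=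
      Finset.eq_univ_of_card _ (le_antisymm (Finset.card_le_univ _) (by rw [ZMod.card]; omega))
    have := h2 ▸ Finset.mem_univ t
    simpa using this
  intro l
  induction l with
  | nil =>
    intro _
    refine (min_le_right _ _).trans ?_
    exact Finset.card_pos.mpr ⟨0, by simp⟩
  | cons e l ih =>
    intro hl
    have hih := ih fun x hx => hl x (List.mem_cons_of_mem _ hx)
    set S := (Finset.univ : Finset (ZMod p)).filter fun t => ∃ l' : List (ZMod p), l'.Sublist l ∧ l'.sum = t
    set T := (Finset.univ : Finset (ZMod p)).filter fun t => ∃ l' : List (ZMod p), l'.Sublist (e :: l) ∧ l'.sum = t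
    have hST : S ⊆ T := fun t ht => by
      obtain ⟨-, l', hl', hs⟩ := Finset.mem_filter.mp ht
      exact Finset.mem_filter.mpr ⟨Finset.mem_univ _, l', hl'.trans (List.sublist_cons_self e l), hs⟩
    have hSe : ∀ t ∈ S, e + t ∈ T := fun t ht => by
      obtain ⟨-, l', hl', hs⟩ := Finset.mem_filter.mp ht
      exact Finset.mem_filter.mpr ⟨Finset.mem_univ _, e :: l', hl'.cons_cons e, by simp [hs]⟩
    by_cases hex : ∀ t ∈ S, e + t ∈ S
    · have hall : S = Finset.univ := by
        refine Finset.eq_univ_of_forall fun t => ?_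
        have h0 : (0 : ZMod p) ∈ S := Finset.mem_filter.mpr ⟨Finset.mem_univ _, [], List.nil_sublist l, rfl⟩
        have hn : ∀ n : ℕ, (n : ZMod p) * e ∈ S := by
          intro n
          induction n with
          | zero => simpa using h0
          | succ n ihn => rw [Nat.cast_succ, add_one_mul, add_comm]; exact hex _ ihn
        have := hn (t * e⁻¹).val
        rwa [ZMod.natCast_val, ZMod.cast_id, mul_assoc, inv_mul_cancel₀ (hl e List.mem_cons_self),
          mul_one] at this
      refine le_trans ?_ (Finset.card_le_card hST)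
      rw [hall, Finset.card_univ, ZMod.card]
      exact min_le_left _ _
    · push Not at hex
      obtain ⟨t, ht, htS⟩ := hex
      have : S.card + 1 ≤ T.card := by
        rw [← Finset.card_insert_of_notMem htS]
        exact Finset.card_le_card (Finset.insert_subset (hSe t ht) hST)
      simp only [List.length_cons]; omega

/-- Higman: one step of the class bound. -/
theorem glw_le_gder_succ [hp : Fact p.Prime] (h0 : H 0 = ⊥) (hH : Closed H) {c d : ℕ}
    (hc : ∀ k, glw H c k ≤ gder H d k) :
    ∀ k, glw H ((p - 1) * c + 1) k ≤ gder H (d + 1) k := by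
  set J : ZMod p → AddSubgroup A := gder H (d + 1)
  have hJact : ∀ (l : List (ℕ × ZMod p × A)) (m : A) (a : ZMod p), (∀ t ∈ l, t.2.2 ∈ H t.2.1) →
      m ∈ J a → act m l ∈ J (a + (l.map fun t => t.2.1).sum) := by
    intro l
    induction l with
    | nil => intro m a _ hm; simpa [act] using hm
    | cons t l ih =>
      obtain ⟨w, e, x⟩ := t
      intro m a hl hm
      have := ih ⁅m, x⁆ (a + e) (fun t ht => hl t (List.mem_cons_of_mem _ ht))
        (gder_ideal hH (d + 1) a e m hm x (hl _ List.mem_cons_self))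
      simpa [act, add_assoc] using this
  have hMact : ∀ (l : List (ℕ × ZMod p × A)) (m : A) (a : ZMod p), (∀ t ∈ l, t.2.2 ∈ H t.2.1) →
      m ∈ gder H d a → act m l ∈ gder H d (a + (l.map fun t => t.2.1).sum) := by
    intro l
    induction l with
    | nil => intro m a _ hm; simpa [act] using hm
    | cons t l ih =>
      obtain ⟨w, e, x⟩ := t
      intro m a hl hm
      have := ih ⁅m, x⁆ (a + e) (fun t ht => hl t (List.mem_cons_of_mem _ ht))
        (gder_ideal hH d a e m hm x (hl _ List.mem_cons_self))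
      simpa [act, add_assoc] using this
  have hlwH : ∀ n k, glw H n k ≤ H k := fun n k => glw_antitone hH (Nat.zero_le n) k
  -- all long products vanish modulo `J`
  suffices key : ∀ (n : ℕ) (l : List (ℕ × ZMod p × A)) (m : A) (a : ZMod p), l.length = n →
      (∀ t ∈ l, 1 ≤ t.1 ∧ t.2.2 ∈ glw H (t.1 - 1) t.2.1) → m ∈ gder H d a →
      (p - 2) * c + 1 ≤ (l.map fun t => t.1).sum →
      act m l ∈ J (a + (l.map fun t => t.2.1).sum) by
    intro k x hx
    have hp' := hp.out.two_le
    have he : (p - 1) * c + 1 = c + ((p - 2) * c + 1) := by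
      obtain ⟨q, rfl⟩ := Nat.exists_eq_add_of_le hp'
      simp only [Nat.add_sub_cancel_left, show 2 + q - 1 = q + 1 by omega]; ring
    rw [he] at hx
    have hN : ∀ N k, glw H (c + N) k ≤ AddSubgroup.closure {z | ∃ (l : List (ℕ × ZMod p × A)) (m : A)
        (a : ZMod p), (∀ t ∈ l, t.1 = 1 ∧ t.2.2 ∈ H t.2.1) ∧ m ∈ gder H d a ∧ l.length = N ∧
        a + (l.map fun t => t.2.1).sum = k ∧ act m l = z} := by
      intro N
      induction N with
      | zero =>
        exact fun k x hx => AddSubgroup.subset_closure ⟨[], x, k, by simp, hc k hx, rfl, by simp, rfl⟩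
      | succ N ih =>
        intro k
        refine gbrk_le fun a b hab x hx y hy => ?_
        refine closure_lie_left ?_ x (ih a hx)
        rintro _ ⟨l, m, a', hl, hm, hlen, hsum, rfl⟩
        refine AddSubgroup.subset_closure ⟨l ++ [(1, b, y)], m, a', ?_, hm, by simp [hlen], ?_, ?_⟩
        · intro t ht
          rcases List.mem_append.mp ht with h | h
          · exact hl t h
          · rw [List.mem_singleton.mp h]; exact ⟨rfl, hy⟩
        · simp [← hab, ← hsum, add_assoc]
        · simp [act_append, act]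
    refine (AddSubgroup.closure_le _).mpr ?_ (hN _ k hx)
    rintro _ ⟨l, m, a, hl, hm, hlen, rfl, rfl⟩
    refine key _ l m a rfl (fun t ht => ⟨(hl t ht).1.ge, ?_⟩) hm ?_
    · rw [(hl t ht).1]; exact (hl t ht).2
    · have : (l.map fun t => t.1) = List.replicate l.length 1 :=
        List.eq_replicate_iff.mpr ⟨by simp, by
          intro b hb; obtain ⟨t, ht, rfl⟩ := List.mem_map.mp hb; exact (hl t ht).1⟩
      rw [this, List.sum_replicate, hlen, smul_eq_mul, mul_one]
  intro n
  induction n using Nat.strong_induction_on with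
  | _ n ih =>
  intro l m a hlen hl hm hW
  have hlH : ∀ t ∈ l, t.2.2 ∈ H t.2.1 := fun t ht => hlwH _ _ (hl t ht).2
  by_cases hbig : ∃ t ∈ l, c + 1 ≤ t.1
  · obtain ⟨⟨w, e, x⟩, ht, htc⟩ := hbig
    obtain ⟨l₁, l₂, rfl⟩ := List.append_of_mem ht
    have h1 := hMact l₁ m a (fun t ht => hlH t (List.mem_append_left _ ht)) hm
    have h2 : x ∈ gder H d e := hc e (glw_antitone hH (by simp at htc; omega) e (hl _ ht).2)
    have h3 := hJact l₂ _ _ (fun t ht => hlH t (List.mem_append_right _ (List.mem_cons_of_mem _ ht)))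
      (lie_mem_gbrk h1 h2)
    rw [act_append]
    simpa [act, add_assoc] using h3
  push Not at hbig
  -- adjacent interchanges do not matter
  have hswap : ∀ (l₁ l₂ : List (ℕ × ZMod p × A)) (s t : ℕ × ZMod p × A),
      (l₁ ++ t :: s :: l₂).Perm l →
      act m (l₁ ++ t :: s :: l₂) - act m (l₁ ++ s :: t :: l₂) ∈ J (a + (l.map fun t => t.2.1).sum) := by
    intro l₁ l₂ s t hperm
    obtain ⟨ws, es, xs⟩ := s
    obtain ⟨wt, et, xt⟩ := t
    have hmem : ∀ u ∈ l₁ ++ (wt, et, xt) :: (ws, es, xs) :: l₂, u ∈ l := fun u hu => hperm.subset hu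
    have hs := hl _ (hmem (ws, es, xs) (by simp))
    have ht := hl _ (hmem (wt, et, xt) (by simp))
    have hx : ⁅xt, xs⁆ ∈ glw H ((wt - 1) + (ws - 1) + 1) (et + es) :=
      glw_bracket _ _ _ _ _ ht.2 _ hs.2
    have h1 := ih (n - 1) (by
        have := hperm.length_eq
        simp at this; omega) (l₁ ++ (wt + ws, et + es, ⁅xt, xs⁆) :: l₂) m a (by
        have := hperm.length_eq
        simp at this ⊢; omega) ?_ hm (by
        have := (hperm.map fun t => t.1).sum_eq
        simp at this ⊢; omega)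
    · have e1 : act m (l₁ ++ (wt, et, xt) :: (ws, es, xs) :: l₂) -
          act m (l₁ ++ (ws, es, xs) :: (wt, et, xt) :: l₂) =
          act m (l₁ ++ (wt + ws, et + es, ⁅xt, xs⁆) :: l₂) := by
        simp only [act_append, act]
        rw [← act_sub]
        congr 1
        rw [leibniz_lie (act m l₁) xt xs, ← lie_skew xt ⁅act m l₁, xs⁆]
        abel
      rw [e1]
      have e2 : (l.map fun t => t.2.1).sum =
          ((l₁ ++ (wt + ws, et + es, ⁅xt, xs⁆) :: l₂).map fun t => t.2.1).sum := by
        rw [← (hperm.map fun t => t.2.1).sum_eq]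
        simp [add_assoc]
      rw [e2]; exact h1
    · intro u hu
      rcases List.mem_append.mp hu with hu | hu
      · exact hl u (hmem u (List.mem_append_left _ hu))
      rcases List.mem_cons.mp hu with rfl | hu
      · refine ⟨by simp at hs ht ⊢; omega, ?_⟩
        simp at hs ht
        rw [show wt + ws - 1 = wt - 1 + (ws - 1) + 1 by omega]
        exact hx
      · exact hl u (hmem u (by simp [hu]))
  -- hence products are invariant under permutations modulo `J`
  have hperm : ∀ l₁ l₂ : List (ℕ × ZMod p × A), l₁.Perm l₂ → ∀ pre : List (ℕ × ZMod p × A),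
      (pre ++ l₁).Perm l →
      act m (pre ++ l₁) - act m (pre ++ l₂) ∈ J (a + (l.map fun t => t.2.1).sum) := by
    intro l₁ l₂ h
    induction h with
    | nil => intro pre _; simp
    | cons x _ ih =>
      intro pre hpre
      have := ih (pre ++ [x]) (by simpa using hpre)
      simpa using this
    | swap x y r => intro pre hpre; exact hswap pre r x y hpre
    | trans h1 _ ih1 ih2 =>
      intro pre hpre
      have := add_mem (ih1 pre hpre) (ih2 pre (((h1.append_left pre).symm).trans hpre))
      simpa using this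
  by_cases hzero : ∃ t ∈ l, t.2.1 = 0
  · obtain ⟨⟨w, e, x⟩, ht, rfl : e = 0⟩ := hzero
    obtain ⟨l₁, l₂, rfl⟩ := List.append_of_mem ht
    have hx : x ∈ H 0 := hlH _ ht
    rw [h0, AddSubgroup.mem_bot] at hx
    rw [act_append]
    simp [act, hx, act_zero]
  push Not at hzero
  -- at least `p - 1` factors
  have hlenp : p - 1 ≤ l.length := by
    have h1 : (l.map fun t => t.1).sum ≤ l.length * c := by
      have := List.sum_le_card_nsmul (l.map fun t => t.1) c (by
        intro b hb
        obtain ⟨t, ht, rfl⟩ := List.mem_map.mp hb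
        have := hbig t ht; omega)
      simpa using this
    by_contra h
    have h3 : l.length * c ≤ (p - 2) * c := Nat.mul_le_mul_right c (by omega)
    omega
  obtain ⟨es, hes, hsum⟩ := exists_subperm_sum (-a) (l.map fun t => t.2.1) (by
    intro e he
    obtain ⟨t, ht, rfl⟩ := List.mem_map.mp he
    exact hzero t ht) (by simpa using hlenp)
  obtain ⟨ls, hls, rfl⟩ := List.sublist_map_iff.mp hes
  obtain ⟨rest, hrest⟩ := List.Sublist.exists_perm_append hls
  have h1 := hperm l (ls ++ rest) hrest [] (by simp)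
  simp only [List.nil_append] at h1
  have h2 : act m ls ∈ H (a + (ls.map fun t => t.2.1).sum) := gder_le hH d _
    (hMact ls m a (fun t ht => hlH t (hls.subset ht)) hm)
  rw [hsum, add_neg_cancel, h0, AddSubgroup.mem_bot] at h2
  rw [act_append, h2, act_zero, sub_zero] at h1
  exact h1

theorem glw_le_gder [hp : Fact p.Prime] (h0 : H 0 = ⊥) (hH : Closed H) :
    ∀ d k, glw H (∑ i ∈ Finset.range d, (p - 1) ^ i) k ≤ gder H d k := by
  intro d
  induction d with
  | zero => exact fun k => le_rfl
  | succ d ih =>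
    intro k
    rw [Finset.sum_range_succ']
    have e : ∑ i ∈ Finset.range d, (p - 1) ^ (i + 1) + (p - 1) ^ 0 =
        (p - 1) * ∑ i ∈ Finset.range d, (p - 1) ^ i + 1 := by
      rw [Finset.mul_sum, pow_zero]
      simp [pow_succ']
    rw [e]
    exact glw_le_gder_succ h0 hH ih k

/-- The Higman-Kreknin class bound. -/
theorem glw_eq_bot [hp : Fact p.Prime] (h0 : H 0 = ⊥) (hH : Closed H) (k : ZMod p) :
    glw H (∑ i ∈ Finset.range (2 ^ (p - 1) - 1), (p - 1) ^ i) k = ⊥ :=
  le_bot_iff.mp ((glw_le_gder h0 hH _ k).trans (gder_eq_bot h0 hH k).le)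

/-- For `p = 3` the class is at most two. -/
theorem glw_three {H : ZMod 3 → AddSubgroup A} (h0 : H 0 = ⊥) (hH : Closed H) (k : ZMod 3) :
    glw H 2 k = ⊥ := by
  have hz : ∀ {a b : ZMod 3}, a + b = 0 → ∀ x ∈ H a, ∀ y ∈ H b, ⁅x, y⁆ = 0 := fun hab x hx y hy => by
    have := hH _ _ x hx y hy
    rwa [hab, h0, AddSubgroup.mem_bot] at this
  have h1 : ∀ a, a = 0 → ∀ x ∈ H a, x = 0 := fun a ha x hx => by
    rwa [ha, h0, AddSubgroup.mem_bot] at hx
  refine le_bot_iff.mp (gbrk_le fun a b hab z hzm y hy => AddSubgroup.mem_bot.mpr ?_)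
  refine AddSubgroup.mem_bot.mp (closure_lie_left (B := ⊥) ?_ z hzm)
  rintro _ ⟨c, d, rfl, u, hu, v, hv, rfl⟩
  rw [AddSubgroup.mem_bot]
  by_cases hc : c = 0
  · simp [h1 c hc u hu]
  by_cases hd : d = 0
  · simp [h1 d hd v hv]
  by_cases hb : b = 0
  · simp [h1 b hb y hy]
  by_cases hcd : c + d = 0
  · simp [hz hcd u hu v hv]
  by_cases hcdb : c + d + b = 0
  · exact hz hcdb _ (hH c d u hu v hv) y hy
  have h3 : c + b = 0 ∧ d + b = 0 :=
    (by decide : ∀ c d b : ZMod 3, c ≠ 0 → d ≠ 0 → b ≠ 0 → c + d ≠ 0 → c + d + b ≠ 0 →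
      c + b = 0 ∧ d + b = 0) c d b hc hd hb hcd hcdb
  rw [lie_lie u v y, hz h3.2 v hv y hy, hz h3.1 u hu y hy]
  simp

end Cfsg.Agent.Kreknin
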