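import Mathlib
import Cfsg.Agent.Lib.Grp.Kreknin
import Cfsg.Agent.Lib.Grp.FpfPrime

/-!
The Lie ring of the lower central series and the Higman-Kreknin theorem for groups.
-/

set_option autoImplicit false

namespace Cfsg.Agent.AssocLie

open scoped TensorProduct commutatorElement
open Subgroup

universe u

variable {G : Type u} [Group G]

/-- The lower central series. -/
abbrev lcs (G : Type*) [Group G] (i : ℕ) : Subgroup G := (⊤ : Subgroup G).lowerCentralSeries i

instance lcs_normal (i : ℕ) : (lcs G i).Normal := inferInstance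

theorem lcs_le {m n : ℕ} (h : m ≤ n) : lcs G n ≤ lcs G m :=
  (⊤ : Subgroup G).lowerCentralSeries_antitone h

theorem three_subgroups (H₁ H₂ H₃ N : Subgroup G) [N.Normal] (h1 : ⁅⁅H₂, H₃⁆, H₁⁆ ≤ N)
    (h2 : ⁅⁅H₃, H₁⁆, H₂⁆ ≤ N) : ⁅⁅H₁, H₂⁆, H₃⁆ ≤ N := by
  set q := QuotientGroup.mk' N
  have hker : ∀ K : Subgroup G, K ≤ N ↔ K.map q = ⊥ := fun K => by
    rw [Subgroup.map_eq_bot_iff, QuotientGroup.ker_mk']
  rw [hker] at h1 h2 ⊢
  rw [Subgroup.map_commutator, Subgroup.map_commutator] at h1 h2 ⊢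
  exact Subgroup.commutator_commutator_eq_bot_of_rotate h1 h2

theorem lcs_commutator : ∀ j i : ℕ, ⁅lcs G i, lcs G j⁆ ≤ lcs G (i + j + 1) := by
  intro j
  induction j with
  | zero => exact fun i => le_rfl
  | succ j ih =>
    intro i
    rw [show lcs G (j + 1) = ⁅lcs G j, ⊤⁆ from rfl, Subgroup.commutator_comm (lcs G i)]
    refine three_subgroups _ _ _ _ ?_ ?_
    · rw [Subgroup.commutator_comm ⊤ (lcs G i), show ⁅lcs G i, ⊤⁆ = lcs G (i + 1) from rfl]
      exact (ih (i + 1)).trans (le_of_eq (by congr 1; omega))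
    · refine (Subgroup.commutator_mono (ih i) le_rfl).trans ?_
      exact le_of_eq (by rw [show i + (j + 1) + 1 = i + j + 1 + 1 by omega]; rfl)

/-- The factors of the lower central series. -/
abbrev Gr (G : Type*) [Group G] (i : ℕ) : Type _ := lcs G i ⧸ (lcs G (i + 1)).subgroupOf (lcs G i)

instance instCommGroupGr (i : ℕ) : CommGroup (Gr G i) :=
  { (inferInstance : Group (Gr G i)) with
    mul_comm := fun x y => by
      obtain ⟨a, rfl⟩ := QuotientGroup.mk_surjective x
      obtain ⟨b, rfl⟩ := QuotientGroup.mk_surjective y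
      rw [← QuotientGroup.mk_mul, ← QuotientGroup.mk_mul, QuotientGroup.eq, Subgroup.mem_subgroupOf]
      have h1 : ⁅(b : G)⁻¹, (a : G)⁻¹⁆ ∈ lcs G (i + 1) :=
        Subgroup.commutator_mem_commutator ((lcs G i).inv_mem b.2) (Subgroup.mem_top _)
      simpa [commutatorElement_def, mul_assoc] using h1 }

/-- The Lie ring, additively. -/
abbrev L (G : Type*) [Group G] : Type _ := DirectSum ℕ fun i => Additive (Gr G i)

open Classical in
/-- The class of `g` in degree `n`. -/
noncomputable def cls (n : ℕ) (g : G) : L G :=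
  if h : g ∈ lcs G n then DirectSum.of (fun i => Additive (Gr G i)) n
    (Additive.ofMul (QuotientGroup.mk ⟨g, h⟩)) else 0

theorem cls_of {n : ℕ} {g : G} (h : g ∈ lcs G n) :
    cls n g = DirectSum.of (fun i => Additive (Gr G i)) n
      (Additive.ofMul (QuotientGroup.mk ⟨g, h⟩)) := dif_pos h

theorem cls_mul {n : ℕ} {a b : G} (ha : a ∈ lcs G n) (hb : b ∈ lcs G n) :
    cls n (a * b) = cls n a + cls n b := by
  rw [cls_of ha, cls_of hb, cls_of ((lcs G n).mul_mem ha hb), ← map_add]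
  rfl

theorem cls_one (n : ℕ) : cls n (1 : G) = 0 := by
  have := cls_mul (n := n) (lcs G n).one_mem (lcs G n).one_mem
  rw [one_mul] at this
  exact left_eq_add.mp this

theorem cls_inv {n : ℕ} {a : G} (ha : a ∈ lcs G n) : cls n a⁻¹ = -cls n a := by
  have := cls_mul ((lcs G n).inv_mem ha) ha
  rw [inv_mul_cancel, cls_one] at this
  exact eq_neg_of_add_eq_zero_left this.symm

theorem cls_eq_zero {n : ℕ} {a : G} (ha : a ∈ lcs G (n + 1)) : cls n a = 0 := by
  have h' : a ∈ lcs G n := lcs_le (Nat.le_succ n) ha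
  rw [cls_of h', show (QuotientGroup.mk ⟨a, h'⟩ : Gr G n) = 1 from (QuotientGroup.eq_one_iff _).mpr ha]
  exact map_zero _

theorem cls_eq_zero_iff {n : ℕ} {a : G} (ha : a ∈ lcs G n) :
    cls n a = 0 ↔ a ∈ lcs G (n + 1) := by
  refine ⟨fun h => ?_, cls_eq_zero⟩
  rw [cls_of ha, ← map_zero (DirectSum.of (fun i => Additive (Gr G i)) n)] at h
  exact (QuotientGroup.eq_one_iff (⟨a, ha⟩ : lcs G n)).mp (DirectSum.of_injective n h)

theorem cls_conj {n : ℕ} {a : G} (ha : a ∈ lcs G n) (g : G) : cls n (g * a * g⁻¹) = cls n a := by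
  have h1 : ⁅g, a⁆ ∈ lcs G (n + 1) := by
    rw [show lcs G (n + 1) = ⁅lcs G n, ⊤⁆ from rfl, Subgroup.commutator_comm]
    exact Subgroup.commutator_mem_commutator (Subgroup.mem_top g) ha
  rw [show g * a * g⁻¹ = ⁅g, a⁆ * a by rw [commutatorElement_def]; group,
    cls_mul (lcs_le (Nat.le_succ n) h1) ha, cls_eq_zero h1, zero_add]

theorem comm_mem {i j : ℕ} {a b : G} (ha : a ∈ lcs G i) (hb : b ∈ lcs G j) :
    ⁅a, b⁆ ∈ lcs G (i + j + 1) :=
  lcs_commutator j i (Subgroup.commutator_mem_commutator ha hb)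

theorem cls_comm_mul_left {i j : ℕ} {a a' b : G} (ha : a ∈ lcs G i) (ha' : a' ∈ lcs G i)
    (hb : b ∈ lcs G j) :
    cls (i + j + 1) ⁅a * a', b⁆ = cls (i + j + 1) ⁅a, b⁆ + cls (i + j + 1) ⁅a', b⁆ := by
  rw [show ⁅a * a', b⁆ = (a * ⁅a', b⁆ * a⁻¹) * ⁅a, b⁆ by simp only [commutatorElement_def]; group,
    cls_mul ((inferInstance : (lcs G (i + j + 1)).Normal).conj_mem _ (comm_mem ha' hb) a) (comm_mem ha hb),
    cls_conj (comm_mem ha' hb), add_comm]

theorem cls_comm_mul_right {i j : ℕ} {a b b' : G} (ha : a ∈ lcs G i) (hb : b ∈ lcs G j)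
    (hb' : b' ∈ lcs G j) :
    cls (i + j + 1) ⁅a, b * b'⁆ = cls (i + j + 1) ⁅a, b⁆ + cls (i + j + 1) ⁅a, b'⁆ := by
  rw [show ⁅a, b * b'⁆ = ⁅a, b⁆ * (b * ⁅a, b'⁆ * b⁻¹) by simp only [commutatorElement_def]; group,
    cls_mul (comm_mem ha hb) ((inferInstance : (lcs G (i + j + 1)).Normal).conj_mem _ (comm_mem ha hb') b),
    cls_conj (comm_mem ha hb')]

/-- The bracket on two factors. -/
noncomputable def br (i j : ℕ) : Additive (Gr G i) →+ Additive (Gr G j) →+ L G :=
  MonoidHom.toAdditiveLeft <| QuotientGroup.lift _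
    (MonoidHom.mk' (fun a : lcs G i => Multiplicative.ofAdd <|
      MonoidHom.toAdditiveLeft <| QuotientGroup.lift _
        (MonoidHom.mk' (fun b : lcs G j => Multiplicative.ofAdd (cls (i + j + 1) ⁅(a : G), (b : G)⁆))
          fun b b' => congrArg Multiplicative.ofAdd (cls_comm_mul_right a.2 b.2 b'.2))
        (fun b hb => congrArg Multiplicative.ofAdd (cls_eq_zero (by
          have := comm_mem a.2 (show (b : G) ∈ lcs G (j + 1) from hb)
          rwa [show i + (j + 1) + 1 = i + j + 1 + 1 by omega] at this))))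
      fun a a' => congrArg Multiplicative.ofAdd (AddMonoidHom.ext fun y => by
        obtain ⟨b, hb⟩ := QuotientGroup.mk_surjective (Additive.toMul y)
        obtain rfl : y = Additive.ofMul (QuotientGroup.mk b) := by rw [hb]; rfl
        exact cls_comm_mul_left a.2 a'.2 b.2))
    (fun a ha => congrArg Multiplicative.ofAdd (AddMonoidHom.ext fun y => by
      obtain ⟨b, hb⟩ := QuotientGroup.mk_surjective (Additive.toMul y)
      obtain rfl : y = Additive.ofMul (QuotientGroup.mk b) := by rw [hb]; rfl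
      exact cls_eq_zero (by
        have := comm_mem (show (a : G) ∈ lcs G (i + 1) from ha) b.2
        rwa [show i + 1 + j + 1 = i + j + 1 + 1 by omega] at this)))

/-- The bracket. -/
noncomputable def bracket : L G →+ L G →+ L G :=
  DirectSum.toAddMonoid fun i => (DirectSum.toAddMonoid fun j => (br i j).flip).flip

noncomputable instance : Bracket (L G) (L G) where bracket x y := bracket x y

theorem bracket_cls {i j : ℕ} {a b : G} (ha : a ∈ lcs G i) (hb : b ∈ lcs G j) :
    ⁅cls i a, cls j b⁆ = cls (i + j + 1) ⁅a, b⁆ := by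
  show bracket (cls i a) (cls j b) = _
  rw [cls_of ha, cls_of hb, bracket, DirectSum.toAddMonoid_of, AddMonoidHom.flip_apply,
    DirectSum.toAddMonoid_of, AddMonoidHom.flip_apply]
  rfl

theorem induction_cls {P : L G → Prop} (h0 : P 0) (hadd : ∀ x y, P x → P y → P (x + y))
    (hcls : ∀ (i : ℕ) (a : G), a ∈ lcs G i → P (cls i a)) : ∀ x, P x := by
  intro x
  induction x using DirectSum.induction_on with
  | zero => exact h0
  | of i y =>
    obtain ⟨a, ha⟩ := QuotientGroup.mk_surjective (Additive.toMul y)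
    have := hcls i a a.2
    rw [cls_of a.2] at this
    rw [show y = Additive.ofMul (QuotientGroup.mk a) by rw [ha]; rfl]
    exact this
  | add x y hx hy => exact hadd x y hx hy

theorem L_add_lie (x y z : L G) : ⁅x + y, z⁆ = ⁅x, z⁆ + ⁅y, z⁆ := by
  show bracket (x + y) z = _; rw [map_add]; rfl

theorem L_lie_add (x y z : L G) : ⁅x, y + z⁆ = ⁅x, y⁆ + ⁅x, z⁆ := map_add (bracket x) y z

theorem L_zero_lie (x : L G) : ⁅(0 : L G), x⁆ = 0 := by
  show bracket 0 x = 0; rw [map_zero]; rfl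

theorem L_lie_zero (x : L G) : ⁅x, (0 : L G)⁆ = 0 := map_zero (bracket x)

theorem L_skew (x y : L G) : ⁅x, y⁆ + ⁅y, x⁆ = 0 := by
  induction x using induction_cls with
  | h0 => rw [L_zero_lie, L_lie_zero, add_zero]
  | hadd u v hu hv => rw [L_add_lie, L_lie_add, add_add_add_comm, hu, hv, add_zero]
  | hcls i a ha =>
    induction y using induction_cls with
    | h0 => rw [L_zero_lie, L_lie_zero, add_zero]
    | hadd u v hu hv => rw [L_add_lie, L_lie_add, add_add_add_comm, hu, hv, add_zero]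
    | hcls j b hb =>
      rw [bracket_cls ha hb, bracket_cls hb ha, show j + i + 1 = i + j + 1 by omega,
        ← cls_mul (comm_mem ha hb) (by rw [add_comm i j]; exact comm_mem hb ha),
        show ⁅a, b⁆ * ⁅b, a⁆ = 1 by simp only [commutatorElement_def]; group, cls_one]

theorem L_lie_self (x : L G) : ⁅x, x⁆ = 0 := by
  induction x using induction_cls with
  | h0 => exact L_lie_zero _
  | hadd u v hu hv =>
    rw [L_add_lie, L_lie_add, L_lie_add, hu, hv, zero_add, add_zero]
    exact L_skew u v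
  | hcls i a ha => rw [bracket_cls ha ha, commutatorElement_self, cls_one]

theorem cls_double {i j k : ℕ} {a b c : G} (ha : a ∈ lcs G i) (hb : b ∈ lcs G j)
    (hc : c ∈ lcs G k) : ⁅⁅cls i a, cls j b⁆, cls k c⁆ = cls (i + j + k + 2) ⁅⁅a, b⁆, c⁆ := by
  rw [bracket_cls ha hb, bracket_cls (comm_mem ha hb) hc]
  congr 1
  omega

theorem L_lie_neg (x y : L G) : ⁅x, -y⁆ = -⁅x, y⁆ := map_neg (bracket x) y

theorem L_neg_lie (x y : L G) : ⁅-x, y⁆ = -⁅x, y⁆ := by
  show bracket (-x) y = _; rw [map_neg]; rfl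

theorem L_jacobi_cls {i j k : ℕ} {a b c : G} (ha : a ∈ lcs G i) (hb : b ∈ lcs G j)
    (hc : c ∈ lcs G k) : ⁅⁅cls i a, cls j b⁆, cls k c⁆ + ⁅⁅cls k c, cls i a⁆, cls j b⁆ +
      ⁅⁅cls j b, cls k c⁆, cls i a⁆ = 0 := by
  have hai := (lcs G i).inv_mem ha
  have hbi := (lcs G j).inv_mem hb
  have hci := (lcs G k).inv_mem hc
  have e1 := cls_double hai hb hc
  have e2 := cls_double hci ha hb
  have e3 := cls_double hbi hc ha
  rw [show k + i + j + 2 = i + j + k + 2 by omega] at e2
  rw [show j + k + i + 2 = i + j + k + 2 by omega] at e3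
  rw [cls_inv ha, L_neg_lie, L_neg_lie] at e1
  rw [cls_inv hc, L_neg_lie, L_neg_lie] at e2
  rw [cls_inv hb, L_neg_lie, L_neg_lie] at e3
  rw [← neg_eq_zero, neg_add, neg_add, e1, e2, e3]
  set n := i + j + k + 2 with hn
  have m1 : ⁅⁅a⁻¹, b⁆, c⁆ ∈ lcs G n := by
    have := comm_mem (comm_mem hai hb) hc; rwa [show i + j + 1 + k + 1 = n by omega] at this
  have m2 : ⁅⁅c⁻¹, a⁆, b⁆ ∈ lcs G n := by
    have := comm_mem (comm_mem hci ha) hb; rwa [show k + i + 1 + j + 1 = n by omega] at this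
  have m3 : ⁅⁅b⁻¹, c⁆, a⁆ ∈ lcs G n := by
    have := comm_mem (comm_mem hbi hc) ha; rwa [show j + k + 1 + i + 1 = n by omega] at this
  have hN : (lcs G n).Normal := inferInstance
  rw [← cls_conj m1 a, ← cls_conj m2 c, ← cls_conj m3 b,
    ← cls_mul (hN.conj_mem _ m1 a) (hN.conj_mem _ m2 c),
    ← cls_mul ((lcs G n).mul_mem (hN.conj_mem _ m1 a) (hN.conj_mem _ m2 c)) (hN.conj_mem _ m3 b)]
  have hw : a * ⁅⁅a⁻¹, b⁆, c⁆ * a⁻¹ * (c * ⁅⁅c⁻¹, a⁆, b⁆ * c⁻¹) * (b * ⁅⁅b⁻¹, c⁆, a⁆ * b⁻¹) = 1 := by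
    simp only [commutatorElement_def]; group
  rw [hw, cls_one]

theorem L_leibniz (x y z : L G) : ⁅x, ⁅y, z⁆⁆ = ⁅⁅x, y⁆, z⁆ + ⁅y, ⁅x, z⁆⁆ := by
  induction x using induction_cls with
  | h0 => simp [L_zero_lie, L_lie_zero]
  | hadd u v hu hv => simp only [L_add_lie, L_lie_add, hu, hv]; abel
  | hcls i a ha =>
    induction y using induction_cls with
    | h0 => simp [L_zero_lie, L_lie_zero]
    | hadd u v hu hv => simp only [L_add_lie, L_lie_add, hu, hv]; abel
    | hcls j b hb =>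
      induction z using induction_cls with
      | h0 => simp [L_zero_lie, L_lie_zero]
      | hadd u v hu hv => simp only [L_add_lie, L_lie_add, hu, hv]; abel
      | hcls k c hc =>
        have h := L_jacobi_cls ha hb hc
        have s1 : ⁅cls i a, ⁅cls j b, cls k c⁆⁆ = -⁅⁅cls j b, cls k c⁆, cls i a⁆ :=
          eq_neg_of_add_eq_zero_left (L_skew _ _)
        have s2 : ⁅cls j b, ⁅cls i a, cls k c⁆⁆ = ⁅⁅cls k c, cls i a⁆, cls j b⁆ := by
          rw [eq_neg_of_add_eq_zero_left (L_skew (cls j b) _),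
            eq_neg_of_add_eq_zero_left (L_skew (cls i a) (cls k c)), L_neg_lie, neg_neg]
        rw [s1, s2, eq_comm, eq_neg_iff_add_eq_zero]
        exact h

noncomputable instance instLieRingL : LieRing (L G) where
  add_lie := L_add_lie
  lie_add := L_lie_add
  lie_self := L_lie_self
  leibniz_lie := L_leibniz

theorem map_mem_lcs (α : MulAut G) {n : ℕ} {g : G} (hg : g ∈ lcs G n) : α g ∈ lcs G n :=
  (Subgroup.characteristic_iff_map_le.mp (inferInstance : (lcs G n).Characteristic) α) ⟨g, hg, rfl⟩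

/-- The map induced by an automorphism on one factor. -/
noncomputable def grMap (α : MulAut G) (i : ℕ) : Gr G i →* Gr G i :=
  QuotientGroup.map _ _ (MonoidHom.mk' (fun g : lcs G i => (⟨α g, map_mem_lcs α g.2⟩ : lcs G i))
      fun a b => Subtype.ext (map_mul α (a : G) b))
    (fun g hg => map_mem_lcs α (show (g : G) ∈ lcs G (i + 1) from hg))

/-- The map induced by an automorphism on the Lie ring. -/
noncomputable def psi (α : MulAut G) : L G →+ L G :=
  DirectSum.map fun i => (grMap α i).toAdditive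

theorem psi_cls (α : MulAut G) {n : ℕ} {g : G} (hg : g ∈ lcs G n) :
    psi α (cls n g) = cls n (α g) := by
  rw [cls_of hg, cls_of (map_mem_lcs α hg), psi, DirectSum.map_of]
  rfl

theorem psi_lie (α : MulAut G) (x y : L G) : psi α ⁅x, y⁆ = ⁅psi α x, psi α y⁆ := by
  induction x using induction_cls with
  | h0 => simp
  | hadd u v hu hv => simp [map_add, add_lie, hu, hv]
  | hcls i a ha =>
    induction y using induction_cls with
    | h0 => simp
    | hadd u v hu hv => simp [map_add, lie_add, hu, hv]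
    | hcls j b hb =>
      rw [bracket_cls ha hb, psi_cls α ha, psi_cls α hb, psi_cls α (comm_mem ha hb),
        bracket_cls (map_mem_lcs α ha) (map_mem_lcs α hb), map_commutatorElement]

theorem psi_pow (α : MulAut G) (k : ℕ) (x : L G) : (psi α)^[k] x = psi (α ^ k) x := by
  induction x using induction_cls with
  | h0 => rw [map_zero]; exact iterate_map_zero (psi α) k
  | hadd u v hu hv => rw [map_add, iterate_map_add, hu, hv]
  | hcls i a ha =>
    induction k with
    | zero => rw [pow_zero, psi_cls _ ha]; rfl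
    | succ k ih =>
      rw [Function.iterate_succ', Function.comp_apply, ih, psi_cls _ ha,
        psi_cls _ (map_mem_lcs _ ha), psi_cls _ ha, pow_succ', MulAut.mul_apply]

theorem psi_one (x : L G) : psi (1 : MulAut G) x = x := by
  rw [← pow_zero (1 : MulAut G), ← psi_pow]
  rfl

theorem psi_fixed [Finite G] (α : MulAut G) (hfpf : ∀ g : G, α g = g → g = 1) {x : L G}
    (hx : psi α x = x) : x = 0 := by
  refine DFinsupp.ext fun i => ?_
  have h1 : psi α x i = x i := by rw [hx]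
  rw [psi, DirectSum.map_apply] at h1
  rw [DirectSum.zero_apply]
  obtain ⟨a, ha⟩ := QuotientGroup.mk_surjective (Additive.toMul (x i))
  have hxi : x i = Additive.ofMul (QuotientGroup.mk a) := by rw [ha]; rfl
  rw [hxi] at h1 ⊢
  have h2 : ((a : G)⁻¹ * α a) ∈ lcs G (i + 1) := by
    have h3 : (QuotientGroup.mk (⟨α a, map_mem_lcs α a.2⟩ : lcs G i) : Gr G i) = QuotientGroup.mk a :=
      congrArg Additive.toMul h1
    exact (QuotientGroup.eq.mp h3.symm : _)
  have hsurj : Function.Surjective fun m : lcs G (i + 1) =>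
      (⟨(m : G)⁻¹ * α m, (lcs G (i + 1)).mul_mem ((lcs G (i + 1)).inv_mem m.2) (map_mem_lcs α m.2)⟩ :
        lcs G (i + 1)) := by
    refine Finite.surjective_of_injective fun m n h => ?_
    have h' : (m : G)⁻¹ * α m = (n : G)⁻¹ * α n := congrArg Subtype.val h
    refine Subtype.ext (mul_inv_eq_one.mp (hfpf _ ?_))
    rw [map_mul, map_inv]
    calc α m * (α n)⁻¹ = m * ((m : G)⁻¹ * α m) * (α n)⁻¹ := by group
      _ = m * ((n : G)⁻¹ * α n) * (α n)⁻¹ := by rw [h']
      _ = _ := by group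
  obtain ⟨m, hm⟩ := hsurj ⟨_, h2⟩
  have hm' : (m : G)⁻¹ * α m = (a : G)⁻¹ * α a := congrArg Subtype.val hm
  have ham : (a : G) = m := by
    refine mul_inv_eq_one.mp (hfpf _ ?_)
    rw [map_mul, map_inv]
    calc α a * (α m)⁻¹ = a * ((a : G)⁻¹ * α a) * (α m)⁻¹ := by group
      _ = a * ((m : G)⁻¹ * α m) * (α m)⁻¹ := by rw [hm']
      _ = _ := by group
  exact congrArg Additive.ofMul ((QuotientGroup.eq_one_iff a).mpr (show (a : G) ∈ _ from ham ▸ m.2))

section Tensor

variable (R : Type*) [CommRing R]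

theorem eigen_zero [Finite G] {ι : Type*} [DecidableEq ι] (b : Module.Basis ι ℤ R) (α : MulAut G)
    (hfpf : ∀ g : G, α g = g → g = 1) {z : R ⊗[ℤ] L G}
    (hz : LinearMap.lTensor R (psi α).toIntLinearMap z = z) : z = 0 := by
  refine (TensorProduct.equivFinsuppOfBasisLeft b).injective (Finsupp.ext fun i => ?_)
  rw [map_zero, Finsupp.coe_zero, Pi.zero_apply]
  refine psi_fixed α hfpf ?_
  have key : ∀ w : R ⊗[ℤ] L G,
      TensorProduct.equivFinsuppOfBasisLeft b (LinearMap.lTensor R (psi α).toIntLinearMap w) i =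
        psi α (TensorProduct.equivFinsuppOfBasisLeft b w i) := by
    intro w
    induction w using TensorProduct.induction_on with
    | zero => simp
    | tmul r x => simp [map_zsmul]
    | add u v hu hv => simp [map_add, hu, hv]
  rw [← key, hz]

variable {R}

theorem t_add_lie (x y z : R ⊗[ℤ] L G) : ⁅x + y, z⁆ = ⁅x, z⁆ + ⁅y, z⁆ := add_lie x y z
theorem t_lie_add (x y z : R ⊗[ℤ] L G) : ⁅x, y + z⁆ = ⁅x, y⁆ + ⁅x, z⁆ := lie_add x y z
theorem t_zero_lie (x : R ⊗[ℤ] L G) : ⁅(0 : R ⊗[ℤ] L G), x⁆ = 0 := zero_lie x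
theorem t_lie_zero (x : R ⊗[ℤ] L G) : ⁅x, (0 : R ⊗[ℤ] L G)⁆ = 0 := lie_zero x
theorem t_smul_lie (r : R) (x y : R ⊗[ℤ] L G) : ⁅r • x, y⁆ = r • ⁅x, y⁆ := smul_lie r x y
theorem t_lie_smul (r : R) (x y : R ⊗[ℤ] L G) : ⁅x, r • y⁆ = r • ⁅x, y⁆ := lie_smul r x y
theorem t_zsmul_lie (n : ℤ) (x y : R ⊗[ℤ] L G) : ⁅n • x, y⁆ = n • ⁅x, y⁆ := zsmul_lie x y n
theorem t_lie_zsmul (n : ℤ) (x y : R ⊗[ℤ] L G) : ⁅x, n • y⁆ = n • ⁅x, y⁆ := lie_zsmul x y n

variable (R)

theorem lTensor_psi_lie (α : MulAut G) (x y : R ⊗[ℤ] L G) :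
    LinearMap.lTensor R (psi α).toIntLinearMap ⁅x, y⁆ =
      ⁅LinearMap.lTensor R (psi α).toIntLinearMap x, LinearMap.lTensor R (psi α).toIntLinearMap y⁆ := by
  induction x using TensorProduct.induction_on with
  | zero => rw [t_zero_lie, map_zero, t_zero_lie]
  | add u v hu hv => rw [t_add_lie, map_add, map_add, t_add_lie, hu, hv]
  | tmul s u =>
    induction y using TensorProduct.induction_on with
    | zero => rw [t_lie_zero, map_zero, t_lie_zero]
    | add w v hw hv => rw [t_lie_add, map_add, map_add, t_lie_add, hw, hv]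
    | tmul t v =>
      simp only [LieAlgebra.ExtendScalars.bracket_tmul, LinearMap.lTensor_tmul,
        AddMonoidHom.coe_toIntLinearMap, psi_lie]

theorem lTensor_psi_smul (α : MulAut G) (r : R) (x : R ⊗[ℤ] L G) :
    LinearMap.lTensor R (psi α).toIntLinearMap (r • x) =
      r • LinearMap.lTensor R (psi α).toIntLinearMap x := by
  induction x using TensorProduct.induction_on with
  | zero => simp
  | tmul s v => rw [TensorProduct.smul_tmul', LinearMap.lTensor_tmul, LinearMap.lTensor_tmul,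
      TensorProduct.smul_tmul']
  | add u v hu hv => simp only [smul_add, map_add, hu, hv]

end Tensor

open Kreknin in
set_option maxHeartbeats 800000 in
/-- The class of a group with a fixed-point-free automorphism of prime order, reduced to graded
Lie rings. -/
theorem lcs_eq_bot_of_fpf [Finite G] {p : ℕ} [hp : Fact p.Prime] (α : MulAut G) (hα : α ^ p = 1)
    (hfpf : ∀ g : G, α g = g → g = 1) (N : ℕ)
    (hN : ∀ (A : Type u) [LieRing A] (H : ZMod p → AddSubgroup A), H 0 = ⊥ → Closed H →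
      ∀ k, glw H N k = ⊥) (A' : Subalgebra ℤ ℂ) (ω : A') (hω : IsPrimitiveRoot ω p)
    {ι : Type} [DecidableEq ι] (b : Module.Basis ι ℤ A') (i₀ : ι) (hb : b i₀ = 1) :
    lcs G N = ⊥ := by
  classical
  set f := LinearMap.lTensor (↥A') (psi α).toIntLinearMap with hf
  let H : ZMod p → AddSubgroup (↥A' ⊗[ℤ] L G) := fun i =>
    { carrier := {z | f z = ω ^ i.val • z}
      zero_mem' := by simp
      add_mem' := fun {x y} (hx : f x = _) (hy : f y = _) => by
        show f (x + y) = _; rw [map_add, smul_add, hx, hy]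
      neg_mem' := fun {x} (hx : f x = _) => by
        show f (-x) = _; rw [map_neg, smul_neg, hx] }
  have hωpow : ∀ n : ℕ, ω ^ (n : ZMod p).val = ω ^ n := fun n => by
    rw [ZMod.val_natCast, ← pow_eq_pow_mod n hω.pow_eq_one]
  have hωadd : ∀ i j : ZMod p, ω ^ (i + j).val = ω ^ i.val * ω ^ j.val := fun i j => by
    rw [← pow_add, ← hωpow (i.val + j.val), Nat.cast_add, ZMod.natCast_val, ZMod.natCast_val,
      ZMod.cast_id, ZMod.cast_id]
  have hcl : Closed H := fun i j x (hx : f x = _) y (hy : f y = _) => by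
    show f ⁅x, y⁆ = _
    rw [hf, lTensor_psi_lie, ← hf, hx, hy, t_smul_lie, t_lie_smul, smul_smul, hωadd]
  have h0 : H 0 = ⊥ := le_bot_iff.mp fun z (hz : f z = _) => AddSubgroup.mem_bot.mpr
    (eigen_zero (↥A') b α hfpf (by rw [← hf, hz, ZMod.val_zero, pow_zero, one_smul]))
  have hglw := hN _ H h0 hcl
  -- eigenvector decomposition
  let π : ZMod p → L G → ↥A' ⊗[ℤ] L G := fun i x =>
    ∑ k : ZMod p, (ω ^ (-(i * k)).val) ⊗ₜ[ℤ] psi (α ^ k.val) x
  have hαk : ∀ k : ZMod p, α * α ^ k.val = α ^ (k + 1).val := fun k => by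
    rw [← pow_succ', pow_eq_pow_mod (k.val + 1) hα]
    congr 1
    rw [← ZMod.val_natCast, Nat.cast_add, Nat.cast_one, ZMod.natCast_val, ZMod.cast_id]
  have hπ : ∀ i x, π i x ∈ H i := by
    intro i x
    show f (π i x) = _
    simp only [π, map_sum, Finset.smul_sum]
    have e : ∀ k : ZMod p, f ((ω ^ (-(i * k)).val) ⊗ₜ[ℤ] psi (α ^ k.val) x) =
        ω ^ i.val • ((ω ^ (-(i * (k + 1))).val) ⊗ₜ[ℤ] psi (α ^ (k + 1).val) x) := by
      intro k
      rw [hf, LinearMap.lTensor_tmul, TensorProduct.smul_tmul', smul_eq_mul, ← hωadd,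
        show i + -(i * (k + 1)) = -(i * k) by ring, AddMonoidHom.coe_toIntLinearMap, ← hαk]
      congr 1
      induction x using induction_cls with
      | h0 => simp
      | hadd u v hu hv => simp [map_add, hu, hv]
      | hcls n a ha => rw [psi_cls _ ha, psi_cls _ (map_mem_lcs _ ha), psi_cls _ ha, MulAut.mul_apply]
    rw [Finset.sum_congr rfl fun k _ => e k]
    exact Fintype.sum_equiv (Equiv.addRight (1 : ZMod p)) _
      (fun k => ω ^ i.val • ((ω ^ (-(i * k)).val) ⊗ₜ[ℤ] psi (α ^ k.val) x)) fun k => rfl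
  have hsum : ∀ x, ∑ i : ZMod p, π i x = (p : ℤ) • ((1 : A') ⊗ₜ[ℤ] x) := by
    intro x
    simp only [π]
    rw [Finset.sum_comm]
    simp_rw [← TensorProduct.sum_tmul]
    rw [Finset.sum_eq_single 0 (fun k _ hk => ?_) (fun h => absurd (Finset.mem_univ _) h)]
    · simp [psi_one, TensorProduct.smul_tmul']
    · have h1 : ∑ i : ZMod p, ω ^ (-(i * k)).val = ∑ i : ZMod p, ω ^ i.val := by
        refine Fintype.sum_equiv (Equiv.mulRight₀ (-k) (neg_ne_zero.mpr hk)) _ _ fun i => ?_
        simp [mul_neg]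
      have h2 : ∑ i : ZMod p, ω ^ i.val = 0 := by
        rw [← hω.geom_sum_eq_zero hp.out.one_lt]
        refine Finset.sum_bij (fun i _ => i.val) (fun i _ => Finset.mem_range.mpr (ZMod.val_lt i))
          (fun i _ j _ h => ZMod.val_injective p h) (fun n hn => ⟨(n : ZMod p), Finset.mem_univ _,
            ZMod.val_cast_of_lt (Finset.mem_range.mp hn)⟩) fun i _ => rfl
      rw [h1, h2, TensorProduct.zero_tmul]
  set D : ℕ → AddSubgroup (↥A' ⊗[ℤ] L G) := fun n => ⨆ k, glw H n k
  have hbase : ∀ x : L G, (p : ℤ) • ((1 : A') ⊗ₜ[ℤ] x) ∈ D 0 := fun x => by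
    rw [← hsum]
    exact sum_mem fun i _ => AddSubgroup.mem_iSup_of_mem (S := fun k => glw H 0 k) i (hπ i x)
  have hDlie : ∀ n, ∀ u ∈ D n, ∀ v ∈ D 0, ⁅u, v⁆ ∈ D (n + 1) := by
    intro n u hu v hv
    refine AddSubgroup.iSup_induction (fun k => glw H n k) (C := fun u => ⁅u, v⁆ ∈ D (n + 1)) hu
      (fun k u hu => ?_) (by rw [t_zero_lie]; exact zero_mem _)
      (fun a b ha hb => by rw [t_add_lie]; exact add_mem ha hb)
    refine AddSubgroup.iSup_induction (fun k => glw H 0 k) (C := fun v => ⁅u, v⁆ ∈ D (n + 1)) hv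
      (fun k' v hv => AddSubgroup.mem_iSup_of_mem (k + k') (lie_mem_gbrk hu hv))
      (by rw [t_lie_zero]; exact zero_mem _)
      (fun a b ha hb => by rw [t_lie_add]; exact add_mem ha hb)
  have hall : ∀ n, ∀ g ∈ lcs G n, ((p : ℤ) ^ (n + 1)) • ((1 : A') ⊗ₜ[ℤ] cls n g) ∈ D n := by
    intro n
    induction n with
    | zero => intro g _; rw [zero_add, pow_one]; exact hbase _
    | succ n ih =>
      intro g hg
      let S : Subgroup G :=
        { carrier := {g | g ∈ lcs G (n + 1) ∧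
            ((p : ℤ) ^ (n + 1 + 1)) • ((1 : A') ⊗ₜ[ℤ] cls (n + 1) g) ∈ D (n + 1)}
          one_mem' := ⟨Subgroup.one_mem _, by simp [cls_one]⟩
          mul_mem' := fun {a b} ha hb => ⟨(lcs G (n + 1)).mul_mem ha.1 hb.1, by
            rw [cls_mul ha.1 hb.1, TensorProduct.tmul_add, smul_add]; exact add_mem ha.2 hb.2⟩
          inv_mem' := fun {a} ha => ⟨Subgroup.inv_mem _ ha.1, by
            rw [cls_inv ha.1, TensorProduct.tmul_neg, smul_neg]; exact neg_mem ha.2⟩ }
      suffices h : lcs G (n + 1) ≤ S from (h hg).2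
      rw [show lcs G (n + 1) = ⁅lcs G n, ⊤⁆ from rfl, Subgroup.commutator_le]
      intro a ha b hb
      refine ⟨Subgroup.commutator_mem_commutator ha hb, ?_⟩
      have hb0 : b ∈ lcs G 0 := hb
      have := hDlie n _ (ih a ha) _ (hbase (cls 0 b))
      rwa [t_zsmul_lie, t_lie_zsmul, smul_smul, LieAlgebra.ExtendScalars.bracket_tmul, one_mul,
        bracket_cls ha hb0, ← pow_succ, show n + 0 + 1 = n + 1 by omega] at this
  -- conclusion
  have hcard : ¬ p ∣ Nat.card G := by
    intro hd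
    have hz : IsPGroup p (Subgroup.zpowers α) := by
      obtain ⟨i, -, hi⟩ := (Nat.dvd_prime_pow hp.out).mp
        (show orderOf α ∣ p ^ 1 by rw [pow_one]; exact orderOf_dvd_of_pow_eq_one hα)
      exact IsPGroup.of_card (n := i) (by rw [Nat.card_zpowers, hi])
    obtain ⟨x, hxfix, hx1⟩ := hz.exists_fixed_point_of_prime_dvd_card_of_fixed_point G hd
      (a := 1) (fun y => by simp [Subgroup.smul_def, MulAut.smul_def])
    exact hx1 (hfpf x (hxfix ⟨α, Subgroup.mem_zpowers α⟩)).symm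
  have hstep : lcs G N ≤ lcs G (N + 1) := by
    intro g hg
    have h1 := hall N g hg
    rw [show D N = ⊥ from iSup_eq_bot.mpr hglw, AddSubgroup.mem_bot] at h1
    have h2 := congrArg (fun z => TensorProduct.equivFinsuppOfBasisLeft b z i₀) h1
    simp only [map_zsmul, map_zero, Finsupp.coe_smul, Pi.smul_apply, Finsupp.coe_zero, Pi.zero_apply,
      TensorProduct.equivFinsuppOfBasisLeft_apply_tmul_apply] at h2
    rw [← hb, Module.Basis.repr_self, Finsupp.single_eq_same, one_smul] at h2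
    have h3 : cls N (g ^ (p ^ (N + 1))) = 0 := by
      rw [← h2]
      have : ∀ m : ℕ, cls N (g ^ m) = (m : ℤ) • cls N g := by
        intro m
        induction m with
        | zero => simp [cls_one]
        | succ m ih => rw [pow_succ, cls_mul ((lcs G N).pow_mem hg m) hg, ih, Nat.cast_succ, add_smul, one_smul]
      rw [this, Nat.cast_pow]
    rw [cls_eq_zero_iff ((lcs G N).pow_mem hg _)] at h3
    have hco : (Nat.card G).Coprime (p ^ (N + 1)) :=
      ((hp.out.coprime_iff_not_dvd.mpr hcard).symm).pow_right _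
    obtain ⟨m, hm⟩ := exists_pow_eq_self_of_coprime
      ((hco.coprime_dvd_left (orderOf_dvd_natCard g)).symm)
    exact hm ▸ (lcs G (N + 1)).pow_mem h3 m
  have hnil : Group.IsNilpotent G := Grp.isNilpotent_of_fpf_aut α hα hfpf
  obtain ⟨m, hm⟩ := Subgroup.nilpotent_iff_lowerCentralSeries.mp hnil
  have hstab : ∀ k, lcs G N ≤ lcs G (N + k) := by
    intro k
    induction k with
    | zero => exact le_rfl
    | succ k ih =>
      refine hstep.trans ?_
      show ⁅lcs G N, ⊤⁆ ≤ ⁅lcs G (N + k), ⊤⁆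
      exact Subgroup.commutator_mono ih le_rfl
  exact le_bot_iff.mp ((hstab m).trans ((lcs_le (Nat.le_add_left m N)).trans hm.le))

/-- A primitive root of prime order generates a subring with an integral basis containing `1`. -/
theorem exists_ring (p : ℕ) [hp : Fact p.Prime] :
    ∃ (A' : Subalgebra ℤ ℂ) (ω : A') (n : ℕ) (b : Module.Basis (Fin n) ℤ A') (i₀ : Fin n),
      IsPrimitiveRoot ω p ∧ b i₀ = 1 := by
  have hz := Complex.isPrimitiveRoot_exp p hp.out.ne_zero
  set z := Complex.exp (2 * Real.pi * Complex.I / p)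
  have hint : IsIntegral ℤ z := hz.isIntegral hp.out.pos
  let pb := Algebra.adjoin.powerBasis' hint
  refine ⟨Algebra.adjoin ℤ {z}, ⟨z, Algebra.self_mem_adjoin_singleton ℤ z⟩, pb.dim, pb.basis,
    ⟨0, ?_⟩, ?_, ?_⟩
  · exact pb.dim_pos
  · exact IsPrimitiveRoot.of_map_of_injective (f := (Algebra.adjoin ℤ {z}).val) hz Subtype.val_injective
  · rw [pb.basis_eq_pow, pow_zero]

/-- Higman-Kreknin. -/
theorem higman_kreknin [Finite G] {p : ℕ} [Fact p.Prime] (α : MulAut G) (hα : α ^ p = 1)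
    (hfpf : ∀ g : G, α g = g → g = 1) :
    lcs G (∑ i ∈ Finset.range (2 ^ (p - 1) - 1), (p - 1) ^ i) = ⊥ := by
  obtain ⟨A', ω, n, b, i₀, hω, hb⟩ := exists_ring p
  exact lcs_eq_bot_of_fpf α hα hfpf _ (fun A _ H h0 hH k => Kreknin.glw_eq_bot h0 hH k) A' ω hω b i₀ hb

theorem higman_three [Finite G] (α : MulAut G) (hα : α ^ 3 = 1)
    (hfpf : ∀ g : G, α g = g → g = 1) : lcs G 2 = ⊥ := by
  have := Fact.mk Nat.prime_three
  obtain ⟨A', ω, n, b, i₀, hω, hb⟩ := exists_ring 3
  exact lcs_eq_bot_of_fpf α hα hfpf 2 (fun A _ H h0 hH k => Kreknin.glw_three h0 hH k) A' ω hω b i₀ hb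

end Cfsg.Agent.AssocLie
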