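import Mathlib
import Cfsg.Agent.Lib.Grp.Components
import Cfsg.Agent.Lib.Grp.PComponents

/-!
The centralizer of a transvection over the field with two elements is of characteristic two.
-/

set_option autoImplicit false

namespace Cfsg.Agent.Grp

open Subgroup

universe u

/-- A normal self-centralizing `p`-subgroup makes `F*` a `p`-group. -/
theorem gfitting_eq_pCore_of_selfCentralizing {X : Type u} [Group X] [Finite X] {p : ℕ} [Fact p.Prime]
    {Q : Subgroup X} (hQn : Q.Normal) (hQ : IsPGroup p Q) (hC : centralizer (Q : Set X) ≤ Q) :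
    Cfsg.generalizedFittingSubgroup X = Cfsg.pCore p X := by
  have hQP : Q ≤ Cfsg.pCore p X := le_pCore hQn hQ
  have hCP : centralizer (Cfsg.pCore p X : Set X) ≤ Cfsg.pCore p X :=
    ((Subgroup.centralizer_le (SetLike.coe_subset_coe.mpr hQP)).trans hC).trans hQP
  have hO : Cfsg.pPrimeCore p X = ⊥ := by
    have := pCore_isNormal (p := p) (G := X)
    have := pPrimeCore_isNormal (p := p) (G := X)
    obtain ⟨m, hm⟩ := (pCore_isPGroup (p := p) (G := X)).exists_card_eq
    have hd : (Nat.card (Cfsg.pPrimeCore p X)).Coprime (Nat.card (Cfsg.pCore p X)) := by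
      rw [hm]; exact (pPrimeCore_coprime (p := p) (G := X)).pow_right m
    have h := (commute_of_coprime_normal hd).trans hCP
    rw [← inf_eq_left.mpr h]
    exact inf_eq_bot_of_coprime hd
  have hF : Cfsg.fittingSubgroup X = Cfsg.pCore p X := fitting_eq_pCore hO
  rw [Cfsg.generalizedFittingSubgroup, layer_eq_bot_of_centralizer_fitting_le (by rwa [hF]), bot_sup_eq, hF]

open Matrix in
theorem gfitting_centralizer_transvection {F : Type u} [Field F] [Fintype F] [DecidableEq F]
    (hF : Fintype.card F = 2) (n : ℕ) (i j : Fin n) (hij : i ≠ j)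
    (t : Matrix.SpecialLinearGroup (Fin n) F)
    (ht : (t : Matrix (Fin n) (Fin n) F) = Matrix.transvection i j 1) :
    Cfsg.generalizedFittingSubgroup ↥(Subgroup.centralizer ({t} : Set (Matrix.SpecialLinearGroup (Fin n) F))) =
      Cfsg.pCore 2 ↥(Subgroup.centralizer ({t} : Set (Matrix.SpecialLinearGroup (Fin n) F))) := by
  haveI : Fact (Nat.Prime 2) := ⟨Nat.prime_two⟩
  have hF2 : ∀ a : F, a = 0 ∨ a = 1 := by
    intro a
    by_contra h
    push Not at h
    have : ({0, 1, a} : Finset F).card ≤ 2 := hF ▸ Finset.card_le_univ _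
    rw [Finset.card_insert_of_notMem (by simp [h.1.symm, zero_ne_one]),
      Finset.card_insert_of_notMem (by simp [h.2.symm]), Finset.card_singleton] at this
    omega
  have h2 : (1 : F) + 1 = 0 := (hF2 (1 + 1)).resolve_right fun h => one_ne_zero (α := F) (by simpa using h)
  set C := Subgroup.centralizer ({t} : Set (Matrix.SpecialLinearGroup (Fin n) F)) with hCdef
  have hC : ∀ g : (Matrix.SpecialLinearGroup (Fin n) F), g ∈ C ↔ (g : Matrix (Fin n) (Fin n) F) * Matrix.single i j 1 =
      Matrix.single i j 1 * (g : Matrix (Fin n) (Fin n) F) := by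
    intro g
    rw [hCdef, Subgroup.mem_centralizer_singleton_iff]
    constructor
    · intro h
      have h' := congrArg (fun x : (Matrix.SpecialLinearGroup (Fin n) F) => (x : Matrix (Fin n) (Fin n) F)) h
      simp only [Matrix.SpecialLinearGroup.coe_mul, ht, Matrix.transvection, mul_add, add_mul, mul_one, one_mul] at h'
      exact add_left_cancel h'
    · intro h
      refine Subtype.ext ?_
      simp only [Matrix.SpecialLinearGroup.coe_mul, ht, Matrix.transvection, mul_add, add_mul, mul_one, one_mul, h]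
  have hcol : ∀ g ∈ C, ∀ k, k ≠ i → (g : Matrix (Fin n) (Fin n) F) k i = 0 := by
    intro g hg k hk
    have h := congrFun (congrFun ((hC g).mp hg) k) j
    rwa [Matrix.mul_single_apply_same, Matrix.single_mul_apply_of_ne _ _ _ _ _ hk, mul_one] at h
  have hrow : ∀ g ∈ C, ∀ l, l ≠ j → (g : Matrix (Fin n) (Fin n) F) j l = 0 := by
    intro g hg l hl
    have h := congrFun (congrFun ((hC g).mp hg) i) l
    rw [Matrix.mul_single_apply_of_ne _ _ _ _ _ hl, Matrix.single_mul_apply_same, one_mul] at h
    exact h.symm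
  have hdiag : ∀ g ∈ C, (g : Matrix (Fin n) (Fin n) F) i i = (g : Matrix (Fin n) (Fin n) F) j j := by
    intro g hg
    have h := congrFun (congrFun ((hC g).mp hg) i) j
    rwa [Matrix.mul_single_apply_same, Matrix.single_mul_apply_same, mul_one, one_mul] at h
  have hii : ∀ g ∈ C, (g : Matrix (Fin n) (Fin n) F) i i = 1 := by
    intro g hg
    refine (hF2 _).resolve_left fun h0 => ?_
    refine absurd (Matrix.det_eq_zero_of_column_eq_zero i fun k => ?_) (by rw [g.2]; exact one_ne_zero)
    rcases eq_or_ne k i with rfl | hk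
    · exact h0
    · exact hcol g hg k hk
  let S := {k : Fin n // k ≠ i ∧ k ≠ j}
  let φ : ↥C →* Matrix S S F :=
    { toFun := fun g => ((g : (Matrix.SpecialLinearGroup (Fin n) F)) : Matrix (Fin n) (Fin n) F).submatrix Subtype.val Subtype.val
      map_one' := by
        rw [OneMemClass.coe_one, Matrix.SpecialLinearGroup.coe_one]
        exact Matrix.submatrix_one _ Subtype.val_injective
      map_mul' := fun g h => by
        ext a b
        rw [Subgroup.coe_mul, Matrix.SpecialLinearGroup.coe_mul]
        simp only [Matrix.submatrix_apply, Matrix.mul_apply]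
        rw [← Finset.sum_subtype (p := fun k => k ≠ i ∧ k ≠ j) (Finset.univ.filter fun k => k ≠ i ∧ k ≠ j)
          (fun x => by simp) (fun k => ((g : (Matrix.SpecialLinearGroup (Fin n) F)) : Matrix (Fin n) (Fin n) F) a.1 k *
            ((h : (Matrix.SpecialLinearGroup (Fin n) F)) : Matrix (Fin n) (Fin n) F) k b.1)]
        refine (Finset.sum_filter_of_ne fun k _ hne => ⟨?_, ?_⟩).symm
        · rintro rfl; exact hne (by rw [hcol _ g.2 _ a.2.1, zero_mul])
        · rintro rfl; exact hne (by rw [hrow _ h.2 _ b.2.2, mul_zero]) }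
  have hN : ∀ g : ↥C, g ∈ φ.ker → ∀ k l, k ≠ i → l ≠ j →
      (((g : (Matrix.SpecialLinearGroup (Fin n) F)) : Matrix (Fin n) (Fin n) F) - 1) k l = 0 := by
    intro g hg k l hk hl
    rw [Matrix.sub_apply]
    rcases eq_or_ne k j with rfl | hkj
    · rw [hrow _ g.2 l hl, Matrix.one_apply_ne hl.symm, sub_zero]
    rcases eq_or_ne l i with rfl | hli
    · rw [hcol _ g.2 k hk, Matrix.one_apply_ne hk, sub_zero]
    · have h0 : φ g = (1 : Matrix S S F) := hg
      have h := Matrix.ext_iff.mpr h0 (⟨k, hk, hkj⟩ : S) (⟨l, hli, hl⟩ : S)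
      change ((g : (Matrix.SpecialLinearGroup (Fin n) F)) : Matrix (Fin n) (Fin n) F) k l = (1 : Matrix S S F) _ _ at h
      rw [h]
      rcases eq_or_ne k l with rfl | hkl
      · simp
      · rw [Matrix.one_apply_ne hkl, Matrix.one_apply_ne (fun e => hkl (congrArg Subtype.val e)), sub_zero]
  have hp : IsPGroup 2 ↥φ.ker := by
    intro g
    refine ⟨2, ?_⟩
    obtain ⟨⟨g, hgC⟩, hg⟩ := g
    set N : Matrix (Fin n) (Fin n) F := (g : Matrix (Fin n) (Fin n) F) - 1 with hNdef
    have hN' : ∀ k l, k ≠ i → l ≠ j → N k l = 0 := hN ⟨g, hgC⟩ hg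
    have hNi : ∀ k, N k i = 0 := by
      intro k
      rw [hNdef, Matrix.sub_apply]
      rcases eq_or_ne k i with rfl | hk
      · rw [hii g hgC]; simp
      · rw [hcol g hgC k hk, Matrix.one_apply_ne hk, sub_zero]
    have hNj : ∀ l, N j l = 0 := by
      intro l
      rw [hNdef, Matrix.sub_apply]
      rcases eq_or_ne l j with rfl | hl
      · rw [← hdiag g hgC, hii g hgC]; simp
      · rw [hrow g hgC l hl, Matrix.one_apply_ne hl.symm, sub_zero]
    have hN2 : ∀ k l, k ≠ i ∨ l ≠ j → (N * N) k l = 0 := by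
      intro k l hkl
      rw [Matrix.mul_apply]
      refine Finset.sum_eq_zero fun m _ => ?_
      rcases eq_or_ne m j with rfl | hmj
      · rw [hNj l, mul_zero]
      rcases eq_or_ne m i with rfl | hmi
      · rw [hNi k, zero_mul]
      rcases hkl with hk | hl
      · rw [hN' k m hk hmj, zero_mul]
      · rw [hN' m l hmi hl, mul_zero]
    have hN4 : N * N * (N * N) = 0 := by
      ext k l
      rw [Matrix.mul_apply, Matrix.zero_apply]
      refine Finset.sum_eq_zero fun m _ => ?_
      rcases eq_or_ne m j with rfl | hmj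
      · rw [hN2 m l (Or.inl hij.symm), mul_zero]
      · rw [hN2 k m (Or.inr hmj), zero_mul]
    have hdouble : ∀ M : Matrix (Fin n) (Fin n) F, M + M = 0 := fun M => by
      ext k l
      rw [Matrix.add_apply, Matrix.zero_apply, ← mul_one (M k l), ← mul_add, h2, mul_zero]
    have hsq : ∀ M : Matrix (Fin n) (Fin n) F, (1 + M) * (1 + M) = 1 + M * M := fun M => by
      have h := hdouble M
      calc (1 + M) * (1 + M) = 1 + (M + M) + M * M := by noncomm_ring
        _ = 1 + M * M := by rw [h, add_zero]
    refine Subtype.ext (Subtype.ext (Subtype.ext ?_))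
    show ((g ^ 2 ^ 2 : (Matrix.SpecialLinearGroup (Fin n) F)) : Matrix (Fin n) (Fin n) F) = 1
    rw [Matrix.SpecialLinearGroup.coe_pow, show (2 : ℕ) ^ 2 = 2 * 2 by rfl, pow_mul, pow_two, pow_two,
      show (g : Matrix (Fin n) (Fin n) F) = 1 + N by rw [hNdef, add_sub_cancel], hsq, hsq, hN4, add_zero]
  refine gfitting_eq_pCore_of_selfCentralizing (MonoidHom.normal_ker φ) hp ?_
  intro g hg
  rw [Subgroup.mem_centralizer_iff] at hg
  -- transvections of the unipotent radical
  have htr : ∀ l, l ≠ i → l ≠ j →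
      ((g : (Matrix.SpecialLinearGroup (Fin n) F)) : Matrix (Fin n) (Fin n) F) * Matrix.single i l 1 =
        Matrix.single i l 1 * ((g : (Matrix.SpecialLinearGroup (Fin n) F)) : Matrix (Fin n) (Fin n) F) := by
    intro l hl hlj
    let v : (Matrix.SpecialLinearGroup (Fin n) F) := ⟨Matrix.transvection i l 1, Matrix.det_transvection_of_ne i l hl.symm 1⟩
    have hv : v ∈ C := by
      rw [hC]
      show Matrix.transvection i l 1 * Matrix.single i j 1 = Matrix.single i j 1 * Matrix.transvection i l 1
      rw [Matrix.transvection, add_mul, mul_add, one_mul, mul_one,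
        Matrix.single_mul_single_of_ne _ _ _ _ hl, Matrix.single_mul_single_of_ne _ _ _ _ hij.symm]
    have hvk : (⟨v, hv⟩ : ↥C) ∈ φ.ker := by
      rw [MonoidHom.mem_ker]
      ext a b
      show Matrix.transvection i l 1 a.1 b.1 = _
      rw [Matrix.transvection, Matrix.add_apply, Matrix.single_apply_of_row_ne a.2.1.symm, add_zero]
      rcases eq_or_ne a b with rfl | hab
      · simp
      · rw [Matrix.one_apply_ne hab, Matrix.one_apply_ne fun e => hab (Subtype.ext e)]
    have h := congrArg (fun x : ↥C => ((x : (Matrix.SpecialLinearGroup (Fin n) F)) : Matrix (Fin n) (Fin n) F)) (hg _ hvk)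
    simp only [Subgroup.coe_mul, Matrix.SpecialLinearGroup.coe_mul] at h
    change Matrix.transvection i l 1 * _ = _ * Matrix.transvection i l 1 at h
    rw [Matrix.transvection, add_mul, mul_add, one_mul, mul_one] at h
    exact (add_left_cancel h).symm
  rw [MonoidHom.mem_ker]
  ext a b
  show ((g : (Matrix.SpecialLinearGroup (Fin n) F)) : Matrix (Fin n) (Fin n) F) a.1 b.1 = _
  have h := congrFun (congrFun (htr a.1 a.2.1 a.2.2) i) b.1
  rcases eq_or_ne a b with rfl | hab
  · rw [Matrix.mul_single_apply_same, Matrix.single_mul_apply_same, hii _ g.2, one_mul, one_mul] at h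
    rw [← h]; simp
  · have hne : b.1 ≠ a.1 := fun e => hab (Subtype.ext e.symm)
    rw [Matrix.mul_single_apply_of_ne _ _ _ _ _ hne, Matrix.single_mul_apply_same, one_mul] at h
    rw [← h, Matrix.one_apply_ne hab]

end Cfsg.Agent.Grp
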