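import Mathlib
import Cfsg.Prelude.Def_Transfer
import Cfsg.Agent.Lib.Grp.HHPLength

/-!
Outside the Fermat primes a `p`-soluble group of `p`-length at least two has a section `C_p ≀ C_p` in a
Sylow `p`-subgroup.
-/

set_option autoImplicit false
set_option linter.style.haveILetI false

namespace Cfsg.Agent.Grp.HHP

open Subgroup
open scoped commutatorElement

universe u

theorem pow_val_add {M : Type*} [Monoid M] {p : ℕ} [NeZero p] {m : M} (hm : m ^ p = 1) (a b : ZMod p) :
    m ^ (a + b).val = m ^ a.val * m ^ b.val := by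
  rw [← pow_add, ZMod.val_add, ← pow_eq_pow_mod _ hm]

theorem involves_of_surjective {A W : Type*} [Group A] [Group W] (K : Subgroup A) (φ : K →* W)
    (hφ : Function.Surjective φ) : Cfsg.Involves W A := by
  have hk : (φ.ker.map K.subtype).subgroupOf K = φ.ker :=
    Subgroup.comap_map_eq_self_of_injective K.subtype_injective _
  haveI hn : ((φ.ker.map K.subtype).subgroupOf K).Normal := by rw [hk]; infer_instance
  exact ⟨K, φ.ker.map K.subtype, hn,
    ⟨(QuotientGroup.quotientMulEquivOfEq hk).trans (QuotientGroup.quotientKerEquivOfSurjective φ hφ)⟩⟩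

/-- The cyclic wreath product is a section of a `p`-subgroup covering a free orbit. -/
theorem involves_wreath {G Γ V : Type u} [Group G] [Finite G] [Group Γ] [Finite Γ] [CommGroup V] [Finite V]
    {p : ℕ} [hp : Fact p.Prime] (q : G →* Γ) (ι : V →* Γ) (hι : Function.Injective ι) (χ : Γ →* MulAut V)
    (hχ : ∀ g v, ι (χ g v) = g * ι v * g⁻¹) (hV : ∀ v : V, v ^ p = 1) (hk : χ.ker ≤ ι.range)
    (P : Subgroup G) (hιP : ι.range ≤ P.map q) {y : Γ} (hy : y ∈ P.map q) (hhp : χ y ^ p = 1)
    {v : V} (hv : ∏ i ∈ Finset.range p, (χ y ^ i) v ≠ 1) :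
    Cfsg.Involves (Multiplicative (ZMod p) ≀ᵣ Multiplicative (ZMod p)) ↥P := by
  classical
  set h := χ y with hh
  have hyp : y ^ p ∈ ι.range := hk (MonoidHom.mem_ker.mpr (by rw [map_pow, ← hh, hhp]))
  have hιker : ∀ w, χ (ι w) = 1 := fun w => MulEquiv.ext fun u => hι (by
    rw [hχ, MulAut.one_apply, ← map_inv, ← map_mul, ← map_mul, mul_inv_cancel_comm])
  set N := ∏ i ∈ Finset.range p, (h ^ i) v with hN
  -- adjust `y`
  obtain ⟨y, hy, hyh, hyp, hNR⟩ : ∃ y' : Γ, y' ∈ P.map q ∧ χ y' = h ∧ y' ^ p ∈ ι.range ∧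
      ι N ∉ zpowers (y' ^ p) := by
    by_cases hmem : ι N ∈ zpowers (y ^ p)
    swap
    · exact ⟨y, hy, hh.symm, hyp, hmem⟩
    obtain ⟨a, ha⟩ : ∃ a : ℕ, y ^ p = ι N ^ a := by
      have hord : orderOf (y ^ p) ∣ p := by
        obtain ⟨w, hw⟩ := hyp
        rw [← hw, orderOf_injective ι hι]
        exact orderOf_dvd_of_pow_eq_one (hV w)
      have hNo : orderOf (ι N) = p := orderOf_eq_prime (by rw [← map_pow, hV, map_one])
        (fun e => hv (hι (e.trans (map_one ι).symm)))
      have hle : zpowers (ι N) = zpowers (y ^ p) := by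
        refine eq_of_le_of_card_ge (zpowers_le.mpr hmem) ?_
        rw [Nat.card_zpowers, Nat.card_zpowers, hNo]
        exact Nat.le_of_dvd hp.out.pos hord
      obtain ⟨a, ha⟩ := (isOfFinOrder_of_finite _).mem_powers_iff_mem_zpowers.mpr (hle ▸ mem_zpowers (y ^ p))
      exact ⟨a, ha.symm⟩
    have hpow := pow_mul_eq_prod ι (fun i w => χ (y ^ i) w) y (fun i w => hχ _ w) (v⁻¹ ^ a) p
    have hprod : ∏ i ∈ Finset.range p, χ (y ^ i) (v⁻¹ ^ a) = N⁻¹ ^ a := by
      rw [hN, ← Finset.prod_inv_distrib, ← Finset.prod_pow]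
      exact Finset.prod_congr rfl fun i _ => by rw [map_pow, map_pow, map_inv, hh]
    rw [hprod, ha, ← map_pow, ← map_mul, ← mul_pow, inv_mul_cancel, one_pow, map_one] at hpow
    refine ⟨ι (v⁻¹ ^ a) * y, mul_mem (hιP ⟨_, rfl⟩) hy, by rw [map_mul, hιker, one_mul, hh], ?_, ?_⟩
    · rw [hpow]; exact one_mem _
    · rw [hpow, zpowers_one_eq_bot, mem_bot]
      exact fun e => hv (hι (e.trans (map_one ι).symm))
  clear hh
  clear_value h
  set R := zpowers (y ^ p) with hR
  have hRι : R ≤ ι.range := zpowers_le.mpr hyp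
  set T := P.map q ⊓ normalizer (R : Set Γ) with hT
  haveI : (R.subgroupOf T).Normal := normal_subgroupOf_of_le_normalizer inf_le_right
  have hyT : y ∈ T := ⟨hy, centralizer_le_normalizer _ (mem_centralizer_iff.mpr fun r hr => by
    obtain ⟨i, rfl⟩ := hr
    exact ((Commute.refl y).pow_left p).zpow_left i |>.eq)⟩
  have hιT : ∀ w, ι w ∈ T := fun w => ⟨hιP ⟨w, rfl⟩, centralizer_le_normalizer _ (mem_centralizer_iff.mpr fun r hr => by
    obtain ⟨u, rfl⟩ := hRι hr
    rw [← map_mul, ← map_mul, mul_comm])⟩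
  let π : T →* T ⧸ R.subgroupOf T := QuotientGroup.mk' _
  have hπ : ∀ t : T, π t = 1 ↔ (t : Γ) ∈ R := fun t => by
    rw [← MonoidHom.mem_ker, QuotientGroup.ker_mk', mem_subgroupOf]
  set yT : T := ⟨y, hyT⟩
  let ιT : V →* T := ι.codRestrict T hιT
  have hyq : π yT ^ p = 1 := by rw [← map_pow, hπ]; exact mem_zpowers _
  let Q := Multiplicative (ZMod p)
  let pw : V → Q → V := fun w d => w ^ d.toAdd.val
  let α : Q → MulAut V := fun x => h ^ x.toAdd.val
  have hα : ∀ a b, α (a * b) = α a * α b := fun a b => pow_val_add hhp _ _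
  let L : (Q → Q) → V := fun f => ∏ x : Q, pw (α x v) (f x)
  let β : Q → T ⧸ R.subgroupOf T := fun x => π yT ^ x.toAdd.val
  have hβ : ∀ a b, β (a * b) = β a * β b := fun a b => pow_val_add hyq _ _
  have hLmul : ∀ f f', L (f * f') = L f * L f' := fun f f' => by
    simp only [L, ← Finset.prod_mul_distrib]
    exact Finset.prod_congr rfl fun x _ => pow_val_add (hV _) _ _
  have hLshift : ∀ i f, α i (L f) = L (fun x => f (i⁻¹ * x)) := fun i f => by
    simp only [L, map_prod]
    refine Fintype.prod_equiv (Equiv.mulLeft i) _ _ fun x => ?_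
    simp only [pw, map_pow, Equiv.coe_mulLeft]
    rw [← MulAut.mul_apply, hα, inv_mul_cancel_left]
  have hconj : ∀ (i : Q) (w : V), β i * π (ιT w) = π (ιT (α i w)) * β i := fun i w => by
    simp only [β, ← map_pow, ← map_mul]
    congr 1
    refine Subtype.ext ?_
    show y ^ i.toAdd.val * ι w = ι ((h ^ i.toAdd.val) w) * y ^ i.toAdd.val
    rw [← hyh, ← map_pow, hχ, inv_mul_cancel_right]
  let Φ : Q ≀ᵣ Q →* T ⧸ R.subgroupOf T := MonoidHom.mk' (fun w => π (ιT (L w.left)) * β w.right) fun a b => by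
    show π (ιT (L (a.left * fun x => b.left (a.right⁻¹ * x)))) * β (a.right * b.right) = _
    rw [hLmul, ← hLshift, map_mul, map_mul, hβ, mul_assoc, ← mul_assoc (π (ιT (α _ _))), ← hconj, mul_assoc (β a.right),
      ← mul_assoc (π (ιT (L a.left)))]
  -- injectivity
  haveI : NeZero p := ⟨hp.out.ne_zero⟩
  have hQc : Nat.card Q = p := by rw [Nat.card_congr Multiplicative.toAdd, Nat.card_zmod]
  haveI : Nontrivial Q := Finite.one_lt_card_iff_nontrivial.mp (hQc ▸ hp.out.one_lt)
  have hWp : IsPGroup p (Q ≀ᵣ Q) := IsPGroup.of_card (n := p + 1) (by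
    rw [RegularWreathProduct.card, hQc, ← pow_succ])
  have hΦ : Function.Injective Φ := by
    rw [← MonoidHom.ker_eq_bot_iff]
    by_contra hne
    haveI := hWp.isNilpotent
    obtain ⟨z, ⟨hzk, hzc⟩, hz1⟩ := (bot_or_exists_ne_one _).resolve_left (inf_center_ne_bot Φ.ker hne)
    have hzr : z.right = 1 := by
      by_contra hr
      obtain ⟨d, hd⟩ := exists_ne (1 : Q)
      have e := congrArg (fun w : Q ≀ᵣ Q => w.left z.right)
        (mem_center_iff.mp hzc ⟨fun x => if x = 1 then d else 1, 1⟩)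
      simp [hr] at e
      exact hd e
    have hzc' : ∀ i x : Q, z.left (i * x) = z.left x := fun i x => by
      have e := congrArg (fun w : Q ≀ᵣ Q => w.left (i * x)) (mem_center_iff.mp hzc (RegularWreathProduct.inl i))
      simp [hzr] at e
      exact e.symm
    set d := z.left 1 with hd
    have hconst : z.left = fun _ => d := funext fun x => by have := hzc' x 1; rwa [mul_one] at this
    have hd1 : d.toAdd.val ≠ 0 := fun e => hz1 (by
      refine RegularWreathProduct.ext ?_ hzr
      rw [hconst]; funext x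
      show d = 1
      have e' := (ZMod.val_eq_zero d.toAdd).mp e
      exact Multiplicative.toAdd.injective e')
    have hz : π (ιT (L z.left)) * β z.right = 1 := hzk
    rw [hzr, show β 1 = 1 by simp [β], mul_one, hπ] at hz
    have hL : L z.left = N ^ d.toAdd.val := by
      rw [hconst, hN, ← Finset.prod_pow, Finset.prod_range]
      refine Fintype.prod_equiv (Multiplicative.toAdd.trans (ZMod.finEquiv p).symm.toEquiv) _ _ fun x => ?_
      show ((h ^ x.toAdd.val) v) ^ _ = ((h ^ (((ZMod.finEquiv p).symm x.toAdd : Fin p) : ℕ)) v) ^ _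
      congr 3
      obtain ⟨k, hk'⟩ := Nat.exists_eq_succ_of_ne_zero hp.out.ne_zero
      subst hk'
      rfl
    rw [hL] at hz
    have hz' : ι N ^ d.toAdd.val ∈ R := by rw [← map_pow]; exact hz
    refine hNR ?_
    have hcop : d.toAdd.val.Coprime (orderOf (ι N)) := by
      refine Nat.Coprime.coprime_dvd_right (orderOf_dvd_of_pow_eq_one (by rw [← map_pow, hV, map_one])) ?_
      exact (hp.out.coprime_iff_not_dvd.mpr fun hdd =>
        absurd (Nat.le_of_dvd (Nat.pos_of_ne_zero hd1) hdd) (not_le.mpr (ZMod.val_lt _))).symm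
    obtain ⟨k, hk'⟩ := exists_pow_eq_self_of_coprime hcop
    rw [← hk']
    exact R.pow_mem hz' k
  -- pull the image back into `P`
  let qP : ↥P →* ↥(P.map q) := q.subgroupMap P
  set K : Subgroup P := (((Φ.range).comap π).map T.subtype).comap (q.comp P.subtype)
  have hKT : ∀ k : K, q ((k : P) : G) ∈ T := fun k => by
    obtain ⟨t, -, ht⟩ := (k.2 : q ((k : P) : G) ∈ ((Φ.range).comap π).map T.subtype)
    show q ((k : P) : G) ∈ T
    rw [show q ((k : P) : G) = (t : Γ) from ht.symm]; exact t.2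
  let g : K →* T := ((q.comp P.subtype).comp K.subtype).codRestrict T hKT
  have hg : ∀ k : K, π (g k) ∈ Φ.range := fun k => by
    obtain ⟨t, ht, hte⟩ := (k.2 : q ((k : P) : G) ∈ ((Φ.range).comap π).map T.subtype)
    rw [show g k = t from Subtype.ext hte.symm]
    exact ht
  refine involves_of_surjective K
    ((MonoidHom.ofInjective hΦ).symm.toMonoidHom.comp ((π.comp g).codRestrict Φ.range hg)) ?_
  refine (MonoidHom.ofInjective hΦ).symm.surjective.comp ?_
  rintro ⟨z, hz⟩
  obtain ⟨t, rfl⟩ := QuotientGroup.mk'_surjective _ z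
  obtain ⟨a, ha, hat⟩ := (inf_le_left : T ≤ P.map q) t.2
  refine ⟨⟨⟨a, ha⟩, show q a ∈ ((Φ.range).comap π).map T.subtype from ⟨t, hz, hat.symm⟩⟩, Subtype.ext ?_⟩
  show π _ = π t
  congr 1
  exact Subtype.ext hat

/-- A `p`-soluble group of `p`-length at least two, `p` odd not Fermat, involves `C_p ≀ C_p`. -/
theorem exists_wreath_section {G : Type u} [Group G] [Finite G] {p : ℕ} [hp : Fact p.Prime] (hp2 : p ≠ 2)
    (hnf : ¬ ∃ k, p = 2 ^ k + 1) (hG : Cfsg.IsPSolvable p G) (P : Sylow p G) (hl : ¬ Cfsg.PLengthLE p 1 G) :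
    Cfsg.Involves (Multiplicative (ZMod p) ≀ᵣ Multiplicative (ZMod p)) ↥(P : Subgroup G) := by
  classical
  obtain ⟨Γ, V, _, _, _, _, q, ι, χ, hq, hι, hχ, hV, -, hker, hO, hk⟩ := exists_action (p := p) hG
  set ψ := χ.comp q
  have hf := ψ.rangeRestrict_surjective
  have hdvd : p ∣ Nat.card ψ.range := by
    by_contra hd
    refine hl (top_le_iff.mp (le_uSer_succ_even (n := 2) even_two inferInstance hker ?_))
    rwa [relIndex_top_right, index_ker]
  set PH := P.mapSurjective hf
  have hPH : (PH : Subgroup ψ.range) = (P : Subgroup G).map ψ.rangeRestrict := rfl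
  obtain ⟨z, hz⟩ := exists_prime_orderOf_dvd_card' (G := (PH : Subgroup ψ.range)) p (PH.dvd_card_of_dvd_card hdvd)
  obtain ⟨x, hxP, hxz⟩ : ∃ x ∈ (P : Subgroup G), ψ.rangeRestrict x = z := by
    have h1 : (z : ψ.range) ∈ (P : Subgroup G).map ψ.rangeRestrict := hPH ▸ z.2
    exact h1
  have hx : χ (q x) = ((z : ψ.range) : MulAut V) := congrArg Subtype.val hxz
  have hzo : orderOf ((z : ψ.range) : MulAut V) = p := by rw [orderOf_coe, orderOf_coe, hz]
  have hιP : ι.range ≤ (P : Subgroup G).map q := by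
    haveI : ι.range.Normal := ⟨fun y ⟨w, hw⟩ g => ⟨χ g w, by rw [hχ, hw]⟩⟩
    have hVp : IsPGroup p ι.range := by
      rintro ⟨_, w, rfl⟩
      exact ⟨1, Subtype.ext (by show ι w ^ p ^ 1 = 1; rw [pow_one, ← map_pow, hV, map_one])⟩
    exact IsPGroup.le_sylow_of_normal (p := p) hVp (P.mapSurjective hq)
  have hhp : χ (q x) ^ p = 1 := by
    rw [hx]
    exact orderOf_dvd_iff_pow_eq_one.mp hzo.dvd
  have hne : χ (q x) ≠ 1 := fun e => by
    rw [hx] at e
    rw [e, orderOf_one] at hzo
    exact hp.out.one_lt.ne hzo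
  obtain ⟨v, hv⟩ : ∃ v, ∏ i ∈ Finset.range p, (χ (q x) ^ i) v ≠ 1 := by
    by_contra hall
    push Not at hall
    obtain ⟨W, _, _, _, L, hL, hLn, -⟩ := HHExc.exists_linearization (p := p) hV
    haveI : CharP (AlgebraicClosure (ZMod p)) p :=
      charP_of_injective_algebraMap (algebraMap (ZMod p) (AlgebraicClosure (ZMod p))).injective p
    have h1 := pow_eq_one_of_norm hp2 (isPSolvable_map hG _ hf) hO (ρ := L.comp ψ.range.subtype)
      (hL.comp ψ.range.subtype_injective) (h := ψ.rangeRestrict x) (m := 0)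
      (Subtype.ext (by simpa [ψ] using hhp)) (hLn _ 1 (by simpa [ψ] using hall)) (le_of_eq (by rw [zero_add]))
      (Or.inl hnf)
    rw [pow_zero, pow_one] at h1
    exact hne (congrArg Subtype.val h1)
  exact involves_wreath q ι hι χ hχ hV hk P hιP ⟨x, hxP, rfl⟩ hhp hv

end Cfsg.Agent.Grp.HHP
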