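import Mathlib

/-!
The derived length of a linear p-group of degree n is at most `log₂ n + 1`.
-/

set_option autoImplicit false

namespace Cfsg.Agent.Grp.DerivedLength

open scoped commutatorElement
open Module Subgroup

universe u v w

theorem map_derivedSeries_le {A B : Type*} [Group A] [Group B] (f : A →* B) (k : ℕ) :
    (derivedSeries A k).map f ≤ derivedSeries B k := by
  induction k with
  | zero => simp
  | succ k ih =>
      rw [derivedSeries_succ, derivedSeries_succ, map_commutator]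
      exact commutator_mono ih ih

theorem derivedSeries_le_map {P : Type*} [Group P] (M : Subgroup P) (h : commutator P ≤ M) (k : ℕ) :
    derivedSeries P (k + 1) ≤ (derivedSeries M k).map M.subtype := by
  induction k with
  | zero => simpa [derivedSeries_zero, ← MonoidHom.range_eq_map] using h
  | succ k ih =>
      change ⁅derivedSeries P (k + 1), derivedSeries P (k + 1)⁆ ≤ (⁅derivedSeries M k, derivedSeries M k⁆).map M.subtype
      rw [map_commutator]
      exact commutator_mono ih ih

variable {P : Type u} [Group P] {F : Type v} [Field F] {V : Type w} [AddCommGroup V] [Module F V]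

/-- The representation on an invariant subspace. -/
noncomputable def subRep (ρ : P →* Module.End F V) (W : Submodule F V)
    (hW : ∀ g : P, ∀ x ∈ W, ρ g x ∈ W) : P →* Module.End F W where
  toFun g := (ρ g).restrict (hW g)
  map_one' := LinearMap.ext fun x => Subtype.ext (by simp [LinearMap.restrict_apply])
  map_mul' g h := LinearMap.ext fun x => Subtype.ext (by simp [LinearMap.restrict_apply])

/-- The representation on the quotient by an invariant subspace. -/
noncomputable def quotRep (ρ : P →* Module.End F V) (W : Submodule F V)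
    (hW : ∀ g : P, ∀ x ∈ W, ρ g x ∈ W) : P →* Module.End F (V ⧸ W) where
  toFun g := W.mapQ W (ρ g) (fun x hx => hW g x hx)
  map_one' := Submodule.linearMap_qext _ (LinearMap.ext fun x => by simp)
  map_mul' g h := Submodule.linearMap_qext _ (LinearMap.ext fun x => by simp)

theorem apply_eq_of_subRep {ρ : P →* Module.End F V} {W : Submodule F V}
    {hW : ∀ g : P, ∀ x ∈ W, ρ g x ∈ W} {g : P} (hg : g ∈ (subRep ρ W hW).ker) {x : V} (hx : x ∈ W) :
    ρ g x = x :=
  congrArg Subtype.val (LinearMap.congr_fun (MonoidHom.mem_ker.mp hg) ⟨x, hx⟩)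

theorem sub_mem_of_quotRep {ρ : P →* Module.End F V} {W : Submodule F V}
    {hW : ∀ g : P, ∀ x ∈ W, ρ g x ∈ W} {g : P} (hg : g ∈ (quotRep ρ W hW).ker) (x : V) :
    ρ g x - x ∈ W :=
  (Submodule.Quotient.eq W).mp (LinearMap.congr_fun (MonoidHom.mem_ker.mp hg) (Submodule.Quotient.mk x))

theorem rep_mul_apply (ρ : P →* Module.End F V) (g h : P) (x : V) : ρ (g * h) x = ρ g (ρ h x) := by
  rw [map_mul]; rfl

variable [Finite P] {p : ℕ} [Fact p.Prime]

theorem exists_fixed_mod (hP : IsPGroup p P) [CharP F p] (ρ : P →* Module.End F V) (W : Submodule F V)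
    (hW : ∀ g : P, ∀ x ∈ W, ρ g x ∈ W) (hne : W ≠ ⊤) : ∃ v ∉ W, ∀ g, ρ g v - v ∈ W := by
  set σ := quotRep ρ W hW with hσ
  obtain ⟨v0, -, hv0⟩ := SetLike.exists_of_lt (lt_top_iff_ne_top.mpr hne)
  have hp0 : ∀ q : V ⧸ W, p • q = 0 := fun q => by
    rw [← Nat.cast_smul_eq_nsmul F, CharP.cast_eq_zero, zero_smul]
  let q0 : V ⧸ W := Submodule.Quotient.mk v0
  let S : AddSubgroup (V ⧸ W) := AddSubgroup.closure (Set.range fun g => σ g q0)
  haveI : AddGroup.FG ↥S := (AddGroup.fg_iff_addSubgroup_fg S).mpr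
    ((AddSubgroup.fg_iff _).mpr ⟨_, rfl, Set.finite_range _⟩)
  have htor : IsAddTorsion ↥S := fun x =>
    isOfFinAddOrder_iff_nsmul_eq_zero.mpr ⟨p, (Fact.out : p.Prime).pos, Subtype.ext (hp0 x.1)⟩
  haveI : Finite ↥S := AddCommGroup.finite_of_fg_isAddTorsion ↥S htor
  have hstab : ∀ g : P, ∀ x ∈ S, σ g x ∈ S := fun g x hx => by
    refine AddSubgroup.closure_induction (fun y hy => ?_) (by simp) (fun a b _ _ ha hb => ?_)
      (fun a _ ha => ?_) hx
    · obtain ⟨h, rfl⟩ := hy
      exact AddSubgroup.subset_closure ⟨g * h, rep_mul_apply σ g h q0⟩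
    · rw [map_add]; exact add_mem ha hb
    · rw [map_neg]; exact neg_mem ha
  letI : MulAction P ↥S :=
    { smul := fun g x => ⟨σ g x, hstab g _ x.2⟩
      one_smul := fun x => Subtype.ext (show σ 1 x.1 = x.1 by rw [map_one]; rfl)
      mul_smul := fun g h x => Subtype.ext (rep_mul_apply σ g h x.1) }
  have hq0 : q0 ∈ S := AddSubgroup.subset_closure ⟨1, by simp⟩
  have hd : p ∣ Nat.card ↥S := by
    have h1 : addOrderOf (⟨q0, hq0⟩ : ↥S) = p := by
      refine addOrderOf_eq_prime (Subtype.ext (hp0 q0)) fun h => hv0 ?_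
      exact (Submodule.Quotient.mk_eq_zero W).mp (congrArg Subtype.val h)
    rw [← h1]; exact addOrderOf_dvd_natCard _
  obtain ⟨x, hx, hx0⟩ := hP.exists_fixed_point_of_prime_dvd_card_of_fixed_point (α := ↥S) hd
    (a := 0) (fun g => Subtype.ext (map_zero _))
  obtain ⟨v, hv⟩ := Submodule.Quotient.mk_surjective W x.1
  refine ⟨v, fun h => hx0 (Subtype.ext ?_), fun g => (Submodule.Quotient.eq W).mp ?_⟩
  · rw [← hv, (Submodule.Quotient.mk_eq_zero W).mpr h]; rfl
  · have := congrArg Subtype.val (hx g)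
    change σ g x.1 = x.1 at this
    rw [← hv] at this
    exact this

theorem exists_invariant [FiniteDimensional F V] (hP : IsPGroup p P) [CharP F p]
    (ρ : P →* Module.End F V) : ∀ j ≤ finrank F V,
      ∃ W : Submodule F V, (∀ g : P, ∀ x ∈ W, ρ g x ∈ W) ∧ finrank F W = j
  | 0, _ => ⟨⊥, fun g x hx => by simp [(Submodule.mem_bot F).mp hx], finrank_bot F V⟩
  | j + 1, hj => by
      obtain ⟨W, hW, hWd⟩ := exists_invariant hP ρ j (by omega)
      have hne : W ≠ ⊤ := fun h => by
        have := finrank_top F V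
        rw [h] at hWd
        omega
      obtain ⟨v, hv, hfix⟩ := exists_fixed_mod hP ρ W hW hne
      refine ⟨W ⊔ F ∙ v, fun g x hx => ?_, ?_⟩
      · obtain ⟨w, hw, y, hy, rfl⟩ := Submodule.mem_sup.mp hx
        obtain ⟨c, rfl⟩ := Submodule.mem_span_singleton.mp hy
        rw [map_add, map_smul, show ρ g w + c • ρ g v = (ρ g w + c • (ρ g v - v)) + c • v by
          rw [smul_sub]; abel]
        exact add_mem (Submodule.mem_sup_left (add_mem (hW g w hw) (W.smul_mem c (hfix g))))
          (Submodule.mem_sup_right (Submodule.smul_mem _ c (Submodule.mem_span_singleton_self v)))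
      · have h0 : v ≠ 0 := fun h => hv (h ▸ W.zero_mem)
        have hi : W ⊓ (F ∙ v) = ⊥ := by
          refine (Submodule.eq_bot_iff _).mpr fun x hx => ?_
          obtain ⟨c, rfl⟩ := Submodule.mem_span_singleton.mp hx.2
          by_contra hne0
          have hc : c ≠ 0 := fun h => hne0 (by simp [h])
          exact hv (by simpa [smul_smul, hc] using W.smul_mem c⁻¹ hx.1)
        have := Submodule.finrank_sup_add_finrank_inf_eq W (F ∙ v)
        rw [hi, finrank_bot, finrank_span_singleton h0, hWd] at this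
        omega

theorem unipotent (k : ℕ) : ∀ (P : Type u) [Group P] [Finite P] (_ : IsPGroup p P) (F : Type v) [Field F]
    [CharP F p] (V : Type w) [AddCommGroup V] [Module F V] [FiniteDimensional F V]
    (ρ : P →* Module.End F V), finrank F V ≤ 2 ^ k → derivedSeries P k ≤ ρ.ker := by
  induction k with
  | zero =>
      intro P _ _ hP F _ _ V _ _ _ ρ hd g _
      rw [pow_zero] at hd
      rw [MonoidHom.mem_ker]
      refine LinearMap.ext fun x => ?_
      by_contra hne
      have hx : (⊥ : Submodule F V) ≠ ⊤ := fun h => hne (by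
        have : x ∈ (⊥ : Submodule F V) := h ▸ Submodule.mem_top
        simp [(Submodule.mem_bot F).mp this])
      obtain ⟨v, hv, hfix⟩ := exists_fixed_mod hP ρ ⊥ (fun g y hy => by simp [(Submodule.mem_bot F).mp hy]) hx
      obtain ⟨c, rfl⟩ := exists_smul_eq_of_finrank_eq_one
        (le_antisymm hd (finrank_pos_iff_exists_ne_zero.mpr ⟨v, fun h => hv (by simp [h])⟩))
        (fun h => hv (by simp [h]) : v ≠ 0) x
      exact hne (by rw [map_smul, sub_eq_zero.mp ((Submodule.mem_bot F).mp (hfix g))]; rfl)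
  | succ k ih =>
      intro P _ _ hP F _ _ V _ _ _ ρ hd
      have hpow : 2 ^ (k + 1) = 2 ^ k + 2 ^ k := by ring
      obtain ⟨W, hW, hWd⟩ := exists_invariant hP ρ (min (2 ^ k) (finrank F V)) (min_le_right _ _)
      have h1 := ih P hP F W (subRep ρ W hW) (by omega)
      have h2 := ih P hP F (V ⧸ W) (quotRep ρ W hW) (by
        have := W.finrank_quotient_add_finrank
        omega)
      rw [derivedSeries_succ, commutator_le]
      intro g hg h hh
      have key : ∀ a ∈ derivedSeries P k, ∀ b ∈ derivedSeries P k, ∀ x : V,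
          ρ (a * b) x = x + (ρ a x - x) + (ρ b x - x) := by
        intro a ha b hb x
        rw [rep_mul_apply]
        have := apply_eq_of_subRep (h1 ha) (sub_mem_of_quotRep (h2 hb) x)
        rw [map_sub, sub_eq_iff_eq_add] at this
        rw [this]; abel
      have hc : ρ (g * h) = ρ (h * g) := LinearMap.ext fun x => by rw [key g hg h hh, key h hh g hg]; abel
      rw [MonoidHom.mem_ker, show ⁅g, h⁆ = (g * h) * (h * g)⁻¹ by rw [commutatorElement_def]; group,
        map_mul, hc, ← map_mul, mul_inv_cancel, map_one]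

theorem coprime_char [IsAlgClosed F] (hp : (p : F) ≠ 0) (n : ℕ) :
    ∀ (P : Type u) [Group P] [Finite P] (_ : IsPGroup p P) (V : Type w) [AddCommGroup V] [Module F V]
      [FiniteDimensional F V] (ρ : P →* Module.End F V), finrank F V ≤ n →
      derivedSeries P (Nat.log 2 n + 1) ≤ ρ.ker := by
  induction n using Nat.strong_induction_on with
  | _ n ih =>
  intro P _ _ hP V _ _ _ ρ hd
  by_cases hred : ∃ W : Submodule F V, (∀ g : P, ∀ x ∈ W, ρ g x ∈ W) ∧ W ≠ ⊥ ∧ W ≠ ⊤
  · obtain ⟨W, hW, hW0, hW1⟩ := hred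
    intro g hg
    have hWpos : 0 < finrank F W :=
      Nat.pos_of_ne_zero fun h => hW0 (Submodule.finrank_eq_zero.mp h)
    have hWlt : finrank F W < finrank F V := Submodule.finrank_lt hW1
    have hsum := W.finrank_quotient_add_finrank
    have hmono : ∀ m < n, derivedSeries P (Nat.log 2 n + 1) ≤ derivedSeries P (Nat.log 2 m + 1) :=
      fun m hm => derivedSeries_antitone P (by have := Nat.log_mono_right (b := 2) hm.le; omega)
    have h1 : g ∈ (subRep ρ W hW).ker :=
      ih _ (by omega) P hP W (subRep ρ W hW) le_rfl (hmono _ (by omega) hg)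
    have h2 : g ∈ (quotRep ρ W hW).ker :=
      ih _ (by omega) P hP (V ⧸ W) (quotRep ρ W hW) le_rfl (hmono _ (by omega) hg)
    rw [MonoidHom.mem_ker]
    refine LinearMap.ext fun x => ?_
    obtain ⟨w, hw, hgx⟩ : ∃ w ∈ W, ρ g x = x + w :=
      ⟨_, sub_mem_of_quotRep h2 x, by abel⟩
    have hpow : ∀ j : ℕ, ρ (g ^ j) x = x + j • w := by
      intro j
      induction j with
      | zero => simp
      | succ j ihj =>
          rw [pow_succ', rep_mul_apply, ihj, map_add, map_nsmul, apply_eq_of_subRep h1 hw, hgx,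
            succ_nsmul]
          abel
    obtain ⟨m, hm⟩ := hP g
    have := hpow (p ^ m)
    rw [hm, map_one] at this
    have hw0 : ((p ^ m : ℕ) : F) • w = 0 := by
      rw [Nat.cast_smul_eq_nsmul]
      exact add_eq_left.mp this.symm
    rcases smul_eq_zero.mp hw0 with h | h
    · rw [Nat.cast_pow] at h; exact absurd (pow_eq_zero_iff'.mp h).1 hp
    · rw [hgx, h, add_zero]; rfl
  · push Not at hred
    by_cases hsc : ∀ g : P, ∃ c : F, ρ g = c • 1
    · refine le_trans (derivedSeries_antitone P (by omega : 1 ≤ Nat.log 2 n + 1)) ?_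
      rw [derivedSeries_one, commutator_eq_closure, closure_le]
      rintro _ ⟨g, h, rfl⟩
      obtain ⟨c, hc⟩ := hsc g
      have hcomm : ρ (g * h) = ρ (h * g) := by rw [map_mul, map_mul, hc]; simp
      rw [SetLike.mem_coe, MonoidHom.mem_ker,
        show ⁅g, h⁆ = (g * h) * (h * g)⁻¹ by rw [commutatorElement_def]; group,
        map_mul, hcomm, ← map_mul, mul_inv_cancel, map_one]
    have hinv : ∀ g : P, ρ g⁻¹ * ρ g = 1 ∧ ρ g * ρ g⁻¹ = 1 := fun g =>
      ⟨by rw [← map_mul, inv_mul_cancel, map_one], by rw [← map_mul, mul_inv_cancel, map_one]⟩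
    let Z : Subgroup P :=
      { carrier := {g | ∃ c : F, ρ g = c • 1}
        one_mem' := ⟨1, by simp⟩
        mul_mem' := fun {a b} ⟨c, hc⟩ ⟨d, hd⟩ => ⟨c * d, by rw [map_mul, hc, hd, smul_mul_smul_comm, mul_one]⟩
        inv_mem' := fun {a} ⟨c, hc⟩ => by
          by_cases hc0 : c = 0
          · refine ⟨0, ?_⟩
            have h1 := (hinv a).1
            rw [hc, hc0, zero_smul, mul_zero] at h1
            rw [zero_smul, ← one_mul (ρ a⁻¹), ← h1, zero_mul]
          · refine ⟨c⁻¹, ?_⟩
            have h1 := (hinv a).1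
            rw [hc, mul_smul_comm, mul_one] at h1
            rw [← h1, smul_smul, inv_mul_cancel₀ hc0, one_smul] }
    haveI : Z.Normal := ⟨fun a ⟨c, hc⟩ g => ⟨c, by
      rw [map_mul, map_mul, hc, mul_smul_comm, mul_one, smul_mul_assoc, (hinv g).2]⟩⟩
    push Not at hsc
    obtain ⟨g0, hg0⟩ := hsc
    haveI : Nontrivial (P ⧸ Z) :=
      ⟨⟨(g0 : P ⧸ Z), 1, fun h => by
        obtain ⟨c, hc⟩ := (QuotientGroup.eq_one_iff g0).mp h
        exact hg0 c hc⟩⟩
    haveI : Nontrivial (Subgroup.center (P ⧸ Z)) := (hP.to_quotient Z).center_nontrivial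
    obtain ⟨⟨a', ha'⟩, ha1⟩ := exists_ne (1 : Subgroup.center (P ⧸ Z))
    obtain ⟨a, rfl⟩ := QuotientGroup.mk_surjective a'
    have hanot : ∀ c : F, ρ a ≠ c • 1 := fun c hc =>
      ha1 (Subtype.ext ((QuotientGroup.eq_one_iff a).mpr ⟨c, hc⟩))
    have hcen : ∀ g : P, ∃ c : F, ρ g * ρ a = c • (ρ a * ρ g) := fun g => by
      obtain ⟨c, hc⟩ : (g * a) * (a * g)⁻¹ ∈ Z := by
        rw [← QuotientGroup.eq_one_iff, QuotientGroup.mk_mul, QuotientGroup.mk_inv, QuotientGroup.mk_mul,
          QuotientGroup.mk_mul, Subgroup.mem_center_iff.mp ha' g, mul_inv_cancel]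
      refine ⟨c, ?_⟩
      rw [← map_mul, ← map_mul, show g * a = ((g * a) * (a * g)⁻¹) * (a * g) by group, map_mul, hc,
        smul_mul_assoc, one_mul]
    let M : Subgroup P :=
      { carrier := {g | ρ g * ρ a = ρ a * ρ g}
        one_mem' := by simp
        mul_mem' := fun {x y} (hx : _ = _) (hy : _ = _) => show ρ (x * y) * ρ a = ρ a * ρ (x * y) by
          rw [map_mul, mul_assoc, hy, ← mul_assoc, hx, mul_assoc]
        inv_mem' := fun {x} (hx : _ = _) => show ρ x⁻¹ * ρ a = ρ a * ρ x⁻¹ by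
          calc ρ x⁻¹ * ρ a = ρ x⁻¹ * ρ a * (ρ x * ρ x⁻¹) := by rw [(hinv x).2, mul_one]
            _ = ρ x⁻¹ * (ρ x * ρ a) * ρ x⁻¹ := by rw [hx]; simp only [mul_assoc]
            _ = ρ a * ρ x⁻¹ := by rw [← mul_assoc, (hinv x).1, one_mul] }
    have hcomm : commutator P ≤ M := by
      rw [commutator_eq_closure, closure_le]
      rintro _ ⟨g, h, rfl⟩
      obtain ⟨c, hc⟩ := hcen g
      obtain ⟨d, hd⟩ := hcen h
      have e : ρ (g * h) * ρ a = (c * d) • (ρ a * ρ (g * h)) := by
        rw [map_mul, mul_assoc, hd, mul_smul_comm, ← mul_assoc, hc, smul_mul_assoc, smul_smul,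
          mul_assoc, mul_comm d c]
      have e' : ρ (h * g) * ρ a = (c * d) • (ρ a * ρ (h * g)) := by
        rw [map_mul, mul_assoc, hc, mul_smul_comm, ← mul_assoc, hd, smul_mul_assoc, smul_smul, mul_assoc]
      show ρ ⁅g, h⁆ * ρ a = ρ a * ρ ⁅g, h⁆
      have hgh : ⁅g, h⁆ * (h * g) = g * h := by rw [commutatorElement_def]; group
      rw [← hgh, map_mul, mul_assoc, e', mul_smul_comm, ← mul_assoc, ← mul_assoc] at e
      rcases eq_or_ne (c * d) 0 with h0 | h0
      · exfalso
        rw [h0, zero_smul] at e'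
        have e2 : ρ a = 0 := by
          rw [← one_mul (ρ a), ← (hinv (h * g)).1, mul_assoc, e', mul_zero]
        exact hanot 0 (by rw [e2, zero_smul])
      · have := smul_right_injective (Module.End F V) h0 e
        calc ρ ⁅g, h⁆ * ρ a = ρ ⁅g, h⁆ * ρ a * (ρ (h * g) * ρ (h * g)⁻¹) := by rw [(hinv _).2, mul_one]
          _ = ρ a * ρ ⁅g, h⁆ * (ρ (h * g) * ρ (h * g)⁻¹) := by
            rw [← mul_assoc, this, mul_assoc]
          _ = ρ a * ρ ⁅g, h⁆ := by rw [(hinv _).2, mul_one]
    haveI : M.Normal := ⟨fun m hm g => by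
      have : ⁅g, m⁆ * m ∈ M := M.mul_mem
        (hcomm (commutator_mem_commutator (mem_top g) (mem_top m))) hm
      simpa [commutatorElement_def] using this⟩
    haveI : Nontrivial V := by
      by_contra hnt
      rw [not_nontrivial_iff_subsingleton] at hnt
      exact hanot 0 (Subsingleton.elim _ _)
    obtain ⟨μ, hμ⟩ := Module.End.exists_eigenvalue (ρ a)
    set E := Module.End.eigenspace (ρ a) μ with hE
    have hEinv : ∀ m : M, ∀ x ∈ E, ρ m x ∈ E := fun m x hx => by
      rw [hE, Module.End.mem_eigenspace_iff] at hx ⊢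
      have := LinearMap.congr_fun m.2 x
      change ρ m.1 (ρ a x) = ρ a (ρ m.1 x) at this
      rw [← this, hx, map_smul]
    have hEtop : E ≠ ⊤ := fun h => hanot μ (LinearMap.ext fun x => by
      have : x ∈ E := h ▸ Submodule.mem_top
      simpa [hE, Module.End.mem_eigenspace_iff] using this)
    classical
    have hex : ∃ j, ∃ W : Submodule F V, (∀ m : M, ∀ x ∈ W, ρ m x ∈ W) ∧ W ≠ ⊥ ∧ finrank F W = j :=
      ⟨_, E, hEinv, hμ, rfl⟩
    obtain ⟨W, hW, hW0, hWd⟩ := Nat.find_spec hex
    have hWlt : finrank F W < finrank F V :=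
      lt_of_le_of_lt (hWd ▸ Nat.find_min' hex ⟨E, hEinv, hμ, rfl⟩) (Submodule.finrank_lt hEtop)
    have hinj : ∀ g : P, Function.Injective (ρ g) := fun g => Function.LeftInverse.injective
      (g := ρ g⁻¹) fun x => LinearMap.congr_fun (hinv g).1 x
    have hgW : ∀ g : P, ∀ m : M, ∀ x ∈ W.map (ρ g), ρ m x ∈ W.map (ρ g) := by
      rintro g m x ⟨y, hy, rfl⟩
      refine ⟨ρ (g⁻¹ * m * g) y,
        hW ⟨_, by simpa using Subgroup.Normal.conj_mem ‹M.Normal› m.1 m.2 g⁻¹⟩ y hy, ?_⟩
      rw [← rep_mul_apply, ← rep_mul_apply, show g * (g⁻¹ * (m : P) * g) = m * g by group]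
    have hdim : ∀ g : P, finrank F (W.map (ρ g)) = finrank F W := fun g =>
      (LinearEquiv.finrank_eq (Submodule.equivMapOfInjective (ρ g) (hinj g) W)).symm
    obtain ⟨g, hg⟩ : ∃ g : P, W.map (ρ g) ≠ W := by
      by_contra hall
      push Not at hall
      have := hred W (fun g x hx => (hall g).le ⟨x, hx, rfl⟩) hW0
      rw [this, finrank_top] at hWlt
      omega
    have hint : W.map (ρ g) ⊓ W = ⊥ := by
      by_contra hne
      have h1 : Nat.find hex ≤ finrank F ↥(W.map (ρ g) ⊓ W) := Nat.find_min' hex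
        ⟨W.map (ρ g) ⊓ W, fun m x hx => Submodule.mem_inf.mpr ⟨hgW g m x hx.1, hW m x hx.2⟩, hne, rfl⟩
      rw [← hWd] at h1
      have e1 : W.map (ρ g) ⊓ W = W := Submodule.eq_of_le_of_finrank_le inf_le_right h1
      exact hg (Submodule.eq_of_le_of_finrank_le
        (show W ≤ W.map (ρ g) from e1.ge.trans inf_le_left) (hdim g).le).symm
    have hhalf : 2 * finrank F W ≤ n := by
      have := Submodule.finrank_sup_add_finrank_inf_eq (W.map (ρ g)) W
      rw [hint, finrank_bot, hdim g] at this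
      have := Submodule.finrank_le (W.map (ρ g) ⊔ W)
      omega
    have hWpos : 0 < finrank F W :=
      Nat.pos_of_ne_zero fun h => hW0 (Submodule.finrank_eq_zero.mp h)
    have hlog : Nat.log 2 (n / 2) + 1 = Nat.log 2 n := by
      have h1 := Nat.log_div_base 2 n
      have h2 : 1 ≤ Nat.log 2 n := Nat.le_log_of_pow_le one_lt_two (by omega)
      omega
    intro x hx
    obtain ⟨y, hy, rfl⟩ := derivedSeries_le_map M hcomm (Nat.log 2 n) hx
    rw [← hlog] at hy
    have hall : (⨆ g : P, W.map (ρ g)) ≤ LinearMap.eqLocus (ρ y.1) (1 : Module.End F V) := by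
      refine iSup_le fun g x hx => ?_
      exact apply_eq_of_subRep (ρ := ρ.comp M.subtype) (hW := hgW g)
        (ih (n / 2) (by omega) M (hP.to_subgroup M) _ (subRep (ρ.comp M.subtype) _ (hgW g))
          (by rw [hdim g]; omega) hy) hx
    have hS : (⨆ g : P, W.map (ρ g)) = ⊤ := by
      refine hred _ (fun h x hx => ?_) (fun h => hW0 (le_bot_iff.mp (h ▸ ?_)))
      · refine (Submodule.map_le_iff_le_comap (f := ρ h) (p := ⨆ g : P, W.map (ρ g))
          (q := ⨆ g : P, W.map (ρ g))).mp ?_ hx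
        rw [Submodule.map_iSup]
        refine iSup_le fun g => le_trans ?_ (le_iSup _ (h * g))
        rw [← Submodule.map_comp, map_mul]; rfl
      · refine le_trans ?_ (le_iSup _ 1)
        rw [map_one]; exact (Submodule.map_id W).ge
    rw [MonoidHom.mem_ker]
    exact LinearMap.ext fun v => hall (hS ▸ Submodule.mem_top)

theorem matrix_bound (hP : IsPGroup p P) (n : ℕ) (ρ : P →* Matrix.GeneralLinearGroup (Fin n) F)
    (hρ : Function.Injective ρ) : derivedSeries P (Nat.log 2 n + 1) = ⊥ := by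
  let K := AlgebraicClosure F
  let σ : P →* Module.End K (Fin n → K) :=
    (Matrix.toLinAlgEquiv' (R := K) (n := Fin n)).toAlgHom.toRingHom.toMonoidHom.comp
      ((Units.coeHom (Matrix (Fin n) (Fin n) K)).comp
        ((Matrix.GeneralLinearGroup.map (algebraMap F K)).comp ρ))
  have hinj : Function.Injective σ := by
    intro a b hab
    apply hρ
    have h1 := (Matrix.toLinAlgEquiv' (R := K) (n := Fin n)).injective hab
    refine Units.ext (Matrix.map_injective (algebraMap F K).injective ?_)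
    exact h1
  have hker : σ.ker = ⊥ := (σ.ker_eq_bot_iff).mpr hinj
  refine le_bot_iff.mp (hker ▸ ?_)
  by_cases hp : (p : K) = 0
  · haveI : CharP K p := (CharP.charP_iff_prime_eq_zero Fact.out).mpr hp
    refine unipotent _ P hP K _ σ ?_
    rw [finrank_fin_fun]
    exact (Nat.lt_pow_succ_log_self one_lt_two n).le
  · exact coprime_char hp n P hP (Fin n → K) σ (finrank_fin_fun K).le

end Cfsg.Agent.Grp.DerivedLength
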