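import Mathlib
import Cfsg.Agent.Lib.Grp.DerivedLengthLinear

/-!
The derived length of a Sylow p-subgroup of a symmetric group of degree n is `⌊log_p n⌋`.
-/

set_option autoImplicit false

namespace Cfsg.Agent.Grp.DerivedLength

open scoped commutatorElement
open Subgroup

universe u v

theorem orbit_bound {p : ℕ} [Fact p.Prime] (j : ℕ) :
    ∀ (P : Type u) [Group P] [Finite P] (_ : IsPGroup p P) (α : Type v) [MulAction P α] (a : α),
      Nat.card (MulAction.orbit P a) ≤ p ^ j → derivedSeries P j ≤ MulAction.stabilizer P a := by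
  induction j with
  | zero =>
      intro P _ _ hP α _ a ha g _
      have : Finite (MulAction.orbit P a) := Finite.of_surjective
        (fun g : P => (⟨g • a, MulAction.mem_orbit a g⟩ : MulAction.orbit P a)) (by rintro ⟨x, g, rfl⟩; exact ⟨g, rfl⟩)
      have hs : Subsingleton (MulAction.orbit P a) := by
        rw [← Finite.card_le_one_iff_subsingleton]; simpa using ha
      exact congrArg Subtype.val
        (Subsingleton.elim (⟨g • a, MulAction.mem_orbit a g⟩ : MulAction.orbit P a) ⟨a, MulAction.mem_orbit_self a⟩)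
  | succ j ih =>
      intro P _ _ hP α _ a ha
      rcases eq_or_ne (MulAction.stabilizer P a) ⊤ with h | h
      · rw [h]; exact le_top
      obtain ⟨M, hM, hsM⟩ := (eq_top_or_exists_le_coatom (MulAction.stabilizer P a)).resolve_left h
      haveI := hP.isNilpotent
      haveI : M.Normal := Subgroup.NormalizerCondition.normal_of_coatom M normalizerCondition_of_isNilpotent hM
      obtain ⟨i, hi⟩ : ∃ i, M.index = p ^ i := hP.index M
      have hi1 : p ≤ M.index := by
        rw [hi]
        refine Nat.le_self_pow (fun h0 => hM.1 (Subgroup.index_eq_one.mp (by rw [hi, h0, pow_zero]))) p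
      have hcomm : commutator P ≤ M := by
        haveI : Nontrivial (P ⧸ M) := Finite.one_lt_card_iff_nontrivial.mp (by
          rw [← Subgroup.index]; exact lt_of_lt_of_le (Fact.out : p.Prime).one_lt hi1)
        haveI : IsSimpleOrder (Subgroup (P ⧸ M)) := by
          refine IsSimpleOrder.mk fun H => ?_
          have hle : M ≤ H.comap (QuotientGroup.mk' M) := by
            have := Subgroup.comap_mono (f := QuotientGroup.mk' M) (bot_le : ⊥ ≤ H)
            rwa [MonoidHom.comap_bot, QuotientGroup.ker_mk'] at this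
          rcases hM.le_iff.mp hle with h' | h'
          · exact Or.inr (Subgroup.comap_injective (QuotientGroup.mk'_surjective M) (h'.trans (Subgroup.comap_top _).symm))
          · exact Or.inl (Subgroup.comap_injective (QuotientGroup.mk'_surjective M)
              (h'.trans (by rw [MonoidHom.comap_bot, QuotientGroup.ker_mk'])))
        haveI : IsSimpleGroup (P ⧸ M) := { eq_bot_or_eq_top_of_normal := fun H _ => eq_bot_or_eq_top H }
        haveI := (hP.to_quotient M).isNilpotent
        have hc : ∀ x y : P ⧸ M, x * y = y * x :=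
          @IsSimpleGroup.comm_iff_isSolvable (P ⧸ M) _ _ |>.mpr inferInstance
        rw [commutator_eq_closure, closure_le]
        rintro _ ⟨x, y, rfl⟩
        refine (QuotientGroup.eq_one_iff _).mp ?_
        change QuotientGroup.mk' M ⁅x, y⁆ = 1
        rw [map_commutatorElement]
        exact commutatorElement_eq_one_iff_mul_comm.mpr (hc _ _)
      have hcard : p * Nat.card (MulAction.orbit M a) ≤ Nat.card (MulAction.orbit P a) := by
        have e1 : Nat.card (MulAction.orbit P a) = (MulAction.stabilizer P a).index :=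
          (Nat.card_congr (MulAction.orbitEquivQuotientStabilizer P a))
        have e2 : Nat.card (MulAction.orbit M a) = (MulAction.stabilizer P a).relIndex M := by
          rw [Nat.card_congr (MulAction.orbitEquivQuotientStabilizer M a), Subgroup.relIndex]
          rfl
        rw [e1, e2, ← Subgroup.relIndex_mul_index hsM, mul_comm p]
        exact Nat.mul_le_mul_left _ hi1
      have hlt := ih M (hP.to_subgroup M) α a (Nat.le_of_mul_le_mul_left
        (hcard.trans (by rwa [pow_succ'] at ha)) (Fact.out : p.Prime).pos)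
      intro g hg
      obtain ⟨y, hy, rfl⟩ := derivedSeries_le_map M hcomm j hg
      exact hlt hy

theorem perm_upper {p : ℕ} [Fact p.Prime] {α : Type v} [Finite α] (P : Subgroup (Equiv.Perm α))
    (hP : IsPGroup p P) : derivedSeries P (Nat.log p (Nat.card α)) = ⊥ := by
  refine (Subgroup.eq_bot_iff_forall _).mpr fun g hg => Subtype.ext (Equiv.ext fun a => ?_)
  obtain ⟨i, hi⟩ := hP.card_orbit (α := α) a
  have hle : p ^ i ≤ Nat.card α := hi ▸ Finite.card_subtype_le _
  exact MulAction.mem_stabilizer_iff.mp (orbit_bound (Nat.log p (Nat.card α)) P hP α a (by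
    rw [hi]; exact Nat.pow_le_pow_right (Fact.out : p.Prime).pos (Nat.le_log_of_pow_le (Fact.out : p.Prime).one_lt hle)) hg)

open RegularWreathProduct in
theorem wreath_project {D Q : Type*} [Group D] [Group Q] [Nontrivial Q] (i : ℕ) :
    ∀ d ∈ derivedSeries D i, ∃ x ∈ derivedSeries (D ≀ᵣ Q) (i + 1), x.right = 1 ∧ x.left 1 = d := by
  classical
  let π : ↥(rightHom : D ≀ᵣ Q →* Q).ker →* D :=
    { toFun := fun x => (x : D ≀ᵣ Q).left 1
      map_one' := rfl
      map_mul' := fun x y => by
        have hx : (x : D ≀ᵣ Q).right = 1 := x.2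
        simp [hx] }
  suffices h : ∀ i, derivedSeries D i ≤ ((derivedSeries (D ≀ᵣ Q) (i + 1)).subgroupOf rightHom.ker).map π by
    intro d hd
    obtain ⟨x, hx, rfl⟩ := h i hd
    exact ⟨x.1, hx, x.2, rfl⟩
  intro i
  induction i with
  | zero =>
      intro d _
      obtain ⟨t, ht⟩ := exists_ne (1 : Q)
      let b : D ≀ᵣ Q := ⟨Pi.mulSingle 1 d, 1⟩
      have hr : (⁅b, (inl t : D ≀ᵣ Q)⁆).right = 1 := by simp [commutatorElement_def, b]
      refine ⟨⟨⁅b, inl t⁆, hr⟩, ?_, ?_⟩
      · show ⁅b, (inl t : D ≀ᵣ Q)⁆ ∈ derivedSeries (D ≀ᵣ Q) 1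
        rw [derivedSeries_one]
        exact commutator_mem_commutator (mem_top _) (mem_top _)
      · show (⁅b, (inl t : D ≀ᵣ Q)⁆).left 1 = d
        simp [commutatorElement_def, b, ht, Ne.symm ht]
  | succ i ih =>
      rw [derivedSeries_succ]
      refine (commutator_mono ih ih).trans ?_
      rw [← map_commutator]
      refine Subgroup.map_mono ?_
      refine Subgroup.map_le_iff_le_comap.mp ?_
      rw [map_commutator]
      exact commutator_mono (Subgroup.map_comap_le _ _) (Subgroup.map_comap_le _ _)

theorem iterated_ne_bot {p : ℕ} [hp : Fact p.Prime] (G : Type u) [Group G] [Finite G] (hG : Nat.card G = p) :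
    ∀ k, derivedSeries (IteratedWreathProduct G (k + 1)) k ≠ ⊥
  | 0 => by
      haveI : Nontrivial (IteratedWreathProduct G 1) := Finite.one_lt_card_iff_nontrivial.mp (by
        rw [IteratedWreathProduct.card, hG]; simpa using hp.out.one_lt)
      rw [derivedSeries_zero]; exact top_ne_bot
  | k + 1 => by
      haveI : Nontrivial G := Finite.one_lt_card_iff_nontrivial.mp (hG ▸ hp.out.one_lt)
      intro h
      refine iterated_ne_bot G hG k ((Subgroup.eq_bot_iff_forall _).mpr fun d hd => ?_)
      obtain ⟨x, hx, -, rfl⟩ := wreath_project (D := IteratedWreathProduct G (k + 1)) (Q := G) k d hd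
      have hx1 : x = 1 := by
        have : x ∈ derivedSeries (IteratedWreathProduct G (k + 1 + 1)) (k + 1) := hx
        rw [h] at this
        exact this
      rw [hx1]; rfl

theorem sylow_perm (p : ℕ) [hp : Fact p.Prime] (n : ℕ) (P : Sylow p (Equiv.Perm (Fin n))) :
    derivedSeries ↥(P : Subgroup (Equiv.Perm (Fin n))) (Nat.log p n) = ⊥ ∧
      (1 ≤ Nat.log p n → derivedSeries ↥(P : Subgroup (Equiv.Perm (Fin n))) (Nat.log p n - 1) ≠ ⊥) := by
  refine ⟨?_, fun hk => ?_⟩
  · have := perm_upper (P : Subgroup (Equiv.Perm (Fin n))) P.isPGroup'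
    rwa [Nat.card_fin] at this
  obtain ⟨k, hk'⟩ : ∃ k, Nat.log p n = k + 1 := ⟨Nat.log p n - 1, by omega⟩
  rw [hk', Nat.add_sub_cancel]
  intro hbot
  haveI : NeZero p := ⟨hp.out.ne_zero⟩
  let G := Multiplicative (ZMod p)
  have hG : Nat.card G = p := Nat.card_zmod p
  have hcardW : Nat.card (Fin (k + 1) → G) ≤ n := by
    rw [Nat.card_fun, Nat.card_fin, hG, ← hk']
    exact Nat.pow_log_le_self p (by rintro rfl; simp at hk')
  haveI := Fintype.ofFinite (Fin (k + 1) → G)
  have ι : (Fin (k + 1) → G) ↪ Fin n :=
    (Function.Embedding.nonempty_of_card_le (by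
      rwa [← Nat.card_eq_fintype_card, Fintype.card_fin])).some
  let f : IteratedWreathProduct G (k + 1) →* Equiv.Perm (Fin n) :=
    (Equiv.Perm.viaEmbeddingHom ι).comp (iteratedWreathToPermHom G (k + 1))
  have hf : Function.Injective f :=
    (Equiv.Perm.viaEmbeddingHom_injective ι).comp (iteratedWreathToPermHomInj G (k + 1))
  have hW : IsPGroup p (IteratedWreathProduct G (k + 1)) := IsPGroup.of_card (by rw [IteratedWreathProduct.card, hG])
  obtain ⟨Q, hQ⟩ := (hW.of_surjective f.rangeRestrict f.rangeRestrict_surjective).exists_le_sylow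
  let g : IteratedWreathProduct G (k + 1) →* ↥(P : Subgroup (Equiv.Perm (Fin n))) :=
    (Q.equiv P).toMonoidHom.comp (f.codRestrict (Q : Subgroup (Equiv.Perm (Fin n))) fun x => hQ ⟨x, rfl⟩)
  have hg : Function.Injective g := (Q.equiv P).injective.comp fun a b h => hf (congrArg Subtype.val h)
  refine iterated_ne_bot G hG k ((Subgroup.map_eq_bot_iff_of_injective _ hg).mp (le_bot_iff.mp ?_))
  exact hbot ▸ map_derivedSeries_le g k

end Cfsg.Agent.Grp.DerivedLength
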