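import Mathlib
import Cfsg.Agent.Lib.Fus.MaxClassCentraliser

/-!
`p`-groups of maximal class have elements with centralizer of order `p²` outside any given maximal
subgroup (Blackburn), via the power map of the quotient by the centre.
-/

set_option autoImplicit false
set_option linter.unusedSectionVars false
set_option linter.style.haveILetI false

namespace Cfsg.Agent.Grp.Uni

open scoped commutatorElement
open Cfsg.Agent.Fus.MC (lc dl dl_mem dl_iter_mem lc_anti lc_comm Filt Poly eval_eq Ck modCent mem_modCent mem_Ck lc_step lc_one_le_Ck)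
open Cfsg.Agent.Transfer.PolySeq (diff diff_iterate_zero)

/-- A group of maximal class. -/
structure MaxCl (G : Type*) [Group G] (p n : ℕ) : Prop where
  card : Nat.card G = p ^ n
  three_le : 3 ≤ n
  cls : Group.nilpotencyClass G = n - 1

/-- Maximal class with an element whose centralizer has order `p ^ 2`. -/
structure Uniform (G : Type*) [Group G] (p n : ℕ) (x : G) : Prop extends MaxCl G p n where
  cent : Nat.card (Subgroup.centralizer ({x} : Set G)) = p ^ 2

section general

/-- Collection of the `p`-th power of a product modulo the `p`-th step of the lower central series. -/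
theorem pow_congr {G : Type*} [Group G] [Finite G] {p : ℕ} [hp : Fact p.Prime] {i : ℕ} {g x : G}
    (h1 : 1 ≤ i) (hg : g ∈ lc G i) (he : ∀ c ∈ lc G (i + 1), c ^ p ∈ lc G (i + p)) :
    QuotientGroup.mk' (lc G (i + p)) ((g * x) ^ p * (x ^ p)⁻¹) =
      QuotientGroup.mk' (lc G (i + p)) (g ^ p * (dl x)^[p - 1] g) := by
  have hp2 := hp.out.two_le
  let π := QuotientGroup.mk' (lc G (i + p))
  have hπ : ∀ {a}, π a = 1 ↔ a ∈ lc G (i + p) := fun {a} => QuotientGroup.eq_one_iff a
  let W : Filt (G ⧸ lc G (i + p)) (p + 2) :=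
    { N := fun d => (lc G (i + (d - 2))).map π
      anti := fun {a b} h => Subgroup.map_mono (lc_anti (by omega))
      comm := by
        rintro a b _ _ ⟨u, hu, rfl⟩ ⟨v, hv, rfl⟩
        rw [← map_commutatorElement]
        exact Subgroup.mem_map_of_mem π (lc_anti (by omega) (lc_comm hu hv))
      bot := by
        rw [eq_bot_iff]
        rintro _ ⟨u, hu, rfl⟩
        exact hπ.2 (lc_anti (by omega) hu) }
  have hexp : ∀ c ∈ W.N 3, c ^ p = 1 := by
    rintro _ ⟨u, hu, rfl⟩
    rw [← map_pow]
    exact hπ.2 (he u hu)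
  set f : ℕ → G ⧸ lc G (i + p) := fun k => π ((g * x) ^ k * (x ^ k)⁻¹)
  have hiter : ∀ j k, (diff^[j + 1]) f k = π (x ^ k * (dl x)^[j] g * (x ^ k)⁻¹) := by
    intro j
    induction j with
    | zero =>
      intro k
      simp only [zero_add, Function.iterate_one, Function.iterate_zero, id, diff, f,
        ← map_inv, ← map_mul]
      congr 1
      simp only [pow_succ]
      group
    | succ j ihj =>
      intro k
      rw [Function.iterate_succ_apply', diff, ihj, ihj, ← map_inv, ← map_mul]
      congr 1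
      rw [Function.iterate_succ_apply']
      simp only [dl, pow_succ]
      group
  have hfp : Poly W 1 f := by
    intro j k
    cases j with
    | zero =>
      refine Subgroup.mem_map_of_mem π ?_
      show (g * x) ^ k * (x ^ k)⁻¹ ∈ lc G (i + (1 + 0 - 2))
      rw [show i + (1 + 0 - 2) = i by omega]
      induction k with
      | zero => simp
      | succ k ihk =>
        have e : (g * x) ^ (k + 1) * (x ^ (k + 1))⁻¹ =
            ((g * x) ^ k * (x ^ k)⁻¹) * (x ^ k * g * (x ^ k)⁻¹) := by
          simp only [pow_succ]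
          group
        rw [e]
        exact mul_mem ihk ((inferInstance : (lc G i).Normal).conj_mem g hg _)
    | succ j =>
      rw [hiter j k]
      refine Subgroup.mem_map_of_mem π ?_
      rw [show 1 + (j + 1) - 2 = j by omega]
      exact (inferInstance : (lc G (i + j)).Normal).conj_mem _ (dl_iter_mem hg j) _
  have hf1 : f 1 = π g := by simp [f]
  have h := eval_eq W hp.out rfl hexp hfp (by simp [f])
    (by rw [hf1]; exact Subgroup.mem_map_of_mem π (lc_anti (by omega) hg))
  rw [hf1, show (diff^[p]) f 0 = (diff^[(p - 1) + 1]) f 0 by rw [Nat.sub_add_cancel (by omega)],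
    hiter, pow_zero, one_mul, inv_one, mul_one, ← map_pow, ← map_mul] at h
  exact h

end general

section maxcl

variable {G : Type*} [Group G] [Finite G] {p n : ℕ} [hp : Fact p.Prime] (hm : MaxCl G p n)
include hm

theorem lc_index {k : ℕ} (h1 : 1 ≤ k) (h2 : k ≤ n - 1) : (lc G k).index = p ^ (k + 1) :=
  Transfer.MaxClass.lcs_index hm.card (by have := hm.three_le; omega) hm.cls h1 h2

theorem lc_eq_bot {k : ℕ} (h : n - 1 ≤ k) : lc G k = ⊥ := by
  haveI : Group.IsNilpotent G := (IsPGroup.of_card hm.card).isNilpotent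
  exact Subgroup.lowerCentralSeries_eq_bot_iff_nilpotencyClass_le.2 (hm.cls ▸ h)

theorem card_lc {k : ℕ} (h1 : 1 ≤ k) : Nat.card (lc G k) = p ^ (n - 1 - k) := by
  by_cases h2 : k ≤ n - 1
  · have h := (lc G k).card_mul_index
    rw [lc_index hm h1 h2, hm.card] at h
    refine Nat.eq_of_mul_eq_mul_right (pow_pos hp.out.pos (k + 1)) ?_
    rw [h, ← pow_add]
    congr 1
    omega
  · rw [lc_eq_bot hm (by omega), Subgroup.card_bot, show n - 1 - k = 0 by omega, pow_zero]

theorem lc_two_le_center : lc G (n - 2) ≤ Subgroup.center G := by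
  intro z hz
  refine Subgroup.mem_center_iff.2 fun g => ?_
  have h : ⁅z, g⁆ ∈ lc G (n - 2 + 1) := by
    rw [lc, Subgroup.lowerCentralSeries_succ]
    exact Subgroup.commutator_mem_commutator hz (Subgroup.mem_top g)
  rw [lc_eq_bot hm (by omega), Subgroup.mem_bot] at h
  exact (commutatorElement_eq_one_iff_mul_comm.1 h).symm

theorem sup_zpowers {z : G} {k : ℕ} (h1 : 1 ≤ k) (hz : z ∈ lc G k) (hz' : z ∉ lc G (k + 1)) :
    lc G (k + 1) ⊔ Subgroup.zpowers z = lc G k := by
  have hle : lc G (k + 1) ⊔ Subgroup.zpowers z ≤ lc G k :=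
    sup_le (lc_anti (Nat.le_succ k)) (Subgroup.zpowers_le.2 hz)
  refine Subgroup.eq_of_le_of_card_ge hle ?_
  set K := lc G (k + 1) ⊔ Subgroup.zpowers z
  have hd : Nat.card K ∣ p ^ n := hm.card ▸ K.card_subgroup_dvd_card
  obtain ⟨e, -, he⟩ := (Nat.dvd_prime_pow hp.out).1 hd
  have hlt : Nat.card (lc G (k + 1)) < Nat.card K := by
    refine lt_of_le_of_ne (Subgroup.card_le_of_le le_sup_left) fun eq => hz' ?_
    rw [Subgroup.eq_of_le_of_card_ge (le_sup_left : lc G (k + 1) ≤ K) eq.ge]
    exact Subgroup.mem_sup_right (Subgroup.mem_zpowers z)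
  rw [card_lc hm (by omega), he] at hlt
  have := (Nat.pow_lt_pow_iff_right hp.out.one_lt).1 hlt
  rw [card_lc hm h1, he]
  exact Nat.pow_le_pow_right hp.out.pos (by omega)

theorem exists_depth {k : ℕ} (h1 : 1 ≤ k) (h2 : k + 2 ≤ n) :
    ∃ a ∈ lc G k, a ∉ lc G (k + 1) := by
  by_contra h
  push Not at h
  have he : Nat.card (lc G k) ≤ Nat.card (lc G (k + 1)) := Subgroup.card_le_of_le h
  rw [card_lc hm h1, card_lc hm (by omega)] at he
  have := (Nat.pow_le_pow_iff_right hp.out.one_lt).1 he
  omega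

theorem mem_Ck_of_depth {a g : G} {k : ℕ} (h1 : 1 ≤ k) (ha : a ∈ lc G k) (ha' : a ∉ lc G (k + 1))
    (h : ⁅a, g⁆ ∈ lc G (k + 2)) : g ∈ Ck G k := by
  have hle : lc G k ≤ modCent (lc G (k + 2)) g := by
    rw [← sup_zpowers hm h1 ha ha']
    exact sup_le (fun c hc => mem_modCent.2 (lc_step hc)) (Subgroup.zpowers_le.2 (mem_modCent.2 h))
  exact mem_Ck.2 fun b hb => mem_modCent.1 (hle hb)

theorem eq_sup_of_ne_top {M : Subgroup G} (hM : lc G 1 ≤ M) (hne : M ≠ ⊤) {h : G} (hh : h ∈ M)
    (hh' : h ∉ lc G 1) : M = lc G 1 ⊔ Subgroup.zpowers h := by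
  symm
  refine Subgroup.eq_of_le_of_card_ge (sup_le hM (Subgroup.zpowers_le.2 hh)) ?_
  obtain ⟨e, he1, he⟩ := (Nat.dvd_prime_pow hp.out).1 (hm.card ▸ M.card_subgroup_dvd_card)
  obtain ⟨j, hj1, hj⟩ := (Nat.dvd_prime_pow hp.out).1
    (hm.card ▸ (lc G 1 ⊔ Subgroup.zpowers h).card_subgroup_dvd_card)
  have hne' : e ≠ n := fun eq => hne (Subgroup.eq_top_of_card_eq _ (by rw [he, hm.card, eq]))
  have hlt : Nat.card (lc G 1) < Nat.card ↥(lc G 1 ⊔ Subgroup.zpowers h) := by
    refine lt_of_le_of_ne (Subgroup.card_le_of_le le_sup_left) fun eq => hh' ?_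
    rw [Subgroup.eq_of_le_of_card_ge (le_sup_left : lc G 1 ≤ lc G 1 ⊔ Subgroup.zpowers h) eq.ge]
    exact Subgroup.mem_sup_right (Subgroup.mem_zpowers h)
  rw [card_lc hm le_rfl, hj] at hlt
  have := (Nat.pow_lt_pow_iff_right hp.out.one_lt).1 hlt
  rw [he, hj]
  exact Nat.pow_le_pow_right hp.out.pos (by omega)

end maxcl

section uniform

variable {G : Type*} [Group G] [Finite G] {p n : ℕ} [hp : Fact p.Prime] {x : G} (hx : Uniform G p n x)
include hx

theorem ne_one : x ≠ 1 := by
  intro e
  have h := hx.cent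
  have hC : Subgroup.centralizer ({x} : Set G) = ⊤ := by
    refine eq_top_iff.2 fun g _ => Subgroup.mem_centralizer_iff.2 ?_
    rintro _ rfl
    simp [e]
  rw [hC, Subgroup.card_top, hx.card] at h
  have := Nat.pow_right_injective hp.out.two_le h
  have := hx.three_le
  omega

theorem exists_comm_eq_top {c : G} (hc : c ∈ lc G 1) : ∃ a : G, ⁅a, x⁆ = c := by
  classical
  set C := Subgroup.centralizer ({x} : Set G)
  let f : G ⧸ C → lc G 1 := Quotient.lift
    (fun a => (⟨⁅a, x⁆, by
      rw [lc, Subgroup.lowerCentralSeries_succ]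
      exact Subgroup.commutator_mem_commutator (by simp) (Subgroup.mem_top x)⟩ : lc G 1))
    (fun a b hab => by
      have h : a⁻¹ * b ∈ C := QuotientGroup.leftRel_apply.1 hab
      have h' := Subgroup.mem_centralizer_iff.1 h x rfl
      refine Subtype.ext ?_
      simp only [commutatorElement_def]
      have e : b * x * b⁻¹ = a * x * a⁻¹ := by
        calc b * x * b⁻¹ = a * ((a⁻¹ * b) * x) * b⁻¹ := by group
          _ = a * (x * (a⁻¹ * b)) * b⁻¹ := by rw [h']
          _ = a * x * a⁻¹ := by group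
      rw [e])
  have hinj : Function.Injective f := by
    intro a b
    induction a using Quotient.inductionOn with
    | _ a =>
    induction b using Quotient.inductionOn with
    | _ b =>
    intro h
    have h' : ⁅a, x⁆ = ⁅b, x⁆ := congrArg Subtype.val h
    simp only [commutatorElement_def] at h'
    have e := mul_right_cancel h'
    refine Quotient.sound (QuotientGroup.leftRel_apply.2 (Subgroup.mem_centralizer_iff.2 ?_))
    intro y hy
    rw [Set.mem_singleton_iff.1 hy]
    calc x * (a⁻¹ * b) = a⁻¹ * (a * x * a⁻¹) * b := by group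
      _ = a⁻¹ * (b * x * b⁻¹) * b := by rw [e]
      _ = (a⁻¹ * b) * x := by group
  have hcard : Nat.card (G ⧸ C) = Nat.card (lc G 1) := by
    rw [card_lc hx.toMaxCl le_rfl, ← Subgroup.index_eq_card]
    have h := C.index_mul_card
    rw [hx.cent, hx.card] at h
    refine Nat.eq_of_mul_eq_mul_right (pow_pos hp.out.pos 2) ?_
    rw [h, ← pow_add]
    congr 1
    have := hx.three_le
    omega
  obtain ⟨a, ha⟩ := ((Nat.bijective_iff_injective_and_card f).2 ⟨hinj, hcard⟩).2 ⟨c, hc⟩
  induction a using Quotient.inductionOn with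
  | _ a => exact ⟨a, congrArg Subtype.val ha⟩

theorem not_mem_lc_one : x ∉ lc G 1 := by
  intro h
  obtain ⟨a, ha⟩ := exists_comm_eq_top hx (inv_mem h)
  rw [commutatorElement_def] at ha
  have h1 : a * x * a⁻¹ = 1 := by
    have := congrArg (· * x) ha
    simpa [mul_assoc] using this
  exact ne_one hx (conj_eq_one_iff.1 h1)

theorem cent_inf_lc {k : ℕ} (h1 : 1 ≤ k) (h2 : k ≤ n - 2) :
    Subgroup.centralizer ({x} : Set G) ⊓ lc G k = lc G (n - 2) := by
  have hn := hx.three_le
  symm
  refine Subgroup.eq_of_le_of_card_ge (le_inf ?_ (lc_anti h2)) ?_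
  · exact (lc_two_le_center hx.toMaxCl).trans fun z hz => Subgroup.mem_centralizer_iff.2 fun y _ =>
      Subgroup.mem_center_iff.1 hz y
  · rw [card_lc hx.toMaxCl (by omega), show n - 1 - (n - 2) = 1 by omega, pow_one]
    set D := Subgroup.centralizer ({x} : Set G) ⊓ lc G k
    have hle : D ≤ Subgroup.centralizer ({x} : Set G) := inf_le_left
    have hd : Nat.card D ∣ p ^ 2 := hx.cent ▸ Subgroup.card_dvd_of_le hle
    obtain ⟨j, hj, e⟩ := (Nat.dvd_prime_pow hp.out).1 hd
    have hne : j ≠ 2 := by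
      rintro rfl
      have heq := Subgroup.eq_of_le_of_card_ge hle (by rw [hx.cent, e])
      have hxD : x ∈ D := heq ▸ Subgroup.mem_centralizer_iff.2 (by rintro _ rfl; rfl)
      exact not_mem_lc_one hx (lc_anti h1 hxD.2)
    rw [e]
    calc p ^ j ≤ p ^ 1 := Nat.pow_le_pow_right hp.out.pos (by omega)
      _ = p := pow_one p

theorem comm_not_mem {g : G} {k : ℕ} (h1 : 1 ≤ k) (h3 : k + 3 ≤ n) (hg : g ∈ lc G k)
    (hg' : g ∉ lc G (k + 1)) : ⁅g, x⁆ ∉ lc G (k + 2) := by
  classical
  intro hmem
  set C := Subgroup.centralizer ({x} : Set G) ⊓ lc G (k + 1)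
  let f : lc G (k + 1) ⧸ C.subgroupOf (lc G (k + 1)) → lc G (k + 2) := Quotient.lift
    (fun a => (⟨⁅(a : G), x⁆, by
      rw [lc, Subgroup.lowerCentralSeries_succ]
      exact Subgroup.commutator_mem_commutator a.2 (Subgroup.mem_top x)⟩ : lc G (k + 2)))
    (fun a b hab => by
      have h : a⁻¹ * b ∈ C.subgroupOf (lc G (k + 1)) := QuotientGroup.leftRel_apply.1 hab
      have h' := Subgroup.mem_centralizer_iff.1 (Subgroup.mem_subgroupOf.1 h).1 x rfl
      simp only [Subgroup.coe_mul, Subgroup.coe_inv] at h'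
      refine Subtype.ext ?_
      simp only [commutatorElement_def]
      have e : (b : G) * x * (b : G)⁻¹ = a * x * (a : G)⁻¹ := by
        calc (b : G) * x * (b : G)⁻¹ = a * (((a : G)⁻¹ * b) * x) * (b : G)⁻¹ := by group
          _ = a * (x * ((a : G)⁻¹ * b)) * (b : G)⁻¹ := by rw [h']
          _ = a * x * (a : G)⁻¹ := by group
      rw [e])
  have hinj : Function.Injective f := by
    intro a b
    induction a using Quotient.inductionOn with
    | _ a =>
    induction b using Quotient.inductionOn with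
    | _ b =>
    intro h
    have h' : ⁅(a : G), x⁆ = ⁅(b : G), x⁆ := congrArg Subtype.val h
    simp only [commutatorElement_def] at h'
    have e := mul_right_cancel h'
    refine Quotient.sound (QuotientGroup.leftRel_apply.2 (Subgroup.mem_subgroupOf.2
      ⟨Subgroup.mem_centralizer_iff.2 ?_, (a⁻¹ * b).2⟩))
    intro y hy
    rw [Set.mem_singleton_iff.1 hy]
    simp only [Subgroup.coe_mul, Subgroup.coe_inv]
    calc x * ((a : G)⁻¹ * b) = (a : G)⁻¹ * (a * x * (a : G)⁻¹) * b := by group
      _ = (a : G)⁻¹ * (b * x * (b : G)⁻¹) * b := by rw [e]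
      _ = ((a : G)⁻¹ * b) * x := by group
  have hC : C = lc G (n - 2) := cent_inf_lc hx (by omega) (by omega)
  have hcard : Nat.card (lc G (k + 1) ⧸ C.subgroupOf (lc G (k + 1))) = Nat.card (lc G (k + 2)) := by
    rw [card_lc hx.toMaxCl (by omega), ← Subgroup.index_eq_card]
    have h := (C.subgroupOf (lc G (k + 1))).index_mul_card
    rw [Nat.card_congr (Subgroup.subgroupOfEquivOfLe
        (show C ≤ lc G (k + 1) from inf_le_right)).toEquiv, hC, card_lc hx.toMaxCl (by omega),
      card_lc hx.toMaxCl (by omega)] at h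
    rw [hC]
    refine Nat.eq_of_mul_eq_mul_right (pow_pos hp.out.pos (n - 1 - (n - 2))) ?_
    rw [h, ← pow_add]
    congr 1
    omega
  obtain ⟨h, hh⟩ := ((Nat.bijective_iff_injective_and_card f).2 ⟨hinj, hcard⟩).2 ⟨_, hmem⟩
  induction h using Quotient.inductionOn with
  | _ h =>
  have h' : ⁅(h : G), x⁆ = ⁅g, x⁆ := congrArg Subtype.val hh
  simp only [commutatorElement_def] at h'
  have e := mul_right_cancel h'
  have hz : (h : G)⁻¹ * g ∈ lc G (n - 2) := by
    rw [← cent_inf_lc hx h1 (by omega)]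
    refine Subgroup.mem_inf.2 ⟨Subgroup.mem_centralizer_iff.2 ?_,
      mul_mem (inv_mem (show (h : G) ∈ lc G k from lc_anti (Nat.le_succ k) h.2)) hg⟩
    intro y hy
    rw [Set.mem_singleton_iff.1 hy]
    calc x * ((h : G)⁻¹ * g) = (h : G)⁻¹ * (h * x * (h : G)⁻¹) * g := by group
      _ = (h : G)⁻¹ * (g * x * g⁻¹) * g := by rw [e]
      _ = ((h : G)⁻¹ * g) * x := by group
  have : g = (h : G) * ((h : G)⁻¹ * g) := by group
  exact hg' (this ▸ mul_mem h.2 (lc_anti (by omega) hz))

theorem dl_iter_not_mem {g : G} {k : ℕ} (h1 : 1 ≤ k) (hg : g ∈ lc G k) (hg' : g ∉ lc G (k + 1)) :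
    ∀ m, k + m + 2 ≤ n → (dl x)^[m] g ∉ lc G (k + m + 1) := by
  intro m
  induction m with
  | zero => intro _; exact hg'
  | succ m ih =>
    intro hm
    have ha := dl_iter_mem (x := x) hg m
    have hn := ih (by omega)
    rw [Function.iterate_succ_apply']
    have h : dl x ((dl x)^[m] g) = ⁅((dl x)^[m] g)⁻¹, x⁆ := by
      simp [dl, commutatorElement_def, mul_assoc]
    rw [h, show k + (m + 1) + 1 = k + m + 2 by omega]
    exact comm_not_mem hx (by omega) (by omega) (inv_mem ha) (fun h => hn (by simpa using inv_mem h))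

/-- The `p`-th power of a uniform element is central. -/
theorem pow_mem_center : x ^ p ∈ Subgroup.center G := by
  have hn := hx.three_le
  have hP : IsPGroup p G := IsPGroup.of_card hx.card
  have hidx : (commutator G).index = p ^ 2 := by
    rw [← Subgroup.top_lowerCentralSeries_one]
    exact lc_index hx.toMaxCl le_rfl (by omega)
  have hne : commutator G ≠ ⊥ := by
    intro e
    have h := card_lc hx.toMaxCl (k := 1) le_rfl
    rw [lc, Subgroup.top_lowerCentralSeries_one, e, Subgroup.card_bot] at h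
    exact absurd h (Nat.one_lt_pow (by omega) hp.out.one_lt).ne
  have h1 : x ^ p ∈ lc G 1 := by
    rw [lc, Subgroup.top_lowerCentralSeries_one]
    exact Transfer.MaxClass.pow_mem_commutator hP hidx hne x
  refine lc_two_le_center hx.toMaxCl ?_
  rw [← cent_inf_lc hx le_rfl (by omega)]
  exact ⟨Subgroup.mem_centralizer_singleton_iff.2 (Commute.pow_self x p).eq, h1⟩

/-- Every element of the coset has the same `p`-th power. -/
theorem pow_coset {c : G} (hc : c ∈ lc G 1) : (c * x) ^ p = x ^ p := by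
  obtain ⟨a, rfl⟩ := exists_comm_eq_top hx hc
  rw [commutatorElement_def, inv_mul_cancel_right, conj_pow,
    Subgroup.mem_center_iff.1 (pow_mem_center hx) a, mul_inv_cancel_right]

/-- `g ^ p` times the `(p - 1)`-st commutator of `g` with `x` descends `p` steps. -/
theorem pow_mul_mem : ∀ r i, n ≤ i + r → 1 ≤ i → ∀ g ∈ lc G i,
    g ^ p * (dl x)^[p - 1] g ∈ lc G (i + p) := by
  intro r
  induction r with
  | zero =>
    intro i hi _ g hg
    rw [lc_eq_bot hx.toMaxCl (by omega), Subgroup.mem_bot] at hg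
    have h : ∀ m, (dl x)^[m] (1 : G) = 1 := fun m => by
      induction m with
      | zero => rfl
      | succ m ih => rw [Function.iterate_succ_apply', ih]; simp [dl]
    simp [hg, h]
  | succ r ih =>
    intro i hi h1 g hg
    have hp2 := hp.out.two_le
    have he : ∀ c ∈ lc G (i + 1), c ^ p ∈ lc G (i + p) := fun u hu => by
      have h2 := ih (i + 1) (by omega) (by omega) u hu
      have h3 := dl_iter_mem (x := x) hu (p - 1)
      have := mul_mem (lc_anti (by omega : i + p ≤ i + 1 + p) h2)
        (inv_mem (lc_anti (by omega : i + p ≤ i + 1 + (p - 1)) h3))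
      simpa using this
    refine (QuotientGroup.eq_one_iff _).1 ?_
    show QuotientGroup.mk' (lc G (i + p)) _ = 1
    rw [← pow_congr (x := x) h1 hg he, pow_coset hx (lc_anti h1 hg), mul_inv_cancel, map_one]

theorem pow_mem_lc {g : G} {k : ℕ} (h1 : 1 ≤ k) (hg : g ∈ lc G k) :
    g ^ p ∈ lc G (k + (p - 1)) := by
  have := hp.out.two_le
  have h := mul_mem (lc_anti (by omega : k + (p - 1) ≤ k + p) (pow_mul_mem hx n k (by omega) h1 g hg))
    (inv_mem (dl_iter_mem (x := x) hg (p - 1)))
  simpa using h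

theorem pow_not_mem {g : G} {k : ℕ} (h1 : 1 ≤ k) (hg : g ∈ lc G k) (hg' : g ∉ lc G (k + 1))
    (hk : k + (p - 1) + 2 ≤ n) : g ^ p ∉ lc G (k + (p - 1) + 1) := by
  have h2 := hp.out.two_le
  intro h
  refine dl_iter_not_mem hx h1 hg hg' (p - 1) hk ?_
  rw [show k + (p - 1) + 1 = k + p by omega] at h ⊢
  have := mul_mem (inv_mem h) (pow_mul_mem hx n k (by omega) h1 g hg)
  simpa using this

theorem not_mem_Ck {k : ℕ} (h1 : 1 ≤ k) (h3 : k + 3 ≤ n) : x ∉ Ck G k := by
  intro h
  obtain ⟨a, ha, ha'⟩ := exists_depth hx.toMaxCl h1 (by omega)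
  exact comm_not_mem hx h1 h3 ha ha' (mem_Ck.1 h a ha)

theorem lc_one_comm {a b : G} (ha : a ∈ lc G 1) (hb : b ∈ lc G 1) : ⁅a, b⁆ ∈ lc G 4 := by
  obtain ⟨s, hs, hs'⟩ := exists_depth hx.toMaxCl (k := 1) le_rfl (by have := hx.three_le; omega)
  have hle : ∀ u ∈ lc G 1, s ∈ modCent (lc G 4) u → lc G 1 ≤ modCent (lc G 4) u := fun u hu hsu => by
    rw [← sup_zpowers hx.toMaxCl le_rfl hs hs']
    exact sup_le (fun c hc => mem_modCent.2 (lc_anti (a := 4) (b := 1 + 1 + 1 + 1) (by omega) (lc_comm (a := 1 + 1) (b := 1) hc hu))) (Subgroup.zpowers_le.2 hsu)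
  have h1 := hle s hs (mem_modCent.2 (by simp))
  have h2 : s ∈ modCent (lc G 4) b := by
    refine mem_modCent.2 ?_
    rw [← commutatorElement_inv]
    exact inv_mem (mem_modCent.1 (h1 hb))
  exact mem_modCent.1 (hle b hb h2 ha)

theorem Ck_one_le_two : Ck G 1 ≤ Ck G 2 := by
  intro h hh
  set π := QuotientGroup.mk' (lc G 4)
  have hle : lc G (1 + 1) ≤ modCent (lc G 4) h := by
    rw [lc, Subgroup.lowerCentralSeries_succ, Subgroup.commutator_le]
    intro b hb y _
    refine mem_modCent.2 ((QuotientGroup.eq_one_iff _).1 ?_)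
    show π ⁅⁅b, y⁆, h⁆ = 1
    have hu : b⁻¹ * (h * b * h⁻¹) ∈ lc G 3 := by
      have := mem_Ck.1 hh b⁻¹ (inv_mem hb)
      simpa [commutatorElement_def, mul_assoc] using this
    have hv : y⁻¹ * (h * y * h⁻¹) ∈ lc G 1 := by
      have := lc_step (k := 0) (a := y⁻¹) (y := h) (by simp)
      simpa [commutatorElement_def, mul_assoc] using this
    set u := b⁻¹ * (h * b * h⁻¹)
    set v := y⁻¹ * (h * y * h⁻¹)
    have hc : ∀ w, π u * π w = π w * π u := fun w => by
      rw [← commutatorElement_eq_one_iff_mul_comm, ← map_commutatorElement]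
      exact (QuotientGroup.eq_one_iff _).2 (lc_step hu)
    have hbv : π b * π v = π v * π b := by
      rw [← commutatorElement_eq_one_iff_mul_comm, ← map_commutatorElement]
      exact (QuotientGroup.eq_one_iff _).2 (lc_one_comm hx hb hv)
    have key : π (h * ⁅b, y⁆ * h⁻¹) = π ⁅b, y⁆ := by
      have e : h * ⁅b, y⁆ * h⁻¹ = ⁅b * u, y * v⁆ := by
        simp only [u, v, commutatorElement_def]; group
      rw [e, map_commutatorElement, map_commutatorElement, map_mul, map_mul]
      simp only [commutatorElement_def]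
      calc π b * π u * (π y * π v) * (π b * π u)⁻¹ * (π y * π v)⁻¹
          = π b * (π u * (π y * π v)) * (π u)⁻¹ * (π b)⁻¹ * (π v)⁻¹ * (π y)⁻¹ := by group
        _ = π b * ((π y * π v) * π u) * (π u)⁻¹ * (π b)⁻¹ * (π v)⁻¹ * (π y)⁻¹ := by
            rw [← map_mul π y v, hc]
        _ = π b * π y * (π v * (π b)⁻¹) * (π v)⁻¹ * (π y)⁻¹ := by group
        _ = π b * π y * ((π b)⁻¹ * π v) * (π v)⁻¹ * (π y)⁻¹ := by
            rw [((Commute.inv_left (show Commute (π b) (π v) from hbv))).eq]
        _ = π b * π y * (π b)⁻¹ * (π y)⁻¹ := by group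
    rw [map_commutatorElement, commutatorElement_eq_one_iff_mul_comm]
    rw [map_mul, map_mul, map_inv, mul_inv_eq_iff_eq_mul] at key
    exact key.symm
  exact mem_Ck.2 fun a ha => mem_modCent.1 (hle ha)

theorem Ck_le_shift {k : ℕ} (h1 : 1 ≤ k) : Ck G k ≤ Ck G (k + (p - 1)) := by
  intro h hh
  have h2 := hp.out.two_le
  by_cases hn : k + (p - 1) + 2 ≤ n
  · obtain ⟨g, hg, hg'⟩ := exists_depth hx.toMaxCl h1 (by omega)
    refine mem_Ck_of_depth hx.toMaxCl (by omega) (pow_mem_lc hx h1 hg) (pow_not_mem hx h1 hg hg' hn) ?_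
    set N := lc G (k + (p - 1) + 2)
    have hw : h * g * h⁻¹ * g⁻¹ ∈ lc G (k + 2) := by
      have := inv_mem (mem_Ck.1 hh g hg)
      simpa [commutatorElement_def, mul_assoc] using this
    set w := h * g * h⁻¹ * g⁻¹ with hwdef
    have hcong := pow_congr (x := g) (by omega : 1 ≤ k + 2) hw fun c hc =>
      lc_anti (by omega) (pow_mem_lc hx (by omega) hc)
    have hd : ∀ m, 1 ≤ m → (dl g)^[m] w ∈ lc G (k + 2 + k + m) := by
      intro m hm
      induction m, hm using Nat.le_induction with
      | base =>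
        simp only [Function.iterate_one]
        have e : dl g w = ⁅w⁻¹, g⁆ := by simp [dl, commutatorElement_def, mul_assoc]
        rw [e]
        exact lc_comm (inv_mem hw) hg
      | succ m hm ihm =>
        rw [Function.iterate_succ_apply', show k + 2 + k + (m + 1) = k + 2 + k + m + 1 by omega]
        exact dl_mem ihm
    have h3 : w ^ p * (dl g)^[p - 1] w ∈ N :=
      mul_mem (lc_anti (by omega) (pow_mem_lc hx (by omega) hw))
        (lc_anti (by omega) (hd (p - 1) (by omega)))
    have h4 : (w * g) ^ p * (g ^ p)⁻¹ ∈ N := by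
      have h5 : (((w * g) ^ p * (g ^ p)⁻¹)⁻¹ * (w ^ p * (dl g)^[p - 1] w)) ∈ lc G (k + 2 + p) :=
        QuotientGroup.eq.1 hcong
      have h6 := mul_mem h3 (inv_mem (lc_anti (by omega : k + (p - 1) + 2 ≤ k + 2 + p) h5))
      simpa [mul_assoc] using h6
    rw [show w * g = h * g * h⁻¹ by simp [hwdef], conj_pow] at h4
    have h7 := inv_mem h4
    simpa [commutatorElement_def, mul_assoc] using h7
  · refine mem_Ck.2 fun a ha => ?_
    have hz := lc_step (y := h) ha
    rw [lc_eq_bot hx.toMaxCl (by omega : n - 1 ≤ k + (p - 1) + 1), Subgroup.mem_bot] at hz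
    rw [hz]
    exact one_mem _

end uniform

section existence

variable {G : Type*} [Group G] [Finite G] {p n : ℕ} [hp : Fact p.Prime]

theorem center_ne_top (hm : MaxCl G p n) : Subgroup.center G ≠ ⊤ := by
  intro e
  have h : lc G 1 = ⊥ := by
    rw [eq_bot_iff, lc, Subgroup.lowerCentralSeries_succ, Subgroup.commutator_le]
    intro a _ b _
    rw [Subgroup.mem_bot, commutatorElement_eq_one_iff_mul_comm]
    exact (Subgroup.mem_center_iff.1 (e ▸ Subgroup.mem_top a) b).symm
  have h2 := card_lc hm (k := 1) le_rfl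
  rw [h, Subgroup.card_bot] at h2
  have := hm.three_le
  exact absurd h2 (Nat.one_lt_pow (by omega) hp.out.one_lt).ne

theorem Ck_ne_top (hm : MaxCl G p n) {k : ℕ} (h1 : 1 ≤ k) (h3 : k + 3 ≤ n) : Ck G k ≠ ⊤ := by
  intro e
  have hle : lc G (k + 1) ≤ lc G (k + 1 + 1) := by
    conv_lhs => rw [lc, Subgroup.lowerCentralSeries_succ]
    rw [Subgroup.commutator_le]
    intro a ha b _
    exact mem_Ck.1 (e ▸ Subgroup.mem_top b) a ha
  have he := Subgroup.card_le_of_le hle
  rw [card_lc hm (by omega), card_lc hm (by omega)] at he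
  have := (Nat.pow_le_pow_iff_right hp.out.one_lt).1 he
  omega

theorem Ck_index (hm : MaxCl G p n) {k : ℕ} (h1 : 1 ≤ k) (h3 : k + 3 ≤ n) : (Ck G k).index = p := by
  obtain ⟨a, ha, ha'⟩ := exists_depth hm h1 (by omega)
  set π := QuotientGroup.mk' (lc G (k + 2))
  have hcen : ∀ w ∈ lc G (k + 1), ∀ v : G, Commute (π w) (π v) := fun w hw v => by
    show π w * π v = π v * π w
    rw [← commutatorElement_eq_one_iff_mul_comm, ← map_commutatorElement]
    exact (QuotientGroup.eq_one_iff _).2 (lc_step hw)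
  have hmul : ∀ u v : G, π ⁅a, u * v⁆ = π ⁅a, u⁆ * π ⁅a, v⁆ := fun u v => by
    have e1 : ⁅a, u * v⁆ = ⁅a, u⁆ * (u * ⁅a, v⁆ * u⁻¹) := by
      simp only [commutatorElement_def]; group
    rw [e1]
    simp only [map_mul, map_inv]
    rw [← (hcen _ (lc_step ha) u).eq, mul_inv_cancel_right]
  let φ : G →* G ⧸ lc G (k + 2) := MonoidHom.mk' (fun u => π ⁅a, u⁆) hmul
  have hker : φ.ker ≤ Ck G k := fun h hh =>
    mem_Ck_of_depth hm h1 ha ha' ((QuotientGroup.eq_one_iff _).1 (MonoidHom.mem_ker.1 hh))
  have hrange : φ.range ≤ (lc G (k + 1)).map π := by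
    rintro _ ⟨u, rfl⟩
    exact Subgroup.mem_map_of_mem π (lc_step ha)
  have hcard : Nat.card ((lc G (k + 1)).map π) = p := by
    have h : Nat.card ((lc G (k + 1)).map π) = (lc G (k + 2)).relIndex (lc G (k + 1)) := by
      rw [← Subgroup.relIndex_bot_left]
      conv_rhs => rw [← QuotientGroup.ker_mk' (lc G (k + 2)), ← MonoidHom.comap_bot,
        Subgroup.relIndex_comap]
    rw [h]
    refine Nat.eq_of_mul_eq_mul_left (Nat.card_pos (α := lc G (k + 2))) ?_
    rw [Grp.card_mul_relIndex (lc_anti (Nat.le_succ (k + 1))), card_lc hm (by omega),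
      card_lc hm (by omega), ← pow_succ]
    congr 1
    omega
  have hd : (Ck G k).index ∣ p := by
    refine (Subgroup.index_dvd_of_le hker).trans ?_
    rw [Subgroup.index_ker, ← hcard]
    exact Subgroup.card_dvd_of_le hrange
  rcases (Nat.dvd_prime hp.out).1 hd with h | h
  · exact absurd (Subgroup.index_eq_one.1 h) (Ck_ne_top hm h1 h3)
  · exact h

/-- An element outside all the two-step centralizers has centralizer of order `p ^ 2`. -/
theorem uniform_of_not_mem (hm : MaxCl G p n) {x : G} (hx1 : x ∉ lc G 1)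
    (hxc : x ∉ Subgroup.center G) (hx : ∀ k, 1 ≤ k → k + 3 ≤ n → x ∉ Ck G k) :
    Uniform G p n x := by
  have hn := hm.three_le
  refine ⟨hm, ?_⟩
  set C := Subgroup.centralizer ({x} : Set G)
  have hZC : lc G (n - 2) ≤ C := fun z hz => Subgroup.mem_centralizer_singleton_iff.2
    (Subgroup.mem_center_iff.1 (lc_two_le_center hm hz) x).symm
  have hCl : C ⊓ lc G 1 = lc G (n - 2) := by
    refine le_antisymm ?_ (le_inf hZC (lc_anti (by omega)))
    intro c hc
    have hind : ∀ j, 1 ≤ j → j ≤ n - 2 → c ∈ lc G j := by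
      intro j hj
      induction j, hj using Nat.le_induction with
      | base => exact fun _ => hc.2
      | succ j hj ih =>
        intro hjn
        by_contra hcj
        refine hx j hj (by omega) (mem_Ck_of_depth hm hj (ih (by omega)) hcj ?_)
        rw [commutatorElement_eq_one_iff_mul_comm.2 (Subgroup.mem_centralizer_singleton_iff.1 hc.1)]
        exact one_mem _
    exact hind (n - 2) (by omega) le_rfl
  have hxC : x ∈ C := Subgroup.mem_centralizer_singleton_iff.2 rfl
  have htop : C ⊔ lc G 1 ≠ ⊤ := by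
    intro e
    haveI : Group.IsNilpotent G := (IsPGroup.of_card hm.card).isNilpotent
    have hC : C = ⊤ := frattini_nongenerating (top_le_iff.1 (by
      rw [← e]
      refine sup_le_sup_left ?_ _
      rw [lc, Subgroup.top_lowerCentralSeries_one]
      exact Grp.pGroup_commutator_le_frattini (IsPGroup.of_card hm.card)))
    exact hxc (Subgroup.mem_center_iff.2 fun g =>
      Subgroup.mem_centralizer_singleton_iff.1 ((show C = ⊤ from hC).ge (Subgroup.mem_top g)))
  set S := C ⊔ lc G 1
  obtain ⟨e, -, he⟩ := (Nat.dvd_prime_pow hp.out).1 (hm.card ▸ S.card_subgroup_dvd_card)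
  have hlt : Nat.card (lc G 1) < Nat.card S :=
    lt_of_le_of_ne (Subgroup.card_le_of_le le_sup_right) fun eq => hx1 (by
      rw [Subgroup.eq_of_le_of_card_ge (le_sup_right : lc G 1 ≤ S) eq.ge]
      exact Subgroup.mem_sup_left hxC)
  rw [card_lc hm le_rfl, he] at hlt
  have h1 := (Nat.pow_lt_pow_iff_right hp.out.one_lt).1 hlt
  have hne : e ≠ n := fun eq => htop (Subgroup.eq_top_of_card_eq _ (by rw [he, hm.card, eq]))
  have hle : e ≤ n := (Nat.pow_dvd_pow_iff_le_right hp.out.one_lt).1
    (he ▸ hm.card ▸ S.card_subgroup_dvd_card)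
  have hmul : Nat.card S * Nat.card ↥(C ⊓ lc G 1) = Nat.card C * Nat.card (lc G 1) :=
    Grp.card_sup_mul_card_inf_normal
  rw [he, hCl, card_lc hm (by omega), card_lc hm le_rfl, ← pow_add] at hmul
  refine Nat.eq_of_mul_eq_mul_right (pow_pos hp.out.pos (n - 1 - 1)) ?_
  rw [← hmul, ← pow_add]
  congr 1
  omega

theorem quot (hm : MaxCl G p n) (h4 : 4 ≤ n) :
    MaxCl (G ⧸ lc G (n - 2)) p (n - 1) ∧
      ∀ k, k + 4 ≤ n → Ck G k = (Ck (G ⧸ lc G (n - 2)) k).comap (QuotientGroup.mk' (lc G (n - 2))) := by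
  set π := QuotientGroup.mk' (lc G (n - 2))
  have hπ : ∀ k, (lc G k).map π = lc (G ⧸ lc G (n - 2)) k := fun k => by
    exact (Subgroup.map_lowerCentralSeries _ _ _).trans (congrArg (fun S => Subgroup.lowerCentralSeries S _)
              (Subgroup.map_top_of_surjective _ (QuotientGroup.mk'_surjective _)))
  refine ⟨⟨?_, by omega, ?_⟩, fun k hk => ?_⟩
  · rw [← Subgroup.index_eq_card, lc_index hm (by omega) (by omega)]
    congr 1
    omega
  · haveI : Group.IsNilpotent G := (IsPGroup.of_card hm.card).isNilpotent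
    refine le_antisymm (Subgroup.lowerCentralSeries_eq_bot_iff_nilpotencyClass_le.1 ?_) ?_
    · show lc _ (n - 1 - 1) = ⊥
      rw [← hπ, show n - 1 - 1 = n - 2 by omega, eq_bot_iff]
      rintro _ ⟨z, hz, rfl⟩
      exact (QuotientGroup.eq_one_iff z).2 hz
    · by_contra hlt
      have hb : lc (G ⧸ lc G (n - 2)) (n - 3) = ⊥ :=
        Subgroup.lowerCentralSeries_eq_bot_iff_nilpotencyClass_le.2 (by omega)
      rw [← hπ, eq_bot_iff] at hb
      obtain ⟨a, ha, ha'⟩ := exists_depth hm (k := n - 3) (by omega) (by omega)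
      rw [show n - 3 + 1 = n - 2 by omega] at ha'
      exact ha' ((QuotientGroup.eq_one_iff a).1 (hb (Subgroup.mem_map_of_mem π ha)))
  · ext h
    rw [Subgroup.mem_comap, mem_Ck, mem_Ck, ← hπ, ← hπ]
    constructor
    · rintro hh _ ⟨a, ha, rfl⟩
      rw [← map_commutatorElement]
      exact Subgroup.mem_map_of_mem π (hh a ha)
    · intro hh a ha
      obtain ⟨b, hb, e⟩ := hh _ (Subgroup.mem_map_of_mem π ha)
      rw [← map_commutatorElement] at e
      have h1 : b⁻¹ * ⁅a, h⁆ ∈ lc G (n - 2) := QuotientGroup.eq.1 e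
      have h2 := mul_mem hb (lc_anti (by omega : k + 2 ≤ n - 2) h1)
      simpa using h2

/-- Fewer than `p + 1` proper subgroups do not cover a `p`-group. -/
theorem exists_not_mem_of_card_le {m : ℕ} (hG : Nat.card G = p ^ (m + 1)) (T : Finset (Subgroup G))
    (hT : ∀ S ∈ T, S ≠ ⊤) (hc : T.card ≤ p) : ∃ x : G, ∀ S ∈ T, x ∉ S := by
  classical
  have := Fintype.ofFinite G
  have hb : ∀ S ∈ T, ((Finset.univ : Finset G).filter fun g => g ∈ S ∧ g ≠ 1).card + 1 ≤ p ^ m := by
    intro S hS
    obtain ⟨j, hj, e⟩ := (Nat.dvd_prime_pow hp.out).1 (hG ▸ S.card_subgroup_dvd_card)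
    have hne : j ≠ m + 1 := fun eq => hT S hS (Subgroup.eq_top_of_card_eq _ (by rw [e, hG, eq]))
    have h2 : Nat.card S ≤ p ^ m := e ▸ Nat.pow_le_pow_right hp.out.pos (by omega)
    refine le_trans (le_of_eq ?_) h2
    rw [Nat.card_eq_fintype_card, Fintype.card_subtype,
      ← Finset.card_erase_add_one (show (1 : G) ∈ (Finset.univ : Finset G).filter (· ∈ S) by simp)]
    congr 2
    ext g
    simp [and_comm]
  by_contra h
  push Not at h
  have hsub : (Finset.univ : Finset G).erase 1 ⊆
      T.biUnion fun S => (Finset.univ : Finset G).filter fun g => g ∈ S ∧ g ≠ 1 := by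
    intro g hg
    obtain ⟨S, hS, hgS⟩ := h g
    exact Finset.mem_biUnion.2 ⟨S, hS, by simp [hgS, (Finset.mem_erase.1 hg).1]⟩
  have h1 := (Finset.card_le_card hsub).trans
    (Finset.card_biUnion_le_card_mul _ _ (p ^ m - 1) fun S hS => by have := hb S hS; omega)
  rw [Finset.card_erase_of_mem (Finset.mem_univ _), Finset.card_univ,
    ← Nat.card_eq_fintype_card, hG, pow_succ] at h1
  have h2 : T.card * (p ^ m - 1) ≤ p * (p ^ m - 1) := Nat.mul_le_mul_right _ hc
  have h3 := pow_pos hp.out.pos m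
  have h4 : p * (p ^ m - 1) + p = p ^ m * p := by
    rw [← Nat.mul_succ, Nat.succ_eq_add_one, Nat.sub_add_cancel h3, mul_comm]
  have := hp.out.two_le
  omega

end existence

/-- Blackburn: uniform elements exist outside every proper subgroup. -/
theorem exists_uniform_outside {p : ℕ} [hp : Fact p.Prime] :
    ∀ n {G : Type*} [Group G] [Finite G], MaxCl G p n → ∀ M0 : Subgroup G, M0 ≠ ⊤ →
      ∃ x : G, x ∉ M0 ∧ Uniform G p n x := by
  intro n
  induction n using Nat.strong_induction_on with
  | _ n ih =>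
  intro G _ _ hm M0 hM0
  classical
  have hn := hm.three_le
  have h2 := hp.out.two_le
  have hcard : Nat.card G = p ^ (n - 1 + 1) := by rw [hm.card]; congr 1; omega
  by_cases h4 : n = 3
  · subst h4
    obtain ⟨x, hx⟩ := exists_not_mem_of_card_le hcard {M0, Subgroup.center G} (by
      intro S hS
      rcases Finset.mem_insert.1 hS with rfl | h
      · exact hM0
      · exact Finset.mem_singleton.1 h ▸ center_ne_top hm) (Finset.card_le_two.trans h2)
    have hc : x ∉ Subgroup.center G := hx _ (Finset.mem_insert_of_mem (Finset.mem_singleton_self _))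
    exact ⟨x, hx _ (Finset.mem_insert_self _ _),
      uniform_of_not_mem hm (fun h => hc (lc_two_le_center hm h)) hc fun k _ hk => by omega⟩
  obtain ⟨T, hTc, hTne, hT⟩ : ∃ T : Finset (Subgroup G), T.card + 1 ≤ p ∧
      (∀ S ∈ T, S ≠ ⊤) ∧ ∀ k, 1 ≤ k → k + 3 ≤ n → Ck G k ∈ T := by
    by_cases hsmall : n - 3 + 1 ≤ p
    · refine ⟨(Finset.Icc 1 (n - 3)).image (Ck G), ?_, fun S hS => ?_, fun k h1 h3 =>
        Finset.mem_image.2 ⟨k, Finset.mem_Icc.2 ⟨h1, by omega⟩, rfl⟩⟩
      swap
      · obtain ⟨k, hk, rfl⟩ := Finset.mem_image.1 hS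
        rw [Finset.mem_Icc] at hk
        exact Ck_ne_top hm hk.1 (by omega)
      have := (Finset.card_image_le (s := Finset.Icc 1 (n - 3)) (f := Ck G))
      rw [Nat.card_Icc] at this
      omega
    obtain ⟨hq, hCk⟩ := quot hm (by omega)
    haveI hnt : Nontrivial (G ⧸ lc G (n - 2)) := Finite.one_lt_card_iff_nontrivial.1
      (by rw [hq.card]; exact Nat.one_lt_pow (by omega) hp.out.one_lt)
    obtain ⟨xb, -, hxb⟩ := ih (n - 1) (by omega) hq ⊥ bot_ne_top
    have hsh : ∀ k, 1 ≤ k → k + (p - 1) + 4 ≤ n → Ck G k = Ck G (k + (p - 1)) := fun k h1 h2 => by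
      rw [hCk k (by omega), hCk _ h2]
      congr 1
      exact Subgroup.eq_of_le_of_card_ge (Ck_le_shift hxb h1) (le_of_eq (by
        have e1 := (Ck (G ⧸ lc G (n - 2)) k).card_mul_index
        have e2 := (Ck (G ⧸ lc G (n - 2)) (k + (p - 1))).card_mul_index
        rw [Ck_index hq h1 (by omega)] at e1
        rw [Ck_index hq (by omega) (by omega), ← e1] at e2
        exact Nat.eq_of_mul_eq_mul_right hp.out.pos e2))
    have hred : ∀ k, 1 ≤ k → k + 4 ≤ n → ∃ j, 1 ≤ j ∧ j ≤ p - 1 ∧ Ck G k = Ck G j := by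
      intro k
      induction k using Nat.strong_induction_on with
      | _ k ihk =>
        intro h1 h3
        by_cases hk : k ≤ p - 1
        · exact ⟨k, h1, hk, rfl⟩
        obtain ⟨j, hj1, hj2, e⟩ := ihk (k - (p - 1)) (by omega) (by omega) (by omega)
        refine ⟨j, hj1, hj2, e ▸ ?_⟩
        have := hsh (k - (p - 1)) (by omega) (by omega)
        rw [show k - (p - 1) + (p - 1) = k by omega] at this
        exact this.symm
    rcases h2.eq_or_lt with hp2 | hp3
    · -- `p = 2`
      refine ⟨{Ck G (n - 3)}, by simp [← hp2], fun S hS =>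
        Finset.mem_singleton.1 hS ▸ Ck_ne_top hm (by omega) (by omega), fun k h1 h3 => Finset.mem_singleton.2 ?_⟩
      have htop : Ck G (n - 4) = Ck G (n - 3) := by
        refine Subgroup.eq_of_le_of_card_ge ?_ (le_of_eq ?_)
        · intro h hh
          obtain ⟨a, ha, ha'⟩ := exists_depth hm (k := n - 4) (by omega) (by omega)
          have hmap : ∀ j, (lc G j).map (QuotientGroup.mk' (lc G (n - 2))) =
              lc (G ⧸ lc G (n - 2)) j := fun j => by
            exact (Subgroup.map_lowerCentralSeries _ _ _).trans (congrArg (fun S => Subgroup.lowerCentralSeries S _)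
              (Subgroup.map_top_of_surjective _ (QuotientGroup.mk'_surjective _)))
          have hmem : ∀ {j : ℕ}, j ≤ n - 2 → ∀ {g : G},
              QuotientGroup.mk' (lc G (n - 2)) g ∈ lc (G ⧸ lc G (n - 2)) j → g ∈ lc G j := by
            intro j hj g hg
            rw [← hmap] at hg
            obtain ⟨b, hb, e⟩ := hg
            have := mul_mem hb (lc_anti hj (QuotientGroup.eq.1 e))
            simpa using this
          have hab := Subgroup.mem_map_of_mem (QuotientGroup.mk' (lc G (n - 2))) ha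
          rw [hmap] at hab
          have hb := pow_mem_lc hxb (by omega) hab
          have hb' := pow_not_mem hxb (k := n - 4) (by omega) hab
            (fun h' => ha' (hmem (by omega) h')) (by omega)
          rw [← map_pow] at hb hb'
          rw [show n - 4 + (p - 1) = n - 3 by omega] at hb hb'
          have hs : a ^ p ∈ lc G (n - 3) := hmem (by omega) hb
          have hs' : a ^ p ∉ lc G (n - 3 + 1) := fun h' => hb' (by
            rw [← hmap]; exact Subgroup.mem_map_of_mem _ h')
          refine mem_Ck_of_depth hm (by omega) hs hs' ?_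
          have hu : ⁅h, a⁆ ∈ lc G (n - 2) := by
            rw [← commutatorElement_inv]
            exact lc_anti (by omega) (inv_mem (mem_Ck.1 hh a ha))
          have hu2 : ⁅h, a⁆ ^ p = 1 := by
            have hco : Nat.card (lc G (n - 2)) = p := by
              rw [card_lc hm (by omega), show n - 1 - (n - 2) = 1 by omega, pow_one]
            have h5 : (⟨_, hu⟩ : lc G (n - 2)) ^ p = 1 := by
              conv_lhs => arg 2; rw [← hco]
              exact pow_card_eq_one'
            exact congrArg Subtype.val h5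
          have hco : Commute ⁅h, a⁆ a :=
            (Subgroup.mem_center_iff.1 (lc_two_le_center hm hu) a).symm
          have e1 : h * a ^ p * h⁻¹ = a ^ p := by
            rw [← conj_pow, show h * a * h⁻¹ = ⁅h, a⁆ * a by simp [commutatorElement_def],
              hco.mul_pow, hu2, one_mul]
          rw [commutatorElement_eq_one_iff_mul_comm.2 (mul_inv_eq_iff_eq_mul.1 e1).symm]
          exact one_mem _
        · have e1 := (Ck G (n - 4)).card_mul_index
          have e2 := (Ck G (n - 3)).card_mul_index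
          rw [Ck_index hm (by omega) (by omega)] at e1
          rw [Ck_index hm (by omega) (by omega), ← e1] at e2
          exact Nat.eq_of_mul_eq_mul_right hp.out.pos e2
      by_cases hk : k = n - 3
      · rw [hk]
      · obtain ⟨j, hj1, hj2, e⟩ := hred k h1 (by omega)
        obtain ⟨i, hi1, hi2, e'⟩ := hred (n - 4) (by omega) (by omega)
        rw [← htop, e, e', show j = 1 by omega, show i = 1 by omega]
    · refine ⟨insert (Ck G (n - 3)) ((Finset.Icc 2 (p - 1)).image (Ck G)), ?_, fun S hS => ?_, fun k h1 h3 => ?_⟩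
      · have h5 := Finset.card_insert_le (Ck G (n - 3)) ((Finset.Icc 2 (p - 1)).image (Ck G))
        have h6 := Finset.card_image_le (s := Finset.Icc 2 (p - 1)) (f := Ck G)
        rw [Nat.card_Icc] at h6
        omega
      · rcases Finset.mem_insert.1 hS with rfl | hS'
        · exact Ck_ne_top hm (by omega) (by omega)
        · obtain ⟨k, hk, rfl⟩ := Finset.mem_image.1 hS'
          rw [Finset.mem_Icc] at hk
          exact Ck_ne_top hm (by omega) (by omega)
      by_cases hk : k = n - 3
      · rw [hk]; exact Finset.mem_insert_self _ _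
      obtain ⟨j, hj1, hj2, e⟩ := hred k h1 (by omega)
      refine Finset.mem_insert_of_mem (Finset.mem_image.2 ?_)
      by_cases hj : j = 1
      · refine ⟨2, Finset.mem_Icc.2 ⟨le_rfl, by omega⟩, ?_⟩
        rw [e, hj, hCk 2 (by omega), hCk 1 (by omega)]
        congr 1
        symm
        refine Subgroup.eq_of_le_of_card_ge (Ck_one_le_two hxb) (le_of_eq ?_)
        have e1 := (Ck (G ⧸ lc G (n - 2)) 1).card_mul_index
        have e2 := (Ck (G ⧸ lc G (n - 2)) 2).card_mul_index
        rw [Ck_index hq le_rfl (by omega)] at e1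
        rw [Ck_index hq (by omega) (by omega), ← e1] at e2
        exact Nat.eq_of_mul_eq_mul_right hp.out.pos e2
      · exact ⟨j, Finset.mem_Icc.2 ⟨by omega, hj2⟩, e.symm⟩
  obtain ⟨x, hx⟩ := exists_not_mem_of_card_le hcard (insert M0 T) (by
      intro S hS
      rcases Finset.mem_insert.1 hS with rfl | hS'
      · exact hM0
      · exact hTne S hS') ((Finset.card_insert_le _ _).trans hTc)
  have h1 : x ∉ Ck G 1 := hx _ (Finset.mem_insert_of_mem (hT 1 le_rfl (by omega)))
  refine ⟨x, hx _ (Finset.mem_insert_self _ _), uniform_of_not_mem hm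
    (fun h => h1 (lc_one_le_Ck 1 h)) (fun h => h1 (mem_Ck.2 fun a _ => ?_))
    fun k hk1 hk3 => hx _ (Finset.mem_insert_of_mem (hT k hk1 hk3))⟩
  rw [commutatorElement_eq_one_iff_mul_comm.2 (Subgroup.mem_center_iff.1 h a)]
  exact one_mem _

end Cfsg.Agent.Grp.Uni
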