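import Mathlib
import Cfsg.Agent.Lib.Grp.Basic

/-!
# Joins of subnormal subgroups and Wielandt's zipper lemma
-/

namespace Cfsg.Agent.Grp.SnJoin

open scoped Pointwise

universe u

/-- A minimal normal subgroup normalizes every subnormal subgroup. -/
theorem minimal_le_normalizer : ∀ (n : ℕ) (G : Type u) [Group G] [Finite G], Nat.card G = n →
    ∀ N : Subgroup G, N.Normal → (∀ L : Subgroup G, L.Normal → L ≤ N → L = ⊥ ∨ L = N) →
    ∀ A : Subgroup G, A.IsSubnormal → N ≤ Subgroup.normalizer (A : Set G) := by
  intro n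
  induction n using Nat.strong_induction_on with
  | _ n ih =>
    intro G _ _ hn N hN hmin A hA
    rcases hA.lt_normal with rfl | ⟨M, hM, hAM, hlt⟩
    · rw [Subgroup.normalizer_eq_top]; exact le_top
    rcases hmin (M ⊓ N) inferInstance inf_le_right with h0 | h0
    · intro x hx
      refine Subgroup.centralizer_le_normalizer _ (Subgroup.mem_centralizer_iff.2 fun y hy => ?_)
      exact Subgroup.commute_of_normal_of_disjoint _ _ hM hN (disjoint_iff.2 h0) y x (hAM hy) hx
    · have hNM : N ≤ M := h0 ▸ inf_le_left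
      by_cases hN0 : N = ⊥
      · rw [hN0]; exact bot_le
      have hcard : Nat.card M < n := by
        rw [← hn]
        exact (Nat.le_of_dvd Nat.card_pos (Subgroup.card_subgroup_dvd_card M)).lt_of_ne
          fun e => hlt.ne (Subgroup.eq_top_of_card_eq M e)
      have hne : N.subgroupOf M ≠ ⊥ := fun h => hN0 (by
        rw [← Subgroup.map_subgroupOf_eq_of_le hNM, h, Subgroup.map_bot])
      obtain ⟨K, hKn, hK0, hKN, hKmin⟩ := exists_minimal_normal_le (N := N.subgroupOf M) hne
      set D := Subgroup.normalClosure ((K.map M.subtype : Subgroup G) : Set G)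
      have hKG : K.map M.subtype ≤ N := by
        rw [← Subgroup.map_subgroupOf_eq_of_le hNM]; exact Subgroup.map_mono hKN
      have hD : D = N := by
        refine (hmin D inferInstance (Subgroup.normalClosure_le_normal hKG)).resolve_left fun h => hK0 ?_
        exact (Subgroup.map_eq_bot_iff_of_injective _ M.subtype_injective).1
          (eq_bot_iff.2 (h ▸ Subgroup.le_normalClosure))
      rw [← hD]
      refine (Subgroup.closure_le _).2 fun x hx => ?_
      obtain ⟨y, hy, hc⟩ := Group.mem_conjugatesOfSet_iff.1 hx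
      obtain ⟨g, rfl⟩ := isConj_iff.1 hc
      obtain ⟨k, hk, rfl⟩ := hy
      haveI := hM
      set φ : M →* M := (MulAut.conjNormal g : MulAut M).toMonoidHom
      have hφ : Function.Surjective φ := (MulAut.conjNormal g : MulAut M).surjective
      have hK' : (K.map φ).Normal := hKn.map φ hφ
      have hmin' : ∀ L : Subgroup M, L.Normal → L ≤ K.map φ → L = ⊥ ∨ L = K.map φ := by
        intro L hL hle
        by_cases hL0 : L = ⊥
        · exact Or.inl hL0
        refine Or.inr ?_
        have e : L.comap φ = K := (hKmin _ (hL.comap φ) (fun x hx => by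
            obtain ⟨y, hy, e⟩ := hle hx
            rwa [(MulAut.conjNormal g : MulAut M).injective e] at hy)).resolve_left fun h => hL0 (by
            rw [← Subgroup.map_comap_eq_self_of_surjective hφ L, h, Subgroup.map_bot])
        rw [← e, Subgroup.map_comap_eq_self_of_surjective hφ]
      have hz := ih _ hcard M rfl (K.map φ) hK' hmin' (A.subgroupOf M) hA.subgroupOf
        (Subgroup.mem_map_of_mem φ hk)
      rw [← Subgroup.subgroupOf_normalizer_eq hAM, Subgroup.mem_subgroupOf] at hz
      simpa [φ] using hz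

/-- The join of two subnormal subgroups is subnormal. -/
theorem isSubnormal_sup : ∀ (n : ℕ) (G : Type u) [Group G] [Finite G], Nat.card G = n →
    ∀ A B : Subgroup G, A.IsSubnormal → B.IsSubnormal → (A ⊔ B).IsSubnormal := by
  intro n
  induction n using Nat.strong_induction_on with
  | _ n ih =>
    intro G _ _ hn A B hA hB
    rcases subsingleton_or_nontrivial G with hss | hnt
    · exact Subgroup.IsSubnormal.of_subsingleton
    obtain ⟨N, hNn, hN0, -, hmin⟩ := exists_minimal_normal_le (N := (⊤ : Subgroup G))
      (by exact top_ne_bot)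
    haveI := hNn
    have hlt : Nat.card (G ⧸ N) < n := by
      rw [← hn, Subgroup.card_eq_card_quotient_mul_card_subgroup N]
      exact lt_mul_of_one_lt_right Nat.card_pos ((Subgroup.one_lt_card_iff_ne_bot N).2 hN0)
    have h1 := ih _ hlt (G ⧸ N) rfl _ _ (hA.quotient (K := N)) (hB.quotient (K := N))
    have h2 := h1.comap (QuotientGroup.mk' N)
    rw [← Subgroup.map_sup, Subgroup.comap_map_eq, QuotientGroup.ker_mk'] at h2
    refine Subgroup.IsSubnormal.step _ _ le_sup_left h2
      (Subgroup.normal_subgroupOf_of_le_normalizer (sup_le Subgroup.le_normalizer ?_))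
    intro x hx
    have ha := minimal_le_normalizer _ G rfl N hNn hmin A hA hx
    have hb := minimal_le_normalizer _ G rfl N hNn hmin B hB hx
    rw [Subgroup.mem_normalizer_iff_map_conj_eq] at ha hb ⊢
    rw [Subgroup.map_sup, ha, hb]

variable {G : Type u} [Group G] [Finite G]

/-- The property that a subgroup is subnormal in every proper overgroup. -/
def ProperSn (A : Subgroup G) : Prop := ∀ H : Subgroup G, H ≠ ⊤ → A ≤ H → (A.subgroupOf H).IsSubnormal

/-- Wielandt's zipper lemma. -/
theorem zipper : ∀ (k : ℕ) (A : Subgroup G), A.index = k → ¬ A.IsSubnormal → ProperSn A →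
    ∀ M K : Subgroup G, IsCoatom M → IsCoatom K → A ≤ M → A ≤ K → M = K := by
  intro k
  induction k using Nat.strong_induction_on with
  | _ k ih =>
    intro A hk hns hpr
    suffices h : ∀ M K : Subgroup G, IsCoatom M → IsCoatom K → Subgroup.normalizer (A : Set G) ≤ M →
        A ≤ K → K = M by
      obtain hN | ⟨M₀, hM₀, hle⟩ := eq_top_or_exists_le_coatom (Subgroup.normalizer (A : Set G))
      · exact absurd (Subgroup.normalizer_eq_top_iff.1 hN).isSubnormal hns
      intro M K hM hK hAM hAK
      rw [h M₀ M hM₀ hM hle hAM, h M₀ K hM₀ hK hle hAK]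
    intro M K hM hK hle hAK
    by_contra hne
    -- `A` is not normal in `K`
    have hnK : ¬ K ≤ Subgroup.normalizer (A : Set G) := fun h =>
      hne ((hK.le_iff.1 (h.trans hle)).resolve_left hM.1).symm
    have hsn := hpr K hK.1 hAK
    -- an element moving `A` inside its normalizer
    obtain ⟨f, hf⟩ := Subgroup.IsSubnormal.isSubnormal_iff.1 hsn
    obtain ⟨g, hmono, hstep, h0, hn'⟩ := hf
    have hex : ∃ i, ¬ (g i).map K.subtype ≤ Subgroup.normalizer (A : Set G) :=
      ⟨f, by rw [hn', ← MonoidHom.range_eq_map, Subgroup.range_subtype]; exact hnK⟩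
    classical
    set i := Nat.find hex with hi
    have hi0 : i ≠ 0 := fun h => by
      have := Nat.find_spec hex
      rw [← hi, h, h0, Subgroup.map_subgroupOf_eq_of_le hAK] at this
      exact this Subgroup.le_normalizer
    obtain ⟨j, hj⟩ := Nat.exists_eq_succ_of_ne_zero hi0
    have hspec := Nat.find_spec hex
    rw [← hi] at hspec
    obtain ⟨_, ⟨x, hx, rfl⟩, hxn⟩ := SetLike.not_le_iff_exists.1 hspec
    have hjN : (g j).map K.subtype ≤ Subgroup.normalizer (A : Set G) :=
      not_not.1 (Nat.find_min hex (show j < i by omega))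
    have hA0 : ∀ a, ∀ ha : a ∈ A, (⟨a, hAK ha⟩ : K) ∈ g j := fun a ha =>
      hmono (Nat.zero_le j) (by rw [h0]; exact ha)
    set A' := A.map (MulAut.conj (x : G)).toMonoidHom with hA'
    have hA'N : A' ≤ Subgroup.normalizer (A : Set G) := by
      rintro _ ⟨a, ha, rfl⟩
      refine hjN ⟨x * ⟨a, hAK ha⟩ * x⁻¹, ?_, by simp⟩
      have h1 := (hstep j).conj_mem ⟨⟨a, hAK ha⟩, hmono (show j ≤ j + 1 by omega) (hA0 a ha)⟩
        (hA0 a ha) ⟨x, by rw [← Nat.succ_eq_add_one, ← hj]; exact hx⟩
      exact h1
    have hA'K : A' ≤ K := by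
      rintro _ ⟨a, ha, rfl⟩
      exact mul_mem (mul_mem x.2 (hAK ha)) (inv_mem x.2)
    set B := A ⊔ A' with hB
    have hlt : A < B := lt_of_le_of_ne le_sup_left fun e => hxn (by
      have hA'A : A' ≤ A := (le_sup_right : A' ≤ B).trans_eq e.symm
      have hcard : Nat.card A' = Nat.card A :=
        Subgroup.card_map_of_injective (f := (MulAut.conj (x : G)).toMonoidHom) (MulAut.conj (x : G)).injective
      exact Subgroup.mem_normalizer_iff_map_conj_eq.2 (Subgroup.eq_of_le_of_card_ge hA'A hcard.ge))
    have hBN : B ≤ Subgroup.normalizer (A : Set G) := sup_le Subgroup.le_normalizer hA'N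
    have hBns : ¬ B.IsSubnormal := fun h => hns (Subgroup.IsSubnormal.step _ _ le_sup_left h
      (Subgroup.normal_subgroupOf_of_le_normalizer hBN))
    have hBpr : ProperSn B := by
      intro H hH hBH
      have h1 := hpr H hH (le_sup_left.trans hBH)
      have h2 : (A'.subgroupOf H).IsSubnormal := by
        set H' := H.map (MulAut.conj (x : G)⁻¹).toMonoidHom with hH'
        have hH'top : H' ≠ ⊤ := fun h => hH (by
          refine Subgroup.eq_top_of_card_eq H ?_
          rw [← Subgroup.card_map_of_injective (K := H) (f := (MulAut.conj (x : G)⁻¹).toMonoidHom) (MulAut.conj (x : G)⁻¹).injective, ← hH', h,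
            Subgroup.card_top])
        have hAH' : A ≤ H' := fun a ha =>
          ⟨(x : G) * a * (x : G)⁻¹, hBH (le_sup_right (a := A) ⟨a, ha, rfl⟩), by simp [mul_assoc]⟩
        have h3 := hpr H' hH'top hAH'
        let φ : H →* H' := (MulAut.conj (x : G)⁻¹).toMonoidHom.subgroupMap H
        have h4 := h3.comap φ
        convert h4 using 1
        ext ⟨y, hy⟩
        simp only [Subgroup.mem_subgroupOf, Subgroup.mem_comap, hA']
        constructor
        · rintro ⟨a, ha, e⟩
          show (x : G)⁻¹ * y * (x : G)⁻¹⁻¹ ∈ A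
          rw [← show (x : G) * a * (x : G)⁻¹ = y from e]
          simpa [mul_assoc] using ha
        · intro h
          exact ⟨_, h, show (x : G) * ((x : G)⁻¹ * y * (x : G)⁻¹⁻¹) * (x : G)⁻¹ = y by group⟩
      rw [hB, Subgroup.subgroupOf_sup (le_sup_left.trans hBH) (le_sup_right.trans hBH)]
      exact isSubnormal_sup _ H rfl _ _ h1 h2
    have hidx : B.index < k := by
      rw [← hk]
      exact Subgroup.index_strictAnti hlt
    exact hne (ih _ hidx B rfl hBns hBpr K M hK hM (sup_le hAK hA'K) (hBN.trans hle))

end Cfsg.Agent.Grp.SnJoin
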