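import Mathlib
import Cfsg.Agent.Lib.Grp.SchurZassenhaus
import Cfsg.Agent.Lib.Grp.SubnormalJoin

/-!
A conjugation closed family of subnormal subgroups: some member outside a subfamily normalizes its join.
-/

namespace Cfsg.Agent.Grp.SnFamily

open scoped Pointwise

universe u

/-- The statement for a group. -/
def Good (G : Type u) [Group G] : Prop :=
  ∀ S S₀ : Set (Subgroup G), (∀ U ∈ S, U.IsSubnormal) → (∀ U ∈ S, ∀ g : G, MulAut.conj g • U ∈ S) → S₀ ⊂ S →
    ∃ X ∈ S, X ∉ S₀ ∧ X ≤ Subgroup.normalizer ((sSup S₀ : Subgroup G) : Set G)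

variable {G : Type u} [Group G]

theorem of_good (V : Subgroup G) (h : Good V) (S S₀ : Set (Subgroup G)) (hle : ∀ U ∈ S, U ≤ V)
    (hsn : ∀ U ∈ S, (U.subgroupOf V).IsSubnormal) (hconj : ∀ U ∈ S, ∀ g ∈ V, MulAut.conj g • U ∈ S)
    (h0 : S₀ ⊂ S) : ∃ X ∈ S, X ∉ S₀ ∧ X ≤ Subgroup.normalizer ((sSup S₀ : Subgroup G) : Set G) := by
  set f := fun U : Subgroup G => U.subgroupOf V
  have hinj : ∀ U ∈ S, (f U).map V.subtype = U := fun U hU => Subgroup.map_subgroupOf_eq_of_le (hle U hU)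
  obtain ⟨X0, hX0, hX0'⟩ := Set.exists_of_ssubset h0
  have hss : f '' S₀ ⊂ f '' S := by
    refine (Set.image_mono h0.1).ssubset_of_ne fun e => ?_
    obtain ⟨U, hU, he⟩ : f X0 ∈ f '' S₀ := e ▸ ⟨X0, hX0, rfl⟩
    refine hX0' ?_
    rw [← hinj X0 hX0, ← he, hinj U (h0.1 hU)]
    exact hU
  obtain ⟨_, ⟨X, hX, rfl⟩, hXn, hXN⟩ := h (f '' S) (f '' S₀) (by rintro _ ⟨U, hU, rfl⟩; exact hsn U hU)
    (by
      rintro _ ⟨U, hU, rfl⟩ g
      refine ⟨MulAut.conj (g : G) • U, hconj U hU g g.2, ?_⟩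
      ext x
      simp only [f, Subgroup.mem_subgroupOf, mem_smul_conj, Subgroup.coe_mul, InvMemClass.coe_inv]) hss
  refine ⟨X, hX, fun hx => hXn ⟨X, hx, rfl⟩, fun x hx => ?_⟩
  have hJ : (sSup (f '' S₀)).map V.subtype = sSup S₀ := by
    rw [sSup_image, Subgroup.map_iSup, sSup_eq_iSup]
    refine iSup_congr fun U => ?_
    rw [Subgroup.map_iSup]
    exact iSup_congr fun hU => hinj U (h0.1 hU)
  have h1 := hXN (show (⟨x, hle X hX hx⟩ : V) ∈ f X from hx)
  rw [← hJ]
  exact Subgroup.le_normalizer_map _ ⟨_, h1, rfl⟩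

variable [Finite G]

theorem isSubnormal_sSup (S : Set (Subgroup G)) (hS : ∀ U ∈ S, U.IsSubnormal) : (sSup S).IsSubnormal := by
  induction S, Set.toFinite S using Set.Finite.induction_on with
  | empty => rw [sSup_empty]; exact Subgroup.Normal.isSubnormal inferInstance
  | insert _ _ ih =>
    rw [sSup_insert]
    exact SnJoin.isSubnormal_sup _ G rfl _ _ (hS _ (Set.mem_insert _ _)) (ih fun U hU => hS U (Set.mem_insert_of_mem _ hU))

theorem good_aux : ∀ (n : ℕ) (G : Type u) [Group G] [Finite G], Nat.card G = n → Good G := by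
  intro n
  induction n using Nat.strong_induction_on with
  | _ n ih =>
  intro G _ _ hn S S₀ hS hconj h0
  obtain ⟨X0, hX0, hX0'⟩ := Set.exists_of_ssubset h0
  have hJ := isSubnormal_sSup S₀ fun U hU => hS U (h0.1 hU)
  rcases hJ.lt_normal with hJt | ⟨M, hM, hJM, hlt⟩
  · exact ⟨X0, hX0, hX0', by rw [hJt, Subgroup.normalizer_eq_top]; exact le_top⟩
  by_cases he : S₀ = {U ∈ S | U ≤ M}
  · refine ⟨X0, hX0, hX0', fun x _ => ?_⟩
    rw [mem_normalizer_iff_smul]
    have hinv : ∀ g : G, MulAut.conj g • sSup S₀ ≤ sSup S₀ := fun g => by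
      rw [Subgroup.pointwise_smul_subset_iff]
      refine sSup_le fun U hU => ?_
      rw [← Subgroup.pointwise_smul_subset_iff]
      refine le_sSup ?_
      rw [he] at hU ⊢
      refine ⟨hconj U hU.1 g, fun y hy => ?_⟩
      have h1 := hM.conj_mem _ (hU.2 (mem_smul_conj.mp hy)) g
      simpa [mul_assoc] using h1
    exact le_antisymm (hinv x) (by
      rw [Subgroup.subset_pointwise_smul_iff, ← map_inv]
      exact hinv x⁻¹)
  · obtain ⟨X, hX, hXn, hXN⟩ := of_good M (ih _ (hn ▸ card_lt_of_ne_top hlt.ne) M rfl) {U ∈ S | U ≤ M} S₀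
      (fun U hU => hU.2) (fun U hU => (hS U hU.1).subgroupOf) (fun U hU g _ => ⟨hconj U hU.1 g, fun y hy => by
        have h1 := hM.conj_mem _ (hU.2 (mem_smul_conj.mp hy)) g
        simpa [mul_assoc] using h1⟩)
      (Set.ssubset_iff_subset_ne.mpr ⟨fun U hU => ⟨h0.1 hU, (le_sSup hU).trans hJM⟩, he⟩)
    exact ⟨X, hX.1, hXn, hXN⟩

theorem good (G : Type u) [Group G] [Finite G] : Good G := good_aux _ G rfl

/-- Every subgroup of a finite nilpotent group is subnormal. -/
theorem isSubnormal_of_isNilpotent (hG : Group.IsNilpotent G) (H : Subgroup G) : H.IsSubnormal := by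
  suffices ∀ k (H : Subgroup G), H.index = k → H.IsSubnormal from this _ H rfl
  intro k
  induction k using Nat.strong_induction_on with
  | _ k ih =>
    intro H hk
    rcases eq_or_ne H ⊤ with rfl | hH
    · exact Subgroup.Normal.isSubnormal inferInstance
    · have hlt : H < Subgroup.normalizer (H : Set G) :=
        Group.normalizerCondition_of_isNilpotent (G := G) H (lt_top_iff_ne_top.mpr hH)
      refine Subgroup.IsSubnormal.step _ _ hlt.le (ih _ ?_ _ rfl) (Subgroup.normal_subgroupOf_of_le_normalizer le_rfl)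
      rw [← hk]
      exact Subgroup.index_strictAnti hlt

end Cfsg.Agent.Grp.SnFamily
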