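import Mathlib

/-!
# Automorphisms fixing the elements of order `p`
-/

namespace Cfsg.Agent.Grp.OmegaFix

universe u

/-- Powers of a product whose commutator is central. -/
theorem mul_pow_central {G : Type*} [Group G] (u v z : G) (hz : z = v * u * v⁻¹ * u⁻¹)
    (hzu : Commute z u) (hzv : Commute z v) (n : ℕ) : (u * v) ^ n = u ^ n * v ^ n * z ^ n.choose 2 := by
  have hvu : ∀ i : ℕ, v ^ i * u = u * v ^ i * z ^ i := by
    intro i
    induction i with
    | zero => simp
    | succ i ih =>
      have h1 : v * u = u * v * z := by
        calc v * u = z * (u * v) := by rw [hz]; group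
          _ = u * v * z := (hzu.mul_right hzv).eq
      rw [pow_succ' v, mul_assoc v, ih, ← mul_assoc, ← mul_assoc, h1, pow_succ' z, mul_assoc (u * v) z,
        (hzv.pow_right i).eq]
      simp [mul_assoc]
  induction n with
  | zero => simp
  | succ n ih =>
    rw [pow_succ, ih, Nat.choose_succ_succ' n 1, Nat.choose_one_right]
    have hc : Commute (z ^ n.choose 2) (u * v) := (hzu.mul_right hzv).pow_left _
    calc u ^ n * v ^ n * z ^ n.choose 2 * (u * v) = u ^ n * (v ^ n * u) * v * z ^ n.choose 2 := by
          rw [mul_assoc (u ^ n * v ^ n), hc.eq]; simp [mul_assoc]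
      _ = u ^ n * (u * v ^ n * z ^ n) * v * z ^ n.choose 2 := by rw [hvu]
      _ = u ^ (n + 1) * v ^ (n + 1) * (z ^ n * z ^ n.choose 2) := by
          rw [pow_succ, pow_succ, mul_assoc (u ^ n) _ v, mul_assoc (u * v ^ n), (hzv.pow_left n).eq]
          simp [mul_assoc]
      _ = _ := by rw [← pow_add]

/-- A `p'`-automorphism of a `p`-group, `p` odd, fixing all elements of order `p` is trivial. -/
theorem aut_eq_one {p : ℕ} [Fact p.Prime] (hp : p ≠ 2) : ∀ (n : ℕ) (G : Type u) [Group G] [Finite G],
    Nat.card G = n → IsPGroup p G → ∀ a : G ≃* G, ∀ k : ℕ, k.Coprime p → (∀ x, (⇑a)^[k] x = x) →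
      (∀ x : G, x ^ p = 1 → a x = x) → ∀ x, a x = x := by
  intro n
  induction n using Nat.strong_induction_on with
  | _ n ih =>
    intro G _ _ hn hG a k hk hak hfix x
    -- proper invariant subgroups are fixed
    have hsub : ∀ D : Subgroup G, D ≠ ⊤ → (∀ y ∈ D, a y ∈ D) → ∀ y ∈ D, a y = y := by
      intro D hD hinv y hy
      have hmap : D.map a.toMonoidHom = D := by
        refine Subgroup.eq_of_le_of_card_ge ?_ (le_of_eq
          (Subgroup.card_map_of_injective (f := a.toMonoidHom) a.injective).symm)
        rintro _ ⟨y, hy, rfl⟩; exact hinv y hy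
      let b : D ≃* D := (a.subgroupMap D).trans (MulEquiv.subgroupCongr hmap)
      have hb : ∀ z : D, ((b z : D) : G) = a z := fun z => rfl
      have hiter : ∀ (i : ℕ) (z : D), (((⇑b)^[i] z : D) : G) = (⇑a)^[i] (z : G) := by
        intro i
        induction i with
        | zero => intro z; rfl
        | succ i ih' => intro z; rw [Function.iterate_succ_apply', Function.iterate_succ_apply', hb, ih']
      have hlt : Nat.card D < n := by
        rw [← hn]
        exact (Nat.le_of_dvd Nat.card_pos D.card_subgroup_dvd_card).lt_of_ne fun e => hD (Subgroup.eq_top_of_card_eq D e)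
      have h1 := ih _ hlt D rfl (hG.to_subgroup D) b k hk (fun z => Subtype.ext ((hiter k z).trans (hak _)))
        (fun z hz => Subtype.ext ((hb z).trans (hfix z (by
          have := congrArg Subtype.val hz; simpa using this)))) ⟨y, hy⟩
      exact (hb ⟨y, hy⟩).symm.trans (congrArg Subtype.val h1)
    -- an element with trivial power fixed by `a` is fixed
    have hlast : ∀ y : G, a (y⁻¹ * a y) = y⁻¹ * a y → a y = y := by
      intro y hc
      set c := y⁻¹ * a y with hcdef
      have hay : ∀ i, (⇑a)^[i] y = y * c ^ i := by
        intro i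
        induction i with
        | zero => simp
        | succ i ih' =>
          rw [Function.iterate_succ_apply', ih', map_mul, map_pow, hc, pow_succ', ← mul_assoc]
          congr 1
          rw [hcdef, mul_inv_cancel_left]
      have h1 : c ^ k = 1 := by
        have := hay k
        rw [hak] at this
        exact mul_eq_left.1 this.symm
      obtain ⟨j, hj⟩ := hG c
      have h2 : c = 1 := orderOf_eq_one_iff.1 (Nat.eq_one_of_dvd_coprimes (hk.pow_right j)
        (orderOf_dvd_of_pow_eq_one h1) (orderOf_dvd_of_pow_eq_one hj))
      exact (inv_mul_eq_one.1 h2).symm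
    set D := Subgroup.closure (Set.range fun y : G => y⁻¹ * a y) with hD
    have hDinv : ∀ y ∈ D, a y ∈ D := by
      intro y hy
      have : D ≤ D.comap a.toMonoidHom := by
        refine (Subgroup.closure_le _).2 ?_
        rintro _ ⟨z, rfl⟩
        exact Subgroup.subset_closure ⟨a z, by simp⟩
      exact this hy
    by_cases hDtop : D = ⊤
    swap
    · exact hlast x (hsub D hDtop hDinv _ (Subgroup.subset_closure ⟨x, rfl⟩))
    rcases subsingleton_or_nontrivial G with hs | hnt
    · exact Subsingleton.elim _ _
    haveI := hG.isNilpotent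
    -- a proper characteristic subgroup is central
    have hcentral : ∀ C : Subgroup G, C.Characteristic → C ≠ ⊤ → C ≤ Subgroup.center G := by
      intro C hC hCtop c hc
      have hCfix := hsub C hCtop (fun y hy => by
        have := Subgroup.characteristic_iff_map_le.1 hC a
        exact this ⟨y, hy, rfl⟩)
      haveI : C.Normal := inferInstance
      have hle : D ≤ Subgroup.centralizer (C : Set G) := by
        refine (Subgroup.closure_le _).2 ?_
        rintro _ ⟨y, rfl⟩
        refine Subgroup.mem_centralizer_iff.2 fun e he => ?_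
        have h1 : y * e * y⁻¹ ∈ C := Subgroup.Normal.conj_mem inferInstance e he y
        have h2 := hCfix _ h1
        rw [map_mul, map_mul, map_inv, hCfix e he] at h2
        calc e * (y⁻¹ * a y) = y⁻¹ * (y * e * y⁻¹) * a y := by group
          _ = y⁻¹ * (a y * e * (a y)⁻¹) * a y := by rw [h2]
          _ = y⁻¹ * a y * e := by group
      exact Subgroup.mem_center_iff.2 fun g => ((Subgroup.mem_centralizer_iff.1
        (hle (hDtop ▸ Subgroup.mem_top g))) c hc).symm
    have hcomm : commutator G ≤ Subgroup.center G :=
      hcentral _ inferInstance (IsSolvable.commutator_lt_top_of_nontrivial G).ne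
    set Φ := frattini G
    have hΦtop : Φ ≠ ⊤ := by
      intro e
      have := frattini_nongenerating (K := (⊥ : Subgroup G)) (by rw [bot_sup_eq]; exact e)
      exact bot_ne_top this
    have hpow : ∀ y : G, y ^ p ∈ Φ := fun y => by
      refine Subgroup.mem_iInf.2 fun M => Subgroup.mem_iInf.2 fun hM => ?_
      haveI : M.Normal := Subgroup.NormalizerCondition.normal_of_coatom M normalizerCondition_of_isNilpotent hM
      have hidx : M.index = p := by
        obtain ⟨m, hm⟩ := IsPGroup.iff_card.1 hG
        obtain ⟨i, -, hi⟩ := (Nat.dvd_prime_pow Fact.out).1 (hm ▸ M.index_dvd_card)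
        rcases Nat.lt_or_ge 1 i with h | h
        · exfalso
          obtain ⟨q, hq⟩ := exists_prime_orderOf_dvd_card' (G := G ⧸ M) p (by
            rw [← Subgroup.index_eq_card, hi]; exact dvd_pow_self p (by omega))
          set Q := (Subgroup.zpowers q).comap (QuotientGroup.mk' M)
          have hQ : M < Q := by
            refine lt_of_le_of_ne (fun z hz => ?_) fun e => ?_
            · show QuotientGroup.mk' M z ∈ Subgroup.zpowers q
              rw [show QuotientGroup.mk' M z = 1 from (QuotientGroup.eq_one_iff z).2 hz]; exact one_mem _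
            · obtain ⟨z, hz⟩ := QuotientGroup.mk'_surjective M q
              have h1 : z ∈ Q := show QuotientGroup.mk' M z ∈ Subgroup.zpowers q from hz ▸ Subgroup.mem_zpowers q
              rw [← e] at h1
              rw [show QuotientGroup.mk' M z = 1 from (QuotientGroup.eq_one_iff z).2 h1] at hz
              rw [← hz, orderOf_one] at hq
              exact (Fact.out : p.Prime).ne_one hq.symm
          have h2 := Subgroup.index_comap_of_surjective (Subgroup.zpowers q) (QuotientGroup.mk'_surjective M)
          rw [show (Subgroup.zpowers q).comap (QuotientGroup.mk' M) = ⊤ from hM.2 Q hQ, Subgroup.index_top] at h2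
          have h3 := (Subgroup.zpowers q).card_mul_index
          rw [← h2, mul_one, Nat.card_zpowers, hq, ← Subgroup.index_eq_card, hi] at h3
          exact absurd h3 (by
            intro e
            have := (Nat.pow_eq_self_iff (Fact.out : p.Prime).one_lt).1 e.symm
            omega)
        · interval_cases i
          · exact absurd (Subgroup.index_eq_one.1 (by simpa using hi)) hM.1
          · simpa using hi
      exact hidx ▸ M.pow_index_mem y
    have hΦc : Φ ≤ Subgroup.center G := hcentral _ inferInstance hΦtop
    have hΦfix : ∀ y ∈ Φ, a y = y := hsub Φ hΦtop fun y hy => by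
      have := Subgroup.characteristic_iff_map_le.1 (inferInstance : Φ.Characteristic) a
      exact this ⟨y, hy, rfl⟩
    refine hlast x (hfix _ ?_)
    set z := a x * x⁻¹ * (a x)⁻¹ * x⁻¹⁻¹ with hz
    have hzc : z ∈ Subgroup.center G := hcomm (Subgroup.commutator_mem_commutator (Subgroup.mem_top (a x)) (Subgroup.mem_top x⁻¹))
    have hzp : z ^ p = 1 := by
      have h1 : (a x) * (x⁻¹) ^ p * (a x)⁻¹ = (x⁻¹) ^ p := by
        rw [Subgroup.mem_center_iff.1 (hΦc (hpow x⁻¹)) (a x), mul_inv_cancel_right]
      rw [← conj_pow] at h1
      have h2 : a x * x⁻¹ * (a x)⁻¹ = z * x⁻¹ := by rw [hz]; group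
      rw [h2, (show Commute z x⁻¹ from (Subgroup.mem_center_iff.1 hzc x⁻¹).symm).mul_pow] at h1
      exact mul_eq_right.1 h1
    have hch : z ^ p.choose 2 = 1 := by
      have hd : p ∣ p.choose 2 := (Fact.out : p.Prime).dvd_choose_self two_ne_zero (by
        have := (Fact.out : p.Prime).two_le; omega)
      obtain ⟨c, hc⟩ := hd
      rw [hc, pow_mul, hzp, one_pow]
    rw [mul_pow_central x⁻¹ (a x) z hz (Subgroup.mem_center_iff.1 hzc _).symm
      (Subgroup.mem_center_iff.1 hzc _).symm p, hch, mul_one, ← map_pow, hΦfix _ (hpow x), inv_pow, inv_mul_cancel]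

end Cfsg.Agent.Grp.OmegaFix
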