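import Mathlib
import Cfsg.Agent.Lib.Invol.RankOne

/-!
Groups in which abelian subgroups of equal order are conjugate, and quotients by normal subgroups
of odd order.
-/

set_option autoImplicit false
set_option linter.unusedSectionVars false

open scoped Classical commutatorElement

namespace Cfsg.Agent.Grp.AbelianConjQuotient

universe u

variable {G : Type u} [Group G] [Finite G]

/-- In a finite cyclic group a subgroup contains every subgroup whose order divides its own. -/
theorem le_of_card_dvd {C : Type*} [Group C] [Finite C] [IsCyclic C] (H K : Subgroup C)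
    (h : Nat.card H ∣ Nat.card K) : H ≤ K := by
  haveI := Fintype.ofFinite C
  intro x hx
  have hxK : x ^ Nat.card K = 1 := by
    obtain ⟨c, hc⟩ := h
    have := congrArg Subtype.val (pow_card_eq_one' (x := (⟨x, hx⟩ : H)))
    simp only [SubgroupClass.coe_pow, OneMemClass.coe_one] at this
    rw [hc, pow_mul, this, one_pow]
  have hsub : (Finset.univ.filter fun y : C => y ∈ K) ⊆
      Finset.univ.filter fun y : C => y ^ Nat.card K = 1 := by
    intro y hy
    simp only [Finset.mem_filter, Finset.mem_univ, true_and] at hy ⊢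
    have := congrArg Subtype.val (pow_card_eq_one' (x := (⟨y, hy⟩ : K)))
    rwa [SubgroupClass.coe_pow, OneMemClass.coe_one] at this
  have heq := Finset.eq_of_subset_of_card_le hsub (by
    refine (IsCyclic.card_pow_eq_one_le Nat.card_pos).trans (le_of_eq ?_)
    rw [Nat.card_eq_fintype_card]
    exact Fintype.card_subtype _)
  have : x ∈ Finset.univ.filter fun y : C => y ∈ K := by
    rw [heq]; simpa using hxK
  simpa using this

variable (hB : ∀ A B : Subgroup G, IsMulCommutative ↥A → IsMulCommutative ↥B →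
  Nat.card ↥A = Nat.card ↥B → ∃ g : G, B = A.map (MulAut.conj g).toMonoidHom)
include hB

/-- For an odd prime dividing both `|M|` and `|G : M|` the Sylow subgroups are cyclic. -/
theorem isCyclic_sylow (M : Subgroup G) [M.Normal] {p : ℕ} [hp : Fact p.Prime] (hodd : p ≠ 2)
    (hM : p ∣ Nat.card M) (hq : p ∣ M.index) (S : Sylow p G) : IsCyclic ↥(S : Subgroup G) := by
  haveI : Nontrivial (S : Subgroup G) := by
    rw [Subgroup.nontrivial_iff_ne_bot]
    exact S.ne_bot_of_dvd_card (dvd_trans hM (Subgroup.card_subgroup_dvd_card M))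
  haveI := S.2.center_nontrivial
  obtain ⟨z, hz⟩ := exists_prime_orderOf_dvd_card' (G := Subgroup.center (S : Subgroup G)) p (by
    obtain ⟨n, hn⟩ := (S.2.to_subgroup (Subgroup.center _)).exists_card_eq
    rw [hn]
    refine dvd_pow_self p fun e => ?_
    rw [e, pow_zero] at hn
    exact not_subsingleton _ (Nat.card_eq_one_iff_unique.1 hn).1)
  have hzp : (z : (S : Subgroup G)) ^ p = 1 := by
    have h := pow_orderOf_eq_one z
    rw [hz] at h
    exact (congrArg Subtype.val h :)
  refine Invol.isCyclic_of_pow_eq_one_mem S.2 hodd z.2 hzp fun y hy => ?_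
  by_contra hyz
  set z' : (S : Subgroup G) := (z : (S : Subgroup G))
  -- a noncyclic subgroup of order `p ^ 2`
  have hz' : (z' : G) ^ p = 1 := by
    exact (congrArg Subtype.val hzp :)
  have hy' : (y : G) ^ p = 1 := by simpa using congrArg Subtype.val hy
  have hzy : Commute (z' : G) y :=
    (congrArg Subtype.val (Subgroup.mem_center_iff.1 z.2 y).symm :)
  set U := Subgroup.zpowers (y : G) ⊔ Subgroup.zpowers (z' : G)
  have hUc : U = Subgroup.closure {(y : G), (z' : G)} := by
    rw [Set.insert_eq, Subgroup.closure_union, ← Subgroup.zpowers_eq_closure,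
      ← Subgroup.zpowers_eq_closure]
  have hUcomm : IsMulCommutative U := by
    rw [hUc]
    refine Subgroup.isMulCommutative_closure ?_
    intro a ha b hb
    simp only [Set.mem_insert_iff, Set.mem_singleton_iff] at ha hb
    rcases ha with rfl | rfl <;> rcases hb with rfl | rfl <;>
      first | rfl | exact hzy.eq | exact hzy.eq.symm
  have hUexp : ∀ u ∈ U, u ^ p = 1 := by
    intro u hu
    rw [hUc] at hu
    induction hu using Subgroup.closure_induction with
    | mem s hs =>
      simp only [Set.mem_insert_iff, Set.mem_singleton_iff] at hs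
      rcases hs with rfl | rfl
      exacts [hy', hz']
    | one => exact one_pow p
    | mul a b ha hb iha ihb =>
      have hab : Commute a b := setLike_mul_comm (hUc ▸ ha : a ∈ U) (hUc ▸ hb : b ∈ U)
      rw [hab.mul_pow, iha, ihb, one_mul]
    | inv a _ iha => rw [inv_pow, iha, inv_one]
  have hUp : IsPGroup p U := fun u => ⟨1, Subtype.ext (by simpa using hUexp u u.2)⟩
  have hzord : orderOf (z' : G) = p :=
    ((Subgroup.orderOf_coe z').trans (Subgroup.orderOf_coe z)).trans hz
  have hlt : Subgroup.zpowers (z' : G) < U := by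
    refine lt_of_le_not_ge le_sup_right fun hle => hyz ?_
    obtain ⟨k, hk⟩ := Subgroup.mem_zpowers_iff.1
      (hle (Subgroup.mem_sup_left (Subgroup.mem_zpowers (y : G))))
    exact Subgroup.mem_zpowers_iff.2 ⟨k, Subtype.ext (by simpa using hk)⟩
  obtain ⟨m, hm⟩ := hUp.exists_card_eq
  have hm2 : 2 ≤ m := by
    have h1 := Nat.card_zpowers (z' : G)
    rw [hzord] at h1
    have h2 : Nat.card (Subgroup.zpowers (z' : G)) < Nat.card U :=
      lt_of_le_of_ne (Subgroup.card_le_of_le hlt.le)
        fun e => hlt.ne (Subgroup.eq_of_le_of_card_ge hlt.le e.ge)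
    rw [h1, hm] at h2
    by_contra hlt2
    interval_cases m <;> simp at h2 <;> have := hp.out.one_lt <;> omega
  obtain ⟨V, hV⟩ := Sylow.exists_subgroup_card_pow_prime_of_le_card (G := U) hp.out
    hUp (n := 2) (by rw [hm]; exact Nat.pow_le_pow_right hp.out.pos hm2)
  set E := V.map U.subtype
  have hEc : IsMulCommutative E := ⟨⟨fun a b => Subtype.ext (by
    obtain ⟨a', -, ha⟩ := a.2
    obtain ⟨b', -, hb⟩ := b.2
    show (a : G) * b = b * a
    rw [← ha, ← hb]
    exact setLike_mul_comm a'.2 b'.2)⟩⟩
  have hEcard : Nat.card E = p ^ 2 := by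
    rw [Subgroup.card_map_of_injective U.subtype_injective, hV]
  -- no element has order `p ^ 2`
  have hno : ∀ g : G, orderOf g ≠ p ^ 2 := by
    intro g hg
    obtain ⟨h, hh⟩ := hB (Subgroup.zpowers g) E inferInstance hEc
      (by rw [Nat.card_zpowers, hg, hEcard])
    have hmem : (MulAut.conj h) g ∈ E := hh ▸ Subgroup.mem_map_of_mem _ (Subgroup.mem_zpowers g)
    obtain ⟨v, -, hv⟩ := hmem
    have h1 : (MulAut.conj h g) ^ p = 1 := hv ▸ hUexp v v.2
    rw [← map_pow, EmbeddingLike.map_eq_one_iff] at h1
    have := Nat.le_of_dvd hp.out.pos (hg ▸ orderOf_dvd_of_pow_eq_one h1)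
    have := hp.out.one_lt
    nlinarith
  -- so all elements of the Sylow subgroup lie in `M`
  have hSM : (S : Subgroup G) ≤ M := by
    intro x hx
    obtain ⟨k, hk⟩ := S.2 ⟨x, hx⟩
    have hk' : x ^ p ^ k = 1 := congrArg Subtype.val hk
    obtain ⟨j, -, hj⟩ := (Nat.dvd_prime_pow hp.out).1 (orderOf_dvd_of_pow_eq_one hk')
    have hj1 : j ≤ 1 := by
      by_contra hj2
      exact hno (x ^ p ^ (j - 2)) (by
        rw [orderOf_pow_of_dvd (pow_ne_zero _ hp.out.ne_zero) (hj ▸ pow_dvd_pow p (by omega)), hj,
          Nat.pow_div (by omega) hp.out.pos]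
        congr 1
        omega)
    interval_cases j
    · rw [pow_zero, orderOf_eq_one_iff] at hj
      exact hj ▸ M.one_mem
    · obtain ⟨w, hw⟩ := exists_prime_orderOf_dvd_card' p hM
      obtain ⟨h, hh⟩ := hB (Subgroup.zpowers (w : G)) (Subgroup.zpowers x) inferInstance inferInstance
        (by rw [Nat.card_zpowers, Nat.card_zpowers, Subgroup.orderOf_coe, hw, hj, pow_one])
      have : Subgroup.zpowers x ≤ M := by
        rw [hh]
        rintro _ ⟨u, hu, rfl⟩
        exact Subgroup.Normal.conj_mem inferInstance _ ((Subgroup.zpowers_le.2 w.2) hu) h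
      exact this (Subgroup.mem_zpowers x)
  exact S.not_dvd_index (dvd_trans hq (Subgroup.index_dvd_of_le hSM))

/-- A nilpotent-minimal abelian lift of an abelian subgroup of a quotient, of prescribed order. -/
theorem exists_lift (M : Subgroup G) [M.Normal] (hM : Odd (Nat.card M)) (A : Subgroup (G ⧸ M))
    (hA : IsMulCommutative A) :
    ∃ Y : Subgroup G, IsMulCommutative Y ∧ Y.map (QuotientGroup.mk' M) = A ∧
      Nat.card Y = Nat.card A * Nat.card ↥(M ⊓ Y) ∧
      ∀ p : ℕ, p.Prime → (Nat.card ↥(M ⊓ Y)).factorization p =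
        if p ∣ Nat.card A then (Nat.card M).factorization p else 0 := by
  set π := QuotientGroup.mk' M
  obtain ⟨Y, hY, hYmin⟩ := Set.exists_min_image {Y : Subgroup G | Y.map π = A}
    (fun Y => Nat.card Y) (Set.toFinite _)
    ⟨A.comap π, Subgroup.map_comap_eq_self_of_surjective (QuotientGroup.mk'_surjective M) A⟩
  replace hY : Y.map π = A := hY
  set N := M.subgroupOf Y
  have hcardY : Nat.card Y = Nat.card A * Nat.card ↥(M ⊓ Y) := by
    have h := Subgroup.card_eq_card_quotient_mul_card_subgroup (π.comp Y.subtype).ker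
    rw [Nat.card_congr (QuotientGroup.quotientKerEquivRange _).toEquiv, MonoidHom.range_comp,
      Subgroup.range_subtype, hY] at h
    rw [h]
    congr 1
    rw [← MonoidHom.comap_ker, QuotientGroup.ker_mk',
      ← Subgroup.card_map_of_injective Y.subtype_injective]
    show Nat.card ↥((M.subgroupOf Y).map Y.subtype) = _
    rw [Subgroup.subgroupOf_map_subtype]
  have hN : N ≤ frattini Y := by
    refine le_iInf₂ fun K hK => ?_
    by_contra hNK
    have htop : K ⊔ N = ⊤ := hK.2 _ (left_lt_sup.2 hNK)
    have hmap : (K.map Y.subtype).map π = A := by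
      rw [← hY]
      refine le_antisymm (Subgroup.map_mono (Subgroup.map_subtype_le K)) ?_
      rintro _ ⟨y, hy, rfl⟩
      obtain ⟨k, hk, n, hn, hkn⟩ := Subgroup.mem_sup_of_normal_right.1
        (htop ▸ Subgroup.mem_top (⟨y, hy⟩ : Y) : (⟨y, hy⟩ : Y) ∈ K ⊔ N)
      refine ⟨k, ⟨k, hk, rfl⟩, ?_⟩
      have e : y = (k : G) * n := (congrArg Subtype.val hkn).symm
      rw [e, map_mul, show π (n : G) = 1 from (QuotientGroup.eq_one_iff _).2 hn, mul_one]
    have := hYmin _ hmap
    simp only [Subgroup.card_map_of_injective Y.subtype_injective] at this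
    exact hK.1 (Subgroup.eq_top_of_le_card K this)
  have hcomm : commutator Y ≤ N := by
    rw [commutator_def, Subgroup.commutator_le]
    intro a _ b _
    show (⁅(a : G), (b : G)⁆) ∈ M
    rw [← QuotientGroup.eq_one_iff]
    show π ⁅(a : G), (b : G)⁆ = 1
    rw [map_commutatorElement, commutatorElement_eq_one_iff_mul_comm]
    exact setLike_mul_comm (hY ▸ Subgroup.mem_map_of_mem π a.2) (hY ▸ Subgroup.mem_map_of_mem π b.2)
  haveI hnil : Group.IsNilpotent Y := Group.isNilpotent_of_finite_tfae.out 2 0 rfl rfl |>.mp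
    fun K hK => Subgroup.Normal.of_commutator_le _
      ((hcomm.trans hN).trans (frattini_le_coatom hK))
  have hfac : ∀ (p : ℕ) (hp : p.Prime), (Nat.card ↥(M ⊓ Y)).factorization p =
      (if p ∣ Nat.card A then (Nat.card M).factorization p else 0) ∧
      ∀ P : Sylow p Y, IsMulCommutative ↥(P : Subgroup Y) := by
    intro p hp
    haveI : Fact p.Prime := ⟨hp⟩
    by_cases hpM : p ∣ Nat.card M
    swap
    · have h0 : ¬ p ∣ Nat.card ↥(M ⊓ Y) := fun h =>
        hpM (h.trans (Subgroup.card_dvd_of_le inf_le_left))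
      refine ⟨?_, fun P => ⟨⟨fun a b => ?_⟩⟩⟩
      · rw [Nat.factorization_eq_zero_of_not_dvd h0, Nat.factorization_eq_zero_of_not_dvd hpM]
        simp
      · have hmem : (⁅(a : Y), (b : Y)⁆ : Y) ∈ (P : Subgroup Y) ⊓ N :=
          ⟨Subgroup.commutator_le_self _ (Subgroup.commutator_mem_commutator a.2 b.2),
            hcomm (Subgroup.commutator_mem_commutator (Subgroup.mem_top _) (Subgroup.mem_top _))⟩
        have hco : (Nat.card (P : Subgroup Y)).Coprime (Nat.card N) := by
          obtain ⟨k, hk⟩ := P.2.exists_card_eq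
          rw [hk, ← Subgroup.card_subtype Y N]
          simp only [N, Subgroup.subgroupOf_map_subtype]
          exact Nat.Coprime.pow_left _ ((Nat.Prime.coprime_iff_not_dvd hp).2 h0)
        rw [Subgroup.inf_eq_bot_of_coprime hco, Subgroup.mem_bot,
          commutatorElement_eq_one_iff_mul_comm] at hmem
        exact Subtype.ext hmem
    have hodd : p ≠ 2 := fun e => (Nat.not_even_iff_odd.2 hM) (even_iff_two_dvd.2 (e ▸ hpM))
    by_cases hpA : p ∣ Nat.card A
    · have hq : p ∣ M.index := dvd_trans hpA (Subgroup.card_subgroup_dvd_card A)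
      obtain ⟨P⟩ := (inferInstance : Nonempty (Sylow p Y))
      obtain ⟨S, hS⟩ := (P.2.map Y.subtype).exists_le_sylow
      haveI hSc := isCyclic_sylow hB M hodd hpM hq S
      refine ⟨?_, fun Q => ?_⟩
      · rw [if_pos hpA]
        refine le_antisymm ((Nat.factorization_le_iff_dvd Nat.card_pos.ne' Nat.card_pos.ne').2
          (Subgroup.card_dvd_of_le inf_le_left) p) ?_
        set P' := (P : Subgroup Y).map Y.subtype
        have hPM : ¬ P' ≤ M := by
          intro hle
          have h1 : Nat.card ↥(P : Subgroup Y) ∣ Nat.card ↥(M ⊓ Y) := by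
            rw [← Subgroup.card_subtype Y (P : Subgroup Y)]
            exact Subgroup.card_dvd_of_le (le_inf hle (Subgroup.map_subtype_le _))
          rw [Sylow.card_eq_multiplicity, hp.pow_dvd_iff_le_factorization Nat.card_pos.ne',
            hcardY, Nat.factorization_mul Nat.card_pos.ne' Nat.card_pos.ne', Finsupp.add_apply] at h1
          have := hp.factorization_pos_of_dvd Nat.card_pos.ne' hpA
          omega
        have hle : (S : Subgroup G) ⊓ M ≤ P' := by
          have key : ((S : Subgroup G) ⊓ M).subgroupOf S ≤ P'.subgroupOf S := by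
            refine le_of_card_dvd _ _ ?_
            rw [Nat.card_congr (Subgroup.subgroupOfEquivOfLe inf_le_left).toEquiv,
              Nat.card_congr (Subgroup.subgroupOfEquivOfLe hS).toEquiv]
            obtain ⟨a, ha⟩ := (S.2.to_le inf_le_left :
              IsPGroup p ↥((S : Subgroup G) ⊓ M)).exists_card_eq
            obtain ⟨b, hb⟩ := (P.2.map Y.subtype).exists_card_eq
            rw [ha, hb]
            rcases le_total a b with h | h
            · exact pow_dvd_pow p h
            · exfalso
              have h2 := le_of_card_dvd (P'.subgroupOf S) (((S : Subgroup G) ⊓ M).subgroupOf S) (by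
                rw [Nat.card_congr (Subgroup.subgroupOfEquivOfLe inf_le_left).toEquiv,
                  Nat.card_congr (Subgroup.subgroupOfEquivOfLe hS).toEquiv, ha, hb]
                exact pow_dvd_pow p h)
              exact hPM fun x hx => (h2 (x := ⟨x, hS hx⟩) hx).2
          intro x hx
          exact key (x := ⟨x, hx.1⟩) hx
        have hSM : p ^ (Nat.card M).factorization p ∣ Nat.card ↥((S : Subgroup G) ⊓ M) := by
          rw [← Subgroup.subgroupOf_map_subtype (S : Subgroup G) M]
          obtain ⟨T⟩ := (inferInstance : Nonempty (Sylow p M))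
          obtain ⟨S', hS'⟩ := (T.2.map M.subtype).exists_le_sylow
          obtain ⟨g, hg⟩ := MulAction.exists_smul_eq G S' S
          rw [← Sylow.card_eq_multiplicity T]
          rw [← Subgroup.card_subtype M (T : Subgroup M),
            ← Subgroup.card_map_of_injective (f := (MulAut.conj g).toMonoidHom) (MulAut.conj g).injective]
          refine Subgroup.card_dvd_of_le ?_
          rintro _ ⟨y, ⟨t, ht, rfl⟩, rfl⟩
          refine ⟨⟨_, Subgroup.Normal.conj_mem inferInstance _ t.2 g⟩, ?_, rfl⟩
          show g * (t : G) * g⁻¹ ∈ (S : Subgroup G)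
          rw [← hg]
          exact ⟨(t : G), hS' ⟨t, ht, rfl⟩, rfl⟩
        rw [← hp.pow_dvd_iff_le_factorization Nat.card_pos.ne']
        exact hSM.trans (Subgroup.card_dvd_of_le
          (le_inf inf_le_right (hle.trans (Subgroup.map_subtype_le _))))
      · obtain ⟨S', hS'⟩ := (Q.2.map Y.subtype).exists_le_sylow
        haveI := isCyclic_sylow hB M hodd hpM hq S'
        refine ⟨⟨fun a b => ?_⟩⟩
        letI := IsCyclic.commGroup (α := (S' : Subgroup G))
        have := congrArg Subtype.val (mul_comm (⟨_, hS' ⟨a, a.2, rfl⟩⟩ : (S' : Subgroup G))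
          ⟨_, hS' ⟨b, b.2, rfl⟩⟩)
        exact Subtype.ext (Subtype.ext this)
    · have htriv : ∀ P : Sylow p Y, (P : Subgroup Y) = ⊥ := by
        intro P
        have hPN : (P : Subgroup Y) ≤ N := by
          intro x hx
          show (x : G) ∈ M
          rw [← QuotientGroup.eq_one_iff]
          obtain ⟨k, hk⟩ := P.2 ⟨x, hx⟩
          have h1 : (π (x : G)) ^ p ^ k = 1 := by
            rw [← map_pow, show (x : G) ^ p ^ k = 1 from
              congrArg (Subtype.val ∘ Subtype.val) hk, map_one]
          have h2 : (π (x : G)) ^ Nat.card A = 1 :=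
            (congrArg Subtype.val
              (pow_card_eq_one' (x := (⟨π x, hY ▸ Subgroup.mem_map_of_mem π x.2⟩ : A))) :)
          have h3 := Nat.eq_one_of_dvd_coprimes
            (Nat.Coprime.pow_left k ((Nat.Prime.coprime_iff_not_dvd hp).2 hpA))
            (orderOf_dvd_of_pow_eq_one h1) (orderOf_dvd_of_pow_eq_one h2)
          exact orderOf_eq_one_iff.1 h3
        obtain ⟨K, hK⟩ := Subgroup.exists_right_complement'_of_coprime (N := (P : Subgroup Y))
          P.card_coprime_index
        have hKtop : K = ⊤ := frattini_nongenerating (top_le_iff.1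
          (hK.sup_eq_top ▸ (sup_le (le_sup_of_le_right (hPN.trans hN)) le_sup_left)))
        have hd := hK.disjoint
        rwa [hKtop, disjoint_top] at hd
      refine ⟨?_, fun P => ?_⟩
      · rw [if_neg hpA]
        refine Nat.factorization_eq_zero_of_not_dvd fun h => ?_
        obtain ⟨P⟩ := (inferInstance : Nonempty (Sylow p Y))
        refine P.ne_bot_of_dvd_card ?_ (htriv P)
        rw [hcardY]
        exact dvd_mul_of_dvd_right h _
      · rw [htriv P]
        exact ⟨⟨fun a b => Subsingleton.elim _ _⟩⟩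
  refine ⟨Y, ?_, hY, hcardY, fun p hp => (hfac p hp).1⟩
  obtain ⟨e⟩ : Nonempty ((∀ p : (Nat.card Y).primeFactors, ∀ P : Sylow p Y, (↑P : Subgroup Y)) ≃* Y) :=
    Group.isNilpotent_of_finite_tfae.out 0 4 rfl rfl |>.mp hnil
  refine ⟨⟨fun a b => ?_⟩⟩
  obtain ⟨a, rfl⟩ := e.surjective a
  obtain ⟨b, rfl⟩ := e.surjective b
  rw [← map_mul, ← map_mul]
  congr 1
  funext p P
  haveI := (hfac p (Nat.prime_of_mem_primeFactors p.2)).2 P
  exact mul_comm' _ _

theorem quotient (M : Subgroup G) [M.Normal] (hM : Odd (Nat.card M)) (A B : Subgroup (G ⧸ M))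
    (hA : IsMulCommutative A) (hBc : IsMulCommutative B) (h : Nat.card A = Nat.card B) :
    ∃ g : G ⧸ M, B = A.map (MulAut.conj g).toMonoidHom := by
  obtain ⟨Y, hYc, hYA, hYcard, hYf⟩ := exists_lift hB M hM A hA
  obtain ⟨Z, hZc, hZB, hZcard, hZf⟩ := exists_lift hB M hM B hBc
  have he : Nat.card Y = Nat.card Z := by
    rw [hYcard, hZcard, h]
    congr 1
    refine Nat.eq_of_factorization_eq Nat.card_pos.ne' Nat.card_pos.ne' fun p => ?_
    by_cases hp : p.Prime
    · rw [hYf p hp, hZf p hp, h]
    · rw [Nat.factorization_eq_zero_of_not_prime _ hp, Nat.factorization_eq_zero_of_not_prime _ hp]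
  obtain ⟨g, hg⟩ := hB Y Z hYc hZc he
  refine ⟨(g : G ⧸ M), ?_⟩
  rw [← hYA, ← hZB, hg, Subgroup.map_map, Subgroup.map_map]
  congr 1

end Cfsg.Agent.Grp.AbelianConjQuotient
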