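import Mathlib
import Cfsg.Agent.Lib.Grp.AbelianConjQuotient
import Cfsg.Agent.Lib.Grp.Solvable
import Cfsg.Agent.Lib.Grp.Frattini
import Cfsg.Agent.S3909
import Cfsg.Agent.S3910

/-!
Solvable groups in which abelian subgroups of equal order are conjugate: the property passes to all
quotients.  The only delicate kernel is a central involution; then a non-abelian preimage forces
quaternion Sylow 2-subgroups of order 8.
-/

set_option autoImplicit false
set_option linter.unusedSectionVars false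

open scoped commutatorElement

namespace Cfsg.Agent.Grp.AbelianConjSolvable

universe u

/-- Abelian subgroups of equal order are conjugate. -/
def AbConj (G : Type*) [Group G] : Prop :=
  ∀ A B : Subgroup G, IsMulCommutative ↥A → IsMulCommutative ↥B → Nat.card ↥A = Nat.card ↥B →
    ∃ g : G, B = A.map (MulAut.conj g).toMonoidHom

section core

variable {H : Type u} [Group H] [Finite H]

theorem conj_or (hB : AbConj H) {x y : H} (hy : orderOf y = 4) (hx : orderOf x = 4) :
    ∃ g : H, x = g * y * g⁻¹ ∨ x = g * y⁻¹ * g⁻¹ := by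
  obtain ⟨g, hg⟩ := hB (Subgroup.zpowers y) (Subgroup.zpowers x) inferInstance inferInstance
    (by rw [Nat.card_zpowers, Nat.card_zpowers, hx, hy])
  obtain ⟨w, hw, rfl⟩ := hg.le (Subgroup.mem_zpowers x)
  refine ⟨g, ?_⟩
  obtain ⟨k, rfl⟩ := (mem_powers_iff_mem_zpowers.2 hw)
  have hk : y ^ k = y ^ (k % 4) := by rw [← hy, pow_mod_orderOf]
  have h4 : y ^ 4 = 1 := hy ▸ pow_orderOf_eq_one y
  have hord : orderOf (MulAut.conj g (y ^ k)) = 4 := hx
  rw [MulEquiv.orderOf_eq] at hord
  have : k % 4 = 1 ∨ k % 4 = 3 := by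
    by_contra hne
    have h2 : (y ^ k) ^ 2 = 1 := by
      rw [hk]
      rcases (by omega : k % 4 = 0 ∨ k % 4 = 2) with e | e <;> rw [e]
      · simp
      · rw [← pow_mul]; exact h4
    have := Nat.le_of_dvd two_pos (hord ▸ orderOf_dvd_of_pow_eq_one h2)
    omega
  show MulAut.conj g (y ^ k) = _ ∨ MulAut.conj g (y ^ k) = _
  rw [hk]
  rcases this with e | e <;> rw [e]
  · exact Or.inl (by simp)
  · right
    rw [show y ^ 3 = y⁻¹ from eq_inv_of_mul_eq_one_left (by rw [← pow_succ]; exact h4)]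
    rfl

/-- With trivial odd core, a central involution and two non-commuting square roots of it bound all
`2`-subgroups by eight elements. -/
theorem card_le_eight (hB : AbConj H) (hsol : Group.IsSolvable H) (hcore : Cfsg.pPrimeCore 2 H = ⊥)
    {z : H} (hz1 : z ≠ 1) (hz2 : z * z = 1) (hzc : ∀ g : H, g * z = z * g)
    (hinv : ∀ x : H, x * x = 1 → x = 1 ∨ x = z) {b c : H} (hb : b * b = z) (hc : c * c = z)
    (hbc : b * c ≠ c * b) {S : Subgroup H} (hS : IsPGroup 2 S) : Nat.card S ≤ 8 := by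
  classical
  have := Fact.mk Nat.prime_two
  set Q := Cfsg.pCore 2 H with hQdef
  have hQn : Q.Normal := Grp.pCore_isNormal
  have hQp : IsPGroup 2 Q := Grp.pCore_isPGroup
  have hCQ : Subgroup.centralizer (Q : Set H) ≤ Q := Grp.centralizer_pCore_le hcore
  have ord4 : ∀ {x : H}, x * x = z → orderOf x = 4 := fun {x} hx =>
    orderOf_eq_prime_pow (p := 2) (n := 1) (by rw [pow_one, pow_two, hx]; exact hz1)
      (by rw [show 2 ^ (1 + 1) = 2 * 2 from rfl, pow_mul, pow_two x, hx, pow_two, hz2])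
  have sq4 : ∀ {x : H}, orderOf x = 4 → x * x = z := fun {x} hx => by
    refine (hinv _ ?_).resolve_left fun e => ?_
    · rw [← pow_two, ← pow_two, ← pow_mul, show 2 * 2 = orderOf x by omega, pow_orderOf_eq_one]
    · have := Nat.le_of_dvd two_pos (hx ▸ orderOf_dvd_of_pow_eq_one ((pow_two x).trans e))
      omega
  have exists4 : ∀ {x : H}, (∃ k : ℕ, x ^ 2 ^ k = 1) → x ≠ 1 → x ≠ z → ∃ m : ℕ, orderOf (x ^ m) = 4 := by
    rintro x ⟨k, hk⟩ h1 h2
    obtain ⟨j, -, hj⟩ := (Nat.dvd_prime_pow Nat.prime_two).1 (orderOf_dvd_of_pow_eq_one hk)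
    have hj2 : 2 ≤ j := by
      by_contra hlt
      have hxx : x * x = 1 := by
        rw [← pow_two]
        refine orderOf_dvd_iff_pow_eq_one.1 ?_
        rw [hj]
        exact (pow_dvd_pow 2 (by omega : j ≤ 1)).trans (pow_one 2).dvd
      exact (hinv x hxx).elim h1 h2
    refine ⟨2 ^ (j - 2), ?_⟩
    rw [orderOf_pow_of_dvd (pow_ne_zero _ two_ne_zero) (hj ▸ pow_dvd_pow 2 (Nat.sub_le j 2)), hj,
      Nat.pow_div (Nat.sub_le j 2) two_pos, show j - (j - 2) = 2 by omega]
    rfl
  have hne4 : ∃ x ∈ Q, orderOf x = 4 := by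
    by_contra hno
    push Not at hno
    have hQ2 : ∀ x ∈ Q, x = 1 ∨ x = z := by
      intro x hx
      by_contra hne
      push Not at hne
      obtain ⟨k, hk⟩ := hQp ⟨x, hx⟩
      obtain ⟨m, hm⟩ := exists4 ⟨k, congrArg Subtype.val hk⟩ hne.1 hne.2
      exact hno _ (pow_mem hx m) hm
    have hbQ : b ∈ Q := hCQ (Subgroup.mem_centralizer_iff.2 fun y hy => by
      rcases hQ2 y hy with rfl | rfl
      · rw [one_mul, mul_one]
      · exact (hzc b).symm)
    exact hno b hbQ (ord4 hb)
  have mem4 : ∀ {x : H}, orderOf x = 4 → x ∈ Q := by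
    intro x hx
    obtain ⟨w, hw, hw4⟩ := hne4
    obtain ⟨g, h | h⟩ := conj_or hB hw4 hx
    · exact h ▸ hQn.conj_mem w hw g
    · exact h ▸ hQn.conj_mem _ (inv_mem hw) g
  have hbQ : b ∈ Q := mem4 (ord4 hb)
  have hcQ : c ∈ Q := mem4 (ord4 hc)
  have hzQ : z ∈ Q := hb ▸ mul_mem hbQ hbQ
  -- every element of order four generates a normal subgroup of `Q`
  obtain ⟨x, hxQ, hx4, hxn⟩ : ∃ x ∈ Q, orderOf x = 4 ∧ ∀ q ∈ Q, q * x * q⁻¹ = x ∨ q * x * q⁻¹ = x⁻¹ := by
    haveI := hQp.isNilpotent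
    set Z : Subgroup Q := Subgroup.zpowers (⟨z, hzQ⟩ : Q)
    have hZc : Z ≤ Subgroup.center Q := Subgroup.zpowers_le.2
      (Subgroup.mem_center_iff.2 fun g => Subtype.ext (hzc g))
    haveI hZn : Z.Normal := ⟨fun a ha g => by
      rwa [Subgroup.mem_center_iff.1 (hZc ha) g, mul_inv_cancel_right]⟩
    have hZ2 : ∀ w ∈ Z, (w : H) = 1 ∨ (w : H) = z := by
      intro w hw
      refine hinv _ ?_
      obtain ⟨k, rfl⟩ := Subgroup.mem_zpowers_iff.1 hw
      rw [SubgroupClass.coe_zpow, ← (Commute.refl z).mul_zpow, hz2, one_zpow]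
    have hQZp : IsPGroup 2 (Q ⧸ Z) := hQp.to_quotient Z
    have hnt : Nontrivial (Q ⧸ Z) := by
      refine ⟨⟨QuotientGroup.mk (⟨b, hbQ⟩ : Q), 1, fun e => hbc ?_⟩⟩
      rcases hZ2 _ ((QuotientGroup.eq_one_iff _).1 e) with h | h <;> change b = _ at h <;> rw [h]
      · rw [one_mul, mul_one]
      · exact (hzc c).symm
    haveI := hQZp.center_nontrivial
    obtain ⟨n, hn⟩ := (hQZp.to_subgroup (Subgroup.center _)).exists_card_eq
    have hn0 : n ≠ 0 := fun e => by
      have := Finite.one_lt_card (α := Subgroup.center (Q ⧸ Z))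
      rw [hn, e, pow_zero] at this
      omega
    obtain ⟨w, hw⟩ := exists_prime_orderOf_dvd_card' (G := Subgroup.center (Q ⧸ Z)) 2
      (hn ▸ dvd_pow_self 2 hn0)
    obtain ⟨x, hx⟩ := QuotientGroup.mk'_surjective Z (w : Q ⧸ Z)
    have hxZ : x ∉ Z := fun h => by
      rw [← QuotientGroup.eq_one_iff] at h
      rw [show w = 1 from Subtype.ext (hx.symm.trans h), orderOf_one] at hw
      omega
    have hxx : x * x ∈ Z := by
      rw [← QuotientGroup.eq_one_iff]
      show QuotientGroup.mk' Z (x * x) = 1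
      rw [map_mul, hx, ← Subgroup.coe_mul, ← pow_two, ← hw, pow_orderOf_eq_one, Subgroup.coe_one]
    have hxz : (x : H) * x = z := by
      refine (hZ2 _ hxx).resolve_left fun e => ?_
      rcases hinv _ e with h | h
      · exact hxZ (by rw [show x = 1 from Subtype.ext h]; exact one_mem Z)
      · exact hxZ (by rw [show x = ⟨z, hzQ⟩ from Subtype.ext h]; exact Subgroup.mem_zpowers _)
    refine ⟨x, x.2, ord4 hxz, fun q hq => ?_⟩
    have h1 : (x⁻¹ * (⟨q, hq⟩ * x * ⟨q, hq⟩⁻¹)) ∈ Z := by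
      rw [← QuotientGroup.eq_one_iff]
      show QuotientGroup.mk' Z _ = 1
      rw [map_mul, map_mul, map_mul, map_inv, map_inv, hx, Subgroup.mem_center_iff.1 w.2,
        mul_inv_cancel_right, inv_mul_cancel]
    rcases hZ2 _ h1 with h | h
    · exact Or.inl (inv_mul_eq_one.1 h).symm
    · right
      have h' : q * (x : H) * q⁻¹ = x * z := inv_mul_eq_iff_eq_mul.1 h
      rw [h', eq_inv_iff_mul_eq_one, mul_assoc, ← hzc, ← mul_assoc, hxz, hz2]
  have norm4 : ∀ {y : H}, orderOf y = 4 → ∀ q ∈ Q, q * y * q⁻¹ = y ∨ q * y * q⁻¹ = y⁻¹ := by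
    intro y hy q hq
    obtain ⟨g, hg⟩ := conj_or hB hx4 hy
    have hq' : g⁻¹ * q * g ∈ Q := by simpa using hQn.conj_mem q hq g⁻¹
    rcases hxn _ hq' with h | h <;> rcases hg with rfl | rfl
    · exact Or.inl (by rw [show q * (g * x * g⁻¹) * q⁻¹ = g * (g⁻¹ * q * g * x * (g⁻¹ * q * g)⁻¹) * g⁻¹ by group, h])
    · exact Or.inl (by rw [show q * (g * x⁻¹ * g⁻¹) * q⁻¹ = g * (g⁻¹ * q * g * x * (g⁻¹ * q * g)⁻¹)⁻¹ * g⁻¹ by group, h])
    · exact Or.inr (by rw [show q * (g * x * g⁻¹) * q⁻¹ = g * (g⁻¹ * q * g * x * (g⁻¹ * q * g)⁻¹) * g⁻¹ by group, h]; group)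
    · exact Or.inr (by rw [show q * (g * x⁻¹ * g⁻¹) * q⁻¹ = g * (g⁻¹ * q * g * x * (g⁻¹ * q * g)⁻¹)⁻¹ * g⁻¹ by group, h]; group)
  -- two non-commuting elements of order four generate `Q`
  have inv_eq : ∀ {u : H}, u * u = z → u⁻¹ = u * z := fun {u} hu =>
    inv_eq_of_mul_eq_one_right (by rw [← mul_assoc, hu, hz2])
  have gen : ∀ {u v : H}, u ∈ Q → v ∈ Q → u * u = z → v * v = z → u * v ≠ v * u → ∀ q ∈ Q,
      ∃ t : H, (t = 1 ∨ t = z) ∧ (q = t ∨ q = t * u ∨ q = t * v ∨ q = t * (u * v)) := by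
    intro u v huQ hvQ hu hv huv q hq
    have hanti : ∀ {a b : H}, a ∈ Q → a * b ≠ b * a → b * b = z → a * b * a⁻¹ = b⁻¹ := by
      intro a b ha hab hb'
      exact (norm4 (ord4 hb') a ha).resolve_left fun e => hab (mul_inv_eq_iff_eq_mul.1 e)
    have key : ∀ w ∈ Q, w * u * w⁻¹ = u → w * v * w⁻¹ = v → w = 1 ∨ w = z := by
      intro w hw hwu hwv
      by_contra hne
      push Not at hne
      obtain ⟨k, hk⟩ := hQp ⟨w, hw⟩
      obtain ⟨m, hm⟩ := exists4 ⟨k, congrArg Subtype.val hk⟩ hne.1 hne.2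
      have hcu : Commute (w ^ m) u := Commute.pow_left (mul_inv_eq_iff_eq_mul.1 hwu) m
      have hcv : Commute (w ^ m) v := Commute.pow_left (mul_inv_eq_iff_eq_mul.1 hwv) m
      have h2 : (u * w ^ m) * (u * w ^ m) = 1 := by
        rw [mul_assoc, ← mul_assoc (w ^ m), hcu.eq, mul_assoc u (w ^ m), ← mul_assoc u u, hu,
          sq4 hm, hz2]
      refine huv ?_
      have hu' : Commute u v := by
        rcases hinv _ h2 with e | e
        · rw [eq_inv_of_mul_eq_one_left e]; exact hcv.inv_left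
        · rw [eq_mul_inv_of_mul_eq e]
          exact Commute.mul_left (hzc v).symm hcv.inv_left
      exact hu'.eq
    have hu' : u * u * u⁻¹ = u := mul_inv_cancel_right u u
    have hv' : v * v * v⁻¹ = v := mul_inv_cancel_right v v
    have huv' := hanti huQ huv hv
    have hvu' := hanti hvQ (Ne.symm huv) hu
    have comp : ∀ (s : H), s ∈ Q → (s = 1 ∨ s = u ∨ s = v ∨ s = u * v) →
        (q * s) * u * (q * s)⁻¹ = u → (q * s) * v * (q * s)⁻¹ = v →
        ∃ t : H, (t = 1 ∨ t = z) ∧ (q = t ∨ q = t * u ∨ q = t * v ∨ q = t * (u * v)) := by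
      intro s hs hcase h1 h2
      have ht := key _ (mul_mem hq hs) h1 h2
      set t := q * s
      have hqs : q = t * s⁻¹ := (mul_inv_cancel_right q s).symm
      rcases hcase with rfl | rfl | rfl | rfl
      · exact ⟨t, ht, Or.inl (by rw [hqs, inv_one, mul_one])⟩
      · refine ⟨t * z, ?_, Or.inr (Or.inl (hqs.trans (by rw [inv_eq hu, hzc, ← mul_assoc])))⟩
        rcases ht with e | e <;> rw [e] <;> simp [hz2]
      · refine ⟨t * z, ?_, Or.inr (Or.inr (Or.inl (hqs.trans (by rw [inv_eq hv, hzc, ← mul_assoc]))))⟩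
        rcases ht with e | e <;> rw [e] <;> simp [hz2]
      · have hsq : u * v * (u * v) = z := by
          rw [show u * v * (u * v) = (u * v * u⁻¹) * (u * u) * v by group, huv', hu, mul_assoc, ← hzc v,
            ← mul_assoc, inv_mul_cancel, one_mul]
        refine ⟨t * z, ?_, Or.inr (Or.inr (Or.inr (hqs.trans (by rw [inv_eq hsq, hzc, ← mul_assoc]))))⟩
        rcases ht with e | e <;> rw [e] <;> simp [hz2]
    have cu : ∀ s : H, q * s * u * (q * s)⁻¹ = q * (s * u * s⁻¹) * q⁻¹ := fun s => by group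
    have cv : ∀ s : H, q * s * v * (q * s)⁻¹ = q * (s * v * s⁻¹) * q⁻¹ := fun s => by group
    have ci : ∀ w : H, q * w⁻¹ * q⁻¹ = (q * w * q⁻¹)⁻¹ := fun w => by group
    rcases norm4 (ord4 hu) q hq with qu | qu <;> rcases norm4 (ord4 hv) q hq with qv | qv
    · exact comp 1 (one_mem Q) (Or.inl rfl) (by rw [cu]; simpa using qu) (by rw [cv]; simpa using qv)
    · exact comp u huQ (Or.inr (Or.inl rfl)) (by rw [cu, hu', qu])
        (by rw [cv, huv', ci, qv, inv_inv])
    · exact comp v hvQ (Or.inr (Or.inr (Or.inl rfl))) (by rw [cu, hvu', ci, qu, inv_inv])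
        (by rw [cv, hv', qv])
    · refine comp (u * v) (mul_mem huQ hvQ) (Or.inr (Or.inr (Or.inr rfl))) ?_ ?_
      · rw [cu, show u * v * u * (u * v)⁻¹ = u * (v * u * v⁻¹) * u⁻¹ by group, hvu',
          show u * u⁻¹ * u⁻¹ = u⁻¹ by group, ci, qu, inv_inv]
      · rw [cv, show u * v * v * (u * v)⁻¹ = u * (v * v * v⁻¹) * u⁻¹ by group, hv', huv', ci, qv, inv_inv]
  set T : Finset H := {1, z, b, z * b, c, z * c, b * c, z * (b * c)} with hT
  have hQT : ∀ q ∈ Q, q ∈ T := by
    intro q hq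
    obtain ⟨t, ht, h⟩ := gen hbQ hcQ hb hc hbc q hq
    rw [hT]
    simp only [Finset.mem_insert, Finset.mem_singleton]
    rcases ht with rfl | rfl <;> rcases h with rfl | rfl | rfl | rfl <;> simp
  have q4 : ∀ q ∈ Q, q ^ 4 = 1 := by
    intro q hq
    have hs : ∀ {w : H}, w * w = z → ∀ {t : H}, (t = 1 ∨ t = z) → (t * w) ^ 4 = 1 := by
      intro w hw t ht
      have hw4 : w ^ 4 = 1 := ord4 hw ▸ pow_orderOf_eq_one w
      rcases ht with e | e <;> rw [e]
      · rw [one_mul, hw4]
      · rw [(show Commute z w from (hzc w).symm).mul_pow, hw4, mul_one, show 4 = 2 * 2 from rfl, pow_mul,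
          pow_two z, hz2, one_pow]
    have hbc2 : b * c * (b * c) = z := by
      have h1 := (norm4 (ord4 hc) b hbQ).resolve_left fun e => hbc (mul_inv_eq_iff_eq_mul.1 e)
      rw [show b * c * (b * c) = (b * c * b⁻¹) * (b * b) * c by group, h1, hb, mul_assoc, ← hzc c,
        ← mul_assoc, inv_mul_cancel, one_mul]
    obtain ⟨t, ht, h⟩ := gen hbQ hcQ hb hc hbc q hq
    rcases h with rfl | rfl | rfl | rfl
    · rcases ht with rfl | rfl
      · exact one_pow 4
      · rw [show 4 = 2 * 2 from rfl, pow_mul, pow_two q, hz2, one_pow]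
    · exact hs hb ht
    · exact hs hc ht
    · exact hs hbc2 ht
  -- there is no element of order eight
  have no8 : ∀ a : H, orderOf a ≠ 8 := by
    intro a ha
    have hx4' : orderOf (a ^ 2) = 4 := by
      rw [orderOf_pow_of_dvd two_ne_zero (by rw [ha]; norm_num), ha]
    have hxz := sq4 hx4'
    have hxQ' : a ^ 2 ∈ Q := mem4 hx4'
    have haQ : a ∉ Q := fun h => by
      have := Nat.le_of_dvd (by norm_num) (ha ▸ orderOf_dvd_of_pow_eq_one (q4 a h))
      omega
    obtain ⟨y, hyQ, hyz, hxy⟩ : ∃ y ∈ Q, y * y = z ∧ a ^ 2 * y ≠ y * a ^ 2 := by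
      by_contra hno
      push Not at hno
      have h1 := hno b hbQ hb
      have h2 := hno c hcQ hc
      obtain ⟨t, ht, h⟩ := gen hbQ hcQ hb hc hbc _ hxQ'
      have htc : ∀ w : H, t * w = w * t := fun w => by
        rcases ht with rfl | rfl
        · rw [one_mul, mul_one]
        · exact (hzc w).symm
      rcases h with h | h | h | h
      · rw [h] at hxz
        rcases ht with rfl | rfl
        · exact hz1 (by rw [← hxz, one_mul])
        · exact hz1 (hxz.symm.trans hz2)
      · rw [h, mul_assoc, ← mul_assoc c t b, ← htc c, mul_assoc t c b] at h2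
        exact hbc (mul_left_cancel h2)
      · rw [h, mul_assoc, ← mul_assoc b t c, ← htc b, mul_assoc t b c] at h1
        exact hbc (mul_left_cancel h1).symm
      · rw [h, mul_assoc, ← mul_assoc b t (b * c), ← htc b, mul_assoc t b (b * c)] at h1
        have h3 := mul_left_cancel h1
        exact hbc (mul_left_cancel (mul_assoc b c b ▸ h3)).symm
    set y' := a⁻¹ * y * a with hy'
    have hy'Q : y' ∈ Q := by simpa [hy'] using hQn.conj_mem y hyQ a⁻¹
    have hy'z : y' * y' = z := by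
      rw [hy', show a⁻¹ * y * a * (a⁻¹ * y * a) = a⁻¹ * (y * y) * a by group, hyz, mul_assoc, ← hzc,
        ← mul_assoc, inv_mul_cancel, one_mul]
    have hax : a⁻¹ * a ^ 2 * a = a ^ 2 := by group
    have hyx : y * a ^ 2 * y⁻¹ = (a ^ 2)⁻¹ :=
      (norm4 hx4' y hyQ).resolve_left fun e => hxy (mul_inv_eq_iff_eq_mul.1 e).symm
    have hxycomm : ∀ t : H, t = 1 ∨ t = z → y' = t * a ^ 2 → False := by
      intro t ht e
      refine hxy ?_
      have h1 : y = a * y' * a⁻¹ := by rw [hy']; group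
      have htc : ∀ w : H, t * w = w * t := fun w => by
        rcases ht with rfl | rfl
        · rw [one_mul, mul_one]
        · exact (hzc w).symm
      have h2 : a * (t * a ^ 2) * a⁻¹ = t * a ^ 2 := by
        rw [← mul_assoc a, ← htc a]; group
      rw [h1, e, h2, ← mul_assoc, ← htc (a ^ 2), mul_assoc]
    obtain ⟨t, ht, h⟩ := gen hxQ' hyQ hxz hyz hxy y' hy'Q
    rcases h with h | h | h | h
    · rw [h] at hy'z
      rcases ht with rfl | rfl
      · exact hz1 (by rw [← hy'z, one_mul])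
      · exact hz1 (hy'z.symm.trans hz2)
    · exact hxycomm t ht h
    · -- `y' = t * y` makes `a ^ 2` commute with `y`
      have htc : ∀ w : H, t * w = w * t := fun w => by
        rcases ht with rfl | rfl
        · rw [one_mul, mul_one]
        · exact (hzc w).symm
      have htt : t * t = 1 := by rcases ht with rfl | rfl <;> simp [hz2]
      have h2 : a⁻¹ * (a⁻¹ * y * a) * a = y := by
        rw [← hy', h, show a⁻¹ * (t * y) * a = (a⁻¹ * t) * y * a by group, ← htc, mul_assoc, mul_assoc,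
          ← mul_assoc a⁻¹ y a, ← hy', h, ← mul_assoc, htt, one_mul]
      refine hxy ?_
      have h3 : a⁻¹ * (a⁻¹ * y * a) * a = (a ^ 2)⁻¹ * y * a ^ 2 := by simp [pow_two, mul_assoc]
      rw [h3, mul_assoc, inv_mul_eq_iff_eq_mul] at h2
      exact h2.symm
    · -- `y' = t * a ^ 2 * y` makes the order of `a * y` small
      have hay : (a * y) * (a * y) = a ^ 2 * y' * y := by rw [hy']; group
      have htc : ∀ w : H, t * w = w * t := fun w => by
        rcases ht with rfl | rfl
        · rw [one_mul, mul_one]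
        · exact (hzc w).symm
      have hay1 : (a * y) * (a * y) = t := by
        rw [hay, h, ← mul_assoc (a ^ 2), ← htc (a ^ 2), mul_assoc t (a ^ 2) (a ^ 2 * y),
          ← mul_assoc (a ^ 2) (a ^ 2) y, hxz, mul_assoc t (z * y) y, mul_assoc z y y, hyz, hz2, mul_one]
      refine haQ ?_
      have : a * y ∈ Q := by
        rcases ht with rfl | rfl
        · rcases hinv _ hay1 with e | e <;> rw [e]
          · exact one_mem Q
          · exact hzQ
        · exact mem4 (ord4 hay1)
      simpa using mul_mem this (inv_mem hyQ)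
  have hsub : ∀ s ∈ S, s ∈ Q := by
    intro s hs
    obtain ⟨k, hk⟩ := hS ⟨s, hs⟩
    obtain ⟨j, -, hj⟩ := (Nat.dvd_prime_pow Nat.prime_two).1
      (orderOf_dvd_of_pow_eq_one (congrArg Subtype.val hk : s ^ 2 ^ k = 1))
    by_cases hj3 : 3 ≤ j
    · refine absurd ?_ (no8 (s ^ 2 ^ (j - 3)))
      rw [orderOf_pow_of_dvd (pow_ne_zero _ two_ne_zero) (hj ▸ pow_dvd_pow 2 (Nat.sub_le j 3)), hj,
        Nat.pow_div (Nat.sub_le j 3) two_pos, show j - (j - 3) = 3 by omega]
      rfl
    · by_cases h1 : s = 1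
      · rw [h1]; exact one_mem Q
      by_cases h2 : s = z
      · rw [h2]; exact hzQ
      interval_cases j
      · exact absurd (orderOf_eq_one_iff.1 hj) h1
      · exact absurd ((hinv s (by rw [← pow_two, ← show orderOf s = 2 from hj, pow_orderOf_eq_one])).resolve_left h1) h2
      · exact mem4 hj
  haveI := Fintype.ofFinite S
  rw [Nat.card_eq_fintype_card]
  refine le_trans (Finset.card_le_card_of_injOn (fun s : S => (s : H)) (fun s _ => hQT _ (hsub _ s.2))
    Subtype.val_injective.injOn) ?_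
  rw [hT]
  repeat (refine (Finset.card_insert_le _ _).trans (Nat.succ_le_succ ?_))
  simp

end core

section kernel_two

variable {G : Type u} [Group G] [Finite G]

theorem card_le_eight_of_pair (hB : AbConj G) (hsol : Group.IsSolvable G) {z : G} (hz1 : z ≠ 1)
    (hz2 : z * z = 1) (hzc : ∀ g : G, g * z = z * g) (hinv : ∀ x : G, x * x = 1 → x = 1 ∨ x = z)
    {b c : G} (hb : b * b = z) (hc : c * c = z) (hbc : b * c = z * (c * b)) {S : Subgroup G}
    (hS : IsPGroup 2 S) : Nat.card S ≤ 8 := by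
  have := Fact.mk Nat.prime_two
  set N := Cfsg.pPrimeCore 2 G
  haveI hNn : N.Normal := Grp.pPrimeCore_isNormal
  have hodd : Odd (Nat.card N) := Nat.coprime_two_right.1 Grp.pPrimeCore_coprime
  set π := QuotientGroup.mk' N
  haveI := hsol
  have hmem : ∀ x : G, (∃ k : ℕ, x ^ 2 ^ k = 1) → π x = 1 → x = 1 := by
    rintro x ⟨k, hk⟩ hx
    have h1 : orderOf x ∣ Nat.card N := Subgroup.orderOf_dvd_natCard _ ((QuotientGroup.eq_one_iff x).1 hx)
    exact orderOf_eq_one_iff.1 (Nat.eq_one_of_dvd_coprimes ((Nat.coprime_two_left.2 hodd).pow_left k)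
      (orderOf_dvd_of_pow_eq_one hk) h1)
  have hzk : π z ≠ 1 := fun e => hz1 (hmem z ⟨1, by rw [pow_one, pow_two, hz2]⟩ e)
  have hBq : AbConj (G ⧸ N) := fun A B hA hBc h => AbelianConjQuotient.quotient hB N hodd A B hA hBc h
  have hinv' : ∀ x : G ⧸ N, x * x = 1 → x = 1 ∨ x = π z := by
    intro x hx
    by_cases h1 : x = 1
    · exact Or.inl h1
    right
    have ox : orderOf x = 2 := orderOf_eq_prime ((pow_two x).trans hx) h1
    have oz : orderOf (π z) = 2 := orderOf_eq_prime (by rw [pow_two, ← map_mul, hz2, map_one]) hzk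
    obtain ⟨g, hg⟩ := hBq (Subgroup.zpowers (π z)) (Subgroup.zpowers x) inferInstance inferInstance
      (by rw [Nat.card_zpowers, Nat.card_zpowers, ox, oz])
    obtain ⟨w, hw, rfl⟩ := hg.le (Subgroup.mem_zpowers x)
    obtain ⟨k, rfl⟩ := mem_powers_iff_mem_zpowers.2 hw
    obtain ⟨h, rfl⟩ := QuotientGroup.mk'_surjective N g
    rcases Nat.even_or_odd k with ⟨l, rfl⟩ | ⟨l, rfl⟩
    · exact absurd (by simp [← two_mul, pow_mul, pow_two, ← map_mul, hz2]) h1
    · show π h * π z ^ (2 * l + 1) * (π h)⁻¹ = π z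
      rw [pow_succ, pow_mul, pow_two, ← map_mul, hz2, map_one, one_pow, one_mul, ← map_mul, hzc h, map_mul,
        mul_inv_cancel_right]
  have hbc' : π b * π c ≠ π c * π b := by
    intro e
    refine hzk ?_
    rw [← map_mul, hbc, map_mul, ← map_mul π c b] at e
    exact mul_eq_right.1 e
  have key := card_le_eight hBq inferInstance Grp.pPrimeCore_quotient_eq_bot hzk
    (by rw [← map_mul, hz2, map_one])
    (fun g => by
      obtain ⟨h, rfl⟩ := QuotientGroup.mk'_surjective N g
      rw [← map_mul, ← map_mul, hzc]) hinv'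
    (b := π b) (c := π c) (by rw [← map_mul, hb]) (by rw [← map_mul, hc]) hbc' (hS.map π)
  refine le_trans (le_of_eq ?_) key
  refine Nat.card_congr (Equiv.ofBijective (fun s : S => (⟨π s, s, s.2, rfl⟩ : S.map π)) ⟨?_, ?_⟩)
  · intro s t e
    have e' : π ((s : G)⁻¹ * t) = 1 := by
      rw [map_mul, map_inv, show π (s : G) = π t from congrArg Subtype.val e, inv_mul_cancel]
    obtain ⟨k, hk⟩ := hS (s⁻¹ * t)
    have := hmem _ ⟨k, congrArg Subtype.val hk⟩ e'
    exact Subtype.ext (inv_mul_eq_one.1 this)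
  · rintro ⟨_, s, hs, rfl⟩
    exact ⟨⟨s, hs⟩, rfl⟩

/-- A non-abelian preimage yields two non-commuting square roots of the central involution. -/
theorem exists_pair {z : G} (hz1 : z ≠ 1) (hz2 : z * z = 1) (hzc : ∀ g : G, g * z = z * g)
    (hinv : ∀ x : G, x * x = 1 → x = 1 ∨ x = z) {Y : Subgroup G}
    (hY : ∀ x ∈ Y, ∀ y ∈ Y, x * y = y * x ∨ x * y = z * (y * x)) (hnc : ¬ IsMulCommutative Y) :
    ∃ b ∈ Y, ∃ c ∈ Y, b * b = z ∧ c * c = z ∧ b * c = z * (c * b) := by
  classical
  have hpow : ∀ {x y : G}, x * y = z * (y * x) → ∀ k : ℕ, x ^ k * y = z ^ k * (y * x ^ k) := by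
    intro x y h k
    induction k with
    | zero => simp
    | succ k ih =>
      rw [pow_succ, mul_assoc, h, ← mul_assoc (x ^ k) z, hzc, mul_assoc, ← mul_assoc (x ^ k) y, ih,
        pow_succ z, mul_assoc (z ^ k) z, ← mul_assoc z, ← mul_assoc z (z ^ k), ← pow_succ', pow_succ]
      group
  have hodd : ∀ {x y : G}, x * y = z * (y * x) → ∀ k : ℕ, Odd k → x ^ k * y = z * (y * x ^ k) := by
    intro x y h k hk
    obtain ⟨l, rfl⟩ := hk
    rw [hpow h, pow_succ z, pow_mul z, pow_two z, hz2, one_pow, one_mul]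
  have hswap : ∀ {x y : G}, x * y = z * (y * x) → y * x = z * (x * y) := fun {x y} h => by
    rw [h, ← mul_assoc, hz2, one_mul]
  let P : ℕ → Prop := fun n => ∃ b ∈ Y, ∃ c ∈ Y, b * c = z * (c * b) ∧ (∃ i, b ^ 2 ^ i = 1) ∧
    (∃ i, c ^ 2 ^ i = 1) ∧ orderOf b + orderOf c = n
  have hex : ∃ n, P n := by
    obtain ⟨x, y, hxy⟩ : ∃ x y : Y, x * y ≠ y * x := by
      by_contra hno
      push Not at hno
      exact hnc ⟨⟨hno⟩⟩
    have hxy' : (x : G) * y ≠ y * x := fun e => hxy (Subtype.ext e)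
    have h := (hY x x.2 y y.2).resolve_left hxy'
    obtain ⟨i, m, hm, hxo⟩ := Nat.exists_eq_two_pow_mul_odd (orderOf_pos (x : G)).ne'
    obtain ⟨j, m', hm', hyo⟩ := Nat.exists_eq_two_pow_mul_odd (orderOf_pos (y : G)).ne'
    refine ⟨_, (x : G) ^ m, pow_mem x.2 m, (y : G) ^ m', pow_mem y.2 m',
      hswap (hodd (hswap (hodd h m hm)) m' hm'), ⟨i, ?_⟩, ⟨j, ?_⟩, rfl⟩
    · rw [← pow_mul, mul_comm, ← hxo, pow_orderOf_eq_one]
    · rw [← pow_mul, mul_comm, ← hyo, pow_orderOf_eq_one]
  obtain ⟨b, hbY, c, hcY, hbc, ⟨i, hi⟩, ⟨j, hj⟩, hn⟩ := Nat.find_spec hex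
  have hne : b * c ≠ c * b := fun e => hz1 (by
    rw [e] at hbc
    exact mul_eq_right.1 hbc.symm)
  have hmin : ∀ b' ∈ Y, ∀ c' ∈ Y, b' * c' = z * (c' * b') → (∃ i, b' ^ 2 ^ i = 1) →
      (∃ i, c' ^ 2 ^ i = 1) → orderOf b + orderOf c ≤ orderOf b' + orderOf c' :=
    fun b' h1 c' h2 h3 h4 h5 => hn ▸ Nat.find_min' hex ⟨b', h1, c', h2, h3, h4, h5, rfl⟩
  clear hn
  obtain ⟨k, -, hk⟩ := (Nat.dvd_prime_pow Nat.prime_two).1 (orderOf_dvd_of_pow_eq_one hi)
  obtain ⟨l, -, hl⟩ := (Nat.dvd_prime_pow Nat.prime_two).1 (orderOf_dvd_of_pow_eq_one hj)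
  have top : ∀ {x : G} {k : ℕ}, orderOf x = 2 ^ (k + 1) → x ^ 2 ^ k = z := by
    intro x k hx
    refine (hinv _ ?_).resolve_left fun e => ?_
    · rw [← pow_add, ← two_mul, ← pow_succ', ← hx, pow_orderOf_eq_one]
    · have := Nat.le_of_dvd (Nat.two_pow_pos k) (hx ▸ orderOf_dvd_of_pow_eq_one e)
      have := Nat.pow_lt_pow_right (a := 2) one_lt_two (Nat.lt_succ_self k)
      omega
  have two_le : ∀ {x y : G} {k : ℕ}, x * y ≠ y * x → orderOf x = 2 ^ k → 2 ≤ k := by
    intro x y k hxy hx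
    by_contra hlt
    refine hxy ?_
    rcases hinv x (by
      rw [← pow_two]
      exact orderOf_dvd_iff_pow_eq_one.1 (hx ▸ (pow_dvd_pow 2 (by omega : k ≤ 1)).trans (pow_one 2).dvd)) with
      rfl | rfl
    · rw [one_mul, mul_one]
    · exact (hzc y).symm
  have hk2 := two_le hne hk
  have hl2 := two_le (Ne.symm hne) hl
  obtain ⟨k, rfl⟩ : ∃ k', k = k' + 2 := ⟨k - 2, by omega⟩
  obtain ⟨l, rfl⟩ : ∃ l', l = l' + 2 := ⟨l - 2, by omega⟩
  have sqc : ∀ {x y : G}, x * y = z * (y * x) → Commute (x ^ 2) y := fun {x y} h => by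
    show x ^ 2 * y = y * x ^ 2
    rw [hpow h, pow_two z, hz2, one_mul]
  -- equal orders
  have reduce : ∀ {x y : G} {k l : ℕ}, x * y = z * (y * x) → orderOf x = 2 ^ (k + 2) → orderOf y = 2 ^ (l + 2) →
      l < k → x ∈ Y → y ∈ Y → ∃ y' ∈ Y, x * y' = z * (y' * x) ∧ (∃ i, y' ^ 2 ^ i = 1) ∧ orderOf y' < orderOf y := by
    intro x y k l h hx hy hlk hxY hyY
    set u := x ^ 2 ^ (k - l) with hu
    have hue : u = (x ^ 2) ^ 2 ^ (k - l - 1) := by
      rw [hu, ← pow_mul, ← pow_succ', show k - l - 1 + 1 = k - l by omega]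
    have huy : Commute u y := hue ▸ (sqc h).pow_left _
    have hyu : (y * u) ^ 2 ^ (l + 1) = 1 := by
      rw [huy.symm.mul_pow, top hy, hu, ← pow_mul, ← pow_add, show k - l + (l + 1) = k + 1 by omega, top hx, hz2]
    refine ⟨y * u, mul_mem hyY (pow_mem hxY _), ?_, ⟨l + 1, hyu⟩, ?_⟩
    · rw [← mul_assoc, h, mul_assoc z, mul_assoc y x u, ((Commute.refl x).pow_right _).eq, ← mul_assoc y,
        mul_assoc]
    · rw [hy]
      exact lt_of_le_of_lt (Nat.le_of_dvd (Nat.two_pow_pos _) (orderOf_dvd_of_pow_eq_one hyu))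
        (Nat.pow_lt_pow_right one_lt_two (by omega))
  have hkl : k = l := by
    rcases lt_trichotomy k l with h | h | h
    · obtain ⟨b', hb', h1, h2, h3⟩ := reduce (hswap hbc) hl hk h hcY hbY
      have := hmin b' hb' c hcY (hswap h1) h2 ⟨j, hj⟩
      omega
    · exact h
    · obtain ⟨c', hc', h1, h2, h3⟩ := reduce hbc hk hl h hbY hcY
      have := hmin b hbY c' hc' h1 ⟨i, hi⟩ h2
      omega
  subst hkl
  have hk0 : k = 0 := by
    by_contra hk0
    have hb2 : Commute (b ^ 2) c := sqc hbc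
    have h2 : (b * c) ^ 2 = z * (b ^ 2 * c ^ 2) := by
      rw [pow_two (b * c), mul_assoc b, ← mul_assoc c b c, hswap hbc, mul_assoc z, ← mul_assoc b z, hzc b,
        mul_assoc z, ← mul_assoc b, pow_two b, pow_two c]
      simp only [mul_assoc]
    obtain ⟨k', rfl⟩ := Nat.exists_eq_succ_of_ne_zero hk0
    have hbc1 : (b * c) ^ 2 ^ (k' + 2) = 1 := by
      rw [pow_succ' 2 (k' + 1), pow_mul, h2,
        (show Commute z (b ^ 2 * c ^ 2) from (hzc _).symm).mul_pow, (hb2.pow_right 2).mul_pow, ← pow_mul,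
        ← pow_mul, ← pow_succ', top hk, top hl, hz2, mul_one, pow_succ', pow_mul, pow_two z, hz2, one_pow]
    have hlt : orderOf (b * c) < orderOf c := by
      rw [hl]
      exact lt_of_le_of_lt (Nat.le_of_dvd (Nat.two_pow_pos _) (orderOf_dvd_of_pow_eq_one hbc1))
        (Nat.pow_lt_pow_right one_lt_two (by omega))
    have hb' : b * (b * c) = z * (b * c * b) := by
      conv_lhs => rw [hbc, ← mul_assoc, hzc b]
      simp only [mul_assoc]
    have := hmin b hbY (b * c) (mul_mem hbY hcY) hb' ⟨i, hi⟩ ⟨_, hbc1⟩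
    omega
  subst hk0
  refine ⟨b, hbY, c, hcY, ?_, ?_, hbc⟩
  · simpa [pow_two] using top hk
  · simpa [pow_two] using top hl

/-- The kernel of order two. -/
theorem kernel_two (hB : AbConj G) (hsol : Group.IsSolvable G) (N : Subgroup G) [N.Normal]
    (hN : Nat.card N = 2) : AbConj (G ⧸ N) := by
  classical
  have := Fact.mk Nat.prime_two
  obtain ⟨⟨z, hzN⟩, hz⟩ := exists_prime_orderOf_dvd_card' (G := N) 2 (by rw [hN])
  rw [Subgroup.orderOf_mk] at hz
  have hz1 : z ≠ 1 := fun e => by rw [e, orderOf_one] at hz; omega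
  have hz2 : z * z = 1 := by rw [← pow_two, ← hz, pow_orderOf_eq_one]
  have hNz : ∀ x ∈ N, x = 1 ∨ x = z := by
    intro x hx
    by_contra hne
    push Not at hne
    have := Subgroup.card_le_of_le (le_refl N)
    have h3 : ({⟨1, one_mem N⟩, ⟨z, hzN⟩, ⟨x, hx⟩} : Finset N).card = 3 :=
      Finset.card_eq_three.2 ⟨_, _, _, by simpa using hz1.symm, by simpa using hne.1.symm,
        by simpa using hne.2.symm, rfl⟩
    haveI := Fintype.ofFinite N
    have := Finset.card_le_univ ({⟨1, one_mem N⟩, ⟨z, hzN⟩, ⟨x, hx⟩} : Finset N)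
    rw [h3, ← Nat.card_eq_fintype_card, hN] at this
    omega
  have hzc : ∀ g : G, g * z = z * g := fun g => by
    rcases hNz _ (Subgroup.Normal.conj_mem inferInstance z hzN g) with h | h
    · exact absurd (conj_eq_one_iff.1 h) hz1
    · exact mul_inv_eq_iff_eq_mul.1 h
  have hinv : ∀ x : G, x * x = 1 → x = 1 ∨ x = z := by
    intro x hx
    by_cases h1 : x = 1
    · exact Or.inl h1
    right
    refine (hNz x ((S3909.result hB N).1 x ⟨z, hzN, ?_⟩)).resolve_left h1
    rw [hz, orderOf_eq_prime ((pow_two x).trans hx) h1]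
  set π := QuotientGroup.mk' N
  have hsurj : Function.Surjective π := QuotientGroup.mk'_surjective N
  intro A B hA hBc h
  set Y := A.comap π with hY
  set Z := B.comap π with hZ
  have hcard : Nat.card Y = Nat.card Z := by
    have : ∀ A : Subgroup (G ⧸ N), Nat.card (A.comap π) = Nat.card A * 2 := fun A => by
      have h1 := Subgroup.card_eq_card_quotient_mul_card_subgroup (π.comp (A.comap π).subtype).ker
      rw [Nat.card_congr (QuotientGroup.quotientKerEquivRange _).toEquiv, MonoidHom.range_comp,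
        Subgroup.range_subtype, Subgroup.map_comap_eq_self_of_surjective hsurj, ← MonoidHom.comap_ker,
        QuotientGroup.ker_mk', ← Subgroup.card_map_of_injective (A.comap π).subtype_injective] at h1
      rw [h1]
      congr 1
      show Nat.card ↥((N.subgroupOf (A.comap π)).map (A.comap π).subtype) = 2
      rw [Subgroup.subgroupOf_map_subtype, inf_eq_left.2 (fun x hx => by
        show π x ∈ A
        rw [show π x = 1 from (QuotientGroup.eq_one_iff x).2 hx]; exact one_mem A), hN]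
    rw [this, this, h]
  suffices ∃ g : G, Z = Y.map (MulAut.conj g).toMonoidHom by
    obtain ⟨g, hg⟩ := this
    refine ⟨π g, ?_⟩
    rw [← Subgroup.map_comap_eq_self_of_surjective hsurj B, ← hZ, hg, Subgroup.map_map,
      ← Subgroup.map_comap_eq_self_of_surjective hsurj A, ← hY, Subgroup.map_map]
    congr 1
  have hcomm : ∀ (A : Subgroup (G ⧸ N)), IsMulCommutative A → ∀ x ∈ A.comap π, ∀ y ∈ A.comap π,
      x * y = y * x ∨ x * y = z * (y * x) := by
    intro A hA x hx y hy
    have e : π (x * y * (y * x)⁻¹) = 1 := by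
      have e1 : π x * π y = π y * π x := setLike_mul_comm (s := A) hx hy
      rw [map_mul, map_inv, map_mul π y x, ← e1, ← map_mul π x y, mul_inv_cancel]
    rcases hNz _ ((QuotientGroup.eq_one_iff _).1 e) with h | h
    · exact Or.inl (mul_inv_eq_one.1 h)
    · exact Or.inr (mul_inv_eq_iff_eq_mul.1 h)
  by_cases hab : IsMulCommutative Y ∧ IsMulCommutative Z
  · exact hB Y Z hab.1 hab.2 hcard
  -- quaternion Sylow subgroups of order eight
  obtain ⟨W, hW, hWnc⟩ : ∃ W : Subgroup G, (∀ x ∈ W, ∀ y ∈ W, x * y = y * x ∨ x * y = z * (y * x)) ∧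
      ¬ IsMulCommutative W := by
    rcases not_and_or.1 hab with h1 | h1
    · exact ⟨Y, hcomm A hA, h1⟩
    · exact ⟨Z, hcomm B hBc, h1⟩
  obtain ⟨b, hbW, c, hcW, hb, hc, hbc⟩ := exists_pair hz1 hz2 hzc hinv hW hWnc
  obtain ⟨S⟩ := (inferInstance : Nonempty (Sylow 2 G))
  have hS8 : Nat.card S ≤ 8 := card_le_eight_of_pair hB hsol hz1 hz2 hzc hinv hb hc hbc S.2
  -- Sylow and odd parts of a preimage
  have dec : ∀ X : Subgroup G, (∀ x ∈ X, ∀ y ∈ X, x * y = y * x ∨ x * y = z * (y * x)) →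
      ∃ T K : Subgroup G, IsPGroup 2 T ∧ Nat.card T = 2 ^ (Nat.card X).factorization 2 ∧
        IsMulCommutative K ∧ Nat.card T * Nat.card K = Nat.card X ∧
        (∀ t ∈ T, ∀ k ∈ K, t * k = k * t) ∧ T ⊔ K = X ∧ (IsMulCommutative T → IsMulCommutative X) := by
    intro X hX
    have hcz : ∀ x y : X, ((⁅x, y⁆ : X) : G) = 1 ∨ ((⁅x, y⁆ : X) : G) = z := by
      intro x y
      show (x : G) * y * (x : G)⁻¹ * (y : G)⁻¹ = 1 ∨ (x : G) * y * (x : G)⁻¹ * (y : G)⁻¹ = z
      rcases hX x x.2 y y.2 with h | h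
      · left; rw [h]; group
      · right; rw [h]; group
    have hle : commutator X ≤ Subgroup.center X := by
      rw [commutator_def, Subgroup.commutator_le]
      intro x _ y _
      refine Subgroup.mem_center_iff.2 fun g => Subtype.ext ?_
      show (g : G) * ((⁅x, y⁆ : X) : G) = ((⁅x, y⁆ : X) : G) * g
      rcases hcz x y with h | h <;> rw [h]
      · rw [mul_one, one_mul]
      · exact hzc g
    haveI hnil : Group.IsNilpotent X := Grp.isNilpotent_of_commutator_le_center hle
    obtain ⟨T'⟩ := (inferInstance : Nonempty (Sylow 2 X))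
    have hn' : ∀ (q : ℕ) (_ : Fact q.Prime) (Q : Sylow q X), (Q : Subgroup X).Normal :=
      ((Group.isNilpotent_of_finite_tfae (G := X)).out 0 3).mp hnil
    haveI := hn' 2 ‹_› T'
    obtain ⟨K', hK'⟩ := Subgroup.exists_right_complement'_of_coprime (N := (T' : Subgroup X))
      T'.card_coprime_index
    have hKodd : Odd (Nat.card K') := by
      rw [← hK'.symm.index_eq_card]
      exact Nat.coprime_two_left.1 ((Nat.Prime.coprime_iff_not_dvd Nat.prime_two).2 T'.not_dvd_index)
    have hKc : ∀ x ∈ X, ∀ k : K', x * ((k : X) : G) = ((k : X) : G) * x := by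
      intro x hx k
      refine ((hX x hx _ (k : X).2).resolve_right fun e => hz1 ?_)
      have hm : ((k : X) : G) ^ Nat.card K' = 1 :=
        congrArg (Subtype.val ∘ Subtype.val) (pow_card_eq_one' (x := k))
      have h1 : x * ((k : X) : G) * x⁻¹ = z * (k : X) := by rw [e]; group
      have h2 : (x * ((k : X) : G) * x⁻¹) ^ Nat.card K' = 1 := by rw [conj_pow, hm, mul_one, mul_inv_cancel]
      obtain ⟨l, hl⟩ := hKodd
      rwa [h1, (show Commute z ((k : X) : G) from (hzc _).symm).mul_pow, hm, mul_one, hl, pow_succ, pow_mul,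
        pow_two z, hz2, one_pow, one_mul] at h2
    refine ⟨(T' : Subgroup X).map X.subtype, K'.map X.subtype, T'.2.map _, ?_, ?_, ?_, ?_, ?_, ?_⟩
    · rw [Subgroup.card_map_of_injective X.subtype_injective, T'.card_eq_multiplicity]
    · refine ⟨⟨?_⟩⟩
      rintro ⟨_, k, hk, rfl⟩ ⟨_, k', hk', rfl⟩
      exact Subtype.ext (hKc _ k.2 ⟨k', hk'⟩)
    · rw [Subgroup.card_map_of_injective X.subtype_injective,
        Subgroup.card_map_of_injective X.subtype_injective]
      exact hK'.card_mul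
    · rintro _ ⟨t, -, rfl⟩ _ ⟨k, hk, rfl⟩
      exact hKc _ t.2 ⟨k, hk⟩
    · rw [← Subgroup.map_sup, hK'.sup_eq_top, ← MonoidHom.range_eq_map, Subgroup.range_subtype]
    · intro hT
      have htop : ∀ x : X, ∃ t ∈ (T' : Subgroup X), ∃ k ∈ K', t * k = x := fun x =>
        Subgroup.mem_sup_of_normal_left.1 (hK'.sup_eq_top ▸ Subgroup.mem_top x)
      refine ⟨⟨fun x y => ?_⟩⟩
      obtain ⟨t, ht, k, hk, rfl⟩ := htop x
      obtain ⟨t', ht', k', hk', rfl⟩ := htop y
      refine Subtype.ext ?_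
      show (t : G) * k * (t' * k') = (t' : G) * k' * (t * k)
      have ck : ∀ (k : X), k ∈ K' → ∀ w : X, Commute (k : G) (w : G) := fun k hk w =>
        (hKc _ w.2 ⟨k, hk⟩).symm
      have ht2 : Commute (t : G) (t' : G) :=
        setLike_mul_comm (s := (T' : Subgroup X).map X.subtype) (Subgroup.mem_map_of_mem X.subtype ht)
          (Subgroup.mem_map_of_mem X.subtype ht')
      exact ((ht2.mul_right (ck k' hk' t).symm).mul_left ((ck k hk t').mul_right (ck k hk k'))).eq
  -- a non-abelian preimage has Sylow order eight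
  have eight : ∀ {X T : Subgroup G}, IsPGroup 2 T → ¬ IsMulCommutative T → Nat.card T = 8 := by
    intro X T hT hnc
    have hle : Nat.card T ≤ Nat.card S := by
      obtain ⟨S', hS'⟩ := hT.exists_le_sylow
      exact (Subgroup.card_le_of_le hS').trans (Sylow.card_eq_multiplicity S' ▸ (Sylow.card_eq_multiplicity S).ge)
    obtain ⟨n, hn⟩ := hT.exists_card_eq
    rcases (by omega : n ≤ 2 ∨ 3 ≤ n) with h2 | h2
    · refine absurd ?_ hnc
      interval_cases n
      · haveI : Subsingleton T := (Nat.card_eq_one_iff_unique.1 (by simpa using hn)).1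
        exact ⟨⟨fun a b => Subsingleton.elim _ _⟩⟩
      · haveI := isCyclic_of_prime_card (α := T) (p := 2) (by simpa using hn)
        infer_instance
      · exact IsPGroup.isMulCommutative_of_card_eq_prime_sq (p := 2) hn
    · have := Nat.pow_le_pow_right (n := 2) two_pos h2
      rw [← hn] at this
      omega
  obtain ⟨T, K, hT, hTc, hKc, hTK, hTKc, hsup, hTab⟩ := dec Y (hcomm A hA)
  obtain ⟨T', K', hT', hTc', hKc', hTK', hTKc', hsup', hTab'⟩ := dec Z (hcomm B hBc)
  have hTT : Nat.card T = Nat.card T' := by rw [hTc, hTc', hcard]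
  have hKK : Nat.card K = Nat.card K' := by
    have := hTK.trans (hcard.trans hTK'.symm)
    rw [hTT] at this
    exact Nat.eq_of_mul_eq_mul_left Nat.card_pos this
  have h8 : Nat.card T = 8 := by
    rcases not_and_or.1 hab with h1 | h1
    · exact eight (X := Y) hT fun hc' => h1 (hTab hc')
    · rw [hTT]; exact eight (X := Z) hT' fun hc' => h1 (hTab' hc')
  obtain ⟨g, hg⟩ := hB K K' hKc hKc' hKK
  set C := Subgroup.centralizer (K' : Set G)
  set T1 := T.map (MulAut.conj g).toMonoidHom with hT1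
  have hT1C : T1 ≤ C := by
    rintro _ ⟨t, ht, rfl⟩
    rw [Subgroup.mem_centralizer_iff]
    intro k hk
    rw [SetLike.mem_coe, hg] at hk
    obtain ⟨k, hk, rfl⟩ := hk
    rw [← map_mul, ← map_mul, hTKc t ht k hk]
  have hT2C : T' ≤ C := fun t ht => Subgroup.mem_centralizer_iff.2 fun k hk => (hTKc' t ht k hk).symm
  have hmax : ∀ {R : Subgroup G}, IsPGroup 2 R → Nat.card R = 8 → R ≤ C →
      ∃ P : Sylow 2 C, (P : Subgroup C).map C.subtype = R := by
    intro R hR hR8 hRC
    obtain ⟨P, hP⟩ := (hR.comap_subtype (K := C)).exists_le_sylow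
    refine ⟨P, (Subgroup.eq_of_le_of_card_ge ?_ ?_).symm⟩
    · intro r hr
      exact ⟨⟨r, hRC hr⟩, hP hr, rfl⟩
    · obtain ⟨S', hS'⟩ := (P.2.map C.subtype).exists_le_sylow
      rw [hR8]
      exact (Subgroup.card_le_of_le hS').trans ((Sylow.card_eq_multiplicity S').trans
        (Sylow.card_eq_multiplicity S).symm ▸ hS8)
  obtain ⟨P1, hP1⟩ := hmax (hT.map _) (by
    rw [Subgroup.card_map_of_injective (f := (MulAut.conj g).toMonoidHom) (MulAut.conj g).injective, h8]) hT1C
  obtain ⟨P2, hP2⟩ := hmax hT' (hTT ▸ h8) hT2C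
  obtain ⟨h, hh⟩ := MulAction.exists_smul_eq C P1 P2
  refine ⟨(h : G) * g, ?_⟩
  rw [← hsup, ← hsup', Subgroup.map_sup]
  congr 1
  · rw [← hP2, ← hh, Sylow.coe_subgroup_smul, map_mul, MulEquiv.toMonoidHom_eq_coe]
    ext x
    simp only [Subgroup.mem_map]
    constructor
    · rintro ⟨y, ⟨p1, hp1, rfl⟩, rfl⟩
      have : ((p1 : C) : G) ∈ T1 := hP1.le ⟨p1, hp1, rfl⟩
      obtain ⟨t, ht, e⟩ := this
      exact ⟨t, ht, by simp [← e]⟩
    · rintro ⟨t, ht, rfl⟩
      have : MulAut.conj g t ∈ (P1 : Subgroup C).map C.subtype := hP1.ge ⟨t, ht, rfl⟩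
      obtain ⟨p1, hp1, e⟩ := this
      exact ⟨_, ⟨p1, hp1, rfl⟩, by simp at e ⊢; simp [e]⟩
  · ext k
    constructor
    · intro hk
      have hk0 : k ∈ K.map (MulAut.conj g).toMonoidHom := hg ▸ hk
      obtain ⟨k0, hk0, e⟩ := hk0
      refine ⟨k0, hk0, ?_⟩
      have hc' := Subgroup.mem_centralizer_iff.1 h.2 k hk
      change g * k0 * g⁻¹ = k at e
      show (h : G) * g * k0 * ((h : G) * g)⁻¹ = k
      rw [show (h : G) * g * k0 * ((h : G) * g)⁻¹ = (h : G) * (g * k0 * g⁻¹) * (h : G)⁻¹ by group, e, ← hc',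
        mul_inv_cancel_right]
    · rintro ⟨k0, hk0, rfl⟩
      have hk : g * k0 * g⁻¹ ∈ K' := hg ▸ ⟨k0, hk0, rfl⟩
      have hc' := Subgroup.mem_centralizer_iff.1 h.2 _ hk
      show (h : G) * g * k0 * ((h : G) * g)⁻¹ ∈ K'
      rwa [show (h : G) * g * k0 * ((h : G) * g)⁻¹ = (h : G) * (g * k0 * g⁻¹) * (h : G)⁻¹ by group, ← hc',
        mul_inv_cancel_right]

end kernel_two

/-- The property passes to images of solvable groups. -/
theorem surjective : ∀ (n : ℕ) (G H : Type u) [Group G] [Group H] [Finite G], Nat.card G ≤ n →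
    Group.IsSolvable G → AbConj G → ∀ f : G →* H, Function.Surjective f → AbConj H := by
  intro n
  induction n with
  | zero =>
    intro G H _ _ _ hn
    exact absurd hn (by have := Nat.card_pos (α := G); omega)
  | succ n ih =>
    intro G H _ _ _ hn hsol hB f hf
    by_cases hker : f.ker = ⊥
    · intro A B hA hBc h
      set e := MulEquiv.ofBijective f ⟨f.ker_eq_bot_iff.1 hker, hf⟩
      obtain ⟨g, hg⟩ := hB (A.map e.symm.toMonoidHom) (B.map e.symm.toMonoidHom)
        (by haveI := hA; infer_instance) (by haveI := hBc; infer_instance)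
        (by rw [Subgroup.card_map_of_injective (f := e.symm.toMonoidHom) e.symm.injective, h,
          Subgroup.card_map_of_injective (f := e.symm.toMonoidHom) e.symm.injective])
      refine ⟨f g, ?_⟩
      have := congrArg (Subgroup.map e.toMonoidHom) hg
      rw [Subgroup.map_map, Subgroup.map_map, Subgroup.map_map] at this
      convert this using 2
      · conv_lhs => rw [← Subgroup.map_id B]
        congr 1
        exact MonoidHom.ext fun x => (e.apply_symm_apply x).symm
      · refine MonoidHom.ext fun x => ?_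
        show f g * x * (f g)⁻¹ = e (g * e.symm x * g⁻¹)
        rw [map_mul, map_mul, map_inv, e.apply_symm_apply]
        rfl
    obtain ⟨N, hNn, hN, hNf, hmin⟩ := Grp.exists_minimal_normal_le hker
    have := hsol
    have hNsol : Group.IsSolvable N := Grp.isSolvable_of_injective N.subtype N.subtype_injective hsol
    obtain ⟨hNab, p, hp, hexp⟩ := Grp.minimal_normal_solvable hNsol hN hmin
    have := Fact.mk hp
    have hNp : IsPGroup p N := fun x => ⟨1, by simpa using Subtype.ext (hexp x x.2)⟩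
    obtain ⟨t, ht⟩ := hNp.exists_card_eq
    have hstep : AbConj (G ⧸ N) := by
      by_cases hp2 : p = 2
      swap
      · intro A B hA hBc h
        refine AbelianConjQuotient.quotient hB N ?_ A B hA hBc h
        rw [ht]
        exact (hp.odd_of_ne_two hp2).pow
      subst hp2
      have ht1 : t ≠ 0 := fun e => hN (Subgroup.card_eq_one.1 (by rw [ht, e, pow_zero]))
      by_cases ht2 : t = 1
      · exact kernel_two hB hsol N (by rw [ht, ht2, pow_one])
      have hel : Cfsg.IsElementaryAbelian 2 N := ⟨hNab, hexp⟩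
      obtain ⟨P⟩ := (inferInstance : Nonempty (Sylow 2 G))
      have hPN := (S3909.result hB N).2 2 t (by omega) ht hel P
      intro A B hA hBc h
      have lift : ∀ A : Subgroup (G ⧸ N), IsMulCommutative A → ∃ K : Subgroup G,
          IsMulCommutative K ∧ K.map (QuotientGroup.mk' N) = A ∧ Nat.card K = Nat.card A := by
        intro A hA
        set Y := A.comap (QuotientGroup.mk' N)
        have hNY : N ≤ Y := fun x hx => by
          show QuotientGroup.mk' N x ∈ A
          rw [show QuotientGroup.mk' N x = 1 from (QuotientGroup.eq_one_iff x).2 hx]; exact one_mem A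
        have hcop : (Nat.card (N.subgroupOf Y)).Coprime (N.subgroupOf Y).index := by
          rw [Nat.card_congr (Subgroup.subgroupOfEquivOfLe hNY).toEquiv, ht]
          refine Nat.Coprime.pow_left _ ((Nat.Prime.coprime_iff_not_dvd Nat.prime_two).2 fun hd => ?_)
          have h2 : 2 ∣ N.index := hd.trans (Subgroup.relIndex_dvd_index_of_normal N Y)
          exact P.not_dvd_index (hPN ▸ h2)
        obtain ⟨K, hK⟩ := Subgroup.exists_right_complement'_of_coprime hcop
        set φ := (QuotientGroup.mk' N).comp (K.map Y.subtype).subtype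
        have hinj : Function.Injective φ := by
          rw [← MonoidHom.ker_eq_bot_iff, eq_bot_iff]
          rintro ⟨_, k, hk, rfl⟩ hk1
          have : k = 1 := Subgroup.mem_bot.1 (hK.disjoint.le_bot
            ⟨(QuotientGroup.eq_one_iff (k : G)).1 (MonoidHom.mem_ker.1 hk1 :), hk⟩)
          exact Subtype.ext (by simp [this])
        refine ⟨K.map Y.subtype, ⟨⟨fun a b => hinj ?_⟩⟩, ?_, ?_⟩
        · obtain ⟨_, k, -, rfl⟩ := a
          obtain ⟨_, k', -, rfl⟩ := b
          rw [map_mul, map_mul]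
          exact setLike_mul_comm (s := A) k.2 k'.2
        · refine le_antisymm ?_ fun a ha => ?_
          · rintro _ ⟨_, ⟨k, -, rfl⟩, rfl⟩
            exact k.2
          · obtain ⟨y, rfl⟩ := QuotientGroup.mk'_surjective N a
            obtain ⟨m, hm, k, hk, e⟩ := Subgroup.mem_sup_of_normal_left.1
              (hK.sup_eq_top ▸ Subgroup.mem_top (⟨y, ha⟩ : Y))
            refine ⟨(k : G), ⟨k, hk, rfl⟩, ?_⟩
            rw [show y = (m : G) * k from (congrArg Subtype.val e).symm, map_mul,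
              show QuotientGroup.mk' N (m : G) = 1 from (QuotientGroup.eq_one_iff _).2 hm, one_mul]
        · rw [Subgroup.card_map_of_injective Y.subtype_injective, ← hK.symm.index_eq_card]
          have h1 := (N.subgroupOf Y).card_mul_index
          have hcardY : Nat.card Y = Nat.card A * Nat.card (N.subgroupOf Y) := by
            have h2 := Subgroup.card_eq_card_quotient_mul_card_subgroup ((QuotientGroup.mk' N).comp Y.subtype).ker
            rw [Nat.card_congr (QuotientGroup.quotientKerEquivRange _).toEquiv, MonoidHom.range_comp,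
              Subgroup.range_subtype, Subgroup.map_comap_eq_self_of_surjective (QuotientGroup.mk'_surjective N),
              ← MonoidHom.comap_ker, QuotientGroup.ker_mk'] at h2
            exact h2
          rw [hcardY, mul_comm (Nat.card A)] at h1
          exact Nat.eq_of_mul_eq_mul_left Nat.card_pos h1
      obtain ⟨Y, hYc, hYA, hY⟩ := lift A hA
      obtain ⟨Z, hZc, hZB, hZ⟩ := lift B hBc
      obtain ⟨g, hg⟩ := hB Y Z hYc hZc (by rw [hY, hZ, h])
      refine ⟨(g : G ⧸ N), ?_⟩
      rw [← hYA, ← hZB, hg, Subgroup.map_map, Subgroup.map_map]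
      congr 1
    have hlt := Grp.card_quotient_lt hN
    exact ih (G ⧸ N) H (by omega) (Group.isSolvable_of_surjective (QuotientGroup.mk'_surjective N)) hstep
      (QuotientGroup.lift N f hNf) (fun y => by
        obtain ⟨x, rfl⟩ := hf y
        exact ⟨(x : G ⧸ N), rfl⟩)

end Cfsg.Agent.Grp.AbelianConjSolvable
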