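import Cfsg.Agent.Lib.Transfer.Tate

/-!
`p`-groups whose derived quotient has order `p²` and which have a normal subgroup of index `p`.
-/
set_option autoImplicit false
set_option linter.style.haveILetI false

open scoped commutatorElement

namespace Cfsg.Agent.Grp.AbSq

variable {E : Type*} [Group E] [Finite E] {p : ℕ} [hp : Fact p.Prime]

omit hp in
theorem comm_of_eq_bot (h : commutator E = ⊥) (a b : E) : a * b = b * a := by
  have : ⁅a, b⁆ ∈ commutator E :=
    Subgroup.commutator_mem_commutator (Subgroup.mem_top a) (Subgroup.mem_top b)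
  rw [h, Subgroup.mem_bot] at this
  exact commutatorElement_eq_one_iff_mul_comm.1 this

omit hp in
theorem eq_bot_of_comm (h : ∀ a b : E, a * b = b * a) : commutator E = ⊥ := by
  rw [commutator_def, Subgroup.commutator_eq_bot_iff_le_centralizer]
  exact fun x _ => Subgroup.mem_centralizer_iff.2 fun y _ => h y x

/-- A `p`-group with cyclic derived quotient of order at most `p` is abelian. -/
theorem commutator_eq_bot (hE : IsPGroup p E) (h : (commutator E).index ∣ p) :
    commutator E = ⊥ := by
  haveI : IsCyclic (E ⧸ commutator E) := isCyclic_of_card_dvd_prime (p := p)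
    (by rwa [← Subgroup.index_eq_card])
  obtain ⟨g, hg⟩ := IsCyclic.exists_generator (α := E ⧸ commutator E)
  obtain ⟨y, rfl⟩ := QuotientGroup.mk'_surjective (commutator E) g
  have hgen : Subgroup.zpowers y ⊔ frattini E = ⊤ := by
    refine top_le_iff.1 fun x _ => ?_
    obtain ⟨k, hk⟩ := Subgroup.mem_zpowers_iff.1 (hg (QuotientGroup.mk' (commutator E) x))
    have hx : (y ^ k)⁻¹ * x ∈ commutator E := by
      rw [← QuotientGroup.eq]
      simpa using hk
    have hf : commutator E ≤ frattini E := le_iInf₂ fun L hL => by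
      haveI : L.Normal := Subgroup.NormalizerCondition.normal_of_coatom L
        (Group.normalizerCondition_of_isNilpotent (h := hE.isNilpotent)) hL
      exact Cfsg.Agent.Transfer.commutator_le_of_index_prime
        (Cfsg.Agent.Transfer.coatom_index_eq hE hL)
    have := mul_mem (Subgroup.mem_sup_left (T := frattini E)
      (Subgroup.zpow_mem_zpowers y k)) (Subgroup.mem_sup_right (hf hx))
    rwa [mul_inv_cancel_left] at this
  have hz := frattini_nongenerating hgen
  refine eq_bot_of_comm fun a b => ?_
  obtain ⟨i, rfl⟩ := Subgroup.mem_zpowers_iff.1 (hz.ge (Subgroup.mem_top a))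
  obtain ⟨j, rfl⟩ := Subgroup.mem_zpowers_iff.1 (hz.ge (Subgroup.mem_top b))
  rw [← zpow_add, ← zpow_add, add_comm]

theorem commutator_le (hE : IsPGroup p E) (h : (commutator E).index = p ^ 2) (R : Subgroup E)
    [R.Normal] (hR : ¬ R ≤ commutator E) : commutator E ≤ R := by
  have hq : commutator (E ⧸ R) = (commutator E).map (QuotientGroup.mk' R) := by
    rw [commutator_def, commutator_def, Subgroup.map_commutator,
      Subgroup.map_top_of_surjective _ (QuotientGroup.mk'_surjective R)]
  have hbot := commutator_eq_bot (hE.to_quotient R) (by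
    rw [hq, Subgroup.index_map, QuotientGroup.ker_mk',
      MonoidHom.range_eq_top.2 (QuotientGroup.mk'_surjective R), Subgroup.index_top, mul_one]
    obtain ⟨i, hi, he⟩ := (Nat.dvd_prime_pow hp.out).1
      (h ▸ Subgroup.index_dvd_of_le (le_sup_left : commutator E ≤ commutator E ⊔ R))
    rw [he]
    rcases Nat.lt_or_ge i 2 with h2 | h2
    · calc p ^ i ∣ p ^ 1 := pow_dvd_pow p (by omega)
        _ = p := pow_one p
    · exfalso
      obtain rfl : i = 2 := le_antisymm hi h2
      apply hR
      have hmul := Subgroup.relIndex_mul_index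
        (le_sup_left : commutator E ≤ commutator E ⊔ R)
      rw [he, h] at hmul
      have h1 := Subgroup.relIndex_eq_one.1
        ((mul_eq_right₀ (pow_ne_zero 2 hp.out.ne_zero)).1 hmul)
      exact le_sup_right.trans h1)
  rw [hq, Subgroup.map_eq_bot_iff, QuotientGroup.ker_mk'] at hbot
  exact hbot

/-- Outside an abelian normal subgroup of index `p` the centralisers have order `p²`. -/
theorem card_centralizer (h : (commutator E).index = p ^ 2) (Q : Subgroup E) [Q.Normal]
    (hQi : Q.index = p) (hQ : ∀ a ∈ Q, ∀ b ∈ Q, a * b = b * a) {y : E} (hy : y ∉ Q) :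
    Nat.card (Subgroup.centralizer ({y} : Set E)) = p ^ 2 := by
  have hcQ : commutator E ≤ Q := Cfsg.Agent.Transfer.commutator_le_of_index_prime hQi
  let f : Q →* E :=
    { toFun := fun n => ⁅(n : E), y⁆
      map_one' := by simp [commutatorElement_def]
      map_mul' := fun a b => by
        have hb : ⁅(b : E), y⁆ ∈ Q := hcQ
          (Subgroup.commutator_mem_commutator (Subgroup.mem_top _) (Subgroup.mem_top _))
        have e : ⁅((a * b : Q) : E), y⁆ = ((a : E) * ⁅(b : E), y⁆ * (a : E)⁻¹) * ⁅(a : E), y⁆ := by
          simp only [commutatorElement_def, Subgroup.coe_mul]; group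
        rw [e, hQ a a.2 _ hb, mul_inv_cancel_right]
        exact hQ _ hb _ (hcQ
          (Subgroup.commutator_mem_commutator (Subgroup.mem_top _) (Subgroup.mem_top _))) }
  have hf : ∀ n : Q, f n = ⁅(n : E), y⁆ := fun _ => rfl
  have hle : f.range ≤ commutator E := by
    rintro _ ⟨n, rfl⟩
    exact Subgroup.commutator_mem_commutator (Subgroup.mem_top _) (Subgroup.mem_top _)
  -- the whole group is generated by `Q` and `y`
  have hgen : ∀ x : E, x ∈ Q ⊔ Subgroup.zpowers y := by
    have : Q ⊔ Subgroup.zpowers y = ⊤ := by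
      rw [← Subgroup.index_eq_one]
      have hd := hQi ▸ Subgroup.index_dvd_of_le (le_sup_left : Q ≤ Q ⊔ Subgroup.zpowers y)
      refine ((Nat.dvd_prime hp.out).1 hd).resolve_right fun he => hy ?_
      have hmul := Subgroup.relIndex_mul_index (le_sup_left : Q ≤ Q ⊔ Subgroup.zpowers y)
      rw [he, hQi] at hmul
      exact Subgroup.relIndex_eq_one.1 ((mul_eq_right₀ hp.out.ne_zero).1 hmul)
        (Subgroup.mem_sup_right (Subgroup.mem_zpowers y))
    exact fun x => this ▸ Subgroup.mem_top x
  -- the range is normal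
  haveI hn : f.range.Normal := by
    rw [← Subgroup.normalizer_eq_top_iff, eq_top_iff]
    intro x _
    suffices hN : Q ⊔ Subgroup.zpowers y ≤ Subgroup.normalizer (f.range : Set E) from hN (hgen x)
    refine sup_le (fun q hq => ?_) ?_
    · rw [Subgroup.mem_normalizer_iff_map_conj_eq]
      refine Subgroup.eq_of_le_of_card_ge ?_ (Subgroup.card_map_of_injective (MulEquiv.injective _)).ge
      rintro _ ⟨r, hr, rfl⟩
      show q * r * q⁻¹ ∈ f.range
      rwa [hQ q hq r (hcQ (hle hr)), mul_inv_cancel_right]
    · rw [Subgroup.zpowers_le, Subgroup.mem_normalizer_iff_map_conj_eq]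
      refine Subgroup.eq_of_le_of_card_ge ?_ (Subgroup.card_map_of_injective (MulEquiv.injective _)).ge
      rintro _ ⟨_, ⟨n, rfl⟩, rfl⟩
      show y * f n * y⁻¹ ∈ f.range
      refine ⟨⟨y * n * y⁻¹, Subgroup.Normal.conj_mem inferInstance _ n.2 y⟩, ?_⟩
      simp only [hf, commutatorElement_def]
      group
  have hrange : commutator E ≤ f.range := by
    rw [commutator_def, Subgroup.commutator_le]
    -- modulo the range, `Q` is central and the quotient by `Q` is cyclic
    have key : ∀ a ∈ Q, ∀ x : E, ⁅a, x⁆ ∈ f.range := by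
      intro a ha x
      have hs : ∀ z ∈ Q ⊔ Subgroup.zpowers y, QuotientGroup.mk' f.range z ∈
          Subgroup.centralizer {QuotientGroup.mk' f.range a} := by
        show Q ⊔ Subgroup.zpowers y ≤
          (Subgroup.centralizer {QuotientGroup.mk' f.range a}).comap (QuotientGroup.mk' f.range)
        refine sup_le (fun b hb => ?_) ?_
        · rw [Subgroup.mem_comap, Subgroup.mem_centralizer_singleton_iff, ← map_mul, ← map_mul,
            hQ a ha b hb]
        · rw [Subgroup.zpowers_le, Subgroup.mem_comap, Subgroup.mem_centralizer_singleton_iff]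
          refine (commutatorElement_eq_one_iff_mul_comm.1 ?_).symm
          rw [← map_commutatorElement, QuotientGroup.mk'_apply, QuotientGroup.eq_one_iff]
          exact ⟨⟨a, ha⟩, rfl⟩
      have := hs x (hgen x)
      rw [Subgroup.mem_centralizer_singleton_iff] at this
      rw [← QuotientGroup.eq_one_iff, ← QuotientGroup.mk'_apply, map_commutatorElement,
        commutatorElement_eq_one_iff_mul_comm]
      exact this.symm
    intro a _ b _
    have hs : ∀ z ∈ Q ⊔ Subgroup.zpowers y, QuotientGroup.mk' f.range z ∈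
        Subgroup.centralizer {QuotientGroup.mk' f.range a} := by
      show Q ⊔ Subgroup.zpowers y ≤
        (Subgroup.centralizer {QuotientGroup.mk' f.range a}).comap (QuotientGroup.mk' f.range)
      refine sup_le (fun z hz => ?_) ?_
      · have := key z hz a
        rw [← QuotientGroup.eq_one_iff, ← QuotientGroup.mk'_apply, map_commutatorElement,
          commutatorElement_eq_one_iff_mul_comm] at this
        rw [Subgroup.mem_comap, Subgroup.mem_centralizer_singleton_iff, this]
      · rw [Subgroup.zpowers_le, Subgroup.mem_comap, Subgroup.mem_centralizer_singleton_iff]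
        have h2 : a ∈ Q ⊔ Subgroup.zpowers y := hgen a
        have : Q ⊔ Subgroup.zpowers y ≤
            (Subgroup.centralizer {QuotientGroup.mk' f.range y}).comap
              (QuotientGroup.mk' f.range) := by
          refine sup_le (fun z hz => ?_) ?_
          · have := key z hz y
            rw [← QuotientGroup.eq_one_iff, ← QuotientGroup.mk'_apply, map_commutatorElement,
              commutatorElement_eq_one_iff_mul_comm] at this
            rw [Subgroup.mem_comap, Subgroup.mem_centralizer_singleton_iff, this]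
          · rw [Subgroup.zpowers_le, Subgroup.mem_comap, Subgroup.mem_centralizer_singleton_iff]
        have h3 := this h2
        rw [Subgroup.mem_comap, Subgroup.mem_centralizer_singleton_iff] at h3
        exact h3.symm
    have := hs b (hgen b)
    rw [Subgroup.mem_centralizer_singleton_iff] at this
    rw [← QuotientGroup.eq_one_iff, ← QuotientGroup.mk'_apply, map_commutatorElement,
      commutatorElement_eq_one_iff_mul_comm]
    exact this.symm
  have heq : f.range = commutator E := le_antisymm hle hrange
  set C := Subgroup.centralizer ({y} : Set E) with hC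
  have hker : f.ker = C.subgroupOf Q := by
    ext n
    rw [MonoidHom.mem_ker, Subgroup.mem_subgroupOf, hC, Subgroup.mem_centralizer_singleton_iff, hf,
      commutatorElement_eq_one_iff_mul_comm]
  have hkc : Nat.card f.ker = p := by
    have h1 := Subgroup.card_mul_index f.ker
    rw [Subgroup.index_ker, heq] at h1
    have h2 := Q.card_mul_index
    rw [hQi, ← (commutator E).card_mul_index, h] at h2
    have : Nat.card Q = Nat.card (commutator E) * p := by
      apply Nat.eq_of_mul_eq_mul_right hp.out.pos
      rw [h2]; ring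
    rw [this, mul_comm (Nat.card (commutator E)) p] at h1
    exact Nat.eq_of_mul_eq_mul_right Nat.card_pos h1
  have hQC : (Q.subgroupOf C).index = p := by
    show Q.relIndex C = p
    have hd : Q.relIndex C ∣ p := hQi ▸ Subgroup.relIndex_dvd_index_of_normal Q C
    refine ((Nat.dvd_prime hp.out).1 hd).resolve_left fun h1 => hy ?_
    exact Subgroup.relIndex_eq_one.1 h1 (Subgroup.mem_centralizer_singleton_iff.2 rfl)
  have h3 := (Q.subgroupOf C).card_mul_index
  rw [hQC] at h3
  have h4 : Nat.card (Q.subgroupOf C) = p := by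
    rw [← Subgroup.card_map_of_injective (f := C.subtype) C.subtype_injective,
      Subgroup.subgroupOf_map_subtype, inf_comm, ← Subgroup.subgroupOf_map_subtype,
      Subgroup.card_map_of_injective Q.subtype_injective, ← hker, hkc]
  rw [← h3, h4, sq]

/-- The component step. -/
theorem factor_comm (hE : IsPGroup p E) (h : (commutator E).index = p ^ 2) (Q : Subgroup E)
    [Q.Normal] (hQi : Q.index = p) {y : E} (hy : y ∉ Q) (A R : Subgroup E) (hA : A ≤ Q)
    (hR : R ≤ Q) (hc : ∀ a ∈ A, ∀ r ∈ R, a * r = r * a) (hd : A ⊓ R = ⊥)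
    (hgenQ : ∀ u ∈ Q, ∃ a ∈ A, ∃ r ∈ R, u = a * r)
    (hcyc : ∀ i, 0 < i → i < p → ∀ a ∈ A, y ^ i * a * (y ^ i)⁻¹ ∈ R) :
    ∀ a ∈ A, ∀ b ∈ A, a * b = b * a := by
  classical
  have hyp : y ^ p ∈ Q := hQi ▸ Q.pow_index_mem y
  let cj : ℕ → (Q →* Q) := fun i => ((MulAut.conjNormal (y ^ i) : MulAut Q) : Q →* Q)
  have hcj : ∀ i (u : Q), ((cj i u : Q) : E) = y ^ i * u * (y ^ i)⁻¹ := fun i u =>
    MulAut.conjNormal_apply _ _
  let ψ : Q →* Abelianization Q := ∏ i ∈ Finset.range p, Abelianization.of.comp (cj i)
  have hψ : ∀ u, ψ u = ∏ i ∈ Finset.range p, Abelianization.of (cj i u) := fun u => by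
    simp [ψ]
  -- invariance under conjugation
  have hinvQ : ∀ (q : Q) (u : Q), ψ (q * u * q⁻¹) = ψ u := fun q u => by
    simp
  have hinvy : ∀ u : Q, ψ (cj 1 u) = ψ u := by
    intro u
    rw [hψ, hψ]
    set g : ℕ → Abelianization Q := fun i => Abelianization.of (cj i u) with hg
    have h1 : ∀ i, Abelianization.of (cj i (cj 1 u)) = g (i + 1) := fun i => by
      rw [hg]
      congr 1
      apply Subtype.ext
      rw [hcj, hcj, hcj, pow_succ]
      group
    rw [Finset.prod_congr rfl fun i _ => h1 i]
    have h2 : g p = g 0 := by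
      rw [hg]
      have : cj p u = ⟨y ^ p, hyp⟩ * cj 0 u * ⟨y ^ p, hyp⟩⁻¹ := by
        apply Subtype.ext
        simp only [Subgroup.coe_mul, InvMemClass.coe_inv, hcj, pow_zero, one_mul, inv_one, mul_one]
      simp only [this, map_mul, map_inv]
      exact mul_inv_cancel_comm _ _
    have e1 := Finset.prod_range_succ' g p
    rw [Finset.prod_range_succ, h2] at e1
    exact (mul_right_cancel e1).symm
  let S : Subgroup E :=
    { carrier := {x | ∀ u : Q, ψ (MulAut.conjNormal x u) = ψ u}
      one_mem' := fun u => by simp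
      mul_mem' := fun {a b} ha hb u => by rw [map_mul, MulAut.mul_apply, ha, hb]
      inv_mem' := fun {a} ha u => by
        have := ha (MulAut.conjNormal a⁻¹ u)
        rwa [← MulAut.mul_apply, ← map_mul, mul_inv_cancel, map_one, MulAut.one_apply,
          eq_comm] at this }
  have hS : ∀ x, x ∈ S := by
    have hQS : Q ≤ S := fun q hq u => by
      rw [show MulAut.conjNormal q u = (⟨q, hq⟩ : Q) * u * (⟨q, hq⟩ : Q)⁻¹ from
        Subtype.ext (MulAut.conjNormal_apply _ _)]
      exact hinvQ _ _
    have hyS : y ∈ S := fun u => by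
      rw [show MulAut.conjNormal y u = cj 1 u from
        Subtype.ext (by rw [hcj, pow_one, MulAut.conjNormal_apply])]
      exact hinvy u
    have : S = ⊤ := by
      rw [← Subgroup.index_eq_one]
      refine ((Nat.dvd_prime hp.out).1 (hQi ▸ Subgroup.index_dvd_of_le hQS)).resolve_right
        fun he => hy ?_
      have hmul := Subgroup.relIndex_mul_index hQS
      rw [he, hQi] at hmul
      exact Subgroup.relIndex_eq_one.1 ((mul_eq_right₀ hp.out.ne_zero).1 hmul) hyS
    exact fun x => this ▸ Subgroup.mem_top x
  set K := ψ.ker.map Q.subtype with hK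
  haveI : K.Normal := ⟨by
    rintro _ ⟨u, hu, rfl⟩ x
    refine ⟨MulAut.conjNormal x u, ?_, MulAut.conjNormal_apply _ _⟩
    rw [SetLike.mem_coe, MonoidHom.mem_ker] at hu ⊢
    rw [hS x u, hu]⟩
  have hKQ : K ≤ Q := Subgroup.map_subtype_le _
  -- `Q` is central modulo `K`
  have hEK : commutator E ≤ K := by
    haveI : IsCyclic (E ⧸ Q) := isCyclic_of_prime_card (p := p) hQi
    let π : E ⧸ K →* E ⧸ Q := QuotientGroup.map K Q (MonoidHom.id E) (by simpa using hKQ)
    have hcen : π.ker ≤ Subgroup.center (E ⧸ K) := by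
      intro a ha
      obtain ⟨u, rfl⟩ := QuotientGroup.mk'_surjective K a
      have hu : u ∈ Q := by
        rw [MonoidHom.mem_ker, QuotientGroup.mk'_apply, QuotientGroup.map_mk,
          QuotientGroup.eq_one_iff] at ha
        exact ha
      rw [Subgroup.mem_center_iff]
      intro b
      obtain ⟨x, rfl⟩ := QuotientGroup.mk'_surjective K b
      rw [← map_mul, ← map_mul, QuotientGroup.mk'_apply, QuotientGroup.mk'_apply,
        QuotientGroup.eq]
      refine ⟨(⟨u, hu⟩ : Q)⁻¹ * MulAut.conjNormal x⁻¹ ⟨u, hu⟩, ?_, ?_⟩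
      · rw [SetLike.mem_coe, MonoidHom.mem_ker, map_mul, map_inv, hS, inv_mul_cancel]
      · simp only [Subgroup.coe_subtype, MulAut.conjNormal_apply, Subgroup.coe_mul,
          InvMemClass.coe_inv]
        group
    have hcom := MonoidHom.isMulCommutative_of_isCyclic_of_ker_le_center π hcen
    refine Subgroup.Normal.quotient_commutative_iff_commutator_le.1 ?_
    exact hcom
  have hrange : Nat.card ψ.range ∣ p := by
    rw [← Subgroup.index_ker]
    have h1 : K.index ∣ p ^ 2 := h ▸ Subgroup.index_dvd_of_le hEK
    rw [hK, Subgroup.index_map_subtype, hQi, sq] at h1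
    exact Nat.dvd_of_mul_dvd_mul_right hp.out.pos h1
  -- projection to `A`
  have hcomm : ∀ (a : A) (r : R), Commute (Subgroup.inclusion hA a) (Subgroup.inclusion hR r) :=
    fun a r => Subtype.ext (hc a a.2 r r.2)
  let μ : A × R →* Q :=
    (Subgroup.inclusion hA).noncommCoprod (Subgroup.inclusion hR) hcomm
  have hμ : ∀ a r, ((μ (a, r) : Q) : E) = (a : E) * (r : E) := fun _ _ => rfl
  have hbij : Function.Bijective μ := by
    refine ⟨(injective_iff_map_eq_one μ).2 ?_, fun u => ?_⟩
    · rintro ⟨a, r⟩ e
      have e' := congrArg Subtype.val e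
      rw [hμ, OneMemClass.coe_one] at e'
      have ha : (a : E) = (r : E)⁻¹ := eq_inv_of_mul_eq_one_left e'
      have hm : (a : E) ∈ A ⊓ R := ⟨a.2, ha ▸ R.inv_mem r.2⟩
      rw [hd, Subgroup.mem_bot] at hm
      rw [hm, one_mul] at e'
      exact Prod.ext (Subtype.ext hm) (Subtype.ext e')
    · obtain ⟨a, ha, r, hr, e⟩ := hgenQ u u.2
      exact ⟨(⟨a, ha⟩, ⟨r, hr⟩), Subtype.ext e.symm⟩
  let pr : Q →* A :=
    (MonoidHom.fst A R).comp (MulEquiv.ofBijective μ hbij).symm.toMonoidHom
  have hpr : ∀ a r, pr (μ (a, r)) = a := fun a r => by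
    show ((MulEquiv.ofBijective μ hbij).symm (μ (a, r))).1 = a
    rw [show μ (a, r) = MulEquiv.ofBijective μ hbij (a, r) from rfl, MulEquiv.symm_apply_apply]
  let prA : Abelianization Q →* Abelianization A := Abelianization.map pr
  have hid : ∀ a : A, prA (ψ (Subgroup.inclusion hA a)) = Abelianization.of a := by
    intro a
    rw [hψ, map_prod]
    rw [Finset.prod_eq_single 0]
    · show prA (Abelianization.of _) = _
      rw [Abelianization.map_of]
      congr 1
      have : cj 0 (Subgroup.inclusion hA a) = μ (a, 1) := Subtype.ext (by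
        rw [hcj, hμ, pow_zero, one_mul, inv_one, mul_one, OneMemClass.coe_one, mul_one]; rfl)
      rw [this, hpr]
    · intro i hi hi0
      rw [Abelianization.map_of]
      have hmem : y ^ i * (a : E) * (y ^ i)⁻¹ ∈ R :=
        hcyc i (Nat.pos_of_ne_zero hi0) (Finset.mem_range.1 hi) a a.2
      have : cj i (Subgroup.inclusion hA a) = μ (1, ⟨_, hmem⟩) := Subtype.ext (by
        rw [hcj, hμ, OneMemClass.coe_one, one_mul]; rfl)
      rw [this, hpr, map_one]
    · exact fun h0 => absurd (Finset.mem_range.2 hp.out.pos) h0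
  have hAab : (commutator A).index ∣ p := by
    rw [Subgroup.index_eq_card]
    refine dvd_trans ?_ hrange
    let θ : ψ.range →* Abelianization A := prA.comp ψ.range.subtype
    exact Subgroup.card_dvd_of_surjective θ fun z => by
      obtain ⟨a, rfl⟩ := QuotientGroup.mk'_surjective (commutator A) z
      exact ⟨⟨_, Subgroup.inclusion hA a, rfl⟩, hid a⟩
  intro a ha b hb
  exact congrArg Subtype.val
    (comm_of_eq_bot (commutator_eq_bot (hE.to_subgroup A) hAab) ⟨a, ha⟩ ⟨b, hb⟩)

end Cfsg.Agent.Grp.AbSq
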