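import Mathlib
import Cfsg.Agent.Lib.Grp.PSolvable
import Cfsg.Agent.Lib.Grp.Frattini
import Cfsg.Agent.Lib.Grp.Coprime

/-!
In a `p`-soluble group with trivial `p'`-core the action on `O_p / Φ(O_p)` has kernel `O_p`.
-/

set_option autoImplicit false

namespace Cfsg.Agent.Grp

open Subgroup
open scoped commutatorElement

variable {G : Type*} [Group G] [Finite G] {p : ℕ} [hp : Fact p.Prime]

/-- An element whose commutators with `O_p` lie in `Φ(O_p)` lies in `O_p`. -/
theorem mem_pCore_of_trivial_on_frattini_quotient (hG : Cfsg.IsPSolvable p G) (hO : Cfsg.pPrimeCore p G = ⊥)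
    {g : G} (hg : ∀ b ∈ Cfsg.pCore p G, ⁅b, g⁆ ∈ (frattini ↥(Cfsg.pCore p G)).map (Cfsg.pCore p G).subtype) :
    g ∈ Cfsg.pCore p G := by
  set P0 := Cfsg.pCore p G with hP0
  haveI : P0.Normal := pCore_isNormal
  set Φ0 := (frattini ↥P0).map P0.subtype with hΦ0
  haveI : Φ0.Normal := inferInstance
  set C := (centralizer (P0.map (QuotientGroup.mk' Φ0) : Set (G ⧸ Φ0))).comap (QuotientGroup.mk' Φ0) with hC
  have hCn : C.Normal := by
    haveI : (P0.map (QuotientGroup.mk' Φ0)).Normal :=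
      (inferInstance : P0.Normal).map _ (QuotientGroup.mk'_surjective _)
    exact (inferInstance : (centralizer (P0.map (QuotientGroup.mk' Φ0) : Set (G ⧸ Φ0))).Normal).comap _
  have hmemC : ∀ c : G, c ∈ C ↔ ∀ b ∈ P0, ⁅b, c⁆ ∈ Φ0 := by
    intro c
    rw [hC, mem_comap, Subgroup.mem_centralizer_iff]
    constructor
    · intro h b hb
      rw [← QuotientGroup.eq_one_iff, ← QuotientGroup.mk'_apply, map_commutatorElement,
        commutatorElement_eq_one_iff_mul_comm]
      exact h _ ⟨b, hb, rfl⟩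
    · rintro h _ ⟨b, hb, rfl⟩
      rw [← commutatorElement_eq_one_iff_mul_comm, ← map_commutatorElement, QuotientGroup.mk'_apply,
        QuotientGroup.eq_one_iff]
      exact h b hb
  have hP0p : IsPGroup p P0 := pCore_isPGroup
  refine le_pCore hCn (IsPGroup.iff_orderOf.mpr fun c => ?_) ((hmemC g).mpr hg)
  obtain ⟨k, m, hm, hkm⟩ := Nat.exists_eq_pow_mul_and_not_dvd (orderOf_pos c).ne' p hp.out.ne_one
  refine ⟨k, ?_⟩
  set a : G := (c : G) ^ p ^ k with ha
  have hao : orderOf a = m := by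
    rw [ha, orderOf_pow' _ (pow_ne_zero _ hp.out.ne_zero), Subgroup.orderOf_coe, hkm,
      Nat.gcd_eq_right (dvd_mul_right _ _), Nat.mul_div_cancel_left _ (pow_pos hp.out.pos _)]
  have hcop : (Nat.card ↥(zpowers a)).Coprime (Nat.card P0) := by
    obtain ⟨j, hj⟩ := hP0p.exists_card_eq
    rw [Nat.card_zpowers, hao, hj]
    exact ((hp.out.coprime_iff_not_dvd.mpr hm).symm).pow_right j
  have hle : ⁅P0, zpowers a⁆ ≤ Φ0 := by
    rw [Subgroup.commutator_le]
    intro b hb d hd
    exact (hmemC d).mp (zpowers_le.mpr (Subgroup.pow_mem _ c.2 _) hd) b hb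
  have hn : zpowers a ≤ normalizer (P0 : Set G) := by rw [Subgroup.normalizer_eq_top]; exact le_top
  have hsup := commutator_sup_fixed (zpowers a) P0 hn hcop (Or.inl inferInstance)
  have htop : ((P0 ⊓ centralizer (zpowers a : Set G)).subgroupOf P0) ⊔ frattini ↥P0 = ⊤ := by
    refine top_le_iff.mp fun y _ => ?_
    have hy : (y : G) ∈ (((P0 ⊓ centralizer (zpowers a : Set G)).subgroupOf P0) ⊔ frattini ↥P0).map P0.subtype := by
      rw [Subgroup.map_sup, Subgroup.map_subgroupOf_eq_of_le inf_le_left, sup_comm]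
      exact (hsup.ge.trans (sup_le_sup_right hle _)) y.2
    obtain ⟨z, hz, hzy⟩ := hy
    rw [← Subtype.ext hzy]; exact hz
  have hc := frattini_nongenerating htop
  rw [Subgroup.subgroupOf_eq_top] at hc
  have haC : a ∈ centralizer (P0 : Set G) := Subgroup.mem_centralizer_iff.mpr fun y hy =>
    (Subgroup.mem_centralizer_iff.mp (hc hy).2 a (mem_zpowers a)).symm
  have haP : a ∈ P0 := centralizer_pCore_le_of_pSolvable hG hO haC
  obtain ⟨j, hj⟩ := (IsPGroup.iff_orderOf.mp hP0p) ⟨a, haP⟩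
  rw [Subgroup.orderOf_mk, hao] at hj
  have hm1 : m = 1 := by
    rcases j.eq_zero_or_pos with rfl | hjp
    · simpa using hj
    · exact absurd (hj ▸ dvd_pow_self p hjp.ne') hm
  rw [hkm, hm1, mul_one]

end Cfsg.Agent.Grp
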