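import Mathlib
import Cfsg.Prelude.Def_Local
import Cfsg.Agent.Lib.Grp.Quasisimple

/-!
Pointwise stabilizers of four points in alternating groups are standard.
-/

set_option autoImplicit false

namespace Cfsg.Agent.Grp.AltStd

open Equiv

variable {α : Type*} [Fintype α] [DecidableEq α]

/-- The pointwise stabilizer of `T` in the alternating group. -/
def fixSub (T : Finset α) : Subgroup (alternatingGroup α) where
  carrier := {g | ∀ i ∈ T, (g : Perm α) i = i}
  one_mem' := fun i _ => rfl
  mul_mem' := by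
    intro a b ha hb i hi
    show (a : Perm α) ((b : Perm α) i) = i
    rw [hb i hi, ha i hi]
  inv_mem' := by
    intro a ha i hi
    show ((a : Perm α)⁻¹) i = i
    rw [Perm.inv_eq_iff_eq]
    exact (ha i hi).symm

theorem mem_fixSub {T : Finset α} {g : alternatingGroup α} :
    g ∈ fixSub T ↔ ∀ i ∈ T, (g : Perm α) i = i := Iff.rfl

/-- The embedding of the alternating group of the complement. -/
def emb (T : Finset α) : alternatingGroup {x // x ∉ T} →* alternatingGroup α :=
  ((Perm.ofSubtype).comp (alternatingGroup {x // x ∉ T}).subtype).codRestrict _ fun g => by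
    rw [Perm.mem_alternatingGroup]
    show Perm.sign (Perm.ofSubtype (g : Perm {x // x ∉ T})) = 1
    rw [Perm.sign_ofSubtype]
    exact Perm.mem_alternatingGroup.mp g.2

theorem emb_injective (T : Finset α) : Function.Injective (emb T) := fun a b h =>
  Subtype.ext (Perm.ofSubtype_injective (congrArg Subtype.val h))

theorem emb_range (T : Finset α) : (emb T).range = fixSub T := by
  refine le_antisymm ?_ ?_
  · rintro _ ⟨g, rfl⟩ i hi
    exact Perm.ofSubtype_apply_of_not_mem (g : Perm {x // x ∉ T}) (by simpa using hi)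
  · intro g hg
    have h1 : ∀ x, (g : Perm α) x ∉ T ↔ x ∉ T := by
      intro x
      refine not_congr ⟨fun h => ?_, fun h => by rwa [hg x h]⟩
      have := (g : Perm α).injective (hg _ h)
      rwa [this] at h
    have h2 : ∀ x, (g : Perm α) x ≠ x → x ∉ T := fun x hx hxT => hx (hg x hxT)
    refine ⟨⟨(g : Perm α).subtypePerm h1, ?_⟩, Subtype.ext (Perm.ofSubtype_subtypePerm h1 h2)⟩
    rw [Perm.mem_alternatingGroup, Perm.sign_subtypePerm _ h1 h2]
    exact Perm.mem_alternatingGroup.mp g.2

theorem threeCycle {a b c : α} (T : Finset α) (ha : a ∉ T) (hb : b ∉ T) (hc : c ∉ T)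
    (ab : a ≠ b) (ac : a ≠ c) (bc : b ≠ c) :
    ∃ l ∈ fixSub T, (l : Perm α) = swap a b * swap a c := by
  refine ⟨⟨_, (Perm.isThreeCycle_swap_mul_swap_same ab ac bc).mem_alternatingGroup⟩, ?_, rfl⟩
  intro i hi
  show swap a b (swap a c i) = i
  rw [swap_apply_of_ne_of_ne (ne_of_mem_of_not_mem hi ha) (ne_of_mem_of_not_mem hi hc),
    swap_apply_of_ne_of_ne (ne_of_mem_of_not_mem hi ha) (ne_of_mem_of_not_mem hi hb)]

theorem exists_moves {T : Finset α} (hT : T.card + 3 ≤ Fintype.card α) {x : α} (hx : x ∉ T) :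
    ∃ l ∈ fixSub T, (l : Perm α) x ≠ x := by
  have h1 : 1 < (Tᶜ.erase x).card := by
    rw [Finset.card_erase_of_mem (Finset.mem_compl.mpr hx), Finset.card_compl]; omega
  obtain ⟨b, hb, c, hc, bc⟩ := Finset.one_lt_card.mp h1
  simp only [Finset.mem_erase, Finset.mem_compl] at hb hc
  obtain ⟨l, hl, he⟩ := threeCycle T hx hb.2 hc.2 hb.1.symm hc.1.symm bc
  refine ⟨l, hl, ?_⟩
  rw [he, Perm.mul_apply, swap_apply_left, swap_apply_of_ne_of_ne hc.1 bc.symm]
  exact hc.1

theorem preserves {T : Finset α} (hT : T.card + 3 ≤ Fintype.card α) {g : alternatingGroup α}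
    (h : ∀ l ∈ fixSub T, g⁻¹ * l * g ∈ fixSub T) : ∀ i ∈ T, (g : Perm α) i ∈ T := by
  intro i hi
  by_contra hgi
  obtain ⟨l, hl, hmove⟩ := exists_moves hT hgi
  have := h l hl i hi
  refine hmove ?_
  have e : (g : Perm α)⁻¹ ((l : Perm α) ((g : Perm α) i)) = i := this
  rwa [Perm.inv_eq_iff_eq] at e

theorem conj_mem {T U : Finset α} {g : alternatingGroup α} (h : ∀ i ∈ U, (g : Perm α)⁻¹ i ∈ T)
    {l : alternatingGroup α} (hl : l ∈ fixSub T) : g * l * g⁻¹ ∈ fixSub U := by
  intro i hi
  show (g : Perm α) ((l : Perm α) ((g : Perm α)⁻¹ i)) = i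
  rw [hl _ (h i hi)]
  simp

theorem centralizer_fixSub (T : Finset α) (hT : T.card + 5 ≤ Fintype.card α) :
    Subgroup.centralizer (fixSub T : Set (alternatingGroup α)) = fixSub Tᶜ := by
  refine le_antisymm ?_ ?_
  · intro g hg x hx
    rw [Finset.mem_compl] at hx
    have hg' : ∀ l ∈ fixSub T, (l : Perm α) * g = g * l := fun l hl =>
      congrArg Subtype.val (Subgroup.mem_centralizer_iff.mp hg l hl)
    by_contra hne
    set y := (g : Perm α) x with hy
    have h1 : 1 < ((Tᶜ.erase x).erase y).card := by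
      have e1 : (Tᶜ.erase x).card = Fintype.card α - T.card - 1 := by
        rw [Finset.card_erase_of_mem (Finset.mem_compl.mpr hx), Finset.card_compl]
      have e2 : (Tᶜ.erase x).card - 1 ≤ ((Tᶜ.erase x).erase y).card := Finset.pred_card_le_card_erase
      omega
    obtain ⟨b, hb, c, hc, bc⟩ := Finset.one_lt_card.mp h1
    simp only [Finset.mem_erase, Finset.mem_compl] at hb hc
    obtain ⟨l, hl, he⟩ := threeCycle T hx hb.2.2 hc.2.2 hb.2.1.symm hc.2.1.symm bc
    have e := congrArg (fun σ : Perm α => σ x) (hg' l hl)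
    simp only [Perm.mul_apply, ← hy] at e
    rw [he] at e
    have hfix : (swap x b * swap x c) y = y := by
      rw [Perm.mul_apply, swap_apply_of_ne_of_ne hne hc.1.symm,
        swap_apply_of_ne_of_ne hne hb.1.symm]
    rw [hfix, Perm.mul_apply, swap_apply_left, swap_apply_of_ne_of_ne hc.2.1 bc.symm] at e
    exact hc.2.1 ((g : Perm α).injective e).symm
  · intro g hg
    rw [Subgroup.mem_centralizer_iff]
    intro l hl
    refine Subtype.ext ((Perm.Disjoint.commute ?_).eq)
    intro x
    by_cases hx : x ∈ T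
    · exact Or.inl (hl x hx)
    · exact Or.inr (hg x (Finset.mem_compl.mpr hx))

theorem fixSub_isQuasisimple (T : Finset α) (h : T.card + 5 ≤ Fintype.card α) :
    Cfsg.IsQuasisimple ↥(fixSub T) := by
  have e : alternatingGroup {x // x ∉ T} ≃* ↥(fixSub T) :=
    (MonoidHom.ofInjective (emb_injective T)).trans (MulEquiv.subgroupCongr (emb_range T))
  have hc : 5 ≤ Nat.card {x // x ∉ T} := by
    rw [Nat.card_eq_fintype_card, Fintype.card_subtype_compl, Fintype.card_coe]; omega
  refine (Cfsg.Agent.Grp.isQuasisimple_congr e).mp ?_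
  haveI := alternatingGroup.isSimpleGroup hc
  have hna : ¬ IsMulCommutative (alternatingGroup {x // x ∉ T}) := by
    intro hcomm
    obtain ⟨x, hx⟩ : ∃ x, x ∉ T := by
      obtain ⟨⟨x, hx⟩⟩ : Nonempty {x // x ∉ T} := Nat.card_pos_iff.mp (by omega) |>.1
      exact ⟨x, hx⟩
    obtain ⟨l, hl, hm⟩ := exists_moves (by omega) hx
    refine hm ?_
    have hlc : l ∈ Subgroup.centralizer (fixSub T : Set (alternatingGroup α)) := by
      rw [Subgroup.mem_centralizer_iff]
      intro m hm'
      obtain ⟨u, hu⟩ := e.surjective ⟨l, hl⟩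
      obtain ⟨v, hv⟩ := e.surjective ⟨m, hm'⟩
      have := congrArg (fun z => ((e z : ↥(fixSub T)) : alternatingGroup α)) (hcomm.is_comm.comm v u)
      simpa [map_mul, hu, hv] using this
    rw [centralizer_fixSub T h] at hlc
    exact hlc x (Finset.mem_compl.mpr hx)
  haveI : Nontrivial (alternatingGroup {x // x ∉ T}) := IsSimpleGroup.toNontrivial
  have hperf : Group.IsPerfect (alternatingGroup {x // x ∉ T}) := by
    refine ⟨?_⟩
    rcases IsSimpleGroup.eq_bot_or_eq_top_of_normal (commutator (alternatingGroup {x // x ∉ T})) inferInstance with h0 | h0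
    · exact absurd (((_root_.commutator_eq_bot_iff (G := alternatingGroup {x // x ∉ T})).mp h0)) hna
    · exact h0
  refine Cfsg.Agent.Grp.isQuasisimple_of hperf fun N hN => ?_
  rcases IsSimpleGroup.eq_bot_or_eq_top_of_normal N hN with rfl | rfl
  · exact Or.inr bot_le
  · exact Or.inl rfl

theorem isStandard (T : Finset α) (hT : T.card = 4) (hn : 9 ≤ Fintype.card α) :
    Cfsg.IsStandardSubgroup (fixSub T) := by
  have h5 : T.card + 5 ≤ Fintype.card α := by omega
  have hcc : Tᶜ.card + 3 ≤ Fintype.card α := by rw [Finset.card_compl]; omega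
  have hC := centralizer_fixSub T h5
  have hnorm : ∀ (U : Finset α), U.card + 3 ≤ Fintype.card α → ∀ g : alternatingGroup α,
      g ∈ Subgroup.normalizer (fixSub U : Set (alternatingGroup α)) ↔ U.image (g : Perm α) = U := by
    intro U hU g
    constructor
    · intro hg
      refine Finset.eq_of_subset_of_card_le ?_ (by rw [Finset.card_image_of_injective _ (g : Perm α).injective])
      intro i hi
      obtain ⟨j, hj, rfl⟩ := Finset.mem_image.mp hi
      refine preserves hU (fun l hl => ?_) j hj
      have := (Subgroup.mem_normalizer_iff.mp (Subgroup.inv_mem _ hg) l).mp hl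
      simpa using this
    · intro hg
      have hfor : ∀ i ∈ U, (g : Perm α) i ∈ U := fun i hi => hg ▸ Finset.mem_image_of_mem _ hi
      have hback : ∀ i ∈ U, (g : Perm α)⁻¹ i ∈ U := by
        intro i hi
        rw [← hg] at hi
        obtain ⟨j, hj, rfl⟩ := Finset.mem_image.mp hi
        simpa using hj
      rw [Subgroup.mem_normalizer_iff]
      refine fun l => ⟨fun hl => conj_mem hback hl, fun hl => ?_⟩
      have := conj_mem (g := g⁻¹) (T := U) (U := U) (fun i hi => by simpa using hfor i hi) hl
      simpa [mul_assoc] using this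
  have himgc : ∀ g : alternatingGroup α, Tᶜ.image (g : Perm α) = Tᶜ ↔ T.image (g : Perm α) = T := by
    intro g
    rw [show Tᶜ.image (g : Perm α) = (T.image (g : Perm α))ᶜ from ?_, compl_inj_iff]
    ext i
    simp only [Finset.mem_image, Finset.mem_compl]
    constructor
    · rintro ⟨j, hj, rfl⟩ ⟨k, hk, hkj⟩
      exact hj ((g : Perm α).injective hkj ▸ hk)
    · intro hi
      exact ⟨(g : Perm α)⁻¹ i, fun h => hi ⟨_, h, by simp⟩, by simp⟩
  refine ⟨fixSub_isQuasisimple T h5, ⟨?_, ?_⟩, ?_, ?_⟩
  · rw [hC]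
    obtain ⟨a, b, c, d, hab, hac, had, hbc, hbd, hcd, he⟩ := Finset.card_eq_four.mp hT
    have hmem : swap a b * swap c d ∈ alternatingGroup α := by
      rw [Perm.mem_alternatingGroup, map_mul, Perm.sign_swap hab, Perm.sign_swap hcd]; rfl
    let t : ↥(fixSub Tᶜ) := ⟨⟨_, hmem⟩, fun i hi => by
      rw [Finset.mem_compl, he] at hi
      simp only [Finset.mem_insert, Finset.mem_singleton, not_or] at hi
      obtain ⟨h1, h2, h3, h4⟩ := hi
      show swap a b (swap c d i) = i
      rw [swap_apply_of_ne_of_ne h3 h4, swap_apply_of_ne_of_ne h1 h2]⟩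
    have ht : orderOf t = 2 := by
      refine orderOf_eq_prime (p := 2) ?_ ?_
      · refine Subtype.ext (Subtype.ext ?_)
        show (swap a b * swap c d) ^ 2 = 1
        rw [(Perm.Disjoint.commute ?_).mul_pow, pow_two, pow_two, swap_mul_self, swap_mul_self, one_mul]
        intro x
        by_cases h : x = a ∨ x = b
        · rcases h with rfl | rfl
          · exact Or.inr (swap_apply_of_ne_of_ne hac had)
          · exact Or.inr (swap_apply_of_ne_of_ne hbc hbd)
        · push Not at h; exact Or.inl (swap_apply_of_ne_of_ne h.1 h.2)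
      · intro e
        have h1 : swap a b (swap c d a) = a := congrArg (fun σ : ↥(fixSub Tᶜ) => (σ : Perm α) a) e
        rw [swap_apply_of_ne_of_ne hac had, swap_apply_left] at h1
        exact hab h1.symm
    exact even_iff_two_dvd.mpr (ht ▸ orderOf_dvd_natCard t)
  · intro g hg
    rw [hC] at hg ⊢
    by_contra hev
    rw [Nat.not_odd_iff_even, even_iff_two_dvd] at hev
    haveI : Fact (Nat.Prime 2) := ⟨Nat.prime_two⟩
    obtain ⟨⟨s, hs⟩, hs2⟩ := exists_prime_orderOf_dvd_card' 2 hev
    rw [Subgroup.orderOf_mk] at hs2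
    obtain ⟨hs1, w, hw, hws⟩ := hs
    have hsub : (s : Perm α).support ⊆ T ∩ T.image (g : Perm α) := by
      intro i hi
      rw [Perm.mem_support] at hi
      refine Finset.mem_inter.mpr ⟨?_, ?_⟩
      · by_contra h; exact hi (hs1 i (Finset.mem_compl.mpr h))
      · by_contra h
        refine hi ?_
        have hj : (g : Perm α)⁻¹ i ∉ T := fun hj => h (Finset.mem_image.mpr ⟨_, hj, by simp⟩)
        rw [← hws]
        show (g : Perm α) ((w : Perm α) ((g : Perm α)⁻¹ i)) = i
        rw [hw _ (Finset.mem_compl.mpr hj)]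
        simp
    have hlt : (T ∩ T.image (g : Perm α)).card < 4 := by
      rw [← hT]
      refine lt_of_le_of_ne (Finset.card_le_card Finset.inter_subset_left) fun e => hg ?_
      rw [hnorm Tᶜ hcc, himgc]
      have h1 := Finset.inter_eq_left.mp (Finset.eq_of_subset_of_card_le Finset.inter_subset_left e.ge)
      exact (Finset.eq_of_subset_of_card_le h1 (by rw [Finset.card_image_of_injective _ (g : Perm α).injective])).symm
    have hsq : (s : Perm α) ^ 2 = 1 := by
      have h2 := congrArg Subtype.val (pow_orderOf_eq_one s)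
      rw [hs2] at h2
      simpa using h2
    have hs0 : (s : Perm α) ≠ 1 := fun e => by
      rw [show s = 1 from Subtype.ext e, orderOf_one] at hs2; omega
    have hc2 := Perm.two_dvd_card_support hsq
    have hle := Finset.card_le_card hsub
    have hne : (s : Perm α).support.card ≠ 0 := by
      rw [Ne, Finset.card_eq_zero, Perm.support_eq_empty_iff]; exact hs0
    have hswap := Perm.card_support_eq_two.mp (show (s : Perm α).support.card = 2 by omega)
    have hsign := hswap.sign_eq
    rw [Perm.mem_alternatingGroup.mp s.2] at hsign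
    exact absurd hsign (by decide)
  · intro g hne hbot
    rw [Subgroup.commutator_eq_bot_iff_le_centralizer] at hbot
    have hle : (fixSub T).map (MulAut.conj g).toMonoidHom ≤ fixSub Tᶜ := by
      rw [← hC]
      exact Subgroup.le_centralizer_iff.mp hbot
    have hsub : Tᶜ ⊆ T.image (g : Perm α) := by
      intro i hi
      by_contra h
      have hj : (g : Perm α)⁻¹ i ∉ T := fun hj => h (Finset.mem_image.mpr ⟨_, hj, by simp⟩)
      obtain ⟨l, hl, hm⟩ := exists_moves (by omega) hj
      refine hm ?_
      have : (g : Perm α) ((l : Perm α) ((g : Perm α)⁻¹ i)) = i := hle ⟨l, hl, rfl⟩ i hi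
      exact (Perm.eq_inv_iff_eq).mpr this
    have := Finset.card_le_card hsub
    rw [Finset.card_compl, Finset.card_image_of_injective _ (g : Perm α).injective] at this
    omega
  · ext g
    rw [hC, hnorm T (by omega), hnorm Tᶜ hcc, himgc]

end Cfsg.Agent.Grp.AltStd
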