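import Mathlib
import Cfsg.Agent.Lib.Char.Complete
import Cfsg.Agent.Lib.Char.Integral

/-!
A non-abelian group of smallest prime divisor `p` has at most `|G| / p` orbits under its
automorphism group.
-/

set_option autoImplicit false
set_option linter.style.haveILetI false
set_option linter.unusedSectionVars false

namespace Cfsg.Agent.Grp.AutOrb

open scoped commutatorElement
open Subgroup Cfsg

universe u

variable {G : Type u} [Group G] [Finite G]

omit [Finite G] in
theorem card_mul_relIndex' {H K : Subgroup G} (h : H ≤ K) :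
    Nat.card H * H.relIndex K = Nat.card K := by
  rw [← relIndex_bot_left, ← relIndex_bot_left]
  exact relIndex_mul_relIndex _ _ _ bot_le h

/-- The degree equation bounds the number of classes. -/
theorem sq_mul_card_conjClasses_le {p : ℕ}
    (hmin : ∀ d : ℕ, d ∣ Nat.card G → d ≠ 1 → p ≤ d) :
    p ^ 2 * Nat.card (ConjClasses G) + (commutator G).index ≤
      Nat.card G + p ^ 2 * (commutator G).index := by
  classical
  haveI := Fintype.ofFinite (ConjClasses G)
  choose n hn0 hn using fun χ : IrrCharacter G => Char.IsIrr.one_eq_pos χ.2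
  have hsum : ∑ χ, n χ ^ 2 = Nat.card G := by
    have h := Char.sum_degree_sq (G := G)
    simp only [hn] at h
    exact_mod_cast h
  set L : Finset (IrrCharacter G) := {χ | n χ = 1} with hL
  have hLle : L.card ≤ (commutator G).index := by
    haveI : Finite (Abelianization G) := inferInstanceAs (Finite (G ⧸ commutator G))
    haveI : NeZero (Monoid.exponent (Abelianization G)) := ⟨Monoid.exponent_ne_zero_of_finite⟩
    haveI : HasEnoughRootsOfUnity ℂ (Monoid.exponent (Abelianization G)) := inferInstance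
    have hcard : Nat.card (Abelianization G →* ℂˣ) = (commutator G).index :=
      (CommGroup.card_monoidHom_of_hasEnoughRootsOfUnity _ ℂ).trans (commutator G).index_eq_card.symm
    have hl : ∀ χ : L, ∃ l : G →* ℂˣ, (χ.1 : G → ℂ) = fun g => (l g : ℂ) := fun χ =>
      Char.linearHom_of_isCharacter (Char.IsIrr.isCharacter χ.1.2) (by
        rw [hn, (Finset.mem_filter.mp χ.2).2, Nat.cast_one])
    choose l hl using hl
    haveI : Finite (Abelianization G →* ℂˣ) := Nat.finite_of_card_ne_zero (by
      rw [hcard]; exact index_ne_zero_of_finite)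
    rw [← hcard, ← Nat.card_eq_finsetCard]
    refine Nat.card_le_card_of_injective (fun χ : L => Abelianization.lift (l χ)) fun a b e => ?_
    refine Subtype.ext (Subtype.ext ?_)
    rw [hl a, hl b, show l a = l b from Abelianization.lift.injective e]
  have hrest : ∀ χ ∈ Finset.univ \ L, p ^ 2 ≤ n χ ^ 2 := fun χ hχ => by
    have h1 : n χ ≠ 1 := fun e => (Finset.mem_sdiff.mp hχ).2 (Finset.mem_filter.mpr ⟨Finset.mem_univ _, e⟩)
    exact Nat.pow_le_pow_left (hmin _ (Char.IsIrr.degree_dvd_card χ.2 (hn χ)) h1) 2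
  have h1 : L.card + (Finset.univ \ L).card * p ^ 2 ≤ Nat.card G := by
    rw [← hsum, ← Finset.sum_sdiff (Finset.subset_univ L), add_comm]
    refine Nat.add_le_add ?_ ?_
    · simpa using Finset.card_nsmul_le_sum _ _ _ hrest
    · rw [Finset.sum_congr rfl (g := fun _ => (1 : ℕ)) fun χ hχ => by
        rw [(Finset.mem_filter.mp hχ).2, one_pow]]
      simp
  have h2 : L.card + (Finset.univ \ L).card = Nat.card (ConjClasses G) := by
    rw [← Char.card_irrCharacter, Nat.card_eq_fintype_card, add_comm,
      Finset.card_sdiff_add_card_eq_card (Finset.subset_univ L), Finset.card_univ]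
  rw [← h2, mul_add]
  rcases Nat.eq_zero_or_pos (p ^ 2) with h0 | h0
  · rw [h0]; simp only [zero_mul, zero_add, add_zero]
    exact Nat.le_of_dvd Nat.card_pos ⟨_, ((commutator G).index_mul_card).symm⟩
  · have : p ^ 2 * L.card + (commutator G).index ≤ L.card + p ^ 2 * (commutator G).index := by
      nlinarith
    rw [mul_comm (p ^ 2) (Finset.univ \ L).card]
    omega

/-- Classes inside a subset are counted by the subset and the centre. -/
theorem mul_card_classes_le {p : ℕ} (hmin : ∀ d : ℕ, d ∣ Nat.card G → d ≠ 1 → p ≤ d) (hp : 1 ≤ p)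
    (F : Set G) (S : Set (ConjClasses G)) (hS : ∀ c ∈ S, c.carrier ⊆ F) :
    p * Nat.card S ≤ Nat.card F + (p - 1) * Nat.card (center G) := by
  classical
  haveI := Fintype.ofFinite S
  have hsum : Nat.card (Σ c : S, c.1.carrier) ≤ Nat.card F := by
    refine Nat.card_le_card_of_injective (fun x => ⟨x.2.1, hS _ x.1.2 x.2.2⟩) fun x y e => ?_
    obtain ⟨⟨c, hc⟩, a, ha⟩ := x
    obtain ⟨⟨d, hd⟩, b, hb⟩ := y
    obtain rfl : a = b := congrArg Subtype.val e
    obtain rfl : c = d := (ConjClasses.mem_carrier_iff_mk_eq.mp ha).symm.trans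
      (ConjClasses.mem_carrier_iff_mk_eq.mp hb)
    rfl
  rw [Nat.card_sigma] at hsum
  set T : Finset S := {c | Nat.card c.1.carrier = 1} with hT
  have hTle : T.card ≤ Nat.card (center G) := by
    rw [← Nat.card_eq_finsetCard]
    refine Nat.card_le_card_of_injective (fun c : T => ⟨c.1.1.out, mem_center_iff.mpr fun g => ?_⟩)
      fun a b e => ?_
    · obtain ⟨hsub, -⟩ := Nat.card_eq_one_iff_unique.mp (Finset.mem_filter.mp c.2).2
      have h1 : c.1.1.out ∈ c.1.1.carrier := ConjClasses.mem_carrier_iff_mk_eq.mpr (Quotient.out_eq _)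
      have h2 : g * c.1.1.out * g⁻¹ ∈ c.1.1.carrier := by
        rw [ConjClasses.mem_carrier_iff_mk_eq]
        exact (ConjClasses.mk_eq_mk_iff_isConj.mpr (isConj_iff.mpr ⟨g, rfl⟩)).symm.trans
          (Quotient.out_eq _)
      have : g * c.1.1.out * g⁻¹ = c.1.1.out :=
        congrArg Subtype.val (hsub.elim (⟨_, h2⟩ : c.1.1.carrier) ⟨_, h1⟩)
      exact mul_inv_eq_iff_eq_mul.mp this
    · refine Subtype.ext (Subtype.ext ?_)
      exact Quotient.out_inj.mp (congrArg Subtype.val e)
  have key : ∀ c : S, p ≤ Nat.card c.1.carrier + (if c ∈ T then p - 1 else 0) := by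
    intro c
    by_cases hc : c ∈ T
    · rw [if_pos hc, (Finset.mem_filter.mp hc).2]; omega
    · rw [if_neg hc, add_zero]
      refine hmin _ ?_ fun e => hc (Finset.mem_filter.mpr ⟨Finset.mem_univ _, e⟩)
      obtain ⟨g, hg⟩ := ConjClasses.mk_surjective c.1
      have e : Nat.card c.1.carrier = (centralizer ({g} : Set G)).index := by
        rw [← Char.card_conjClass g]
        refine Nat.card_congr (Equiv.subtypeEquivRight fun x => ?_)
        rw [← hg, ConjClasses.mem_carrier_iff_mk_eq, ConjClasses.mk_eq_mk_iff_isConj]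
        exact isConj_comm
      rw [e]
      exact index_dvd_card _
  have h := Finset.sum_le_sum fun c (_ : c ∈ (Finset.univ : Finset S)) => key c
  rw [Finset.sum_add_distrib, Finset.sum_ite_mem, Finset.univ_inter] at h
  simp only [Finset.sum_const, smul_eq_mul, Finset.card_univ, ← Nat.card_eq_fintype_card] at h
  rw [mul_comm p]
  calc Nat.card S * p ≤ _ := h
    _ ≤ Nat.card F + (p - 1) * Nat.card (center G) := by
      rw [mul_comm (p - 1)]
      exact Nat.add_le_add hsum (Nat.mul_le_mul_right _ hTle)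

/-- Orbits of automorphisms, counted through one automorphism moving many classes. -/
theorem two_mul_card_orbits_le (σ : MulAut G) :
    2 * Nat.card (MulAction.orbitRel.Quotient (MulAut G) G) ≤ Nat.card (ConjClasses G) +
      Nat.card {c : ConjClasses G | ConjClasses.map σ.toMonoidHom c = c} := by
  classical
  haveI := Fintype.ofFinite (ConjClasses G)
  haveI := Fintype.ofFinite (MulAction.orbitRel.Quotient (MulAut G) G)
  let q : ConjClasses G → MulAction.orbitRel.Quotient (MulAut G) G :=
    Quotient.lift (fun g => Quotient.mk'' g) fun a b (h : IsConj a b) => by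
      obtain ⟨g, rfl⟩ := isConj_iff.mp h
      exact (Quotient.sound' (MulAction.orbitRel_apply.mpr ⟨MulAut.conj g, by simp⟩)).symm
  set Fx : Finset (ConjClasses G) := {c | ConjClasses.map σ.toMonoidHom c = c} with hFx
  have hq : ∀ c, q (ConjClasses.map σ.toMonoidHom c) = q c := by
    intro c
    induction c using Quotient.inductionOn with
    | h g => exact Quotient.sound' (MulAction.orbitRel_apply.mpr ⟨σ, rfl⟩)
  have key : ∀ o, 2 ≤ ({c | q c = o} : Finset (ConjClasses G)).card +
      (Fx.filter fun c => q c = o).card := by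
    intro o
    obtain ⟨g, rfl⟩ := Quotient.mk''_surjective o
    have hg : q (ConjClasses.mk g) = Quotient.mk'' g := rfl
    by_cases hfix : ConjClasses.map σ.toMonoidHom (ConjClasses.mk g) = ConjClasses.mk g
    · have h1 : 0 < ({c | q c = Quotient.mk'' g} : Finset (ConjClasses G)).card :=
        Finset.card_pos.mpr ⟨_, Finset.mem_filter.mpr ⟨Finset.mem_univ _, hg⟩⟩
      have h2 : 0 < (Fx.filter fun c => q c = Quotient.mk'' g).card :=
        Finset.card_pos.mpr ⟨_, Finset.mem_filter.mpr
          ⟨Finset.mem_filter.mpr ⟨Finset.mem_univ _, hfix⟩, hg⟩⟩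
      omega
    · have h1 : 1 < ({c | q c = Quotient.mk'' g} : Finset (ConjClasses G)).card :=
        Finset.one_lt_card.mpr ⟨_, Finset.mem_filter.mpr ⟨Finset.mem_univ _, hg⟩,
          _, Finset.mem_filter.mpr ⟨Finset.mem_univ _, (hq _).trans hg⟩, Ne.symm hfix⟩
      omega
  have h := Finset.sum_le_sum fun o (_ : o ∈ (Finset.univ : Finset _)) => key o
  rw [Finset.sum_add_distrib, Finset.sum_const, smul_eq_mul, Finset.card_univ,
    ← Finset.card_eq_sum_card_fiberwise (fun c _ => Finset.mem_univ (q c)),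
    ← Finset.card_eq_sum_card_fiberwise (fun c _ => Finset.mem_univ (q c)), Finset.card_univ] at h
  rw [Nat.card_eq_fintype_card, Nat.card_eq_fintype_card (α := ConjClasses G), Nat.card_coe_set_eq,
    ← Set.ncard_coe_finset Fx] at *
  rw [mul_comm]
  refine h.trans (le_of_eq ?_)
  congr 2
  ext c
  rw [Finset.mem_coe, hFx, Finset.mem_filter]
  simp

/-- The transvection twisting `a` by `b`. -/
theorem exists_transvection {p : ℕ} [hp : Fact p.Prime] (F : Subgroup G) [F.Normal]
    (hF : F.index = p) {a b : G} (ha : a ∉ F) (hb : b ∈ F)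
    (hbF : ∀ h ∈ F, Commute b h) (hpow : (a * b) ^ p = a ^ p)
    (hbp : b ^ p ∈ commutator G) (hbG : b ∉ commutator G) :
    ∃ σ : MulAut G, ∀ x, σ x * x⁻¹ ∈ commutator G → x ∈ F := by
  classical
  haveI hcyc : Fact (Nat.card (G ⧸ F)).Prime := ⟨by rw [← index, hF]; exact hp.out⟩
  set f := QuotientGroup.mk' F
  have hfa : f a ≠ 1 := fun e => ha ((QuotientGroup.eq_one_iff a).mp e)
  have hord : orderOf (f a) = p := orderOf_eq_prime (by rw [← hF, index, pow_card_eq_one']) hfa
  have hmem : ∀ i : ℤ, a ^ i ∈ F ↔ (p : ℤ) ∣ i := fun i => by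
    rw [← QuotientGroup.eq_one_iff, ← hord, orderOf_dvd_iff_zpow_eq_one]
    show f (a ^ i) = 1 ↔ _
    rw [map_zpow]
  have hex : ∀ x : G, ∃ i : ℤ, x * (a ^ i)⁻¹ ∈ F := fun x => by
    haveI : IsCyclic (G ⧸ F) := isCyclic_of_prime_card (p := Nat.card (G ⧸ F)) rfl
    have hz : zpowers (f a) = ⊤ := by
      apply eq_top_of_card_eq
      rw [Nat.card_zpowers, hord, ← hF, index]
    obtain ⟨i, hi⟩ := mem_zpowers_iff.mp (hz ▸ mem_top (f x) : f x ∈ zpowers (f a))
    refine ⟨i, (QuotientGroup.eq_one_iff _).mp ?_⟩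
    show f (x * (a ^ i)⁻¹) = 1
    rw [map_mul, map_inv, map_zpow, hi, mul_inv_cancel]
  choose ix hix using hex
  let s : G → G := fun x => x * (a ^ ix x)⁻¹ * (a * b) ^ ix x
  have hs : ∀ (x : G) (i : ℤ), x * (a ^ i)⁻¹ ∈ F → s x = x * (a ^ i)⁻¹ * (a * b) ^ i := by
    intro x i hi
    obtain ⟨j, hj⟩ : (p : ℤ) ∣ i - ix x := by
      rw [← hmem]
      have := mul_mem (inv_mem hi) (hix x)
      have e : (x * (a ^ i)⁻¹)⁻¹ * (x * (a ^ ix x)⁻¹) = a ^ (i - ix x) := by
        rw [zpow_sub]; group
      rwa [e] at this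
    have e1 : i = ix x + p * j := by omega
    show x * (a ^ ix x)⁻¹ * (a * b) ^ ix x = _
    rw [e1, zpow_add, zpow_add, zpow_mul (a * b) (p : ℤ), zpow_natCast (a * b) p, hpow,
      ← zpow_natCast a p, ← zpow_mul, mul_inv_rev]
    have hc : Commute ((a ^ ((p : ℤ) * j))) ((a * b) ^ ix x) := by
      rw [zpow_mul, zpow_natCast, ← hpow, ← zpow_natCast, ← zpow_mul]
      exact Commute.zpow_zpow_self _ _ _
    rw [← hc.eq]
    group
  have hconj : ∀ (i : ℤ), ∀ h ∈ F, (a * b) ^ i * h * ((a * b) ^ i)⁻¹ = a ^ i * h * (a ^ i)⁻¹ := by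
    have hFn : ∀ (g : G), ∀ h ∈ F, g * h * g⁻¹ ∈ F := fun g h hh =>
      (inferInstance : F.Normal).conj_mem h hh g
    have h1 : ∀ h ∈ F, a * b * h * (a * b)⁻¹ = a * h * a⁻¹ := fun h hh => by
      rw [mul_assoc a b h, (hbF h hh).eq]; group
    have h2 : ∀ h ∈ F, (a * b)⁻¹ * h * (a * b) = a⁻¹ * h * a := fun h hh => by
      have := h1 _ (hFn a⁻¹ h hh)
      rw [inv_inv] at this
      calc (a * b)⁻¹ * h * (a * b)
          = (a * b)⁻¹ * (a * (a⁻¹ * h * a) * a⁻¹) * (a * b) := by group
        _ = (a * b)⁻¹ * (a * b * (a⁻¹ * h * a) * (a * b)⁻¹) * (a * b) := by rw [this]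
        _ = a⁻¹ * h * a := by group
    intro i
    induction i using Int.induction_on with
    | zero => simp
    | succ n ih =>
      intro h hh
      have e : ∀ u : G, u ^ ((n : ℤ) + 1) = u * u ^ (n : ℤ) := fun u => by
        rw [add_comm, zpow_add, zpow_one]
      rw [e, e]
      calc a * b * (a * b) ^ (n : ℤ) * h * (a * b * (a * b) ^ (n : ℤ))⁻¹
          = a * b * ((a * b) ^ (n : ℤ) * h * ((a * b) ^ (n : ℤ))⁻¹) * (a * b)⁻¹ := by
            rw [mul_inv_rev]; simp only [mul_assoc]
        _ = a * (a ^ (n : ℤ) * h * (a ^ (n : ℤ))⁻¹) * a⁻¹ := by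
            rw [ih h hh, h1 _ (hFn _ h hh)]
        _ = _ := by rw [mul_inv_rev]; simp only [mul_assoc]
    | pred n ih =>
      intro h hh
      have e : ∀ u : G, u ^ (-(n : ℤ) - 1) = u⁻¹ * u ^ (-(n : ℤ)) := fun u => by
        rw [sub_eq_add_neg, add_comm, zpow_add, zpow_neg_one]
      rw [e, e]
      calc (a * b)⁻¹ * (a * b) ^ (-(n : ℤ)) * h * ((a * b)⁻¹ * (a * b) ^ (-(n : ℤ)))⁻¹
          = (a * b)⁻¹ * ((a * b) ^ (-(n : ℤ)) * h * ((a * b) ^ (-(n : ℤ)))⁻¹) * (a * b) := by
            simp only [mul_assoc, mul_inv_rev, inv_inv]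
        _ = a⁻¹ * (a ^ (-(n : ℤ)) * h * (a ^ (-(n : ℤ)))⁻¹) * a := by
            rw [ih h hh, h2 _ (hFn _ h hh)]
        _ = _ := by simp only [mul_assoc, mul_inv_rev, inv_inv]
  have hmul : ∀ x y, s (x * y) = s x * s y := by
    intro x y
    set i := ix x
    set j := ix y
    set h := x * (a ^ i)⁻¹ with hh
    set k := y * (a ^ j)⁻¹ with hk
    have hxy : x * y * (a ^ (i + j))⁻¹ = h * (a ^ i * k * (a ^ i)⁻¹) := by
      rw [hh, hk, zpow_add]; group
    have hin : x * y * (a ^ (i + j))⁻¹ ∈ F := by
      rw [hxy]; exact mul_mem (hix x) ((inferInstance : F.Normal).conj_mem k (hix y) _)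
    rw [hs _ (i + j) hin, hxy, ← hconj i k (hix y), hs x i (hix x), hs y j (hix y), ← hh, ← hk,
      zpow_add]
    group
  let σ₀ : G →* G := MonoidHom.mk' s hmul
  have hab : a * b ∉ F := fun hh => ha (by simpa using mul_mem hh (inv_mem hb))
  have hinj : Function.Injective σ₀ := by
    rw [injective_iff_map_eq_one]
    intro x hx
    have hx' : x * (a ^ ix x)⁻¹ * (a * b) ^ ix x = 1 := hx
    have hmemab : (a * b) ^ ix x ∈ F := by
      have := inv_mem (hix x)
      rwa [eq_inv_of_mul_eq_one_right hx']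
    have hd : (p : ℤ) ∣ ix x := by
      have hfab : orderOf (f (a * b)) = p := orderOf_eq_prime (by rw [← hF, index, pow_card_eq_one'])
        fun e => hab ((QuotientGroup.eq_one_iff _).mp e)
      rw [← hfab, orderOf_dvd_iff_zpow_eq_one, ← map_zpow]
      exact (QuotientGroup.eq_one_iff _).mpr hmemab
    obtain ⟨j, hj⟩ := hd
    rw [hj, zpow_mul (a * b), zpow_natCast, hpow, ← zpow_natCast, ← zpow_mul,
      inv_mul_cancel_right] at hx'
    exact hx'
  refine ⟨MulEquiv.ofBijective σ₀ ⟨hinj, Finite.injective_iff_surjective.mp hinj⟩, fun x hx => ?_⟩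
  by_contra hxF
  have hi : ¬ (p : ℤ) ∣ ix x := fun hd => hxF (by
    have := mul_mem (hix x) ((hmem _).mpr hd)
    simpa using this)
  set g := QuotientGroup.mk' (commutator G)
  have hx' : g (s x * x⁻¹) = 1 := (QuotientGroup.eq_one_iff _).mpr hx
  have hcomm : ∀ u v : G ⧸ commutator G, u * v = v * u := by
    intro u v
    obtain ⟨u, rfl⟩ := QuotientGroup.mk'_surjective _ u
    obtain ⟨v, rfl⟩ := QuotientGroup.mk'_surjective _ v
    rw [← commutatorElement_eq_one_iff_mul_comm, ← map_commutatorElement]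
    exact (QuotientGroup.eq_one_iff _).mpr (commutator_mem_commutator (mem_top u) (mem_top v))
  have e : g (s x * x⁻¹) = g b ^ ix x := by
    show g (x * (a ^ ix x)⁻¹ * (a * b) ^ ix x * x⁻¹) = _
    simp only [map_mul, map_inv, map_zpow]
    rw [Commute.mul_zpow (hcomm _ _), hcomm (g x * (g a ^ ix x)⁻¹ * _) (g x)⁻¹]
    group
  rw [e, ← orderOf_dvd_iff_zpow_eq_one] at hx'
  refine hi ((Int.natCast_dvd.mpr ?_ : (p : ℤ) ∣ _))
  have h1 : orderOf (g b) = p := orderOf_eq_prime
    (by rw [← map_pow]; exact (QuotientGroup.eq_one_iff _).mpr hbp)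
    fun e => hbG ((QuotientGroup.eq_one_iff b).mp e)
  rw [h1] at hx'
  exact Int.natCast_dvd.mp hx'

omit [Finite G] in
theorem mul_pow_of_comm {x y c : G} (hc : y * x = x * y * c) (hcen : ∀ g, Commute c g) (n : ℕ) :
    (x * y) ^ n = x ^ n * y ^ n * c ^ n.choose 2 := by
  have hyn : ∀ n : ℕ, y ^ n * x = x * y ^ n * c ^ n := by
    intro n
    induction n with
    | zero => simp
    | succ n ih =>
      calc y ^ (n + 1) * x = y * (y ^ n * x) := by rw [pow_succ', mul_assoc]
        _ = y * x * y ^ n * c ^ n := by rw [ih]; group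
        _ = x * y * (c * y ^ n) * c ^ n := by rw [hc]; group
        _ = x * y * (y ^ n * c) * c ^ n := by rw [((hcen y).pow_right n).eq]
        _ = x * y ^ (n + 1) * c ^ (n + 1) := by rw [pow_succ', pow_succ']; group
  induction n with
  | zero => simp
  | succ n ih =>
    calc (x * y) ^ (n + 1) = x ^ n * y ^ n * (c ^ n.choose 2 * (x * y)) := by
          rw [pow_succ, ih, mul_assoc (x ^ n * y ^ n)]
      _ = x ^ n * y ^ n * (x * y * c ^ n.choose 2) := by rw [((hcen (x * y)).pow_left _).eq]
      _ = x ^ n * (y ^ n * x) * y * c ^ n.choose 2 := by group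
      _ = x ^ n * x * y ^ n * (c ^ n * y) * c ^ n.choose 2 := by rw [hyn]; group
      _ = x ^ n * x * y ^ n * (y * c ^ n) * c ^ n.choose 2 := by rw [((hcen y).pow_left n).eq]
      _ = x ^ (n + 1) * y ^ (n + 1) * c ^ (n + 1).choose 2 := by
          rw [show (n + 1).choose 2 = n + n.choose 2 by rw [Nat.choose_succ_succ, Nat.choose_one_right],
            pow_succ, pow_succ, pow_add]
          group

/-- An automorphism moving every class outside a maximal subgroup over the centre. -/
theorem exists_moving {p : ℕ} [hp : Fact p.Prime] (hc : Nat.card (commutator G) = p)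
    (hcen : commutator G ≤ center G) :
    ∃ (F : Subgroup G) (σ : MulAut G), F.index = p ∧ center G ≤ F ∧
      ∀ x, σ x * x⁻¹ ∈ commutator G → x ∈ F := by
  classical
  have hna : ∃ x y : G, ⁅x, y⁆ ≠ 1 := by
    by_contra hh
    push Not at hh
    have : commutator G = ⊥ := by
      rw [_root_.commutator_def, eq_bot_iff, commutator_le]
      exact fun x _ y _ => mem_bot.mpr (hh x y)
    rw [this, card_bot] at hc
    exact hp.out.ne_one hc.symm
  have hcm : ∀ x y : G, ⁅x, y⁆ ∈ commutator G := fun x y =>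
    commutator_mem_commutator (mem_top x) (mem_top y)
  have hcc : ∀ x y g : G, Commute ⁅x, y⁆ g := fun x y g =>
    (mem_center_iff.mp (hcen (hcm x y)) g).symm
  have hcpow : ∀ c ∈ commutator G, c ^ p = 1 := fun c hc' => by
    rw [← hc]; exact congrArg Subtype.val (pow_card_eq_one' (x := (⟨c, hc'⟩ : commutator G)))
  have hxp : ∀ x : G, x ^ p ∈ center G := fun x => mem_center_iff.mpr fun g => by
    have : ⁅g, x ^ p⁆ = 1 := by
      have e : ∀ n : ℕ, ⁅g, x ^ n⁆ = ⁅g, x⁆ ^ n := by
        intro n
        induction n with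
        | zero => simp [commutatorElement_def]
        | succ n ih =>
          calc ⁅g, x ^ (n + 1)⁆ = ⁅g, x⁆ * (x * ⁅g, x ^ n⁆ * x⁻¹) := by
                rw [pow_succ']; simp only [commutatorElement_def]; group
            _ = ⁅g, x⁆ * ⁅g, x⁆ ^ n := by
                rw [ih, ← ((hcc g x x).pow_left n).eq, mul_inv_cancel_right]
            _ = _ := (pow_succ' _ _).symm
      rw [e, hcpow _ (hcm g x)]
    exact commutatorElement_eq_one_iff_mul_comm.mp this
  have normal_of : ∀ F : Subgroup G, center G ≤ F → F.Normal := fun F hF => ⟨fun n hn g => by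
    have : g * n * g⁻¹ = ⁅g, n⁆ * n := by rw [commutatorElement_def]; group
    rw [this]
    exact mul_mem (hF (hcen (hcm g n))) hn⟩
  by_cases hb : ∃ b ∈ center G, b ^ p = 1 ∧ b ∉ commutator G
  · obtain ⟨b, hbZ, hbp, hbG⟩ := hb
    obtain ⟨F, hF, hZF⟩ : ∃ F : Subgroup G, F.index = p ∧ center G ≤ F := by
      have hQ : IsPGroup p (G ⧸ center G) := fun q => by
        obtain ⟨x, rfl⟩ := QuotientGroup.mk'_surjective _ q
        exact ⟨1, by rw [pow_one, ← map_pow]; exact (QuotientGroup.eq_one_iff _).mpr (hxp x)⟩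
      obtain ⟨m, hm⟩ := IsPGroup.iff_card.mp hQ
      have hm0 : m ≠ 0 := fun e => by
        rw [e, pow_zero, ← index, index_eq_one] at hm
        obtain ⟨x, y, hxy⟩ := hna
        exact hxy (commutatorElement_eq_one_iff_mul_comm.mpr
          (mem_center_iff.mp (hm.symm ▸ mem_top y : y ∈ center G) x))
      obtain ⟨K, hK⟩ := Sylow.exists_subgroup_card_pow_prime p (G := G ⧸ center G) (n := m - 1)
        (by rw [hm]; exact pow_dvd_pow p (Nat.sub_le m 1))
      refine ⟨K.comap (QuotientGroup.mk' (center G)), ?_, fun z hz => ?_⟩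
      · rw [index_comap_of_surjective _ (QuotientGroup.mk'_surjective _)]
        have := K.card_mul_index
        rw [hK, hm, show p ^ m = p ^ (m - 1) * p by rw [← pow_succ]; congr 1; omega] at this
        exact Nat.eq_of_mul_eq_mul_left (pow_pos hp.out.pos _) this
      · rw [mem_comap, show QuotientGroup.mk' (center G) z = 1 from (QuotientGroup.eq_one_iff z).mpr hz]
        exact one_mem _
    haveI := normal_of F hZF
    obtain ⟨a, -, ha⟩ := SetLike.exists_of_lt (lt_top_iff_ne_top.mpr fun e => hp.out.ne_one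
      (by rw [← hF, e, index_top]) : F < ⊤)
    have hcb : ∀ g, Commute b g := fun g => (mem_center_iff.mp hbZ g).symm
    obtain ⟨σ, hσ⟩ := exists_transvection F hF ha (hZF hbZ) (fun g _ => hcb g)
      (by rw [(hcb a).symm.mul_pow, hbp, mul_one]) (by rw [hbp]; exact one_mem _) hbG
    exact ⟨F, σ, hF, hZF, hσ⟩
  push Not at hb
  -- the powers of central elements
  let P : Subgroup G :=
    { carrier := {z | ∃ w ∈ center G, w ^ p = z}
      one_mem' := ⟨1, one_mem _, one_pow p⟩
      mul_mem' := fun {a b} ⟨u, hu, eu⟩ ⟨v, hv, ev⟩ => ⟨u * v, mul_mem hu hv, by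
        rw [(show Commute u v from (mem_center_iff.mp hu v).symm).mul_pow, eu, ev]⟩
      inv_mem' := fun {a} ⟨u, hu, eu⟩ => ⟨u⁻¹, inv_mem hu, by rw [inv_pow, eu]⟩ }
  have hPZ : P ≤ center G := fun z ⟨w, hw, e⟩ => e ▸ pow_mem hw p
  have hPidx : P.relIndex (center G) ≤ p := by
    let φ : center G →* G :=
      { toFun := fun z => (z : G) ^ p
        map_one' := by simp
        map_mul' := fun u v => (show Commute (u : G) v from (mem_center_iff.mp u.2 v).symm).mul_pow p }
    have hr : φ.range = P := by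
      ext z
      constructor
      · rintro ⟨w, rfl⟩; exact ⟨w, w.2, rfl⟩
      · rintro ⟨w, hw, e⟩; exact ⟨⟨w, hw⟩, e⟩
    have hk : Nat.card φ.ker ≤ p := by
      rw [← hc]
      exact Nat.card_le_card_of_injective (fun z => (⟨z.1, hb _ z.1.2 z.2⟩ : commutator G))
        fun u v e => by
          obtain ⟨⟨u, hu⟩, hu'⟩ := u
          obtain ⟨⟨v, hv⟩, hv'⟩ := v
          obtain rfl : u = v := congrArg Subtype.val e
          rfl
    have h1 := (center G).subgroupOfEquivOfLe le_rfl
    have h2 : Nat.card φ.ker * Nat.card P = Nat.card (center G) := by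
      rw [← hr, ← index_ker φ, card_mul_index]
    have h3 : Nat.card P * P.relIndex (center G) = Nat.card (center G) :=
      card_mul_relIndex' hPZ
    rw [← h3, mul_comm] at h2
    exact (Nat.eq_of_mul_eq_mul_left Nat.card_pos h2) ▸ hk
  suffices ∃ b, b ∉ center G ∧ ∀ a : G, b ^ p * ⁅b, a⁆ ^ p.choose 2 = 1 ∨ Commute b a by
    obtain ⟨b, hbZ, hbpow⟩ := this
    set F := centralizer ({b} : Set G) with hFdef
    have hZF : center G ≤ F := fun z hz =>
      mem_centralizer_singleton_iff.mpr (mem_center_iff.mp hz b).symm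
    have hF : F.index = p := by
      let φ : G →* commutator G := MonoidHom.mk' (fun g => ⟨⁅g, b⁆, hcm g b⟩) fun g g' => Subtype.ext (by
        show ⁅g * g', b⁆ = ⁅g, b⁆ * ⁅g', b⁆
        calc ⁅g * g', b⁆ = g * ⁅g', b⁆ * g⁻¹ * ⁅g, b⁆ := by simp only [commutatorElement_def]; group
          _ = ⁅g', b⁆ * ⁅g, b⁆ := by rw [← (hcc g' b g).eq, mul_inv_cancel_right]
          _ = _ := (hcc g' b _).eq)
      have hk : φ.ker = F := by
        ext g
        rw [MonoidHom.mem_ker, hFdef, mem_centralizer_singleton_iff, ← commutatorElement_eq_one_iff_mul_comm]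
        exact ⟨fun e => congrArg Subtype.val e, fun e => Subtype.ext e⟩
      have hdvd : F.index ∣ p := by rw [← hk, index_ker, ← hc]; exact card_subgroup_dvd_card _
      refine ((Nat.dvd_prime hp.out).mp hdvd).resolve_left fun e => hbZ (mem_center_iff.mpr fun g => ?_)
      exact mem_centralizer_singleton_iff.mp (show g ∈ F by rw [index_eq_one.mp e]; exact mem_top g)
    haveI := normal_of F hZF
    obtain ⟨a, -, ha⟩ := SetLike.exists_of_lt (lt_top_iff_ne_top.mpr fun e => hp.out.ne_one
      (by rw [← hF, e, index_top]) : F < ⊤)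
    have hnc : ¬ Commute b a := fun e => ha (mem_centralizer_singleton_iff.mpr e.symm.eq)
    obtain ⟨σ, hσ⟩ := exists_transvection F hF ha
      (mem_centralizer_singleton_iff.mpr rfl) (fun g hg => ((mem_centralizer_singleton_iff.mp hg) :
        g * b = b * g).symm) (by
        rw [mul_pow_of_comm (c := ⁅b, a⁆) ?_ (hcc b a) p, mul_assoc, (hbpow a).resolve_right hnc,
          mul_one]
        rw [← ((hcc b a) (a * b)).eq, commutatorElement_def]; group)
      (by
        rcases (hbpow a).resolve_right hnc with e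
        rw [eq_inv_of_mul_eq_one_left e]
        exact inv_mem (pow_mem (hcm b a) _))
      (fun hh => hbZ (hcen hh))
    exact ⟨F, σ, hF, hZF, hσ⟩
  haveI hPn : P.Normal := ⟨fun n hn g => by
    rw [mem_center_iff.mp (hPZ hn) g, mul_inv_cancel_right]; exact hn⟩
  set g := QuotientGroup.mk' P
  -- a kernel of the power map
  have kernel : (∀ x y : G, g ((x * y) ^ p) = g (x ^ p) * g (y ^ p)) →
      ∃ b, b ∉ center G ∧ b ^ p ∈ P := by
    intro hhom
    let φ : G →* G ⧸ P := MonoidHom.mk' (fun x => g (x ^ p)) hhom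
    have hr : Nat.card φ.range ≤ p := by
      refine le_trans ?_ hPidx
      have h1 : Nat.card ((center G).map g : Subgroup (G ⧸ P)) = P.relIndex (center G) := by
        rw [← relIndex_bot_left, ← Subgroup.map_bot g, relIndex_map_map, QuotientGroup.ker_mk',
          bot_sup_eq, sup_eq_left.mpr hPZ]
      rw [← h1]
      refine card_le_of_le fun q ⟨x, e⟩ => e ▸ ⟨x ^ p, hxp x, rfl⟩
    by_contra hh
    push Not at hh
    have hker : φ.ker ≤ center G := fun x hx => by
      by_contra hxZ
      exact hh x hxZ ((QuotientGroup.eq_one_iff _).mp hx)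
    have h1 : (center G).index ≤ p := by
      refine le_trans (Nat.le_of_dvd (Nat.pos_of_ne_zero index_ne_zero_of_finite) (index_dvd_of_le hker)) ?_
      rw [index_ker]; exact hr
    obtain ⟨x, y, hxy⟩ := hna
    refine hxy ?_
    haveI : IsCyclic (G ⧸ center G) := by
      by_cases h0 : (center G).index = 1
      · haveI : Subsingleton (G ⧸ center G) := (Nat.card_eq_one_iff_unique.mp h0).1
        exact isCyclic_of_subsingleton
      · obtain ⟨r, hr', hrd⟩ := Nat.exists_prime_and_dvd h0
        have hdvd : r ∣ p := by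
          have hQ : IsPGroup p (G ⧸ center G) := fun q => by
            obtain ⟨x, rfl⟩ := QuotientGroup.mk'_surjective _ q
            exact ⟨1, by rw [pow_one, ← map_pow]; exact (QuotientGroup.eq_one_iff _).mpr (hxp x)⟩
          obtain ⟨m, hm⟩ := IsPGroup.iff_card.mp hQ
          exact hr'.dvd_of_dvd_pow (show r ∣ p ^ m by rw [← hm, ← index]; exact hrd)
        have : (center G).index = p := by
          rw [(Nat.prime_dvd_prime_iff_eq hr' hp.out).mp hdvd] at hrd
          exact le_antisymm h1 (Nat.le_of_dvd (Nat.pos_of_ne_zero index_ne_zero_of_finite) hrd)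
        haveI : Fact (Nat.card (G ⧸ center G)).Prime := ⟨by rw [← index, this]; exact hp.out⟩
        exact isCyclic_of_prime_card (p := Nat.card (G ⧸ center G)) rfl
    exact commutatorElement_eq_one_iff_mul_comm.mpr
      ((commutative_of_cyclic_center_quotient (QuotientGroup.mk' (center G))
        (by rw [QuotientGroup.ker_mk']) x y))
  have hsplit : ∀ x y : G, (x * y) ^ p = x ^ p * y ^ p * ⁅y, x⁆ ^ p.choose 2 := fun x y =>
    mul_pow_of_comm (by rw [← ((hcc y x) (x * y)).eq, commutatorElement_def]; group) (hcc y x) p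
  have hgmul : ∀ x y : G, g (x * y) = g x * g y := map_mul g
  rcases hp.out.eq_two_or_odd' with h2 | hodd
  · subst h2
    by_cases hcP : commutator G ≤ P
    · obtain ⟨b, hbZ, w, hw, hwe⟩ := kernel fun x y => by
        rw [hsplit, map_mul, map_mul, show g (⁅y, x⁆ ^ Nat.choose 2 2) = 1 from
          (QuotientGroup.eq_one_iff _).mpr (pow_mem (hcP (hcm y x)) _), mul_one]
      obtain ⟨x, y, hxy⟩ := hna
      obtain ⟨u, hu, hue⟩ := hcP (hcm x y)
      refine ⟨b * (w⁻¹ * u), fun e => hbZ
        ((Subgroup.mul_mem_cancel_right _ (mul_mem (inv_mem hw) hu)).mp e), fun a => ?_⟩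
      by_cases hba : Commute (b * (w⁻¹ * u)) a
      · exact Or.inr hba
      refine Or.inl ?_
      have e1 : (b * (w⁻¹ * u)) ^ 2 = ⁅x, y⁆ := by
        rw [(show Commute b (w⁻¹ * u) from mem_center_iff.mp (mul_mem (inv_mem hw) hu) b).mul_pow,
          (show Commute w⁻¹ u from mem_center_iff.mp hu w⁻¹).mul_pow, hue, ← hwe, inv_pow,
          mul_inv_cancel_left]
      rw [Nat.choose_self, pow_one, e1]
      obtain ⟨s, hs, hs'⟩ := Nat.card_eq_two_iff' (1 : commutator G) |>.mp hc
      have u1 := hs' ⟨⁅x, y⁆, hcm x y⟩ fun e => hxy (congrArg Subtype.val e)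
      have u2 := hs' ⟨⁅b * (w⁻¹ * u), a⁆, hcm _ a⟩ fun e => hba
        (commutatorElement_eq_one_iff_commute.mp (congrArg Subtype.val e))
      rw [show ⁅b * (w⁻¹ * u), a⁆ = ⁅x, y⁆ from congrArg Subtype.val (u2.trans u1.symm), ← sq]
      exact hcpow _ (hcm x y)
    · obtain ⟨x, y, hxy⟩ := hna
      obtain ⟨s, hs, hs'⟩ := Nat.card_eq_two_iff' (1 : commutator G) |>.mp hc
      have hall : ∀ c ∈ commutator G, c ≠ 1 → c = ⁅x, y⁆ := fun c hc' h1 =>
        congrArg Subtype.val ((hs' ⟨c, hc'⟩ fun e => h1 (congrArg Subtype.val e)).trans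
          (hs' ⟨⁅x, y⁆, hcm x y⟩ fun e => hxy (congrArg Subtype.val e)).symm)
      have hcnot : ⁅x, y⁆ ∉ P := fun hh => hcP fun c hc' => by
        by_cases h1 : c = 1
        · rw [h1]; exact one_mem _
        · rw [hall c hc' h1]; exact hh
      obtain ⟨v, hvZ, hvP⟩ : ∃ v, v ∉ center G ∧ v ^ 2 ∉ P := by
        by_contra hh
        push Not at hh
        have hxZ : x ∉ center G := fun e => hxy (commutatorElement_eq_one_iff_mul_comm.mpr
          (mem_center_iff.mp e y).symm)
        have hyZ : y ∉ center G := fun e => hxy (commutatorElement_eq_one_iff_mul_comm.mpr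
          (mem_center_iff.mp e x))
        have hne : ⁅y, x⁆ ≠ 1 := fun e => hxy (by rw [← commutatorElement_inv, e, inv_one])
        have hxyZ : x * y ∉ center G := fun e => hne (commutatorElement_eq_one_iff_mul_comm.mpr (by
          have := mem_center_iff.mp e x
          rw [← mul_assoc, mul_assoc x y x] at this
          exact (mul_left_cancel (a := x) (by rw [← mul_assoc]; exact this.symm ▸ rfl)).symm))
        have h3 := hsplit x y
        rw [Nat.choose_self, pow_one] at h3
        refine hcnot ?_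
        rw [← hall _ (hcm y x) hne]
        have := mul_mem (inv_mem (mul_mem (hh x hxZ) (hh y hyZ))) (hh _ hxyZ)
        rwa [h3, inv_mul_cancel_left] at this
      -- `v ^ 2` and the commutator agree modulo the squares of the centre
      obtain ⟨w, hw, hwe⟩ : (v ^ 2)⁻¹ * ⁅x, y⁆ ∈ P := by
        by_contra hh
        have h1 : Nat.card ((center G).map g : Subgroup (G ⧸ P)) ≤ 2 := by
          rw [← relIndex_bot_left, ← Subgroup.map_bot g, relIndex_map_map, QuotientGroup.ker_mk',
            bot_sup_eq, sup_eq_left.mpr hPZ]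
          exact hPidx
        have m1 : g (v ^ 2) ∈ (center G).map g := mem_map_of_mem g (hxp v)
        have m2 : g ⁅x, y⁆ ∈ (center G).map g := mem_map_of_mem g (hcen (hcm x y))
        haveI := Fintype.ofFinite ((center G).map g : Subgroup (G ⧸ P))
        have h3 : (3 : ℕ) ≤ Nat.card ((center G).map g : Subgroup (G ⧸ P)) := by
          rw [Nat.card_eq_fintype_card, ← Finset.card_univ]
          refine Finset.two_lt_card.mpr ⟨1, Finset.mem_univ _, ⟨_, m1⟩, Finset.mem_univ _, ⟨_, m2⟩,
            Finset.mem_univ _, ?_, ?_, ?_⟩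
          · exact fun e => hvP ((QuotientGroup.eq_one_iff _).mp (congrArg Subtype.val e).symm)
          · exact fun e => hcnot ((QuotientGroup.eq_one_iff _).mp (congrArg Subtype.val e).symm)
          · exact fun e => hh ((QuotientGroup.eq_one_iff _).mp (by
              show g ((v ^ 2)⁻¹ * ⁅x, y⁆) = 1
              have e' : g (v ^ 2) = g ⁅x, y⁆ := congrArg Subtype.val e
              rw [map_mul, map_inv, e', inv_mul_cancel]))
        omega
      refine ⟨v * w, fun e => hvZ ((Subgroup.mul_mem_cancel_right _ hw).mp e), fun a => ?_⟩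
      by_cases hba : Commute (v * w) a
      · exact Or.inr hba
      refine Or.inl ?_
      rw [Nat.choose_self, pow_one, (show Commute v w from mem_center_iff.mp hw v).mul_pow, hwe,
        mul_inv_cancel_left,
        hall _ (hcm _ a) (fun e => hba (commutatorElement_eq_one_iff_commute.mp e)), ← sq]
      exact hcpow _ (hcm x y)
  · have hch : ∀ c ∈ commutator G, c ^ p.choose 2 = 1 := fun c hc' => by
      obtain ⟨k, hk⟩ := hp.out.dvd_choose_self (k := 2) two_ne_zero
        (lt_of_le_of_ne hp.out.two_le fun e => by rw [← e] at hodd; exact absurd hodd (by decide))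
      rw [hk, pow_mul, hcpow c hc', one_pow]
    obtain ⟨b, hbZ, w, hw, hwe⟩ := kernel fun x y => by
      rw [hsplit, hch _ (hcm y x), mul_one, map_mul]
    refine ⟨b * w⁻¹, fun e => hbZ (by simpa using mul_mem e hw), fun a => Or.inl ?_⟩
    rw [(show Commute b w⁻¹ from mem_center_iff.mp (inv_mem hw) b).mul_pow, inv_pow, hwe,
      mul_inv_cancel, one_mul, hch _ (hcm _ a)]

theorem main (hna : ¬ IsMulCommutative G) :
    Nat.card (MulAction.orbitRel.Quotient (MulAut G) G) ≤ Nat.card G / (Nat.card G).minFac := by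
  classical
  set p := (Nat.card G).minFac with hp_def
  have hcard : Nat.card G ≠ 1 := fun e => hna (by
    haveI : Subsingleton G := (Nat.card_eq_one_iff_unique.mp e).1
    exact ⟨⟨fun a b => Subsingleton.elim _ _⟩⟩)
  have hp : p.Prime := Nat.minFac_prime hcard
  haveI := Fact.mk hp
  have hmin : ∀ d : ℕ, d ∣ Nat.card G → d ≠ 1 → p ≤ d := fun d hd h1 => by
    obtain ⟨r, hr, hrd⟩ := Nat.exists_prime_and_dvd h1
    exact (Nat.minFac_le_of_dvd hr.two_le (hrd.trans hd)).trans
      (Nat.le_of_dvd (Nat.pos_of_ne_zero fun e => by simp [e] at hd; exact Nat.card_pos.ne' hd) hrd)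
  rw [Nat.le_div_iff_mul_le hp.pos, mul_comm]
  set g := Nat.card (commutator G)
  have hg1 : g ≠ 1 := fun e => hna ⟨⟨fun a b => commutatorElement_eq_one_iff_mul_comm.mp (mem_bot.mp
    ((card_eq_one.mp e) ▸ commutator_mem_commutator (mem_top a) (mem_top b)))⟩⟩
  have hidx : g * (commutator G).index = Nat.card G := (commutator G).card_mul_index
  rcases lt_or_ge p g with hlt | hle
  · have hk := sq_mul_card_conjClasses_le hmin
    have ho : Nat.card (MulAction.orbitRel.Quotient (MulAut G) G) ≤ Nat.card (ConjClasses G) := by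
      have h1 := two_mul_card_orbits_le (1 : MulAut G)
      have h2 : Nat.card {c : ConjClasses G | ConjClasses.map (1 : MulAut G).toMonoidHom c = c} ≤
          Nat.card (ConjClasses G) := Finite.card_subtype_le _
      omega
    refine (Nat.mul_le_mul_left p ho).trans ?_
    set k := Nat.card (ConjClasses G)
    set i := (commutator G).index
    have hp2 := hp.two_le
    have h3 : (p + 1) * i ≤ Nat.card G := hidx ▸ Nat.mul_le_mul_right i hlt
    have h4 : p * (p * k) ≤ p * Nat.card G := by
      have : p * p * i ≤ (p + 1) * i * p := by nlinarith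
      nlinarith
    exact Nat.le_of_mul_le_mul_left h4 hp.pos
  have hgp : g = p := le_antisymm hle (hmin g (card_subgroup_dvd_card _) hg1)
  have hcen : commutator G ≤ center G := by
    intro c hc
    refine mem_center_iff.mpr fun x => ?_
    by_contra hne
    have hcm : ∀ y : G, y * c * y⁻¹ ∈ commutator G := fun y =>
      (inferInstance : (commutator G).Normal).conj_mem c hc y
    have hc1 : c ≠ 1 := fun e => hne (by simp [e])
    -- the class of `c` lies in `G' \ {1}`
    have h1 : Nat.card {y : G // IsConj c y} < p := by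
      rw [← hgp]
      have : ({y : G | IsConj c y}) ⊂ ((commutator G : Subgroup G) : Set G) :=
        ⟨fun y hy => by
          obtain ⟨z, rfl⟩ := isConj_iff.mp hy
          exact hcm z, fun hh => hc1 (isConj_one_left.mp (hh (one_mem (commutator G))))⟩
      exact Set.ncard_lt_ncard this
    rw [Char.card_conjClass] at h1
    have h2 : (centralizer ({c} : Set G)).index = 1 := by
      by_contra h3
      exact (hmin _ (index_dvd_card _) h3).not_gt h1
    exact hne (mem_centralizer_singleton_iff.mp ((index_eq_one.mp h2).symm ▸ mem_top x))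
  obtain ⟨F, σ, hF, hZF, hσ⟩ := exists_moving hgp hcen
  have hfix := mul_card_classes_le hmin hp.one_lt.le (F : Set G)
    {c : ConjClasses G | ConjClasses.map σ.toMonoidHom c = c} fun c hc x hx => by
      obtain rfl := ConjClasses.mem_carrier_iff_mk_eq.mp hx
      obtain ⟨y, hy⟩ := isConj_iff.mp (ConjClasses.mk_eq_mk_iff_isConj.mp hc).symm
      refine hσ x ?_
      have : σ x * x⁻¹ = ⁅y, x⁆ := by
        rw [commutatorElement_def, hy]; rfl
      rw [this]
      exact commutator_mem_commutator (mem_top y) (mem_top x)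
  have hall := mul_card_classes_le hmin hp.one_lt.le (Set.univ : Set G)
    (Set.univ : Set (ConjClasses G)) fun _ _ => Set.subset_univ _
  rw [Nat.card_univ, Nat.card_univ] at hall
  have ho := two_mul_card_orbits_le σ
  set o := Nat.card (MulAction.orbitRel.Quotient (MulAut G) G)
  set fx := Nat.card {c : ConjClasses G | ConjClasses.map σ.toMonoidHom c = c}
  set k := Nat.card (ConjClasses G)
  set z := Nat.card (center G) with hz
  have hF' : p * Nat.card F = Nat.card G := by rw [← hF, mul_comm, card_mul_index]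
  have hzF : Nat.card F = z * (center G).relIndex F := (card_mul_relIndex' hZF).symm
  have hrel : 2 ≤ (center G).relIndex F := by
    by_contra hh
    have h1 : (center G).relIndex F = 1 := by
      have : (center G).relIndex F ≠ 0 := fun e => by
        rw [e, mul_zero] at hzF; exact Nat.card_pos.ne' hzF
      omega
    refine hna ⟨⟨fun a b => ?_⟩⟩
    have hidx : (center G).index = p := by
      rw [← relIndex_mul_index hZF, h1, one_mul, hF]
    haveI : Fact (Nat.card (G ⧸ center G)).Prime := ⟨by rw [← index, hidx]; exact hp⟩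
    haveI : IsCyclic (G ⧸ center G) := isCyclic_of_prime_card (p := Nat.card (G ⧸ center G)) rfl
    exact commutative_of_cyclic_center_quotient (QuotientGroup.mk' (center G))
      (by rw [QuotientGroup.ker_mk']) a b
  obtain ⟨q, hq⟩ : ∃ q, p = q + 1 := ⟨p - 1, by have := hp.pos; omega⟩
  have hfix' : p * fx ≤ Nat.card F + q * z := by
    have e : p - 1 = q := by omega
    rw [e] at hfix; exact hfix
  have hall' : p * k ≤ Nat.card G + q * z := by
    have e : p - 1 = q := by omega
    rw [e] at hall; exact hall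
  have h5 : 2 * (p * o) ≤ p * k + p * fx := by
    have := Nat.mul_le_mul_left p ho
    linarith
  have h6 : Nat.card F + 2 * (q * z) ≤ Nat.card G := by
    rw [← hF']
    have : 2 * z ≤ Nat.card F := by rw [hzF, mul_comm]; exact Nat.mul_le_mul_left z hrel
    rw [hq, add_mul, one_mul]
    nlinarith [Nat.mul_le_mul_left q this]
  omega

end Cfsg.Agent.Grp.AutOrb
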