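import Mathlib
import Cfsg.Prelude.Def_Transfer

/-!
# The Baer trick and coprime operators on abelian groups
-/

set_option autoImplicit false

namespace Cfsg.Agent.Grp.Baer

open scoped commutatorElement

universe u

/-- Fixed points of a `p`-group inside those of a coprime group it normalizes: the abelian case. -/
theorem abelian_case {V : Type u} [CommGroup V] [Finite V] {p : ℕ} [hp : Fact p.Prime] {P Q : Type*} [Group P]
    [Finite P] [Group Q] [Finite Q] (hV : IsPGroup p V) (hP : IsPGroup p P) (hQ : (Nat.card Q).Coprime p)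
    (φ : P →* MulAut V) (ψ : Q →* MulAut V) (σ : P → Q ≃ Q)
    (hσ : ∀ a b v, φ a (ψ b v) = ψ (σ a b) (φ a v))
    (hfix : ∀ v, (∀ a, φ a v = v) → ∀ b, ψ b v = v) : ∀ b v, ψ b v = v := by
  classical
  have := Fintype.ofFinite Q
  let π : V →* V := ∏ b : Q, (ψ b).toMonoidHom
  have hπ : ∀ v, π v = ∏ b : Q, ψ b v := fun v => by simp [π, MonoidHom.finsetProd_apply]
  have hψπ : ∀ b v, ψ b (π v) = π v := fun b v => by
    rw [hπ, map_prod]
    exact Fintype.prod_equiv (Equiv.mulLeft b) _ _ fun c => by simp [map_mul]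
  have hφπ : ∀ a v, φ a (π v) = π (φ a v) := fun a v => by
    rw [hπ, hπ, map_prod]
    exact Fintype.prod_equiv (σ a) _ _ fun b => hσ a b v
  have hpow : ∀ v w : V, v ^ Nat.card Q = w ^ Nat.card Q → v = w := by
    intro v w h
    obtain ⟨k, hk⟩ := hV (v / w)
    have h1 : (v / w) ^ Nat.card Q = 1 := by rw [div_pow, h, div_self']
    exact div_eq_one.mp (orderOf_eq_one_iff.mp
      (Nat.eq_one_of_dvd_coprimes (hQ.pow_right k) (orderOf_dvd_of_pow_eq_one h1) (orderOf_dvd_of_pow_eq_one hk)))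
  by_cases hK : π.ker = ⊥
  · intro b v
    refine hpow _ _ ?_
    have h1 : π v ^ Nat.card Q = π (v ^ Nat.card Q) := (map_pow π v _).symm
    have h2 : π (π v) = π v ^ Nat.card Q := by
      rw [hπ (π v), Finset.prod_congr rfl fun c _ => hψπ c v, Finset.prod_const, Finset.card_univ,
        Nat.card_eq_fintype_card]
    have h3 : π v = v ^ Nat.card Q := (MonoidHom.ker_eq_bot_iff π).mp hK (h2.trans h1)
    rw [← map_pow, ← h3, hψπ]
  · exfalso
    let S : Set V := (π.ker : Set V)
    let act : MulAction P π.ker :=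
      { smul := fun a w => ⟨φ a w, by rw [MonoidHom.mem_ker, ← hφπ, MonoidHom.mem_ker.mp w.2, map_one]⟩
        one_smul := fun w => Subtype.ext (show φ 1 (w : V) = w by rw [map_one]; rfl)
        mul_smul := fun a b w => Subtype.ext (show φ (a * b) (w : V) = φ a (φ b w) by rw [map_mul]; rfl) }
    obtain ⟨k, hk⟩ := IsPGroup.iff_card.mp (hV.to_subgroup π.ker)
    have hd : p ∣ Nat.card π.ker := by
      rcases k with _ | k
      · exact absurd (Subgroup.card_eq_one.mp (hk.trans (pow_zero p))) hK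
      · exact hk ▸ dvd_pow_self p k.succ_ne_zero
    obtain ⟨w, hw, hne⟩ := hP.exists_fixed_point_of_prime_dvd_card_of_fixed_point π.ker hd
      (a := (1 : π.ker)) (fun a => Subtype.ext (show φ a 1 = 1 from map_one _))
    have h1 := hfix (w : V) fun a => congrArg Subtype.val (hw a)
    have h2 : π (w : V) = (w : V) ^ Nat.card Q := by
      rw [hπ, Finset.prod_congr rfl fun c _ => h1 c, Finset.prod_const, Finset.card_univ, Nat.card_eq_fintype_card]
    rw [MonoidHom.mem_ker.mp w.2] at h2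
    exact hne (Subtype.ext (hpow 1 (w : V) (by rw [one_pow]; exact h2)))

/-- The hypotheses of the Baer trick. -/
structure Data (G : Type u) [Group G] (p : ℕ) : Prop where
  odd : Odd p
  exponent : ∀ x : G, x ^ p = 1
  central : ∀ x y z : G, Commute ⁅x, y⁆ z

/-- The additive shadow of a group of class two and odd exponent. -/
structure Shadow {G : Type u} [Group G] {p : ℕ} (D : Data G p) where
  val : G

variable {G : Type u} [Group G] {p : ℕ} {D : Data G p}

theorem comm_mul_left (D : Data G p) (x y z : G) : ⁅x * y, z⁆ = ⁅x, z⁆ * ⁅y, z⁆ := by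
  calc ⁅x * y, z⁆ = x * ⁅y, z⁆ * x⁻¹ * ⁅x, z⁆ := by simp only [commutatorElement_def]; group
    _ = ⁅y, z⁆ * ⁅x, z⁆ := by rw [(D.central y z x).symm.eq, mul_inv_cancel_right]
    _ = _ := (D.central y z _).eq

theorem comm_mul_right (D : Data G p) (x y z : G) : ⁅x, y * z⁆ = ⁅x, y⁆ * ⁅x, z⁆ := by
  calc ⁅x, y * z⁆ = ⁅x, y⁆ * (y * ⁅x, z⁆ * y⁻¹) := by simp only [commutatorElement_def]; group
    _ = _ := by rw [(D.central x z y).symm.eq, mul_inv_cancel_right]

theorem comm_central_left (D : Data G p) {c : G} (hc : ∀ z, Commute c z) (x y : G) : ⁅x * c, y⁆ = ⁅x, y⁆ := by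
  rw [comm_mul_left D, commutatorElement_eq_one_iff_mul_comm.mpr (hc y), mul_one]

theorem comm_central_right (D : Data G p) {c : G} (hc : ∀ z, Commute c z) (x y : G) : ⁅x, y * c⁆ = ⁅x, y⁆ := by
  rw [comm_mul_right D, commutatorElement_eq_one_iff_mul_comm.mpr (hc x).symm, mul_one]

/-- The new product. -/
def op (k : ℕ) (x y : G) : G := x * y * ⁅y, x⁆ ^ k

theorem op_assoc (D : Data G p) (k : ℕ) (x y z : G) : op k (op k x y) z = op k x (op k y z) := by
  unfold op
  have hz : ∀ a b w : G, Commute (⁅a, b⁆ ^ k) w := fun a b w => (D.central a b w).pow_left k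
  rw [comm_central_right D (hz y x), comm_central_left D (hz z y), comm_mul_right D, comm_mul_left D,
    (D.central z x ⁅z, y⁆).mul_pow, (D.central y x ⁅z, x⁆).mul_pow]
  calc x * y * ⁅y, x⁆ ^ k * z * (⁅z, x⁆ ^ k * ⁅z, y⁆ ^ k)
      = x * y * z * (⁅y, x⁆ ^ k * ⁅z, x⁆ ^ k * ⁅z, y⁆ ^ k) := by
        rw [mul_assoc (x * y), (hz y x z).eq]; simp [mul_assoc]
    _ = x * y * z * (⁅z, y⁆ ^ k * (⁅y, x⁆ ^ k * ⁅z, x⁆ ^ k)) := by rw [((hz z y) _).eq]
    _ = _ := by simp [mul_assoc]

theorem op_comm (D : Data G p) (x y : G) : op ((p + 1) / 2) x y = op ((p + 1) / 2) y x := by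
  unfold op
  set k := (p + 1) / 2
  have h2k : k + k = p + 1 := by obtain ⟨j, hj⟩ := D.odd; omega
  have h1 : x * y = y * x * ⁅x, y⁆ := by
    rw [show y * x * ⁅x, y⁆ = ⁅x, y⁆ * (y * x) from ((D.central x y (y * x)).eq).symm, commutatorElement_def]
    group
  have h2 : ⁅y, x⁆ = ⁅x, y⁆⁻¹ := (commutatorElement_inv x y).symm
  rw [h1, h2, mul_assoc]
  congr 1
  rw [inv_pow, mul_inv_eq_iff_eq_mul, ← pow_add, h2k, pow_succ, D.exponent, one_mul]

instance : Mul (Shadow D) := ⟨fun x y => ⟨op ((p + 1) / 2) x.val y.val⟩⟩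
instance : One (Shadow D) := ⟨⟨1⟩⟩
instance : Inv (Shadow D) := ⟨fun x => ⟨x.val⁻¹⟩⟩

instance : CommGroup (Shadow D) where
  mul_assoc x y z := congrArg Shadow.mk (op_assoc D _ x.val y.val z.val)
  one_mul x := congrArg Shadow.mk (by show (1 : G) * x.val * ⁅x.val, (1 : G)⁆ ^ _ = x.val; simp)
  mul_one x := congrArg Shadow.mk (by show x.val * 1 * ⁅(1 : G), x.val⁆ ^ _ = x.val; simp)
  inv_mul_cancel x := congrArg Shadow.mk (by
    show x.val⁻¹ * x.val * ⁅x.val, x.val⁻¹⁆ ^ _ = 1
    rw [commutatorElement_eq_one_iff_mul_comm.mpr (Commute.refl x.val).inv_right]; simp)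
  mul_comm x y := congrArg Shadow.mk (op_comm D x.val y.val)

instance [Finite G] : Finite (Shadow D) := Finite.of_injective Shadow.val fun a b h => by cases a; cases b; cases h; rfl

/-- Automorphisms act on the shadow. -/
def mapAut (D : Data G p) : MulAut G →* MulAut (Shadow D) where
  toFun e :=
    { toFun := fun x => ⟨e x.val⟩
      invFun := fun x => ⟨e.symm x.val⟩
      left_inv := fun x => congrArg Shadow.mk (e.symm_apply_apply x.val)
      right_inv := fun x => congrArg Shadow.mk (e.apply_symm_apply x.val)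
      map_mul' := fun x y => congrArg Shadow.mk (by
        show e (op _ x.val y.val) = op _ (e x.val) (e y.val)
        simp [op, map_commutatorElement]) }
  map_one' := MulEquiv.ext fun _ => rfl
  map_mul' _ _ := MulEquiv.ext fun _ => rfl

theorem shadow_pow (D : Data G p) (x : Shadow D) (n : ℕ) : x ^ n = ⟨x.val ^ n⟩ := by
  induction n with
  | zero => rw [pow_zero, pow_zero]; rfl
  | succ n ih =>
    rw [pow_succ, ih]
    refine congrArg Shadow.mk ?_
    show x.val ^ n * x.val * ⁅x.val, x.val ^ n⁆ ^ _ = _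
    rw [commutatorElement_eq_one_iff_mul_comm.mpr ((Commute.refl x.val).pow_right n), one_pow, mul_one, pow_succ]

end Cfsg.Agent.Grp.Baer
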