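import Cfsg.Prelude.Def_OddOrderLocal
import Cfsg.Agent.Lib.Grp.SchurZassenhaus

/-!
Hall `π`-subgroups of `π`-separable groups exist and dominate all `π`-subgroups, granted that of two groups of
coprime orders one is solvable.
-/

set_option autoImplicit false

namespace Cfsg.Agent.Grp.PiSep

open scoped Pointwise
open Subgroup

universe u

variable {π : Set ℕ}

/-- Only primes in the set. -/
def PiNum (π : Set ℕ) (n : ℕ) : Prop := ∀ q : ℕ, q.Prime → q ∣ n → q ∈ π

/-- No prime in the set. -/
def PiFree (π : Set ℕ) (n : ℕ) : Prop := ∀ q : ℕ, q.Prime → q ∈ π → ¬ q ∣ n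

theorem coprime_of {a b : ℕ} (ha : PiNum π a) (hb : PiFree π b) : a.Coprime b :=
  Nat.coprime_of_dvd fun q hq h1 h2 => hb q hq (ha q hq h1) h2

theorem PiNum.mul {a b : ℕ} (ha : PiNum π a) (hb : PiNum π b) : PiNum π (a * b) :=
  fun q hq h => (hq.dvd_mul.1 h).elim (ha q hq) (hb q hq)

theorem PiFree.mul {a b : ℕ} (ha : PiFree π a) (hb : PiFree π b) : PiFree π (a * b) :=
  fun q hq hπ h => (hq.dvd_mul.1 h).elim (ha q hq hπ) (hb q hq hπ)

/-- A chain of normal subgroups with factors inside or outside the set. -/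
def Chain (π : Set ℕ) (G : Type u) [Group G] (n : ℕ) : Prop :=
  ∃ H : Fin (n + 1) → Subgroup G, H 0 = ⊥ ∧ H (Fin.last n) = ⊤ ∧ Monotone H ∧ (∀ i, (H i).Normal) ∧
    ∀ i : Fin n, (∀ q : ℕ, q.Prime → q ∣ (H i.castSucc).relIndex (H i.succ) → q ∈ π) ∨
      (∀ q : ℕ, q.Prime → q ∣ (H i.castSucc).relIndex (H i.succ) → q ∉ π)

/-- Existence and dominance. -/
def Dominates (π : Set ℕ) (G : Type u) [Group G] : Prop :=
  (∃ K : Subgroup G, Cfsg.IsPiHall π K) ∧
    ∀ K U : Subgroup G, Cfsg.IsPiHall π K → PiNum π (Nat.card U) → ∃ g : G, U ≤ MulAut.conj g • K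

variable {G : Type u} [Group G] [Finite G]

theorem map_hall {N : Subgroup G} [N.Normal] {K : Subgroup G} (hK : Cfsg.IsPiHall π K) :
    Cfsg.IsPiHall π (K.map (QuotientGroup.mk' N)) :=
  ⟨fun q hq h => hK.1 q hq (h.trans (Subgroup.card_map_dvd K _)),
    fun q hq hπ h => hK.2 q hq hπ (h.trans (Subgroup.index_map_dvd K (QuotientGroup.mk'_surjective N)))⟩

theorem card_comap {N : Subgroup G} [N.Normal] (L : Subgroup (G ⧸ N)) :
    Nat.card (L.comap (QuotientGroup.mk' N)) = Nat.card N * Nat.card L := by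
  have h1 := (L.comap (QuotientGroup.mk' N)).card_mul_index
  rw [Subgroup.index_comap_of_surjective L (QuotientGroup.mk'_surjective N)] at h1
  have h2 := N.card_mul_index
  rw [show N.index = Nat.card (G ⧸ N) from rfl, ← L.card_mul_index, ← mul_assoc] at h2
  exact Nat.eq_of_mul_eq_mul_right (Nat.pos_of_ne_zero Subgroup.index_ne_zero_of_finite) (h1.trans h2.symm)

theorem comap_map_eq' {N : Subgroup G} [N.Normal] (K : Subgroup G) :
    (K.map (QuotientGroup.mk' N)).comap (QuotientGroup.mk' N) = K ⊔ N := by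
  rw [Subgroup.comap_map_eq, QuotientGroup.ker_mk']

theorem hall_conj {K : Subgroup G} (hK : Cfsg.IsPiHall π K) (g : G) : Cfsg.IsPiHall π (MulAut.conj g • K) := by
  refine ⟨by rw [card_conj_smul]; exact hK.1, fun q hq hπ h => hK.2 q hq hπ ?_⟩
  have e : (MulAut.conj g • K).index = K.index := by
    have h1 := (MulAut.conj g • K).card_mul_index
    rw [card_conj_smul, ← K.card_mul_index] at h1
    exact Nat.eq_of_mul_eq_mul_left Nat.card_pos h1
  rwa [e] at h

/-- Lifting through a `π`-subgroup or a `π'`-subgroup. -/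
theorem lift (hsolv : ∀ (N H : Subgroup G), (Nat.card N).Coprime (Nat.card H) →
      Group.IsSolvable N ∨ Group.IsSolvable H)
    (N : Subgroup G) [N.Normal] (hN : PiNum π (Nat.card N) ∨ PiFree π (Nat.card N))
    (hQ : Dominates π (G ⧸ N)) : Dominates π G := by
  obtain ⟨⟨L, hL1, hL2⟩, hdom⟩ := hQ
  have push : ∀ K U : Subgroup G, Cfsg.IsPiHall π K → PiNum π (Nat.card U) →
      ∃ g : G, U ≤ MulAut.conj g • K ⊔ N := by
    intro K U hK hU
    obtain ⟨gb, hg⟩ := hdom _ (U.map (QuotientGroup.mk' N)) (map_hall hK)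
      fun q hq h => hU q hq (h.trans (Subgroup.card_map_dvd U _))
    obtain ⟨g, rfl⟩ := QuotientGroup.mk'_surjective N gb
    refine ⟨g, ?_⟩
    rw [conj_smul_map] at hg
    rw [← comap_map_eq']
    exact fun u hu => hg ⟨u, hu, rfl⟩
  rcases hN with hN | hN
  · refine ⟨⟨L.comap (QuotientGroup.mk' N), ?_, ?_⟩, fun K U hK hU => ?_⟩
    · rw [card_comap]; exact PiNum.mul hN hL1
    · rw [Subgroup.index_comap_of_surjective L (QuotientGroup.mk'_surjective N)]; exact hL2
    obtain ⟨g, hg⟩ := push K U hK hU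
    refine ⟨g, hg.trans ?_⟩
    set K' := MulAut.conj g • K with hK'def
    have hK' : Cfsg.IsPiHall π K' := hall_conj hK g
    refine sup_le le_rfl ?_
    have hcard := card_comap (N := N) (K'.map (QuotientGroup.mk' N))
    rw [comap_map_eq'] at hcard
    have hπ : PiNum π (Nat.card ↥(K' ⊔ N)) := by
      rw [hcard]
      exact PiNum.mul hN fun q hq h => hK'.1 q hq (h.trans (Subgroup.card_map_dvd K' _))
    have hle : K' ≤ K' ⊔ N := le_sup_left
    have hone : K'.relIndex (K' ⊔ N) = 1 := by
      by_contra hne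
      obtain ⟨q, hq, hdvd⟩ := Nat.exists_prime_and_dvd hne
      refine hK'.2 q hq (hπ q hq (hdvd.trans ⟨Nat.card K', ?_⟩)) (hdvd.trans ⟨_, (Subgroup.relIndex_mul_index hle).symm⟩)
      rw [mul_comm, card_mul_relIndex hle]
    exact le_trans le_sup_right (Subgroup.relIndex_eq_one.1 hone)
  · refine ⟨?_, fun K U hK hU => ?_⟩
    · set X := L.comap (QuotientGroup.mk' N) with hX
      have hNX : N ≤ X := fun x hx => by
        rw [hX, Subgroup.mem_comap, QuotientGroup.mk'_apply, (QuotientGroup.eq_one_iff x).2 hx]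
        exact one_mem _
      have hcX : Nat.card X = Nat.card N * Nat.card L := card_comap L
      have hcN : Nat.card (N.subgroupOf X) = Nat.card N :=
        Nat.card_congr (Subgroup.subgroupOfEquivOfLe hNX).toEquiv
      have hidx : (N.subgroupOf X).index = Nat.card L := by
        have := (N.subgroupOf X).card_mul_index
        rw [hcN, hcX] at this
        exact Nat.eq_of_mul_eq_mul_left Nat.card_pos this
      obtain ⟨H, hH⟩ := Subgroup.exists_right_complement'_of_coprime (N := N.subgroupOf X)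
        (by rw [hcN, hidx]; exact (coprime_of hL1 hN).symm)
      have hcH : Nat.card H = Nat.card L := by
        have := hH.card_mul_card
        rw [hcN, hcX] at this
        exact Nat.eq_of_mul_eq_mul_left Nat.card_pos this
      refine ⟨H.map X.subtype, ?_, ?_⟩
      · rw [Subgroup.card_map_of_injective X.subtype_injective, hcH]; exact hL1
      · have e : (H.map X.subtype).index = Nat.card N * L.index := by
          have h1 := (H.map X.subtype).card_mul_index
          rw [Subgroup.card_map_of_injective X.subtype_injective, hcH, ← X.card_mul_index, hcX,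
            show X.index = L.index from Subgroup.index_comap_of_surjective L (QuotientGroup.mk'_surjective N),
            mul_comm (Nat.card N),
            mul_assoc] at h1
          exact Nat.eq_of_mul_eq_mul_left Nat.card_pos h1
        rw [e]
        exact PiFree.mul hN hL2
    obtain ⟨g, hg⟩ := push K U hK hU
    set K' := MulAut.conj g • K with hK'def
    have hK' : Cfsg.IsPiHall π K' := hall_conj hK g
    set W := K' ⊓ (U ⊔ N) with hW
    have hWπ : PiNum π (Nat.card W) := fun q hq h => hK'.1 q hq (h.trans (Subgroup.card_dvd_of_le inf_le_left))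
    have hnorm : ∀ V : Subgroup G, V ≤ Subgroup.normalizer (N : Set G) := fun V => by
      rw [Subgroup.normalizer_eq_top]; exact le_top
    have hsup : W ⊔ N = U ⊔ N := by
      refine le_antisymm (sup_le inf_le_right le_sup_right) fun x hx => ?_
      have hx' : x ∈ ((K' ⊔ N : Subgroup G) : Set G) := (sup_le hg le_sup_right : U ⊔ N ≤ K' ⊔ N) hx
      rw [Subgroup.mul_normal] at hx'
      obtain ⟨a, ha, b, hb, rfl⟩ := hx'
      refine Subgroup.mul_mem_sup ⟨ha, ?_⟩ hb
      simpa using (U ⊔ N).mul_mem hx (inv_mem (Subgroup.mem_sup_right hb))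
    have hcW : Nat.card U = Nat.card W := by
      have e1 := card_sup_coprime (hnorm W) (coprime_of hWπ hN)
      have e2 := card_sup_coprime (hnorm U) (coprime_of hU hN)
      rw [hsup] at e1
      exact Nat.eq_of_mul_eq_mul_right Nat.card_pos (e2.symm.trans e1)
    obtain ⟨n, -, hn⟩ := exists_conj_of_le_sup (N := N) (H := W) (K := U) (hnorm W)
      (by rw [sup_comm, hsup]; exact le_sup_left) hcW (coprime_of hWπ hN).symm
      (hsolv N W (coprime_of hWπ hN).symm)
    refine ⟨n * g, ?_⟩
    rw [← hn, ← conj_smul_conj_smul]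
    exact Subgroup.pointwise_smul_le_pointwise_smul_iff.2 inf_le_left

theorem of_chain (hsolv : ∀ (A B : Type u) [Group A] [Group B] [Finite A] [Finite B],
      (Nat.card A).Coprime (Nat.card B) → Group.IsSolvable A ∨ Group.IsSolvable B) :
    ∀ (n : ℕ) (G : Type u) [Group G] [Finite G], Chain π G n → Dominates π G := by
  intro n
  induction n with
  | zero =>
    rintro G _ _ ⟨H, h0, hl, -⟩
    have htop : (⊤ : Subgroup G) = ⊥ := hl.symm.trans h0
    refine ⟨⟨⊤, ?_, ?_⟩, fun K U _ _ => ⟨1, ?_⟩⟩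
    · intro q hq h
      rw [htop, Subgroup.card_bot] at h
      exact absurd (Nat.dvd_one.1 h) hq.one_lt.ne'
    · intro q hq _ h
      rw [Subgroup.index_top] at h
      exact hq.one_lt.ne' (Nat.dvd_one.1 h)
    · exact le_trans le_top (htop ▸ bot_le)
  | succ n ih =>
    rintro G _ _ ⟨H, h0, hl, hmono, hnorm, hfac⟩
    haveI := hnorm 1
    refine lift (fun N K => hsolv N K) (H 1) ?_ (ih (G ⧸ H 1) ⟨fun i => (H i.succ).map (QuotientGroup.mk' (H 1)), ?_⟩)
    · have := hfac 0
      rw [show (0 : Fin (n + 1)).castSucc = 0 from rfl, show (0 : Fin (n + 1)).succ = 1 from rfl, h0,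
        Subgroup.relIndex_bot_left] at this
      exact this.imp_right fun h q hq hπ hd => h q hq hd hπ
    refine ⟨?_, ?_, fun i j hij => Subgroup.map_mono (hmono (Fin.succ_le_succ_iff.2 hij)),
      fun i => Subgroup.Normal.map (hnorm _) _ (QuotientGroup.mk'_surjective _), fun i => ?_⟩
    · show (H (Fin.succ 0)).map (QuotientGroup.mk' (H 1)) = ⊥
      rw [Fin.succ_zero_eq_one, QuotientGroup.map_mk'_self]
    · show (H (Fin.last n).succ).map _ = ⊤
      rw [Fin.succ_last, hl, Subgroup.map_top_of_surjective _ (QuotientGroup.mk'_surjective _)]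
    · have hle : H 1 ≤ H i.castSucc.succ := hmono (by rw [← Fin.succ_zero_eq_one, Fin.succ_le_succ_iff]; exact Fin.zero_le _)
      have hle' : H 1 ≤ H i.succ.succ := hle.trans (hmono (Fin.succ_le_succ_iff.2 (Fin.castSucc_le_succ i)))
      have e : ((H i.castSucc.succ).map (QuotientGroup.mk' (H 1))).relIndex
          ((H i.succ.succ).map (QuotientGroup.mk' (H 1))) = (H i.succ.castSucc).relIndex (H i.succ.succ) := by
        rw [Subgroup.relIndex_map_map, QuotientGroup.ker_mk', sup_eq_left.2 hle, sup_eq_left.2 hle',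
          Fin.castSucc_succ]
      show (∀ q : ℕ, q.Prime → q ∣ ((H i.castSucc.succ).map _).relIndex ((H i.succ.succ).map _) → q ∈ π) ∨ _
      rw [e]
      exact hfac i.succ

/-- Everything the statement asks for, from the odd order hypothesis. -/
theorem dPi (hodd : ∀ (K : Type u) [Group K] [Finite K], Odd (Nat.card K) → Group.IsSolvable K)
    {G : Type u} [Group G] [Finite G] {n : ℕ} (h : Chain π G n) :
    (∃ K : Subgroup G, Cfsg.IsPiHall π K) ∧
      (∀ K L : Subgroup G, Cfsg.IsPiHall π K → Cfsg.IsPiHall π L →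
        ∃ g : G, L = K.map (MulAut.conj g).toMonoidHom) ∧
      ∀ U : Subgroup G, (∀ q : ℕ, q.Prime → q ∣ Nat.card U → q ∈ π) →
        ∃ K : Subgroup G, Cfsg.IsPiHall π K ∧ U ≤ K := by
  obtain ⟨⟨K₀, hK₀⟩, hdom⟩ := of_chain (π := π) (fun A B _ _ _ _ hcop => by
    rcases Nat.even_or_odd (Nat.card A) with hA | hA
    · rcases Nat.even_or_odd (Nat.card B) with hB | hB
      · exact absurd (Nat.eq_one_of_dvd_coprimes hcop hA.two_dvd hB.two_dvd) (by norm_num)
      · exact Or.inr (hodd B hB)
    · exact Or.inl (hodd A hA)) n G h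
  refine ⟨⟨K₀, hK₀⟩, fun K L hK hL => ?_, fun U hU => ?_⟩
  · obtain ⟨g, hg⟩ := hdom K L hK hL.1
    refine ⟨g, ?_⟩
    rw [map_conj_eq_smul]
    refine Subgroup.eq_of_le_of_card_ge hg ?_
    rw [card_conj_smul]
    refine Nat.le_of_dvd Nat.card_pos ((coprime_of hK.1 hL.2).dvd_of_dvd_mul_right ?_)
    rw [L.card_mul_index]
    exact K.card_subgroup_dvd_card
  · obtain ⟨g, hg⟩ := hdom K₀ U hK₀ hU
    exact ⟨_, hall_conj hK₀ g, hg⟩

end Cfsg.Agent.Grp.PiSep
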