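import Mathlib

/-!
The nilpotency class of a finite p-group of breadth b.
-/

set_option autoImplicit false

namespace Cfsg.Agent.Grp.Breadth

open Subgroup
open scoped commutatorElement

variable {G : Type*} [Group G]

/-- The two-step centraliser of the `i`-th step of the lower central series. -/
def twoStep (i : ℕ) : Subgroup G where
  carrier := {x | ∀ y ∈ (⊤ : Subgroup G).lowerCentralSeries i, ⁅x, y⁆ ∈ (⊤ : Subgroup G).lowerCentralSeries (i + 2)}
  one_mem' := fun y _ => by rw [commutatorElement_one_left]; exact one_mem _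
  mul_mem' := fun {a b} ha hb y hy => by
    haveI : ((⊤ : Subgroup G).lowerCentralSeries (i + 2)).Normal := inferInstance
    rw [show ⁅a * b, y⁆ = a * ⁅b, y⁆ * a⁻¹ * ⁅a, y⁆ by simp only [commutatorElement_def]; group]
    exact mul_mem (Subgroup.Normal.conj_mem inferInstance _ (hb y hy) a) (ha y hy)
  inv_mem' := fun {a} ha y hy => by
    haveI : ((⊤ : Subgroup G).lowerCentralSeries (i + 2)).Normal := inferInstance
    rw [show ⁅a⁻¹, y⁆ = a⁻¹ * ⁅a, y⁆⁻¹ * (a⁻¹)⁻¹ by simp only [commutatorElement_def]; group]
    exact Subgroup.Normal.conj_mem inferInstance _ (inv_mem (ha y hy)) a⁻¹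

variable [Finite G]

open Classical in
theorem prod_le_index {p : ℕ} [Fact p.Prime] (hG : IsPGroup p G) (x : G) :
    ∀ n : ℕ, p ^ ((Finset.range n).filter (fun i => x ∉ twoStep i)).card ≤
      (centralizer ({x} : Set G) ⊔ (⊤ : Subgroup G).lowerCentralSeries n).index
  | 0 => by
      simp only [Finset.range_zero, Finset.filter_empty, Finset.card_empty, pow_zero]
      exact Nat.one_le_iff_ne_zero.mpr Subgroup.index_ne_zero_of_finite
  | n + 1 => by
      have ih := prod_le_index hG x n
      have hle : centralizer ({x} : Set G) ⊔ (⊤ : Subgroup G).lowerCentralSeries (n + 1) ≤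
          centralizer ({x} : Set G) ⊔ (⊤ : Subgroup G).lowerCentralSeries n :=
        sup_le_sup_left ((⊤ : Subgroup G).lowerCentralSeries_antitone (Nat.le_succ n)) _
      rw [Finset.range_add_one, Finset.filter_insert]
      split_ifs with hx
      · exact ih.trans (Nat.le_of_dvd (Nat.pos_of_ne_zero Subgroup.index_ne_zero_of_finite) (Subgroup.index_dvd_of_le hle))
      · rw [Finset.card_insert_of_notMem (by simp), pow_succ', ← Subgroup.relIndex_mul_index hle]
        refine Nat.mul_le_mul ?_ ih
        obtain ⟨k, hk⟩ := (hG.to_subgroup (centralizer ({x} : Set G) ⊔ (⊤ : Subgroup G).lowerCentralSeries n)).index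
          ((centralizer ({x} : Set G) ⊔ (⊤ : Subgroup G).lowerCentralSeries (n + 1)).subgroupOf
            (centralizer ({x} : Set G) ⊔ (⊤ : Subgroup G).lowerCentralSeries n))
        rw [Subgroup.relIndex, hk]
        refine Nat.le_self_pow (fun h0 => hx ?_) p
        rw [h0, pow_zero, Subgroup.index_eq_one, Subgroup.subgroupOf_eq_top] at hk
        intro y hy
        have hy' := hk (mem_sup_right hy)
        haveI : ((⊤ : Subgroup G).lowerCentralSeries (n + 1)).Normal := inferInstance
        haveI : ((⊤ : Subgroup G).lowerCentralSeries (n + 2)).Normal := inferInstance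
        obtain ⟨u, hu, v, hv, rfl⟩ := Subgroup.mem_sup_of_normal_right.mp hy'
        rw [show ⁅x, u * v⁆ = ⁅x, u⁆ * (u * ⁅x, v⁆ * u⁻¹) by simp only [commutatorElement_def]; group,
          commutatorElement_eq_one_iff_mul_comm.mpr (Subgroup.mem_centralizer_singleton_iff.mp hu).symm, one_mul]
        refine Subgroup.Normal.conj_mem inferInstance _ ?_ u
        rw [Subgroup.lowerCentralSeries_succ, Subgroup.commutator_comm]
        exact commutator_mem_commutator (mem_top x) hv

theorem class_bound {p : ℕ} [hp : Fact p.Prime] (hG : IsPGroup p G) (b : ℕ)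
    (hb : ∀ x : G, (centralizer ({x} : Set G)).index ≤ p ^ b) :
    ∃ c : ℕ, (⊤ : Subgroup G).lowerCentralSeries c = ⊥ ∧ (b ≠ 0 → (c - 1) * (p - 1) < b * p ∧ c ≤ 2 * b) ∧
      (b = 0 → c ≤ 1) := by
  classical
  have hex : ∃ n, (⊤ : Subgroup G).lowerCentralSeries n = ⊥ := by
    haveI := hG.isNilpotent
    exact _root_.nilpotent_iff_lowerCentralSeries.mp inferInstance
  set c := Nat.find hex with hc
  have hbot : (⊤ : Subgroup G).lowerCentralSeries c = ⊥ := Nat.find_spec hex
  have hproper : ∀ i, i + 1 < c → twoStep (G := G) i ≠ ⊤ := by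
    intro i hi htop
    have hstep : (⊤ : Subgroup G).lowerCentralSeries (i + 1) ≤ (⊤ : Subgroup G).lowerCentralSeries (i + 2) := by
      rw [Subgroup.lowerCentralSeries_succ _ i, Subgroup.commutator_comm, Subgroup.commutator_le]
      intro a _ y hy
      exact (show a ∈ twoStep (G := G) i from htop ▸ mem_top a) y hy
    have hall : ∀ k, (⊤ : Subgroup G).lowerCentralSeries (i + 1) ≤ (⊤ : Subgroup G).lowerCentralSeries (i + 1 + k) := by
      intro k
      induction k with
      | zero => exact le_rfl
      | succ k ihk =>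
          refine hstep.trans ?_
          rw [show i + 2 = (i + 1) + 1 from rfl, Subgroup.lowerCentralSeries_succ _ (i + 1),
            ← add_assoc, Subgroup.lowerCentralSeries_succ _ (i + 1 + k)]
          exact commutator_mono ihk le_rfl
    refine Nat.find_min hex hi (le_bot_iff.mp ((hall (c - (i + 1))).trans ?_))
    rw [show i + 1 + (c - (i + 1)) = c by omega, hbot]
  have hle : ∀ x : G, ((Finset.range (c - 1)).filter (fun i => x ∉ twoStep i)).card ≤ b := fun x =>
    (Nat.pow_le_pow_iff_right hp.out.one_lt).mp (((prod_le_index hG x (c - 1)).trans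
      (Nat.le_of_dvd (Nat.pos_of_ne_zero Subgroup.index_ne_zero_of_finite) (Subgroup.index_dvd_of_le le_sup_left))).trans (hb x))
  haveI := Fintype.ofFinite G
  have hlow : ∀ i ∈ Finset.range (c - 1),
      Fintype.card G * (p - 1) ≤ p * (Finset.univ.filter (fun x : G => x ∉ twoStep i)).card := by
    intro i hi
    rw [Finset.mem_range] at hi
    have hsum : (Finset.univ.filter (fun x : G => x ∈ twoStep i)).card +
        (Finset.univ.filter (fun x : G => x ∉ twoStep i)).card = Fintype.card G :=
      Finset.card_filter_add_card_filter_not (s := (Finset.univ : Finset G)) (fun x => x ∈ twoStep i)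
    have hS : (Finset.univ.filter (fun x : G => x ∈ twoStep i)).card = Nat.card (twoStep (G := G) i) := by
      rw [Nat.card_eq_fintype_card, Fintype.card_subtype]
    have hidx : p ≤ (twoStep (G := G) i).index := by
      obtain ⟨k, hk⟩ := hG.index (twoStep (G := G) i)
      rw [hk]
      exact Nat.le_self_pow (fun h0 => hproper i (by omega) (Subgroup.index_eq_one.mp (by rw [hk, h0, pow_zero]))) p
    have hmul := Subgroup.card_mul_index (twoStep (G := G) i)
    rw [Nat.card_eq_fintype_card, Nat.card_eq_fintype_card] at hmul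
    rw [Nat.card_eq_fintype_card] at hS
    have : p * (Finset.univ.filter (fun x : G => x ∈ twoStep i)).card ≤ Fintype.card G := by
      rw [hS, ← hmul, mul_comm p]
      exact Nat.mul_le_mul_left _ hidx
    rw [Nat.mul_sub_one]
    rw [← hsum] at this ⊢
    rw [Nat.mul_comm (_ + _) p, Nat.mul_add] at *
    omega
  have hswap : ∑ i ∈ Finset.range (c - 1), (Finset.univ.filter (fun x : G => x ∉ twoStep i)).card =
      ∑ x : G, ((Finset.range (c - 1)).filter (fun i => x ∉ twoStep i)).card := by
    simp only [Finset.card_filter]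
    exact Finset.sum_comm
  have hA : (c - 1) * (Fintype.card G * (p - 1)) ≤ p * ∑ x : G, ((Finset.range (c - 1)).filter (fun i => x ∉ twoStep i)).card := by
    rw [← hswap, Finset.mul_sum]
    simpa using Finset.card_nsmul_le_sum _ _ _ hlow
  refine ⟨c, hbot, fun hb0 => ?_, fun hb0 => ?_⟩
  · have hlt : ∑ x : G, ((Finset.range (c - 1)).filter (fun i => x ∉ twoStep i)).card < ∑ _x : G, b :=
      Finset.sum_lt_sum (fun x _ => hle x) ⟨1, Finset.mem_univ _, by
        rw [Finset.filter_false_of_mem (fun i _ => not_not.mpr (one_mem _)), Finset.card_empty]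
        exact Nat.pos_of_ne_zero hb0⟩
    rw [Finset.sum_const, Finset.card_univ, smul_eq_mul] at hlt
    have h1 : (c - 1) * (p - 1) < b * p := by
      have h2 := lt_of_le_of_lt hA (Nat.mul_lt_mul_of_pos_left hlt hp.out.pos)
      rw [show (c - 1) * (Fintype.card G * (p - 1)) = Fintype.card G * ((c - 1) * (p - 1)) by ring,
        show p * (Fintype.card G * b) = Fintype.card G * (b * p) by ring] at h2
      exact Nat.lt_of_mul_lt_mul_left h2
    refine ⟨h1, ?_⟩
    obtain ⟨q, hq⟩ : ∃ q, p = q + 2 := ⟨p - 2, by have := hp.out.two_le; omega⟩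
    subst hq
    rw [show q + 2 - 1 = q + 1 by omega] at h1
    by_contra hc2
    have : 2 * b ≤ c - 1 := by omega
    have := Nat.mul_le_mul_right (q + 1) this
    nlinarith
  · by_contra hc1
    have h0 : ∀ x : G, x ∈ twoStep 0 := by
      intro x
      have := hle x
      rw [hb0, Nat.le_zero, Finset.card_eq_zero, Finset.filter_eq_empty_iff] at this
      exact not_not.mp (this (Finset.mem_range.mpr (by omega : 0 < c - 1)))
    exact hproper 0 (by omega) ((Subgroup.eq_top_iff' _).mpr h0)

end Cfsg.Agent.Grp.Breadth
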