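import Cfsg.Agent.Lib.Grp.Signalizer
import Cfsg.Agent.Lib.Grp.Solvable
import Cfsg.Agent.Lib.Grp.Cores
import Cfsg.Agent.Lib.Invol.Critical
import Cfsg.Agent.Lib.Fus.OddSylowCyclicDerived

/-!
Solvable groups without odd core in which all involutions are conjugate have a normal Sylow
`2`-subgroup (Thompson).

The squaring map on a suitable `K ≤ O₂(G)` over the elementary group `E` of all involutions is an
anisotropic quadratic map; commuting involutory isometries have a totally isotropic commutator space,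
which the normalizer of a Sylow subgroup decomposes and permutes, against transitivity on `E`.
-/

set_option autoImplicit false
set_option linter.unusedSectionVars false
set_option linter.style.haveILetI false

namespace Cfsg.Agent.Grp.InvTrans

open scoped commutatorElement

variable {G : Type*} [Group G]

/-- `K` with squaring map into the elementary abelian group `E`, vanishing only there. -/
structure Sq (E K : Subgroup G) : Prop where
  norm : K.Normal
  le : E ≤ K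
  ele : ∀ e ∈ E, e * e = 1
  cen : ∀ e ∈ E, ∀ v ∈ K, Commute e v
  sq : ∀ v ∈ K, v * v ∈ E
  comm : ∀ v ∈ K, ∀ w ∈ K, ⁅v, w⁆ ∈ E
  inj : ∀ v ∈ K, v * v = 1 → v ∈ E

variable {E K : Subgroup G} [hE : E.Normal] (h : Sq E K)
include h

local notation "π" => QuotientGroup.mk' E

theorem conj_mem {v : G} (hv : v ∈ K) (g : G) : g * v * g⁻¹ ∈ K := h.norm.conj_mem v hv g

theorem d_mem {v : G} (hv : v ∈ K) (g : G) : ⁅g, v⁆ ∈ K := by
  rw [commutatorElement_def]
  exact mul_mem (conj_mem h hv g) (inv_mem hv)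

omit h in
theorem pi_eq_one {a : G} : π a = 1 ↔ a ∈ E := QuotientGroup.eq_one_iff a

theorem comm_cen {v w u : G} (hv : v ∈ K) (hw : w ∈ K) (hu : u ∈ K) : Commute ⁅v, w⁆ u :=
  h.cen _ (h.comm v hv w hw) u hu

theorem mul_left {u v w : G} (hu : u ∈ K) (hv : v ∈ K) (hw : w ∈ K) :
    ⁅u * v, w⁆ = ⁅u, w⁆ * ⁅v, w⁆ := by
  have e : ⁅u * v, w⁆ = u * ⁅v, w⁆ * u⁻¹ * ⁅u, w⁆ := by simp only [commutatorElement_def]; group
  rw [e, ← (comm_cen h hv hw hu).eq, mul_inv_cancel_right]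
  exact (comm_cen h hv hw (h.le (h.comm u hu w hw))).eq

theorem symm_one {v w : G} (hvw : ⁅v, w⁆ = 1) : ⁅w, v⁆ = 1 := by
  rw [← commutatorElement_inv, hvw, inv_one]

theorem congr_left {v v' w : G} (hv : v ∈ K) (hw : w ∈ K) (e : π v = π v') : ⁅v', w⁆ = ⁅v, w⁆ := by
  have he : v⁻¹ * v' ∈ E := QuotientGroup.eq.1 e
  have e1 : v' = v * (v⁻¹ * v') := by group
  rw [e1, mul_left h hv (h.le he) hw,
    commutatorElement_eq_one_iff_mul_comm.2 (h.cen _ he w hw).eq, mul_one]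

theorem congr_right {v w w' : G} (hv : v ∈ K) (hw : w ∈ K) (e : π w = π w') : ⁅v, w'⁆ = ⁅v, w⁆ := by
  rw [← commutatorElement_inv w', congr_left h hw hv e, commutatorElement_inv]

theorem sq_eq_one {w : G} (hw : π w = 1) : w * w = 1 := h.ele _ (pi_eq_one.1 hw)

theorem pi_sq {w : G} (hw : w ∈ K) : π w * π w = 1 := by
  rw [← map_mul]
  exact pi_eq_one.2 (h.sq w hw)

theorem pi_inv {w : G} (hw : w ∈ K) : (π w)⁻¹ = π w := inv_eq_of_mul_eq_one_right (pi_sq h hw)

theorem pi_comm {v w : G} (hv : v ∈ K) (hw : w ∈ K) : π v * π w = π w * π v := by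
  rw [← commutatorElement_eq_one_iff_mul_comm, ← map_commutatorElement]
  exact pi_eq_one.2 (h.comm v hv w hw)

theorem sq_mul {u v : G} (hc : ⁅u, v⁆ = 1) : u * v * (u * v) = u * u * (v * v) := by
  have hc' : u * v = v * u := commutatorElement_eq_one_iff_mul_comm.1 hc
  calc u * v * (u * v) = u * (v * u) * v := by group
    _ = u * (u * v) * v := by rw [hc']
    _ = u * u * (v * v) := by group

/-- Two commuting elements with equal squares agree modulo `E`. -/
theorem pi_eq_of_sq {u v : G} (hu : u ∈ K) (hv : v ∈ K) (hc : ⁅u, v⁆ = 1) (he : u * u = v * v) :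
    π u = π v := by
  have h1 : u * v * (u * v) = 1 := by rw [sq_mul h hc, he]; exact h.ele _ (h.sq v hv)
  have h2 : π u * π v = 1 := by rw [← map_mul]; exact pi_eq_one.2 (h.inj _ (mul_mem hu hv) h1)
  rw [eq_inv_of_mul_eq_one_left h2, pi_inv h hv]

theorem conj_sq {g v : G} (hg : g ∈ Subgroup.centralizer (E : Set G)) (hv : v ∈ K) :
    g * v * g⁻¹ * (g * v * g⁻¹) = v * v := by
  have hc : v * v * g = g * (v * v) := Subgroup.mem_centralizer_iff.1 hg _ (h.sq v hv)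
  calc g * v * g⁻¹ * (g * v * g⁻¹) = g * (v * v) * g⁻¹ := by group
    _ = v * v := by rw [← hc]; group

/-- An isometry fixes a vector which is orthogonal to its image. -/
theorem iso_fix {g v : G} (hg : g ∈ Subgroup.centralizer (E : Set G)) (hv : v ∈ K)
    (hc : ⁅g * v * g⁻¹, v⁆ = 1) : π (g * v * g⁻¹) = π v :=
  pi_eq_of_sq h (conj_mem h hv g) hv hc (conj_sq h hg hv)

theorem conj_comm {g v w : G} (hg : g ∈ Subgroup.centralizer (E : Set G)) (hv : v ∈ K) (hw : w ∈ K) :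
    ⁅g * v * g⁻¹, g * w * g⁻¹⁆ = ⁅v, w⁆ := by
  have e : ⁅g * v * g⁻¹, g * w * g⁻¹⁆ = g * ⁅v, w⁆ * g⁻¹ := by
    simp only [commutatorElement_def]; group
  rw [e, ← Subgroup.mem_centralizer_iff.1 hg _ (h.comm v hv w hw), mul_inv_cancel_right]

/-- Fixed vectors are orthogonal to commutators. -/
theorem perp_fixed {g v c : G} (hg : g ∈ Subgroup.centralizer (E : Set G)) (hv : v ∈ K) (hc : c ∈ K)
    (hfix : π (g * c * g⁻¹) = π c) : ⁅⁅g, v⁆, c⁆ = 1 := by
  have e : ⁅g, v⁆ * v = g * v * g⁻¹ := by simp [commutatorElement_def]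
  have h1 := mul_left h (d_mem h hv g) hv hc
  rw [e, congr_right h (conj_mem h hv g) (conj_mem h hc g) hfix, conj_comm h hg hv hc] at h1
  exact right_eq_mul.1 h1

theorem sq_d {g v : G} (hg : g ∈ Subgroup.centralizer (E : Set G)) (hv : v ∈ K) :
    ⁅g, v⁆ * ⁅g, v⁆ = ⁅⁅g, v⁆, v⁆ := by
  have hwK := d_mem h hv g
  set w := ⁅g, v⁆ with hwdef
  have hsq : w * v * (w * v) = v * v := by
    rw [show w * v = g * v * g⁻¹ by simp [hwdef, commutatorElement_def]]
    exact conj_sq h hg hv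
  have h4 : w * v * w = v := mul_right_cancel (b := v) (by rw [← hsq]; group)
  have hz : w * w ∈ E := h.sq w hwK
  have e : ⁅w, v⁆ = v * (w * w)⁻¹ * v⁻¹ := by
    rw [commutatorElement_def, show w * v = v * w⁻¹ by rw [eq_mul_inv_iff_mul_eq]; exact h4]
    group
  rw [e, inv_eq_of_mul_eq_one_right (h.ele _ hz), (h.cen _ hz v hv).symm.eq, mul_inv_cancel_right]

theorem d_fixed {s v : G} (hv : v ∈ K) (h2 : π (s * s * v * (s * s)⁻¹) = π v) :
    π (s * ⁅s, v⁆ * s⁻¹) = π ⁅s, v⁆ := by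
  have e1 : s * ⁅s, v⁆ * s⁻¹ = (s * s * v * (s * s)⁻¹) * (s * v * s⁻¹)⁻¹ := by
    simp only [commutatorElement_def]; group
  have e2 : ⁅s, v⁆ = s * v * s⁻¹ * v⁻¹ := commutatorElement_def s v
  rw [e1, e2, map_mul, h2, map_inv, pi_inv h (conj_mem h hv s), map_mul π (s * v * s⁻¹), map_inv,
    pi_inv h hv]
  exact pi_comm h hv (conj_mem h hv s)

/-- An isometry commuting with an involutory isometry fixes the commutators of the latter. -/
theorem comm_fix {s t v : G} (hs : s ∈ Subgroup.centralizer (E : Set G))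
    (ht : t ∈ Subgroup.centralizer (E : Set G)) (hv : v ∈ K)
    (h2 : π (s * s * v * (s * s)⁻¹) = π v)
    (hst : π (t * (s * v * s⁻¹) * t⁻¹) = π (s * (t * v * t⁻¹) * s⁻¹)) :
    π (t * ⁅s, v⁆ * t⁻¹) = π ⁅s, v⁆ := by
  refine iso_fix h ht (d_mem h hv s) ?_
  have e : π ⁅s, t * v * t⁻¹⁆ = π (t * ⁅s, v⁆ * t⁻¹) := by
    rw [show t * ⁅s, v⁆ * t⁻¹ = t * (s * v * s⁻¹) * t⁻¹ * (t * v * t⁻¹)⁻¹ by
      simp only [commutatorElement_def]; group]
    rw [commutatorElement_def, map_mul π _ (t * v * t⁻¹)⁻¹, map_mul π _ (t * v * t⁻¹)⁻¹, hst]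
  rw [congr_left h (d_mem h (conj_mem h hv t) s) (d_mem h hv s) e]
  exact perp_fixed h hs (conj_mem h hv t) (d_mem h hv s) (d_fixed h hv h2)

theorem pow_conj {g w v : G} (hfix : π (g * w * g⁻¹) = π w) (hrel : g * v * g⁻¹ = w * v) :
    ∀ k : ℕ, π (g ^ k * v * (g ^ k)⁻¹) = π w ^ k * π v := by
  intro k
  induction k with
  | zero => simp
  | succ k ih =>
    have e : g ^ (k + 1) * v * (g ^ (k + 1))⁻¹ = g * (g ^ k * v * (g ^ k)⁻¹) * g⁻¹ := by
      rw [pow_succ']; group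
    rw [e, map_mul π _ g⁻¹, map_mul π g, ih, map_inv]
    calc π g * (π w ^ k * π v) * (π g)⁻¹
        = (π g * π w * (π g)⁻¹) ^ k * (π g * π v * (π g)⁻¹) := by rw [conj_pow]; group
      _ = π w ^ k * π (w * v) := by rw [← map_inv, ← map_mul, ← map_mul, hfix, ← map_mul, ← map_mul, hrel]
      _ = π w ^ (k + 1) * π v := by rw [map_mul, pow_succ, mul_assoc]

variable (E K) in
/-- The generators: commutators of odd isometries. -/
def oddComm : Set G :=
  {x | ∃ g v, g ∈ Subgroup.centralizer (E : Set G) ∧ Odd (orderOf g) ∧ v ∈ K ∧ x = ⁅g, v⁆}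

variable (E K) in
/-- The part of `K` moved by odd isometries. -/
def movedPart : Subgroup G := E ⊔ Subgroup.closure (oddComm E K)

theorem moved_le : movedPart E K ≤ K := by
  refine sup_le h.le ((Subgroup.closure_le _).2 ?_)
  rintro _ ⟨g, v, -, -, hv, rfl⟩
  exact d_mem h hv g

theorem moved_conj {x : G} (hx : x ∈ movedPart E K) (g : G) : g * x * g⁻¹ ∈ movedPart E K := by
  have hle : (movedPart E K).map (MulAut.conj g).toMonoidHom ≤ movedPart E K := by
    rw [movedPart, Subgroup.map_sup, MonoidHom.map_closure]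
    refine sup_le_sup ?_ (Subgroup.closure_mono ?_)
    · rintro _ ⟨e, he, rfl⟩
      exact hE.conj_mem e he g
    · rintro _ ⟨_, ⟨a, v, ha, ho, hv, rfl⟩, rfl⟩
      refine ⟨g * a * g⁻¹, g * v * g⁻¹,
        (inferInstance : (Subgroup.centralizer (E : Set G)).Normal).conj_mem a ha g, ?_,
        conj_mem h hv g, ?_⟩
      · have e : g * a * g⁻¹ = MulAut.conj g a := rfl
        rwa [e, MulEquiv.orderOf_eq]
      · simp only [MulEquiv.coe_toMonoidHom, MulAut.conj_apply, commutatorElement_def]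
        group
  exact hle ⟨x, hx, rfl⟩

theorem odd_comm_mem {g v : G} (hg : g ∈ Subgroup.centralizer (E : Set G)) (ho : Odd (orderOf g))
    (hv : v ∈ K) : ⁅g, v⁆ ∈ movedPart E K :=
  Subgroup.mem_sup_right (Subgroup.subset_closure ⟨g, v, hg, ho, hv, rfl⟩)

omit h in
theorem pi_conj_congr {g a b : G} (e : π a = π b) : π (g * a * g⁻¹) = π (g * b * g⁻¹) := by
  rw [map_mul π _ g⁻¹, map_mul π g a, e, map_mul π _ g⁻¹, map_mul π g b]

variable (E K) in
/-- The isometries trivial on the moved part. -/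
def ker0 : Subgroup G where
  carrier := {g | g ∈ Subgroup.centralizer (E : Set G) ∧
    ∀ x ∈ movedPart E K, π (g * x * g⁻¹) = π x}
  one_mem' := ⟨one_mem _, fun x _ => by simp⟩
  mul_mem' := fun {a b} ha hb => ⟨mul_mem ha.1 hb.1, fun x hx => by
    rw [show a * b * x * (a * b)⁻¹ = a * (b * x * b⁻¹) * a⁻¹ by group, pi_conj_congr (hb.2 x hx)]
    exact ha.2 x hx⟩
  inv_mem' := fun {a} ha => ⟨inv_mem ha.1, fun x hx => by
    have := pi_conj_congr (g := a⁻¹) (ha.2 x hx)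
    rw [show a⁻¹ * (a * x * a⁻¹) * a⁻¹⁻¹ = x by group] at this
    exact this.symm⟩

theorem ker0_normal : (ker0 E K).Normal := by
  refine ⟨fun a ha g => ⟨(inferInstance : (Subgroup.centralizer (E : Set G)).Normal).conj_mem a ha.1 g,
    fun x hx => ?_⟩⟩
  have h1 := pi_conj_congr (g := g) (ha.2 _ (moved_conj h hx g⁻¹))
  rw [show g * (a * (g⁻¹ * x * g⁻¹⁻¹) * a⁻¹) * g⁻¹ = g * a * g⁻¹ * x * (g * a * g⁻¹)⁻¹ by group,
    show g * (g⁻¹ * x * g⁻¹⁻¹) * g⁻¹ = x by group] at h1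
  exact h1

/-- Elements commuting modulo the kernel commute on the moved part. -/
theorem comm_on {s t x : G} (hst : ⁅t, s⁆ ∈ ker0 E K) (hx : x ∈ movedPart E K) :
    π (t * (s * x * s⁻¹) * t⁻¹) = π (s * (t * x * t⁻¹) * s⁻¹) := by
  have h1 := hst.2 _ (moved_conj h (moved_conj h hx t) s)
  rwa [show ⁅t, s⁆ * (s * (t * x * t⁻¹) * s⁻¹) * ⁅t, s⁆⁻¹ = t * (s * x * s⁻¹) * t⁻¹ by
    simp only [commutatorElement_def]; group] at h1

/-- Commutators of two commuting involutory isometries are orthogonal. -/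
theorem perp_W {s t v w : G} (hs : s ∈ Subgroup.centralizer (E : Set G))
    (ht : t ∈ Subgroup.centralizer (E : Set G)) (ht2 : t * t ∈ ker0 E K)
    (hst : ⁅s, t⁆ ∈ ker0 E K) (hv : v ∈ movedPart E K) (hw : w ∈ movedPart E K) :
    ⁅⁅s, v⁆, ⁅t, w⁆⁆ = 1 :=
  perp_fixed h hs (moved_le h hv) (d_mem h (moved_le h hw) t)
    (comm_fix h ht hs (moved_le h hw) (ht2.2 w hw) (comm_on h hst hw))

/-- The `2`-core acts trivially on the moved part. -/
theorem pCore_le_ker0 [Finite G] (hQE : Cfsg.pCore 2 G ≤ Subgroup.centralizer (E : Set G)) :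
    Cfsg.pCore 2 G ≤ ker0 E K := by
  classical
  haveI := ker0_normal h
  haveI hQn : (Cfsg.pCore 2 G).Normal := Grp.pCore_isNormal
  by_contra hne
  set f := QuotientGroup.mk' (ker0 E K)
  have hf : ∀ {a}, f a = 1 ↔ a ∈ ker0 E K := fun {a} => QuotientGroup.eq_one_iff a
  have hp2 : IsPGroup 2 ↥((Cfsg.pCore 2 G).map f) := (Grp.pCore_isPGroup (p := 2) (G := G)).map f
  haveI : Nontrivial ↥((Cfsg.pCore 2 G).map f) := by
    rw [Subgroup.nontrivial_iff_ne_bot]
    intro e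
    exact hne fun q hq => hf.1 (Subgroup.mem_bot.1 (e ▸ Subgroup.mem_map_of_mem f hq))
  haveI := hp2.center_nontrivial
  have hd : 2 ∣ Nat.card (Subgroup.center ↥((Cfsg.pCore 2 G).map f)) := by
    obtain ⟨k, hk⟩ := IsPGroup.iff_card.1 (hp2.to_subgroup (Subgroup.center _))
    have h1 := Finite.one_lt_card (α := Subgroup.center ↥((Cfsg.pCore 2 G).map f))
    rw [hk] at h1 ⊢
    exact dvd_pow_self 2 (fun e => by rw [e] at h1; exact lt_irrefl _ h1)
  obtain ⟨⟨⟨ab, hab⟩, hcen⟩, hord⟩ := exists_prime_orderOf_dvd_card' 2 hd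
  obtain ⟨a, haQ, rfl⟩ := hab
  rw [← Subgroup.orderOf_coe, ← Subgroup.orderOf_coe] at hord
  change orderOf (f a) = 2 at hord
  have hane : a ∉ ker0 E K := fun e => by rw [hf.2 e, orderOf_one] at hord; norm_num at hord
  have hP : ∀ g : G, (g * a * g⁻¹ ∈ Cfsg.pCore 2 G ∧ (g * a * g⁻¹) * (g * a * g⁻¹) ∈ ker0 E K) ∧
      ⁅g * a * g⁻¹, a⁆ ∈ ker0 E K := by
    intro g
    refine ⟨⟨hQn.conj_mem a haQ g, ?_⟩, hf.1 ?_⟩
    · rw [show g * a * g⁻¹ * (g * a * g⁻¹) = g * (a * a) * g⁻¹ by group]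
      refine (ker0_normal h).conj_mem _ (hf.1 ?_) g
      have := pow_orderOf_eq_one (f a)
      rwa [hord, pow_two, ← map_mul] at this
    · rw [map_commutatorElement, commutatorElement_eq_one_iff_mul_comm]
      exact congrArg Subtype.val (Subgroup.mem_center_iff.1 hcen
        ⟨f (g * a * g⁻¹), Subgroup.mem_map_of_mem f (hQn.conj_mem a haQ g)⟩)
  have haE := hQE haQ
  have ha2 : a * a ∈ ker0 E K := by simpa using (hP 1).1.2
  refine hane ⟨haE, fun v hv => ?_⟩
  have hvK := moved_le h hv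
  have hwK := d_mem h hvK a
  -- the commutator is fixed by odd isometries
  have hfix : ∀ g ∈ Subgroup.centralizer (E : Set G), π (g * ⁅a, v⁆ * g⁻¹) = π ⁅a, v⁆ := by
    intro g hg
    refine iso_fix h hg hwK ?_
    rw [show g * ⁅a, v⁆ * g⁻¹ = ⁅g * a * g⁻¹, g * v * g⁻¹⁆ by
      simp only [commutatorElement_def]; group]
    exact perp_W h (hQE (hP g).1.1) haE ha2 (hP g).2 (moved_conj h hv g) hv
  -- so it is orthogonal to the moved part
  have hperp : movedPart E K ≤ Subgroup.centralizer {⁅a, v⁆} := by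
    refine sup_le (fun e he => Subgroup.mem_centralizer_singleton_iff.2 (h.cen e he _ hwK).eq)
      ((Subgroup.closure_le _).2 ?_)
    rintro _ ⟨g, u, hg, -, hu, rfl⟩
    exact Subgroup.mem_centralizer_singleton_iff.2
      (commutatorElement_eq_one_iff_mul_comm.1 (perp_fixed h hg hu hwK (hfix g hg)))
  have h1 : ⁅a, v⁆ * ⁅a, v⁆ = 1 := by
    rw [sq_d h haE hvK, commutatorElement_eq_one_iff_mul_comm]
    exact (Subgroup.mem_centralizer_singleton_iff.1 (hperp hv)).symm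
  have h2 := h.inj _ hwK h1
  rw [show a * v * a⁻¹ = ⁅a, v⁆ * v by simp [commutatorElement_def], map_mul, pi_eq_one.2 h2, one_mul]

/-- The kernel is exactly the `2`-core. -/
theorem ker0_eq [Finite G] (hQE : Cfsg.pCore 2 G ≤ Subgroup.centralizer (E : Set G))
    (hfaith : ∀ g : G, Odd (orderOf g) → (∀ v ∈ K, Commute g v) → g = 1) :
    ker0 E K = Cfsg.pCore 2 G := by
  refine le_antisymm (Grp.le_pCore (ker0_normal h) fun ⟨g, hg⟩ => ?_) (pCore_le_ker0 h hQE)
  obtain ⟨k, m, hm, hkm⟩ := Nat.exists_eq_two_pow_mul_odd (orderOf_pos g).ne'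
  refine ⟨k, Subtype.ext ?_⟩
  show g ^ 2 ^ k = 1
  set g' := g ^ 2 ^ k
  have hgm : g' ^ m = 1 := by rw [← pow_mul, ← hkm, pow_orderOf_eq_one]
  have ho : Odd (orderOf g') := hm.of_dvd_nat (orderOf_dvd_of_pow_eq_one hgm)
  have hg' : g' ∈ ker0 E K := pow_mem hg _
  refine hfaith g' ho fun v hv => ?_
  have hxK := d_mem h hv g'
  have hfix := hg'.2 _ (odd_comm_mem h hg'.1 ho hv)
  have hrel : g' * v * g'⁻¹ = ⁅g', v⁆ * v := by simp [commutatorElement_def]
  have h1 := pow_conj h hfix hrel m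
  rw [hgm, one_mul, inv_one, mul_one] at h1
  obtain ⟨j, hj⟩ := hm
  have h2 : π ⁅g', v⁆ = 1 := by
    have h3 : π ⁅g', v⁆ ^ m = 1 := right_eq_mul.1 h1
    rwa [hj, pow_succ, pow_mul, pow_two, pi_sq h hxK, one_pow, one_mul] at h3
  have hxE : ⁅g', v⁆ ∈ E := pi_eq_one.1 h2
  have h3 : ∀ i : ℕ, g' ^ i * v * (g' ^ i)⁻¹ = ⁅g', v⁆ ^ i * v := by
    intro i
    induction i with
    | zero => simp
    | succ i ih =>
      have hc : g' * ⁅g', v⁆ ^ i = ⁅g', v⁆ ^ i * g' :=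
        (Commute.pow_right (Subgroup.mem_centralizer_iff.1 hg'.1 _ hxE).symm i).eq
      calc g' ^ (i + 1) * v * (g' ^ (i + 1))⁻¹ = g' * (g' ^ i * v * (g' ^ i)⁻¹) * g'⁻¹ := by
            rw [pow_succ']; group
        _ = ⁅g', v⁆ ^ i * (g' * v * g'⁻¹) := by rw [ih, ← mul_assoc g', hc]; group
        _ = ⁅g', v⁆ ^ (i + 1) * v := by rw [hrel, pow_succ, mul_assoc]
  have h4 := h3 m
  rw [hgm, one_mul, inv_one, mul_one, right_eq_mul, hj, pow_succ, pow_mul, pow_two, h.ele _ hxE,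
    one_pow, one_mul] at h4
  exact commutatorElement_eq_one_iff_mul_comm.1 h4

omit h in
/-- A `p`-group fixes a member of an invariant set of size prime to `p`. -/
theorem exists_fixed [Finite G] {p : ℕ} [Fact p.Prime] {P : Subgroup G} (hP : IsPGroup p P) (T : Set G)
    (hT : ∀ g ∈ P, ∀ t ∈ T, g * t * g⁻¹ ∈ T) (hd : ¬ p ∣ Nat.card T) :
    ∃ t ∈ T, ∀ g ∈ P, Commute g t := by
  letI : MulAction P T :=
    { smul := fun g t => ⟨(g : G) * t * (g : G)⁻¹, hT g g.2 t t.2⟩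
      one_smul := fun t => Subtype.ext (show (1 : G) * t * (1 : G)⁻¹ = t by simp)
      mul_smul := fun a b t => Subtype.ext (show ((a : G) * b) * t * ((a : G) * b)⁻¹ =
        (a : G) * ((b : G) * t * (b : G)⁻¹) * (a : G)⁻¹ by group) }
  obtain ⟨t, ht⟩ := hP.nonempty_fixed_point_of_prime_not_dvd_card T hd
  exact ⟨t, t.2, fun g hg => mul_inv_eq_iff_eq_mul.1 (congrArg Subtype.val (ht ⟨g, hg⟩))⟩

omit h in
/-- A Sylow subgroup covers a `p`-section. -/
theorem le_sup_sylow [Finite G] {p : ℕ} [Fact p.Prime] {C H M : Subgroup G} [C.Normal] (hHM : H ≤ M)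
    (hM : M ≤ C ⊔ H) (hp : IsPGroup p ↥(M.map (QuotientGroup.mk' C))) (Y : Sylow p H) :
    M ≤ C ⊔ (Y : Subgroup H).map H.subtype := by
  set f := QuotientGroup.mk' C
  set φ := f.comp H.subtype
  have hr : φ.range = M.map f := by
    rw [MonoidHom.range_comp, Subgroup.range_subtype]
    refine le_antisymm (Subgroup.map_mono hHM) ((Subgroup.map_mono hM).trans ?_)
    rw [Subgroup.map_sup, QuotientGroup.map_mk'_self, bot_sup_eq]
  have h1 : ((Y : Subgroup H).map φ.rangeRestrict).index ∣ (Y : Subgroup H).index :=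
    Subgroup.index_map_dvd _ φ.rangeRestrict_surjective
  have hp' : IsPGroup p φ.range := hr ▸ hp
  obtain ⟨j, hj⟩ := hp'.index ((Y : Subgroup H).map φ.rangeRestrict)
  have hj0 : j = 0 := by
    by_contra hj0
    exact Y.not_dvd_index ((dvd_pow_self p hj0).trans (hj ▸ h1))
  have htop : (Y : Subgroup H).map φ.rangeRestrict = ⊤ :=
    Subgroup.index_eq_one.1 (by rw [hj, hj0, pow_zero])
  intro m hm
  have hmr : f m ∈ φ.range := hr.ge (Subgroup.mem_map_of_mem f hm)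
  obtain ⟨y, hy, e⟩ := htop.ge (Subgroup.mem_top (⟨f m, hmr⟩ : φ.range))
  have e1 : f y = f m := congrArg Subtype.val e
  have h2 : (y : G)⁻¹ * m ∈ C := QuotientGroup.eq.1 e1
  have := mul_mem (Subgroup.mem_sup_right (S := C) (Subgroup.mem_map_of_mem H.subtype hy))
    (Subgroup.mem_sup_left (T := (Y : Subgroup H).map H.subtype) h2)
  simpa using this

omit h in
/-- A nontrivial `2`-element has an involution among its powers. -/
theorem exists_sq_one {S : Subgroup G} (hS : IsPGroup 2 S) {s : G} (hs : s ∈ S) (h1 : s ≠ 1) :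
    ∃ k : ℕ, s ^ k ≠ 1 ∧ s ^ k * s ^ k = 1 := by
  classical
  obtain ⟨m, hm⟩ := hS ⟨s, hs⟩
  have hex : ∃ j, s ^ 2 ^ j = 1 := ⟨m, congrArg Subtype.val hm⟩
  have hj0 : Nat.find hex ≠ 0 := fun e => h1 (by simpa [e] using Nat.find_spec hex)
  refine ⟨2 ^ (Nat.find hex - 1), Nat.find_min hex (by omega), ?_⟩
  rw [← pow_add, ← two_mul, ← pow_succ', Nat.sub_add_cancel (by omega)]
  exact Nat.find_spec hex

/-- Transitivity, a critical part `K` and the squaring map force a normal Sylow `2`-subgroup. -/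
theorem sylow_le_pCore [Finite G] [Group.IsSolvable G] (S : Sylow 2 G)
    (hQE : Cfsg.pCore 2 G ≤ Subgroup.centralizer (E : Set G))
    (hinv : ∀ x : G, x * x = 1 → x ∈ E)
    (htrans : ∀ a ∈ E, ∀ b ∈ E, a ≠ 1 → b ≠ 1 → IsConj a b)
    (htwo : ∃ a b : G, a ∈ E ∧ b ∈ E ∧ a ≠ b ∧ a ≠ 1 ∧ b ≠ 1)
    (hfaith : ∀ g : G, Odd (orderOf g) → (∀ v ∈ K, Commute g v) → g = 1) :
    (S : Subgroup G) ≤ Cfsg.pCore 2 G := by
  classical
  obtain ⟨e1, e2, he1, he2, hne12, he11, he21⟩ := htwo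
  have hconjE : ∀ a ∈ E, ∀ b ∈ E, a ≠ 1 → b ≠ 1 → ∃ g : G, g * a * g⁻¹ = b := fun a ha b hb h1 h2 =>
    isConj_iff.1 (htrans a ha b hb h1 h2)
  set C := Subgroup.centralizer (E : Set G) with hC
  have hCn : C.Normal := inferInstance
  have hEC : ∀ e ∈ E, ∀ c ∈ C, Commute e c := fun e he c hc => Subgroup.mem_centralizer_iff.1 hc e he
  -- the quotient by the centralizer is nontrivial
  have hCtop : C ≠ ⊤ := by
    intro e
    obtain ⟨g, hg⟩ := hconjE e1 he1 e2 he2 he11 he21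
    refine hne12 ?_
    rw [← hg, ← (hEC e1 he1 g (e ▸ Subgroup.mem_top g)).eq, mul_inv_cancel_right]
  haveI : Nontrivial (G ⧸ C) := QuotientGroup.nontrivial_iff.2 hCtop
  obtain ⟨r, hr, hrne⟩ : ∃ r : ℕ, r.Prime ∧ Cfsg.pCore r (G ⧸ C) ≠ ⊥ := by
    by_contra hall
    push Not at hall
    have hF : Cfsg.fittingSubgroup (G ⧸ C) = ⊥ := by
      rw [Grp.fittingSubgroup_eq_iSup_pCore]
      exact eq_bot_iff.2 (iSup_le fun q => le_of_eq (hall _ q.2))
    have h1 := Grp.centralizer_fittingSubgroup_le (G := G ⧸ C)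
    rw [hF] at h1
    have h2 : (⊤ : Subgroup (G ⧸ C)) ≤ ⊥ := le_trans (fun x _ => Subgroup.mem_centralizer_iff.2
      fun y hy => by rw [Subgroup.mem_bot.1 hy, one_mul, mul_one]) h1
    exact top_ne_bot (le_bot_iff.1 h2)
  haveI := Fact.mk hr
  set fC := QuotientGroup.mk' C
  set M := (Cfsg.pCore r (G ⧸ C)).comap fC
  haveI : (Cfsg.pCore r (G ⧸ C)).Normal := Grp.pCore_isNormal
  haveI hMn : M.Normal := inferInstance
  have hMp : IsPGroup r ↥(M.map fC) := by
    rw [Subgroup.map_comap_eq_self_of_surjective (QuotientGroup.mk'_surjective C)]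
    exact Grp.pCore_isPGroup
  have hCM : C ≤ M := fun c hc => Subgroup.mem_comap.2
    (by rw [show fC c = 1 from (QuotientGroup.eq_one_iff c).2 hc]; exact one_mem _)
  have hMC : ¬ M ≤ C := by
    intro hle
    refine hrne (eq_bot_iff.2 fun x hx => ?_)
    obtain ⟨g, rfl⟩ := QuotientGroup.mk'_surjective C x
    exact Subgroup.mem_bot.2 ((QuotientGroup.eq_one_iff g).2 (hle hx))
  -- `M` fixes no involution
  have hMfix : ∀ e ∈ E, (∀ m ∈ M, Commute e m) → e = 1 := by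
    intro e he hm
    by_contra hne
    refine hMC fun m hmM => Subgroup.mem_centralizer_iff.2 fun b hb => ?_
    by_cases hb1 : b = 1
    · rw [hb1, one_mul, mul_one]
    obtain ⟨g, rfl⟩ := hconjE e he b hb hne hb1
    have h1 := (hm _ (hMn.conj_mem m hmM g⁻¹)).eq
    calc g * e * g⁻¹ * m = g * (e * (g⁻¹ * m * g⁻¹⁻¹)) * g⁻¹ := by group
      _ = g * (g⁻¹ * m * g⁻¹⁻¹ * e) * g⁻¹ := by rw [h1]
      _ = m * (g * e * g⁻¹) := by group
  -- an `r`-subgroup covering `M / C` fixes no involution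
  have hYfix : ∀ H : Subgroup G, H ≤ M → M ≤ C ⊔ H → ∀ Y : Sylow r H, ∀ e ∈ E,
      (∀ y ∈ (Y : Subgroup H).map H.subtype, Commute y e) → e = 1 := by
    intro H hH1 hH2 Y e he hy
    refine hMfix e he fun m hm => ?_
    have hle : C ⊔ (Y : Subgroup H).map H.subtype ≤ Subgroup.centralizer {e} :=
      sup_le (fun c hc => Subgroup.mem_centralizer_singleton_iff.2 (hEC e he c hc).eq.symm)
        fun y hy' => Subgroup.mem_centralizer_singleton_iff.2 (hy y hy').eq
    exact (Subgroup.mem_centralizer_singleton_iff.1 (hle (le_sup_sylow hH1 hH2 hMp Y hm))).symm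
  -- `r` is odd
  have hE2 : IsPGroup 2 E := fun e =>
    ⟨1, Subtype.ext (by simpa [pow_two] using h.ele _ e.2)⟩
  have hr2 : r ≠ 2 := by
    rintro rfl
    obtain ⟨Y⟩ : Nonempty (Sylow 2 M) := inferInstance
    obtain ⟨n, hn⟩ := IsPGroup.iff_card.1 hE2
    have hT : ¬ 2 ∣ Nat.card ↥((E : Set G) \ {1}) := by
      rw [Nat.card_coe_set_eq, Set.ncard_sdiff_singleton_of_mem (one_mem E), ← Nat.card_coe_set_eq]
      change ¬ 2 ∣ Nat.card E - 1
      rw [hn]
      have hn0 : n ≠ 0 := by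
        rintro rfl
        rw [pow_zero] at hn
        exact he11 (Subgroup.mem_bot.1 ((Subgroup.card_eq_one.1 hn) ▸ he1))
      have h1 : 2 ∣ 2 ^ n := dvd_pow_self 2 hn0
      have h2 := Nat.two_pow_pos n
      omega
    obtain ⟨t, ⟨htE, ht1⟩, ht⟩ := exists_fixed (Y.isPGroup'.map M.subtype) ((E : Set G) \ {1}) (fun g _ t ht =>
      ⟨hE.conj_mem t ht.1 g, fun e => ht.2 (conj_eq_one_iff.1 e)⟩) hT
    exact ht1 (hYfix M le_rfl le_sup_right Y t htE ht)
  have hr_odd : Odd r := hr.odd_of_ne_two hr2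
  have hMC2 : ∀ x ∈ M, (∃ k : ℕ, x ^ 2 ^ k = 1) → x ∈ C := by
    rintro x hx ⟨k, hk⟩
    obtain ⟨j, hj⟩ := hMp ⟨fC x, Subgroup.mem_map_of_mem fC hx⟩
    refine (QuotientGroup.eq_one_iff x).1 (orderOf_eq_one_iff.1 (Nat.eq_one_of_dvd_coprimes
      ((((Nat.coprime_primes Nat.prime_two hr).2 (Ne.symm hr2)).pow k j))
      (orderOf_dvd_of_pow_eq_one (x := fC x) (by rw [← map_pow, hk, map_one]))
      (orderOf_dvd_of_pow_eq_one (congrArg Subtype.val hj))))
  -- the Sylow subgroup centralizes `E`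
  have hSC : (S : Subgroup G) ≤ C := by
    obtain ⟨Y⟩ : Nonempty (Sylow r M) := inferInstance
    set Yg := (Y : Subgroup M).map M.subtype
    have hYp : IsPGroup r Yg := Y.isPGroup'.map M.subtype
    have hF : Subgroup.normalizer (Yg : Set G) ⊔ M = ⊤ := Sylow.normalizer_sup_eq_top Y
    have hNodd : ¬ 2 ∣ Nat.card (Subgroup.normalizer (Yg : Set G)) := by
      intro hd
      obtain ⟨⟨x, hxN⟩, hx⟩ := exists_prime_orderOf_dvd_card' 2 hd
      rw [← Subgroup.orderOf_coe] at hx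
      change orderOf x = 2 at hx
      have hxx : x * x = 1 := by rw [← pow_two, ← hx]; exact pow_orderOf_eq_one x
      have hxE := hinv x hxx
      have hx1 : x = 1 := hYfix M le_rfl le_sup_right Y x hxE fun y hy => by
        have hc1 : ⁅y, x⁆ ∈ E := by
          rw [commutatorElement_def]
          exact mul_mem (hE.conj_mem x hxE y) (inv_mem hxE)
        have hc2 : ⁅y, x⁆ ∈ Yg := by
          rw [show ⁅y, x⁆ = y * (x * y⁻¹ * x⁻¹) by simp [commutatorElement_def, mul_assoc]]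
          exact mul_mem hy ((Subgroup.mem_normalizer_iff.1 hxN _).1 (inv_mem hy))
        have hcop : Disjoint E Yg := IsPGroup.disjoint_of_ne 2 r hr2.symm E Yg hE2 hYp
        exact commutatorElement_eq_one_iff_mul_comm.1
          (Subgroup.disjoint_def.1 hcop hc1 hc2)
      rw [hx1, orderOf_one] at hx
      norm_num at hx
    have hidx : ¬ 2 ∣ M.index := fun hd => hNodd (hd.trans (by
      have h1 : M.relIndex (Subgroup.normalizer (Yg : Set G)) = M.index := by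
        rw [← Subgroup.relIndex_sup_right, hF, Subgroup.relIndex_top_right]
      rw [← h1]
      exact Subgroup.relIndex_dvd_card _ _))
    intro s hs
    obtain ⟨k, hk⟩ := S.isPGroup' ⟨s, hs⟩
    have hk' : s ^ 2 ^ k = 1 := congrArg Subtype.val hk
    refine hMC2 s ?_ ⟨k, hk'⟩
    refine (QuotientGroup.eq_one_iff s).1 (orderOf_eq_one_iff.1 (Nat.eq_one_of_dvd_coprimes
      (Nat.Coprime.pow_left k ((Nat.prime_two.coprime_iff_not_dvd).2 hidx))
      (orderOf_dvd_of_pow_eq_one (x := QuotientGroup.mk' M s) (by rw [← map_pow, hk', map_one]))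
      (by rw [Subgroup.index_eq_card]; exact orderOf_dvd_natCard _)))
  -- the normalizer of `S` is transitive on the involutions
  set NS := Subgroup.normalizer ((S : Subgroup G) : Set G)
  have hFr : NS ⊔ C = ⊤ := Sylow.normalizer_sup_eq_top' S hSC
  have htransN : ∀ a ∈ E, ∀ b ∈ E, a ≠ 1 → b ≠ 1 → ∃ g ∈ NS, g * a * g⁻¹ = b := by
    intro a ha b hb ha1 hb1
    obtain ⟨g, rfl⟩ := hconjE a ha b hb ha1 hb1
    obtain ⟨n, hn, c, hc, rfl⟩ :=
      Subgroup.mem_sup_of_normal_right.1 (hFr.ge (Subgroup.mem_top g))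
    refine ⟨n, hn, ?_⟩
    calc n * a * n⁻¹ = n * (a * c) * c⁻¹ * n⁻¹ := by group
      _ = n * (c * a) * c⁻¹ * n⁻¹ := by rw [(hEC a ha c hc).eq]
      _ = n * c * a * (n * c)⁻¹ := by group
  obtain ⟨Y0, hY0N, hY0p, hY0fix⟩ : ∃ Y0 : Subgroup G, Y0 ≤ NS ∧ IsPGroup r Y0 ∧
      ∀ e ∈ E, (∀ y ∈ Y0, Commute y e) → e = 1 := by
    obtain ⟨Y⟩ : Nonempty (Sylow r ↥(M ⊓ NS)) := inferInstance
    refine ⟨_, (Subgroup.map_subtype_le _).trans inf_le_right, Y.isPGroup'.map (M ⊓ NS).subtype,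
      hYfix _ inf_le_left (fun m hm => ?_) Y⟩
    obtain ⟨n, hn, c, hc, rfl⟩ :=
      Subgroup.mem_sup_of_normal_right.1 (hFr.ge (Subgroup.mem_top m))
    refine mul_mem (Subgroup.mem_sup_right ⟨?_, hn⟩) (Subgroup.mem_sup_left hc)
    simpa using mul_mem hm (inv_mem (hCM hc))
  -- the quotient by the core
  by_contra hSQ
  haveI hQn : (Cfsg.pCore 2 G).Normal := Grp.pCore_isNormal
  have hT0 := ker0_eq h hQE hfaith
  set Q := Cfsg.pCore 2 G
  set f2 := QuotientGroup.mk' Q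
  have hf2 : ∀ {a}, f2 a = 1 ↔ a ∈ Q := fun {a} => QuotientGroup.eq_one_iff a
  have hker : ∀ {q}, q ∈ Q → q ∈ ker0 E K := fun {q} hq => hT0.ge hq
  have hact : ∀ {a b x : G}, f2 a = f2 b → x ∈ movedPart E K →
      π (a * x * a⁻¹) = π (b * x * b⁻¹) := by
    intro a b x e hx
    rw [show b * x * b⁻¹ = a * ((a⁻¹ * b) * x * (a⁻¹ * b)⁻¹) * a⁻¹ by group]
    exact (pi_conj_congr ((hker (QuotientGroup.eq.1 e)).2 x hx)).symm
  have hXK : ∀ {x}, x ∈ movedPart E K → x ∈ K := fun {x} hx => moved_le h hx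
  set Sb := (S : Subgroup G).map f2
  set A : Subgroup (G ⧸ Q) :=
    { carrier := {a | a ∈ Sb ∧ a * a = 1 ∧ ∀ b ∈ Sb, Commute a b}
      one_mem' := ⟨one_mem _, one_mul 1, fun b _ => Commute.one_left b⟩
      mul_mem' := fun {a b} ha hb => ⟨mul_mem ha.1 hb.1, by
        rw [show a * b * (a * b) = a * (b * a) * b by group, ← (ha.2.2 b hb.1).eq,
          show a * (a * b) * b = a * a * (b * b) by group, ha.2.1, hb.2.1, one_mul],
        fun c hc => (ha.2.2 c hc).mul_left (hb.2.2 c hc)⟩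
      inv_mem' := fun {a} ha => ⟨inv_mem ha.1, by rw [← mul_inv_rev, ha.2.1, inv_one],
        fun c hc => (ha.2.2 c hc).inv_left⟩ }
  have hAmem : ∀ {a}, a ∈ A ↔ a ∈ Sb ∧ a * a = 1 ∧ ∀ b ∈ Sb, Commute a b := Iff.rfl
  -- lifts
  have hlift : ∀ {a : G}, f2 a ∈ A → a ∈ C ∧ a * a ∈ ker0 E K := by
    intro a ha
    refine ⟨?_, hker (hf2.1 (by rw [map_mul]; exact (hAmem.1 ha).2.1))⟩
    obtain ⟨s, hs, e⟩ := (hAmem.1 ha).1
    have := mul_mem (hSC hs) (hQE (QuotientGroup.eq.1 e))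
    simpa using this
  have hlcomm : ∀ {a b : G}, f2 a ∈ A → f2 b ∈ A → ⁅a, b⁆ ∈ ker0 E K := fun {a b} ha hb =>
    hker (hf2.1 (by
      rw [map_commutatorElement, commutatorElement_eq_one_iff_mul_comm]
      exact ((hAmem.1 ha).2.2 _ (hAmem.1 hb).1).eq))
  have hAne : A ≠ ⊥ := by
    haveI : Nontrivial ↥Sb := by
      rw [Subgroup.nontrivial_iff_ne_bot]
      intro e
      exact hSQ fun s hs => hf2.1 (Subgroup.mem_bot.1 (e ▸ Subgroup.mem_map_of_mem f2 hs))
    have hSb : IsPGroup 2 ↥Sb := S.isPGroup'.map f2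
    haveI := hSb.center_nontrivial
    have hd : 2 ∣ Nat.card (Subgroup.center ↥Sb) := by
      obtain ⟨k, hk⟩ := IsPGroup.iff_card.1 (hSb.to_subgroup (Subgroup.center _))
      have h1 := Finite.one_lt_card (α := Subgroup.center ↥Sb)
      rw [hk] at h1 ⊢
      exact dvd_pow_self 2 (fun e => by rw [e] at h1; exact lt_irrefl _ h1)
    obtain ⟨⟨⟨a, ha⟩, hcen⟩, hord⟩ := exists_prime_orderOf_dvd_card' 2 hd
    rw [← Subgroup.orderOf_coe, ← Subgroup.orderOf_coe] at hord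
    change orderOf a = 2 at hord
    intro e
    have haA : a ∈ A := hAmem.2 ⟨ha, by rw [← pow_two, ← hord]; exact pow_orderOf_eq_one a,
      fun b hb => (congrArg Subtype.val (Subgroup.mem_center_iff.1 hcen ⟨b, hb⟩)).symm⟩
    rw [e, Subgroup.mem_bot] at haA
    rw [haA, orderOf_one] at hord
    norm_num at hord
  have hAel : Cfsg.IsElementaryAbelian 2 A :=
    ⟨⟨⟨fun a b => Subtype.ext ((hAmem.1 a.2).2.2 b (hAmem.1 b.2).1).eq⟩⟩,
      fun a ha => by rw [pow_two]; exact (hAmem.1 ha).2.1⟩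
  -- `Fix` and the commutator sets of hyperplanes
  let FixB : Subgroup (G ⧸ Q) → G → Prop := fun B v =>
    v ∈ movedPart E K ∧ ∀ b : G, f2 b ∈ B → π (b * v * b⁻¹) = π v
  let Moved : Subgroup (G ⧸ Q) → Prop := fun B => B ≤ A ∧ B.relIndex A = 2 ∧
    ∃ v a, FixB B v ∧ f2 a ∈ A ∧ π (a * v * a⁻¹) ≠ π v
  -- the odd part of the quotient
  set Cb := C.map f2
  haveI hCbn : Cb.Normal := hCn.map f2 (QuotientGroup.mk'_surjective Q)
  set F := Cfsg.fittingSubgroup (G ⧸ Q)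
  haveI hFn : F.Normal := Grp.fittingSubgroup_isNormal
  have hFodd : ¬ 2 ∣ Nat.card F := by
    intro hd
    haveI : Fact (Nat.Prime 2) := ⟨Nat.prime_two⟩
    have hle : F ≤ Cfsg.pPrimeCore 2 (G ⧸ Q) := by
      show Cfsg.fittingSubgroup (G ⧸ Q) ≤ _
      rw [Grp.fittingSubgroup_eq_iSup_pCore]
      refine iSup_le fun q => ?_
      haveI := Fact.mk q.2
      by_cases hq : (q : ℕ) = 2
      · refine le_trans (le_of_eq ?_) bot_le
        rw [hq, eq_bot_iff]
        intro x hx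
        obtain ⟨g, rfl⟩ := QuotientGroup.mk'_surjective Q x
        refine Subgroup.mem_bot.2 (hf2.2 (Grp.le_pCore
          ((Grp.pCore_isNormal (p := 2) (G := G ⧸ Q)).comap f2) ?_ (Subgroup.mem_comap.2 hx)))
        refine (Grp.pCore_isPGroup (p := 2) (G := G ⧸ Q)).comap_of_ker_isPGroup f2 ?_
        rw [QuotientGroup.ker_mk']
        exact Grp.pCore_isPGroup
      · obtain ⟨n, hn⟩ := IsPGroup.iff_card.mp (Grp.pCore_isPGroup (p := (q : ℕ)) (G := G ⧸ Q))
        exact Grp.le_pPrimeCore Grp.pCore_isNormal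
          (by rw [hn]; exact ((Nat.coprime_primes q.2 Nat.prime_two).mpr hq).pow_left n)
    exact (Nat.Prime.coprime_iff_not_dvd Nat.prime_two).1
      (Grp.pPrimeCore_coprime (p := 2) (G := G ⧸ Q)).symm (hd.trans (Subgroup.card_dvd_of_le hle))
  set R := F ⊓ Cb
  have hAR : A ≤ Subgroup.normalizer (R : Set (G ⧸ Q)) := by
    rw [Subgroup.normalizer_eq_top]; exact le_top
  have hRodd : ¬ 2 ∣ Nat.card R := fun hd => hFodd (hd.trans (Subgroup.card_dvd_of_le inf_le_left))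
  have hfaithR : ∀ a ∈ A, (∀ t ∈ R, Commute a t) → a = 1 := by
    intro a ha hc
    have haC : a ∈ Cb := Subgroup.map_mono hSC (hAmem.1 ha).1
    have hainv : a⁻¹ = a := inv_eq_of_mul_eq_one_right (hAmem.1 ha).2.1
    have haF : a ∈ Subgroup.centralizer (F : Set (G ⧸ Q)) := by
      refine Subgroup.mem_centralizer_iff.2 fun t ht => ?_
      have hu : ⁅a, t⁆ ∈ R := by
        refine ⟨?_, ?_⟩
        · rw [commutatorElement_def]
          show _ ∈ F; exact mul_mem (hFn.conj_mem t ht a) (inv_mem (show t ∈ F from ht))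
        · rw [show ⁅a, t⁆ = a * (t * a⁻¹ * t⁻¹) by simp [commutatorElement_def, mul_assoc]]
          exact mul_mem haC (hCbn.conj_mem _ (inv_mem haC) t)
      have h1 : ⁅a, t⁆ * ⁅a, t⁆ = 1 := by
        have hac := hc _ hu
        have h2 : ⁅a, t⁆ = ⁅a, t⁆⁻¹ := by
          calc ⁅a, t⁆ = a * ⁅a, t⁆ * a⁻¹ := by rw [hac.eq, mul_inv_cancel_right]
            _ = a * a * (t * a⁻¹ * t⁻¹ * a⁻¹) := by simp [commutatorElement_def, mul_assoc]
            _ = ⁅a, t⁆⁻¹ := by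
              rw [(hAmem.1 ha).2.1, one_mul]
              simp [commutatorElement_def, mul_assoc, hainv]
        nth_rewrite 1 [h2]
        exact inv_mul_cancel _
      refine (commutatorElement_eq_one_iff_mul_comm.1 ?_).symm
      by_contra hne
      have h2 : orderOf ⁅a, t⁆ = 2 := orderOf_eq_prime (by rw [pow_two]; exact h1) hne
      exact hRodd (by rw [← h2]; exact Subgroup.orderOf_dvd_natCard _ hu)
    by_contra hne
    have h2 : orderOf a = 2 := orderOf_eq_prime (by rw [pow_two]; exact (hAmem.1 ha).2.1) hne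
    exact hFodd (by
      rw [← h2]
      exact Subgroup.orderOf_dvd_natCard _ (Grp.centralizer_fittingSubgroup_le haF))
  -- hyperplanes without moved vectors
  have hnot : ∀ B, B ≤ A → B.relIndex A = 2 → ¬ Moved B →
      R ⊓ Subgroup.centralizer (B : Set (G ⧸ Q)) ≤ Subgroup.centralizer (A : Set (G ⧸ Q)) := by
    intro B hBA hBi hnm t ht
    obtain ⟨⟨-, ⟨c, hc, rfl⟩⟩, hcB⟩ := ht
    refine Subgroup.mem_centralizer_iff.2 fun ab hab => ?_
    obtain ⟨a, rfl⟩ := QuotientGroup.mk'_surjective Q ab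
    obtain ⟨haC, ha2⟩ := hlift hab
    -- commutators with `c` are fixed by `B`
    have hv : ∀ x ∈ movedPart E K, ⁅c, x⁆ ∈ movedPart E K ∧ π (a * ⁅c, x⁆ * a⁻¹) = π ⁅c, x⁆ := by
      intro x hx
      have hm : ⁅c, x⁆ ∈ movedPart E K := by
        rw [commutatorElement_def]; exact mul_mem (moved_conj h hx c) (inv_mem hx)
      have hfB : FixB B ⁅c, x⁆ := by
        refine ⟨hm, fun b hb => ?_⟩
        obtain ⟨hbC, hb2⟩ := hlift (hBA hb)
        have hbc : f2 (b * c * b⁻¹) = f2 c := by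
          rw [map_mul, map_mul, map_inv, Subgroup.mem_centralizer_iff.1 hcB _ hb, mul_inv_cancel_right]
        have hcb : ⁅c, b⁆ ∈ ker0 E K := hker (hf2.1 (by
          rw [map_commutatorElement, commutatorElement_eq_one_iff_mul_comm]
          exact (Subgroup.mem_centralizer_iff.1 hcB _ hb).symm))
        have hx' := moved_conj h hx b
        have hwX : ⁅b, x⁆ ∈ movedPart E K := by
          rw [commutatorElement_def]; exact mul_mem hx' (inv_mem hx)
        have hwfix := comm_fix h hbC hc (hXK hx) (hb2.2 x hx) (comm_on h hcb hx)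
        have e1 : b * ⁅c, x⁆ * b⁻¹ =
            (b * c * b⁻¹) * (b * x * b⁻¹) * (b * c * b⁻¹)⁻¹ * (b * x * b⁻¹)⁻¹ := by
          simp only [commutatorElement_def]; group
        have e2 : b * x * b⁻¹ = ⁅b, x⁆ * x := by simp [commutatorElement_def]
        rw [e1, map_mul π _ (b * x * b⁻¹)⁻¹, hact hbc hx', e2]
        rw [show c * (⁅b, x⁆ * x) * c⁻¹ = (c * ⁅b, x⁆ * c⁻¹) * (c * x * c⁻¹) by group,
          map_mul π (c * ⁅b, x⁆ * c⁻¹), hwfix, map_inv, map_mul π ⁅b, x⁆ x, mul_inv_rev,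
          show ⁅c, x⁆ = c * x * c⁻¹ * x⁻¹ from commutatorElement_def c x, map_mul π _ x⁻¹, map_inv,
          pi_inv h (hXK hwX), pi_comm h (hXK hwX) (conj_mem h (hXK hx) c)]
        rw [pi_inv h (hXK hx), mul_assoc, ← mul_assoc (π ⁅b, x⁆), pi_comm h (hXK hwX) (hXK hx),
          mul_assoc (π x), pi_sq h (hXK hwX), mul_one]
      refine ⟨hm, ?_⟩
      by_contra hne
      exact hnm ⟨hBA, hBi, _, a, hfB, hab, hne⟩
    have hcfix : ∀ x ∈ movedPart E K, π (c * ⁅a, x⁆ * c⁻¹) = π ⁅a, x⁆ := by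
      intro x hx
      have hwX : ⁅a, x⁆ ∈ movedPart E K := by
        rw [commutatorElement_def]; exact mul_mem (moved_conj h hx a) (inv_mem hx)
      refine iso_fix h hc (hXK hwX) ?_
      obtain ⟨hm, hfix⟩ := hv _ hwX
      have h1 := symm_one h (perp_fixed h haC (hXK hx) (hXK hm) hfix)
      rw [show c * ⁅a, x⁆ * c⁻¹ = ⁅c, ⁅a, x⁆⁆ * ⁅a, x⁆ by rw [commutatorElement_def c, inv_mul_cancel_right],
        mul_left h (hXK hm) (hXK hwX) (hXK hwX), h1, one_mul, commutatorElement_self]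
    have hcomm : ∀ x ∈ movedPart E K,
        π (a * (c * x * c⁻¹) * a⁻¹) = π (c * (a * x * a⁻¹) * c⁻¹) := by
      intro x hx
      obtain ⟨hm, hfix⟩ := hv x hx
      have hwX : ⁅a, x⁆ ∈ movedPart E K := by
        rw [commutatorElement_def]; exact mul_mem (moved_conj h hx a) (inv_mem hx)
      have e1 : π (a * (c * x * c⁻¹) * a⁻¹) = π ⁅c, x⁆ * (π ⁅a, x⁆ * π x) := by
        rw [show a * (c * x * c⁻¹) * a⁻¹ = (a * ⁅c, x⁆ * a⁻¹) * (⁅a, x⁆ * x) by
          simp only [commutatorElement_def]; group, map_mul π _ (⁅a, x⁆ * x), hfix, map_mul π ⁅a, x⁆]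
      have e2 : π (c * (a * x * a⁻¹) * c⁻¹) = π ⁅a, x⁆ * (π ⁅c, x⁆ * π x) := by
        rw [show c * (a * x * a⁻¹) * c⁻¹ = (c * ⁅a, x⁆ * c⁻¹) * (⁅c, x⁆ * x) by
          simp only [commutatorElement_def]; group, map_mul π _ (⁅c, x⁆ * x), hcfix x hx,
          map_mul π ⁅c, x⁆]
      rw [e1, e2, ← mul_assoc, ← mul_assoc, pi_comm h (hXK hm) (hXK hwX)]
    have hk : ⁅a, c⁆ ∈ ker0 E K := by
      refine ⟨?_, fun x hx => ?_⟩
      · rw [commutatorElement_def]
        exact mul_mem (mul_mem (mul_mem haC hc) (inv_mem haC)) (inv_mem hc)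
      · have hy : a⁻¹ * (c⁻¹ * x * c⁻¹⁻¹) * a⁻¹⁻¹ ∈ movedPart E K :=
          moved_conj h (moved_conj h hx c⁻¹) a⁻¹
        have h1 := hcomm _ hy
        rwa [show a * (c * (a⁻¹ * (c⁻¹ * x * c⁻¹⁻¹) * a⁻¹⁻¹) * c⁻¹) * a⁻¹ = ⁅a, c⁆ * x * ⁅a, c⁆⁻¹ by
            simp only [commutatorElement_def]; group,
          show c * (a * (a⁻¹ * (c⁻¹ * x * c⁻¹⁻¹) * a⁻¹⁻¹) * a⁻¹) * c⁻¹ = x by group] at h1
    have h2 := hf2.2 (hT0.le hk)
    rw [map_commutatorElement, commutatorElement_eq_one_iff_mul_comm] at h2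
    exact h2
  -- two hyperplanes with moved vectors
  obtain ⟨B1, B2, hm1, hm2, hne⟩ : ∃ B1 B2, Moved B1 ∧ Moved B2 ∧ B1 ≠ B2 := by
    by_contra hone
    push Not at hone
    have hgen : ∀ T : Subgroup (G ⧸ Q),
        (∀ D, D ≤ A → D.relIndex A = 2 → R ⊓ Subgroup.centralizer (D : Set (G ⧸ Q)) ≤ T) → R ≤ T := by
      intro T hT
      haveI : Fact (Nat.Prime 2) := ⟨Nat.prime_two⟩
      refine le_trans (le_inf le_rfl ?_) (Grp.inf_centralizer_le_of_hyperplanes hAel R hRodd hAR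
        (F := ⊥) bot_le (Ne.symm hAne) fun D _ hDA hDi => hT D hDA hDi)
      intro x _
      exact Subgroup.mem_centralizer_iff.2 fun y hy => by rw [Subgroup.mem_bot.1 hy, one_mul, mul_one]
    by_cases hex : ∃ B0, Moved B0
    · obtain ⟨B0, hB0⟩ := hex
      have hR : R ≤ Subgroup.centralizer (B0 : Set (G ⧸ Q)) := hgen _ fun D hDA hDi => by
        by_cases hD : Moved D
        · rw [hone D B0 hD hB0]; exact inf_le_right
        · exact (hnot D hDA hDi hD).trans (Subgroup.centralizer_le hB0.1)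
      have hB0bot : B0 = ⊥ := eq_bot_iff.2 fun b hb => Subgroup.mem_bot.2
        (hfaithR b (hB0.1 hb) fun t ht => Subgroup.mem_centralizer_iff.1 (hR ht) b hb)
      -- `A` has order two and is centralized by `Y0`
      have hA2 : Nat.card A = 2 := by
        have h1 := hB0.2.1
        rwa [hB0bot, Subgroup.relIndex_bot_left] at h1
      obtain ⟨a, ha, hauniq⟩ : ∃ a ∈ A, a ≠ 1 ∧ ∀ b ∈ A, b = 1 ∨ b = a := by
        obtain ⟨⟨a, ha⟩, hane'⟩ := (Subgroup.ne_bot_iff_exists_ne_one).1 hAne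
        have hane : a ≠ 1 := fun e => hane' (Subtype.ext e)
        refine ⟨a, ha, hane, fun b hb => ?_⟩
        obtain ⟨u, v, huv, huniv⟩ := Nat.card_eq_two_iff.1 hA2
        have h1 : (⟨a, ha⟩ : A) ≠ 1 := fun e => hane (congrArg Subtype.val e)
        by_contra hb'
        push Not at hb'
        have hb1 : (⟨b, hb⟩ : A) ≠ 1 := fun e => hb'.1 (congrArg Subtype.val e)
        have hba : (⟨b, hb⟩ : A) ≠ ⟨a, ha⟩ := fun e => hb'.2 (congrArg Subtype.val e)
        have hm : ∀ z : A, z = u ∨ z = v := fun z => by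
          have := huniv.ge (Set.mem_univ z)
          simpa using this
        rcases hm 1 with e1 | e1 <;> rcases hm ⟨a, ha⟩ with e2 | e2 <;>
          rcases hm ⟨b, hb⟩ with e3 | e3 <;>
          first
            | exact h1 (e2.trans e1.symm)
            | exact hb1 (e3.trans e1.symm)
            | exact hba (e3.trans e2.symm)
      obtain ⟨haSb, ha2, hacomm⟩ := hAmem.1 ha
      obtain ⟨s0, hs0, rfl⟩ := haSb
      set T : Set G := {t | f2 t = f2 s0}
      have hTcard : Nat.card T = Nat.card Q := by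
        refine Nat.card_congr
          { toFun := fun t => ⟨s0⁻¹ * t, QuotientGroup.eq.1 (t.2).symm⟩
            invFun := fun q => ⟨s0 * q, by
              show f2 (s0 * q) = f2 s0
              rw [map_mul, hf2.2 q.2, mul_one]⟩
            left_inv := fun t => Subtype.ext (mul_inv_cancel_left s0 _)
            right_inv := fun q => Subtype.ext (inv_mul_cancel_left s0 _) }
      have hTd : ¬ r ∣ Nat.card T := by
        rw [hTcard]
        obtain ⟨n, hn⟩ := IsPGroup.iff_card.1 (Grp.pCore_isPGroup (p := 2) (G := G))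
        rw [hn]
        exact fun hd => hr2 ((Nat.prime_dvd_prime_iff_eq hr Nat.prime_two).1 (hr.dvd_of_dvd_pow hd))
      have hTinv : ∀ g ∈ Y0, ∀ t ∈ T, g * t * g⁻¹ ∈ T := by
        intro g hg t ht
        show f2 (g * t * g⁻¹) = f2 s0
        rw [map_mul, map_mul, map_inv, show f2 t = f2 s0 from ht]
        have hgN : ∀ z, z ∈ Sb → f2 g * z * (f2 g)⁻¹ ∈ Sb := by
          rintro _ ⟨z, hz, rfl⟩
          rw [← map_inv, ← map_mul, ← map_mul]
          exact Subgroup.mem_map_of_mem f2 ((Subgroup.mem_normalizer_iff.1 (hY0N hg) z).1 hz)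
        have hgN' : ∀ z, z ∈ Sb → (f2 g)⁻¹ * z * f2 g ∈ Sb := by
          rintro _ ⟨z, hz, rfl⟩
          rw [← map_inv, ← map_mul, ← map_mul]
          refine Subgroup.mem_map_of_mem f2 ?_
          have := (Subgroup.mem_normalizer_iff.1 (inv_mem (hY0N hg)) z).1 hz
          rwa [inv_inv] at this
        have hmem : f2 g * f2 s0 * (f2 g)⁻¹ ∈ A := hAmem.2 ⟨hgN _ (Subgroup.mem_map_of_mem f2 hs0),
          by rw [show f2 g * f2 s0 * (f2 g)⁻¹ * (f2 g * f2 s0 * (f2 g)⁻¹) =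
            f2 g * (f2 s0 * f2 s0) * (f2 g)⁻¹ by group, ha2, mul_one, mul_inv_cancel],
          fun z hz => by
            have h1 := (hacomm _ (hgN' z hz)).eq
            show f2 g * f2 s0 * (f2 g)⁻¹ * z = z * (f2 g * f2 s0 * (f2 g)⁻¹)
            calc f2 g * f2 s0 * (f2 g)⁻¹ * z
                = f2 g * (f2 s0 * ((f2 g)⁻¹ * z * f2 g)) * (f2 g)⁻¹ := by group
              _ = f2 g * ((f2 g)⁻¹ * z * f2 g * f2 s0) * (f2 g)⁻¹ := by rw [h1]
              _ = z * (f2 g * f2 s0 * (f2 g)⁻¹) := by group⟩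
        exact (hauniq.2 _ hmem).resolve_left fun e => hauniq.1 (conj_eq_one_iff.1 e)
      obtain ⟨t, ht, htfix⟩ := exists_fixed hY0p T hTinv hTd
      have htS : t ∈ (S : Subgroup G) := by
        have h1 : s0⁻¹ * t ∈ Q := QuotientGroup.eq.1 ht.symm
        have := mul_mem hs0 (Grp.pCore_le_sylow S h1)
        simpa using this
      have ht1 : t ≠ 1 := fun e => hauniq.1 (by
        rw [← show f2 t = f2 s0 from ht, e, map_one])
      obtain ⟨k, hk1, hk2⟩ := exists_sq_one S.isPGroup' htS ht1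
      exact hk1 (hY0fix _ (hinv _ hk2) fun y hy => (htfix y hy).pow_right k)
    · push Not at hex
      have hR : R ≤ Subgroup.centralizer (A : Set (G ⧸ Q)) :=
        hgen _ fun D hDA hDi => hnot D hDA hDi (hex D)
      exact hAne (eq_bot_iff.2 fun a ha => Subgroup.mem_bot.2
        (hfaithR a ha fun t ht => Subgroup.mem_centralizer_iff.1 (hR ht) a ha))
  -- two different hyperplanes are orthogonal
  have hperp : ∀ {B B' : Subgroup (G ⧸ Q)}, B ≤ A → B' ≤ A → B.relIndex A = 2 → B'.relIndex A = 2 →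
      B ≠ B' → ∀ {v v' a' : G}, FixB B v → FixB B' v' → f2 a' ∈ A → ⁅⁅a', v'⁆, v⁆ = 1 := by
    intro B B' hB hB' hi hi' hne v v' a' hv hv' ha'
    have hsup : A ≤ B ⊔ B' := by
      have hd : (B ⊔ B').relIndex A ∣ 2 := hi ▸ Subgroup.relIndex_dvd_of_le_left A le_sup_left
      rcases (Nat.dvd_prime Nat.prime_two).1 hd with h1 | h1
      · exact Subgroup.relIndex_eq_one.1 h1
      · exfalso
        have e1 := Grp.card_mul_relIndex hB
        have e2 := Grp.card_mul_relIndex (sup_le hB hB')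
        have e3 := Grp.card_mul_relIndex hB'
        rw [hi] at e1
        rw [h1, ← e1] at e2
        rw [hi', ← e1] at e3
        have h2 := Subgroup.eq_of_le_of_card_ge (le_sup_left : B ≤ B ⊔ B')
          (le_of_eq (Nat.eq_of_mul_eq_mul_right two_pos e2))
        have h3 : B' ≤ B := h2 ▸ le_sup_right
        exact hne (Subgroup.eq_of_le_of_card_ge h3
          (le_of_eq (Nat.eq_of_mul_eq_mul_right two_pos e3).symm)).symm
    have hmem : f2 a' ∈ ((B ⊔ B' : Subgroup (G ⧸ Q)) : Set (G ⧸ Q)) := hsup ha'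
    rw [Subgroup.coe_mul_of_left_le_normalizer_right B B' (fun b hb => Subgroup.mem_normalizer_iff.2
      fun z => by
        constructor
        · intro hz
          rwa [((hAmem.1 (hB hb)).2.2 z (hAmem.1 (hB' hz)).1).eq, mul_inv_cancel_right]
        · intro hz
          have hc := ((hAmem.1 (hB hb)).2.2 _ (hAmem.1 (hB' hz)).1).eq
          have hz2 : b * z * b⁻¹ = z := by
            have h1 : b⁻¹ * (b * z * b⁻¹) * b = z := by group
            calc b * z * b⁻¹ = b⁻¹ * (b * (b * z * b⁻¹)) := by group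
              _ = b⁻¹ * (b * z * b⁻¹ * b) := by rw [hc]
              _ = z := by group
          rwa [hz2] at hz)] at hmem
    obtain ⟨bb, hbb, bb', hbb', e⟩ := hmem
    obtain ⟨b, rfl⟩ := QuotientGroup.mk'_surjective Q bb
    obtain ⟨b', rfl⟩ := QuotientGroup.mk'_surjective Q bb'
    obtain ⟨hbC, hb2⟩ := hlift (hB hbb)
    have e1 : π ⁅b, v'⁆ = π ⁅a', v'⁆ := by
      have h1 : π (a' * v' * a'⁻¹) = π (b * v' * b⁻¹) := by
        rw [hact (show f2 a' = f2 (b * b') by rw [map_mul]; exact e.symm) hv'.1,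
          show b * b' * v' * (b * b')⁻¹ = b * (b' * v' * b'⁻¹) * b⁻¹ by group,
          pi_conj_congr (hv'.2 b' hbb')]
      rw [commutatorElement_def, commutatorElement_def, map_mul π _ v'⁻¹, map_mul π _ v'⁻¹, h1]
    rw [congr_left h (d_mem h (hXK hv'.1) b) (hXK hv.1) e1]
    exact perp_fixed h hbC (hXK hv'.1) (hXK hv.1) (hv.2 b hbb)
  -- the contradiction
  obtain ⟨hB1, hi1, v1, a1, hv1, ha1, hmv1⟩ := hm1
  obtain ⟨hB2, hi2, v2, a2, hv2, ha2, hmv2⟩ := hm2
  obtain ⟨ha1C, ha1k⟩ := hlift ha1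
  obtain ⟨ha2C, ha2k⟩ := hlift ha2
  set w1 := ⁅a1, v1⁆ with hw1d
  set w2 := ⁅a2, v2⁆ with hw2d
  have hw1K := d_mem h (hXK hv1.1) a1
  have hw2K := d_mem h (hXK hv2.1) a2
  have hwne : ∀ {a v : G}, π (a * v * a⁻¹) ≠ π v → π ⁅a, v⁆ ≠ 1 := fun {a v} hmv e => hmv (by
    rw [show a * v * a⁻¹ = ⁅a, v⁆ * v by simp [commutatorElement_def], map_mul, e, one_mul])
  -- a commutator orthogonal to its vector is trivial
  have hkill : ∀ {a v u : G}, a ∈ C → v ∈ K → u ∈ K → π u = π ⁅a, v⁆ → ⁅u, v⁆ = 1 → π ⁅a, v⁆ = 1 := by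
    intro a v u ha hv hu e h1
    refine pi_eq_one.2 (h.inj _ (d_mem h hv a) ?_)
    rw [sq_d h ha hv, congr_left h hu hv e, h1]
  set z1 := w1 * w1
  set z2 := w2 * w2
  have hz1 : z1 ∈ E := h.sq _ hw1K
  have hz2 : z2 ∈ E := h.sq _ hw2K
  have hz11 : z1 ≠ 1 := fun e => hwne hmv1 (pi_eq_one.2 (h.inj _ hw1K e))
  have hz21 : z2 ≠ 1 := fun e => hwne hmv2 (pi_eq_one.2 (h.inj _ hw2K e))
  have hw12 : ⁅w1, w2⁆ = 1 := perp_W h ha1C ha2C ha2k (hlcomm ha1 ha2) hv1.1 hv2.1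
  have hz12 : z1 * z2 ≠ 1 := by
    intro e
    have e1 : z1 = z2 := by
      rw [eq_inv_of_mul_eq_one_left e, inv_eq_of_mul_eq_one_right (h.ele _ hz2)]
    exact hwne hmv1 (hkill ha1C (hXK hv1.1) hw2K
      (pi_eq_of_sq h hw1K hw2K hw12 e1).symm (hperp hB1 hB2 hi1 hi2 hne hv1 hv2 ha2))
  obtain ⟨g, hgN, hg⟩ := htransN z1 hz1 (z1 * z2) (mul_mem hz1 hz2) hz11 hz12
  set a3 := g * a1 * g⁻¹
  set v3 := g * v1 * g⁻¹
  set B3 := B1.map (MulAut.conj (f2 g)).toMonoidHom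
  have hAconj : ∀ z ∈ A, f2 g * z * (f2 g)⁻¹ ∈ A := by
    intro z hz
    obtain ⟨hzS, hz2', hzc⟩ := hAmem.1 hz
    have hcS : ∀ y ∈ Sb, f2 g * y * (f2 g)⁻¹ ∈ Sb := by
      rintro _ ⟨y, hy, rfl⟩
      rw [← map_inv, ← map_mul, ← map_mul]
      exact Subgroup.mem_map_of_mem f2 ((Subgroup.mem_normalizer_iff.1 hgN y).1 hy)
    have hcS' : ∀ y ∈ Sb, (f2 g)⁻¹ * y * f2 g ∈ Sb := by
      rintro _ ⟨y, hy, rfl⟩
      rw [← map_inv, ← map_mul, ← map_mul]
      refine Subgroup.mem_map_of_mem f2 ?_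
      have := (Subgroup.mem_normalizer_iff.1 (inv_mem hgN) y).1 hy
      rwa [inv_inv] at this
    refine hAmem.2 ⟨hcS z hzS, ?_, fun y hy => ?_⟩
    · rw [show f2 g * z * (f2 g)⁻¹ * (f2 g * z * (f2 g)⁻¹) = f2 g * (z * z) * (f2 g)⁻¹ by group,
        hz2', mul_one, mul_inv_cancel]
    · show f2 g * z * (f2 g)⁻¹ * y = y * (f2 g * z * (f2 g)⁻¹)
      calc f2 g * z * (f2 g)⁻¹ * y = f2 g * (z * ((f2 g)⁻¹ * y * f2 g)) * (f2 g)⁻¹ := by group
        _ = f2 g * ((f2 g)⁻¹ * y * f2 g * z) * (f2 g)⁻¹ := by rw [(hzc _ (hcS' y hy)).eq]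
        _ = y * (f2 g * z * (f2 g)⁻¹) := by group
  have hmapA : A.map (MulAut.conj (f2 g)).toMonoidHom = A := by
    refine Subgroup.eq_of_le_of_card_ge ?_
      (le_of_eq (Subgroup.card_map_of_injective (MulAut.conj (f2 g)).injective).symm)
    rintro _ ⟨z, hz, rfl⟩
    exact hAconj z hz
  have hB3 : B3 ≤ A := hmapA ▸ Subgroup.map_mono hB1
  have hi3 : B3.relIndex A = 2 := by
    conv_lhs => rw [← hmapA]
    rw [Subgroup.relIndex_map_map_of_injective _ _ (MulAut.conj (f2 g)).injective, hi1]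
  have ha3 : f2 a3 ∈ A := by
    rw [map_mul, map_mul, map_inv]
    exact hAconj _ ha1
  have hv3 : FixB B3 v3 := by
    refine ⟨moved_conj h hv1.1 g, fun b hb => ?_⟩
    obtain ⟨y, hy, e⟩ := hb
    have hb' : f2 (g⁻¹ * b * g) ∈ B1 := by
      rw [map_mul, map_mul, map_inv, ← e]
      simpa [mul_assoc] using hy
    have h1 := pi_conj_congr (g := g) (hv1.2 _ hb')
    rwa [show g * ((g⁻¹ * b * g) * v1 * (g⁻¹ * b * g)⁻¹) * g⁻¹ = b * v3 * b⁻¹ by
      simp only [v3]; group] at h1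
  obtain ⟨ha3C, ha3k⟩ := hlift ha3
  set w3 := ⁅a3, v3⁆
  have hw3K := d_mem h (hXK hv3.1) a3
  have hw3e : w3 = g * w1 * g⁻¹ := by
    simp only [w3, a3, v3, hw1d, commutatorElement_def]; group
  have hw312 : ⁅w3, w1 * w2⁆ = 1 := by
    refine symm_one h ?_
    rw [mul_left h hw1K hw2K hw3K, perp_W h ha1C ha3C ha3k (hlcomm ha1 ha3) hv1.1 hv3.1,
      perp_W h ha2C ha3C ha3k (hlcomm ha2 ha3) hv2.1 hv3.1, one_mul]
  have hsq3 : π w3 = π (w1 * w2) := by
    refine pi_eq_of_sq h hw3K (mul_mem hw1K hw2K) hw312 ?_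
    rw [sq_mul h hw12, hw3e, show g * w1 * g⁻¹ * (g * w1 * g⁻¹) = g * (w1 * w1) * g⁻¹ by group]
    exact hg
  rw [map_mul] at hsq3
  by_cases h31 : B3 = B1
  · refine hwne hmv2 (hkill ha2C (hXK hv2.1) (u := w1 * w3) (mul_mem hw1K hw3K) ?_ ?_)
    · rw [map_mul, hsq3, ← mul_assoc, pi_sq h hw1K, one_mul]
    · rw [mul_left h hw1K hw3K (hXK hv2.1), hperp hB2 hB1 hi2 hi1 (Ne.symm hne) hv2 hv1 ha1,
        hperp hB2 hB3 hi2 hi3 (h31 ▸ Ne.symm hne) hv2 hv3 ha3, one_mul]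
  · refine hwne hmv1 (hkill ha1C (hXK hv1.1) (u := w3 * w2) (mul_mem hw3K hw2K) ?_ ?_)
    · rw [map_mul, hsq3, mul_assoc, pi_sq h hw2K, mul_one]
    · rw [mul_left h hw3K hw2K (hXK hv1.1), hperp hB1 hB3 hi1 hi3 (Ne.symm h31) hv1 hv3 ha3,
        hperp hB1 hB2 hi1 hi2 hne hv1 hv2 ha2, one_mul]

end Cfsg.Agent.Grp.InvTrans
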