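import Mathlib
import Cfsg.Agent.Lib.Grp.PowerCount
import Cfsg.Agent.Lib.Grp.AmbivalentSolvable

/-!
Groups in which the numbers of elements of each order take only two values.
-/

set_option autoImplicit false

namespace Cfsg.Agent.Grp.TwoCounts

open Finset

variable {G : Type*} [Group G] [Finite G]

/-- The number of elements of order `m`. -/
noncomputable def cnt (G : Type*) [Group G] (m : ℕ) : ℕ := Nat.card {g : G // orderOf g = m}

theorem totient_dvd_cnt (m : ℕ) : m.totient ∣ cnt G m :=
  PowCount.dvd_card_of_zpowers_closed (fun x : G => orderOf x = m)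
    (fun x y hx e => by rw [← Nat.card_zpowers, e, Nat.card_zpowers, hx])
    (fun x hx => by rw [hx])

theorem exists_order_dvd {g : G} {d : ℕ} (hd : d ∣ orderOf g) : ∃ x : G, orderOf x = d := by
  refine ⟨g ^ (orderOf g / d), ?_⟩
  rw [orderOf_pow_of_dvd ?_ (Nat.div_dvd_of_dvd hd), Nat.div_div_self hd (orderOf_pos g).ne']
  exact (Nat.div_pos (Nat.le_of_dvd (orderOf_pos g) hd) (Nat.pos_of_dvd_of_pos hd (orderOf_pos g))).ne'

section

variable (G) in
/-- The element orders. -/
noncomputable def ords : Finset ℕ := (Set.finite_range (orderOf : G → ℕ)).toFinset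

theorem mem_ords {m : ℕ} : m ∈ ords G ↔ ∃ g : G, orderOf g = m := by simp [ords]

theorem card_sol_eq_sum (d : ℕ) :
    Nat.card {g : G // g ^ d = 1} = ∑ m ∈ (ords G).filter (· ∣ d), cnt G m := by
  classical
  cases nonempty_fintype G
  rw [Nat.card_eq_fintype_card, Fintype.card_subtype]
  rw [Finset.card_eq_sum_card_fiberwise (f := fun g : G => orderOf g) (t := (ords G).filter (· ∣ d))]
  · refine Finset.sum_congr rfl fun m hm => ?_
    rw [cnt, Nat.card_eq_fintype_card, Fintype.card_subtype]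
    congr 1
    ext g
    simp only [Finset.mem_filter, Finset.mem_univ, true_and]
    exact ⟨fun h => h.2, fun h => ⟨orderOf_dvd_iff_pow_eq_one.mp (h ▸ (Finset.mem_filter.mp hm).2), h⟩⟩
  · intro g hg
    simp only [Finset.coe_filter, Set.mem_setOf_eq, Finset.mem_univ, true_and] at hg
    simp only [Finset.coe_filter, Set.mem_setOf_eq]
    exact ⟨mem_ords.mpr ⟨g, rfl⟩, orderOf_dvd_of_pow_eq_one hg⟩

theorem frobenius_count {d : ℕ} (hd : d ∣ Nat.card G) :
    d ∣ ∑ m ∈ (ords G).filter (· ∣ d), cnt G m := by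
  rw [← card_sol_eq_sum]
  exact PowCount.dvd_card_sol _ G rfl d hd

variable {n : ℕ}

theorem cnt_eq_n (hv : ∀ m ∈ ords G, cnt G m = 1 ∨ cnt G m = n) {m : ℕ} (hm : m ∈ ords G)
    (h2 : 2 < m) : cnt G m = n := by
  refine (hv m hm).resolve_left fun h => ?_
  have h1 := totient_dvd_cnt (G := G) m
  rw [h, Nat.dvd_one] at h1
  have := Nat.totient_even h2
  rw [h1] at this
  exact absurd this (by decide)

theorem cnt_one : cnt G 1 = 1 := by
  rw [cnt, Nat.card_eq_one_iff_exists]
  exact ⟨⟨1, orderOf_one⟩, fun g => Subtype.ext (orderOf_eq_one_iff.mp g.2)⟩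

theorem sum_filter (hv : ∀ m ∈ ords G, cnt G m = 1 ∨ cnt G m = n)
    (hc2 : ∀ h : 2 ∈ ords G, cnt G 2 = 1) (P : ℕ → Prop) [DecidablePred P] :
    ∑ m ∈ (ords G).filter P, cnt G m =
      (((ords G).filter P).filter (fun m => m ≤ 2)).card +
        (((ords G).filter P).filter (fun m => ¬ m ≤ 2)).card * n := by
  rw [← Finset.sum_filter_add_sum_filter_not ((ords G).filter P) (fun m => m ≤ 2)]
  congr 1
  · rw [Finset.sum_congr rfl (g := fun _ => 1), Finset.sum_const, smul_eq_mul, mul_one]
    intro m hm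
    simp only [Finset.mem_filter] at hm
    obtain ⟨g, hg⟩ := mem_ords.mp hm.1.1
    have : 0 < m := hg ▸ orderOf_pos g
    rcases show m = 1 ∨ m = 2 by omega with rfl | rfl
    · exact cnt_one
    · exact hc2 hm.1.1
  · rw [Finset.sum_congr rfl (g := fun _ => n), Finset.sum_const, smul_eq_mul]
    intro m hm
    simp only [Finset.mem_filter] at hm
    exact cnt_eq_n hv hm.1.1 (by omega)

/-- The main analysis. -/
theorem main (hn : n ≠ 1) (hv : ∀ m ∈ ords G, cnt G m = 1 ∨ cnt G m = n)
    (hatt : ∃ m ∈ ords G, cnt G m = n) :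
    (∃ p : ℕ, p.Prime ∧ IsPGroup p G ∧ 3 ≤ Nat.card G ∧ Monoid.exponent G = p) ∨
      Nonempty (G ≃* QuaternionGroup 2) ∨ (IsCyclic G ∧ Nat.card G = 4) ∨
      (∃ (p : ℕ) (P : Type) (_ : Group P) (_ : Finite P), p.Prime ∧ p ≠ 2 ∧ IsPGroup p P ∧
        Monoid.exponent P = p ∧ Nonempty (G ≃* Multiplicative (ZMod 2) × P)) := by
  classical
  obtain ⟨m₀, hm₀, hm₀n⟩ := hatt
  have hn0 : n ≠ 0 := by
    obtain ⟨g, hg⟩ := mem_ords.mp hm₀
    rw [← hm₀n, cnt]
    have : Nonempty {g : G // orderOf g = m₀} := ⟨⟨g, hg⟩⟩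
    exact Nat.card_pos.ne'
  have h1mem : 1 ∈ ords G := mem_ords.mpr ⟨1, orderOf_one⟩
  by_cases hbig : ∀ m ∈ ords G, m ≤ 2
  · -- exponent two
    have hex : ∀ g : G, g ^ 2 = 1 := fun g => by
      have h := hbig _ (mem_ords.mpr ⟨g, rfl⟩)
      have h0 := orderOf_pos g
      refine orderOf_dvd_iff_pow_eq_one.mp ?_
      rcases show orderOf g = 1 ∨ orderOf g = 2 by omega with h | h <;> simp [h]
    haveI := Fact.mk Nat.prime_two
    refine Or.inl ⟨2, Nat.prime_two, fun g => ⟨1, by rw [pow_one]; exact hex g⟩, ?_, ?_⟩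
    · have hm2 : m₀ = 2 := by
        have := hbig m₀ hm₀
        obtain ⟨g, hg⟩ := mem_ords.mp hm₀
        have h0 : 0 < m₀ := hg ▸ orderOf_pos g
        rcases show m₀ = 1 ∨ m₀ = 2 by omega with rfl | rfl
        · exact absurd (hm₀n.symm.trans cnt_one) hn
        · rfl
      have h := card_sol_eq_sum (G := G) 2
      have hall : Nat.card {g : G // g ^ 2 = 1} = Nat.card G :=
        Nat.card_congr (Equiv.subtypeUnivEquiv hex)
      rw [hall] at h
      rw [h]
      calc 3 ≤ cnt G 1 + cnt G 2 := by rw [cnt_one, ← hm2, hm₀n]; omega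
        _ = ∑ m ∈ ({1, 2} : Finset ℕ), cnt G m := (Finset.sum_pair (by norm_num)).symm
        _ ≤ _ := Finset.sum_le_sum_of_subset (fun m hm => by
            simp only [Finset.mem_insert, Finset.mem_singleton] at hm
            rcases hm with rfl | rfl
            · exact Finset.mem_filter.mpr ⟨h1mem, one_dvd 2⟩
            · exact Finset.mem_filter.mpr ⟨hm2 ▸ hm₀, dvd_rfl⟩)
    · obtain ⟨g, hg⟩ := mem_ords.mp hm₀
      refine ((Nat.dvd_prime Nat.prime_two).mp (Monoid.exponent_dvd_of_forall_pow_eq_one hex)).resolve_left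
        fun h => ?_
      have hg1 : m₀ = 1 := by
        have := Monoid.order_dvd_exponent g
        rw [h, Nat.dvd_one] at this
        omega
      exact hn (by rw [← hm₀n, hg1, cnt_one])
  push Not at hbig
  obtain ⟨mb, hmb, hmb2⟩ := hbig
  have hneven : Even n := by
    rw [← cnt_eq_n hv hmb hmb2]
    exact (Nat.totient_even hmb2).trans_dvd (totient_dvd_cnt mb)
  -- at most one involution
  have hc2 : ∀ h : 2 ∈ ords G, cnt G 2 = 1 := by
    intro h2
    haveI := Fact.mk Nat.prime_two
    refine (hv 2 h2).resolve_right fun e => ?_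
    obtain ⟨g, hg⟩ := mem_ords.mp h2
    have h := frobenius_count (G := G) (d := 2) (hg ▸ orderOf_dvd_natCard g)
    rw [show (ords G).filter (· ∣ 2) = {1, 2} by
      ext m
      simp only [Finset.mem_filter, Finset.mem_insert, Finset.mem_singleton]
      exact ⟨fun hm => (Nat.dvd_prime Nat.prime_two).mp hm.2, fun hm => by
        rcases hm with rfl | rfl
        · exact ⟨h1mem, one_dvd 2⟩
        · exact ⟨h2, dvd_rfl⟩⟩, Finset.sum_pair (by norm_num), cnt_one, e] at h
    obtain ⟨a, ha⟩ := hneven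
    omega
  have hpm : ∀ {p : ℕ}, p.Prime → p ∣ Nat.card G → p ∈ ords G := fun {p} hp hd => by
    haveI := Fact.mk hp
    exact mem_ords.mpr (exists_prime_orderOf_dvd_card' p hd)
  -- odd primes
  have hodd : ∀ p : ℕ, p.Prime → p ≠ 2 → p ∣ Nat.card G → (p : ℤ) ∣ (n : ℤ) + 1 := by
    intro p hp hp2 hd
    have h := frobenius_count (G := G) hd
    rw [show (ords G).filter (· ∣ p) = {1, p} by
      ext m
      simp only [Finset.mem_filter, Finset.mem_insert, Finset.mem_singleton]
      exact ⟨fun hm => (Nat.dvd_prime hp).mp hm.2, fun hm => by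
        rcases hm with rfl | rfl
        · exact ⟨h1mem, one_dvd p⟩
        · exact ⟨hpm hp hd, dvd_rfl⟩⟩, Finset.sum_pair hp.one_lt.ne, cnt_one,
      cnt_eq_n hv (hpm hp hd) (by have := hp.two_le; omega)] at h
    rw [add_comm]
    exact_mod_cast h
  have hsq : ∀ p : ℕ, p.Prime → p ≠ 2 → ∀ g : G, ¬ p ^ 2 ∣ orderOf g := by
    intro p hp hp2 g hg
    have hd : p ∣ Nat.card G := (dvd_pow_self p two_ne_zero).trans (hg.trans (orderOf_dvd_natCard g))
    obtain ⟨x, hx⟩ := exists_order_dvd hg
    have hp4 : 2 < p ^ 2 := by have := hp.two_le; nlinarith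
    have h1 := totient_dvd_cnt (G := G) (p ^ 2)
    rw [cnt_eq_n hv (mem_ords.mpr ⟨x, hx⟩) hp4] at h1
    have h2 : p ∣ n := by
      refine Dvd.dvd.trans ?_ h1
      rw [Nat.totient_prime_pow hp two_pos]
      simp
    have h3 := hodd p hp hp2 hd
    have h4 : (p : ℤ) ∣ 1 := (Int.dvd_add_right (by exact_mod_cast h2)).mp h3
    exact hp.one_lt.ne' (by exact_mod_cast Int.eq_one_of_dvd_one (by positivity) h4)
  -- an involution is central
  have hcentral : ∀ t : G, orderOf t = 2 → ∀ g : G, g * t = t * g := by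
    intro t ht g
    have h := hc2 (mem_ords.mpr ⟨t, ht⟩)
    rw [cnt, Nat.card_eq_one_iff_unique] at h
    obtain ⟨hss, -⟩ := h
    have e : (⟨g * t * g⁻¹, (show orderOf (MulAut.conj g t) = 2 from ((MulAut.conj g).orderOf_eq t).trans ht)⟩ : {x : G // orderOf x = 2}) = ⟨t, ht⟩ :=
      Subsingleton.elim _ _
    exact mul_inv_eq_iff_eq_mul.mp (congrArg Subtype.val e)
  have hallsum : Nat.card G = ∑ m ∈ ords G, cnt G m := by
    have h := card_sol_eq_sum (G := G) (Nat.card G)
    rw [Nat.card_congr (Equiv.subtypeUnivEquiv fun g => pow_card_eq_one')] at h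
    rw [h, Finset.filter_eq_self.mpr]
    intro m hm
    obtain ⟨g, rfl⟩ := mem_ords.mp hm
    exact orderOf_dvd_natCard g
  by_cases h4 : ∃ g : G, 4 ∣ orderOf g
  · -- exponent four
    obtain ⟨g, hg⟩ := h4
    obtain ⟨x, hx⟩ := exists_order_dvd hg
    obtain ⟨t, ht⟩ := exists_order_dvd (g := x) (d := 2) (by rw [hx]; norm_num)
    have h4m : 4 ∈ ords G := mem_ords.mpr ⟨x, hx⟩
    have h2m : 2 ∈ ords G := mem_ords.mpr ⟨t, ht⟩
    have hx4 : 4 ∣ Nat.card G := hx ▸ orderOf_dvd_natCard x
    have h := frobenius_count (G := G) hx4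
    rw [show (ords G).filter (· ∣ 4) = {1, 2, 4} by
      ext m
      simp only [Finset.mem_filter, Finset.mem_insert, Finset.mem_singleton]
      refine ⟨fun hm => ?_, ?_⟩
      · have : m ≤ 4 := Nat.le_of_dvd (by norm_num) hm.2
        interval_cases m <;> omega
      · rintro (rfl | rfl | rfl)
        exacts [⟨h1mem, one_dvd 4⟩, ⟨h2m, by norm_num⟩, ⟨h4m, dvd_rfl⟩],
      Finset.sum_insert (by simp), Finset.sum_pair (by norm_num), cnt_one, hc2 h2m,
      cnt_eq_n hv h4m (by norm_num)] at h
    have h8 : ∀ y : G, ¬ 8 ∣ orderOf y := by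
      intro y hy
      obtain ⟨z, hz⟩ := exists_order_dvd hy
      have h1 := totient_dvd_cnt (G := G) 8
      rw [cnt_eq_n hv (mem_ords.mpr ⟨z, hz⟩) (by norm_num), show Nat.totient 8 = 4 from rfl] at h1
      omega
    have h2g : IsPGroup 2 G := by
      haveI := Fact.mk Nat.prime_two
      refine IsPGroup.of_card (n := (Nat.card G).primeFactorsList.length)
        (Nat.eq_prime_pow_of_unique_prime_dvd Nat.card_pos.ne' fun {p} hp hd => ?_)
      by_contra hp2
      have hcop : Nat.Coprime 4 p := (Nat.coprime_primes Nat.prime_two hp).mpr (Ne.symm hp2) |>.pow_left 2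
      have h4p : 4 * p ∣ Nat.card G := hcop.mul_dvd_of_dvd_of_dvd hx4 hd
      have hfr := frobenius_count (G := G) h4p
      rw [sum_filter hv hc2] at hfr
      have hp3 : 3 ≤ p := by have := hp.two_le; omega
      have hsmall : (((ords G).filter (· ∣ 4 * p)).filter (fun m => m ≤ 2)) = {1, 2} := by
        ext m
        simp only [Finset.mem_filter, Finset.mem_insert, Finset.mem_singleton]
        refine ⟨fun hm => ?_, ?_⟩
        · obtain ⟨y, hy⟩ := mem_ords.mp hm.1.1
          have := hy ▸ orderOf_pos y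
          omega
        · rintro (rfl | rfl)
          exacts [⟨⟨h1mem, one_dvd _⟩, by norm_num⟩, ⟨⟨h2m, (show 2 ∣ 4 by norm_num).mul_right p⟩, le_rfl⟩]
      have hlarge : (((ords G).filter (· ∣ 4 * p)).filter (fun m => ¬ m ≤ 2)).card = 3 ∨
          (((ords G).filter (· ∣ 4 * p)).filter (fun m => ¬ m ≤ 2)).card = 4 := by
        obtain ⟨y, hy⟩ := mem_ords.mp (hpm hp hd)
        have h2p : 2 * p ∈ ords G := mem_ords.mpr ⟨t * y, by
          rw [(show Commute t y from (hcentral t ht y).symm).orderOf_mul_eq_mul_orderOf_of_coprime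
            (by rw [ht, hy]; exact (Nat.coprime_primes Nat.prime_two hp).mpr (Ne.symm hp2)), ht, hy]⟩
        have hsub : ({4, p, 2 * p} : Finset ℕ) ⊆
            ((ords G).filter (· ∣ 4 * p)).filter (fun m => ¬ m ≤ 2) := by
          intro m hm
          simp only [Finset.mem_filter, Finset.mem_insert, Finset.mem_singleton] at hm ⊢
          rcases hm with rfl | rfl | rfl
          · exact ⟨⟨h4m, dvd_mul_right 4 p⟩, by norm_num⟩
          · exact ⟨⟨hpm hp hd, dvd_mul_left m 4⟩, by omega⟩
          · exact ⟨⟨h2p, ⟨2, by ring⟩⟩, by omega⟩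
        have hsup : ((ords G).filter (· ∣ 4 * p)).filter (fun m => ¬ m ≤ 2) ⊆
            ({4, p, 2 * p, 4 * p} : Finset ℕ) := by
          intro m hm
          simp only [Finset.mem_filter, Finset.mem_insert, Finset.mem_singleton] at hm ⊢
          obtain ⟨a, b, ha, hb, rfl⟩ := exists_dvd_and_dvd_of_dvd_mul hm.1.2
          have : a ≤ 4 := Nat.le_of_dvd (by norm_num) ha
          rcases (Nat.dvd_prime hp).mp hb with rfl | rfl <;> interval_cases a <;> omega
        have h1 := Finset.card_le_card hsub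
        have h2 := (Finset.card_le_card hsup).trans Finset.card_le_four
        have hc3 : ({4, p, 2 * p} : Finset ℕ).card = 3 := by
          have h4p' : p ≠ 4 := fun e => by rw [e] at hp; norm_num at hp
          rw [Finset.card_insert_of_notMem (by simp; omega), Finset.card_pair (by omega)]
        omega
      rw [hsmall, Finset.card_pair (by norm_num)] at hfr
      have hp' : (p : ℤ) ∣ ((2 + (((ords G).filter (· ∣ 4 * p)).filter (fun m => ¬ m ≤ 2)).card * n : ℕ) : ℤ) :=
        (Int.natCast_dvd_natCast.mpr (dvd_mul_left p 4)).trans (Int.natCast_dvd_natCast.mpr hfr)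
      have hp'' := hodd p hp hp2 hd
      rcases hlarge with e | e <;> rw [e] at hp' <;> push_cast at hp'
      · have := dvd_sub (hp''.mul_left 3) hp'
        ring_nf at this
        have h1 : p ∣ 1 := by exact_mod_cast this
        have := Nat.le_of_dvd one_pos h1
        omega
      · have := dvd_sub (hp''.mul_left 4) hp'
        ring_nf at this
        have h1 : p ∣ 2 := by exact_mod_cast this
        have := Nat.le_of_dvd two_pos h1
        omega
    haveI := Fact.mk Nat.prime_two
    have hdvd : ∀ y : G, orderOf y ∣ 4 := by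
      intro y
      obtain ⟨k, hk⟩ := IsPGroup.iff_orderOf.mp h2g y
      have h := h8 y
      rw [hk] at h ⊢
      refine pow_dvd_pow 2 (show k ≤ 2 from ?_)
      by_contra hc
      exact h (pow_dvd_pow 2 (show 3 ≤ k by omega))
    rcases Ambivalent.cyclic_or_quaternion h2g (fun u v hu hv => by
      have h := hc2 h2m
      rw [cnt, Nat.card_eq_one_iff_unique] at h
      obtain ⟨hss, -⟩ := h
      exact congrArg Subtype.val (Subsingleton.elim (α := {x : G // orderOf x = 2}) ⟨u, hu⟩ ⟨v, hv⟩))
      with hc | ⟨k, ⟨e⟩⟩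
    · refine Or.inr (Or.inr (Or.inl ⟨hc, ?_⟩))
      obtain ⟨a, ha⟩ := IsCyclic.exists_ofOrder_eq_natCard (α := G)
      exact Nat.dvd_antisymm (ha ▸ hdvd a) hx4
    · refine Or.inr (Or.inl ?_)
      have hk : k = 0 := by
        have := hdvd (e.symm (QuaternionGroup.a 1))
        rw [MulEquiv.orderOf_eq, QuaternionGroup.orderOf_a_one, ← pow_succ'] at this
        have h' := (Nat.pow_dvd_pow_iff_le_right Nat.one_lt_two).mp (show 2 ^ (k + 1 + 1) ∣ 2 ^ 2 from this)
        omega
      subst hk
      exact ⟨e⟩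
  -- no element of order four
  push Not at h4
  set A := (ords G).filter (fun m => Odd m ∧ m ≠ 1) with hA
  set s := (Nat.card G).primeFactors.filter (fun p => p ≠ 2) with hs
  have hmemA : ∀ {m : ℕ}, m ∈ A → m ∣ ∏ p ∈ s, p := by
    intro m hm
    obtain ⟨hm0, hmo, -⟩ := Finset.mem_filter.mp hm
    obtain ⟨g, hg⟩ := mem_ords.mp hm0
    have hsf : Squarefree m := by
      rw [Nat.squarefree_iff_prime_squarefree]
      intro q hq hqd
      by_cases hq2 : q = 2
      · subst hq2
        exact Nat.not_even_iff_odd.mpr hmo (even_iff_two_dvd.mpr ((dvd_mul_right 2 2).trans hqd))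
      · exact hsq q hq hq2 g (by rw [hg, sq]; exact hqd)
    rw [← Nat.prod_primeFactors_of_squarefree hsf]
    refine Finset.prod_dvd_prod_of_subset _ _ _ fun q hq => Finset.mem_filter.mpr ⟨?_, ?_⟩
    · exact Nat.primeFactors_mono (hg ▸ orderOf_dvd_natCard g) Nat.card_pos.ne' hq
    · rintro rfl
      exact Nat.not_even_iff_odd.mpr hmo (even_iff_two_dvd.mpr (Nat.dvd_of_mem_primeFactors hq))
  have hPpos : 0 < ∏ p ∈ s, p :=
    Finset.prod_pos fun p hp => (Nat.prime_of_mem_primeFactors (Finset.mem_filter.mp hp).1).pos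
  have hcard : A.card ≤ (∏ p ∈ s, p) - 1 := by
    refine (Finset.card_le_card (t := Finset.Icc 2 (∏ p ∈ s, p)) fun m hm => ?_).trans (by simp)
    obtain ⟨hm0, hmo, hm1⟩ := Finset.mem_filter.mp hm
    obtain ⟨c, hc⟩ := hmo
    exact Finset.mem_Icc.mpr ⟨by omega, Nat.le_of_dvd hPpos (hmemA hm)⟩
  have key : (∀ p ∈ s, (p : ℤ) ∣ (A.card : ℤ) - 1) → A.Nonempty →
      ∃ p : ℕ, p.Prime ∧ p ≠ 2 ∧ p ∣ Nat.card G ∧ ∀ g : G, Odd (orderOf g) → orderOf g ∣ p := by
    intro hdv hne
    have hP : ((∏ p ∈ s, p : ℕ) : ℤ) ∣ (A.card : ℤ) - 1 := by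
      rw [Nat.cast_prod]
      refine Finset.prod_dvd_of_coprime (fun a ha b hb hab => ?_) hdv
      exact Int.isCoprime_iff_nat_coprime.mpr (by
        simpa using (Nat.coprime_primes (Nat.prime_of_mem_primeFactors (Finset.mem_filter.mp ha).1)
          (Nat.prime_of_mem_primeFactors (Finset.mem_filter.mp hb).1)).mpr hab)
    have hA1 : A.card = 1 := by
      have h1 : 1 ≤ A.card := Finset.card_pos.mpr hne
      rw [← Nat.cast_one, ← Nat.cast_sub h1, Int.natCast_dvd_natCast] at hP
      rcases Nat.eq_zero_or_pos (A.card - 1) with h | h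
      · omega
      · have := Nat.le_of_dvd h hP
        omega
    obtain ⟨a, ha⟩ := Finset.card_eq_one.mp hA1
    have haA : a ∈ A := ha ▸ Finset.mem_singleton_self a
    obtain ⟨ha0, hao, ha1⟩ := Finset.mem_filter.mp haA
    obtain ⟨g, hg⟩ := mem_ords.mp ha0
    have hq := Nat.minFac_prime ha1
    have hq2 : a.minFac ≠ 2 := fun e => Nat.not_even_iff_odd.mpr hao
      (even_iff_two_dvd.mpr (e ▸ Nat.minFac_dvd a))
    refine ⟨a.minFac, hq, hq2, (Nat.minFac_dvd a).trans (hg ▸ orderOf_dvd_natCard g), fun y hy => ?_⟩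
    rcases eq_or_ne (orderOf y) 1 with e | e
    · simp [e]
    have hyA : orderOf y ∈ A := Finset.mem_filter.mpr ⟨mem_ords.mpr ⟨y, rfl⟩, hy, e⟩
    have hqA : a.minFac ∈ A := Finset.mem_filter.mpr
      ⟨hpm hq ((Nat.minFac_dvd a).trans (hg ▸ orderOf_dvd_natCard g)), hq.odd_of_ne_two hq2, hq.one_lt.ne'⟩
    rw [ha, Finset.mem_singleton] at hyA hqA
    rw [hyA, hqA]
  by_cases h2 : 2 ∣ Nat.card G
  · -- the direct product case
    haveI := Fact.mk Nat.prime_two
    obtain ⟨t, ht⟩ := exists_prime_orderOf_dvd_card' 2 h2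
    have h2m : 2 ∈ ords G := mem_ords.mpr ⟨t, ht⟩
    set T := Subgroup.zpowers t with hT
    have hTc : T ≤ Subgroup.center G :=
      Subgroup.zpowers_le.mpr (Subgroup.mem_center_iff.mpr fun g => hcentral t ht g)
    haveI hTn : T.Normal := ⟨fun a ha g => by
      rwa [Subgroup.mem_center_iff.mp (hTc ha) g, mul_inv_cancel_right]⟩
    have hTcard : Nat.card T = 2 := by rw [hT, Nat.card_zpowers, ht]
    -- the Sylow 2-subgroup has order two
    have hidx : ¬ 2 ∣ T.index := by
      intro hd
      have h4d : 4 ∣ Nat.card G := by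
        rw [← Subgroup.card_mul_index T, hTcard]
        exact Nat.mul_dvd_mul_left 2 hd
      obtain ⟨S, hS⟩ := Sylow.exists_subgroup_card_pow_prime (G := G) 2 (n := 2) (by simpa using h4d)
      have hle : S ≤ T := by
        intro y hy
        have hy4 : orderOf y ∣ 4 := by
          have := Subgroup.orderOf_dvd_natCard S hy
          rwa [hS] at this
        have hyne : orderOf y ≠ 4 := fun e => h4 y e.symm.dvd
        rcases eq_or_ne y 1 with rfl | hy1
        · exact one_mem _
        have hy2 : orderOf y = 2 := by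
          have h0 := orderOf_eq_one_iff.not.mpr hy1
          have : orderOf y ≤ 4 := Nat.le_of_dvd (by norm_num) hy4
          have := orderOf_pos y
          interval_cases orderOf y <;> omega
        have h := hc2 h2m
        rw [cnt, Nat.card_eq_one_iff_unique] at h
        obtain ⟨hss, -⟩ := h
        have : y = t := congrArg Subtype.val
          (Subsingleton.elim (α := {x : G // orderOf x = 2}) ⟨y, hy2⟩ ⟨t, ht⟩)
        rw [this]; exact Subgroup.mem_zpowers t
      have := Subgroup.card_le_of_le hle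
      rw [hS, hTcard] at this
      omega
    obtain ⟨K, hK⟩ := Subgroup.exists_right_complement'_of_coprime (N := T) (by
      rw [hTcard]; exact (Nat.prime_two.coprime_iff_not_dvd).mpr hidx)
    have hKodd : Odd (Nat.card K) := by
      have h1 := hK.card_mul
      rw [hTcard] at h1
      have h3 := T.card_mul_index
      rw [hTcard] at h3
      rw [show Nat.card K = T.index by omega, ← Nat.not_even_iff_odd, even_iff_two_dvd]
      exact hidx
    have hKodd' : ∀ k ∈ K, Odd (orderOf k) := fun k hk =>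
      hKodd.of_dvd_nat (Subgroup.orderOf_dvd_natCard K hk)
    -- the counting condition
    have hdv : ∀ p ∈ s, (p : ℤ) ∣ (A.card : ℤ) - 1 := by
      intro p hp
      obtain ⟨hp0, hp2⟩ := Finset.mem_filter.mp hp
      have hpp := Nat.prime_of_mem_primeFactors hp0
      have hpd := Nat.dvd_of_mem_primeFactors hp0
      have hsum := sum_filter hv hc2 (fun _ => True)
      rw [Finset.filter_true, ← hallsum] at hsum
      have hsm : (ords G).filter (fun m => m ≤ 2) = {1, 2} := by
        ext m
        simp only [Finset.mem_filter, Finset.mem_insert, Finset.mem_singleton]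
        refine ⟨fun hm => ?_, ?_⟩
        · obtain ⟨y, hy⟩ := mem_ords.mp hm.1
          have := hy ▸ orderOf_pos y
          omega
        · rintro (rfl | rfl)
          exacts [⟨h1mem, by norm_num⟩, ⟨h2m, le_rfl⟩]
      have hlg : (ords G).filter (fun m => ¬ m ≤ 2) = A ∪ A.image (fun m => 2 * m) := by
        ext m
        simp only [Finset.mem_filter, Finset.mem_union, Finset.mem_image, hA]
        constructor
        · rintro ⟨hm, hm2⟩
          rcases Nat.even_or_odd m with ⟨c, hc⟩ | ho
          · refine Or.inr ⟨c, ⟨?_, ?_, by omega⟩, by omega⟩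
            · obtain ⟨y, hy⟩ := mem_ords.mp hm
              exact mem_ords.mpr (exists_order_dvd (g := y) ⟨2, by omega⟩)
            · rcases Nat.even_or_odd c with ⟨e, he⟩ | ho
              · obtain ⟨y, hy⟩ := mem_ords.mp hm
                exact absurd ⟨e, by omega⟩ (h4 y)
              · exact ho
          · exact Or.inl ⟨hm, ho, by omega⟩
        · rintro (⟨hm, ⟨c, hc⟩, hm1⟩ | ⟨a, ⟨ha, hao, ha1⟩, rfl⟩)
          · exact ⟨hm, by omega⟩
          · obtain ⟨y, hy⟩ := mem_ords.mp ha
            refine ⟨mem_ords.mpr ⟨t * y, ?_⟩, ?_⟩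
            · rw [(show Commute t y from (hcentral t ht y).symm).orderOf_mul_eq_mul_orderOf_of_coprime
                (by rw [ht, hy]; exact hao.coprime_two_left), ht, hy]
            · obtain ⟨c, hc⟩ := hao
              omega
      rw [hsm, hlg, Finset.card_pair (by norm_num), Finset.card_union_of_disjoint, Finset.card_image_of_injective _
        (mul_right_injective₀ two_ne_zero)] at hsum
      · have h1 : (p : ℤ) ∣ ((2 + (A.card + A.card) * n : ℕ) : ℤ) := by
          rw [← hsum]; exact_mod_cast hpd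
        push_cast at h1
        have h3 := dvd_sub ((hodd p hpp hp2 hpd).mul_left ((A.card : ℤ) + A.card)) h1
        rw [show ((A.card : ℤ) + A.card) * ((n : ℤ) + 1) - (2 + ((A.card : ℤ) + A.card) * n) =
          2 * ((A.card : ℤ) - 1) by ring] at h3
        exact (Int.isCoprime_iff_nat_coprime.mpr (by
          simpa using (Nat.coprime_primes hpp Nat.prime_two).mpr hp2)).dvd_of_dvd_mul_left h3
      · rw [Finset.disjoint_left]
        intro a ha ha'
        obtain ⟨b, -, rfl⟩ := Finset.mem_image.mp ha'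
        exact Nat.not_even_iff_odd.mpr (Finset.mem_filter.mp ha).2.1 (even_two_mul b)
    have hAne : A.Nonempty := by
      obtain ⟨g, hg⟩ := mem_ords.mp hmb
      rcases Nat.even_or_odd mb with ⟨c, hc⟩ | ho
      · refine ⟨c, Finset.mem_filter.mpr
          ⟨mem_ords.mpr (exists_order_dvd (g := g) ⟨2, by omega⟩), ?_, by omega⟩⟩
        rcases Nat.even_or_odd c with ⟨e, he⟩ | ho
        · exact absurd ⟨e, by omega⟩ (h4 g)
        · exact ho
      · exact ⟨mb, Finset.mem_filter.mpr ⟨hmb, ho, by omega⟩⟩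
    obtain ⟨p, hp, hp2, hpd, hall⟩ := key hdv hAne
    have hexpK : ∀ k ∈ K, k ^ p = 1 := fun k hk =>
      orderOf_dvd_iff_pow_eq_one.mp (hall k (hKodd' k hk))
    let e : T × K →* G :=
      { toFun := fun x => (x.1 : G) * x.2
        map_one' := by simp
        map_mul' := fun x y => by
          simp only [Prod.fst_mul, Prod.snd_mul, Subgroup.coe_mul]
          rw [mul_assoc (x.1 : G) y.1, ← mul_assoc (y.1 : G) x.2,
            ← Subgroup.mem_center_iff.mp (hTc y.1.2) x.2]
          simp only [mul_assoc] }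
    have ebij : Function.Bijective e := hK
    letI := (equivShrink.{0} K).symm.group
    let eK : Shrink.{0} K ≃* K := (equivShrink.{0} K).symm.mulEquiv
    have hK' : ∀ k : Shrink.{0} K, k ^ p = 1 := fun k => eK.injective (by
      rw [map_pow, map_one]; exact Subtype.ext (by simpa using hexpK _ (eK k).2))
    haveI : Finite (Shrink.{0} K) := Finite.of_equiv K (equivShrink.{0} K)
    refine Or.inr (Or.inr (Or.inr ⟨p, Shrink.{0} K, inferInstance, inferInstance, hp, hp2,
      fun k => ⟨1, by rw [pow_one]; exact hK' k⟩, ?_, ?_⟩))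
    · refine ((Nat.dvd_prime hp).mp (Monoid.exponent_dvd_of_forall_pow_eq_one hK')).resolve_left fun h => ?_
      haveI := Monoid.exp_eq_one_iff.mp h
      have hK1 : Nat.card K = 1 := by
        rw [Nat.card_congr (equivShrink.{0} K)]; exact Nat.card_unique
      have h1 := hK.card_mul
      rw [hTcard, hK1, mul_one] at h1
      rw [← h1] at hpd
      exact hp2 ((Nat.prime_dvd_prime_iff_eq hp Nat.prime_two).mp hpd)
    · exact ⟨(MulEquiv.ofBijective e ebij).symm.trans
        (((zmodMulEquivOfGenerator (g := (⟨t, Subgroup.mem_zpowers t⟩ : T)) (fun ⟨y, hy⟩ => by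
          obtain ⟨i, hi⟩ := Subgroup.mem_zpowers_iff.mp hy
          exact Subgroup.mem_zpowers_iff.mpr ⟨i, Subtype.ext (by simpa using hi)⟩) hTcard).symm).prodCongr eK.symm)⟩
  · -- odd order
    have hGodd : Odd (Nat.card G) := Nat.not_even_iff_odd.mp fun h => h2 (even_iff_two_dvd.mp h)
    have ho : ∀ g : G, Odd (orderOf g) := fun g => hGodd.of_dvd_nat (orderOf_dvd_natCard g)
    have hdv : ∀ p ∈ s, (p : ℤ) ∣ (A.card : ℤ) - 1 := by
      intro p hp
      obtain ⟨hp0, hp2⟩ := Finset.mem_filter.mp hp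
      have hpp := Nat.prime_of_mem_primeFactors hp0
      have hpd := Nat.dvd_of_mem_primeFactors hp0
      have hsum := sum_filter hv hc2 (fun _ => True)
      rw [Finset.filter_true, ← hallsum] at hsum
      have hsm : (ords G).filter (fun m => m ≤ 2) = {1} := by
        ext m
        simp only [Finset.mem_filter, Finset.mem_singleton]
        refine ⟨fun hm => ?_, fun h => h ▸ ⟨h1mem, by norm_num⟩⟩
        obtain ⟨y, hy⟩ := mem_ords.mp hm.1
        obtain ⟨c, hc⟩ := hy ▸ ho y
        omega
      have hlg : (ords G).filter (fun m => ¬ m ≤ 2) = A := by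
        ext m
        simp only [Finset.mem_filter, hA]
        constructor
        · rintro ⟨hm, hm2⟩
          obtain ⟨y, hy⟩ := mem_ords.mp hm
          exact ⟨hm, hy ▸ ho y, by omega⟩
        · rintro ⟨hm, ⟨c, hc⟩, hm1⟩
          exact ⟨hm, by omega⟩
      rw [hsm, hlg, Finset.card_singleton] at hsum
      have h1 : (p : ℤ) ∣ ((1 + A.card * n : ℕ) : ℤ) := by
        rw [← hsum]; exact_mod_cast hpd
      push_cast at h1
      have h3 := dvd_sub ((hodd p hpp hp2 hpd).mul_left (A.card : ℤ)) h1
      rwa [show (A.card : ℤ) * ((n : ℤ) + 1) - (1 + (A.card : ℤ) * n) = (A.card : ℤ) - 1 by ring] at h3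
    have hAne : A.Nonempty := by
      obtain ⟨g, hg⟩ := mem_ords.mp hmb
      exact ⟨mb, Finset.mem_filter.mpr ⟨hmb, hg ▸ ho g, by omega⟩⟩
    obtain ⟨p, hp, hp2, hpd, hall⟩ := key hdv hAne
    have hex : ∀ g : G, g ^ p = 1 := fun g => orderOf_dvd_iff_pow_eq_one.mp (hall g (ho g))
    refine Or.inl ⟨p, hp, fun g => ⟨1, by rw [pow_one]; exact hex g⟩, ?_, ?_⟩
    · have := Nat.le_of_dvd Nat.card_pos hpd
      have := hp.two_le
      omega
    · refine ((Nat.dvd_prime hp).mp (Monoid.exponent_dvd_of_forall_pow_eq_one hex)).resolve_left fun h => ?_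
      haveI := Monoid.exp_eq_one_iff.mp h
      rw [Nat.card_unique] at hpd
      exact hp.one_lt.ne' (Nat.dvd_one.mp hpd)

end

end Cfsg.Agent.Grp.TwoCounts
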