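import Mathlib
import Cfsg.Prelude.Def_Solvable
import Cfsg.Agent.Lib.Grp.TwoCounts
import Cfsg.Agent.Lib.Grp.DisconnectedGraph
import Cfsg.Agent.Lib.Grp.PrimePowerOrders
import Cfsg.Agent.Lib.Grp.CoprimeAbelian
import Cfsg.Agent.Lib.Grp.FrobeniusTower
import Cfsg.Agent.Lib.Transfer.OmegaMetacyclic

/-!
Groups of odd order in which the numbers of elements of each order take exactly three values.
-/

set_option autoImplicit false
set_option linter.unusedSectionVars false

namespace Cfsg.Agent.Grp.ThreeCounts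

open TwoCounts Finset
open scoped Pointwise

theorem sum_mul_divisors {M : Type*} [AddCommMonoid M] {m n : ℕ} (h : m.Coprime n) (f : ℕ → M) :
    ∑ d ∈ (m * n).divisors, f d = ∑ a ∈ m.divisors, ∑ b ∈ n.divisors, f (a * b) := by
  rw [Nat.divisors_mul, Finset.mul_def, Finset.sum_image, Finset.sum_product]
  rintro ⟨a, b⟩ hab ⟨a', b'⟩ hab' e
  simp only [Finset.coe_product, Set.mem_prod, Finset.mem_coe, Nat.mem_divisors] at hab hab'
  have key : ∀ x y : ℕ, x ∣ m → y ∣ n → (x * y).gcd m = x := fun x y hx hy => by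
    rw [Nat.Coprime.gcd_mul_right_cancel x (h.symm.coprime_dvd_left hy), Nat.gcd_eq_left hx]
  have ha : a = a' := by
    rw [← key a b hab.1.1 hab.2.1, ← key a' b' hab'.1.1 hab'.2.1]
    simp only at e
    rw [e]
  subst ha
  rcases Nat.eq_zero_or_pos a with h0 | h0
  · subst h0; exact absurd (Nat.eq_zero_of_zero_dvd hab.1.1) hab.1.2
  · exact Prod.ext rfl (Nat.eq_of_mul_eq_mul_left h0 e)

variable {G : Type*} [Group G] [Finite G]

theorem cnt_ne_zero {m : ℕ} : cnt G m ≠ 0 ↔ ∃ g : G, orderOf g = m := by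
  refine ⟨fun h => ?_, fun ⟨g, hg⟩ => ?_⟩
  · haveI : Nonempty {g : G // orderOf g = m} := (Nat.card_ne_zero.mp h).1
    obtain ⟨⟨g, hg⟩⟩ := this
    exact ⟨g, hg⟩
  · exact Nat.card_ne_zero.mpr ⟨⟨⟨g, hg⟩⟩, inferInstance⟩

theorem sum_cnt_le (s : Finset ℕ) : ∑ m ∈ s, cnt G m ≤ Nat.card G := by
  classical
  cases nonempty_fintype G
  rw [Nat.card_eq_fintype_card, ← Finset.card_univ]
  have h : ∑ m ∈ s, cnt G m = (Finset.univ.filter fun g : G => orderOf g ∈ s).card := by
    rw [Finset.card_eq_sum_card_fiberwise (s := Finset.univ.filter fun g : G => orderOf g ∈ s) (f := orderOf) (t := s)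
      (fun g hg => by simpa using hg)]
    refine Finset.sum_congr rfl fun m hm => ?_
    rw [cnt, Nat.card_eq_fintype_card, Fintype.card_subtype, Finset.filter_filter]
    congr 1
    ext g
    simp only [Finset.mem_filter, Finset.mem_univ, true_and]
    exact ⟨fun h => ⟨h ▸ hm, h⟩, fun h => h.2⟩
  rw [h]
  exact Finset.card_filter_le _ _

theorem dvd_sum_divisors {d : ℕ} (hd : d ∣ Nat.card G) : d ∣ ∑ m ∈ d.divisors, cnt G m := by
  classical
  have h0 : d ≠ 0 := fun e => Nat.card_pos.ne' (Nat.eq_zero_of_zero_dvd (e ▸ hd))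
  have h := frobenius_count (G := G) hd
  rwa [Finset.sum_subset (s₂ := d.divisors) (fun m hm => Nat.mem_divisors.mpr ⟨(Finset.mem_filter.mp hm).2, h0⟩)
    (fun m hm hm' => by
      by_contra hne
      obtain ⟨g, hg⟩ := cnt_ne_zero.mp hne
      exact hm' (Finset.mem_filter.mpr ⟨mem_ords.mpr ⟨g, hg⟩, Nat.dvd_of_mem_divisors hm⟩))] at h

theorem zmod_pair {p q k : ℕ} (hp : p.Prime) (hq : q.Prime) (hne : p ≠ q) (hd : p * q ∣ Nat.card G)
    (hk : k ∣ p * q) :
    ((1 + cnt G p + cnt G q + cnt G (p * q) : ℕ) : ZMod k) = 0 := by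
  have h := hk.trans (dvd_sum_divisors hd)
  rw [sum_mul_divisors ((Nat.coprime_primes hp hq).mpr hne), hp.divisors, hq.divisors,
    Finset.sum_pair hp.ne_one.symm, Finset.sum_pair hq.ne_one.symm, Finset.sum_pair hq.ne_one.symm] at h
  simp only [one_mul, mul_one, cnt_one] at h
  rw [ZMod.natCast_eq_zero_iff]
  rwa [show 1 + cnt G p + cnt G q + cnt G (p * q) = 1 + cnt G q + (cnt G p + cnt G (p * q)) by ring]

variable {a b : ℕ} (hodd : Odd (Nat.card G)) (ha : 2 ≤ a) (hb : 2 ≤ b) (hab : a ≠ b)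
  (hV : ∀ g : G, g ≠ 1 → cnt G (orderOf g) = a ∨ cnt G (orderOf g) = b)

section
include hodd

theorem three_le {p : ℕ} (hp : p.Prime) (hd : p ∣ Nat.card G) : 3 ≤ p := by
  have := hp.two_le
  have : p ≠ 2 := fun e => by
    obtain ⟨m, hm⟩ := hodd
    subst e
    omega
  omega

theorem neg_one_ne_one {p : ℕ} (hp : p.Prime) (hd : p ∣ Nat.card G) : (-1 : ZMod p) ≠ 1 := by
  have := three_le hodd hp hd
  haveI : Fact (2 < p) := ⟨by omega⟩
  exact ZMod.neg_one_ne_one

theorem cnt_prime {p : ℕ} (hp : p.Prime) (hd : p ∣ Nat.card G) : ((cnt G p : ℕ) : ZMod p) = -1 := by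
  have h := dvd_sum_divisors hd
  rw [hp.divisors, Finset.sum_pair hp.ne_one.symm, cnt_one, ← ZMod.natCast_eq_zero_iff] at h
  push_cast at h
  linear_combination h

end

include hodd ha hb hab hV

theorem cnt_mem {m : ℕ} (hm : 1 < m) : cnt G m = 0 ∨ cnt G m = a ∨ cnt G m = b := by
  by_cases h : cnt G m = 0
  · exact Or.inl h
  obtain ⟨g, hg⟩ := cnt_ne_zero.mp h
  subst hg
  exact Or.inr (hV g (fun e => by rw [e, orderOf_one] at hm; omega))

theorem cnt_prime_mem {p : ℕ} (hp : p.Prime) (hd : p ∣ Nat.card G) : cnt G p = a ∨ cnt G p = b := by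
  haveI := Fact.mk hp
  obtain ⟨g, hg⟩ := exists_prime_orderOf_dvd_card' p hd
  subst hg
  exact hV g (fun e => by rw [e, orderOf_one] at hp; exact Nat.not_prime_one hp)

omit hb ha in
/-- two primes with the same count -/
theorem same {p q : ℕ} (hp : p.Prime) (hq : q.Prime) (hne : p ≠ q) (hpd : p ∣ Nat.card G) (hqd : q ∣ Nat.card G)
    {v w : ℕ} (hvw : (v = a ∧ w = b) ∨ (v = b ∧ w = a)) (h1 : cnt G p = v) (h2 : cnt G q = v)
    (hm : cnt G (p * q) = 0 ∨ cnt G (p * q) = a ∨ cnt G (p * q) = b) :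
    cnt G (p * q) = w ∧ (w : ZMod p) = 1 := by
  have hd : p * q ∣ Nat.card G := ((Nat.coprime_primes hp hq).mpr hne).mul_dvd_of_dvd_of_dvd hpd hqd
  have h := zmod_pair hp hq hne hd (dvd_mul_right p q)
  have hv := cnt_prime hodd hp hpd
  have hn := neg_one_ne_one hodd hp hpd
  push_cast at h
  rw [hv, h2] at h
  rw [h1] at hv
  have hN : ((cnt G (p * q) : ℕ) : ZMod p) = 1 := by linear_combination h - hv
  have h3 : cnt G (p * q) = w := by
    rcases hm with e | e | e
    · rw [e, Nat.cast_zero] at hN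
      haveI := Fact.mk hp
      exact absurd hN zero_ne_one
    all_goals
      rcases hvw with ⟨ev, ew⟩ | ⟨ev, ew⟩ <;> subst ev ew <;>
      first
      | exact e
      | (exfalso; rw [e, hv] at hN; exact hn hN)
  exact ⟨h3, h3 ▸ hN⟩

theorem not_three {p q r : ℕ} (hp : p.Prime) (hq : q.Prime) (hr : r.Prime) (hpq : p ≠ q) (hpr : p ≠ r) (hqr : q ≠ r)
    (hpd : p ∣ Nat.card G) (hqd : q ∣ Nat.card G) (hrd : r ∣ Nat.card G)
    {v w : ℕ} (hvw : (v = a ∧ w = b) ∨ (v = b ∧ w = a)) (h1 : cnt G p = v) (h2 : cnt G q = v) :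
    cnt G r = v := by
  by_contra h3v
  have h3 : cnt G r = w := by
    rcases hvw with ⟨rfl, rfl⟩ | ⟨rfl, rfl⟩ <;> rcases cnt_prime_mem hodd ha hb hab hV hr hrd with e | e <;>
      first | exact e | exact absurd e h3v
  haveI := Fact.mk hp
  haveI := Fact.mk hr
  have hmem : ∀ m, 1 < m → cnt G m = 0 ∨ cnt G m = v ∨ cnt G m = w := by
    intro m hm
    rcases hvw with ⟨rfl, rfl⟩ | ⟨rfl, rfl⟩
    · exact cnt_mem hodd ha hb hab hV hm
    · rcases cnt_mem hodd ha hb hab hV hm with e | e | e <;> simp [e]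
  have hgt : ∀ {x y : ℕ}, x.Prime → y.Prime → 1 < x * y := fun hx hy =>
    lt_of_lt_of_le (by norm_num) (Nat.mul_le_mul hx.two_le hy.two_le)
  obtain ⟨hpqw, hwp⟩ := same hodd hab hV hp hq hpq hpd hqd hvw h1 h2 (cnt_mem hodd ha hb hab hV (hgt hp hq))
  obtain ⟨-, hwq⟩ := same hodd hab hV hq hp hpq.symm hqd hpd hvw h2 h1 (cnt_mem hodd ha hb hab hV (hgt hq hp))
  have key : ∀ {x : ℕ}, x.Prime → x ≠ r → x ∣ Nat.card G → cnt G x = v → (w : ZMod x) = 1 →
      cnt G (x * r) = v ∧ (v : ZMod r) = 0 := by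
    intro x hx hxr hxd hxv hwx
    haveI := Fact.mk hx
    have hd : x * r ∣ Nat.card G := ((Nat.coprime_primes hx hr).mpr hxr).mul_dvd_of_dvd_of_dvd hxd hrd
    have hA := zmod_pair hx hr hxr hd (dvd_mul_right x r)
    have hB := zmod_pair hx hr hxr hd (dvd_mul_left r x)
    have e1 := cnt_prime hodd hx hxd
    have e2 := cnt_prime hodd hr hrd
    rw [hxv] at e1 hA hB
    rw [h3] at e2 hA hB
    push_cast at hA hB
    have hN : ((cnt G (x * r) : ℕ) : ZMod x) = -1 := by linear_combination hA - e1 - hwx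
    have hNv : cnt G (x * r) = v := by
      rcases hmem _ (hgt hx hr) with e | e | e
      · rw [e, Nat.cast_zero] at hN
        exact absurd hN.symm (neg_ne_zero.mpr one_ne_zero)
      · exact e
      · rw [e, hwx] at hN
        exact absurd hN.symm (neg_one_ne_one hodd hx hxd)
    refine ⟨hNv, ?_⟩
    rw [hNv] at hB
    have h2v : (2 : ZMod r) * (v : ZMod r) = 0 := by linear_combination hB - e2
    rcases mul_eq_zero.mp h2v with e | e
    · exfalso
      apply neg_one_ne_one hodd hr hrd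
      linear_combination (-1 : ZMod r) * e
    · exact e
  obtain ⟨hprv, hvr⟩ := key hp hpr hpd h1 hwp
  obtain ⟨hqrv, -⟩ := key hq hqr hqd h2 hwq
  have hcop : (p * q).Coprime r := Nat.Coprime.mul_left ((Nat.coprime_primes hp hr).mpr hpr) ((Nat.coprime_primes hq hr).mpr hqr)
  have hd3 : p * q * r ∣ Nat.card G :=
    hcop.mul_dvd_of_dvd_of_dvd (((Nat.coprime_primes hp hq).mpr hpq).mul_dvd_of_dvd_of_dvd hpd hqd) hrd
  have h := dvd_sum_divisors hd3
  rw [sum_mul_divisors hcop, sum_mul_divisors ((Nat.coprime_primes hp hq).mpr hpq)] at h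
  simp only [hp.divisors, hq.divisors, hr.divisors, Finset.sum_pair hp.ne_one.symm, Finset.sum_pair hq.ne_one.symm,
    Finset.sum_pair hr.ne_one.symm, one_mul, mul_one, cnt_one, h1, h2, h3, hpqw, hprv, hqrv] at h
  have hA := (ZMod.natCast_eq_zero_iff _ p).mpr ((dvd_mul_of_dvd_left (dvd_mul_right p q) r).trans h)
  have hB := (ZMod.natCast_eq_zero_iff _ r).mpr ((dvd_mul_left r (p * q)).trans h)
  push_cast at hA hB
  have e1 := cnt_prime hodd hp hpd
  have e2 := cnt_prime hodd hr hrd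
  rw [h1] at e1
  rw [h3] at e2
  have hN : ((cnt G (p * q * r) : ℕ) : ZMod p) = 1 := by linear_combination hA - 4 * e1 - 2 * hwp
  have hNw : cnt G (p * q * r) = w := by
    rcases hmem _ (lt_of_lt_of_le (hgt hp hq) (Nat.le_mul_of_pos_right _ hr.pos)) with e | e | e
    · rw [e, Nat.cast_zero] at hN
      exact absurd hN zero_ne_one
    · rw [e, e1] at hN
      exact absurd hN (neg_one_ne_one hodd hp hpd)
    · exact e
  rw [hNw] at hB
  exact two_ne_zero' (ZMod r) (neg_one_ne_one hodd hr hrd) (by linear_combination (-1 : ZMod r) * (hB - 4 * hvr - 3 * e2))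
where
  two_ne_zero' (R : Type) [CommRing R] (h : (-1 : R) ≠ 1) (e : (2 : R) = 0) : False :=
    h (by linear_combination (-1 : R) * e)

theorem not_all_same {v w : ℕ} (hvw : (v = a ∧ w = b) ∨ (v = b ∧ w = a))
    (hall : ∀ p, p.Prime → p ∣ Nat.card G → cnt G p = v)
    {p₀ q₀ : ℕ} (hp₀ : p₀.Prime) (hq₀ : q₀.Prime) (hne : p₀ ≠ q₀) (hp₀d : p₀ ∣ Nat.card G) (hq₀d : q₀ ∣ Nat.card G) : False := by
  have hgt : ∀ {x y : ℕ}, x.Prime → y.Prime → 1 < x * y := fun hx hy =>
    lt_of_lt_of_le (by norm_num) (Nat.mul_le_mul hx.two_le hy.two_le)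
  have hv2 : 2 ≤ v := by rcases hvw with ⟨rfl, -⟩ | ⟨rfl, -⟩ <;> assumption
  have hw2 : 2 ≤ w := by rcases hvw with ⟨-, rfl⟩ | ⟨-, rfl⟩ <;> assumption
  have hdvd : Nat.card G ∣ 1 + v := by
    rw [← Nat.factorization_le_iff_dvd Nat.card_pos.ne' (by omega)]
    intro p
    by_cases hp : p.Prime
    swap
    · simp [Nat.factorization_eq_zero_of_not_prime _ hp]
    by_cases hpd : p ∣ Nat.card G
    swap
    · simp [Nat.factorization_eq_zero_of_not_dvd hpd]
    haveI := Fact.mk hp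
    obtain ⟨q, hq, hqd, hqne⟩ : ∃ q, q.Prime ∧ q ∣ Nat.card G ∧ p ≠ q := by
      by_cases e : p = p₀
      · exact ⟨q₀, hq₀, hq₀d, e ▸ hne⟩
      · exact ⟨p₀, hp₀, hp₀d, e⟩
    obtain ⟨-, hwp⟩ := same hodd hab hV hp hq hqne hpd hqd hvw (hall p hp hpd) (hall q hq hqd)
      (cnt_mem hodd ha hb hab hV (hgt hp hq))
    have hvp := cnt_prime hodd hp hpd
    rw [hall p hp hpd] at hvp
    have hbig : ∀ i, 2 ≤ i → cnt G (p ^ i) = 0 := by
      intro i hi
      by_contra hne0
      have h1 : p ∣ cnt G (p ^ i) := by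
        refine dvd_trans ?_ (totient_dvd_cnt _)
        rw [Nat.totient_prime_pow hp (by omega)]
        exact dvd_mul_of_dvd_left (dvd_pow_self p (by omega)) _
      rw [← ZMod.natCast_eq_zero_iff] at h1
      rcases cnt_mem hodd ha hb hab hV (Nat.one_lt_pow (by omega : i ≠ 0) hp.one_lt) with e | e | e
      · exact hne0 e
      all_goals
        rw [e] at h1
        rcases hvw with ⟨ev, ew⟩ | ⟨ev, ew⟩ <;> subst ev ew <;>
          first
          | (rw [hvp] at h1; exact neg_ne_zero.mpr one_ne_zero h1)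
          | (rw [hwp] at h1; exact one_ne_zero h1)
    set k := (Nat.card G).factorization p with hk
    have hk1 : 1 ≤ k := hp.factorization_pos_of_dvd Nat.card_pos.ne' hpd
    have h := dvd_sum_divisors (G := G) (Nat.ordProj_dvd (Nat.card G) p)
    rw [← hk, Nat.sum_divisors_prime_pow hp, ← Finset.sum_range_add_sum_Ico _ (show 2 ≤ k + 1 by omega),
      Finset.sum_eq_zero (s := Finset.Ico 2 (k + 1)) (fun i hi => hbig i (Finset.mem_Ico.mp hi).1), add_zero,
      Finset.sum_range_succ, Finset.sum_range_one, pow_zero, pow_one, cnt_one, hall p hp hpd] at h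
    exact (hp.pow_dvd_iff_le_factorization (by omega)).mp h
  have h1 := Nat.le_of_dvd (by omega) hdvd
  obtain ⟨e, -⟩ := same hodd hab hV hp₀ hq₀ hne hp₀d hq₀d hvw (hall _ hp₀ hp₀d) (hall _ hq₀ hq₀d)
    (cnt_mem hodd ha hb hab hV (hgt hp₀ hq₀))
  have h2 := sum_cnt_le (G := G) {1, p₀, p₀ * q₀}
  rw [Finset.sum_insert (by simp [hp₀.ne_one.symm, (hgt hp₀ hq₀).ne]), Finset.sum_insert (by
    simp only [Finset.mem_singleton]
    nlinarith [hp₀.two_le, hq₀.two_le]), Finset.sum_singleton, cnt_one, hall _ hp₀ hp₀d, e] at h2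
  omega

theorem card_primeFactors_le : (Nat.card G).primeFactors.card ≤ 2 := by
  by_contra h
  obtain ⟨p, q, r, hp, hq, hr, hpq, hpr, hqr⟩ := Finset.two_lt_card_iff.mp (by omega : 2 < (Nat.card G).primeFactors.card)
  obtain ⟨hp', hpd, -⟩ := Nat.mem_primeFactors.mp hp
  obtain ⟨hq', hqd, -⟩ := Nat.mem_primeFactors.mp hq
  obtain ⟨hr', hrd, -⟩ := Nat.mem_primeFactors.mp hr
  -- two of the three have the same count
  obtain ⟨x, y, v, w, hx, hy, hxy, hxd, hyd, hvw, hxv, hyv⟩ : ∃ x y v w : ℕ, x.Prime ∧ y.Prime ∧ x ≠ y ∧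
      x ∣ Nat.card G ∧ y ∣ Nat.card G ∧ ((v = a ∧ w = b) ∨ (v = b ∧ w = a)) ∧ cnt G x = v ∧ cnt G y = v := by
    rcases cnt_prime_mem hodd ha hb hab hV hp' hpd with e1 | e1 <;>
      rcases cnt_prime_mem hodd ha hb hab hV hq' hqd with e2 | e2 <;>
      rcases cnt_prime_mem hodd ha hb hab hV hr' hrd with e3 | e3
    all_goals first
      | exact ⟨p, q, a, b, hp', hq', hpq, hpd, hqd, Or.inl ⟨rfl, rfl⟩, e1, e2⟩
      | exact ⟨p, q, b, a, hp', hq', hpq, hpd, hqd, Or.inr ⟨rfl, rfl⟩, e1, e2⟩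
      | exact ⟨p, r, a, b, hp', hr', hpr, hpd, hrd, Or.inl ⟨rfl, rfl⟩, e1, e3⟩
      | exact ⟨p, r, b, a, hp', hr', hpr, hpd, hrd, Or.inr ⟨rfl, rfl⟩, e1, e3⟩
      | exact ⟨q, r, a, b, hq', hr', hqr, hqd, hrd, Or.inl ⟨rfl, rfl⟩, e2, e3⟩
      | exact ⟨q, r, b, a, hq', hr', hqr, hqd, hrd, Or.inr ⟨rfl, rfl⟩, e2, e3⟩
  refine not_all_same hodd ha hb hab hV hvw (fun z hz hzd => ?_) hx hy hxy hxd hyd
  by_cases e1 : z = x
  · rw [e1]; exact hxv
  by_cases e2 : z = y
  · rw [e2]; exact hyv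
  exact not_three hodd ha hb hab hV hx hy hz hxy (Ne.symm e1) (Ne.symm e2) hxd hyd hzd hvw hxv hyv

omit hab in
/-- two primes with different counts: no element of order `p * q`. -/
theorem no_mixed {p q : ℕ} (hp : p.Prime) (hq : q.Prime) (hne : p ≠ q) (hpd : p ∣ Nat.card G) (hqd : q ∣ Nat.card G)
    (hpa : cnt G p = a) (hqb : cnt G q = b) : cnt G (p * q) ≠ a := by
  classical
  intro hpq
  haveI := Fact.mk hp
  haveI := Fact.mk hq
  have hd : p * q ∣ Nat.card G := ((Nat.coprime_primes hp hq).mpr hne).mul_dvd_of_dvd_of_dvd hpd hqd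
  have h := zmod_pair hp hq hne hd (dvd_mul_right p q)
  have e1 := cnt_prime hodd hp hpd
  rw [hpa, hqb, hpq] at h
  rw [hpa] at e1
  push_cast at h
  have hbp : (b : ZMod p) = 1 := by linear_combination h - 2 * e1
  -- a Sylow `p`-subgroup centralizes some element of order `q`
  obtain ⟨P⟩ := (inferInstance : Nonempty (Sylow p G))
  letI : MulAction (P : Subgroup G) {g : G // orderOf g = q} :=
    { smul := fun x g => ⟨(x : G) * g * (x : G)⁻¹, by rw [← MulAut.conj_apply, MulEquiv.orderOf_eq]; exact g.2⟩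
      one_smul := fun g => Subtype.ext (show ((1 : (P : Subgroup G)) : G) * g * ((1 : (P : Subgroup G)) : G)⁻¹ = g by simp)
      mul_smul := fun x y g => Subtype.ext (show ((x * y : (P : Subgroup G)) : G) * g * ((x * y : (P : Subgroup G)) : G)⁻¹ =
        (x : G) * ((y : G) * g * (y : G)⁻¹) * (x : G)⁻¹ by rw [Subgroup.coe_mul, mul_inv_rev]; simp only [mul_assoc]) }
  have hfix := P.isPGroup'.card_modEq_card_fixedPoints {g : G // orderOf g = q}
  have hpos : 0 < Nat.card (MulAction.fixedPoints (P : Subgroup G) {g : G // orderOf g = q}) := by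
    by_contra h0
    have h1 : Nat.card {g : G // orderOf g = q} = b := hqb
    rw [h1, Nat.eq_zero_of_not_pos h0, ← ZMod.natCast_eq_natCast_iff, hbp, Nat.cast_zero] at hfix
    exact one_ne_zero hfix
  obtain ⟨⟨⟨y, hy⟩, hyfix⟩⟩ := (Nat.card_pos_iff.mp hpos).1
  have hsel : ∀ x : {g : G // orderOf g = p}, ∃ z : G, orderOf z = q ∧ Commute (x : G) z := by
    intro x
    obtain ⟨Q, hQ⟩ := (IsPGroup.of_card (p := p) (n := 1) (show Nat.card (Subgroup.zpowers (x : G)) = p ^ 1 by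
      rw [Nat.card_zpowers, x.2, pow_one])).exists_le_sylow
    obtain ⟨g, hg⟩ := MulAction.exists_smul_eq G P Q
    have hx := hQ (Subgroup.mem_zpowers (x : G))
    rw [← hg, Sylow.coe_subgroup_smul, Subgroup.pointwise_smul_def] at hx
    obtain ⟨x', hx', hxe⟩ := hx
    refine ⟨g * y * g⁻¹, by rw [← MulAut.conj_apply, MulEquiv.orderOf_eq]; exact hy, ?_⟩
    have hc : x' * y * x'⁻¹ = y := congrArg Subtype.val (hyfix ⟨x', hx'⟩)
    rw [mul_inv_eq_iff_eq_mul] at hc
    have hxe' : g * x' * g⁻¹ = x := hxe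
    show (x : G) * (g * y * g⁻¹) = g * y * g⁻¹ * x
    rw [← hxe']
    calc g * x' * g⁻¹ * (g * y * g⁻¹) = g * (x' * y) * g⁻¹ := by group
      _ = g * (y * x') * g⁻¹ := by rw [hc]
      _ = _ := by group
  choose z hz hzc using hsel
  have hq3 := three_le hodd hq hqd
  have hpow : ∀ (x : {g : G // orderOf g = p}) (i : Fin 2), orderOf (z x ^ ((i : ℕ) + 1)) = q := by
    intro x i
    rw [Nat.Coprime.orderOf_pow, hz]
    rw [hz]
    exact (hq.coprime_iff_not_dvd.mpr fun h => by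
      have := Nat.le_of_dvd (by omega) h
      have := i.2
      omega)
  let f : {g : G // orderOf g = p} × Fin 2 → {g : G // orderOf g = p * q} := fun t =>
    ⟨(t.1 : G) * z t.1 ^ ((t.2 : ℕ) + 1), by
      rw [((hzc t.1).pow_right _).orderOf_mul_eq_mul_orderOf_of_coprime (by
        rw [t.1.2, hpow]; exact (Nat.coprime_primes hp hq).mpr hne), t.1.2, hpow]⟩
  have hf : Function.Injective f := by
    rintro ⟨x, i⟩ ⟨x', i'⟩ e
    have e0 : (x : G) * z x ^ ((i : ℕ) + 1) = (x' : G) * z x' ^ ((i' : ℕ) + 1) := congrArg Subtype.val e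
    have e1 := congrArg (· ^ q) e0
    simp only [((hzc x).pow_right _).mul_pow, ((hzc x').pow_right _).mul_pow] at e1
    rw [show (z x ^ ((i : ℕ) + 1)) ^ q = 1 by conv_lhs => rw [← hpow x i, pow_orderOf_eq_one],
      show (z x' ^ ((i' : ℕ) + 1)) ^ q = 1 by conv_lhs => rw [← hpow x' i', pow_orderOf_eq_one], mul_one, mul_one] at e1
    have hx : x = x' := by
      obtain ⟨m, hm⟩ := exists_pow_eq_self_of_coprime (x := (x : G)) (n := q) (by
        rw [x.2]; exact ((Nat.coprime_primes hp hq).mpr hne).symm)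
      obtain ⟨m', hm'⟩ := exists_pow_eq_self_of_coprime (x := (x' : G)) (n := q) (by
        rw [x'.2]; exact ((Nat.coprime_primes hp hq).mpr hne).symm)
      apply Subtype.ext
      have e2 : orderOf (x : G) = orderOf ((x : G) ^ q) := by
        rw [Nat.Coprime.orderOf_pow]; rw [x.2]; exact (Nat.coprime_primes hp hq).mpr hne
      obtain ⟨k, hk⟩ : ∃ k, ∀ u : G, orderOf u = p → (u ^ q) ^ k = u := by
        obtain ⟨k, hk⟩ := Nat.exists_mul_mod_eq_one_of_coprime ((Nat.coprime_primes hq hp).mpr hne.symm) hp.one_lt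
        exact ⟨k, fun u hu => by rw [← pow_mul, ← pow_mod_orderOf, hu, hk.2, pow_one]⟩
      rw [← hk _ x.2, e1, hk _ x'.2]
    subst hx
    have e3 := mul_left_cancel e0
    rw [pow_inj_mod, hz, Nat.mod_eq_of_lt (by omega), Nat.mod_eq_of_lt (by omega)] at e3
    exact Prod.ext rfl (Fin.ext (show (i : ℕ) = (i' : ℕ) by omega))
  have h2 := Nat.card_le_card_of_injective f hf
  rw [Nat.card_prod, Nat.card_fin, show Nat.card {g : G // orderOf g = p} = a from hpa,
    show Nat.card {g : G // orderOf g = p * q} = a from hpq] at h2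
  omega

end Cfsg.Agent.Grp.ThreeCounts
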