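import Mathlib
import Cfsg.Agent.Lib.Grp.ThreeCounts

/-!
Three count values at odd primes of a group of even order.
-/

set_option autoImplicit false
set_option linter.unusedSectionVars false

namespace Cfsg.Agent.Grp.ThreeCounts.Even

open TwoCounts Finset
open scoped Pointwise

theorem three' {p : ℕ} (hp : p.Prime) (hp2 : p ≠ 2) : 3 ≤ p := by
  have := hp.two_le
  omega

theorem neg_one' {p : ℕ} (hp : p.Prime) (hp2 : p ≠ 2) : (-1 : ZMod p) ≠ 1 := by
  haveI : Fact (2 < p) := ⟨by have := three' hp hp2; omega⟩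
  exact ZMod.neg_one_ne_one

variable {G : Type*} [Group G] [Finite G]

theorem cnt_prime' {p : ℕ} (hp : p.Prime) (hd : p ∣ Nat.card G) : ((cnt G p : ℕ) : ZMod p) = -1 := by
  have h := dvd_sum_divisors hd
  rw [hp.divisors, Finset.sum_pair hp.ne_one.symm, cnt_one, ← ZMod.natCast_eq_zero_iff] at h
  push_cast at h
  linear_combination h

variable {a b : ℕ} (ha : 2 ≤ a) (hb : 2 ≤ b) (hab : a ≠ b)
  (hV : ∀ g : G, 2 < orderOf g → cnt G (orderOf g) = a ∨ cnt G (orderOf g) = b)

include hV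

theorem cnt_mem' {m : ℕ} (hm : 2 < m) : cnt G m = 0 ∨ cnt G m = a ∨ cnt G m = b := by
  by_cases h : cnt G m = 0
  · exact Or.inl h
  obtain ⟨g, hg⟩ := cnt_ne_zero.mp h
  subst hg
  exact Or.inr (hV g hm)

theorem cnt_prime_mem' {p : ℕ} (hp : p.Prime) (hp2 : p ≠ 2) (hd : p ∣ Nat.card G) : cnt G p = a ∨ cnt G p = b := by
  haveI := Fact.mk hp
  obtain ⟨g, hg⟩ := exists_prime_orderOf_dvd_card' p hd
  subst hg
  exact hV g (by have := three' hp hp2; omega)

include hab

/-- two primes with the same count -/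
theorem same {p q : ℕ} (hp2 : p ≠ 2) (hq2 : q ≠ 2) (hp : p.Prime) (hq : q.Prime) (hne : p ≠ q) (hpd : p ∣ Nat.card G) (hqd : q ∣ Nat.card G)
    {v w : ℕ} (hvw : (v = a ∧ w = b) ∨ (v = b ∧ w = a)) (h1 : cnt G p = v) (h2 : cnt G q = v)
    (hm : cnt G (p * q) = 0 ∨ cnt G (p * q) = a ∨ cnt G (p * q) = b) :
    cnt G (p * q) = w ∧ (w : ZMod p) = 1 := by
  have hd : p * q ∣ Nat.card G := ((Nat.coprime_primes hp hq).mpr hne).mul_dvd_of_dvd_of_dvd hpd hqd
  have h := zmod_pair hp hq hne hd (dvd_mul_right p q)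
  have hv := cnt_prime' hp hpd
  have hn := neg_one' hp hp2
  push_cast at h
  rw [hv, h2] at h
  rw [h1] at hv
  have hN : ((cnt G (p * q) : ℕ) : ZMod p) = 1 := by linear_combination h - hv
  have h3 : cnt G (p * q) = w := by
    rcases hm with e | e | e
    · rw [e, Nat.cast_zero] at hN
      haveI := Fact.mk hp
      exact absurd hN zero_ne_one
    all_goals
      rcases hvw with ⟨ev, ew⟩ | ⟨ev, ew⟩ <;> subst ev ew <;>
      first
      | exact e
      | (exfalso; rw [e, hv] at hN; exact hn hN)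
  exact ⟨h3, h3 ▸ hN⟩


theorem not_three {p q r : ℕ} (hp2 : p ≠ 2) (hq2 : q ≠ 2) (hr2 : r ≠ 2) (hp : p.Prime) (hq : q.Prime) (hr : r.Prime) (hpq : p ≠ q) (hpr : p ≠ r) (hqr : q ≠ r)
    (hpd : p ∣ Nat.card G) (hqd : q ∣ Nat.card G) (hrd : r ∣ Nat.card G)
    {v w : ℕ} (hvw : (v = a ∧ w = b) ∨ (v = b ∧ w = a)) (h1 : cnt G p = v) (h2 : cnt G q = v) :
    cnt G r = v := by
  by_contra h3v
  have h3 : cnt G r = w := by
    rcases hvw with ⟨rfl, rfl⟩ | ⟨rfl, rfl⟩ <;> rcases cnt_prime_mem' hV hr hr2 hrd with e | e <;>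
      first | exact e | exact absurd e h3v
  haveI := Fact.mk hp
  haveI := Fact.mk hr
  have hmem : ∀ m, 2 < m → cnt G m = 0 ∨ cnt G m = v ∨ cnt G m = w := by
    intro m hm
    rcases hvw with ⟨rfl, rfl⟩ | ⟨rfl, rfl⟩
    · exact cnt_mem' hV hm
    · rcases cnt_mem' hV hm with e | e | e <;> simp [e]
  have hgt : ∀ {x y : ℕ}, x.Prime → y.Prime → 2 < x * y := fun hx hy =>
    lt_of_lt_of_le (by norm_num) (Nat.mul_le_mul hx.two_le hy.two_le)
  obtain ⟨hpqw, hwp⟩ := same hab hV hp2 hq2 hp hq hpq hpd hqd hvw h1 h2 (cnt_mem' hV (hgt hp hq))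
  obtain ⟨-, hwq⟩ := same hab hV hq2 hp2 hq hp hpq.symm hqd hpd hvw h2 h1 (cnt_mem' hV (hgt hq hp))
  have key : ∀ {x : ℕ}, x ≠ 2 → x.Prime → x ≠ r → x ∣ Nat.card G → cnt G x = v → (w : ZMod x) = 1 →
      cnt G (x * r) = v ∧ (v : ZMod r) = 0 := by
    intro x hx2 hx hxr hxd hxv hwx
    haveI := Fact.mk hx
    have hd : x * r ∣ Nat.card G := ((Nat.coprime_primes hx hr).mpr hxr).mul_dvd_of_dvd_of_dvd hxd hrd
    have hA := zmod_pair hx hr hxr hd (dvd_mul_right x r)
    have hB := zmod_pair hx hr hxr hd (dvd_mul_left r x)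
    have e1 := cnt_prime' hx hxd
    have e2 := cnt_prime' hr hrd
    rw [hxv] at e1 hA hB
    rw [h3] at e2 hA hB
    push_cast at hA hB
    have hN : ((cnt G (x * r) : ℕ) : ZMod x) = -1 := by linear_combination hA - e1 - hwx
    have hNv : cnt G (x * r) = v := by
      rcases hmem _ (hgt hx hr) with e | e | e
      · rw [e, Nat.cast_zero] at hN
        exact absurd hN.symm (neg_ne_zero.mpr one_ne_zero)
      · exact e
      · rw [e, hwx] at hN
        exact absurd hN.symm (neg_one' hx hx2)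
    refine ⟨hNv, ?_⟩
    rw [hNv] at hB
    have h2v : (2 : ZMod r) * (v : ZMod r) = 0 := by linear_combination hB - e2
    rcases mul_eq_zero.mp h2v with e | e
    · exfalso
      apply neg_one' hr hr2
      linear_combination (-1 : ZMod r) * e
    · exact e
  obtain ⟨hprv, hvr⟩ := key hp2 hp hpr hpd h1 hwp
  obtain ⟨hqrv, -⟩ := key hq2 hq hqr hqd h2 hwq
  have hcop : (p * q).Coprime r := Nat.Coprime.mul_left ((Nat.coprime_primes hp hr).mpr hpr) ((Nat.coprime_primes hq hr).mpr hqr)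
  have hd3 : p * q * r ∣ Nat.card G :=
    hcop.mul_dvd_of_dvd_of_dvd (((Nat.coprime_primes hp hq).mpr hpq).mul_dvd_of_dvd_of_dvd hpd hqd) hrd
  have h := dvd_sum_divisors hd3
  rw [sum_mul_divisors hcop, sum_mul_divisors ((Nat.coprime_primes hp hq).mpr hpq)] at h
  simp only [hp.divisors, hq.divisors, hr.divisors, Finset.sum_pair hp.ne_one.symm, Finset.sum_pair hq.ne_one.symm,
    Finset.sum_pair hr.ne_one.symm, one_mul, mul_one, cnt_one, h1, h2, h3, hpqw, hprv, hqrv] at h
  have hA := (ZMod.natCast_eq_zero_iff _ p).mpr ((dvd_mul_of_dvd_left (dvd_mul_right p q) r).trans h)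
  have hB := (ZMod.natCast_eq_zero_iff _ r).mpr ((dvd_mul_left r (p * q)).trans h)
  push_cast at hA hB
  have e1 := cnt_prime' hp hpd
  have e2 := cnt_prime' hr hrd
  rw [h1] at e1
  rw [h3] at e2
  have hN : ((cnt G (p * q * r) : ℕ) : ZMod p) = 1 := by linear_combination hA - 4 * e1 - 2 * hwp
  have hNw : cnt G (p * q * r) = w := by
    rcases hmem _ (lt_of_lt_of_le (hgt hp hq) (Nat.le_mul_of_pos_right _ hr.pos)) with e | e | e
    · rw [e, Nat.cast_zero] at hN
      exact absurd hN zero_ne_one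
    · rw [e, e1] at hN
      exact absurd hN (neg_one' hp hp2)
    · exact e
  rw [hNw] at hB
  exact two_ne_zero' (ZMod r) (neg_one' hr hr2) (by linear_combination (-1 : ZMod r) * (hB - 4 * hvr - 3 * e2))
where
  two_ne_zero' (R : Type) [CommRing R] (h : (-1 : R) ≠ 1) (e : (2 : R) = 0) : False :=
    h (by linear_combination (-1 : R) * e)


include ha hb

/-- two primes with different counts: no element of order `p * q`. -/
theorem no_mixed {p q : ℕ} (hp2 : p ≠ 2) (hq2 : q ≠ 2) (hp : p.Prime) (hq : q.Prime) (hne : p ≠ q) (hpd : p ∣ Nat.card G) (hqd : q ∣ Nat.card G)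
    (hpa : cnt G p = a) (hqb : cnt G q = b) : cnt G (p * q) ≠ a := by
  classical
  intro hpq
  haveI := Fact.mk hp
  haveI := Fact.mk hq
  have hd : p * q ∣ Nat.card G := ((Nat.coprime_primes hp hq).mpr hne).mul_dvd_of_dvd_of_dvd hpd hqd
  have h := zmod_pair hp hq hne hd (dvd_mul_right p q)
  have e1 := cnt_prime' hp hpd
  rw [hpa, hqb, hpq] at h
  rw [hpa] at e1
  push_cast at h
  have hbp : (b : ZMod p) = 1 := by linear_combination h - 2 * e1
  -- a Sylow `p`-subgroup centralizes some element of order `q`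
  obtain ⟨P⟩ := (inferInstance : Nonempty (Sylow p G))
  letI : MulAction (P : Subgroup G) {g : G // orderOf g = q} :=
    { smul := fun x g => ⟨(x : G) * g * (x : G)⁻¹, by rw [← MulAut.conj_apply, MulEquiv.orderOf_eq]; exact g.2⟩
      one_smul := fun g => Subtype.ext (show ((1 : (P : Subgroup G)) : G) * g * ((1 : (P : Subgroup G)) : G)⁻¹ = g by simp)
      mul_smul := fun x y g => Subtype.ext (show ((x * y : (P : Subgroup G)) : G) * g * ((x * y : (P : Subgroup G)) : G)⁻¹ =
        (x : G) * ((y : G) * g * (y : G)⁻¹) * (x : G)⁻¹ by rw [Subgroup.coe_mul, mul_inv_rev]; simp only [mul_assoc]) }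
  have hfix := P.isPGroup'.card_modEq_card_fixedPoints {g : G // orderOf g = q}
  have hpos : 0 < Nat.card (MulAction.fixedPoints (P : Subgroup G) {g : G // orderOf g = q}) := by
    by_contra h0
    have h1 : Nat.card {g : G // orderOf g = q} = b := hqb
    rw [h1, Nat.eq_zero_of_not_pos h0, ← ZMod.natCast_eq_natCast_iff, hbp, Nat.cast_zero] at hfix
    exact one_ne_zero hfix
  obtain ⟨⟨⟨y, hy⟩, hyfix⟩⟩ := (Nat.card_pos_iff.mp hpos).1
  have hsel : ∀ x : {g : G // orderOf g = p}, ∃ z : G, orderOf z = q ∧ Commute (x : G) z := by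
    intro x
    obtain ⟨Q, hQ⟩ := (IsPGroup.of_card (p := p) (n := 1) (show Nat.card (Subgroup.zpowers (x : G)) = p ^ 1 by
      rw [Nat.card_zpowers, x.2, pow_one])).exists_le_sylow
    obtain ⟨g, hg⟩ := MulAction.exists_smul_eq G P Q
    have hx := hQ (Subgroup.mem_zpowers (x : G))
    rw [← hg, Sylow.coe_subgroup_smul, Subgroup.pointwise_smul_def] at hx
    obtain ⟨x', hx', hxe⟩ := hx
    refine ⟨g * y * g⁻¹, by rw [← MulAut.conj_apply, MulEquiv.orderOf_eq]; exact hy, ?_⟩
    have hc : x' * y * x'⁻¹ = y := congrArg Subtype.val (hyfix ⟨x', hx'⟩)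
    rw [mul_inv_eq_iff_eq_mul] at hc
    have hxe' : g * x' * g⁻¹ = x := hxe
    show (x : G) * (g * y * g⁻¹) = g * y * g⁻¹ * x
    rw [← hxe']
    calc g * x' * g⁻¹ * (g * y * g⁻¹) = g * (x' * y) * g⁻¹ := by group
      _ = g * (y * x') * g⁻¹ := by rw [hc]
      _ = _ := by group
  choose z hz hzc using hsel
  have hq3 := three' hq hq2
  have hpow : ∀ (x : {g : G // orderOf g = p}) (i : Fin 2), orderOf (z x ^ ((i : ℕ) + 1)) = q := by
    intro x i
    rw [Nat.Coprime.orderOf_pow, hz]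
    rw [hz]
    exact (hq.coprime_iff_not_dvd.mpr fun h => by
      have := Nat.le_of_dvd (by omega) h
      have := i.2
      omega)
  let f : {g : G // orderOf g = p} × Fin 2 → {g : G // orderOf g = p * q} := fun t =>
    ⟨(t.1 : G) * z t.1 ^ ((t.2 : ℕ) + 1), by
      rw [((hzc t.1).pow_right _).orderOf_mul_eq_mul_orderOf_of_coprime (by
        rw [t.1.2, hpow]; exact (Nat.coprime_primes hp hq).mpr hne), t.1.2, hpow]⟩
  have hf : Function.Injective f := by
    rintro ⟨x, i⟩ ⟨x', i'⟩ e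
    have e0 : (x : G) * z x ^ ((i : ℕ) + 1) = (x' : G) * z x' ^ ((i' : ℕ) + 1) := congrArg Subtype.val e
    have e1 := congrArg (· ^ q) e0
    simp only [((hzc x).pow_right _).mul_pow, ((hzc x').pow_right _).mul_pow] at e1
    rw [show (z x ^ ((i : ℕ) + 1)) ^ q = 1 by conv_lhs => rw [← hpow x i, pow_orderOf_eq_one],
      show (z x' ^ ((i' : ℕ) + 1)) ^ q = 1 by conv_lhs => rw [← hpow x' i', pow_orderOf_eq_one], mul_one, mul_one] at e1
    have hx : x = x' := by
      obtain ⟨m, hm⟩ := exists_pow_eq_self_of_coprime (x := (x : G)) (n := q) (by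
        rw [x.2]; exact ((Nat.coprime_primes hp hq).mpr hne).symm)
      obtain ⟨m', hm'⟩ := exists_pow_eq_self_of_coprime (x := (x' : G)) (n := q) (by
        rw [x'.2]; exact ((Nat.coprime_primes hp hq).mpr hne).symm)
      apply Subtype.ext
      have e2 : orderOf (x : G) = orderOf ((x : G) ^ q) := by
        rw [Nat.Coprime.orderOf_pow]; rw [x.2]; exact (Nat.coprime_primes hp hq).mpr hne
      obtain ⟨k, hk⟩ : ∃ k, ∀ u : G, orderOf u = p → (u ^ q) ^ k = u := by
        obtain ⟨k, hk⟩ := Nat.exists_mul_mod_eq_one_of_coprime ((Nat.coprime_primes hq hp).mpr hne.symm) hp.one_lt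
        exact ⟨k, fun u hu => by rw [← pow_mul, ← pow_mod_orderOf, hu, hk.2, pow_one]⟩
      rw [← hk _ x.2, e1, hk _ x'.2]
    subst hx
    have e3 := mul_left_cancel e0
    rw [pow_inj_mod, hz, Nat.mod_eq_of_lt (by omega), Nat.mod_eq_of_lt (by omega)] at e3
    exact Prod.ext rfl (Fin.ext (show (i : ℕ) = (i' : ℕ) by omega))
  have h2 := Nat.card_le_card_of_injective f hf
  rw [Nat.card_prod, Nat.card_fin, show Nat.card {g : G // orderOf g = p} = a from hpa,
    show Nat.card {g : G // orderOf g = p * q} = a from hpq] at h2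
  omega


end Cfsg.Agent.Grp.ThreeCounts.Even
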