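import Mathlib
import Cfsg.Agent.Lib.Grp.ThreeCountsEven
import Cfsg.Agent.Lib.Grp.PrimePowerOrders

/-!
A group in which the numbers of elements of each order take three values is soluble.
-/

set_option autoImplicit false
set_option linter.unusedSectionVars false

namespace Cfsg.Agent.Grp.ThreeCounts

open TwoCounts
open scoped Pointwise

universe u

theorem two_prime_solvable {H : Type u} [Group H] [Finite H] (p q : ℕ) (hp : p.Prime) (hq : q.Prime)
    (h : ∀ x : ℕ, x.Prime → x ∣ Nat.card H → x = p ∨ x = q) : Group.IsSolvable H := by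
  by_contra hns
  obtain ⟨x, hx, hxd, h1, h3⟩ := EPPO.exists_third_prime hns hp hq
  rcases h x hx hxd with e | e
  · exact h1 e
  · exact h3 e

variable {G : Type u} [Group G] [Finite G]

theorem even_cnt {m : ℕ} (hm : 2 < m) : 2 ∣ cnt G m :=
  (even_iff_two_dvd.mp (Nat.totient_even hm)).trans (totient_dvd_cnt m)

theorem odd_cnt_two (hev : 2 ∣ Nat.card G) : ¬ 2 ∣ cnt G 2 := by
  intro h
  have h1 := dvd_sum_divisors (G := G) hev
  rw [Nat.prime_two.divisors, Finset.sum_pair (by norm_num : (1 : ℕ) ≠ 2), cnt_one] at h1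
  omega

/-- a unique involution doubles odd orders -/
theorem cnt_double (h2 : cnt G 2 = 1) {m : ℕ} (hm : Odd m) : cnt G (2 * m) = cnt G m := by
  obtain ⟨⟨⟨z, hz⟩⟩, hsub⟩ : Nonempty {g : G // orderOf g = 2} ∧ Subsingleton {g : G // orderOf g = 2} := by
    obtain ⟨hs, hn⟩ := Nat.card_eq_one_iff_unique.mp h2
    exact ⟨hn, hs⟩
  have huniq : ∀ g : G, orderOf g = 2 → g = z := fun g hg =>
    congrArg Subtype.val (@Subsingleton.elim _ hsub ⟨g, hg⟩ ⟨z, hz⟩)
  have hcomm : ∀ g : G, Commute z g := fun g => by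
    have h := huniq (g * z * g⁻¹) (by rw [← MulAut.conj_apply, MulEquiv.orderOf_eq]; exact hz)
    rw [mul_inv_eq_iff_eq_mul] at h
    exact h.symm
  have hzz : z * z = 1 := by rw [← pow_two, ← hz, pow_orderOf_eq_one]
  have hto : ∀ g : G, orderOf g = m → orderOf (z * g) = 2 * m := fun g hg => by
    rw [(hcomm g).orderOf_mul_eq_mul_orderOf_of_coprime (by rw [hz, hg]; exact Nat.coprime_two_left.mpr hm), hz, hg]
  have hfrom : ∀ x : G, orderOf x = 2 * m → orderOf (z * x) = m := by
    intro x hx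
    have h3 : x ^ m = z := huniq _ (by
      rw [orderOf_pow' _ (by obtain ⟨k, hk⟩ := hm; omega), hx, Nat.gcd_eq_right (dvd_mul_left m 2)]
      exact Nat.mul_div_cancel _ (by obtain ⟨k, hk⟩ := hm; omega))
    have h1 : (z * x) ^ m = 1 := by
      rw [(hcomm x).mul_pow, h3]
      obtain ⟨k, rfl⟩ := hm
      rw [pow_succ, pow_mul, pow_two, hzz, one_pow, one_mul, hzz]
    refine Nat.dvd_antisymm (orderOf_dvd_of_pow_eq_one h1) ?_
    have h4 : x = z * (z * x) := by rw [← mul_assoc, hzz, one_mul]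
    have h5 : orderOf x ∣ 2 * orderOf (z * x) := by
      refine orderOf_dvd_of_pow_eq_one ?_
      rw [h4, ((Commute.refl z).mul_right (hcomm x)).mul_pow, pow_mul z, pow_two, hzz, one_pow, one_mul, mul_comm 2,
        pow_mul, ← h4, pow_orderOf_eq_one, one_pow]
    rw [hx] at h5
    exact (Nat.mul_dvd_mul_iff_left (by norm_num)).mp h5
  exact Nat.card_congr
    { toFun := fun g => ⟨z * g.1, hfrom g.1 g.2⟩
      invFun := fun g => ⟨z * g.1, hto g.1 g.2⟩
      left_inv := fun g => Subtype.ext (show z * (z * g.1) = g.1 by rw [← mul_assoc, hzz, one_mul])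
      right_inv := fun g => Subtype.ext (show z * (z * g.1) = g.1 by rw [← mul_assoc, hzz, one_mul]) }

/-- a unique involution and no element of order four -/
theorem two_part (h4 : cnt G 4 = 0) (h2 : cnt G 2 = 1) : ¬ 4 ∣ Nat.card G := by
  intro h
  haveI : Fact (Nat.Prime 2) := ⟨Nat.prime_two⟩
  obtain ⟨P, hP⟩ := Sylow.exists_subgroup_card_pow_prime (G := G) 2 (n := 2) h
  have hle : ∀ g : P, (g : G) = 1 ∨ orderOf (g : G) = 2 := by
    intro g
    have h1 : orderOf (g : G) ∣ 2 ^ 2 := hP ▸ P.orderOf_dvd_natCard g.2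
    obtain ⟨i, hi2, hi⟩ := (Nat.dvd_prime_pow Nat.prime_two).mp h1
    rcases (show i = 0 ∨ i = 1 ∨ i = 2 by omega) with rfl | rfl | rfl
    · exact Or.inl (orderOf_eq_one_iff.mp (by simpa using hi))
    · exact Or.inr (by simpa using hi)
    · exact absurd h4 (cnt_ne_zero.mpr ⟨g, by simpa using hi⟩)
  have h5 := sum_cnt_le (G := G) {1, 2}
  classical
  have hinj : Nat.card P ≤ Nat.card (Unit ⊕ {g : G // orderOf g = 2}) := by
    refine Nat.card_le_card_of_injective
      (fun g => if hg : orderOf (g : G) = 2 then Sum.inr ⟨g, hg⟩ else Sum.inl ()) fun g g' e => ?_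
    simp only at e
    by_cases h1 : orderOf (g : G) = 2 <;> by_cases h3 : orderOf (g' : G) = 2
    · rw [dif_pos h1, dif_pos h3] at e
      exact Subtype.ext (congrArg Subtype.val (Sum.inr.inj e) :)
    · rw [dif_pos h1, dif_neg h3] at e
      exact absurd e (by simp)
    · rw [dif_neg h1, dif_pos h3] at e
      exact absurd e (by simp)
    · exact Subtype.ext (((hle g).resolve_right h1).trans ((hle g').resolve_right h3).symm)
  rw [Nat.card_sum, Nat.card_unique (α := Unit), hP, show Nat.card {g : G // orderOf g = 2} = 1 from h2] at hinj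
  norm_num at hinj

theorem zmod_four {p : ℕ} (hp : p.Prime) (hp2 : p ≠ 2) (h2 : cnt G 2 = 1) (hd : 4 * p ∣ Nat.card G) {k : ℕ}
    (hk : k ∣ 4 * p) :
    ((2 + 2 * cnt G p + cnt G 4 + cnt G (4 * p) : ℕ) : ZMod k) = 0 := by
  have hodd : Odd p := hp.odd_of_ne_two hp2
  have hcop : Nat.Coprime 4 p := by
    rw [show (4 : ℕ) = 2 ^ 2 by norm_num]
    exact ((Nat.coprime_primes Nat.prime_two hp).mpr hp2.symm).pow_left 2
  have h := hk.trans (dvd_sum_divisors hd)
  rw [sum_mul_divisors hcop, show Nat.divisors 4 = {1, 2, 4} by decide,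
    Finset.sum_insert (by decide), Finset.sum_insert (by decide), Finset.sum_singleton, hp.divisors,
    Finset.sum_pair hp.ne_one.symm, Finset.sum_pair hp.ne_one.symm, Finset.sum_pair hp.ne_one.symm] at h
  simp only [one_mul, mul_one, cnt_one, h2, cnt_double h2 hodd] at h
  rw [ZMod.natCast_eq_zero_iff]
  rwa [show 2 + 2 * cnt G p + cnt G 4 + cnt G (4 * p) = 1 + cnt G p + (1 + cnt G p + (cnt G 4 + cnt G (4 * p))) by ring]

theorem main_even (hev : 2 ∣ Nat.card G) {a b : ℕ} (ha : 2 ≤ a) (hb : 2 ≤ b) (hab : a ≠ b)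
    (h2 : cnt G 2 = 1) (hV : ∀ g : G, 2 < orderOf g → cnt G (orderOf g) = a ∨ cnt G (orderOf g) = b) :
    Group.IsSolvable G := by
  classical
  by_cases hk : ∃ p q : ℕ, p.Prime ∧ q.Prime ∧ p ≠ 2 ∧ q ≠ 2 ∧ p ≠ q ∧ p ∣ Nat.card G ∧ q ∣ Nat.card G
  swap
  · push Not at hk
    by_cases hodd : ∃ p, p.Prime ∧ p ≠ 2 ∧ p ∣ Nat.card G
    · obtain ⟨p, hp, hp2, hpd⟩ := hodd
      exact two_prime_solvable 2 p Nat.prime_two hp fun x hx hxd => by
        by_cases e : x = 2
        · exact Or.inl e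
        · exact Or.inr (by by_contra ne; exact hk x p hx hp e hp2 ne hxd hpd)
    · push Not at hodd
      exact two_prime_solvable 2 2 Nat.prime_two Nat.prime_two fun x hx hxd => Or.inl (by
        by_contra e; exact hodd x hx e hxd)
  obtain ⟨p, q, hp, hq, hp2, hq2, hpq, hpd, hqd⟩ := hk
  have hgt : ∀ {x y : ℕ}, x.Prime → y.Prime → 2 < x * y := fun hx hy =>
    lt_of_lt_of_le (by norm_num) (Nat.mul_le_mul hx.two_le hy.two_le)
  have h4d : ∀ {x : ℕ}, x.Prime → x ≠ 2 → x ∣ Nat.card G → cnt G 4 ≠ 0 → 4 * x ∣ Nat.card G := by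
    intro x hx hx2 hxd h4
    obtain ⟨g, hg⟩ := cnt_ne_zero.mp h4
    refine Nat.Coprime.mul_dvd_of_dvd_of_dvd ?_ (hg ▸ orderOf_dvd_natCard g) hxd
    rw [show (4 : ℕ) = 2 ^ 2 by norm_num]
    exact ((Nat.coprime_primes Nat.prime_two hx).mpr hx2.symm).pow_left 2
  by_cases hall : ∃ v w, ((v = a ∧ w = b) ∨ (v = b ∧ w = a)) ∧ ∀ x, x.Prime → x ≠ 2 → x ∣ Nat.card G → cnt G x = v
  · -- all odd primes have the same count
    exfalso
    obtain ⟨v, w, hvw, hall⟩ := hall
    have hv2 : 2 ≤ v := by rcases hvw with ⟨e, -⟩ | ⟨e, -⟩ <;> rw [e] <;> assumption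
    have hw2 : 2 ≤ w := by rcases hvw with ⟨-, e⟩ | ⟨-, e⟩ <;> rw [e] <;> assumption
    have hmem : ∀ m, 2 < m → cnt G m = 0 ∨ cnt G m = v ∨ cnt G m = w := by
      intro m hm
      rcases hvw with ⟨rfl, rfl⟩ | ⟨rfl, rfl⟩ <;> rcases Even.cnt_mem' hV hm with e | e | e <;> simp [e]
    have hsame : ∀ {x y : ℕ}, x.Prime → y.Prime → x ≠ 2 → y ≠ 2 → x ≠ y → x ∣ Nat.card G → y ∣ Nat.card G →
        cnt G (x * y) = w ∧ (w : ZMod x) = 1 := fun hx hy hx2 hy2 hne hxd hyd =>
      Even.same hab hV hx2 hy2 hx hy hne hxd hyd hvw (hall _ hx hx2 hxd) (hall _ hy hy2 hyd)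
        (Even.cnt_mem' hV (hgt hx hy))
    obtain ⟨hpqw, hwp⟩ := hsame hp hq hp2 hq2 hpq hpd hqd
    haveI := Fact.mk hp
    haveI := Fact.mk hq
    have evp := Even.cnt_prime' hp hpd
    rw [hall p hp hp2 hpd] at evp
    have h2p : cnt G (2 * p) = v := by rw [cnt_double h2 (hp.odd_of_ne_two hp2), hall p hp hp2 hpd]
    by_cases h4 : cnt G 4 = 0
    · have hdvd : Nat.card G ∣ 2 * (1 + v) := by
        rw [← Nat.factorization_le_iff_dvd Nat.card_pos.ne' (by omega)]
        intro x
        by_cases hx : x.Prime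
        swap
        · simp [Nat.factorization_eq_zero_of_not_prime _ hx]
        by_cases hxd : x ∣ Nat.card G
        swap
        · simp [Nat.factorization_eq_zero_of_not_dvd hxd]
        refine (hx.pow_dvd_iff_le_factorization (by omega)).mp ?_
        by_cases hx2 : x = 2
        · subst hx2
          have h1 : (Nat.card G).factorization 2 ≤ 1 := by
            by_contra hc
            exact two_part h4 h2 ((Nat.pow_dvd_pow 2 (by omega : 2 ≤ (Nat.card G).factorization 2)).trans (Nat.ordProj_dvd _ _))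
          exact (Nat.pow_dvd_pow 2 h1).trans ⟨1 + v, by ring⟩
        · refine dvd_mul_of_dvd_right ?_ 2
          haveI := Fact.mk hx
          obtain ⟨y, hy, hy2, hyd, hne⟩ : ∃ y, y.Prime ∧ y ≠ 2 ∧ y ∣ Nat.card G ∧ x ≠ y := by
            by_cases e : x = p
            · exact ⟨q, hq, hq2, hqd, e ▸ hpq⟩
            · exact ⟨p, hp, hp2, hpd, e⟩
          obtain ⟨-, hwx⟩ := hsame hx hy hx2 hy2 hne hxd hyd
          have hvx := Even.cnt_prime' hx hxd
          rw [hall x hx hx2 hxd] at hvx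
          have hbig : ∀ i, 2 ≤ i → cnt G (x ^ i) = 0 := by
            intro i hi
            by_contra hne0
            have h1 : x ∣ cnt G (x ^ i) := by
              refine dvd_trans ?_ (totient_dvd_cnt _)
              rw [Nat.totient_prime_pow hx (by omega)]
              exact dvd_mul_of_dvd_left (dvd_pow_self x (by omega)) _
            rw [← ZMod.natCast_eq_zero_iff] at h1
            have hgt' : 2 < x ^ i := lt_of_lt_of_le (by norm_num) ((Nat.pow_le_pow_left hx.two_le i).trans' (Nat.pow_le_pow_right (by norm_num) hi))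
            rcases hmem _ hgt' with e | e | e
            · exact hne0 e
            · rw [e, hvx] at h1; exact neg_ne_zero.mpr one_ne_zero h1
            · rw [e, hwx] at h1; exact one_ne_zero h1
          set k := (Nat.card G).factorization x with hk
          have hk1 : 1 ≤ k := hx.factorization_pos_of_dvd Nat.card_pos.ne' hxd
          have h := dvd_sum_divisors (G := G) (Nat.ordProj_dvd (Nat.card G) x)
          rw [← hk, Nat.sum_divisors_prime_pow hx, ← Finset.sum_range_add_sum_Ico _ (show 2 ≤ k + 1 by omega),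
            Finset.sum_eq_zero (s := Finset.Ico 2 (k + 1)) (fun i hi => hbig i (Finset.mem_Ico.mp hi).1), add_zero,
            Finset.sum_range_succ, Finset.sum_range_one, pow_zero, pow_one, cnt_one, hall x hx hx2 hxd] at h
          exact h
      have h1 := Nat.le_of_dvd (by omega) hdvd
      have hne' : ∀ {i j : ℕ}, i < j → i ≠ j := fun h => h.ne
      have hp3 := Even.three' hp hp2
      have hq3 := Even.three' hq hq2
      have hlt : 2 * p < p * q := by nlinarith
      have h3 := sum_cnt_le (G := G) {1, 2, p, 2 * p, p * q}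
      rw [Finset.sum_insert (by simp only [Finset.mem_insert, Finset.mem_singleton]; omega),
        Finset.sum_insert (by simp only [Finset.mem_insert, Finset.mem_singleton]; omega),
        Finset.sum_insert (by simp only [Finset.mem_insert, Finset.mem_singleton]; omega),
        Finset.sum_insert (by simp only [Finset.mem_singleton]; omega),
        Finset.sum_singleton, cnt_one, h2, hall p hp hp2 hpd, h2p, hpqw] at h3
      omega
    -- elements of order four
    have hfour : ∀ {x : ℕ}, x.Prime → x ≠ 2 → x ∣ Nat.card G → (w : ZMod x) = 1 → 4 ∣ w →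
        v % 4 = 2 ∧ cnt G 4 = v ∧ cnt G (4 * x) = w := by
      intro x hx hx2 hxd hwx hw4
      haveI := Fact.mk hx
      have hA := zmod_four hx hx2 h2 (h4d hx hx2 hxd h4) (dvd_mul_left x 4)
      have hB := (ZMod.natCast_eq_zero_iff _ 4).mp (zmod_four hx hx2 h2 (h4d hx hx2 hxd h4) (dvd_mul_right 4 x))
      have evx := Even.cnt_prime' hx hxd
      rw [hall x hx hx2 hxd] at evx hA hB
      push_cast at hA
      have hsum : (cnt G 4 : ZMod x) + cnt G (4 * x) = 0 := by linear_combination hA - 2 * evx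
      have hN4 : 4 ∣ cnt G (4 * x) := by
        refine dvd_trans ?_ (totient_dvd_cnt _)
        rw [Nat.totient_mul (by
          rw [show (4 : ℕ) = 2 ^ 2 by norm_num]
          exact ((Nat.coprime_primes Nat.prime_two hx).mpr hx2.symm).pow_left 2), Nat.totient_prime hx,
          show Nat.totient 4 = 2 by decide]
        obtain ⟨k, hk⟩ := hx.odd_of_ne_two hx2
        exact ⟨k, by omega⟩
      have hv0 : 2 ∣ v := hall x hx hx2 hxd ▸ even_cnt (by have := Even.three' hx hx2; omega)
      have hn := Even.neg_one' hx hx2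
      have hx3 := Even.three' hx hx2
      rcases hmem 4 (by norm_num) with e | e | e
      · exact absurd e h4
      · rcases hmem (4 * x) (by omega) with e' | e' | e'
        · rw [e, e', evx, Nat.cast_zero, add_zero] at hsum
          exact absurd hsum (neg_ne_zero.mpr one_ne_zero)
        · rw [e, e', evx] at hsum
          exact absurd (show (-1 : ZMod x) = 1 by linear_combination hsum) hn
        · exact ⟨by omega, e, e'⟩
      · rcases hmem (4 * x) (by omega) with e' | e' | e'
        · rw [e, e', hwx, Nat.cast_zero, add_zero] at hsum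
          exact absurd hsum one_ne_zero
        · exfalso; omega
        · rw [e, e', hwx] at hsum
          exact absurd (show (-1 : ZMod x) = 1 by linear_combination -hsum) hn
    have hw4 : 4 ∣ w := by
      rw [← hpqw]
      refine dvd_trans ?_ (totient_dvd_cnt _)
      rw [Nat.totient_mul ((Nat.coprime_primes hp hq).mpr hpq), Nat.totient_prime hp, Nat.totient_prime hq]
      obtain ⟨i, hi⟩ := hp.odd_of_ne_two hp2
      obtain ⟨j, hj⟩ := hq.odd_of_ne_two hq2
      exact ⟨i * j, by rw [hi, hj]; simp only [Nat.add_sub_cancel]; ring⟩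
    obtain ⟨hvmod, ht, hNp⟩ := hfour hp hp2 hpd hwp hw4
    obtain ⟨-, -, hNq⟩ := hfour hq hq2 hqd (hsame hq hp hq2 hp2 hpq.symm hqd hpd).2 hw4
    have hcop : Nat.Coprime 4 (p * q) := by
      rw [show (4 : ℕ) = 2 ^ 2 by norm_num]
      exact Nat.Coprime.mul_right (((Nat.coprime_primes Nat.prime_two hp).mpr hp2.symm).pow_left 2)
        (((Nat.coprime_primes Nat.prime_two hq).mpr hq2.symm).pow_left 2)
    have hd4 : 4 * (p * q) ∣ Nat.card G := hcop.mul_dvd_of_dvd_of_dvd ((dvd_mul_right 4 p).trans (h4d hp hp2 hpd h4))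
      (((Nat.coprime_primes hp hq).mpr hpq).mul_dvd_of_dvd_of_dvd hpd hqd)
    have h := dvd_sum_divisors hd4
    rw [sum_mul_divisors hcop, show Nat.divisors 4 = {1, 2, 4} by decide,
      Finset.sum_insert (by decide), Finset.sum_insert (by decide), Finset.sum_singleton] at h
    simp only [sum_mul_divisors ((Nat.coprime_primes hp hq).mpr hpq), hp.divisors, hq.divisors,
      Finset.sum_pair hp.ne_one.symm, Finset.sum_pair hq.ne_one.symm, one_mul, mul_one] at h
    simp only [cnt_one, h2, cnt_double h2 (hp.odd_of_ne_two hp2), cnt_double h2 (hq.odd_of_ne_two hq2),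
      cnt_double h2 ((hp.odd_of_ne_two hp2).mul (hq.odd_of_ne_two hq2)), hall p hp hp2 hpd, hall q hq hq2 hqd,
      hpqw, ht, hNp, hNq] at h
    have hA := (ZMod.natCast_eq_zero_iff _ p).mpr ((dvd_mul_of_dvd_right (dvd_mul_right p q) 4).trans h)
    push_cast at hA
    have hN : ((cnt G (4 * (p * q)) : ℕ) : ZMod p) = -1 := by linear_combination hA - 5 * evp - 4 * hwp
    have hgt4 : 2 < 4 * (p * q) := by have := hgt hp hq; omega
    rcases hmem _ hgt4 with e | e | e
    · rw [e, Nat.cast_zero] at hN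
      exact neg_ne_zero.mpr one_ne_zero hN.symm
    · have h5 : 4 ∣ cnt G (4 * (p * q)) := by
        refine dvd_trans ?_ (totient_dvd_cnt _)
        rw [Nat.totient_mul hcop, Nat.totient_mul ((Nat.coprime_primes hp hq).mpr hpq), Nat.totient_prime hp,
          Nat.totient_prime hq, show Nat.totient 4 = 2 by decide]
        obtain ⟨i, hi⟩ := hp.odd_of_ne_two hp2
        exact ⟨i * (q - 1), by rw [hi]; simp only [Nat.add_sub_cancel]; ring⟩
      rw [e] at h5
      omega
    · rw [e, hwp] at hN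
      exact Even.neg_one' hp hp2 hN.symm
  -- two odd primes with different counts
  push Not at hall
  have hnot : ∀ {x y v w : ℕ}, x.Prime → y.Prime → x ≠ 2 → y ≠ 2 → x ≠ y → x ∣ Nat.card G → y ∣ Nat.card G →
      ((v = a ∧ w = b) ∨ (v = b ∧ w = a)) → cnt G x = v → cnt G y = v → False := by
    intro x y v w hx hy hx2 hy2 hne hxd hyd hvw h1 h3
    obtain ⟨z, hz, hz2, hzd, hzv⟩ := hall v w hvw
    have hxz : x ≠ z := fun e => hzv (e ▸ h1)
    have hyz : y ≠ z := fun e => hzv (e ▸ h3)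
    exact hzv (Even.not_three hab hV hx2 hy2 hz2 hx hy hz hne hxz hyz hxd hyd hzd hvw h1 h3)
  obtain ⟨v, w, hvw, hpv, hqw⟩ : ∃ v w, ((v = a ∧ w = b) ∨ (v = b ∧ w = a)) ∧ cnt G p = v ∧ cnt G q = w := by
    rcases Even.cnt_prime_mem' hV hp hp2 hpd with e1 | e1 <;>
      rcases Even.cnt_prime_mem' hV hq hq2 hqd with e2 | e2
    · exact (hnot hp hq hp2 hq2 hpq hpd hqd (Or.inl ⟨rfl, rfl⟩) e1 e2).elim
    · exact ⟨a, b, Or.inl ⟨rfl, rfl⟩, e1, e2⟩
    · exact ⟨b, a, Or.inr ⟨rfl, rfl⟩, e1, e2⟩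
    · exact (hnot hp hq hp2 hq2 hpq hpd hqd (Or.inr ⟨rfl, rfl⟩) e1 e2).elim
  have hv2 : 2 ≤ v := by rcases hvw with ⟨e, -⟩ | ⟨e, -⟩ <;> rw [e] <;> assumption
  have hw2 : 2 ≤ w := by rcases hvw with ⟨-, e⟩ | ⟨-, e⟩ <;> rw [e] <;> assumption
  have hvne : v ≠ w := by rcases hvw with ⟨rfl, rfl⟩ | ⟨rfl, rfl⟩; exacts [hab, hab.symm]
  have hthree : ∀ x : ℕ, x.Prime → x ∣ Nat.card G → x = 2 ∨ x = p ∨ x = q := by
    intro x hx hxd
    by_contra hc
    push Not at hc
    obtain ⟨hx2, hxp, hxq⟩ := hc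
    rcases Even.cnt_prime_mem' hV hx hx2 hxd with e | e <;> rcases hvw with ⟨e1, e2⟩ | ⟨e1, e2⟩
    · exact hnot hx hp hx2 hp2 hxp hxd hpd (Or.inl ⟨rfl, rfl⟩) e (hpv.trans e1)
    · exact hnot hx hq hx2 hq2 hxq hxd hqd (Or.inl ⟨rfl, rfl⟩) e (hqw.trans e2)
    · exact hnot hx hq hx2 hq2 hxq hxd hqd (Or.inr ⟨rfl, rfl⟩) e (hqw.trans e2)
    · exact hnot hx hp hx2 hp2 hxp hxd hpd (Or.inr ⟨rfl, rfl⟩) e (hpv.trans e1)
  have hV1 : ∀ g : G, 2 < orderOf g → cnt G (orderOf g) = v ∨ cnt G (orderOf g) = w := by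
    intro g hg
    rcases hvw with ⟨rfl, rfl⟩ | ⟨rfl, rfl⟩
    · exact hV g hg
    · exact (hV g hg).symm
  have hV2 : ∀ g : G, 2 < orderOf g → cnt G (orderOf g) = w ∨ cnt G (orderOf g) = v := fun g hg => (hV1 g hg).symm
  have hmix0 : cnt G (p * q) = 0 := by
    rcases Even.cnt_mem' hV1 (hgt hp hq) with e | e | e
    · exact e
    · exact absurd e (Even.no_mixed hv2 hw2 hvne hV1 hp2 hq2 hp hq hpq hpd hqd hpv hqw)
    · exact absurd (by rw [mul_comm]; exact e)
        (Even.no_mixed hw2 hv2 hvne.symm hV2 hq2 hp2 hq hp hpq.symm hqd hpd hqw hpv)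
  have hdpq : p * q ∣ Nat.card G := ((Nat.coprime_primes hp hq).mpr hpq).mul_dvd_of_dvd_of_dvd hpd hqd
  have hwp : (w : ZMod p) = 0 := by
    have h := zmod_pair hp hq hpq hdpq (dvd_mul_right p q)
    have e := Even.cnt_prime' hp hpd
    rw [hmix0, hqw] at h
    push_cast at h
    linear_combination h - e
  have hvq : (v : ZMod q) = 0 := by
    have h := zmod_pair hp hq hpq hdpq (dvd_mul_left q p)
    have e := Even.cnt_prime' hq hqd
    rw [hmix0, hpv] at h
    push_cast at h
    linear_combination h - e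
  have h4 : cnt G 4 = 0 := by
    by_contra h4
    have key : ∀ {x y z : ℕ}, x.Prime → x ≠ 2 → x ∣ Nat.card G → cnt G x = y → (z : ZMod x) = 0 →
        (∀ m, 2 < m → cnt G m = 0 ∨ cnt G m = y ∨ cnt G m = z) → cnt G 4 ≠ y := by
      intro x y z hx hx2 hxd hxy hz hmem ht
      haveI := Fact.mk hx
      have hA := zmod_four hx hx2 h2 (h4d hx hx2 hxd h4) (dvd_mul_left x 4)
      have ey := Even.cnt_prime' hx hxd
      rw [hxy] at ey hA
      rw [ht] at hA
      push_cast at hA
      have hN : ((cnt G (4 * x) : ℕ) : ZMod x) = 1 := by linear_combination hA - 3 * ey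
      have hx3 := Even.three' hx hx2
      rcases hmem (4 * x) (by omega) with e | e | e <;> rw [e] at hN
      · rw [Nat.cast_zero] at hN; exact zero_ne_one hN
      · rw [ey] at hN; exact Even.neg_one' hx hx2 hN
      · rw [hz] at hN; exact zero_ne_one hN
    rcases Even.cnt_mem' hV1 (show 2 < 4 by norm_num) with e | e | e
    · exact h4 e
    · exact key hp hp2 hpd hpv hwp (fun m hm => Even.cnt_mem' hV1 hm) e
    · exact key hq hq2 hqd hqw hvq (fun m hm => Even.cnt_mem' hV2 hm) e
  -- factor the central involution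
  have hno4 := two_part h4 h2
  obtain ⟨⟨⟨z, hz⟩⟩, hsub⟩ : Nonempty {g : G // orderOf g = 2} ∧ Subsingleton {g : G // orderOf g = 2} := by
    obtain ⟨hs, hn⟩ := Nat.card_eq_one_iff_unique.mp h2
    exact ⟨hn, hs⟩
  haveI hZn : (Subgroup.zpowers z).Normal := by
    refine ⟨fun n hn g => ?_⟩
    obtain ⟨i, rfl⟩ := Subgroup.mem_zpowers_iff.mp hn
    have h := congrArg Subtype.val (@Subsingleton.elim _ hsub
      ⟨g * z * g⁻¹, by rw [← MulAut.conj_apply, MulEquiv.orderOf_eq]; exact hz⟩ ⟨z, hz⟩)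
    rw [← conj_zpow, show g * z * g⁻¹ = z from h]
    exact Subgroup.zpow_mem _ (Subgroup.mem_zpowers z) i
  haveI : Group.IsSolvable (G ⧸ Subgroup.zpowers z) := two_prime_solvable p q hp hq fun x hx hxd => by
    have hc := (Subgroup.zpowers z).card_mul_index
    rw [Nat.card_zpowers, hz, Subgroup.index_eq_card] at hc
    rcases hthree x hx (hc ▸ hxd.mul_left 2) with e | e | e
    · exfalso
      apply hno4
      rw [← hc, show (4 : ℕ) = 2 * 2 by norm_num]
      exact Nat.mul_dvd_mul_left 2 (e ▸ hxd)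
    · exact Or.inl e
    · exact Or.inr e
  exact Group.isSolvable_of_ker_le_range (Subgroup.zpowers z).subtype (QuotientGroup.mk' (Subgroup.zpowers z)) (by simp)

theorem main_even_odd_two (hev : 2 ∣ Nat.card G) {b : ℕ} (hV : ∀ g : G, 2 < orderOf g → cnt G (orderOf g) = b) :
    Group.IsSolvable G := by
  by_cases hodd : ∃ p, p.Prime ∧ p ≠ 2 ∧ p ∣ Nat.card G
  · obtain ⟨p, hp, hp2, hpd⟩ := hodd
    refine two_prime_solvable 2 p Nat.prime_two hp fun x hx hxd => ?_
    by_contra hc
    push Not at hc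
    obtain ⟨hx2, hxp⟩ := hc
    haveI := Fact.mk hx
    haveI := Fact.mk hp
    have hb : ∀ {m : ℕ}, 2 < m → cnt G m ≠ 0 → cnt G m = b := fun {m} hm h0 => by
      obtain ⟨g, rfl⟩ := cnt_ne_zero.mp h0
      exact hV g hm
    have h3x := Even.three' hx hx2
    have h3p := Even.three' hp hp2
    obtain ⟨gx, hgx⟩ := exists_prime_orderOf_dvd_card' x hxd
    obtain ⟨gp, hgp⟩ := exists_prime_orderOf_dvd_card' p hpd
    have ebx := hb (by omega) (cnt_ne_zero.mpr ⟨gx, hgx⟩)
    have ebp := hb (by omega) (cnt_ne_zero.mpr ⟨gp, hgp⟩)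
    have hA := zmod_pair hp hx hxp.symm (((Nat.coprime_primes hp hx).mpr hxp.symm).mul_dvd_of_dvd_of_dvd hpd hxd)
      (dvd_mul_right p x)
    have ep := Even.cnt_prime' hp hpd
    rw [ebp] at ep
    rw [ebp, ebx] at hA
    by_cases h0 : cnt G (p * x) = 0
    · rw [h0] at hA
      push_cast at hA
      exact one_ne_zero (show (1 : ZMod p) = 0 by linear_combination 2 * ep - hA)
    · rw [hb (by nlinarith) h0] at hA
      push_cast at hA
      exact Even.neg_one' hp hp2 (by linear_combination hA - 3 * ep)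
  · push Not at hodd
    exact two_prime_solvable 2 2 Nat.prime_two Nat.prime_two fun x hx hxd => Or.inl (by
      by_contra e; exact hodd x hx e hxd)

end Cfsg.Agent.Grp.ThreeCounts
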