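import Mathlib
import Cfsg.Prelude.Def_OddOrderLocal
import Cfsg.Agent.Lib.Grp.Basic
import Cfsg.Agent.Lib.Transfer.NormalComplement
import Cfsg.Agent.Lib.Transfer.Fusion
import Cfsg.Agent.Lib.Transfer.Burnside

/-!
Counting classes of p-elements and of π-elements.
-/

set_option autoImplicit false
set_option linter.unusedSectionVars false

namespace Cfsg.Agent.Grp

open Subgroup
open scoped commutatorElement

universe u

variable {G : Type u} [Group G] [Finite G] {p : ℕ} [hp : Fact p.Prime]

/-- Classes of p-elements. -/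
abbrev PClass (p : ℕ) (G : Type u) [Group G] :=
  {c : ConjClasses G // ∀ x ∈ c.carrier, ∃ k : ℕ, orderOf x = p ^ k}

/-- The class of an element of a p-subgroup. -/
def pClassMk (P : Subgroup G) (hP : IsPGroup p P) (x : P) : PClass p G :=
  ⟨ConjClasses.mk (x : G), fun y hy => by
    rw [ConjClasses.mem_carrier_iff_mk_eq, ConjClasses.mk_eq_mk_iff_isConj, isConj_iff] at hy
    obtain ⟨g, hg⟩ := hy
    obtain ⟨k, hk⟩ := (IsPGroup.iff_orderOf.mp hP) x
    refine ⟨k, ?_⟩
    rw [← hk, ← Subgroup.orderOf_coe, ← hg]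
    exact (orderOf_injective (MulAut.conj g).toMonoidHom (MulAut.conj g).injective y).symm⟩

theorem pClassMk_surjective (P : Sylow p G) :
    Function.Surjective (pClassMk (P : Subgroup G) P.isPGroup') := by
  rintro ⟨c, hc⟩
  obtain ⟨x, rfl⟩ := ConjClasses.mk_surjective c
  obtain ⟨k, hk⟩ := hc x ConjClasses.mem_carrier_mk
  have hz : IsPGroup p (Subgroup.zpowers x) := IsPGroup.of_card (n := k) (by rw [Nat.card_zpowers, hk])
  obtain ⟨Q, hQ⟩ := hz.exists_le_sylow
  obtain ⟨g, hg⟩ := MulAction.exists_smul_eq G Q P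
  have hx : g * x * g⁻¹ ∈ (P : Subgroup G) := by
    rw [← hg, Sylow.coe_subgroup_smul, ← map_conj_eq_smul]
    exact ⟨x, hQ (Subgroup.mem_zpowers x), rfl⟩
  exact ⟨⟨g * x * g⁻¹, hx⟩, Subtype.ext (ConjClasses.mk_eq_mk_iff_isConj.mpr
    (isConj_iff.mpr ⟨g⁻¹, by group⟩))⟩

theorem card_pClass_le (P : Sylow p G) : Nat.card (PClass p G) ≤ Nat.card (P : Subgroup G) :=
  Nat.card_le_card_of_surjective _ (pClassMk_surjective P)

omit hp in
theorem card_le_half {α β : Type*} [Finite α] (f : α → β) (hf : Function.Surjective f) (C : Set α)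
    (hC : ∀ x ∉ C, ∃ y, y ≠ x ∧ f y = f x) : 2 * Nat.card β ≤ Nat.card α + Nat.card C := by
  classical
  have : Fintype α := Fintype.ofFinite α
  have : Finite β := Finite.of_surjective f hf
  have : Fintype β := Fintype.ofFinite β
  have key : ∀ b : β, 2 ≤ ∑ x ∈ Finset.univ.filter (fun x => f x = b), (1 + if x ∈ C then 1 else 0) := by
    intro b
    obtain ⟨a, ha⟩ := hf b
    by_cases haC : a ∈ C
    · refine le_trans ?_ (Finset.single_le_sum (fun x _ => Nat.zero_le _) (show a ∈ _ by simp [ha]))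
      simp [haC]
    · obtain ⟨y, hy, hy'⟩ := hC a haC
      refine le_trans ?_ (Finset.sum_le_sum_of_subset (s := {a, y}) ?_)
      · rw [Finset.sum_pair hy.symm]; omega
      · intro x hx
        simp only [Finset.mem_insert, Finset.mem_singleton] at hx
        rcases hx with rfl | rfl <;> simp [ha, hy']
  have h1 := Finset.sum_le_sum (s := (Finset.univ : Finset β)) (fun b _ => key b)
  rw [Finset.sum_fiberwise (Finset.univ : Finset α) f (fun x => 1 + if x ∈ C then 1 else 0), Finset.sum_add_distrib, Finset.sum_boole] at h1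
  simp only [Finset.sum_const, Finset.card_univ, smul_eq_mul, mul_one, Nat.cast_id] at h1
  rw [Nat.card_eq_fintype_card, Nat.card_eq_fintype_card, Nat.card_eq_fintype_card,
    Fintype.card_subtype]
  linarith

/-- Too many classes of p-elements make the Sylow subgroup abelian. -/
theorem isMulCommutative_of_pClass (hp2 : p ≠ 2) (P : Sylow p G)
    (h : (p + 1) * Nat.card (P : Subgroup G) < 2 * p * Nat.card (PClass p G)) :
    IsMulCommutative (P : Subgroup G) := by
  classical
  by_contra hnc
  set Q := (P : Subgroup G)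
  have : Fintype Q := Fintype.ofFinite Q
  have hle : Nat.card (PClass p G) ≤ Nat.card (ConjClasses Q) := by
    refine Nat.card_le_card_of_surjective
      (Quotient.lift (pClassMk Q P.isPGroup') fun a b hab => ?_) ?_
    · refine Subtype.ext (ConjClasses.mk_eq_mk_iff_isConj.mpr ?_)
      obtain ⟨g, hg⟩ := isConj_iff.mp hab
      exact isConj_iff.mpr ⟨g, congrArg Subtype.val hg⟩
    · intro c
      obtain ⟨x, hx⟩ := pClassMk_surjective P c
      exact ⟨Quotient.mk _ x, hx⟩
  have hcl : p * Nat.card (ConjClasses Q) ≤ p * Nat.card (Subgroup.center Q) + Nat.card Q := by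
    -- class equation
    have hsum := (Group.sum_card_conj_classes_eq_card Q)
    rw [finsum_eq_sum_of_fintype] at hsum
    choose r hr using (fun c : ConjClasses Q => ConjClasses.exists_rep c)
    have hkey : ∀ c : ConjClasses Q, p ≤ c.carrier.ncard + p * (if r c ∈ Subgroup.center Q then 1 else 0) := by
      intro c
      split_ifs with hc
      · omega
      · obtain ⟨k, hk⟩ := P.isPGroup'.index (Subgroup.centralizer ({r c} : Set Q))
        have hidx : c.carrier.ncard = p ^ k := by
          rw [← hk]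
          nth_rw 1 [← hr c]
          refine (congrArg Set.ncard (ConjAct.orbit_eq_carrier_conjClasses (r c)).symm).trans ?_
          rw [← MulAction.index_stabilizer, ConjAct.stabilizer_eq_centralizer]
          rfl
        rcases k with _ | k
        · refine absurd ?_ hc
          rw [pow_zero, Subgroup.index_eq_one, Subgroup.centralizer_eq_top_iff_subset] at hk
          exact hk rfl
        · rw [hidx, pow_succ]
          have := Nat.one_le_pow k p hp.out.pos
          nlinarith
    have h2 := Finset.sum_le_sum (s := (Finset.univ : Finset (ConjClasses Q))) (fun c _ => hkey c)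
    rw [Finset.sum_const, Finset.card_univ, smul_eq_mul, Finset.sum_add_distrib, hsum, ← Finset.mul_sum,
      Finset.sum_boole, ← Nat.card_eq_fintype_card, Nat.cast_id] at h2
    have h3 : (Finset.univ.filter fun c : ConjClasses Q => r c ∈ Subgroup.center Q).card ≤
        Nat.card (Subgroup.center Q) := by
      rw [Nat.card_eq_fintype_card, ← Fintype.card_subtype]
      exact Fintype.card_le_of_injective (fun c => ⟨r c.1, c.2⟩) fun c d hcd =>
        Subtype.ext (by rw [← hr c.1, ← hr d.1]; exact congrArg ConjClasses.mk (congrArg Subtype.val hcd))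
    rw [mul_comm] at h2
    nlinarith
  have hz : p * Nat.card (Subgroup.center Q) ≤ Nat.card Q := by
    obtain ⟨k, hk⟩ := P.isPGroup'.index (Subgroup.center Q)
    rw [← (Subgroup.center Q).card_mul_index, hk]
    rcases k with _ | k
    · exfalso
      rw [pow_zero, Subgroup.index_eq_one] at hk
      exact hnc ⟨⟨fun a b => Subgroup.mem_center_iff.mp (hk ▸ Subgroup.mem_top b) a⟩⟩
    · rw [pow_succ]
      refine le_trans (Nat.le_mul_of_pos_right _ (pow_pos hp.out.pos k : 0 < p ^ k)) (le_of_eq ?_)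
      ring
  have h3 : 3 ≤ p := by
    have := hp.out.two_le
    omega
  nlinarith

/-- Too many classes of p-elements give a normal p-complement. -/
theorem npc_of_pClass (hp2 : p ≠ 2) (P : Sylow p G)
    (h : (p + 1) * Nat.card (P : Subgroup G) < 2 * p * Nat.card (PClass p G)) :
    Cfsg.HasNormalPComplement p G := by
  have hab := isMulCommutative_of_pClass hp2 P h
  refine Transfer.hasNormalPComplement_of_control P fun x hx y hy ⟨g, hg⟩ => ⟨1, one_mem _, ?_⟩
  subst hg
  obtain ⟨n, hn, hnx⟩ := Transfer.exists_normalizer_conj_of_abelian P hab hx hy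
  rw [one_mul, inv_one, mul_one, ← hnx]
  by_contra hne
  set Q := (P : Subgroup G)
  set C := (Subgroup.centralizer ({n} : Set G)).subgroupOf Q
  have hbound := card_le_half (pClassMk Q P.isPGroup') (pClassMk_surjective P) (C : Set Q) (by
    intro z hz
    refine ⟨⟨n * z * n⁻¹, (Subgroup.mem_normalizer_iff.mp hn _).mp z.2⟩, fun e => hz ?_, ?_⟩
    · refine Subgroup.mem_centralizer_iff.mpr fun w hw => ?_
      rw [Set.mem_singleton_iff.mp hw]
      exact mul_inv_eq_iff_eq_mul.mp (congrArg Subtype.val e)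
    · exact Subtype.ext (ConjClasses.mk_eq_mk_iff_isConj.mpr (isConj_iff.mpr ⟨n⁻¹, by group⟩)))
  have hC : p * Nat.card C ≤ Nat.card Q := by
    obtain ⟨k, hk⟩ := P.isPGroup'.index C
    rw [← C.card_mul_index, hk]
    rcases k with _ | k
    · exfalso
      rw [pow_zero, Subgroup.index_eq_one, Subgroup.subgroupOf_eq_top] at hk
      refine hne (mul_inv_eq_iff_eq_mul.mpr ?_).symm
      exact Subgroup.mem_centralizer_iff.mp (hk hx) n rfl
    · rw [pow_succ]
      refine le_trans (Nat.le_mul_of_pos_right _ (pow_pos hp.out.pos k : 0 < p ^ k)) (le_of_eq ?_)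
      ring
  have h3 : Nat.card (C : Set Q) = Nat.card C := rfl
  nlinarith

/-- An abelian Sylow subgroup with a normal complement: one class for each element. -/
theorem card_pClass_eq (P : Sylow p G) (hN : Cfsg.HasNormalPComplement p G)
    (hab : IsMulCommutative (P : Subgroup G)) :
    Nat.card (PClass p G) = Nat.card (P : Subgroup G) := by
  refine (Nat.card_eq_of_bijective _ ⟨fun a b hab' => ?_, pClassMk_surjective P⟩).symm
  obtain ⟨g, hg⟩ := isConj_iff.mp (ConjClasses.mk_eq_mk_iff_isConj.mp (congrArg Subtype.val hab'))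
  obtain ⟨N, hNn, hd, k, hk⟩ := Transfer.hasNormalPComplement_iff_exists.mp hN
  have hc := Transfer.isComplement'_sylow P hd hk
  have hgmem : g ∈ N ⊔ (P : Subgroup G) := hc.sup_eq_top ▸ Subgroup.mem_top g
  obtain ⟨m, hm, y, hy, rfl⟩ := Subgroup.mem_sup_of_normal_left.mp hgmem
  have hya : y * (a : G) * y⁻¹ = a :=
    mul_inv_eq_iff_eq_mul.mpr (congrArg Subtype.val (hab.is_comm.comm ⟨y, hy⟩ a))
  have e : (b : G) = m * a * m⁻¹ := by
    rw [← hg, show (m * y) * (a : G) * (m * y)⁻¹ = m * (y * a * y⁻¹) * m⁻¹ by group, hya]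
  have hmem : (b : G) * (a : G)⁻¹ ∈ N ⊓ (P : Subgroup G) := by
    refine ⟨?_, (P : Subgroup G).mul_mem b.2 ((P : Subgroup G).inv_mem a.2)⟩
    rw [e, show m * (a : G) * m⁻¹ * (a : G)⁻¹ = m * ((a : G) * m⁻¹ * (a : G)⁻¹) by group]
    exact mul_mem hm (hNn.conj_mem _ (inv_mem hm) _)
  rw [hc.disjoint.eq_bot, Subgroup.mem_bot, mul_inv_eq_one] at hmem
  exact (Subtype.ext hmem).symm

/-- Classes of π-elements. -/
abbrev PiClass (π : Finset ℕ) (G : Type u) [Group G] :=
  {c : ConjClasses G // ∀ x ∈ c.carrier, ∀ r : ℕ, r.Prime → r ∣ orderOf x → r ∈ π}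

omit hp in
theorem orderOf_of_mem_carrier {x y : G} (h : y ∈ (ConjClasses.mk x).carrier) :
    orderOf y = orderOf x := by
  rw [ConjClasses.mem_carrier_iff_mk_eq, ConjClasses.mk_eq_mk_iff_isConj, isConj_iff] at h
  obtain ⟨g, hg⟩ := h
  rw [← hg]
  exact (orderOf_injective (MulAut.conj g).toMonoidHom (MulAut.conj g).injective y).symm

omit hp in
theorem card_piClass_le_mul (π : Finset ℕ) {q : ℕ} [Fact q.Prime] (hqπ : q ∈ π) (B : ℕ)
    (hB : ∀ H : Subgroup G, Nat.card (PiClass (π.erase q) H) ≤ B) :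
    Nat.card (PiClass π G) ≤ Nat.card (PClass q G) * B := by
  classical
  have hq : q.Prime := Fact.out
  choose r hr using fun c : PClass q G => ConjClasses.exists_rep c.1
  let D : PClass q G → Type u := fun d => PiClass (π.erase q) (Subgroup.centralizer ({r d} : Set G))
  have : Fintype (PClass q G) := Fintype.ofFinite _
  have : ∀ d, Fintype (D d) := fun d => Fintype.ofFinite _
  choose s hs using fun (d : PClass q G) (e : D d) => ConjClasses.exists_rep e.1
  have hmem : ∀ (d : PClass q G) (e : D d), ∀ t : ℕ, t.Prime → t ∣ orderOf (r d * (s d e : G)) → t ∈ π := by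
    intro d e t ht htd
    have hc : Commute (r d) (s d e : G) :=
      Subgroup.mem_centralizer_iff.mp (s d e).2 (r d) rfl
    rcases (Nat.Prime.dvd_mul ht).mp (htd.trans (hc.orderOf_mul_dvd_lcm.trans
      (Nat.lcm_dvd_mul _ _))) with h | h
    · obtain ⟨k, hk⟩ := d.2 (r d) (by rw [ConjClasses.mem_carrier_iff_mk_eq]; exact hr d)
      rw [hk] at h
      rw [(Nat.prime_dvd_prime_iff_eq ht hq).mp (ht.dvd_of_dvd_pow h)]
      exact hqπ
    · rw [Subgroup.orderOf_coe] at h
      exact (Finset.mem_erase.mp (e.2 (s d e)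
        (by rw [ConjClasses.mem_carrier_iff_mk_eq]; exact hs d e) t ht h)).2
  let F : (Σ d, D d) → PiClass π G := fun de =>
    ⟨ConjClasses.mk (r de.1 * (s de.1 de.2 : G)), fun x hx => by
      rw [orderOf_of_mem_carrier hx]
      exact hmem de.1 de.2⟩
  have hF : Function.Surjective F := by
    rintro ⟨c, hc⟩
    obtain ⟨g, rfl⟩ := ConjClasses.mk_surjective c
    have hg := hc g ConjClasses.mem_carrier_mk
    have hne : orderOf g ≠ 0 := (orderOf_pos g).ne'
    obtain ⟨a, n', hn', hmul⟩ := Nat.exists_eq_pow_mul_and_not_dvd hne q hq.ne_one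
    obtain ⟨x, y, hxg, hyg, hx, hy, hgxy⟩ := exists_pow_decomp (g := g) (m := q ^ a) (n := n')
      ((hq.coprime_iff_not_dvd.mpr hn').pow_left a) (hmul ▸ pow_orderOf_eq_one g)
    have hxy : x * y = y * x := by
      obtain ⟨i, rfl⟩ := Subgroup.mem_zpowers_iff.mp hxg
      obtain ⟨j, rfl⟩ := Subgroup.mem_zpowers_iff.mp hyg
      rw [← zpow_add, ← zpow_add, add_comm]
    obtain ⟨i, -, hi⟩ := (Nat.dvd_prime_pow hq).mp (orderOf_dvd_of_pow_eq_one hx)
    let d : PClass q G := ⟨ConjClasses.mk x, fun z hz => ⟨i, by rw [orderOf_of_mem_carrier hz, hi]⟩⟩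
    obtain ⟨h, hh⟩ := isConj_iff.mp (ConjClasses.mk_eq_mk_iff_isConj.mp (hr d)).symm
    have hy' : h * y * h⁻¹ ∈ Subgroup.centralizer ({r d} : Set G) := by
      refine Subgroup.mem_centralizer_iff.mpr fun z hz => ?_
      rw [Set.mem_singleton_iff.mp hz, ← hh,
        show h * x * h⁻¹ * (h * y * h⁻¹) = h * (x * y) * h⁻¹ by group, hxy]
      group
    have hord : orderOf (⟨_, hy'⟩ : Subgroup.centralizer ({r d} : Set G)) = orderOf y := by
      rw [← Subgroup.orderOf_coe]
      exact orderOf_injective (MulAut.conj h).toMonoidHom (MulAut.conj h).injective y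
    let e : D d := ⟨ConjClasses.mk ⟨_, hy'⟩, fun z hz t ht htd => by
      rw [orderOf_of_mem_carrier hz, hord] at htd
      refine Finset.mem_erase.mpr ⟨fun e' => hn' ?_, hg t ht ?_⟩
      · exact e' ▸ htd.trans (orderOf_dvd_of_pow_eq_one hy)
      · exact htd.trans (orderOf_dvd_of_mem_zpowers hyg)⟩
    refine ⟨⟨d, e⟩, Subtype.ext (ConjClasses.mk_eq_mk_iff_isConj.mpr ?_)⟩
    obtain ⟨c, hc'⟩ := isConj_iff.mp (ConjClasses.mk_eq_mk_iff_isConj.mp (hs d e)).symm
    have hcr : (c : G) * r d * (c : G)⁻¹ = r d :=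
      mul_inv_eq_iff_eq_mul.mpr (Subgroup.mem_centralizer_iff.mp c.2 (r d) rfl).symm
    refine (isConj_iff.mpr ⟨(c : G) * h, ?_⟩).symm
    rw [show (c : G) * h * g * ((c : G) * h)⁻¹ = (c : G) * (h * x * h⁻¹) * (c : G)⁻¹ *
      ((c : G) * (h * y * h⁻¹) * (c : G)⁻¹) by rw [hgxy]; group, hh, hcr]
    exact congrArg (r d * ·) (congrArg Subtype.val hc')
  calc Nat.card (PiClass π G) ≤ Nat.card (Σ d, D d) := Nat.card_le_card_of_surjective F hF
    _ = ∑ d : PClass q G, Nat.card (D d) := Nat.card_sigma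
    _ ≤ ∑ _d : PClass q G, B := Finset.sum_le_sum fun d _ => hB _
    _ = Nat.card (PClass q G) * B := by
      rw [Finset.sum_const, Finset.card_univ, smul_eq_mul, Nat.card_eq_fintype_card]

omit hp in
theorem card_piClass_le : ∀ (π : Finset ℕ), (∀ r ∈ π, r.Prime) → ∀ (H : Type u) [Group H] [Finite H],
    Nat.card (PiClass π H) ≤ π.prod fun r => r ^ (Nat.card H).factorization r := by
  intro π
  induction π using Finset.strongInduction with
  | _ π ih =>
  intro hπ H _ _
  rcases π.eq_empty_or_nonempty with rfl | ⟨q, hq⟩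
  · rw [Finset.prod_empty]
    have : Subsingleton (PiClass (∅ : Finset ℕ) H) := by
      refine ⟨fun a b => Subtype.ext ?_⟩
      have key : ∀ c : PiClass (∅ : Finset ℕ) H, c.1 = ConjClasses.mk 1 := by
        rintro ⟨c, hc⟩
        obtain ⟨x, rfl⟩ := ConjClasses.mk_surjective c
        by_contra hne
        obtain ⟨t, ht, htd⟩ := Nat.exists_prime_and_dvd (n := orderOf x) fun h =>
          hne (congrArg ConjClasses.mk (orderOf_eq_one_iff.mp h))
        exact Finset.notMem_empty t (hc x ConjClasses.mem_carrier_mk t ht htd)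
      rw [key a, key b]
    exact Finite.card_le_one_iff_subsingleton.mpr this
  have := Fact.mk (hπ q hq)
  refine (card_piClass_le_mul π hq ((π.erase q).prod fun r => r ^ (Nat.card H).factorization r)
    fun K => (ih _ (Finset.erase_ssubset hq) (fun r hr => hπ r (Finset.mem_of_mem_erase hr)) K).trans
      (Finset.prod_le_prod' fun r hr => ?_)).trans ?_
  · exact Nat.pow_le_pow_right (hπ r (Finset.mem_of_mem_erase hr)).pos
      ((Nat.factorization_le_iff_dvd Nat.card_pos.ne' Nat.card_pos.ne').mpr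
        K.card_subgroup_dvd_card r)
  · obtain ⟨P⟩ : Nonempty (Sylow q H) := inferInstance
    refine le_trans (Nat.mul_le_mul_right _ (card_pClass_le P)) (le_of_eq ?_)
    rw [P.card_eq_multiplicity, ← Finset.mul_prod_erase π _ hq]

omit hp in
/-- Many classes of π-elements give a normal π-complement and an abelian Hall π-subgroup. -/
theorem pi_complement_of_piClass (π : Finset ℕ) (hπ : ∀ r ∈ π, r.Prime) (h2 : 2 ∉ π) (hp0 : p ∈ π)
    (hmin : ∀ r ∈ π, p ≤ r)
    (hk : (p + 1) * π.prod (fun r => r ^ (Nat.card G).factorization r) <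
      2 * p * Nat.card (PiClass π G)) :
    (∃ N : Subgroup G, N.Normal ∧ (∀ r : ℕ, r.Prime → r ∣ Nat.card N → r ∉ π) ∧
      ∀ r : ℕ, r.Prime → r ∣ N.index → r ∈ π) ∧
    ∃ H : Subgroup G, Cfsg.IsPiHall (↑π : Set ℕ) H ∧ IsMulCommutative H := by
  classical
  -- every prime of π gives a normal complement with abelian Sylow subgroup
  have key : ∀ r ∈ π, ∀ [Fact r.Prime], ∀ R : Sylow r G,
      Cfsg.HasNormalPComplement r G ∧ IsMulCommutative (R : Subgroup G) := by
    intro r hr _ R
    have hr2 : r ≠ 2 := fun e => h2 (e ▸ hr)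
    set m := (π.erase r).prod fun t => t ^ (Nat.card G).factorization t
    have hm : 0 < m := Finset.prod_pos fun t ht => pow_pos (hπ t (Finset.mem_of_mem_erase ht)).pos _
    have h1 := card_piClass_le_mul (G := G) π hr m fun K =>
      (card_piClass_le _ (fun t ht => hπ t (Finset.mem_of_mem_erase ht)) K).trans
        (Finset.prod_le_prod' fun t ht => Nat.pow_le_pow_right (hπ t (Finset.mem_of_mem_erase ht)).pos
          ((Nat.factorization_le_iff_dvd Nat.card_pos.ne' Nat.card_pos.ne').mpr
            K.card_subgroup_dvd_card t))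
    rw [← Finset.mul_prod_erase π _ hr, ← R.card_eq_multiplicity] at hk
    have h3 : (r + 1) * Nat.card (R : Subgroup G) < 2 * r * Nat.card (PClass r G) := by
      replace hk : (p + 1) * (Nat.card (R : Subgroup G) * m) < 2 * p * Nat.card (PiClass π G) := hk
      have h4 : (p + 1) * Nat.card (R : Subgroup G) < 2 * p * Nat.card (PClass r G) := by
        refine Nat.lt_of_mul_lt_mul_right (a := m) ?_
        have h5 := Nat.mul_le_mul_left (2 * p) h1
        linarith
      have hpr := hmin r hr
      refine Nat.lt_of_mul_lt_mul_right (a := p) ?_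
      have h6 := Nat.mul_le_mul_right (Nat.card (R : Subgroup G))
        (show (r + 1) * p ≤ (p + 1) * r by nlinarith)
      have h7 := Nat.mul_lt_mul_of_pos_left h4 (lt_of_lt_of_le (hπ p hp0).pos hpr)
      linarith
    exact ⟨npc_of_pClass hr2 R h3, isMulCommutative_of_pClass hr2 R h3⟩
  let N : Subgroup G := ⨅ r ∈ π, Cfsg.pResidual r G
  have hNn : N.Normal := Subgroup.normal_iInf_normal fun r => Subgroup.normal_iInf_normal fun _ =>
    inferInstance
  have hN1 : ∀ r : ℕ, r.Prime → r ∣ Nat.card N → r ∉ π := by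
    intro r hr hrd hrπ
    have := Fact.mk hr
    obtain ⟨R⟩ : Nonempty (Sylow r G) := inferInstance
    exact Transfer.hasNormalPComplement_iff_not_dvd.mp (key r hrπ R).1
      (hrd.trans (Subgroup.card_dvd_of_le (iInf₂_le r hrπ)))
  have hN2 : ∀ r : ℕ, r.Prime → r ∣ N.index → r ∈ π := by
    intro t ht htd
    by_contra htπ
    have := Fact.mk ht
    obtain ⟨T⟩ : Nonempty (Sylow t G) := inferInstance
    have hle : (T : Subgroup G) ≤ N := le_iInf₂ fun r hr x hx => by
      have := Fact.mk (hπ r hr)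
      refine Transfer.mem_pResidual_of_coprime ?_
      obtain ⟨k, hk⟩ := IsPGroup.iff_orderOf.mp T.isPGroup' ⟨x, hx⟩
      rw [Subgroup.orderOf_mk] at hk
      rw [hk]
      exact Nat.Coprime.pow_left k ((Nat.coprime_primes ht (hπ r hr)).mpr fun e => htπ (e ▸ hr))
    exact T.not_dvd_index (htd.trans (Subgroup.index_dvd_of_le hle))
  refine ⟨⟨N, hNn, hN1, hN2⟩, ?_⟩
  have hcop : (Nat.card N).Coprime N.index :=
    Nat.coprime_of_dvd fun t ht h1 h2' => hN1 t ht h1 (hN2 t ht h2')
  obtain ⟨H, hH⟩ := Subgroup.exists_right_complement'_of_coprime hcop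
  have hHc : Nat.card H = N.index := hH.symm.index_eq_card.symm
  refine ⟨H, ⟨fun t ht htd => hN2 t ht (hHc ▸ htd), fun t ht htπ htd => hN1 t ht ?_ htπ⟩, ⟨⟨fun a b => ?_⟩⟩⟩
  · rwa [hH.index_eq_card] at htd
  · refine commutatorElement_eq_one_iff_mul_comm.mp ?_
    have hmem : ((⁅a, b⁆ : H) : G) ∈ N ⊓ H := by
      refine ⟨Subgroup.mem_iInf.mpr fun r => Subgroup.mem_iInf.mpr fun hr => ?_, (⁅a, b⁆ : H).2⟩
      have := Fact.mk (hπ r hr)
      obtain ⟨R⟩ : Nonempty (Sylow r G) := inferInstance
      obtain ⟨hnpc, hab⟩ := key r hr R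
      have hd := Transfer.hasNormalPComplement_iff_not_dvd.mp hnpc
      obtain ⟨k, hki⟩ := Transfer.exists_pResidual_index (G := G) r
      have hc := Transfer.isComplement'_sylow R hd hki
      set π0 := QuotientGroup.mk' (Cfsg.pResidual r G)
      have hsurj : ∀ g : G, ∃ z ∈ (R : Subgroup G), π0 z = π0 g := fun g => by
        obtain ⟨n, hn, z, hz, e⟩ := Subgroup.mem_sup_of_normal_left.mp
          (hc.sup_eq_top ▸ Subgroup.mem_top g : g ∈ Cfsg.pResidual r G ⊔ (R : Subgroup G))
        exact ⟨z, hz, by rw [← e, map_mul, show π0 n = 1 from (QuotientGroup.eq_one_iff n).mpr hn, one_mul]⟩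
      refine (QuotientGroup.eq_one_iff _).mp ?_
      show π0 ⁅(a : G), (b : G)⁆ = 1
      obtain ⟨u, hu, hu'⟩ := hsurj a
      obtain ⟨w, hw, hw'⟩ := hsurj b
      rw [map_commutatorElement, ← hu', ← hw', commutatorElement_eq_one_iff_mul_comm, ← map_mul,
        ← map_mul]
      exact congrArg π0 (congrArg Subtype.val (hab.is_comm.comm ⟨u, hu⟩ ⟨w, hw⟩))
    rw [hH.disjoint.eq_bot, Subgroup.mem_bot] at hmem
    exact Subtype.ext hmem

end Cfsg.Agent.Grp
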