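import Mathlib
import Cfsg.Agent.Lib.Grp.ClassCount
import Cfsg.Agent.Lib.Grp.AutOrbits
import Cfsg.Agent.Lib.Grp.Coprime
import Cfsg.Agent.Lib.Transfer.Frobenius

/-!
Counting classes of 2-elements, and of π-elements for a set π of primes containing 2.
-/

set_option autoImplicit false
set_option linter.style.haveILetI false
set_option linter.unusedSectionVars false

namespace Cfsg.Agent.Grp.TwoCount

open Subgroup
open scoped commutatorElement Pointwise
open Cfsg.Agent.Grp

universe u

variable {G : Type u} [Group G] [Finite G] {p : ℕ} [hp : Fact p.Prime]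

omit hp in
theorem card_piClass_le_mul_centralizers (π : Finset ℕ) {q : ℕ} [Fact q.Prime] (hqπ : q ∈ π) (B : ℕ)
    (hB : ∀ x : G, (∃ k, orderOf x = q ^ k) →
      Nat.card (PiClass (π.erase q) (Subgroup.centralizer ({x} : Set G))) ≤ B) :
    Nat.card (PiClass π G) ≤ Nat.card (PClass q G) * B := by
  classical
  have hq : q.Prime := Fact.out
  choose r hr using fun c : PClass q G => ConjClasses.exists_rep c.1
  let D : PClass q G → Type u := fun d => PiClass (π.erase q) (Subgroup.centralizer ({r d} : Set G))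
  have : Fintype (PClass q G) := Fintype.ofFinite _
  have : ∀ d, Fintype (D d) := fun d => Fintype.ofFinite _
  choose s hs using fun (d : PClass q G) (e : D d) => ConjClasses.exists_rep e.1
  have hmem : ∀ (d : PClass q G) (e : D d), ∀ t : ℕ, t.Prime → t ∣ orderOf (r d * (s d e : G)) → t ∈ π := by
    intro d e t ht htd
    have hc : Commute (r d) (s d e : G) :=
      Subgroup.mem_centralizer_iff.mp (s d e).2 (r d) rfl
    rcases (Nat.Prime.dvd_mul ht).mp (htd.trans (hc.orderOf_mul_dvd_lcm.trans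
      (Nat.lcm_dvd_mul _ _))) with h | h
    · obtain ⟨k, hk⟩ := d.2 (r d) (by rw [ConjClasses.mem_carrier_iff_mk_eq]; exact hr d)
      rw [hk] at h
      rw [(Nat.prime_dvd_prime_iff_eq ht hq).mp (ht.dvd_of_dvd_pow h)]
      exact hqπ
    · rw [Subgroup.orderOf_coe] at h
      exact (Finset.mem_erase.mp (e.2 (s d e)
        (by rw [ConjClasses.mem_carrier_iff_mk_eq]; exact hs d e) t ht h)).2
  let F : (Σ d, D d) → PiClass π G := fun de =>
    ⟨ConjClasses.mk (r de.1 * (s de.1 de.2 : G)), fun x hx => by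
      rw [orderOf_of_mem_carrier hx]
      exact hmem de.1 de.2⟩
  have hF : Function.Surjective F := by
    rintro ⟨c, hc⟩
    obtain ⟨g, rfl⟩ := ConjClasses.mk_surjective c
    have hg := hc g ConjClasses.mem_carrier_mk
    have hne : orderOf g ≠ 0 := (orderOf_pos g).ne'
    obtain ⟨a, n', hn', hmul⟩ := Nat.exists_eq_pow_mul_and_not_dvd hne q hq.ne_one
    obtain ⟨x, y, hxg, hyg, hx, hy, hgxy⟩ := exists_pow_decomp (g := g) (m := q ^ a) (n := n')
      ((hq.coprime_iff_not_dvd.mpr hn').pow_left a) (hmul ▸ pow_orderOf_eq_one g)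
    have hxy : x * y = y * x := by
      obtain ⟨i, rfl⟩ := Subgroup.mem_zpowers_iff.mp hxg
      obtain ⟨j, rfl⟩ := Subgroup.mem_zpowers_iff.mp hyg
      rw [← zpow_add, ← zpow_add, add_comm]
    obtain ⟨i, -, hi⟩ := (Nat.dvd_prime_pow hq).mp (orderOf_dvd_of_pow_eq_one hx)
    let d : PClass q G := ⟨ConjClasses.mk x, fun z hz => ⟨i, by rw [orderOf_of_mem_carrier hz, hi]⟩⟩
    obtain ⟨h, hh⟩ := isConj_iff.mp (ConjClasses.mk_eq_mk_iff_isConj.mp (hr d)).symm
    have hy' : h * y * h⁻¹ ∈ Subgroup.centralizer ({r d} : Set G) := by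
      refine Subgroup.mem_centralizer_iff.mpr fun z hz => ?_
      rw [Set.mem_singleton_iff.mp hz, ← hh,
        show h * x * h⁻¹ * (h * y * h⁻¹) = h * (x * y) * h⁻¹ by group, hxy]
      group
    have hord : orderOf (⟨_, hy'⟩ : Subgroup.centralizer ({r d} : Set G)) = orderOf y := by
      rw [← Subgroup.orderOf_coe]
      exact orderOf_injective (MulAut.conj h).toMonoidHom (MulAut.conj h).injective y
    let e : D d := ⟨ConjClasses.mk ⟨_, hy'⟩, fun z hz t ht htd => by
      rw [orderOf_of_mem_carrier hz, hord] at htd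
      refine Finset.mem_erase.mpr ⟨fun e' => hn' ?_, hg t ht ?_⟩
      · exact e' ▸ htd.trans (orderOf_dvd_of_pow_eq_one hy)
      · exact htd.trans (orderOf_dvd_of_mem_zpowers hyg)⟩
    refine ⟨⟨d, e⟩, Subtype.ext (ConjClasses.mk_eq_mk_iff_isConj.mpr ?_)⟩
    obtain ⟨c, hc'⟩ := isConj_iff.mp (ConjClasses.mk_eq_mk_iff_isConj.mp (hs d e)).symm
    have hcr : (c : G) * r d * (c : G)⁻¹ = r d :=
      mul_inv_eq_iff_eq_mul.mpr (Subgroup.mem_centralizer_iff.mp c.2 (r d) rfl).symm
    refine (isConj_iff.mpr ⟨(c : G) * h, ?_⟩).symm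
    rw [show (c : G) * h * g * ((c : G) * h)⁻¹ = (c : G) * (h * x * h⁻¹) * (c : G)⁻¹ *
      ((c : G) * (h * y * h⁻¹) * (c : G)⁻¹) by rw [hgxy]; group, hh, hcr]
    exact congrArg (r d * ·) (congrArg Subtype.val hc')
  calc Nat.card (PiClass π G) ≤ Nat.card (Σ d, D d) := Nat.card_le_card_of_surjective F hF
    _ = ∑ d : PClass q G, Nat.card (D d) := Nat.card_sigma
    _ ≤ ∑ _d : PClass q G, B := Finset.sum_le_sum fun d _ => hB _ (d.2 _ (by
        rw [ConjClasses.mem_carrier_iff_mk_eq]; exact hr d))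
    _ = Nat.card (PClass q G) * B := by
      rw [Finset.sum_const, Finset.card_univ, smul_eq_mul, Nat.card_eq_fintype_card]

omit hp in
/-- Primewise complements with abelian Sylow subgroups give a complement with abelian Hall subgroup. -/
theorem pi_complement_of_key (π : Finset ℕ) (hπ : ∀ r ∈ π, r.Prime)
    (key : ∀ r ∈ π, ∀ [Fact r.Prime], ∀ R : Sylow r G,
      Cfsg.HasNormalPComplement r G ∧ IsMulCommutative (R : Subgroup G)) :
    (∃ N : Subgroup G, N.Normal ∧ (∀ r : ℕ, r.Prime → r ∣ Nat.card N → r ∉ π) ∧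
      ∀ r : ℕ, r.Prime → r ∣ N.index → r ∈ π) ∧
    ∃ H : Subgroup G, Cfsg.IsPiHall (↑π : Set ℕ) H ∧ IsMulCommutative H := by
  classical
  let N : Subgroup G := ⨅ r ∈ π, Cfsg.pResidual r G
  have hNn : N.Normal := Subgroup.normal_iInf_normal fun r => Subgroup.normal_iInf_normal fun _ =>
    inferInstance
  have hN1 : ∀ r : ℕ, r.Prime → r ∣ Nat.card N → r ∉ π := by
    intro r hr hrd hrπ
    have := Fact.mk hr
    obtain ⟨R⟩ : Nonempty (Sylow r G) := inferInstance
    exact Transfer.hasNormalPComplement_iff_not_dvd.mp (key r hrπ R).1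
      (hrd.trans (Subgroup.card_dvd_of_le (iInf₂_le r hrπ)))
  have hN2 : ∀ r : ℕ, r.Prime → r ∣ N.index → r ∈ π := by
    intro t ht htd
    by_contra htπ
    have := Fact.mk ht
    obtain ⟨T⟩ : Nonempty (Sylow t G) := inferInstance
    have hle : (T : Subgroup G) ≤ N := le_iInf₂ fun r hr x hx => by
      have := Fact.mk (hπ r hr)
      refine Transfer.mem_pResidual_of_coprime ?_
      obtain ⟨k, hk⟩ := IsPGroup.iff_orderOf.mp T.isPGroup' ⟨x, hx⟩
      rw [Subgroup.orderOf_mk] at hk
      rw [hk]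
      exact Nat.Coprime.pow_left k ((Nat.coprime_primes ht (hπ r hr)).mpr fun e => htπ (e ▸ hr))
    exact T.not_dvd_index (htd.trans (Subgroup.index_dvd_of_le hle))
  refine ⟨⟨N, hNn, hN1, hN2⟩, ?_⟩
  have hcop : (Nat.card N).Coprime N.index :=
    Nat.coprime_of_dvd fun t ht h1 h2' => hN1 t ht h1 (hN2 t ht h2')
  obtain ⟨H, hH⟩ := Subgroup.exists_right_complement'_of_coprime hcop
  have hHc : Nat.card H = N.index := hH.symm.index_eq_card.symm
  refine ⟨H, ⟨fun t ht htd => hN2 t ht (hHc ▸ htd), fun t ht htπ htd => hN1 t ht ?_ htπ⟩, ⟨⟨fun a b => ?_⟩⟩⟩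
  · rwa [hH.index_eq_card] at htd
  · refine commutatorElement_eq_one_iff_mul_comm.mp ?_
    have hmem : ((⁅a, b⁆ : H) : G) ∈ N ⊓ H := by
      refine ⟨Subgroup.mem_iInf.mpr fun r => Subgroup.mem_iInf.mpr fun hr => ?_, (⁅a, b⁆ : H).2⟩
      have := Fact.mk (hπ r hr)
      obtain ⟨R⟩ : Nonempty (Sylow r G) := inferInstance
      obtain ⟨hnpc, hab⟩ := key r hr R
      have hd := Transfer.hasNormalPComplement_iff_not_dvd.mp hnpc
      obtain ⟨k, hki⟩ := Transfer.exists_pResidual_index (G := G) r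
      have hc := Transfer.isComplement'_sylow R hd hki
      set π0 := QuotientGroup.mk' (Cfsg.pResidual r G)
      have hsurj : ∀ g : G, ∃ z ∈ (R : Subgroup G), π0 z = π0 g := fun g => by
        obtain ⟨n, hn, z, hz, e⟩ := Subgroup.mem_sup_of_normal_left.mp
          (hc.sup_eq_top ▸ Subgroup.mem_top g : g ∈ Cfsg.pResidual r G ⊔ (R : Subgroup G))
        exact ⟨z, hz, by rw [← e, map_mul, show π0 n = 1 from (QuotientGroup.eq_one_iff n).mpr hn, one_mul]⟩
      refine (QuotientGroup.eq_one_iff _).mp ?_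
      show π0 ⁅(a : G), (b : G)⁆ = 1
      obtain ⟨u, hu, hu'⟩ := hsurj a
      obtain ⟨w, hw, hw'⟩ := hsurj b
      rw [map_commutatorElement, ← hu', ← hw', commutatorElement_eq_one_iff_mul_comm, ← map_mul,
        ← map_mul]
      exact congrArg π0 (congrArg Subtype.val (hab.is_comm.comm ⟨u, hu⟩ ⟨w, hw⟩))
    rw [hH.disjoint.eq_bot, Subgroup.mem_bot] at hmem
    exact Subtype.ext hmem


omit hp in
theorem card_le_frac {α β : Type*} [Finite α] (f : α → β) (hf : Function.Surjective f) (C : Set α)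
    (j : ℕ) (hj : 1 ≤ j) (hC : ∀ x ∉ C, ∃ s : Finset α, s.card = j ∧ ∀ y ∈ s, f y = f x) :
    j * Nat.card β ≤ Nat.card α + (j - 1) * Nat.card C := by
  classical
  have : Fintype α := Fintype.ofFinite α
  have : Finite β := Finite.of_surjective f hf
  have : Fintype β := Fintype.ofFinite β
  have key : ∀ b : β, j ≤ ∑ x ∈ Finset.univ.filter (fun x => f x = b), (1 + if x ∈ C then j - 1 else 0) := by
    intro b
    obtain ⟨a, ha⟩ := hf b
    by_cases haC : a ∈ C
    · refine le_trans ?_ (Finset.single_le_sum (fun x _ => Nat.zero_le _) (show a ∈ _ by simp [ha]))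
      simp only [haC, if_true]; omega
    · obtain ⟨s, hs, hs'⟩ := hC a haC
      refine le_trans ?_ (Finset.sum_le_sum_of_subset (s := s) fun x hx => by simp [hs' x hx, ha])
      rw [← hs, Finset.card_eq_sum_ones]
      exact Finset.sum_le_sum fun x _ => Nat.le_add_right _ _
  have h1 := Finset.sum_le_sum (s := (Finset.univ : Finset β)) (fun b _ => key b)
  rw [Finset.sum_fiberwise (Finset.univ : Finset α) f (fun x => 1 + if x ∈ C then j - 1 else 0),
    Finset.sum_add_distrib, ← Finset.sum_filter, Finset.sum_const, Finset.sum_const, Finset.sum_const] at h1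
  simp only [Finset.card_univ, smul_eq_mul, mul_one] at h1
  rw [Nat.card_eq_fintype_card, Nat.card_eq_fintype_card, Nat.card_eq_fintype_card,
    Fintype.card_subtype, mul_comm j, mul_comm (j - 1)]
  exact h1

omit hp in
theorem mem_zpowers_pow_of_coprime {g : G} {m : ℕ} (h : (orderOf g).Coprime m) :
    g ∈ zpowers (g ^ m) := by
  obtain ⟨i, j, hij⟩ : IsCoprime (orderOf g : ℤ) m := Nat.isCoprime_iff_coprime.mpr h
  refine mem_zpowers_iff.mpr ⟨j, ?_⟩
  have : g = g ^ (i * (orderOf g : ℤ) + j * m) := by rw [hij, zpow_one]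
  rw [zpow_add, mul_comm i, zpow_mul, zpow_natCast, pow_orderOf_eq_one, one_zpow, one_mul,
    mul_comm j, zpow_mul, zpow_natCast] at this
  exact this.symm

/-- Without a normal 2-complement some odd element acts on a 2-group over the centre of a Sylow subgroup. -/
theorem exists_moved (hn : ¬ Cfsg.HasNormalPComplement 2 G) :
    ∃ (P : Sylow 2 G) (Q : Subgroup G) (h : G), Q ≤ (P : Subgroup G) ∧
      (center (P : Subgroup G)).map (P : Subgroup G).subtype ≤ Q ∧
      h ∈ normalizer (Q : Set G) ∧ Odd (orderOf h) ∧ ∃ q ∈ Q, h * q ≠ q * h := by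
  haveI : Fact (Nat.Prime 2) := ⟨Nat.prime_two⟩
  obtain ⟨P0⟩ : Nonempty (Sylow 2 G) := inferInstance
  rw [Transfer.hasNormalPComplement_iff_frobeniusCondition P0] at hn
  unfold Transfer.FrobeniusCondition at hn
  push Not at hn
  obtain ⟨D, hD, g, hg, hgc, hgD⟩ := hn
  have hDp : IsPGroup 2 D := P0.isPGroup'.to_le hD
  set C := centralizer (D : Set G) with hC
  obtain ⟨S⟩ : Nonempty (Sylow 2 C) := inferInstance
  set Sm := (S : Subgroup C).map C.subtype with hSm
  have hSin : IsSylowIn 2 Sm C := isSylowIn_iff.mpr ⟨S, rfl⟩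
  have hgC : MulAut.conj g • C = C := by
    refine le_antisymm ?_ ?_ <;> intro y hy
    · rw [mem_smul_conj] at hy
      refine mem_centralizer_iff.mpr fun d hd => ?_
      have := mem_centralizer_iff.mp hy _ (mem_conj_normalizer' hg hd)
      calc d * y = g * (g⁻¹ * d * g * (g⁻¹ * y * g)) * g⁻¹ := by group
        _ = y * d := by rw [this]; group
    · rw [mem_smul_conj]
      refine mem_centralizer_iff.mpr fun d hd => ?_
      have := mem_centralizer_iff.mp hy _ (mem_conj_normalizer hg hd)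
      calc d * (g⁻¹ * y * g) = g⁻¹ * (g * d * g⁻¹ * y) * g := by group
        _ = g⁻¹ * y * g * d := by rw [this]; group
  have hS' : IsSylowIn 2 (MulAut.conj g • Sm) C := by
    refine ⟨?_, hSin.2.1.map _, ?_⟩
    · rw [← hgC]; exact Subgroup.pointwise_smul_le_pointwise_smul_iff.mpr hSin.1
    · rw [← hgC, relIndex_smul]; exact hSin.2.2
  obtain ⟨c, hc, hcg⟩ := hS'.conj hSin
  rw [conj_smul_conj_smul] at hcg
  set n := c * g with hn_def
  have hnD : ∀ d ∈ D, n * d * n⁻¹ = g * d * g⁻¹ := fun d hd => by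
    have := mem_centralizer_iff.mp hc _ (mem_conj_normalizer hg hd)
    calc n * d * n⁻¹ = c * (g * d * g⁻¹) * c⁻¹ := by rw [hn_def]; group
      _ = _ := by rw [← this]; group
  have hnk : ∀ (k : ℕ), ∀ d ∈ D, n ^ k * d * (n ^ k)⁻¹ = g ^ k * d * (g ^ k)⁻¹ := by
    intro k
    induction k with
    | zero => simp
    | succ k ih =>
      intro d hd
      have hd' : g * d * g⁻¹ ∈ D := mem_conj_normalizer hg hd
      calc n ^ (k + 1) * d * (n ^ (k + 1))⁻¹ = n ^ k * (n * d * n⁻¹) * (n ^ k)⁻¹ := by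
            rw [pow_succ]; group
        _ = g ^ k * (g * d * g⁻¹) * (g ^ k)⁻¹ := by rw [hnD d hd, ih _ hd']
        _ = _ := by rw [pow_succ]; group
  have hnN : n ∈ normalizer (D : Set G) := mul_mem (by
    refine mem_normalizer_iff.mpr fun y => ⟨fun hy => ?_, fun hy => ?_⟩
    · rwa [← mem_centralizer_iff.mp hc y hy, mul_inv_cancel_right]
    · have := mem_centralizer_iff.mp hc _ hy
      have e : c * y * c⁻¹ * c = c * (c * y * c⁻¹) := this
      have : c * y * c⁻¹ = y := by
        have e2 : c * y = c * (c * y * c⁻¹) := by rw [← e]; group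
        exact (mul_left_cancel e2).symm
      rwa [this] at hy) hg
  have hnS : n ∈ normalizer (Sm : Set G) := mem_normalizer_iff_smul.mpr hcg
  set a := (orderOf n).factorization 2 with ha
  set n' := n ^ 2 ^ a with hn'
  have hSQ : IsPGroup 2 ↥(Sm ⊔ D) := hSin.2.1.to_sup_of_normal_right' hDp
    (hSin.1.trans (centralizer_le_normalizer _))
  obtain ⟨P, hP⟩ := hSQ.exists_le_sylow
  refine ⟨P, Sm ⊔ D, n', hP, ?_, ?_, ?_, ?_⟩
  · rintro _ ⟨z, hz, rfl⟩
    refine mem_sup_left ?_
    have hzc : ∀ y ∈ (P : Subgroup G), y * (z : G) = z * y := fun y hy =>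
      congrArg Subtype.val (mem_center_iff.mp hz ⟨y, hy⟩)
    have hzC : (z : G) ∈ C := mem_centralizer_iff.mpr fun d hd => hzc d (hP (mem_sup_right hd))
    have hle : Sm ⊔ zpowers (z : G) ≤ C := sup_le hSin.1 (zpowers_le.mpr hzC)
    have hp' : IsPGroup 2 ↥(Sm ⊔ zpowers (z : G)) :=
      P.isPGroup'.to_le (sup_le (le_sup_left.trans hP) (zpowers_le.mpr z.2))
    have heq := hSin.eq_of_le le_sup_left hle hp'
    show (z : G) ∈ Sm
    rw [heq]
    exact mem_sup_right (mem_zpowers _)
  · refine pow_mem ?_ _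
    rw [mem_normalizer_iff_smul, Subgroup.smul_sup, mem_normalizer_iff_smul.mp hnS,
      mem_normalizer_iff_smul.mp hnN]
  · have h1 : orderOf n' ∣ orderOf n / 2 ^ a := orderOf_dvd_of_pow_eq_one (by
      rw [hn', ← pow_mul, Nat.mul_div_cancel' (Nat.ordProj_dvd _ _), pow_orderOf_eq_one])
    exact Odd.of_dvd_nat (Nat.odd_iff.mpr (Nat.two_dvd_ne_zero.mp
      (Nat.not_dvd_ordCompl Nat.prime_two (orderOf_pos n).ne'))) h1
  · by_contra hh
    push Not at hh
    refine hgD ?_
    have hg2 : g ∈ zpowers (g ^ 2 ^ a) := mem_zpowers_pow_of_coprime (hgc.pow_right a)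
    refine (zpowers_le.mpr ?_) hg2
    refine mem_centralizer_iff.mpr fun d hd => ?_
    have e := hnk (2 ^ a) d hd
    rw [hh d (mem_sup_right hd), mul_inv_cancel_right] at e
    exact eq_mul_inv_iff_mul_eq.mp e

omit hp in
theorem three_distinct {h q : G} (ho : Odd (orderOf h)) (hne : h * q ≠ q * h) :
    h * q * h⁻¹ ≠ q ∧ h ^ 2 * q * (h ^ 2)⁻¹ ≠ q ∧ h ^ 2 * q * (h ^ 2)⁻¹ ≠ h * q * h⁻¹ := by
  refine ⟨fun e => hne (mul_inv_eq_iff_eq_mul.mp e), fun e => hne ?_, fun e => hne ?_⟩
  · have h1 : Commute (h ^ 2) q := mul_inv_eq_iff_eq_mul.mp e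
    obtain ⟨i, hi⟩ := mem_zpowers_iff.mp
      (mem_zpowers_pow_of_coprime (g := h) (m := 2) (Nat.coprime_two_right.mpr ho))
    rw [← hi]; exact (h1.zpow_left i).eq
  · refine mul_inv_eq_iff_eq_mul.mp ((MulAut.conj h).injective ?_)
    simpa [sq, mul_assoc] using e

/-- The 2-classes are at most half the Sylow subgroup without a normal 2-complement. -/
theorem npc_of_twoClass (P₀ : Sylow 2 G)
    (hk : Nat.card (P₀ : Subgroup G) < 2 * Nat.card (PClass 2 G)) :
    Cfsg.HasNormalPComplement 2 G := by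
  classical
  haveI : Fact (Nat.Prime 2) := ⟨Nat.prime_two⟩
  by_contra hn
  obtain ⟨P, Q, h, hQP, hZQ, hhN, hodd, q₀, hq₀, hne₀⟩ := exists_moved hn
  have hPeq : Nat.card (P₀ : Subgroup G) = Nat.card (P : Subgroup G) := by
    rw [P₀.card_eq_multiplicity, P.card_eq_multiplicity]
  rw [hPeq] at hk
  haveI := Fintype.ofFinite (ConjClasses (P : Subgroup G))
  let f : ConjClasses (P : Subgroup G) → PClass 2 G :=
    Quotient.lift (pClassMk (P : Subgroup G) P.isPGroup') fun a b hab => by
      refine Subtype.ext (ConjClasses.mk_eq_mk_iff_isConj.mpr ?_)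
      obtain ⟨g, hg⟩ := isConj_iff.mp hab
      exact isConj_iff.mpr ⟨g, congrArg Subtype.val hg⟩
  have hfs : Function.Surjective f := fun c => by
    obtain ⟨x, hx⟩ := pClassMk_surjective P c
    exact ⟨Quotient.mk _ x, hx⟩
  set k := Nat.card (ConjClasses (P : Subgroup G)) with hk_def
  set z := Nat.card (center (P : Subgroup G)) with hz_def
  have hk2 : Nat.card (PClass 2 G) ≤ k := Nat.card_le_card_of_surjective f hfs
  have hmin : ∀ d : ℕ, d ∣ Nat.card (P : Subgroup G) → d ≠ 1 → 2 ≤ d := fun d hd h1 => by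
    have : d ≠ 0 := fun e => by subst e; exact Nat.card_pos.ne' (Nat.eq_zero_of_zero_dvd hd)
    omega
  have hkz : 2 * k ≤ Nat.card (P : Subgroup G) + z := by
    have := AutOrb.mul_card_classes_le hmin one_le_two Set.univ
      (Set.univ : Set (ConjClasses (P : Subgroup G))) fun _ _ => Set.subset_univ _
    rw [Nat.card_univ, Nat.card_univ] at this
    rw [show (2 : ℕ) - 1 = 1 from rfl, one_mul] at this
    exact this
  have hder : Nat.card (commutator (P : Subgroup G)) ≤ 2 := by
    have h1 := AutOrb.sq_mul_card_conjClasses_le hmin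
    rw [← hk_def] at h1
    have h2 := (commutator (P : Subgroup G)).card_mul_index
    by_contra h3
    push Not at h3
    have h4 := Nat.mul_le_mul_right (commutator (P : Subgroup G)).index h3
    omega
  have hsize : ∀ a b c : (P : Subgroup G), IsConj a b → IsConj a c → a = b ∨ a = c ∨ b = c := by
    intro a b c hb hc
    by_contra hh
    push Not at hh
    have hm : ∀ y, IsConj a y → y * a⁻¹ ∈ commutator (P : Subgroup G) := fun y hy => by
      obtain ⟨t, rfl⟩ := isConj_iff.mp hy
      exact commutator_mem_commutator (mem_top t) (mem_top a)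
    haveI := Fintype.ofFinite (commutator (P : Subgroup G))
    have h3 : 2 < Nat.card (commutator (P : Subgroup G)) := by
      rw [Nat.card_eq_fintype_card, ← Finset.card_univ]
      refine Finset.two_lt_card.mpr ⟨⟨_, hm a (IsConj.refl a)⟩, Finset.mem_univ _, ⟨_, hm b hb⟩,
        Finset.mem_univ _, ⟨_, hm c hc⟩, Finset.mem_univ _, ?_, ?_, ?_⟩
      · exact fun e => hh.1 (mul_right_cancel (congrArg Subtype.val e))
      · exact fun e => hh.2.1 (mul_right_cancel (congrArg Subtype.val e))
      · exact fun e => hh.2.2 (mul_right_cancel (congrArg Subtype.val e))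
    omega
  -- moved elements
  set Cq := Q ⊓ centralizer ({h} : Set G) with hCq
  have h4C : 4 * Nat.card Cq ≤ Nat.card Q := by
    have hQp : IsPGroup 2 Q := P.isPGroup'.to_le hQP
    set C' := Cq.subgroupOf Q with hC'
    obtain ⟨e, he⟩ := hQp.index C'
    have hC'card : Nat.card C' = Nat.card Cq :=
      Nat.card_congr (Subgroup.subgroupOfEquivOfLe inf_le_left).toEquiv
    have hcmi := C'.card_mul_index
    rw [hC'card, he] at hcmi
    rcases e with _ | _ | e
    · exfalso
      rw [pow_zero, index_eq_one] at he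
      have : (⟨q₀, hq₀⟩ : Q) ∈ C' := he ▸ mem_top _
      exact hne₀ (mem_centralizer_singleton_iff.mp this.2).symm
    · exfalso
      set u : G := q₀⁻¹ * (h * q₀ * h⁻¹) with hu
      have hq1 : h * q₀ * h⁻¹ ∈ Q := mem_conj_normalizer hhN hq₀
      have hnot : ∀ y (hy : y ∈ Q), h * y ≠ y * h → (⟨y, hy⟩ : Q) ∉ C' := fun y hy hne hm =>
        hne (mem_centralizer_singleton_iff.mp hm.2).symm
      have hne1 : h * (h * q₀ * h⁻¹) ≠ h * q₀ * h⁻¹ * h := fun e' => hne₀ (by
        rw [inv_mul_cancel_right] at e'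
        exact mul_inv_eq_iff_eq_mul.mp (mul_left_cancel e'))
      have hmem : ((⟨q₀, hq₀⟩ : Q)⁻¹ * ⟨_, hq1⟩) ∈ C' := by
        rw [Subgroup.mul_mem_iff_of_index_two he, inv_mem_iff]
        exact iff_of_false (hnot _ _ hne₀) (hnot _ _ hne1)
      have huc : Commute h u := (mem_centralizer_singleton_iff.mp hmem.2).symm
      have hiter : ∀ i : ℕ, h ^ i * q₀ * (h ^ i)⁻¹ = q₀ * u ^ i := by
        intro i
        induction i with
        | zero => simp
        | succ i ih =>
          calc h ^ (i + 1) * q₀ * (h ^ (i + 1))⁻¹ = h * (h ^ i * q₀ * (h ^ i)⁻¹) * h⁻¹ := by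
                rw [pow_succ']; group
            _ = h * q₀ * h⁻¹ * (h * u ^ i * h⁻¹) := by rw [ih]; group
            _ = q₀ * u * u ^ i := by rw [(huc.pow_right i).eq, mul_inv_cancel_right, hu]; group
            _ = _ := by rw [pow_succ']; group
      have h1 := hiter (orderOf h)
      rw [pow_orderOf_eq_one, one_mul, inv_one, mul_one, left_eq_mul] at h1
      obtain ⟨i, hi⟩ := hQp ((⟨q₀, hq₀⟩ : Q)⁻¹ * ⟨_, hq1⟩)
      have hu1 : u = 1 := orderOf_eq_one_iff.mp (Nat.eq_one_of_dvd_coprimes
        ((Nat.coprime_two_left.mpr hodd).pow_left i)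
        (orderOf_dvd_of_pow_eq_one (congrArg Subtype.val hi)) (orderOf_dvd_of_pow_eq_one h1))
      rw [hu, inv_mul_eq_one] at hu1
      exact hne₀ (mul_inv_eq_iff_eq_mul.mp hu1.symm)
    · rw [← hcmi, pow_succ, pow_succ]
      have := Nat.one_le_two_pow (n := e)
      nlinarith
  let mkP : Q → ConjClasses (P : Subgroup G) := fun q => ConjClasses.mk ⟨q, hQP q.2⟩
  let Mv : Finset Q := @Finset.filter Q (fun q => (q : G) ∉ Cq) (Classical.decPred _)
    (@Finset.univ Q (Fintype.ofFinite Q))
  let Cset : Set (ConjClasses (P : Subgroup G)) := {c | c ∉ Mv.image mkP}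
  set m := (Mv.image mkP).card with hm
  have hCset : Nat.card Cset + m = k := by
    rw [hk_def, hm, Nat.card_eq_fintype_card (α := Cset), Nat.card_eq_fintype_card, Fintype.card_subtype]
    rw [show ({x | x ∈ Cset} : Finset (ConjClasses (P : Subgroup G))) = Finset.univ \ Mv.image mkP from by
      ext x; simp [Cset]]
    exact Finset.card_sdiff_add_card_eq_card (Finset.subset_univ _)
  have hMv : Mv.card + Nat.card Cq = Nat.card Q := by
    letI := Fintype.ofFinite Q
    rw [Nat.card_eq_fintype_card (α := Q), ← Finset.card_univ,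
      ← Finset.card_filter_add_card_filter_not (s := Finset.univ) (fun q : Q => (q : G) ∉ Cq)]
    refine congrArg₂ (· + ·) (by congr 1; ext x; simp [Mv]) ?_
    rw [← Fintype.card_subtype, ← Nat.card_eq_fintype_card]
    exact (Nat.card_congr ⟨fun x => ⟨x.1, by simpa using x.2⟩,
      fun x => ⟨⟨x.1, x.2.1⟩, by simp [x.2]⟩, fun x => rfl, fun x => rfl⟩).symm
  have hMvmem : ∀ x : Q, x ∈ Mv ↔ (x : G) ∉ Cq := fun x => by simp [Mv]
  have hzQ : z ≤ Nat.card Q := by
    rw [hz_def, ← card_map_of_injective (f := (P : Subgroup G).subtype) Subtype.val_injective]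
    exact card_le_of_le hZQ
  by_cases hcen : ∀ q : Q, (⟨q, hQP q.2⟩ : (P : Subgroup G)) ∈ center (P : Subgroup G)
  · -- central classes are singletons
    have hinj : Function.Injective mkP := fun a b e => by
      obtain ⟨t, ht⟩ := isConj_iff.mp (ConjClasses.mk_eq_mk_iff_isConj.mp e)
      rw [mem_center_iff.mp (hcen a) t, mul_inv_cancel_right] at ht
      have h' := congrArg Subtype.val ht
      exact Subtype.ext h'
    have hmc : m = Mv.card := Finset.card_image_of_injective _ hinj
    have hb := card_le_frac f hfs Cset 3 (by norm_num) fun c hc => by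
      obtain ⟨x, hx, rfl⟩ := Finset.mem_image.mp (not_not.mp hc)
      have hne : h * (x : G) ≠ x * h := fun e => (hMvmem x).mp hx
        ⟨x.2, mem_centralizer_singleton_iff.mpr e.symm⟩
      obtain ⟨d1, d2, d3⟩ := three_distinct hodd hne
      have m1 : h * (x : G) * h⁻¹ ∈ Q := mem_conj_normalizer hhN x.2
      have m2 : h ^ 2 * (x : G) * (h ^ 2)⁻¹ ∈ Q := mem_conj_normalizer (pow_mem hhN 2) x.2
      have hne' : ∀ a b : Q, (a : G) ≠ b → mkP a ≠ mkP b := fun a b hab e =>
        hab (congrArg Subtype.val (hinj e))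
      have hconj : ∀ (t : G) (hy : t * (x : G) * t⁻¹ ∈ Q), f (mkP ⟨_, hy⟩) = f (mkP x) :=
        fun t hy => Subtype.ext (ConjClasses.mk_eq_mk_iff_isConj.mpr
          (isConj_iff.mpr ⟨t, rfl⟩).symm)
      refine ⟨{mkP x, mkP ⟨_, m1⟩, mkP ⟨_, m2⟩}, Finset.card_eq_three.mpr ⟨_, _, _,
        hne' _ _ (Ne.symm d1), hne' _ _ (Ne.symm d2), hne' _ _ (Ne.symm d3), rfl⟩, fun y hy => ?_⟩
      simp only [Finset.mem_insert, Finset.mem_singleton] at hy
      rcases hy with rfl | rfl | rfl
      · rfl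
      · exact hconj h m1
      · exact hconj (h ^ 2) m2
    omega
  · push Not at hcen
    obtain ⟨q₁, hq₁⟩ := hcen
    have hb := card_le_frac f hfs Cset 2 one_le_two fun c hc => by
      obtain ⟨x, hx, rfl⟩ := Finset.mem_image.mp (not_not.mp hc)
      have hne : h * (x : G) ≠ x * h := fun e => (hMvmem x).mp hx
        ⟨x.2, mem_centralizer_singleton_iff.mpr e.symm⟩
      obtain ⟨d1, d2, d3⟩ := three_distinct hodd hne
      have m1 : h * (x : G) * h⁻¹ ∈ Q := mem_conj_normalizer hhN x.2
      have m2 : h ^ 2 * (x : G) * (h ^ 2)⁻¹ ∈ Q := mem_conj_normalizer (pow_mem hhN 2) x.2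
      have hconj : ∀ (t : G) (hy : t * (x : G) * t⁻¹ ∈ Q), f (mkP ⟨_, hy⟩) = f (mkP x) :=
        fun t hy => Subtype.ext (ConjClasses.mk_eq_mk_iff_isConj.mpr
          (isConj_iff.mpr ⟨t, rfl⟩).symm)
      by_cases e1 : mkP ⟨_, m1⟩ = mkP x
      · refine ⟨{mkP x, mkP ⟨_, m2⟩}, Finset.card_pair fun e2 => ?_, fun y hy => ?_⟩
        · rcases hsize ⟨x, hQP x.2⟩ ⟨_, hQP m1⟩ ⟨_, hQP m2⟩
            (ConjClasses.mk_eq_mk_iff_isConj.mp e1).symm (ConjClasses.mk_eq_mk_iff_isConj.mp e2) with
            e | e | e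
          · exact d1 (congrArg Subtype.val e).symm
          · exact d2 (congrArg Subtype.val e).symm
          · exact d3 (congrArg Subtype.val e).symm
        · simp only [Finset.mem_insert, Finset.mem_singleton] at hy
          rcases hy with rfl | rfl
          · rfl
          · exact hconj (h ^ 2) m2
      · refine ⟨{mkP x, mkP ⟨_, m1⟩}, Finset.card_pair (Ne.symm e1), fun y hy => ?_⟩
        simp only [Finset.mem_insert, Finset.mem_singleton] at hy
        rcases hy with rfl | rfl
        · rfl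
        · exact hconj h m1
    -- fibres of the moved elements
    let Zm : Finset Q := Mv.filter fun x => (⟨x, hQP x.2⟩ : (P : Subgroup G)) ∈ center (P : Subgroup G)
    let Om : Finset Q := Mv.filter fun x => ¬ (⟨x, hQP x.2⟩ : (P : Subgroup G)) ∈ center (P : Subgroup G)
    have hsum : Zm.card + Om.card = Mv.card := Finset.card_filter_add_card_filter_not _
    have hcenconj : ∀ a b : Q, (⟨a, hQP a.2⟩ : (P : Subgroup G)) ∈ center (P : Subgroup G) →
        mkP a = mkP b → a = b := by
      intro a b ha e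
      obtain ⟨t, ht⟩ := isConj_iff.mp (ConjClasses.mk_eq_mk_iff_isConj.mp e)
      rw [mem_center_iff.mp ha t, mul_inv_cancel_right] at ht
      have h' := congrArg Subtype.val ht
      exact Subtype.ext h'
    have hZim : (Zm.image mkP).card = Zm.card := Finset.card_image_of_injOn fun a ha b _ e =>
      hcenconj a b (Finset.mem_filter.mp ha).2 e
    have hOim : Om.card ≤ 2 * (Om.image mkP).card := by
      refine Finset.card_le_mul_card_image Om 2 fun c hc => ?_
      by_contra hgt
      push Not at hgt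
      obtain ⟨a, ha, b, hb, d, hd, hab, had, hbd⟩ := Finset.two_lt_card.mp hgt
      simp only [Finset.mem_filter] at ha hb hd
      rcases hsize ⟨a, hQP a.2⟩ ⟨b, hQP b.2⟩ ⟨d, hQP d.2⟩
          (ConjClasses.mk_eq_mk_iff_isConj.mp (ha.2.trans hb.2.symm))
          (ConjClasses.mk_eq_mk_iff_isConj.mp (ha.2.trans hd.2.symm)) with e | e | e
      · exact hab (Subtype.ext (congrArg Subtype.val e :))
      · exact had (Subtype.ext (congrArg Subtype.val e :))
      · exact hbd (Subtype.ext (congrArg Subtype.val e :))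
    have himg : (Zm.image mkP).card + (Om.image mkP).card ≤ m := by
      rw [hm, ← Finset.card_union_of_disjoint]
      · exact Finset.card_le_card (Finset.union_subset
          (Finset.image_subset_image (Finset.filter_subset _ _))
          (Finset.image_subset_image (Finset.filter_subset _ _)))
      · rw [Finset.disjoint_left]
        intro c hc1 hc2
        obtain ⟨a, ha, rfl⟩ := Finset.mem_image.mp hc1
        obtain ⟨b, hb, e⟩ := Finset.mem_image.mp hc2
        exact (Finset.mem_filter.mp hb).2 (hcenconj a b (Finset.mem_filter.mp ha).2 e.symm ▸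
          (Finset.mem_filter.mp ha).2)
    set Zg := (center (P : Subgroup G)).map (P : Subgroup G).subtype with hZg
    have hZgc : Nat.card Zg = z := card_map_of_injective Subtype.val_injective
    have hZm : z ≤ Zm.card + Nat.card Cq := by
      rw [← hZgc]
      letI := Fintype.ofFinite Zg
      letI := Fintype.ofFinite Cq
      rw [Nat.card_eq_fintype_card, Nat.card_eq_fintype_card (α := Cq), ← Fintype.card_coe Zm,
        ← Fintype.card_sum]
      refine Fintype.card_le_of_injective (fun y => if hy : (y : G) ∈ Cq then Sum.inr ⟨y, hy⟩ else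
        Sum.inl ⟨⟨y, hZQ y.2⟩, Finset.mem_filter.mpr ⟨(hMvmem _).mpr hy, ?_⟩⟩) fun a b e => ?_
      · obtain ⟨w, hw, hwy⟩ := y.2
        exact (Subtype.ext hwy : w = (⟨(y : G), hQP (hZQ y.2)⟩ : (P : Subgroup G))) ▸ hw
      · simp only at e
        split_ifs at e
        all_goals simp only [Sum.inl.injEq, Sum.inr.injEq, Subtype.mk.injEq] at e
        all_goals exact Subtype.ext e
    have h2z : 2 * z ≤ Nat.card Q := by
      have hlt : Zg < Q := lt_of_le_of_ne hZQ fun e => hq₁ (by
        obtain ⟨w, hw, hwy⟩ := (e.symm ▸ q₁.2 : (q₁ : G) ∈ Zg)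
        exact (Subtype.ext hwy : w = (⟨(q₁ : G), hQP q₁.2⟩ : (P : Subgroup G))) ▸ hw)
      obtain ⟨t, ht⟩ := Subgroup.card_dvd_of_le hlt.le
      have h1 : Nat.card Zg < Nat.card Q := lt_of_le_of_ne (card_le_of_le hlt.le) fun e =>
        hlt.ne (eq_of_le_of_card_ge hlt.le e.ge)
      rw [hZgc] at ht h1
      rw [ht] at h1 ⊢
      have : 2 ≤ t := by
        by_contra h2
        interval_cases t <;> simp at h1
      nlinarith
    omega

omit hp in
/-- With a normal complement the classes of p-elements are those of the Sylow subgroup. -/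
theorem card_pClass_eq_classes [Fact p.Prime] (P : Sylow p G) (hN : Cfsg.HasNormalPComplement p G) :
    Nat.card (PClass p G) = Nat.card (ConjClasses (P : Subgroup G)) := by
  let f : ConjClasses (P : Subgroup G) → PClass p G :=
    Quotient.lift (pClassMk (P : Subgroup G) P.isPGroup') fun a b hab => by
      refine Subtype.ext (ConjClasses.mk_eq_mk_iff_isConj.mpr ?_)
      obtain ⟨g, hg⟩ := isConj_iff.mp hab
      exact isConj_iff.mpr ⟨g, congrArg Subtype.val hg⟩
  refine (Nat.card_eq_of_bijective f ⟨fun c d => ?_, fun c => ?_⟩).symm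
  · induction c using Quotient.inductionOn with
    | h a =>
    induction d using Quotient.inductionOn with
    | h b =>
    intro hab'
    obtain ⟨g, hg⟩ := isConj_iff.mp (ConjClasses.mk_eq_mk_iff_isConj.mp (congrArg Subtype.val hab'))
    obtain ⟨N, hNn, hd, k, hk⟩ := Transfer.hasNormalPComplement_iff_exists.mp hN
    have hc := Transfer.isComplement'_sylow P hd hk
    obtain ⟨m, hm, y, hy, rfl⟩ := Subgroup.mem_sup_of_normal_left.mp
      (hc.sup_eq_top ▸ Subgroup.mem_top g : g ∈ N ⊔ (P : Subgroup G))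
    refine Quotient.sound (isConj_iff.mpr ⟨⟨y, hy⟩, Subtype.ext ?_⟩)
    have hmem : (b : G) * (y * a * y⁻¹)⁻¹ ∈ N ⊓ (P : Subgroup G) := by
      refine ⟨?_, (P : Subgroup G).mul_mem b.2 ((P : Subgroup G).inv_mem
        ((P : Subgroup G).mul_mem ((P : Subgroup G).mul_mem hy a.2) ((P : Subgroup G).inv_mem hy)))⟩
      rw [← hg, show m * y * (a : G) * (m * y)⁻¹ * (y * a * y⁻¹)⁻¹ =
        m * ((y * a * y⁻¹) * m⁻¹ * (y * a * y⁻¹)⁻¹) by group]
      exact mul_mem hm (hNn.conj_mem _ (inv_mem hm) _)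
    rw [hc.disjoint.eq_bot, Subgroup.mem_bot, mul_inv_eq_one] at hmem
    exact hmem.symm
  · obtain ⟨x, hx⟩ := pClassMk_surjective P c
    exact ⟨Quotient.mk _ x, hx⟩

theorem two_iff (P : Sylow 2 G) :
    Nat.card (P : Subgroup G) < 2 * Nat.card (PClass 2 G) ↔
      Cfsg.HasNormalPComplement 2 G ∧
        Nat.card (P : Subgroup G) < 2 * Nat.card (ConjClasses (P : Subgroup G)) := by
  haveI : Fact (Nat.Prime 2) := ⟨Nat.prime_two⟩
  constructor
  · intro h
    refine ⟨npc_of_twoClass P h, ?_⟩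
    rwa [card_pClass_eq_classes P (npc_of_twoClass P h)] at h
  · rintro ⟨hN, h⟩
    rwa [card_pClass_eq_classes P hN]

omit hp in
/-- In a group of odd order, more classes than half the Sylow subgroup. -/
theorem key_of_odd [hr' : Fact p.Prime] (hG : Odd (Nat.card G)) (R : Sylow p G)
    (h : Nat.card (R : Subgroup G) < 2 * Nat.card (PClass p G)) :
    Cfsg.HasNormalPComplement p G ∧ IsMulCommutative (R : Subgroup G) := by
  classical
  have hr := hr'.out
  by_cases hpG : p ∣ Nat.card G
  swap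
  · refine ⟨Transfer.hasNormalPComplement_of_not_dvd_card hpG, ?_⟩
    have : (R : Subgroup G) = ⊥ := by
      by_contra e
      obtain ⟨k, hk⟩ := IsPGroup.iff_card.mp R.isPGroup'
      have hk0 : k ≠ 0 := fun e' => e (card_eq_one.mp (by rw [hk, e', pow_zero]))
      exact hpG ((dvd_pow_self p hk0).trans (hk ▸ (R : Subgroup G).card_subgroup_dvd_card))
    rw [this]
    exact ⟨⟨fun a b => Subsingleton.elim _ _⟩⟩
  have hr2 : p ≠ 2 := fun e => by
    subst e
    exact (Nat.not_even_iff_odd.mpr hG) (even_iff_two_dvd.mpr hpG)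
  have h3 : 3 ≤ p := by have := hr.two_le; omega
  have hab : IsMulCommutative (R : Subgroup G) := by
    by_contra hnc
    set Q := (R : Subgroup G) with hQ
    have hle : Nat.card (PClass p G) ≤ Nat.card (ConjClasses Q) := by
      refine Nat.card_le_card_of_surjective
        (Quotient.lift (pClassMk Q R.isPGroup') fun a b hab => ?_) ?_
      · refine Subtype.ext (ConjClasses.mk_eq_mk_iff_isConj.mpr ?_)
        obtain ⟨g, hg⟩ := isConj_iff.mp hab
        exact isConj_iff.mpr ⟨g, congrArg Subtype.val hg⟩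
      · intro c
        obtain ⟨x, hx⟩ := pClassMk_surjective R c
        exact ⟨Quotient.mk _ x, hx⟩
    have hmin : ∀ d : ℕ, d ∣ Nat.card Q → d ≠ 1 → p ≤ d := fun d hd h1 => by
      obtain ⟨k, hk⟩ := IsPGroup.iff_card.mp R.isPGroup'
      rw [hQ, hk] at hd
      obtain ⟨i, -, rfl⟩ := (Nat.dvd_prime_pow hr).mp hd
      exact Nat.le_self_pow (fun e => h1 (by rw [e, pow_zero])) p
    have hcl := AutOrb.mul_card_classes_le hmin hr.one_lt.le Set.univ
      (Set.univ : Set (ConjClasses Q)) fun _ _ => Set.subset_univ _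
    rw [Nat.card_univ, Nat.card_univ] at hcl
    have hz : p ^ 2 * Nat.card (center Q) ≤ Nat.card Q := by
      obtain ⟨k, hk⟩ := R.isPGroup'.index (center Q)
      rw [← (center Q).card_mul_index, hk, mul_comm]
      refine Nat.mul_le_mul_left _ (Nat.pow_le_pow_right hr.pos ?_)
      by_contra hk2
      apply hnc
      haveI : IsCyclic (Q ⧸ center Q) := by
        interval_cases k
        · haveI : Subsingleton (Q ⧸ center Q) :=
            (Nat.card_eq_one_iff_unique.mp (by rw [← index, hk, pow_zero])).1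
          exact isCyclic_of_subsingleton
        · haveI : Fact (Nat.card (Q ⧸ center Q)).Prime := ⟨by rw [← index, hk, pow_one]; exact hr⟩
          exact isCyclic_of_prime_card (p := Nat.card (Q ⧸ center Q)) rfl
      exact MonoidHom.isMulCommutative_of_isCyclic_of_ker_le_center (QuotientGroup.mk' (center Q))
        (by rw [QuotientGroup.ker_mk'])
    have h5 : (p - 1) * Nat.card (center Q) * p ≤ Nat.card Q := by
      refine le_trans ?_ hz
      rw [sq]
      have : p - 1 ≤ p := Nat.sub_le _ _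
      nlinarith [Nat.mul_le_mul_right (Nat.card (center Q) * p) this]
    have h6 : p * (p * Nat.card (ConjClasses Q)) ≤ p * Nat.card Q + Nat.card Q := by
      have := Nat.mul_le_mul_left p hcl
      rw [mul_add] at this
      linarith
    have h7 : 2 * (p * (p * Nat.card (ConjClasses Q))) ≤ p * p * Nat.card Q := by
      have : 2 * (p * Nat.card Q + Nat.card Q) ≤ p * p * Nat.card Q := by
        have h0 : 2 * p + 2 ≤ p * p := by nlinarith
        have := Nat.mul_le_mul_right (Nat.card Q) h0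
        linarith
      linarith
    have h8 : p * p * (2 * Nat.card (ConjClasses Q)) ≤ p * p * Nat.card Q := by linarith
    have h9 := Nat.le_of_mul_le_mul_left h8 (Nat.mul_pos hr.pos hr.pos)
    omega
  refine ⟨?_, hab⟩
  refine Transfer.hasNormalPComplement_of_control R fun x hx y hy ⟨g, hg⟩ => ⟨1, one_mem _, ?_⟩
  subst hg
  obtain ⟨n, hn, hnx⟩ := Transfer.exists_normalizer_conj_of_abelian R hab hx hy
  rw [one_mul, inv_one, mul_one, ← hnx]
  by_contra hne
  set Q := (R : Subgroup G)
  set e := (orderOf n).factorization p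
  obtain ⟨a, b, haz, hbz, ha, hb, hnab⟩ := exists_pow_decomp (g := n) (m := p ^ e)
    (n := orderOf n / p ^ e) ((Nat.coprime_ordCompl hr (orderOf_pos n).ne').pow_left e)
    (by rw [Nat.mul_div_cancel' (Nat.ordProj_dvd _ _), pow_orderOf_eq_one])
  have haN : a ∈ normalizer (Q : Set G) := (zpowers_le.mpr hn) haz
  have hbN : b ∈ normalizer (Q : Set G) := (zpowers_le.mpr hn) hbz
  have haQ : a ∈ Q := by
    have hap : IsPGroup p (zpowers a) := by
      obtain ⟨i, -, hi⟩ := (Nat.dvd_prime_pow hr).mp (orderOf_dvd_of_pow_eq_one ha)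
      exact IsPGroup.of_card (n := i) (by rw [Nat.card_zpowers, hi])
    have hs : IsPGroup p ↥(zpowers a ⊔ Q) :=
      hap.to_sup_of_normal_right' R.isPGroup' (zpowers_le.mpr haN)
    exact (R.3 hs le_sup_right).le (mem_sup_left (mem_zpowers a))
  have hbx : b * x ≠ x * b := fun e' => hne (by
    have ha' : Commute a x := congrArg Subtype.val (hab.is_comm.comm ⟨a, haQ⟩ ⟨x, hx⟩)
    rw [hnab]
    exact (eq_mul_inv_iff_mul_eq.mpr (ha'.mul_left e').eq.symm))
  have hbord : (orderOf b).Coprime p := Nat.Coprime.coprime_dvd_left (orderOf_dvd_of_pow_eq_one hb)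
    (Nat.coprime_ordCompl hr (orderOf_pos n).ne').symm
  have hbodd : Odd (orderOf b) := Odd.of_dvd_nat hG (orderOf_dvd_natCard b)
  set C := (centralizer ({b} : Set G)).subgroupOf Q with hC
  have hCle : p * Nat.card C ≤ Nat.card Q := by
    obtain ⟨k, hk⟩ := R.isPGroup'.index C
    rw [← C.card_mul_index, hk]
    rcases k with _ | k
    · exfalso
      rw [pow_zero, Subgroup.index_eq_one, Subgroup.subgroupOf_eq_top] at hk
      exact hbx (mem_centralizer_singleton_iff.mp (hk hx)).symm
    · rw [pow_succ]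
      refine le_trans (Nat.le_mul_of_pos_right _ (pow_pos hr.pos k : 0 < p ^ k)) (le_of_eq ?_)
      ring
  set j := if p = 3 then 5 else 3 with hj
  have hfree : ∀ i, 0 < i → i < j → ∀ w : G, Commute (b ^ i) w → Commute b w := by
    intro i hi0 hij w hc
    have hcop : (orderOf b).Coprime i := by
      have h2 : (orderOf b).Coprime 2 := Nat.coprime_two_right.mpr hbodd
      rw [hj] at hij
      split_ifs at hij with hp3
      · subst hp3
        interval_cases i
        · exact Nat.coprime_one_right _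
        · exact h2
        · exact hbord
        · exact h2.pow_right 2
      · interval_cases i
        · exact Nat.coprime_one_right _
        · exact h2
    obtain ⟨t, ht⟩ := mem_zpowers_iff.mp (mem_zpowers_pow_of_coprime hcop)
    rw [← ht]; exact hc.zpow_left t
  have hj1 : 1 ≤ j := by rw [hj]; split_ifs <;> omega
  have hbound := card_le_frac (pClassMk Q R.isPGroup') (pClassMk_surjective R) (C : Set Q) j hj1 (by
    intro w hw
    have hwb : ¬ Commute b (w : G) := fun hc =>
      hw (mem_centralizer_singleton_iff.mpr hc.eq.symm)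
    let F : Fin j → Q := fun i => ⟨b ^ (i : ℕ) * w * (b ^ (i : ℕ))⁻¹,
      mem_conj_normalizer (pow_mem hbN _) w.2⟩
    have key : ∀ i i' : Fin j, i < i' → F i ≠ F i' := by
      intro i i' hlt e'
      refine hwb (hfree ((i' : ℕ) - i) (by omega) (by omega) _ ?_)
      have e1 : b ^ (i : ℕ) * (w : G) * (b ^ (i : ℕ))⁻¹ = b ^ (i' : ℕ) * w * (b ^ (i' : ℕ))⁻¹ :=
        congrArg Subtype.val e'
      rw [show (i' : ℕ) = i + ((i' : ℕ) - i) by omega, pow_add] at e1
      set s := b ^ ((i' : ℕ) - i)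
      set t := b ^ (i : ℕ)
      have e2 : (w : G) = s * w * s⁻¹ := by
        have := congrArg (fun v => t⁻¹ * v * t) e1
        simpa [mul_assoc] using this
      exact (eq_mul_inv_iff_mul_eq.mp e2).symm
    have hinj : Function.Injective F := fun i i' e' => by
      by_contra h'
      rcases lt_or_gt_of_ne h' with hlt | hlt
      · exact key i i' hlt e'
      · exact key i' i hlt e'.symm
    refine ⟨Finset.univ.image F, by rw [Finset.card_image_of_injective _ hinj, Finset.card_univ,
      Fintype.card_fin], fun v hv => ?_⟩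
    obtain ⟨i, -, rfl⟩ := Finset.mem_image.mp hv
    exact Subtype.ext (ConjClasses.mk_eq_mk_iff_isConj.mpr
      (isConj_iff.mpr ⟨b ^ (i : ℕ), rfl⟩).symm))
  have h3' : Nat.card (C : Set Q) = Nat.card C := rfl
  rw [h3', hj] at hbound
  split_ifs at hbound with hp3
  · subst hp3; omega
  · have : 5 * Nat.card C ≤ Nat.card Q := by
      refine le_trans (Nat.mul_le_mul_right _ ?_) hCle
      have : p ≠ 4 := fun e' => by subst e'; exact absurd hr (by decide)
      omega
    omega

omit hp in
/-- Classes of a centralizer of a 2-element embed into the classes of the normal 2-complement. -/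
theorem card_centralizer_le (π₁ : Finset ℕ) (hπ : ∀ r ∈ π₁, r.Prime) (h2 : 2 ∉ π₁)
    (hN : Cfsg.HasNormalPComplement 2 G) {x : G} (hx : ∃ k, orderOf x = 2 ^ k) :
    Nat.card (PiClass π₁ (centralizer ({x} : Set G))) ≤ Nat.card (PiClass π₁ (Cfsg.pResidual 2 G)) := by
  classical
  haveI : Fact (Nat.Prime 2) := ⟨Nat.prime_two⟩
  set K := Cfsg.pResidual 2 G with hK
  choose r hr using fun c : PiClass π₁ (centralizer ({x} : Set G)) => ConjClasses.exists_rep c.1
  have hord : ∀ c, ∀ t : ℕ, t.Prime → t ∣ orderOf (r c : G) → t ∈ π₁ := fun c t ht htd => by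
    rw [Subgroup.orderOf_coe] at htd
    exact c.2 (r c) (by rw [ConjClasses.mem_carrier_iff_mk_eq]; exact hr c) t ht htd
  have hrK : ∀ c, (r c : G) ∈ K := fun c => Transfer.mem_pResidual_of_coprime (by
    refine Nat.coprime_of_dvd fun t ht htd ht2 => h2 ?_
    rw [← (Nat.prime_dvd_prime_iff_eq ht Nat.prime_two).mp ht2]
    exact hord c t ht htd)
  refine Nat.card_le_card_of_injective (fun c => (⟨ConjClasses.mk ⟨r c, hrK c⟩, fun v hv t ht htd => by
    rw [orderOf_of_mem_carrier hv, Subgroup.orderOf_mk] at htd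
    exact hord c t ht htd⟩ : PiClass π₁ K)) fun c d e => ?_
  obtain ⟨k, hk⟩ := isConj_iff.mp (ConjClasses.mk_eq_mk_iff_isConj.mp (congrArg Subtype.val e))
  have hk' : (k : G) * r c * (k : G)⁻¹ = r d := congrArg Subtype.val hk
  have hcx : ∀ c, x * (r c : G) = r c * x := fun c =>
    (mem_centralizer_singleton_iff.mp (r c).2).symm
  set A := zpowers x
  set N := K ⊓ centralizer ({(r c : G)} : Set G) with hN_def
  have hAK : A ≤ normalizer (K : Set G) := by rw [normalizer_eq_top]; exact le_top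
  have hAN : A ≤ normalizer (N : Set G) := zpowers_le.mpr (mem_normalizer_iff.mpr fun v => and_congr
    (mem_normalizer_iff.mp (hAK (mem_zpowers x)) v) (by
      show v ∈ centralizer ({(r c : G)} : Set G) ↔ x * v * x⁻¹ ∈ centralizer ({(r c : G)} : Set G)
      rw [mem_centralizer_singleton_iff, mem_centralizer_singleton_iff]
      constructor
      · intro e'
        exact (((show Commute x (r c : G) from hcx c).mul_left e').mul_left
          (show Commute x (r c : G) from hcx c).inv_left).eq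
      · intro e'
        have h1 := (((show Commute x (r c : G) from hcx c).inv_left.mul_left e').mul_left
          (show Commute x (r c : G) from hcx c)).eq
        rwa [show x⁻¹ * (x * v * x⁻¹) * x = v by group] at h1))
  obtain ⟨i, hi⟩ := hx
  have hcopK : ∀ S : Subgroup G, S ≤ K → (Nat.card S).Coprime (Nat.card A) := fun S hS => by
    rw [Nat.card_zpowers, hi]
    refine (Nat.Coprime.symm ?_).pow_right i
    rw [Nat.prime_two.coprime_iff_not_dvd]
    exact fun hd => Transfer.hasNormalPComplement_iff_not_dvd.mp hN (hd.trans (card_dvd_of_le hS))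
  have hinf : A ⊓ K = ⊥ := inf_eq_bot_of_coprime ((hcopK K le_rfl).symm)
  have hkc : (k : G)⁻¹ * (x * k * x⁻¹) ∈ N := by
    refine ⟨K.mul_mem (K.inv_mem k.2) (mem_conj_normalizer (hAK (mem_zpowers x)) k.2), ?_⟩
    refine mem_centralizer_singleton_iff.mpr (mul_inv_eq_iff_eq_mul.mp ?_)
    calc (k : G)⁻¹ * (x * k * x⁻¹) * r c * ((k : G)⁻¹ * (x * k * x⁻¹))⁻¹
        = (k : G)⁻¹ * (x * ((k : G) * (x⁻¹ * r c * x) * (k : G)⁻¹) * x⁻¹) * k := by group
      _ = r c := by
        rw [mul_assoc x⁻¹, ← hcx c, inv_mul_cancel_left, hk', hcx d, mul_inv_cancel_right, ← hk']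
        group
  have hle : MulAut.conj (k : G)⁻¹ • A ≤ N ⊔ A := by
    rw [← map_conj_eq_smul, MonoidHom.map_zpowers, zpowers_le]
    have : (k : G)⁻¹ * x * k = ((k : G)⁻¹ * (x * k * x⁻¹)) * x := by group
    show (k : G)⁻¹ * x * ((k : G)⁻¹)⁻¹ ∈ N ⊔ A
    rw [inv_inv, this]
    exact Subgroup.mul_mem_sup hkc (mem_zpowers x)
  obtain ⟨n, hn, hn'⟩ := exists_conj_of_le_sup hAN hle (card_conj_smul _ _) (hcopK N inf_le_left)
    (Or.inr inferInstance)
  have hkn : (k : G) * n ∈ centralizer (A : Set G) := by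
    refine mem_centralizer_of_normalizes hAK hinf (K.mul_mem k.2 hn.1)
      (mem_normalizer_iff_smul.mpr ?_)
    rw [← conj_smul_conj_smul, hn', conj_smul_conj_smul, mul_inv_cancel, map_one, one_smul]
  have hknx : (k : G) * n ∈ centralizer ({x} : Set G) :=
    mem_centralizer_singleton_iff.mpr (mem_centralizer_iff.mp hkn x (mem_zpowers x)).symm
  refine Subtype.ext ?_
  rw [← hr c, ← hr d]
  refine ConjClasses.mk_eq_mk_iff_isConj.mpr (isConj_iff.mpr ⟨⟨_, hknx⟩, Subtype.ext ?_⟩)
  show (k : G) * n * r c * ((k : G) * n)⁻¹ = r d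
  calc (k : G) * n * r c * ((k : G) * n)⁻¹ = (k : G) * (n * r c * n⁻¹) * (k : G)⁻¹ := by group
    _ = r d := by rw [mem_centralizer_singleton_iff.mp hn.2, mul_inv_cancel_right, hk']

omit hp in
theorem pi_main (π : Finset ℕ) (hπ : ∀ r ∈ π, r.Prime) (h2 : 2 ∈ π)
    (hk : π.prod (fun r => r ^ (Nat.card G).factorization r) < 2 * Nat.card (PiClass π G)) :
    (∃ N : Subgroup G, N.Normal ∧ (∀ r : ℕ, r.Prime → r ∣ Nat.card N → r ∉ π) ∧
      ∀ r : ℕ, r.Prime → r ∣ N.index → r ∈ π) ∧
    ∃ H : Subgroup G, Cfsg.IsPiHall ((↑π : Set ℕ) \ {2}) H ∧ IsMulCommutative H := by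
  classical
  haveI : Fact (Nat.Prime 2) := ⟨Nat.prime_two⟩
  set π₁ := π.erase 2 with hπ₁
  have hπ₁p : ∀ r ∈ π₁, r.Prime := fun r hr => hπ r (Finset.mem_of_mem_erase hr)
  obtain ⟨P⟩ : Nonempty (Sylow 2 G) := inferInstance
  set m := π₁.prod fun r => r ^ (Nat.card G).factorization r
  rw [← Finset.mul_prod_erase π _ h2, ← P.card_eq_multiplicity] at hk
  replace hk : Nat.card (P : Subgroup G) * m < 2 * Nat.card (PiClass π G) := hk
  have hnpc : Cfsg.HasNormalPComplement 2 G := by
    refine npc_of_twoClass P ?_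
    have h1 := card_piClass_le_mul (G := G) π h2 m fun H =>
      (card_piClass_le _ hπ₁p H).trans (Finset.prod_le_prod' fun r hr =>
        Nat.pow_le_pow_right (hπ₁p r hr).pos
          ((Nat.factorization_le_iff_dvd Nat.card_pos.ne' Nat.card_pos.ne').mpr
            H.card_subgroup_dvd_card r))
    refine Nat.lt_of_mul_lt_mul_right (a := m) ?_
    rw [mul_assoc]
    exact hk.trans_le (Nat.mul_le_mul_left 2 h1)
  set K := Cfsg.pResidual 2 G with hK
  have hK2 : ¬ 2 ∣ Nat.card K := Transfer.hasNormalPComplement_iff_not_dvd.mp hnpc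
  obtain ⟨s, hs⟩ := Transfer.exists_pResidual_index (G := G) 2
  have hfac : ∀ r ∈ π₁, (Nat.card K).factorization r = (Nat.card G).factorization r := by
    intro r hr
    rw [← K.card_mul_index, hs, Nat.factorization_mul Nat.card_pos.ne' (pow_ne_zero _ two_ne_zero),
      Finsupp.add_apply, Nat.Prime.factorization_pow Nat.prime_two,
      Finsupp.single_eq_of_ne (Finset.ne_of_mem_erase hr), add_zero]
  have hKk : m < 2 * Nat.card (PiClass π₁ K) := by
    have h1 := card_piClass_le_mul_centralizers (G := G) π h2 _ fun x hx =>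
      card_centralizer_le π₁ hπ₁p (Finset.notMem_erase 2 π) hnpc hx
    refine Nat.lt_of_mul_lt_mul_left (a := Nat.card (P : Subgroup G)) ?_
    calc Nat.card (P : Subgroup G) * m < 2 * Nat.card (PiClass π G) := hk
      _ ≤ 2 * (Nat.card (PClass 2 G) * Nat.card (PiClass π₁ K)) := Nat.mul_le_mul_left 2 h1
      _ ≤ 2 * (Nat.card (P : Subgroup G) * Nat.card (PiClass π₁ K)) :=
        Nat.mul_le_mul_left 2 (Nat.mul_le_mul_right _ (card_pClass_le P))
      _ = _ := by ring
  have key : ∀ r ∈ π₁, ∀ [Fact r.Prime], ∀ R : Sylow r K,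
      Cfsg.HasNormalPComplement r K ∧ IsMulCommutative (R : Subgroup K) := by
    intro r hr _ R
    refine key_of_odd (Nat.odd_iff.mpr (Nat.two_dvd_ne_zero.mp hK2)) R ?_
    set m' := (π₁.erase r).prod fun t => t ^ (Nat.card K).factorization t
    have h1 := card_piClass_le_mul (G := K) π₁ hr m' fun H =>
      (card_piClass_le _ (fun t ht => hπ₁p t (Finset.mem_of_mem_erase ht)) H).trans
        (Finset.prod_le_prod' fun t ht => Nat.pow_le_pow_right (hπ₁p t (Finset.mem_of_mem_erase ht)).pos
          ((Nat.factorization_le_iff_dvd Nat.card_pos.ne' Nat.card_pos.ne').mpr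
            H.card_subgroup_dvd_card t))
    have hm : m = Nat.card (R : Subgroup K) * m' := by
      rw [R.card_eq_multiplicity, Finset.mul_prod_erase π₁ (fun t => t ^ (Nat.card K).factorization t) hr]
      exact Finset.prod_congr rfl fun t ht => by rw [hfac t ht]
    refine Nat.lt_of_mul_lt_mul_right (a := m') ?_
    rw [← hm, mul_assoc]
    exact hKk.trans_le (Nat.mul_le_mul_left 2 h1)
  obtain ⟨⟨N, hNn, hN1, hN2⟩, H, hH, hHc⟩ := pi_complement_of_key π₁ hπ₁p key
  have hNK : N.map K.subtype ≤ K := map_subtype_le _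
  have hNidx : (N.map K.subtype).index = N.index * K.index := index_map_subtype N
  have hNcard : Nat.card (N.map K.subtype) = Nat.card N :=
    card_map_of_injective Subtype.val_injective
  have hπiff : ∀ t : ℕ, t ∈ (↑π : Set ℕ) \ {2} ↔ t ∈ π₁ := fun t => by
    simp [hπ₁, and_comm]
  refine ⟨⟨N.map K.subtype, ?_, fun t ht htd htπ => ?_, fun t ht htd => ?_⟩,
    ⟨H.map K.subtype, ⟨fun t ht htd => ?_, fun t ht htπ htd => ?_⟩, ?_⟩⟩
  · refine ⟨fun v hv g => ?_⟩
    obtain ⟨⟨w, hwK⟩, hw, rfl⟩ := hv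
    have hgw : g * w * g⁻¹ ∈ K := (inferInstance : K.Normal).conj_mem w hwK g
    refine ⟨⟨g * w * g⁻¹, hgw⟩, ?_, rfl⟩
    refine (QuotientGroup.eq_one_iff _).mp (orderOf_eq_one_iff.mp ?_)
    have h1 : orderOf (QuotientGroup.mk (s := N) (⟨g * w * g⁻¹, hgw⟩ : K)) ∣ orderOf w := by
      refine (orderOf_map_dvd (QuotientGroup.mk' N) _).trans (dvd_of_eq ?_)
      rw [Subgroup.orderOf_mk]
      exact orderOf_injective (MulAut.conj g).toMonoidHom (MulAut.conj g).injective w
    have h2 : orderOf (QuotientGroup.mk (s := N) (⟨g * w * g⁻¹, hgw⟩ : K)) ∣ N.index := by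
      rw [Subgroup.index]; exact orderOf_dvd_natCard _
    refine Nat.eq_one_of_dvd_coprimes (Nat.coprime_of_dvd fun t ht t1 t2 => ?_) h1 h2
    refine hN1 t ht (t1.trans ?_) (hN2 t ht t2)
    rw [← Subgroup.orderOf_mk w hwK]
    have := orderOf_dvd_natCard (⟨⟨w, hwK⟩, hw⟩ : N)
    rwa [Subgroup.orderOf_mk] at this
  · rw [hNcard] at htd
    refine hN1 t ht htd (Finset.mem_erase.mpr ⟨fun e => hK2 ?_, htπ⟩)
    exact (e ▸ htd).trans N.card_subgroup_dvd_card
  · rw [hNidx] at htd
    rcases (Nat.Prime.dvd_mul ht).mp htd with h' | h'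
    · exact Finset.mem_of_mem_erase (hN2 t ht h')
    · rw [hs] at h'
      rw [(Nat.prime_dvd_prime_iff_eq ht Nat.prime_two).mp (ht.dvd_of_dvd_pow h')]
      exact h2
  · rw [card_map_of_injective Subtype.val_injective] at htd
    exact (hπiff t).mpr (hH.1 t ht htd)
  · rw [index_map_subtype H] at htd
    rcases (Nat.Prime.dvd_mul ht).mp htd with h' | h'
    · exact hH.2 t ht ((hπiff t).mp htπ) h'
    · rw [hs] at h'
      exact Finset.ne_of_mem_erase ((hπiff t).mp htπ)
        ((Nat.prime_dvd_prime_iff_eq ht Nat.prime_two).mp (ht.dvd_of_dvd_pow h'))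
  · exact map_isMulCommutative H _

end Cfsg.Agent.Grp.TwoCount
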