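import Mathlib
import Cfsg.Prelude.Def_SolvableStructure
import Cfsg.Agent.Lib.Grp.Hall
import Cfsg.Agent.Lib.Grp.HallConverse

/-!
Hall complement systems of solvable groups: existence, conjugacy, images in quotients, system normalizers.
-/

namespace Cfsg.Agent.Grp.HallSys

open scoped Pointwise
open Cfsg

universe u

variable {G : Type u} [Group G] [Finite G]

theorem mem_of_coprime_relIndex {Q L : Subgroup G} (hn : L ≤ Subgroup.normalizer (Q : Set G))
    {x : G} (hx : x ∈ L) (h : (orderOf x).Coprime (Q.relIndex L)) : x ∈ Q := by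
  haveI := Subgroup.normal_subgroupOf_of_le_normalizer (H := L) (N := Q) hn
  have h1 : Subgroup.zpowers (⟨x, hx⟩ : L) ≤ Q.subgroupOf L :=
    le_of_coprime_index (by rwa [Nat.card_zpowers, Subgroup.orderOf_mk])
  exact h1 (Subgroup.mem_zpowers _)

theorem factorization_card_add (H : Subgroup G) (p : ℕ) :
    (Nat.card H).factorization p + H.index.factorization p = (Nat.card G).factorization p := by
  conv_rhs => rw [← H.card_mul_index]
  rw [Nat.factorization_mul Nat.card_pos.ne' H.index_ne_zero_of_finite, Finsupp.add_apply]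

theorem coprime_card_of_index_eq {H : Subgroup G} {p : ℕ} (hp : p.Prime)
    (h : H.index = p ^ (Nat.card G).factorization p) : (Nat.card H).Coprime p := by
  refine (hp.coprime_iff_not_dvd.mpr fun hd => ?_).symm
  have h1 := factorization_card_add H p
  rw [h, hp.factorization_pow, Finsupp.single_eq_same] at h1
  have := hp.factorization_pos_of_dvd Nat.card_pos.ne' hd
  omega

theorem index_eq_of_dvd_pow {H : Subgroup G} {p k : ℕ} (hp : p.Prime) (hc : (Nat.card H).Coprime p)
    (hi : H.index ∣ p ^ k) : H.index = p ^ (Nat.card G).factorization p := by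
  obtain ⟨l, -, hl⟩ := (Nat.dvd_prime_pow hp).mp hi
  have h1 := factorization_card_add H p
  rw [hl, hp.factorization_pow, Finsupp.single_eq_same,
    Nat.factorization_eq_zero_of_not_dvd (hp.coprime_iff_not_dvd.mp hc.symm), zero_add] at h1
  rw [hl, h1]

theorem exists_complement [Group.IsSolvable G] (p : Nat.Primes) :
    ∃ H : Subgroup G, H.index = (p : ℕ) ^ (Nat.card G).factorization p := by
  set v := (Nat.card G).factorization p
  have hG : Nat.card G = Nat.card G / (p : ℕ) ^ v * (p : ℕ) ^ v :=
    (Nat.div_mul_cancel (Nat.ordProj_dvd _ _)).symm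
  obtain ⟨H, hH⟩ := exists_hall hG ((Nat.coprime_ordCompl p.2 Nat.card_pos.ne').symm.pow_right v)
  exact ⟨H, index_eq_of_dvd_pow p.2 (hH ▸ (Nat.coprime_ordCompl p.2 Nat.card_pos.ne').symm) (k := v) (by
    have h1 := H.card_mul_index
    rw [hH] at h1
    exact (Nat.eq_of_mul_eq_mul_left (Nat.div_pos (Nat.le_of_dvd Nat.card_pos (Nat.ordProj_dvd _ _))
      (pow_pos p.2.pos v)) (h1.trans hG)).dvd)⟩

theorem exists_system [Group.IsSolvable G] : ∃ K : Nat.Primes → Subgroup G, IsComplementSystem K := by
  choose K hK using exists_complement (G := G)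
  exact ⟨K, hK⟩

section system

variable {K : Nat.Primes → Subgroup G} (hK : IsComplementSystem K)
include hK

theorem coprime (p : Nat.Primes) : (Nat.card (K p)).Coprime p := coprime_card_of_index_eq p.2 (hK p)

theorem eq_top_of_not_dvd {p : Nat.Primes} (h : ¬ (p : ℕ) ∣ Nat.card G) : K p = ⊤ := by
  rw [← Subgroup.index_eq_one, hK p, Nat.factorization_eq_zero_of_not_dvd h, pow_zero]

theorem mem_of_normalizing {p : Nat.Primes} {x : G} (hx : x ∈ Subgroup.normalizer (K p : Set G))
    (h : (orderOf x).Coprime p) : x ∈ K p :=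
  mem_of_coprime_relIndex le_rfl hx
    ((Nat.Coprime.pow_right _ h).coprime_dvd_right (by
      rw [← hK p]; exact Dvd.intro _ (Subgroup.relIndex_mul_index Subgroup.le_normalizer)))

theorem relIndex_dvd (N : Subgroup G) [N.Normal] (p : Nat.Primes) :
    (K p).relIndex N ∣ (p : ℕ) ^ (Nat.card G).factorization p := by
  have h1 := card_sup_mul_card_inf_normal (H := K p) (N := N)
  have h2 := relIndex_mul_card_inf N (K p)
  rw [inf_comm] at h2
  rw [← h2, mul_comm (Nat.card ↥(K p ⊓ N)), ← mul_assoc] at h1
  have h3 := Nat.eq_of_mul_eq_mul_right Nat.card_pos h1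
  have h4 := Subgroup.card_subgroup_dvd_card (K p ⊔ N)
  rw [h3, ← (K p).card_mul_index, hK p] at h4
  exact Nat.dvd_of_mul_dvd_mul_left Nat.card_pos h4

/-- Normal subgroups of order prime to `p` lie in every `p`-complement. -/
theorem le_of_coprime {N : Subgroup G} [N.Normal] {p : Nat.Primes} (h : (Nat.card N).Coprime p) :
    N ≤ K p := by
  rw [← Subgroup.relIndex_eq_one]
  exact Nat.eq_one_of_dvd_coprimes (Nat.Coprime.pow_right _ h) (Subgroup.relIndex_dvd_card _ _)
    (relIndex_dvd hK N p)

theorem map (N : Subgroup G) [N.Normal] :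
    IsComplementSystem fun p => (K p).map (QuotientGroup.mk' N) := fun p =>
  index_eq_of_dvd_pow p.2 ((coprime hK p).coprime_dvd_left (Subgroup.card_map_dvd _ _))
    (by rw [← hK p]; exact Subgroup.index_map_dvd _ (QuotientGroup.mk'_surjective N))

/-- Simultaneous conjugation by elements of a normal subgroup. -/
theorem exists_conj_simul (N : Subgroup G) [N.Normal] (L : Nat.Primes → Subgroup G) (hL : IsComplementSystem L)
    (h : ∀ p : Nat.Primes, ∃ n ∈ N, MulAut.conj n • K p = L p) :
    ∃ n ∈ N, ∀ p, MulAut.conj n • K p = L p := by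
  classical
  have key : ∀ F : Finset Nat.Primes, ∃ n ∈ N, ∀ p ∈ F, MulAut.conj n • K p = L p := by
    intro F
    induction F using Finset.induction_on with
    | empty => exact ⟨1, one_mem N, by simp⟩
    | insert q F hq ih =>
      obtain ⟨n, hn, hnF⟩ := ih
      obtain ⟨n', hn', hnq⟩ := h q
      set T : Nat.Primes → Subgroup N := fun p => (Subgroup.normalizer (L p : Set G)).subgroupOf N
      have hT : ∀ p : Nat.Primes, (T p).index ∣ (p : ℕ) ^ (Nat.card G).factorization p := fun p =>
        (Subgroup.relIndex_dvd_of_le_left N Subgroup.le_normalizer).trans (relIndex_dvd hL N p)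
      have hA : ∀ F : Finset Nat.Primes, ∀ r : Nat.Primes, r ∉ F → (F.inf T).index.Coprime r := by
        intro F
        induction F using Finset.induction_on with
        | empty => intro r _; simp
        | insert s F hs ih =>
          intro r hr
          rw [Finset.mem_insert, not_or] at hr
          rw [Finset.inf_insert]
          have hcs : (F.inf T).index.Coprime (T s).index :=
            (Nat.Coprime.pow_right _ (ih s hs)).coprime_dvd_right (hT s)
          rw [HallConv.index_inf_of_coprime hcs.symm]
          exact Nat.Coprime.mul_left ((((Nat.coprime_primes s.2 r.2).mpr fun e => hr.1 (Subtype.ext e.symm)).pow_left _).coprime_dvd_left (hT s))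
            (ih r hr.2)
      set M := MulAut.conj n • K q
      set B := (Subgroup.normalizer (M : Set G)).subgroupOf N
      have hB : B.index ∣ (q : ℕ) ^ (Nat.card G).factorization q := by
        refine (Subgroup.relIndex_dvd_of_le_left N Subgroup.le_normalizer).trans (relIndex_dvd
          (K := fun p => MulAut.conj n • K p) (fun p => ?_) N q)
        show (MulAut.conj n • K p).index = _
        rw [← map_conj_eq_smul]
        exact (Subgroup.index_map_equiv _ (MulAut.conj n)).trans (hK p)
      obtain ⟨k, hk, x, hx, e⟩ := HallConv.exists_mul_of_coprime (H := B) (K := F.inf T)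
        ((Nat.Coprime.pow_right _ (hA F q hq)).coprime_dvd_right hB).symm
        (⟨n' * n⁻¹, mul_mem hn' (inv_mem hn)⟩ : N)
      refine ⟨k * n, mul_mem k.2 hn, fun p hp => ?_⟩
      rcases Finset.mem_insert.mp hp with rfl | hp
      · have hx' : MulAut.conj (x : G) • M = M := mem_normalizer_iff_smul.mp hx
        have e' : n' * n⁻¹ = (k : G) * x := congrArg Subtype.val e
        rw [← conj_smul_conj_smul]
        show MulAut.conj (k : G) • M = _
        rw [← hx', conj_smul_conj_smul, ← e', conj_smul_conj_smul, inv_mul_cancel_right, hnq]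
      · rw [← conj_smul_conj_smul, hnF p hp]
        exact mem_normalizer_iff_smul.mp (show (k : G) ∈ _ from (Finset.inf_le hp : F.inf T ≤ T p) hk)
  obtain ⟨n, hn, hnF⟩ := key ((Nat.card G).primeFactors.subtype Nat.Prime)
  refine ⟨n, hn, fun p => ?_⟩
  by_cases hp : (p : ℕ) ∣ Nat.card G
  · exact hnF p (Finset.mem_subtype.mpr (Nat.mem_primeFactors.mpr ⟨p.2, hp, Nat.card_pos.ne'⟩))
  · rw [eq_top_of_not_dvd hK hp, eq_top_of_not_dvd hL hp]
    exact Subgroup.eq_top_iff' _ |>.mpr fun x => mem_smul_conj.mpr trivial

theorem isConjugate [Group.IsSolvable G] {L : Nat.Primes → Subgroup G} (hL : IsComplementSystem L) :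
    ∃ g : G, ∀ p, MulAut.conj g • K p = L p := by
  obtain ⟨g, -, hg⟩ := exists_conj_simul hK ⊤ L hL fun p => by
    obtain ⟨g, hg⟩ := hall_conj (H := K p) (K := L p) (K p).card_mul_index.symm
      (by rw [hK p]; exact (coprime hK p).pow_right _) rfl (by
        have h1 := (K p).card_mul_index
        rw [hK p, ← hL p] at h1
        exact Nat.eq_of_mul_eq_mul_right (Nat.pos_of_ne_zero (L p).index_ne_zero_of_finite)
          ((L p).card_mul_index.trans h1.symm))
    exact ⟨g, Subgroup.mem_top g, hg⟩
  exact ⟨g, hg⟩

theorem mem_systemNormalizer {x : G} :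
    x ∈ systemNormalizer K ↔ ∀ p, x ∈ Subgroup.normalizer (K p : Set G) := Subgroup.mem_iInf

theorem map_systemNormalizer [Group.IsSolvable G] (N : Subgroup G) [N.Normal] :
    systemNormalizer (fun p => (K p).map (QuotientGroup.mk' N)) =
      (systemNormalizer K).map (QuotientGroup.mk' N) := by
  set f := QuotientGroup.mk' N
  refine le_antisymm (fun y hy => ?_) ?_
  · obtain ⟨x, rfl⟩ := QuotientGroup.mk'_surjective N y
    have hL : IsComplementSystem fun p => MulAut.conj x • K p := fun p => by
      show (MulAut.conj x • K p).index = _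
      rw [← map_conj_eq_smul]
      exact (Subgroup.index_map_equiv _ (MulAut.conj x)).trans (hK p)
    obtain ⟨n, hn, hnK⟩ := exists_conj_simul hL N K hK fun p => by
      have h1 : MulAut.conj (f x) • (K p).map f = (K p).map f :=
        mem_normalizer_iff_smul.mp ((mem_systemNormalizer (map hK N)).mp hy p)
      rw [conj_smul_map] at h1
      set S := K p ⊔ N
      have hle : MulAut.conj x • K p ≤ S := by
        intro z hz
        have : f z ∈ (K p).map f := h1 ▸ Subgroup.mem_map_of_mem f hz
        obtain ⟨w, hw, hwz⟩ := this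
        have h2 : w⁻¹ * z ∈ N := QuotientGroup.eq.mp hwz
        simpa using Subgroup.mul_mem_sup hw h2
      haveI : Group.IsSolvable S := isSolvable_of_injective S.subtype S.subtype_injective inferInstance
      obtain ⟨g, hg⟩ := hall_conj (G := S) (H := (MulAut.conj x • K p).subgroupOf S) (K := (K p).subgroupOf S)
        (Subgroup.card_mul_index _).symm (by
          rw [Nat.card_congr (Subgroup.subgroupOfEquivOfLe hle).toEquiv, card_conj_smul]
          refine ((coprime hK p).pow_right ((Nat.card G).factorization p)).coprime_dvd_right ?_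
          rw [← hK p, show (K p).index = (MulAut.conj x • K p).index by rw [hL p, hK p]]
          exact Dvd.intro _ (Subgroup.relIndex_mul_index hle)) rfl
        (by rw [Nat.card_congr (Subgroup.subgroupOfEquivOfLe hle).toEquiv, card_conj_smul,
          Nat.card_congr (Subgroup.subgroupOfEquivOfLe le_sup_left).toEquiv])
      obtain ⟨k, hk, m, hm, e⟩ : ∃ k ∈ K p, ∃ m ∈ N, (g : G) = k * m := by
        have := g.2
        rw [← SetLike.mem_coe, Subgroup.mul_normal] at this
        obtain ⟨k, hk, m, hm, e⟩ := this
        exact ⟨k, hk, m, hm, e.symm⟩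
      refine ⟨m, hm, ?_⟩
      have h3 : MulAut.conj (g : G) • (MulAut.conj x • K p) = K p := by
        have h4 := congrArg (fun H : Subgroup S => H.map S.subtype) hg
        simp only [← conj_smul_map, Subgroup.map_subgroupOf_eq_of_le hle,
          Subgroup.map_subgroupOf_eq_of_le (le_sup_left : K p ≤ S), Subgroup.subtype_apply] at h4
        exact h4.trans (Subgroup.map_subgroupOf_eq_of_le le_sup_left)
      rw [e, ← conj_smul_conj_smul k] at h3
      have h5 := congrArg (fun H : Subgroup G => MulAut.conj k⁻¹ • H) h3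
      rwa [conj_smul_conj_smul k⁻¹, inv_mul_cancel, map_one, one_smul,
        conj_smul_eq_self_of_mem (inv_mem hk)] at h5
    refine ⟨n * x, (mem_systemNormalizer hK).mpr fun p => ?_, ?_⟩
    · rw [mem_normalizer_iff_smul, ← conj_smul_conj_smul, hnK]
    · rw [map_mul, show f n = 1 from (QuotientGroup.eq_one_iff n).mpr hn, one_mul]
  · rintro _ ⟨x, hx, rfl⟩
    refine (mem_systemNormalizer (map hK N)).mpr fun p => ?_
    rw [mem_normalizer_iff_smul, conj_smul_map, mem_normalizer_iff_smul.mp ((mem_systemNormalizer hK).mp hx p)]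

/-- The system normalizer is nilpotent. -/
theorem isNilpotent_systemNormalizer : Group.IsNilpotent (systemNormalizer K) := by
  set D := systemNormalizer K
  refine (Group.isNilpotent_of_finite_tfae (G := D)).out 3 0 |>.mp fun q hq P => ?_
  let qq : Nat.Primes := ⟨q, hq.out⟩
  let S : Subgroup D := ⨅ r : {r : Nat.Primes // r ≠ qq}, (K r).subgroupOf D
  haveI : S.Normal := Subgroup.normal_iInf_normal fun r =>
    Subgroup.normal_subgroupOf_of_le_normalizer (iInf_le _ (r : Nat.Primes))
  have hPS : (P : Subgroup D) ≤ S := by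
    intro z hz
    rw [Subgroup.mem_iInf]
    intro r
    rw [Subgroup.mem_subgroupOf]
    refine mem_of_normalizing hK ((mem_systemNormalizer hK).mp z.2 r) ?_
    obtain ⟨l, hl⟩ := P.isPGroup' ⟨z, hz⟩
    rw [Subgroup.orderOf_coe]
    exact (((Nat.coprime_primes qq.2 r.1.2).mpr fun e => r.2 (Subtype.ext e.symm)).pow_left l).coprime_dvd_left
      (orderOf_dvd_of_pow_eq_one (congrArg Subtype.val hl))
  have hSq : IsPGroup q S := by
    refine IsPGroup.of_card (n := (Nat.card S).primeFactorsList.length)
      (Nat.eq_prime_pow_of_unique_prime_dvd Nat.card_pos.ne' fun {r} hr hrd => ?_)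
    by_contra hne
    have hle : S ≤ (K ⟨r, hr⟩).subgroupOf D := iInf_le _ (⟨⟨r, hr⟩, fun e => hne (congrArg Subtype.val e)⟩ : {x : Nat.Primes // x ≠ qq})
    have h1 : (S.map D.subtype) ≤ K ⟨r, hr⟩ := Subgroup.map_le_iff_le_comap.mpr hle
    have h2 := Subgroup.card_dvd_of_le h1
    rw [Subgroup.card_map_of_injective D.subtype_injective] at h2
    exact hr.ne_one (Nat.eq_one_of_dvd_coprimes (coprime hK ⟨r, hr⟩) (hrd.trans h2) dvd_rfl)
  rw [← P.is_maximal' hSq hPS]
  infer_instance

end system

end Cfsg.Agent.Grp.HallSys
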