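import Mathlib
import Cfsg.Prelude.Def_SolvableStructure
import Cfsg.Agent.Lib.Grp.HallSystem
import Cfsg.Agent.Lib.Grp.QuotientNormalizer

/-!
Carter subgroups of solvable groups: existence, conjugacy and the relation with system normalizers.
-/

namespace Cfsg.Agent.Grp.Carter

open scoped Pointwise
open Cfsg

universe u

variable {G : Type u} [Group G] [Finite G]

theorem normalizer_normalizer_of_coprime {Q : Subgroup G} (h : (Nat.card Q).Coprime Q.index) :
    Subgroup.normalizer ((Subgroup.normalizer (Q : Set G) : Subgroup G) : Set G) = Subgroup.normalizer (Q : Set G) := by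
  refine le_antisymm (fun x hx => ?_) Subgroup.le_normalizer
  rw [mem_normalizer_iff_smul]
  refine Subgroup.eq_of_le_of_card_ge (fun y hy => ?_) (card_conj_smul x Q).ge
  have hyR : y ∈ Subgroup.normalizer (Q : Set G) := by
    rw [← mem_normalizer_iff_smul.mp hx]
    exact (Subgroup.pointwise_smul_le_pointwise_smul_iff).mpr Subgroup.le_normalizer hy
  refine HallSys.mem_of_coprime_relIndex le_rfl hyR ?_
  refine (h.coprime_dvd_left ?_).coprime_dvd_right (Dvd.intro _ (Subgroup.relIndex_mul_index Subgroup.le_normalizer))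
  rw [← card_conj_smul x Q, ← Subgroup.orderOf_mk y hy]
  exact orderOf_dvd_natCard _

theorem normal_of_coprime (hG : Group.IsNilpotent G) {Q : Subgroup G} (h : (Nat.card Q).Coprime Q.index) :
    Q.Normal :=
  Subgroup.normalizer_eq_top_iff.mp
    (normalizerCondition_iff_only_full_group_self_normalizing.mp normalizerCondition_of_isNilpotent _
      (normalizer_normalizer_of_coprime h))

theorem eq_of_le_nilpotent {C R : Subgroup G} (hle : C ≤ R) (hR : Group.IsNilpotent R)
    (hC : Subgroup.normalizer (C : Set G) = C) : C = R := by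
  have h : C.subgroupOf R = ⊤ :=
    normalizerCondition_iff_only_full_group_self_normalizing.mp (normalizerCondition_of_isNilpotent (G := R)) _ (by
      refine le_antisymm (fun x hx => ?_) Subgroup.le_normalizer
      show (x : G) ∈ C
      rw [← hC, Subgroup.mem_normalizer_iff]
      intro y
      constructor
      · intro hy
        exact (Subgroup.mem_normalizer_iff.mp hx ⟨y, hle hy⟩).mp hy
      · intro hy
        have hyR : y ∈ R := by
          have := R.mul_mem (R.mul_mem (R.inv_mem x.2) (hle hy)) x.2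
          simpa [mul_assoc] using this
        exact (Subgroup.mem_normalizer_iff.mp hx ⟨y, hyR⟩).mpr hy)
  exact le_antisymm hle (Subgroup.subgroupOf_eq_top.mp h)

theorem carter_subgroupOf {C H : Subgroup G} (hle : C ≤ H) (hC : IsCarterSubgroup C) :
    IsCarterSubgroup (C.subgroupOf H) := by
  haveI := hC.1
  refine ⟨Group.nilpotent_of_mulEquiv (Subgroup.subgroupOfEquivOfLe hle).symm, le_antisymm (fun x hx => ?_) Subgroup.le_normalizer⟩
  show (x : G) ∈ C
  rw [← hC.2, Subgroup.mem_normalizer_iff]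
  intro y
  constructor
  · intro hy
    exact (Subgroup.mem_normalizer_iff.mp hx ⟨y, hle hy⟩).mp hy
  · intro hy
    have hyH : y ∈ H := by
      have := H.mul_mem (H.mul_mem (H.inv_mem x.2) (hle hy)) x.2
      simpa [mul_assoc] using this
    exact (Subgroup.mem_normalizer_iff.mp hx ⟨y, hyH⟩).mpr hy

theorem carter_smul {C : Subgroup G} (hC : IsCarterSubgroup C) (g : G) :
    IsCarterSubgroup (MulAut.conj g • C) := by
  haveI := hC.1
  refine ⟨Group.nilpotent_of_mulEquiv (Subgroup.equivSMul (MulAut.conj g) C), le_antisymm (fun x hx => ?_) Subgroup.le_normalizer⟩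
  have h1 := mem_normalizer_iff_smul.mp hx
  have h2 : g⁻¹ * x * g ∈ Subgroup.normalizer (C : Set G) := by
    rw [mem_normalizer_iff_smul, mul_assoc, ← conj_smul_conj_smul, ← conj_smul_conj_smul, h1,
      conj_smul_conj_smul, inv_mul_cancel, map_one, one_smul]
  rw [hC.2] at h2
  exact mem_smul_conj.mpr h2

theorem conj_of_subgroupOf {C D H : Subgroup G} (hC : C ≤ H) (hD : D ≤ H) {h : H}
    (e : MulAut.conj h • C.subgroupOf H = D.subgroupOf H) : MulAut.conj (h : G) • C = D := by
  have h3 : (MulAut.conj h • C.subgroupOf H).map H.subtype = (D.subgroupOf H).map H.subtype := by rw [e]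
  rw [← conj_smul_map, Subgroup.map_subgroupOf_eq_of_le hC, Subgroup.map_subgroupOf_eq_of_le hD] at h3
  exact h3

/-- The image of a Carter subgroup is a Carter subgroup, given conjugacy inside the preimage. -/
theorem carter_map_of_conj (N : Subgroup G) [N.Normal] {C : Subgroup G} (hC : IsCarterSubgroup C)
    (hconj : ∀ A B : Subgroup ↥(C ⊔ N), IsCarterSubgroup A → IsCarterSubgroup B →
      ∃ g : ↥(C ⊔ N), MulAut.conj g • A = B) :
    IsCarterSubgroup (C.map (QuotientGroup.mk' N)) := by
  set f := QuotientGroup.mk' N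
  refine ⟨isNilpotent_map hC.1 f, le_antisymm (fun y hy => ?_) Subgroup.le_normalizer⟩
  obtain ⟨x, rfl⟩ := QuotientGroup.mk'_surjective N y
  have hxC : MulAut.conj x • C ≤ C ⊔ N := by
    intro z hz
    have h1 : f z ∈ C.map f := by
      rw [← mem_normalizer_iff_smul.mp hy, conj_smul_map]
      exact Subgroup.mem_map_of_mem f hz
    have h2 : z ∈ (C.map f).comap f := h1
    rwa [Subgroup.comap_map_eq, QuotientGroup.ker_mk'] at h2
  obtain ⟨h, he⟩ := hconj _ _ (carter_subgroupOf le_sup_left hC) (carter_subgroupOf hxC (carter_smul hC x))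
  have h3 := conj_of_subgroupOf le_sup_left hxC he
  have h4 : x⁻¹ * (h : G) ∈ C := by
    refine hC.2.le ?_
    rw [mem_normalizer_iff_smul, ← conj_smul_conj_smul, h3, conj_smul_conj_smul,
      inv_mul_cancel, map_one, one_smul]
  have h5 : f h ∈ C.map f := by
    have : (h : G) ∈ (C.map f).comap f := by
      rw [Subgroup.comap_map_eq, QuotientGroup.ker_mk']; exact h.2
    exact this
  have h6 := mul_mem h5 (inv_mem (Subgroup.mem_map_of_mem f h4))
  rwa [map_mul, map_inv, mul_inv_rev, inv_inv, mul_inv_cancel_left] at h6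

/-- The normalizer of a Hall `p'`-subgroup when `G` modulo a normal `p`-subgroup is nilpotent. -/
theorem carter_of_quotient {p : ℕ} [hp : Fact p.Prime] (N : Subgroup G) [N.Normal] (hN : IsPGroup p N)
    (hGN : Group.IsNilpotent (G ⧸ N)) {Q : Subgroup G} (hQ : Q.index = p ^ (Nat.card G).factorization p) :
    IsCarterSubgroup (Subgroup.normalizer (Q : Set G)) ∧ Subgroup.normalizer (Q : Set G) ⊔ N = ⊤ := by
  set R := Subgroup.normalizer (Q : Set G) with hR
  obtain ⟨k, hk⟩ := IsPGroup.iff_card.mp hN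
  have hQc : (Nat.card Q).Coprime p := HallSys.coprime_card_of_index_eq hp.out hQ
  have hQN : (Nat.card N).Coprime (Nat.card Q) := hk ▸ (hQc.symm.pow_left k)
  haveI : Group.IsNilpotent N := hN.isNilpotent
  have hRN : R ⊔ N = ⊤ := by
    set f := QuotientGroup.mk' N
    have h1 : (Q.map f).Normal := normal_of_coprime hGN (by
      refine (Nat.Coprime.pow_right ((Nat.card G).factorization p)
        (hQc.coprime_dvd_left (Subgroup.card_map_dvd _ _))).coprime_dvd_right ?_
      rw [← hQ]; exact Subgroup.index_map_dvd _ (QuotientGroup.mk'_surjective N))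
    have h2 : R.map f = ⊤ := by
      rw [hR, ← QuotNorm.normalizer_map N Q hQN (Or.inl inferInstance), Subgroup.normalizer_eq_top_iff]
      exact h1
    have h3 := congrArg (fun H : Subgroup (G ⧸ N) => H.comap f) h2
    simp only [Subgroup.comap_map_eq, Subgroup.comap_top] at h3
    rwa [QuotientGroup.ker_mk'] at h3
  refine ⟨⟨?_, normalizer_normalizer_of_coprime (hQ ▸ hQc.pow_right _)⟩, hRN⟩
  haveI := hGN
  haveI hQn : (Q.subgroupOf R).Normal := Subgroup.normal_subgroupOf_of_le_normalizer le_rfl
  haveI : Group.IsNilpotent (R ⧸ Q.subgroupOf R) := by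
    have hd : Q.relIndex R ∣ p ^ (Nat.card G).factorization p :=
      hQ ▸ Dvd.intro _ (Subgroup.relIndex_mul_index Subgroup.le_normalizer)
    obtain ⟨l, -, hl⟩ := (Nat.dvd_prime_pow hp.out).mp hd
    exact (IsPGroup.of_card (p := p) (n := l) hl).isNilpotent
  let φ : R →* (G ⧸ N) × (R ⧸ Q.subgroupOf R) := ((QuotientGroup.mk' N).comp R.subtype).prod (QuotientGroup.mk' _)
  have hφ : Function.Injective φ := by
    rw [injective_iff_map_eq_one]
    intro x hx
    have h1 : (x : G) ∈ N := (QuotientGroup.eq_one_iff _).mp (congrArg Prod.fst hx)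
    have h2 : (x : G) ∈ Q := (QuotientGroup.eq_one_iff x).mp (congrArg Prod.snd hx)
    exact Subtype.ext ((Subgroup.inf_eq_bot_of_coprime hQN).le (Subgroup.mem_inf.mpr ⟨h1, h2⟩))
  exact Group.nilpotent_of_mulEquiv (MonoidHom.ofInjective hφ).symm

/-- In a nilpotent subgroup the elements of order prime to `p` form a normal subgroup of `p`-power index. -/
theorem exists_pPrime_part {C : Subgroup G} (hC : Group.IsNilpotent C) (p : ℕ) [hp : Fact p.Prime] :
    ∃ Q : Subgroup G, Q ≤ C ∧ C ≤ Subgroup.normalizer (Q : Set G) ∧ (Nat.card Q).Coprime p ∧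
      (∃ k, Q.relIndex C = p ^ k) ∧ ∀ x ∈ C, (orderOf x).Coprime p → x ∈ Q := by
  obtain ⟨H, hH⟩ := HallSys.exists_complement (G := C) ⟨p, hp.out⟩
  have hHc := HallSys.coprime_card_of_index_eq hp.out hH
  haveI hn : H.Normal := normal_of_coprime hC (hH ▸ hHc.pow_right _)
  have hsub : (H.map C.subtype).subgroupOf C = H := Subgroup.comap_map_eq_self_of_injective C.subtype_injective H
  haveI : ((H.map C.subtype).subgroupOf C).Normal := by rw [hsub]; exact hn
  have hnor : C ≤ Subgroup.normalizer ((H.map C.subtype : Subgroup G) : Set G) :=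
    (Subgroup.normal_subgroupOf_iff_le_normalizer (Subgroup.map_subtype_le H)).mp inferInstance
  refine ⟨H.map C.subtype, Subgroup.map_subtype_le H, hnor,
    by rwa [Subgroup.card_map_of_injective C.subtype_injective], ⟨_, by rw [Subgroup.relIndex, hsub, hH]⟩,
    fun x hx hxp => HallSys.mem_of_coprime_relIndex hnor hx ?_⟩
  rw [Subgroup.relIndex, hsub, hH]
  exact hxp.pow_right _

theorem index_dvd_of_sup_eq_top {C N : Subgroup G} [N.Normal] (h : C ⊔ N = ⊤) : C.index ∣ Nat.card N := by
  refine Nat.dvd_of_mul_dvd_mul_left (Nat.card_pos (α := C)) ?_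
  rw [C.card_mul_index, ← card_sup_mul_card_inf_normal, h, Subgroup.card_top]
  exact Dvd.intro _ rfl

theorem carter_eq_normalizer {p : ℕ} [hp : Fact p.Prime] (N : Subgroup G) [N.Normal] (hN : IsPGroup p N)
    (hGN : Group.IsNilpotent (G ⧸ N)) {C : Subgroup G} (hC : IsCarterSubgroup C) (hCN : C ⊔ N = ⊤) :
    ∃ Q : Subgroup G, Q.index = p ^ (Nat.card G).factorization p ∧ C = Subgroup.normalizer (Q : Set G) ∧
      ∀ x ∈ C, (orderOf x).Coprime p → x ∈ Q := by
  obtain ⟨Q, hQC, hn, hc, ⟨k, hk⟩, hel⟩ := exists_pPrime_part hC.1 p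
  obtain ⟨l, hl⟩ := IsPGroup.iff_card.mp hN
  obtain ⟨j, -, hj⟩ := (Nat.dvd_prime_pow hp.out).mp (hl ▸ index_dvd_of_sup_eq_top hCN)
  have hQ : Q.index = p ^ (Nat.card G).factorization p := HallSys.index_eq_of_dvd_pow hp.out hc (k := k + j)
    (by rw [← Subgroup.relIndex_mul_index hQC, hk, hj, pow_add])
  exact ⟨Q, hQ, eq_of_le_nilpotent hn (carter_of_quotient N hN hGN hQ).1.1 hC.2, hel⟩

theorem aux : ∀ (n : ℕ) (G : Type u) [Group G] [Finite G] [Group.IsSolvable G], Nat.card G = n →
    (∃ C : Subgroup G, IsCarterSubgroup C) ∧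
    ∀ C D : Subgroup G, IsCarterSubgroup C → IsCarterSubgroup D → ∃ g : G, MulAut.conj g • C = D := by
  intro n
  induction n using Nat.strong_induction_on with
  | _ n ih =>
  intro G _ _ _ hn
  rcases subsingleton_or_nontrivial G with hG | hG
  · exact ⟨⟨⊤, inferInstance, top_le_iff.mp (Subgroup.le_normalizer (H := (⊤ : Subgroup G)))⟩,
      fun C D _ _ => ⟨1, Subsingleton.elim _ _⟩⟩
  obtain ⟨N, hNn, hN0, -, hmin⟩ := exists_minimal_normal_le (N := (⊤ : Subgroup G)) top_ne_bot
  obtain ⟨p, hp, hNp⟩ := minimal_normal_solvable_isPGroup inferInstance hN0 hmin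
  haveI := Fact.mk hp
  set f := QuotientGroup.mk' N
  have hsmall : Nat.card (G ⧸ N) < n := hn ▸ card_quotient_lt hN0
  obtain ⟨⟨Cb, hCb⟩, hconjb⟩ := ih _ hsmall (G ⧸ N) rfl
  constructor
  · set H := Cb.comap f
    have hNH : N ≤ H := fun x hx => by
      show f x ∈ Cb
      rw [show f x = 1 from (QuotientGroup.eq_one_iff x).mpr hx]; exact one_mem _
    have hHN : Group.IsNilpotent (H ⧸ N.subgroupOf H) := by
      haveI := hCb.1
      let φ : H →* Cb := (f.comp H.subtype).codRestrict Cb fun x => x.2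
      have hker : φ.ker = N.subgroupOf H := by
        ext x
        rw [MonoidHom.mem_ker, Subtype.ext_iff, Subgroup.mem_subgroupOf]
        exact QuotientGroup.eq_one_iff _
      exact Group.nilpotent_of_mulEquiv (((QuotientGroup.quotientMulEquivOfEq hker.symm).trans
        (QuotientGroup.quotientKerEquivRange φ)).trans ((MulEquiv.subgroupCongr
          (MonoidHom.range_eq_top.mpr fun y => by
            obtain ⟨g, hg⟩ := QuotientGroup.mk'_surjective N (y : G ⧸ N)
            exact ⟨⟨g, show f g ∈ Cb by rw [hg]; exact y.2⟩, Subtype.ext hg⟩)).trans Subgroup.topEquiv)).symm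
    obtain ⟨Q, hQ⟩ := HallSys.exists_complement (G := H) ⟨p, hp⟩
    obtain ⟨hR, hRN⟩ := carter_of_quotient (N.subgroupOf H)
      (hNp.of_equiv (Subgroup.subgroupOfEquivOfLe hNH).symm) hHN hQ
    set R := Subgroup.normalizer (Q : Set H)
    refine ⟨R.map H.subtype, isNilpotent_map hR.1 _, le_antisymm (fun x hx => ?_) Subgroup.le_normalizer⟩
    have hsup : R.map H.subtype ⊔ N = H := by
      have := congrArg (Subgroup.map H.subtype) hRN
      rw [Subgroup.map_sup, Subgroup.map_subgroupOf_eq_of_le hNH, ← MonoidHom.range_eq_map,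
        Subgroup.range_subtype] at this
      exact this
    have hxH : x ∈ H := by
      show f x ∈ Cb
      rw [← hCb.2, mem_normalizer_iff_smul]
      have h1 : MulAut.conj x • H = H := by
        rw [← hsup, Subgroup.smul_sup, mem_normalizer_iff_smul.mp hx, mem_normalizer_iff_smul.mp
          ((Subgroup.normalizer_eq_top (H := N)).ge (Subgroup.mem_top x))]
      have h2 := congrArg (Subgroup.map f) h1
      rw [← conj_smul_map] at h2
      have e : H.map f = Cb := Subgroup.map_comap_eq_self_of_surjective (QuotientGroup.mk'_surjective N) Cb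
      rwa [e] at h2
    refine ⟨⟨x, hxH⟩, hR.2 ▸ ?_, rfl⟩
    show _ ∈ Subgroup.normalizer (R : Set H)
    rw [Subgroup.mem_normalizer_iff]
    intro y
    have h1 := Subgroup.mem_normalizer_iff.mp hx (y : G)
    constructor
    · intro hy
      obtain ⟨z, hz, e⟩ := h1.mp ⟨y, hy, rfl⟩
      rwa [← show z = ⟨x, hxH⟩ * y * ⟨x, hxH⟩⁻¹ from Subtype.ext e]
    · intro hy
      obtain ⟨z, hz, e⟩ := h1.mpr ⟨_, hy, rfl⟩
      rwa [← show z = y from Subtype.ext e]
  · intro C D hC hD
    have himg : ∀ C : Subgroup G, IsCarterSubgroup C → IsCarterSubgroup (C.map f) := by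
      intro C hC
      rcases eq_or_ne (C ⊔ N) ⊤ with hH | hH
      · have : C.map f = ⊤ := by
          rw [← Subgroup.map_top_of_surjective f (QuotientGroup.mk'_surjective N), ← hH, Subgroup.map_sup,
            show N.map f = ⊥ from QuotientGroup.map_mk'_self N, sup_bot_eq]
        exact ⟨isNilpotent_map hC.1 f, by rw [this]; exact top_le_iff.mp Subgroup.le_normalizer⟩
      · exact carter_map_of_conj N hC (ih _ (hn ▸ card_lt_of_ne_top hH) _ rfl).2
    obtain ⟨gb, hgb⟩ := hconjb _ _ (himg C hC) (himg D hD)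
    obtain ⟨g, rfl⟩ := QuotientGroup.mk'_surjective N gb
    rw [conj_smul_map] at hgb
    set C' := MulAut.conj g • C with hC'
    have hC'c : IsCarterSubgroup C' := carter_smul hC g
    have hsup : C' ⊔ N = D ⊔ N := by
      have := congrArg (Subgroup.comap f) hgb
      rw [Subgroup.comap_map_eq, Subgroup.comap_map_eq, QuotientGroup.ker_mk'] at this
      exact this
    suffices ∃ g', MulAut.conj g' • C' = D by
      obtain ⟨g', h⟩ := this
      exact ⟨g' * g, by rw [← conj_smul_conj_smul]; exact h⟩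
    rcases eq_or_ne (C' ⊔ N) ⊤ with hH | hH
    · have hGN : Group.IsNilpotent (G ⧸ N) := by
        haveI := (himg C' hC'c).1
        have : C'.map f = ⊤ := by
          rw [← Subgroup.map_top_of_surjective f (QuotientGroup.mk'_surjective N), ← hH, Subgroup.map_sup,
            show N.map f = ⊥ from QuotientGroup.map_mk'_self N, sup_bot_eq]
        exact Group.nilpotent_of_mulEquiv ((MulEquiv.subgroupCongr this).trans Subgroup.topEquiv)
      obtain ⟨Q₁, hQ₁, e₁, -⟩ := carter_eq_normalizer N hNp hGN hC'c hH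
      obtain ⟨Q₂, hQ₂, e₂, -⟩ := carter_eq_normalizer N hNp hGN hD (hsup ▸ hH)
      obtain ⟨a, ha⟩ := hall_conj (H := Q₁) (K := Q₂) Q₁.card_mul_index.symm
        (by rw [hQ₁]; exact (HallSys.coprime_card_of_index_eq hp hQ₁).pow_right _) rfl (by
          have h1 := Q₁.card_mul_index
          rw [hQ₁, ← hQ₂] at h1
          exact Nat.eq_of_mul_eq_mul_right (Nat.pos_of_ne_zero Q₂.index_ne_zero_of_finite) (Q₂.card_mul_index.trans h1.symm))
      refine ⟨a, ?_⟩
      rw [e₁, e₂, ← ha]
      exact (Subgroup.map_equiv_normalizer_eq Q₁ (MulAut.conj a))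
    · set H := C' ⊔ N
      have hDH : D ≤ H := hsup ▸ le_sup_left
      obtain ⟨⟨h, hh⟩, he⟩ := (ih _ (hn ▸ card_lt_of_ne_top hH) H rfl).2 _ _
        (carter_subgroupOf (le_sup_left : C' ≤ H) hC'c) (carter_subgroupOf hDH hD)
      exact ⟨h, conj_of_subgroupOf le_sup_left hDH he⟩

/-- Images of Carter subgroups are Carter subgroups. -/
theorem carter_map [Group.IsSolvable G] (N : Subgroup G) [N.Normal] {C : Subgroup G} (hC : IsCarterSubgroup C) :
    IsCarterSubgroup (C.map (QuotientGroup.mk' N)) := by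
  haveI : Group.IsSolvable ↥(C ⊔ N) := isSolvable_of_injective (C ⊔ N).subtype (C ⊔ N).subtype_injective inferInstance
  exact carter_map_of_conj N hC (aux _ _ rfl).2

/-- `K` contains the parts of `C` of order prime to each prime. -/
def Extends (K : Nat.Primes → Subgroup G) (C : Subgroup G) : Prop :=
  ∀ p : Nat.Primes, ∀ x ∈ C, (orderOf x).Coprime p → x ∈ K p

theorem exists_extends [Group.IsSolvable G] {C : Subgroup G} (hC : Group.IsNilpotent C) :
    ∃ K : Nat.Primes → Subgroup G, IsComplementSystem K ∧ Extends K C := by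
  obtain ⟨K₀, hK₀⟩ := HallSys.exists_system (G := G)
  have : ∀ p : Nat.Primes, ∃ H : Subgroup G, H.index = (p : ℕ) ^ (Nat.card G).factorization p ∧
      ∀ x ∈ C, (orderOf x).Coprime p → x ∈ H := by
    intro p
    haveI := Fact.mk p.2
    obtain ⟨Q, -, -, hc, -, hel⟩ := exists_pPrime_part hC (p : ℕ)
    obtain ⟨g, hg⟩ := exists_conj_le_hall (H := K₀ p) (K := Q) (K₀ p).card_mul_index.symm
      (by rw [hK₀ p]; exact (HallSys.coprime hK₀ p).pow_right _) rfl (by rw [hK₀ p]; exact hc.pow_right _)
    refine ⟨MulAut.conj g • K₀ p, ?_, fun x hx hxp => hg (hel x hx hxp)⟩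
    rw [← map_conj_eq_smul]
    exact (Subgroup.index_map_equiv _ (MulAut.conj g)).trans (hK₀ p)
  choose K hK1 hK2 using this
  exact ⟨K, hK1, hK2⟩

theorem systemNormalizer_le_aux : ∀ (n : ℕ) (G : Type u) [Group G] [Finite G] [Group.IsSolvable G],
    Nat.card G = n → ∀ (C : Subgroup G), IsCarterSubgroup C → ∀ K : Nat.Primes → Subgroup G,
    IsComplementSystem K → Extends K C → systemNormalizer K ≤ C := by
  intro n
  induction n using Nat.strong_induction_on with
  | _ n ih =>
  intro G _ _ _ hn C hC K hK hext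
  rcases subsingleton_or_nontrivial G with hG | hG
  · exact le_of_eq (Subsingleton.elim _ _)
  obtain ⟨N, hNn, hN0, -, hmin⟩ := exists_minimal_normal_le (N := (⊤ : Subgroup G)) top_ne_bot
  obtain ⟨r, hr, hNp⟩ := minimal_normal_solvable_isPGroup inferInstance hN0 hmin
  haveI := Fact.mk hr
  set f := QuotientGroup.mk' N
  have hb : systemNormalizer (fun p => (K p).map f) ≤ C.map f := by
    refine ih _ (hn ▸ card_quotient_lt hN0) (G ⧸ N) rfl _ (carter_map N hC) _ (HallSys.map hK N) ?_
    rintro p _ ⟨x, hx, rfl⟩ hxp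
    have h0 : x ^ ((p : ℕ) ^ (Nat.card G).factorization p * (Nat.card G / (p : ℕ) ^ (Nat.card G).factorization p)) = 1 := by
      rw [Nat.mul_div_cancel' (Nat.ordProj_dvd _ _)]; exact pow_card_eq_one'
    obtain ⟨a, b, ⟨i, hi⟩, ⟨j, hj⟩, ha, hb', hab⟩ :=
      exists_pow_decomp ((Nat.coprime_ordCompl p.2 Nat.card_pos.ne').pow_left _) h0
    have hbK : b ∈ K p := hext p b (hj ▸ zpow_mem hx j)
      (((Nat.coprime_ordCompl p.2 Nat.card_pos.ne').symm).coprime_dvd_left (orderOf_dvd_of_pow_eq_one hb'))
    have hfa : f a = 1 := by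
      rw [← orderOf_eq_one_iff]
      refine Nat.eq_one_of_dvd_coprimes ((Nat.Coprime.pow_right ((Nat.card G).factorization p) hxp)) ?_ ?_
      · rw [← hi]
        show orderOf (f (x ^ i)) ∣ orderOf (f x)
        rw [map_zpow]
        exact orderOf_dvd_of_pow_eq_one (by rw [← zpow_natCast, ← zpow_mul, mul_comm, zpow_mul, zpow_natCast, pow_orderOf_eq_one, one_zpow])
      · exact orderOf_dvd_of_pow_eq_one (by rw [← map_pow, ha, map_one])
    exact ⟨b, hbK, by rw [hab, map_mul, hfa, one_mul]⟩
  rw [HallSys.map_systemNormalizer hK N, Subgroup.map_le_iff_le_comap, Subgroup.comap_map_eq, QuotientGroup.ker_mk'] at hb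
  set D := systemNormalizer K
  rcases eq_or_ne (C ⊔ N) ⊤ with hH | hH
  · have hGN : Group.IsNilpotent (G ⧸ N) := by
      haveI := isNilpotent_map hC.1 f
      have : C.map f = ⊤ := by
        rw [← Subgroup.map_top_of_surjective f (QuotientGroup.mk'_surjective N), ← hH, Subgroup.map_sup,
          show N.map f = ⊥ from QuotientGroup.map_mk'_self N, sup_bot_eq]
      exact Group.nilpotent_of_mulEquiv ((MulEquiv.subgroupCongr this).trans Subgroup.topEquiv)
    obtain ⟨Q, hQ, hCQ, -⟩ := carter_eq_normalizer N hNp hGN hC hH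
    have hQC : Q ≤ C := hCQ ▸ Subgroup.le_normalizer
    let rr : Nat.Primes := ⟨r, hr⟩
    have hQK : Q = K rr := by
      refine Subgroup.eq_of_le_of_card_ge (fun x hx => hext rr x (hQC hx) ?_) ?_
      · rw [← Subgroup.orderOf_mk x hx]
        exact (HallSys.coprime_card_of_index_eq hr hQ).coprime_dvd_left (orderOf_dvd_natCard _)
      · refine (Nat.eq_of_mul_eq_mul_right (Nat.pos_of_ne_zero Q.index_ne_zero_of_finite) ?_).le
        rw [Q.card_mul_index, hQ, ← show (K rr).index = r ^ _ from hK rr, (K rr).card_mul_index]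
    rw [hCQ, hQK]
    exact iInf_le _ rr
  · set H := C ⊔ N
    haveI : Group.IsSolvable H := isSolvable_of_injective H.subtype H.subtype_injective inferInstance
    have hext' : Extends (fun p => (K p).subgroupOf H) (C.subgroupOf H) := fun p x hx hxp =>
      hext p (x : G) hx (by rwa [Subgroup.orderOf_coe])
    have hK' : IsComplementSystem fun p => (K p).subgroupOf H := by
      intro p
      haveI := Fact.mk p.2
      obtain ⟨Q, hQC, hn', hc, ⟨k, hk⟩, hel⟩ := exists_pPrime_part hC.1 (p : ℕ)
      have hQK : Q ≤ K p ⊓ H := le_inf (fun x hx => hext p x (hQC hx)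
        (by rw [← Subgroup.orderOf_mk x hx]; exact hc.coprime_dvd_left (orderOf_dvd_natCard _)))
        (hQC.trans le_sup_left)
      show ((K p).subgroupOf H).index = _
      refine HallSys.index_eq_of_dvd_pow p.2 ?_ (k := k + (Nat.card G).factorization p) ?_
      · refine (HallSys.coprime hK p).coprime_dvd_left ?_
        rw [← Subgroup.card_map_of_injective H.subtype_injective, Subgroup.subgroupOf_map_subtype]
        exact Subgroup.card_dvd_of_le inf_le_left
      · rw [← Subgroup.relIndex, ← Subgroup.inf_relIndex_right]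
        by_cases hpr : (p : ℕ) = r
        · refine (Subgroup.relIndex_dvd_of_le_left H hQK).trans ?_
          rw [← Subgroup.relIndex_mul_relIndex Q C H hQC le_sup_left, hk, pow_add]
          refine mul_dvd_mul_left _ ?_
          obtain ⟨l, hl⟩ := IsPGroup.iff_card.mp hNp
          have h1 := card_mul_relIndex (le_sup_left : C ≤ H)
          have h2 := card_sup_mul_card_inf_normal (H := C) (N := N)
          rw [← h1, mul_assoc] at h2
          have h3 : C.relIndex H ∣ Nat.card N := Dvd.intro _ (Nat.eq_of_mul_eq_mul_left Nat.card_pos h2)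
          rw [hl, ← hpr] at h3
          obtain ⟨j, -, hj⟩ := (Nat.dvd_prime_pow p.2).mp h3
          rw [hj]
          exact pow_dvd_pow _ ((Nat.pow_dvd_pow_iff_le_right p.2.one_lt).mp
            (hj ▸ (Subgroup.relIndex_dvd_card C H).trans ((Subgroup.card_subgroup_dvd_card H).trans dvd_rfl) |> fun h => by
              refine pow_dvd_pow _ ((p.2.pow_dvd_iff_le_factorization Nat.card_pos.ne').mp h)))
        · have hNK : N ≤ K p := by
            obtain ⟨l, hl⟩ := IsPGroup.iff_card.mp hNp
            exact HallSys.le_of_coprime hK (hl ▸ ((Nat.coprime_primes hr p.2).mpr (Ne.symm hpr)).pow_left l)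
          have hle : Q ⊔ N ≤ K p ⊓ H := sup_le hQK (le_inf hNK le_sup_right)
          refine (Subgroup.relIndex_dvd_of_le_left H hle).trans ((dvd_trans ?_ (pow_dvd_pow _ (Nat.le_add_right k _))))
          rw [← hk]
          -- relIndex of QN in CN divides relIndex of Q in C
          have h1 : (Q ⊔ N).relIndex H = (Q ⊔ N).relIndex (C ⊔ (Q ⊔ N)) := by
            rw [← sup_assoc, sup_eq_left.mpr hQC]
          have hCn : C ≤ Subgroup.normalizer ((Q ⊔ N : Subgroup G) : Set G) := fun x hx => by
            rw [mem_normalizer_iff_smul, Subgroup.smul_sup, mem_normalizer_iff_smul.mp (hn' hx),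
              mem_normalizer_iff_smul.mp ((Subgroup.normalizer_eq_top (H := N)).ge (Subgroup.mem_top x))]
          have h2 : (Q ⊔ N).relIndex (C ⊔ (Q ⊔ N)) = (Q ⊔ N).relIndex C := by
            have e := card_sup_mul_card_inf hCn
            rw [← card_mul_relIndex (le_sup_right : Q ⊔ N ≤ C ⊔ (Q ⊔ N)),
              ← relIndex_mul_card_inf C (Q ⊔ N)] at e
            refine Nat.eq_of_mul_eq_mul_left (Nat.mul_pos (Nat.card_pos (α := ↥(Q ⊔ N)))
              (Nat.card_pos (α := ↥(C ⊓ (Q ⊔ N))))) ?_
            linarith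
          rw [h1, h2]
          exact Subgroup.relIndex_dvd_of_le_left C le_sup_left
    have hle := ih _ (hn ▸ card_lt_of_ne_top hH) H rfl _ (carter_subgroupOf le_sup_left hC) _ hK' hext'
    intro x hx
    refine hle ((HallSys.mem_systemNormalizer hK').mpr fun p => ?_) (x := ⟨x, hb hx⟩)
    have h1 := Subgroup.mem_normalizer_iff.mp ((HallSys.mem_systemNormalizer hK).mp hx p)
    exact Subgroup.mem_normalizer_iff.mpr fun y => h1 (y : G)

theorem systemNormalizer_le [Group.IsSolvable G] {C : Subgroup G} (hC : IsCarterSubgroup C)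
    {K : Nat.Primes → Subgroup G} (hK : IsComplementSystem K) (h : Extends K C) : systemNormalizer K ≤ C :=
  systemNormalizer_le_aux _ G rfl C hC K hK h

/-- In nilpotent length two, the Carter subgroup normalizes a system extending it. -/
theorem le_systemNormalizer [Group.IsSolvable G] (F : Subgroup G) [F.Normal] (hF : Group.IsNilpotent F)
    (hGF : Group.IsNilpotent (G ⧸ F)) {C : Subgroup G} (hC : IsCarterSubgroup C)
    {K : Nat.Primes → Subgroup G} (hK : IsComplementSystem K) (hext : Extends K C) : C ≤ systemNormalizer K := by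
  have htop : C.map (QuotientGroup.mk' F) = ⊤ :=
    normalizerCondition_iff_only_full_group_self_normalizing.mp (normalizerCondition_of_isNilpotent (h := hGF)) _
      (carter_map F hC).2
  have hCF : C ⊔ F = ⊤ := by
    have h3 := congrArg (fun H : Subgroup (G ⧸ F) => H.comap (QuotientGroup.mk' F)) htop
    simp only [Subgroup.comap_map_eq, Subgroup.comap_top] at h3
    rwa [QuotientGroup.ker_mk'] at h3
  refine le_iInf fun p => ?_
  haveI := Fact.mk p.2
  obtain ⟨Q, hQC, hn, hc, ⟨k, hk⟩, hel⟩ := exists_pPrime_part hC.1 (p : ℕ)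
  obtain ⟨E, hEF, hEn, hEc, ⟨l, hl⟩, hel'⟩ := exists_pPrime_part hF (p : ℕ)
  have hEN : ∀ g : G, g ∈ Subgroup.normalizer (E : Set G) := fun g => by
    rw [mem_normalizer_iff_smul]
    refine Subgroup.eq_of_le_of_card_ge (fun y hy => ?_) (card_conj_smul g E).ge
    have hyF : y ∈ F := by
      rw [← mem_normalizer_iff_smul.mp ((Subgroup.normalizer_eq_top (H := F)).ge (Subgroup.mem_top g))]
      exact (Subgroup.pointwise_smul_le_pointwise_smul_iff).mpr hEF hy
    exact hel' y hyF (hEc.coprime_dvd_left (by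
      rw [← card_conj_smul g E, ← Subgroup.orderOf_mk y hy]; exact orderOf_dvd_natCard _))
  haveI hEnormal : E.Normal := Subgroup.normalizer_eq_top_iff.mp ((Subgroup.eq_top_iff' _).mpr hEN)
  have hJ : Q ⊔ E = K p := by
    refine Subgroup.eq_of_le_of_card_ge (sup_le (fun x hx => hext p x (hQC hx) ?_) (HallSys.le_of_coprime hK hEc)) ?_
    · rw [← Subgroup.orderOf_mk x hx]; exact hc.coprime_dvd_left (orderOf_dvd_natCard _)
    refine Nat.le_of_dvd Nat.card_pos ?_
    have e1 := card_sup_mul_card_inf_normal (H := C) (N := F)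
    rw [hCF, Subgroup.card_top] at e1
    have e2 := card_sup_mul_card_inf_normal (H := Q) (N := E)
    have e3 : Nat.card ↥(Q ⊓ E) ∣ Nat.card ↥(C ⊓ F) := Subgroup.card_dvd_of_le (inf_le_inf hQC hEF)
    have e4 := card_mul_relIndex hQC
    have e5 := card_mul_relIndex hEF
    rw [hk] at e4
    rw [hl] at e5
    rw [← Nat.mul_dvd_mul_iff_right (Nat.card_pos (α := ↥(Q ⊓ E))), e2]
    have hKc : (Nat.card (K p) * Nat.card ↥(Q ⊓ E)).Coprime ((p : ℕ) ^ (k + l)) :=
      ((HallSys.coprime hK p).mul_left (hc.coprime_dvd_left (Subgroup.card_dvd_of_le inf_le_left))).pow_right _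
    refine hKc.dvd_of_dvd_mul_right ?_
    calc Nat.card (K p) * Nat.card ↥(Q ⊓ E) ∣ Nat.card G * Nat.card ↥(C ⊓ F) :=
          mul_dvd_mul (Subgroup.card_subgroup_dvd_card _) e3
      _ = _ := by rw [e1, ← e4, ← e5, pow_add]; ring
  intro x hx
  rw [← hJ, mem_normalizer_iff_smul, Subgroup.smul_sup, mem_normalizer_iff_smul.mp (hn hx),
    mem_normalizer_iff_smul.mp (hEN x)]

end Cfsg.Agent.Grp.Carter
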