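import Mathlib
import Cfsg.Agent.Lib.Grp.AbelianConjSolvable
import Cfsg.Agent.Lib.Grp.SchurZassenhaus
import Cfsg.Agent.Lib.Grp.SolvableSubspaceTrans

/-!
Solvable groups in which abelian subgroups of equal order are conjugate: all subgroups of equal order
are conjugate.  The stabilizer of a proper subgroup of a minimal normal subgroup of order at least
`p ^ 2` acts on it through a group with at most one subgroup of each prime order.
-/

set_option autoImplicit false
set_option linter.unusedSectionVars false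

open scoped commutatorElement

namespace Cfsg.Agent.Grp.ConjAllSolvable

open AbelianConjSolvable (AbConj)

universe u

section stabilizer

variable {p : ℕ} [hp : Fact p.Prime] {V : Type u} [CommGroup V] [Finite V]

/-- A power map is central in the automorphism group. -/
theorem central_of_pow {g : MulAut V} {a : ℕ} (h : ∀ v, g v = v ^ a) (f : MulAut V) : f * g = g * f :=
  MulEquiv.ext fun v => by rw [MulAut.mul_apply, MulAut.mul_apply, h, h, map_pow]

theorem pow_eq_pow_mod_char (hV : ∀ v : V, v ^ p = 1) (v : V) {i j : ℕ} (h : (i : ZMod p) = j) :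
    v ^ i = v ^ j := by
  rw [pow_eq_pow_mod i (hV v), pow_eq_pow_mod j (hV v), (ZMod.natCast_eq_natCast_iff' i j p).1 h]

theorem natCast_eq_of_pow (hV : ∀ v : V, v ^ p = 1) {v : V} (hv : v ≠ 1) {i j : ℕ} (h : v ^ i = v ^ j) :
    (i : ZMod p) = j :=
  (ZMod.natCast_eq_natCast_iff' i j p).2 (by
    have := pow_inj_mod.1 h
    rwa [orderOf_eq_prime (hV v) hv] at this)

/-- Dimension two: elements with equal eigenvalues are power maps. -/
theorem scalar_of_dim_two (hV : ∀ v : V, v ^ p = 1) (hn : Nat.card V = p ^ 2) {g : MulAut V}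
    (hg : ¬ p ∣ orderOf g) {d : V} (hd : d ≠ 1) {v : V} (hv : v ∉ Subgroup.zpowers d) {a : ℕ}
    (hgd : g d = d ^ a) {i : ℕ} (hgv : g v = d ^ i * v ^ a) : ∀ w : V, g w = w ^ a := by
  have hpow : ∀ m : ℕ, (g ^ (m + 1)) v = d ^ ((m + 1) * a ^ m * i) * v ^ a ^ (m + 1) ∧
      (g ^ (m + 1)) d = d ^ a ^ (m + 1) := by
    intro m
    induction m with
    | zero => simp [hgd, hgv]
    | succ m ih =>
      constructor
      · rw [pow_succ', MulAut.mul_apply, ih.1, map_mul, map_pow, map_pow, hgd, hgv, mul_pow, ← mul_assoc,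
          ← pow_mul, ← pow_mul, ← pow_mul, ← pow_add]
        congr 2 <;> ring
      · rw [pow_succ', MulAut.mul_apply, ih.2, map_pow, hgd, ← pow_mul, ← pow_succ']
  obtain ⟨m, hm⟩ : ∃ m, orderOf g = m + 1 := ⟨_, (Nat.succ_pred_eq_of_pos (orderOf_pos g)).symm⟩
  have hg1 : g ^ (m + 1) = 1 := hm ▸ pow_orderOf_eq_one g
  obtain ⟨h1, h2⟩ := hpow m
  rw [hg1, MulAut.one_apply] at h1 h2
  have ha : ((a ^ (m + 1) : ℕ) : ZMod p) = ((1 : ℕ) : ZMod p) :=
    natCast_eq_of_pow hV hd (h2.symm.trans (pow_one d).symm)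
  rw [pow_eq_pow_mod_char hV v ha, pow_one, right_eq_mul] at h1
  have hdi : ((i : ℕ) : ZMod p) = 0 := by
    have := natCast_eq_of_pow (i := (m + 1) * a ^ m * i) (j := 0) hV hd (by rw [h1, pow_zero])
    push_cast at this
    refine (mul_eq_zero.1 this).resolve_left (mul_ne_zero ?_ (pow_ne_zero _ fun e => ?_))
    · intro e
      refine hg (hm ▸ (ZMod.natCast_eq_zero_iff (m + 1) p).1 (by push_cast; exact e))
    · push_cast at ha
      rw [e, zero_pow (Nat.succ_ne_zero m)] at ha
      exact zero_ne_one ha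
  have hgv' : g v = v ^ a := by
    rw [hgv, pow_eq_pow_mod_char hV d (j := 0) (by exact_mod_cast hdi), pow_zero, one_mul]
  let K : Subgroup V := MonoidHom.eqLocus g.toMonoidHom (powMonoidHom a)
  have hK : Subgroup.zpowers d < K := by
    refine lt_of_le_of_ne (Subgroup.zpowers_le.2 hgd) fun e => hv ?_
    rw [e]; exact hgv'
  have hd' : Nat.card (Subgroup.zpowers d) = p := by rw [Nat.card_zpowers, orderOf_eq_prime (hV d) hd]
  have hlt : p < Nat.card K := hd' ▸ lt_of_le_of_ne (Subgroup.card_le_of_le hK.le)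
    (fun e => hK.ne (Subgroup.eq_of_le_of_card_ge hK.le e.ge))
  obtain ⟨k, hk, hk'⟩ := (Nat.dvd_prime_pow hp.out).1 (hn ▸ K.card_subgroup_dvd_card)
  have hKt : K = ⊤ := by
    refine Subgroup.eq_top_of_card_eq K ?_
    rw [hn, hk']
    rcases (by omega : k = 0 ∨ k = 1 ∨ k = 2) with rfl | rfl | rfl
    · rw [hk', pow_zero] at hlt; have := hp.out.one_lt; omega
    · rw [hk', pow_one] at hlt; omega
    · rfl
  intro w
  exact (hKt ▸ Subgroup.mem_top w : w ∈ K)

/-- A homomorphism of the stabilizer into a cyclic group with scalar kernel. -/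
theorem exists_ratio_dim_two (hV : ∀ v : V, v ^ p = 1) (hn : Nat.card V = p ^ 2) (S : Subgroup (MulAut V))
    (hS : ¬ p ∣ Nat.card S) (D : Subgroup V) (hD : Nat.card D = p)
    (hSD : ∀ g ∈ S, D.map g.toMonoidHom = D) :
    ∃ (C : Type) (_ : CommGroup C) (_ : IsCyclic C) (ψ : S →* C),
      ∀ g : S, ψ g = 1 → ∀ f : MulAut V, f * g = (g : MulAut V) * f := by
  classical
  haveI : Nontrivial D := Finite.one_lt_card_iff_nontrivial.1 (hD ▸ hp.out.one_lt)
  obtain ⟨⟨d, hdD⟩, hd1⟩ := exists_ne (1 : D)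
  have hd : d ≠ 1 := fun e => hd1 (Subtype.ext e)
  have hDd : D = Subgroup.zpowers d := (Subgroup.eq_of_le_of_card_ge (Subgroup.zpowers_le.2 hdD) (by
    rw [Nat.card_zpowers, orderOf_eq_prime (hV d) hd, hD])).symm
  obtain ⟨v, hv⟩ : ∃ v : V, v ∉ D := by
    by_contra hno
    push Not at hno
    have : D = ⊤ := eq_top_iff.2 fun x _ => hno x
    rw [this, Subgroup.card_top, hn] at hD
    have := hp.out.one_lt
    nlinarith
  have hspan : ∀ w : V, ∃ b : ℕ, w * (v ^ b)⁻¹ ∈ D := by
    intro w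
    have hidx : Nat.card (V ⧸ D) = p := by
      have := D.card_eq_card_quotient_mul_card_subgroup
      rw [hn, hD, pow_two] at this
      exact Nat.eq_of_mul_eq_mul_right hp.out.pos this.symm
    have hgen := mem_zpowers_of_prime_card hidx (g := (v : V ⧸ D)) (g' := (w : V ⧸ D))
      fun e => hv ((QuotientGroup.eq_one_iff v).1 e)
    obtain ⟨b, hb⟩ := mem_powers_iff_mem_zpowers.2 hgen
    refine ⟨b, (QuotientGroup.eq_one_iff _).1 ?_⟩
    rw [QuotientGroup.mk_mul, QuotientGroup.mk_inv, QuotientGroup.mk_pow]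
    exact mul_inv_eq_one.2 hb.symm
  have hA : ∀ g : S, ∃ a : ℕ, (g : MulAut V) d = d ^ a := fun g => by
    have h : (g : MulAut V) d ∈ Subgroup.zpowers d := hDd ▸ (hSD g g.2).le ⟨d, hdD, rfl⟩
    obtain ⟨a, ha⟩ := mem_powers_iff_mem_zpowers.2 h
    exact ⟨a, ha.symm⟩
  choose a ha using hA
  choose b hb using fun g : S => hspan ((g : MulAut V) v)
  have hDst : ∀ (g : S) (w : V), w ∈ D → (g : MulAut V) w ∈ D := fun g w hw => (hSD g g.2).le ⟨w, hw, rfl⟩
  have haN : ∀ g : S, (a g : ZMod p) ≠ 0 := fun g e => hd ((g : MulAut V).injective (by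
    rw [map_one, ha g, pow_eq_pow_mod_char hV d (j := 0) (by exact_mod_cast e), pow_zero]))
  have hv1 : (v : V ⧸ D) ≠ 1 := fun e => hv ((QuotientGroup.eq_one_iff v).1 e)
  have hmod : ∀ i j : ℕ, v ^ i * (v ^ j)⁻¹ ∈ D → (i : ZMod p) = j := fun i j h => by
    refine natCast_eq_of_pow (V := V ⧸ D) (fun w => ?_) hv1 ?_
    · obtain ⟨w, rfl⟩ := QuotientGroup.mk'_surjective D w
      rw [← map_pow, hV, map_one]
    · rw [← QuotientGroup.mk_pow, ← QuotientGroup.mk_pow, ← mul_inv_eq_one, ← QuotientGroup.mk_inv,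
        ← QuotientGroup.mk_mul, QuotientGroup.eq_one_iff]
      exact h
  have hbN : ∀ g : S, (b g : ZMod p) ≠ 0 := by
    intro g e
    have h1 : (g : MulAut V) v ∈ D := by
      have := hb g
      rwa [pow_eq_pow_mod_char hV v (j := 0) (by exact_mod_cast e), pow_zero, inv_one, mul_one] at this
    obtain ⟨w, hw, hwv⟩ := (hSD g g.2).ge h1
    exact hv ((g : MulAut V).injective hwv ▸ hw)
  have hmulA : ∀ g h : S, (a (g * h) : ZMod p) = a g * a h := by
    intro g h
    rw [← Nat.cast_mul]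
    refine natCast_eq_of_pow hV hd ?_
    rw [← ha (g * h), Subgroup.coe_mul, MulAut.mul_apply, ha h, map_pow, ha g, ← pow_mul]
  have hmulB : ∀ g h : S, (b (g * h) : ZMod p) = b g * b h := by
    intro g h
    rw [← Nat.cast_mul]
    refine hmod _ _ ?_
    have h1 : (g : MulAut V) ((h : MulAut V) v) * (v ^ (b g * b h))⁻¹ ∈ D := by
      have e : (g : MulAut V) ((h : MulAut V) v) * (v ^ (b g * b h))⁻¹ =
          (g : MulAut V) ((h : MulAut V) v * (v ^ b h)⁻¹) * ((g : MulAut V) v * (v ^ b g)⁻¹) ^ b h := by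
        rw [map_mul, map_inv, map_pow, mul_pow, inv_pow, ← pow_mul, mul_assoc, inv_mul_cancel_left]
      rw [e]
      exact mul_mem (hDst g _ (hb h)) (pow_mem (hb g) _)
    have h2 := mul_mem (inv_mem (hb (g * h))) h1
    rwa [Subgroup.coe_mul, MulAut.mul_apply, mul_inv_rev, inv_inv, mul_assoc, inv_mul_cancel_left] at h2
  let ψ : S →* (ZMod p)ˣ := MonoidHom.mk'
    (fun g => Units.mk0 (b g : ZMod p) (hbN g) * (Units.mk0 (a g : ZMod p) (haN g))⁻¹) fun g h => by
    refine Units.ext ?_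
    simp only [Units.val_mul, Units.val_inv_eq_inv_val, Units.val_mk0, hmulA, hmulB, mul_inv]
    ring
  refine ⟨(ZMod p)ˣ, inferInstance, inferInstance, ψ, fun g hg f => ?_⟩
  have hba : (b g : ZMod p) = a g := congrArg Units.val (mul_inv_eq_one.1 hg)
  obtain ⟨i, hi⟩ : ∃ i : ℕ, d ^ i = (g : MulAut V) v * (v ^ a g)⁻¹ := by
    refine mem_powers_iff_mem_zpowers.2 (hDd ▸ ?_)
    have h := hb g
    rwa [pow_eq_pow_mod_char hV v hba] at h
  refine central_of_pow (scalar_of_dim_two hV hn ?_ hd (hDd ▸ hv) (ha g) (i := i) ?_) f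
  · exact fun h => hS (h.trans (Subgroup.orderOf_coe g ▸ orderOf_dvd_natCard g))
  · rw [hi, inv_mul_cancel_right]

/-- Semilinear groups of prime degree. -/
theorem exists_ratio_semilinear {n : ℕ} (hnp : n.Prime) (hV : ∀ v : V, v ^ p = 1)
    (hn : Nat.card V = p ^ n) (S : Subgroup (MulAut V)) (D : Subgroup V) (hD0 : D ≠ ⊥) (hDt : D ≠ ⊤)
    (hSD : ∀ g ∈ S, D.map g.toMonoidHom = D) {e : Additive V ≃+ GaloisField p n}
    (he : SubspaceTrans.Semi S e) :
    ∃ (C : Type) (_ : CommGroup C) (_ : IsCyclic C) (ψ : S →* C),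
      ∀ g : S, ψ g = 1 → ∀ f : MulAut V, f * g = (g : MulAut V) * f := by
  classical
  haveI := Fact.mk hnp
  set F := GaloisField p n
  haveI : Finite F := Finite.of_equiv _ e.toEquiv
  choose a σ hσ using fun g : S => he g g.2
  have uniq : ∀ {c c' : Fˣ} {τ τ' : F ≃+* F}, (∀ x : F, (c : F) * τ x = c' * τ' x) → τ = τ' := by
    intro c c' τ τ' h
    have h1 := h 1
    rw [map_one, map_one, mul_one, mul_one] at h1
    exact RingEquiv.ext fun x => mul_left_cancel₀ c.ne_zero (by rw [h x, h1])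
  have hσ' : ∀ (g : S) (x : F), e (Additive.ofMul ((g : MulAut V) (Additive.toMul (e.symm x)))) =
      (a g : F) * σ g x := fun g x => by
    rw [hσ g]
    congr 2
    exact e.apply_symm_apply x
  have hmul : ∀ g h : S, σ (g * h) = σ g * σ h := fun g h =>
    uniq (c := a (g * h)) (c' := a g * Units.map (σ g : F →* F) (a h)) fun x => by
      rw [← hσ' (g * h) x, Subgroup.coe_mul, MulAut.mul_apply]
      rw [hσ g, hσ' h x, map_mul, Units.val_mul, mul_assoc]
      rfl
  have hCcard : Nat.card (F ≃+* F) = n := SubspaceTrans.card_ringAut n hnp.ne_zero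
  haveI : Finite (F ≃+* F) := Nat.finite_of_card_ne_zero (by rw [hCcard]; exact hnp.ne_zero)
  haveI : IsCyclic (F ≃+* F) := isCyclic_of_prime_card hCcard
  let ψ : S →* (F ≃+* F) := MonoidHom.mk' σ hmul
  refine ⟨F ≃+* F, IsCyclic.commGroup, inferInstance, ψ, fun g hg f => ?_⟩
  have hmult : ∀ w : V, e (Additive.ofMul ((g : MulAut V) w)) = (a g : F) * e (Additive.ofMul w) := fun w => by
    rw [hσ g, show σ g = 1 from hg]
    rfl
  let Dset : AddSubgroup F := (Subgroup.toAddSubgroup D).map e.toAddMonoidHom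
  have hDset : ∀ w ∈ D, e (Additive.ofMul w) ∈ Dset := fun w hw => ⟨Additive.ofMul w, hw, rfl⟩
  let R : Subring F :=
    { carrier := {c | ∀ x ∈ Dset, c * x ∈ Dset}
      one_mem' := fun x hx => by rwa [one_mul]
      zero_mem' := fun x _ => by rw [zero_mul]; exact zero_mem _
      mul_mem' := fun {c c'} hc hc' x hx => by rw [mul_assoc]; exact hc _ (hc' x hx)
      add_mem' := fun {c c'} hc hc' x hx => by rw [add_mul]; exact add_mem (hc x hx) (hc' x hx)
      neg_mem' := fun {c} hc x hx => by rw [neg_mul]; exact neg_mem (hc x hx) }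
  haveI : Finite R := inferInstance
  letI : Fintype R := Fintype.ofFinite R
  letI : Field R := Fintype.fieldOfDomain R
  have hgR : (a g : F) ∈ R := by
    rintro _ ⟨w, hw, rfl⟩
    refine ⟨Additive.ofMul ((g : MulAut V) (Additive.toMul w)), (hSD g g.2).le ⟨_, hw, rfl⟩, ?_⟩
    exact hmult (Additive.toMul w)
  let DR : Submodule R F :=
    { carrier := Dset
      add_mem' := fun ha hb => add_mem ha hb
      zero_mem' := zero_mem _
      smul_mem' := fun c x hx => c.2 x hx }
  haveI : Module.Finite R F := Module.Finite.of_finite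
  have hFR := Module.natCard_eq_pow_finrank (K := R) (V := F)
  have hDR := Module.natCard_eq_pow_finrank (K := R) (V := DR)
  have hFc : Nat.card F = p ^ n := by rw [← hn]; exact Nat.card_congr e.symm.toEquiv
  obtain ⟨d, -, hd⟩ : ∃ d ≤ n, Nat.card R = p ^ d :=
    (Nat.dvd_prime_pow hp.out).1 (hFc ▸ (AddSubgroup.card_addSubgroup_dvd_card R.toAddSubgroup))
  rw [hFc, hd, ← pow_mul] at hFR
  have hdn := Nat.pow_right_injective hp.out.two_le hFR
  have hDc : Nat.card DR = Nat.card D := by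
    refine (Nat.card_congr (Equiv.ofBijective
      (fun w : D => (⟨e (Additive.ofMul (w : V)), hDset _ w.2⟩ : DR)) ⟨?_, ?_⟩)).symm
    · intro w w' h
      exact Subtype.ext (Additive.ofMul.injective (e.injective (congrArg Subtype.val h)))
    · rintro ⟨_, w, hw, rfl⟩
      exact ⟨⟨Additive.toMul w, hw⟩, rfl⟩
  have hd1 : d = 1 := by
    rcases hnp.eq_one_or_self_of_dvd d ⟨_, hdn⟩ with h | h
    · exact h
    · exfalso
      rw [hDc, hd, h] at hDR
      rcases Nat.eq_zero_or_pos (Module.finrank R DR) with h0 | h0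
      · rw [h0, pow_zero] at hDR
        exact hD0 (Subgroup.card_eq_one.1 hDR)
      · refine hDt (Subgroup.eq_top_of_card_eq D (le_antisymm (Subgroup.card_le_card_group D) ?_))
        rw [hn, hDR]
        exact Nat.le_self_pow h0.ne' _
  rw [hd1, pow_one] at hd
  obtain ⟨i, hi⟩ : ∃ i : ℕ, (i : F) = a g := by
    have hb : Function.Bijective (fun i : ZMod p => (⟨(i.val : F), natCast_mem R _⟩ : R)) := by
      rw [Nat.bijective_iff_injective_and_card]
      refine ⟨fun i j h => ?_, by rw [Nat.card_zmod, hd]⟩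
      have h' : ((i.val : ℕ) : F) = (j.val : F) := congrArg Subtype.val h
      exact ZMod.val_injective p (Nat.ModEq.eq_of_lt_of_lt ((CharP.natCast_eq_natCast F p).1 h')
        (ZMod.val_lt i) (ZMod.val_lt j))
    obtain ⟨i, hi⟩ := hb.2 ⟨_, hgR⟩
    exact ⟨i.val, congrArg Subtype.val hi⟩
  refine central_of_pow (a := i) (fun w => Additive.ofMul.injective (e.injective ?_)) f
  rw [hmult, ← hi, ofMul_pow, map_nsmul, nsmul_eq_mul]

/-- The stabilizer of a proper subgroup of a natural module. -/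
theorem stabilizer_small {n : ℕ} (hn2 : 2 ≤ n) (hV : ∀ v : V, v ^ p = 1) (hn : Nat.card V = p ^ n)
    (Hb : Subgroup (MulAut V)) (hsol : Group.IsSolvable Hb) (hB : AbConj Hb) (hcop : ¬ p ∣ Nat.card Hb)
    (hlines : ∀ A B : Subgroup V, Nat.card A = p → Nat.card B = p → ∃ g ∈ Hb, A.map g.toMonoidHom = B)
    (hplanes : ∀ A B : Subgroup V, Nat.card A = p ^ 2 → Nat.card B = p ^ 2 →
      ∃ g ∈ Hb, A.map g.toMonoidHom = B)
    (D : Subgroup V) (hD0 : D ≠ ⊥) (hDt : D ≠ ⊤) {x y : MulAut V} (hx : x ∈ Hb) (hy : y ∈ Hb)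
    (hxD : D.map x.toMonoidHom = D) (hyD : D.map y.toMonoidHom = D) :
    x * y = y * x ∧ ∀ r : ℕ, r.Prime → orderOf x = r → orderOf y = r → y ∈ Subgroup.zpowers x := by
  haveI : Finite (MulAut V) := Finite.of_injective (fun g : MulAut V => g.toEquiv) fun a b h =>
    MulEquiv.ext fun v => Equiv.congr_fun h v
  let S : Subgroup (MulAut V) :=
    { carrier := {g | g ∈ Hb ∧ D.map g.toMonoidHom = D}
      one_mem' := ⟨one_mem Hb, Subgroup.map_id D⟩
      mul_mem' := fun {g h} hg hh => ⟨mul_mem hg.1 hh.1, by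
        conv_rhs => rw [← hg.2, ← hh.2, Subgroup.map_map]
        rfl⟩
      inv_mem' := fun {g} hg => ⟨inv_mem hg.1, by
        conv_lhs => rw [← hg.2, Subgroup.map_map]
        convert Subgroup.map_id D using 2
        exact MonoidHom.ext fun w => MulAut.inv_apply_self _ g w⟩ }
  have hSH : S ≤ Hb := fun g hg => hg.1
  have hSD : ∀ g ∈ S, D.map g.toMonoidHom = D := fun g hg => hg.2
  have hScop : ¬ p ∣ Nat.card S := fun h => hcop (h.trans (Subgroup.card_dvd_of_le hSH))
  obtain ⟨C, _, _, ψ, hψ⟩ : ∃ (C : Type) (_ : CommGroup C) (_ : IsCyclic C) (ψ : S →* C),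
      ∀ g : S, ψ g = 1 → ∀ f : MulAut V, f * g = (g : MulAut V) * f := by
    rcases eq_or_lt_of_le hn2 with h2 | h2
    · subst h2
      refine exists_ratio_dim_two hV hn S hScop D ?_ hSD
      obtain ⟨k, hk, hk'⟩ := (Nat.dvd_prime_pow hp.out).1 (hn ▸ D.card_subgroup_dvd_card)
      rcases (by omega : k = 0 ∨ k = 1 ∨ k = 2) with rfl | rfl | rfl
      · exact absurd (Subgroup.card_eq_one.1 (hk'.trans (pow_zero p))) hD0
      · rw [hk', pow_one]
      · exact absurd (Subgroup.eq_top_of_card_eq D (hk'.trans hn.symm)) hDt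
    · obtain ⟨hn', -, -, e, he⟩ := SubspaceTrans.main h2 hV hn Hb hsol hlines hplanes
      refine exists_ratio_semilinear ?_ hV hn S D hD0 hDt hSD (e := e) fun g hg => he g (hSH hg)
      rcases hn' with rfl | ⟨rfl, -⟩ <;> norm_num
  set X : S := ⟨x, hx, hxD⟩
  set Y : S := ⟨y, hy, hyD⟩
  constructor
  · have hker : ψ.ker ≤ Subgroup.center S := fun g hg =>
      Subgroup.mem_center_iff.2 fun f => Subtype.ext (hψ g hg f)
    haveI : IsMulCommutative S := ⟨⟨commutative_of_cyclic_center_quotient ψ hker⟩⟩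
    exact congrArg Subtype.val (mul_comm' X Y)
  · intro r hr hxr hyr
    haveI := Fact.mk hr
    -- a central element of order `r` generates all subgroups of order `r`
    have hcent : ∀ c : S, ψ c = 1 → orderOf (c : MulAut V) = r →
        y ∈ Subgroup.zpowers x := by
      intro c hc hcr
      have key : ∀ w ∈ Hb, orderOf w = r → Subgroup.zpowers w = Subgroup.zpowers (c : MulAut V) := by
        intro w hw hwr
        obtain ⟨g, hg⟩ := hB (Subgroup.zpowers ⟨(c : MulAut V), hSH c.2⟩) (Subgroup.zpowers ⟨w, hw⟩)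
          inferInstance inferInstance
          (by rw [Nat.card_zpowers, Nat.card_zpowers, Subgroup.orderOf_mk, Subgroup.orderOf_mk, hcr, hwr])
        refine Subgroup.eq_of_le_of_card_ge ?_ (by rw [Nat.card_zpowers, Nat.card_zpowers, hcr, hwr])
        rw [Subgroup.zpowers_le]
        obtain ⟨u, hu, hu'⟩ := hg.le (Subgroup.mem_zpowers (⟨w, hw⟩ : Hb))
        obtain ⟨k, rfl⟩ := Subgroup.mem_zpowers_iff.1 hu
        have h1 : ((g : MulAut V) * (c : MulAut V) * (g : MulAut V)⁻¹) ^ k = w := by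
          rw [conj_zpow]
          have := congrArg Subtype.val hu'
          simpa [mul_assoc] using this
        rw [hψ c hc, mul_inv_cancel_right] at h1
        exact h1 ▸ Subgroup.zpow_mem _ (Subgroup.mem_zpowers _) k
      rw [key x hx hxr, ← key y hy hyr]
      exact Subgroup.mem_zpowers y
    by_cases hX : ψ X = 1
    · exact hcent X hX hxr
    by_cases hY : ψ Y = 1
    · exact hcent Y hY hyr
    have hordX : orderOf X = r := by rw [← Subgroup.orderOf_coe]; exact hxr
    have hordY : orderOf Y = r := by rw [← Subgroup.orderOf_coe]; exact hyr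
    have hoX : orderOf (ψ X) = r := orderOf_eq_prime (by rw [← map_pow, ← hordX, pow_orderOf_eq_one, map_one]) hX
    have hoY : orderOf (ψ Y) = r := orderOf_eq_prime (by rw [← map_pow, ← hordY, pow_orderOf_eq_one, map_one]) hY
    have hzz : Subgroup.zpowers (ψ Y) ≤ Subgroup.zpowers (ψ X) := by
      haveI : Finite (ψ.range) := Finite.of_surjective ψ.rangeRestrict ψ.rangeRestrict_surjective
      have key := AbelianConjQuotient.le_of_card_dvd (C := ψ.range)
        (Subgroup.zpowers ⟨ψ Y, Y, rfl⟩) (Subgroup.zpowers ⟨ψ X, X, rfl⟩)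
        (by rw [Nat.card_zpowers, Nat.card_zpowers, ← Subgroup.orderOf_coe, ← Subgroup.orderOf_coe]; rw [hoX, hoY])
      rw [Subgroup.zpowers_le]
      obtain ⟨k, hk⟩ := Subgroup.mem_zpowers_iff.1 (key (Subgroup.mem_zpowers _))
      exact Subgroup.mem_zpowers_iff.2 ⟨k, by simpa using congrArg Subtype.val hk⟩
    obtain ⟨k, hk⟩ := Subgroup.mem_zpowers_iff.1 (hzz (Subgroup.mem_zpowers _))
    set c : S := Y * X ^ (-k) with hc
    have hc1 : ψ c = 1 := by rw [hc, map_mul, map_zpow, zpow_neg, hk, mul_inv_cancel]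
    by_cases hce : c = 1
    · rw [hc, zpow_neg, mul_inv_eq_one] at hce
      exact Subgroup.mem_zpowers_iff.2 ⟨k, by simpa [X, Y] using congrArg Subtype.val hce.symm⟩
    refine hcent c hc1 ?_
    have hcr : c ^ r = 1 := by
      have hXY : Commute Y (X ^ (-k)) := by
        refine Commute.zpow_right ?_ _
        have hker : ψ.ker ≤ Subgroup.center S := fun g hg =>
          Subgroup.mem_center_iff.2 fun f => Subtype.ext (hψ g hg f)
        haveI : IsMulCommutative S := ⟨⟨commutative_of_cyclic_center_quotient ψ hker⟩⟩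
        exact mul_comm' Y X
      rw [hc, hXY.mul_pow, show Y ^ r = 1 from hordY ▸ pow_orderOf_eq_one Y, one_mul, ← zpow_natCast,
        ← zpow_mul, mul_comm, zpow_mul, zpow_natCast, show X ^ r = 1 from hordX ▸ pow_orderOf_eq_one X, one_zpow]
    rw [Subgroup.orderOf_coe]
    exact orderOf_eq_prime hcr hce

end stabilizer

section main

/-- Minimal normal subgroups. -/
def IsMin {G : Type u} [Group G] (N : Subgroup G) : Prop :=
  N.Normal ∧ N ≠ ⊥ ∧ ∀ K : Subgroup G, K.Normal → K ≤ N → K = ⊥ ∨ K = N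

variable {G : Type u} [Group G] [Finite G]

/-- All subgroups of equal order are conjugate. -/
def AllConj (G : Type*) [Group G] : Prop :=
  ∀ A B : Subgroup G, Nat.card A = Nat.card B → ∃ g : G, B = A.map (MulAut.conj g).toMonoidHom

/-- Reduction modulo a normal subgroup contained in both, or of coprime order. -/
theorem conj_of_quotient (N : Subgroup G) [N.Normal] (hq : AllConj (G ⧸ N)) (hsol : Group.IsSolvable G)
    (A B : Subgroup G) (h : Nat.card A = Nat.card B)
    (hN : (N ≤ A ∧ N ≤ B) ∨ (Nat.card N).Coprime (Nat.card A)) :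
    ∃ g : G, B = A.map (MulAut.conj g).toMonoidHom := by
  set π := QuotientGroup.mk' N
  have hcard : ∀ X : Subgroup G, Nat.card X = Nat.card (X.map π) * Nat.card ↥(N ⊓ X) := fun X => by
    have h1 := Subgroup.card_eq_card_quotient_mul_card_subgroup (π.comp X.subtype).ker
    rw [Nat.card_congr (QuotientGroup.quotientKerEquivRange _).toEquiv, MonoidHom.range_comp,
      Subgroup.range_subtype, ← MonoidHom.comap_ker, QuotientGroup.ker_mk',
      ← Subgroup.card_map_of_injective X.subtype_injective] at h1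
    rw [h1]
    congr 1
    show Nat.card ↥((N.subgroupOf X).map X.subtype) = _
    rw [Subgroup.subgroupOf_map_subtype]
  have hint : Nat.card ↥(N ⊓ A) = Nat.card ↥(N ⊓ B) := by
    rcases hN with ⟨h1, h2⟩ | hc
    · rw [inf_eq_left.2 h1, inf_eq_left.2 h2]
    · rw [Subgroup.inf_eq_bot_of_coprime hc, Subgroup.inf_eq_bot_of_coprime (h ▸ hc)]
  have himg : Nat.card (A.map π) = Nat.card (B.map π) := by
    have := (hcard A).symm.trans (h.trans (hcard B))
    rw [hint] at this
    exact Nat.eq_of_mul_eq_mul_right Nat.card_pos this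
  obtain ⟨gb, hgb⟩ := hq (A.map π) (B.map π) himg
  obtain ⟨g, rfl⟩ := QuotientGroup.mk'_surjective N gb
  set A' := A.map (MulAut.conj g).toMonoidHom with hA'
  have hA'c : Nat.card A' = Nat.card A :=
    Subgroup.card_map_of_injective (f := (MulAut.conj g).toMonoidHom) (MulAut.conj g).injective
  have hBle : B ≤ N ⊔ A' := by
    intro b hb
    obtain ⟨_, ⟨a, ha, rfl⟩, e⟩ := hgb.le ⟨b, hb, rfl⟩
    have e' : π (g * a * g⁻¹) = π b := by rw [map_mul, map_mul, map_inv]; exact e
    have hb' : b = g * a * g⁻¹ * ((g * a * g⁻¹)⁻¹ * b) := by group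
    rw [hb']
    exact mul_mem (Subgroup.mem_sup_right ⟨a, ha, rfl⟩) (Subgroup.mem_sup_left (QuotientGroup.eq.1 e'))
  rcases hN with ⟨h1, h2⟩ | hc
  · refine ⟨g, Subgroup.eq_of_le_of_card_ge ?_ (by rw [hA'c, h])⟩
    have : N ≤ A' := fun x hx => ⟨g⁻¹ * x * g, h1 (by
      simpa using Subgroup.Normal.conj_mem ‹N.Normal› x hx g⁻¹), by simp [mul_assoc]⟩
    exact hBle.trans (sup_le this le_rfl)
  · obtain ⟨n, -, hn⟩ := Grp.exists_conj_of_le_sup (N := N) (H := A') (K := B)
      ((Subgroup.normalizer_eq_top (H := N)).symm ▸ le_top) hBle (by rw [hA'c, h])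
      (by rw [hA'c]; exact hc) (Or.inl (Grp.isSolvable_of_injective N.subtype N.subtype_injective hsol))
    refine ⟨n * g, ?_⟩
    rw [← hn, hA', ← Grp.map_conj_eq_smul, Subgroup.map_map]
    congr 1
    exact MonoidHom.ext fun x => by simp [mul_assoc]

/-- The core case: every minimal normal subgroup meets `A` in a proper nontrivial subgroup. -/
theorem conj_core (hB : AbConj G) (hsol : Group.IsSolvable G)
    (hbad : ∀ N : Subgroup G, IsMin N → ∃ p t : ℕ, p.Prime ∧ 2 ≤ t ∧ Nat.card N = p ^ t ∧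
      IsMulCommutative N ∧ (∀ x ∈ N, x ^ p = 1) ∧ ∀ P : Sylow p G, (P : Subgroup G) = N)
    (A B : Subgroup G) (h : Nat.card A = Nat.card B)
    (hprop : ∀ N : Subgroup G, IsMin N → N ⊓ A ≠ ⊥ ∧ ¬ N ≤ A) :
    ∃ g : G, B = A.map (MulAut.conj g).toMonoidHom := by
  classical
  haveI := hsol
  set 𝒩 := {N : Subgroup G | IsMin N}
  set S : Set G := {x | ∃ N ∈ 𝒩, x ∈ N}
  set F : Subgroup G := Subgroup.closure S with hF
  have hNF : ∀ N ∈ 𝒩, N ≤ F := fun N hN x hx => Subgroup.subset_closure ⟨N, hN, hx⟩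
  have hScomm : ∀ a ∈ S, ∀ b ∈ S, a * b = b * a := by
    rintro a ⟨M, hM, ha⟩ b ⟨N, hN, hb⟩
    by_cases hMN : M = N
    · subst hMN
      obtain ⟨p, t, -, -, -, hab, -⟩ := hbad M hM
      exact setLike_mul_comm ha hb
    · haveI := hM.1
      haveI := hN.1
      refine (Subgroup.commute_of_normal_of_disjoint M N hM.1 hN.1 (disjoint_iff.2 ?_) a b ha hb).eq
      rcases hM.2.2 (M ⊓ N) inferInstance inf_le_left with e | e
      · exact e
      · exact absurd ((hN.2.2 M hM.1 (e ▸ inf_le_right)).resolve_left hM.2.1) hMN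
  haveI hFab : IsMulCommutative F := Subgroup.isMulCommutative_closure hScomm
  haveI hFn : F.Normal := by
    refine ⟨fun x hx g => ?_⟩
    have : F ≤ F.comap (MulAut.conj g).toMonoidHom := by
      rw [hF, Subgroup.closure_le]
      rintro y ⟨N, hN, hy⟩
      exact Subgroup.subset_closure ⟨N, hN, hN.1.conj_mem y hy g⟩
    exact this hx
  have hcopF : (Nat.card F).Coprime F.index := by
    refine Nat.coprime_of_dvd fun q hq hqF hqi => ?_
    haveI := Fact.mk hq
    obtain ⟨x, hx⟩ := exists_prime_orderOf_dvd_card' (G := F) q hqF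
    rw [← Subgroup.orderOf_coe] at hx
    let K : Finset (Subgroup G) := (Set.toFinite 𝒩).toFinset
    choose! pN tN hpN using hbad
    let E := ∏ N ∈ K, pN N
    have hE : ∀ y ∈ F, y ^ E = 1 := by
      intro y hy
      induction hy using Subgroup.closure_induction with
      | mem y hy =>
        obtain ⟨N, hN, hy⟩ := hy
        obtain ⟨c, hc⟩ := Finset.dvd_prod_of_mem pN ((Set.toFinite 𝒩).mem_toFinset.2 hN : N ∈ K)
        show y ^ (∏ N ∈ K, pN N) = 1
        rw [hc, pow_mul, (hpN N hN).2.2.2.2.1 y hy, one_pow]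
      | one => exact one_pow _
      | mul a b ha hb iha ihb =>
        rw [(show Commute a b from setLike_mul_comm (ha : a ∈ F) hb).mul_pow, iha, ihb, one_mul]
      | inv a _ iha => rw [inv_pow, iha, inv_one]
    obtain ⟨N, hN, hd⟩ := (hq.prime.dvd_finset_prod_iff pN).1 (hx ▸ orderOf_dvd_of_pow_eq_one (hE x x.2))
    replace hN : N ∈ 𝒩 := (Set.toFinite 𝒩).mem_toFinset.1 hN
    obtain ⟨hp', -, -, -, -, hP⟩ := hpN N hN
    obtain rfl := (Nat.prime_dvd_prime_iff_eq hq hp').1 hd
    obtain ⟨P⟩ := (inferInstance : Nonempty (Sylow (pN N) G))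
    exact P.not_dvd_index (hqi.trans (Subgroup.index_dvd_of_le ((hP P).le.trans (hNF N hN))))
  have hsolF : Group.IsSolvable F := Grp.isSolvable_of_injective F.subtype F.subtype_injective hsol
  have hinf : ∀ X : Subgroup G, Nat.card ↥(F ⊓ X) = Nat.gcd (Nat.card X) (Nat.card F) := by
    intro X
    have h1 : Nat.card ↥(F ⊓ X) * F.relIndex X = Nat.card X := by
      rw [← (F.subgroupOf X).card_mul_index, ← Subgroup.card_map_of_injective X.subtype_injective,
        Subgroup.subgroupOf_map_subtype]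
      rfl
    have h2 : (F.relIndex X).Coprime (Nat.card F) :=
      (hcopF.coprime_dvd_right (Subgroup.relIndex_dvd_index_of_normal F X)).symm
    conv_rhs => rw [← h1]
    rw [Nat.Coprime.gcd_mul_right_cancel _ h2,
      Nat.gcd_eq_left (Subgroup.card_dvd_of_le inf_le_left)]
  obtain ⟨g, hg⟩ := hB (F ⊓ A) (F ⊓ B)
    ⟨⟨fun a b => Subtype.ext (setLike_mul_comm a.2.1 b.2.1)⟩⟩
    ⟨⟨fun a b => Subtype.ext (setLike_mul_comm a.2.1 b.2.1)⟩⟩ (by rw [hinf, hinf, h])
  -- move `A`
  set A' := A.map (MulAut.conj g).toMonoidHom with hA'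
  have hA'c : Nat.card A' = Nat.card A :=
    Subgroup.card_map_of_injective (f := (MulAut.conj g).toMonoidHom) (MulAut.conj g).injective
  set D := F ⊓ B with hD
  have hDA : F ⊓ A' = D := by
    refine le_antisymm ?_ ?_
    · rintro x ⟨hxF, a, ha, rfl⟩
      have : a ∈ F := by
        have := hFn.conj_mem _ hxF g⁻¹
        simpa [mul_assoc] using this
      exact hg.ge ⟨a, ⟨this, ha⟩, rfl⟩
    · rw [hg]
      rintro _ ⟨a, ⟨haF, ha⟩, rfl⟩
      exact ⟨hFn.conj_mem a haF g, a, ha, rfl⟩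
  suffices ∃ f : G, B = A'.map (MulAut.conj f).toMonoidHom by
    obtain ⟨f, hf⟩ := this
    refine ⟨f * g, ?_⟩
    rw [hf, hA', Subgroup.map_map, map_mul]
    rfl
  set T := Subgroup.normalizer (D : Set G)
  have hnorm : ∀ X : Subgroup G, F ⊓ X = D → X ≤ T := by
    intro X hX x hx
    rw [Subgroup.mem_normalizer_iff]
    intro d
    rw [← hX]
    constructor
    · exact fun hd => ⟨hFn.conj_mem d hd.1 x, X.mul_mem (X.mul_mem hx hd.2) (X.inv_mem hx)⟩
    · intro hd
      have h1 := hFn.conj_mem _ hd.1 x⁻¹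
      have h2 := X.mul_mem (X.mul_mem (X.inv_mem hx) hd.2) hx
      simp [mul_assoc] at h1 h2
      exact ⟨h1, h2⟩
  have hA'T : A' ≤ T := hnorm A' hDA
  have hBT : B ≤ T := hnorm B rfl
  set π := QuotientGroup.mk' F
  have hCF : ∀ x : G, (∀ N ∈ 𝒩, ∀ y ∈ N, x * y = y * x) → x ∈ F := by
    intro x hx
    have hfit : Cfsg.fittingSubgroup G ≤ F := by
      rw [Grp.fittingSubgroup_eq_iSup_pCore]
      refine iSup_le fun q => ?_
      haveI := Fact.mk q.2
      by_cases hq : Cfsg.pCore (q : ℕ) G = ⊥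
      · rw [hq]; exact bot_le
      haveI : (Cfsg.pCore (q : ℕ) G).Normal := Grp.pCore_isNormal
      obtain ⟨N, hNn, hN, hNle, hmin⟩ := Grp.exists_minimal_normal_le hq
      obtain ⟨p, t, hp, ht, hc, -, -, hP⟩ := hbad N ⟨hNn, hN, hmin⟩
      haveI := Fact.mk hp
      have hpq : p = q := by
        obtain ⟨k, hk⟩ := ((Grp.pCore_isPGroup (p := (q : ℕ)) (G := G)).to_le hNle).exists_card_eq
        rw [hc] at hk
        exact (Nat.prime_dvd_prime_iff_eq hp q.2).1 (hp.dvd_of_dvd_pow (n := k) (hk ▸ dvd_pow_self p (by omega)))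
      subst hpq
      obtain ⟨P⟩ := (inferInstance : Nonempty (Sylow (q : ℕ) G))
      exact ((Grp.pCore_le_sylow P).trans (hP P).le).trans (hNF N ⟨hNn, hN, hmin⟩)
    refine hfit (Grp.centralizer_fittingSubgroup_le (Subgroup.mem_centralizer_iff.2 fun y hy => ?_))
    have hy' : y ∈ F := hfit hy
    have hle : F ≤ Subgroup.centralizer {x} := by
      rw [hF, Subgroup.closure_le]
      rintro z ⟨N, hN, hz⟩
      exact Subgroup.mem_centralizer_singleton_iff.2 (hx N hN z hz).symm
    exact Subgroup.mem_centralizer_singleton_iff.1 (hle hy')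
  have hQB : AbConj (G ⧸ F) := AbelianConjSolvable.surjective _ G (G ⧸ F) le_rfl hsol hB π
    (QuotientGroup.mk'_surjective F)
  -- the local facts at one minimal normal subgroup
  have loc : ∀ N ∈ 𝒩, ∀ x ∈ T, ∀ y ∈ T,
      (∀ v ∈ N, (x * y) * v * (x * y)⁻¹ = (y * x) * v * (y * x)⁻¹) ∧
      ∀ r : ℕ, r.Prime → (∀ v ∈ N, x ^ r * v * (x ^ r)⁻¹ = v) → (∀ v ∈ N, y ^ r * v * (y ^ r)⁻¹ = v) →
        (∃ v ∈ N, x * v * x⁻¹ ≠ v) → ∃ k : ℤ, ∀ v ∈ N, (y * x ^ k) * v * (y * x ^ k)⁻¹ = v := by
    intro N hN x hx y hy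
    haveI := hN.1
    obtain ⟨p, t, hp, ht, hc, hab, hexp, hP⟩ := hbad N hN
    haveI := Fact.mk hp
    letI : CommGroup N := { (inferInstance : Group N) with mul_comm := fun a b => Subtype.ext (setLike_mul_comm a.2 b.2) }
    set ρ : G →* MulAut N := MulAut.conjNormal
    have hker : N ≤ ρ.ker := fun a ha => MonoidHom.mem_ker.2 (MulEquiv.ext fun v => Subtype.ext (by
      show a * (v : G) * a⁻¹ = v
      rw [setLike_mul_comm ha v.2, mul_inv_cancel_right]))
    set Hb := ρ.range
    have hHsol : Group.IsSolvable Hb := Group.isSolvable_of_surjective ρ.rangeRestrict_surjective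
    have hHB : AbConj Hb := AbelianConjSolvable.surjective _ G Hb le_rfl hsol hB ρ.rangeRestrict
      ρ.rangeRestrict_surjective
    obtain ⟨P⟩ := (inferInstance : Nonempty (Sylow p G))
    have hHcop : ¬ p ∣ Nat.card Hb := by
      intro hd
      rw [← Subgroup.index_ker] at hd
      exact P.not_dvd_index (hd.trans ((hP P).symm ▸ Subgroup.index_dvd_of_le hker))
    have htrans : ∀ A B : Subgroup N, Nat.card A = Nat.card B → ∃ g ∈ Hb, A.map g.toMonoidHom = B := by
      intro A B hAB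
      obtain ⟨g, hg⟩ := hB (A.map N.subtype) (B.map N.subtype) inferInstance inferInstance
        (by rw [Subgroup.card_map_of_injective N.subtype_injective, Subgroup.card_map_of_injective N.subtype_injective, hAB])
      refine ⟨ρ g, ⟨g, rfl⟩, Subgroup.map_injective N.subtype_injective ?_⟩
      rw [hg, Subgroup.map_map, Subgroup.map_map]
      rfl
    set DN : Subgroup N := D.subgroupOf N
    have hstab : ∀ w ∈ T, DN.map (ρ w).toMonoidHom = DN := by
      intro w hw
      refine Subgroup.eq_of_le_of_card_ge ?_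
        (Subgroup.card_map_of_injective (f := (ρ w).toMonoidHom) (ρ w).injective).ge
      rintro _ ⟨v, hv, rfl⟩
      show w * (v : G) * w⁻¹ ∈ D
      exact (Subgroup.mem_normalizer_iff.1 hw v).1 hv
    have hD0 : DN ≠ ⊥ := by
      intro e
      refine (hprop N hN).1 (eq_bot_iff.2 fun a ha => ?_)
      have h1 : MulAut.conj g a ∈ D := hg.ge ⟨a, ⟨hNF N hN ha.1, ha.2⟩, rfl⟩
      have h2 : (⟨g * a * g⁻¹, hN.1.conj_mem a ha.1 g⟩ : N) ∈ DN := h1
      rw [e, Subgroup.mem_bot, Subtype.ext_iff] at h2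
      exact Subgroup.mem_bot.2 (conj_eq_one_iff.1 h2)
    have hDt : DN ≠ ⊤ := by
      intro e
      refine (hprop N hN).2 fun a ha => ?_
      have h1 : (⟨g * a * g⁻¹, hN.1.conj_mem a ha g⟩ : N) ∈ DN := e ▸ Subgroup.mem_top _
      obtain ⟨b, hb, e'⟩ := hg.le (h1 : g * a * g⁻¹ ∈ D)
      have : b = a := (MulAut.conj g).injective e'
      exact this ▸ hb.2
    have key := fun (a : G) (ha : a ∈ T) (b : G) (hb : b ∈ T) =>
      stabilizer_small ht (fun v => Subtype.ext (by simpa using hexp v v.2)) hc Hb hHsol hHB hHcop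
        (fun A B hA hB' => htrans A B (hA.trans hB'.symm)) (fun A B hA hB' => htrans A B (hA.trans hB'.symm))
        DN hD0 hDt ⟨a, rfl⟩ ⟨b, rfl⟩ (hstab a ha) (hstab b hb)
    have toEq : ∀ a b : G, ρ a = ρ b → ∀ v ∈ N, a * v * a⁻¹ = b * v * b⁻¹ := fun a b e v hv =>
      congrArg Subtype.val (DFunLike.congr_fun e (⟨v, hv⟩ : N))
    have toρ : ∀ a : G, (∀ v ∈ N, a * v * a⁻¹ = v) → ρ a = 1 := fun a h => MulEquiv.ext fun v =>
      Subtype.ext (h v v.2)
    refine ⟨toEq _ _ (by rw [map_mul, map_mul]; exact (key x hx y hy).1), fun r hr hxr hyr hxne => ?_⟩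
    haveI := Fact.mk hr
    have hx1 : ρ x ≠ 1 := fun e => by
      obtain ⟨v, hv, hne⟩ := hxne
      exact hne (congrArg Subtype.val (DFunLike.congr_fun e (⟨v, hv⟩ : N)))
    have hox : orderOf (ρ x) = r := orderOf_eq_prime (by rw [← map_pow]; exact toρ _ hxr) hx1
    by_cases hy1 : ρ y = 1
    · refine ⟨0, fun v hv => ?_⟩
      rw [zpow_zero, mul_one]
      exact congrArg Subtype.val (DFunLike.congr_fun hy1 (⟨v, hv⟩ : N))
    have hoy : orderOf (ρ y) = r := orderOf_eq_prime (by rw [← map_pow]; exact toρ _ hyr) hy1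
    obtain ⟨k, hk⟩ := Subgroup.mem_zpowers_iff.1 ((key x hx y hy).2 r hr hox hoy)
    refine ⟨-k, fun v hv => ?_⟩
    have e : ρ (y * x ^ (-k)) = 1 := by rw [map_mul, map_zpow, zpow_neg, hk, mul_inv_cancel]
    exact congrArg Subtype.val (DFunLike.congr_fun e (⟨v, hv⟩ : N))
  -- `T / F` is cyclic
  set Qt := T.map π
  have hFT : F ≤ T := fun f hf => Subgroup.mem_normalizer_iff.2 fun d => by
    constructor
    · intro hd
      rwa [setLike_mul_comm hf hd.1, mul_inv_cancel_right]
    · intro hd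
      have h1 : d ∈ F := by simpa [mul_assoc] using hFn.conj_mem _ hd.1 f⁻¹
      rwa [setLike_mul_comm hf h1, mul_inv_cancel_right] at hd
  haveI hQab : IsMulCommutative Qt := by
    refine ⟨⟨?_⟩⟩
    rintro ⟨_, x, hx, rfl⟩ ⟨_, y, hy, rfl⟩
    refine Subtype.ext ?_
    show π x * π y = π y * π x
    rw [← map_mul, ← map_mul]
    refine QuotientGroup.eq.2 (hCF _ fun N hN v hv => ?_)
    have e := (loc N hN x hx y hy).1 v hv
    calc (x * y)⁻¹ * (y * x) * v = (x * y)⁻¹ * ((y * x) * v * (y * x)⁻¹) * (y * x) := by group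
      _ = (x * y)⁻¹ * ((x * y) * v * (x * y)⁻¹) * (y * x) := by rw [e]
      _ = v * ((x * y)⁻¹ * (y * x)) := by group
  have huniq : ∀ (r : ℕ) (x y : G), r.Prime → x ∈ T → y ∈ T → orderOf (π x) = r → orderOf (π y) = r →
      π y ∈ Subgroup.zpowers (π x) := by
    intro r x y hr hx hy hxr hyr
    by_contra hno
    haveI := Fact.mk hr
    -- `x` centralizes every minimal normal subgroup
    refine (show π x ≠ 1 from fun e => by rw [e, orderOf_one] at hxr; exact hr.ne_one hxr.symm)
      ((QuotientGroup.eq_one_iff x).2 (hCF x fun N hN v hv => ?_))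
    by_contra hxv
    have hne : x * v * x⁻¹ ≠ v := fun e => hxv (mul_inv_eq_iff_eq_mul.1 e)
    have hFc : ∀ f ∈ F, ∀ w ∈ N, f * w * f⁻¹ = w := fun f hf w hw => by
      rw [setLike_mul_comm hf (hNF N hN hw), mul_inv_cancel_right]
    have hpowF : ∀ z : G, orderOf (π z) = r → ∀ w ∈ N, z ^ r * w * (z ^ r)⁻¹ = w := fun z hz w hw =>
      hFc _ ((QuotientGroup.eq_one_iff _).1 (by
        show π (z ^ r) = 1
        rw [map_pow, ← hz, pow_orderOf_eq_one])) w hw
    obtain ⟨k, hk⟩ := (loc N hN x hx y hy).2 r hr (hpowF x hxr) (hpowF y hyr) ⟨v, hv, hne⟩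
    set c := y * x ^ k
    have hc1 : π c ≠ 1 := fun e => hno (Subgroup.mem_zpowers_iff.2 ⟨-k, by
      rw [map_mul, map_zpow, mul_eq_one_iff_eq_inv] at e
      rw [zpow_neg, e]⟩)
    have hcr : orderOf (π c) = r := by
      refine orderOf_eq_prime ?_ hc1
      have hcm : Commute (π y) ((π x) ^ k) := by
        refine Commute.zpow_right ?_ _
        exact setLike_mul_comm (s := Qt) ⟨y, hy, rfl⟩ ⟨x, hx, rfl⟩
      rw [map_mul, map_zpow, hcm.mul_pow, show (π y) ^ r = 1 from hyr ▸ pow_orderOf_eq_one _, one_mul,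
        ← zpow_natCast, ← zpow_mul, mul_comm, zpow_mul, zpow_natCast,
        show (π x) ^ r = 1 from hxr ▸ pow_orderOf_eq_one _, one_zpow]
    obtain ⟨q, hq⟩ := hQB (Subgroup.zpowers (π c)) (Subgroup.zpowers (π x)) inferInstance inferInstance
      (by rw [Nat.card_zpowers, Nat.card_zpowers, hcr, hxr])
    obtain ⟨q, rfl⟩ := QuotientGroup.mk'_surjective F q
    obtain ⟨u, hu, hu'⟩ := hq.le (Subgroup.mem_zpowers (π x))
    obtain ⟨i, rfl⟩ := Subgroup.mem_zpowers_iff.1 hu
    have e : π (q * c ^ i * q⁻¹) = π x := by rw [map_mul, map_mul, map_inv, map_zpow]; exact hu'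
    have hfF := QuotientGroup.eq.1 e
    set f := (q * c ^ i * q⁻¹)⁻¹ * x
    have hcv : ∀ w ∈ N, c ^ i * w * (c ^ i)⁻¹ = w := by
      intro w hw
      have h1 : c ^ i ∈ Subgroup.centralizer (N : Set G) := zpow_mem (Subgroup.mem_centralizer_iff.2
        fun w hw => (mul_inv_eq_iff_eq_mul.1 (hk w hw)).symm) i
      rw [← Subgroup.mem_centralizer_iff.1 h1 w hw, mul_inv_cancel_right]
    refine hne ?_
    have hx' : x = q * c ^ i * q⁻¹ * f := (mul_inv_cancel_left _ x).symm
    rw [hx', show q * c ^ i * q⁻¹ * f * v * (q * c ^ i * q⁻¹ * f)⁻¹ =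
      q * (c ^ i * (q⁻¹ * (f * v * f⁻¹) * q) * (c ^ i)⁻¹) * q⁻¹ by group, hFc f hfF v hv,
      hcv _ (by simpa using hN.1.conj_mem v hv q⁻¹)]
    group
  haveI hQcyc : IsCyclic Qt := by
    letI : CommGroup Qt := { (inferInstance : Group Qt) with mul_comm := fun a b => mul_comm' a b }
    obtain ⟨g0, hg0⟩ := Monoid.exists_orderOf_eq_exponent (G := Qt) Monoid.ExponentExists.of_finite
    refine ⟨g0, fun w => ?_⟩
    by_contra hw
    set Z := Subgroup.zpowers g0
    obtain ⟨r, hr, hrd⟩ := Nat.exists_prime_and_dvd (n := orderOf (QuotientGroup.mk' Z w))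
      (fun h => hw ((QuotientGroup.eq_one_iff w).1 (orderOf_eq_one_iff.1 h)))
    haveI := Fact.mk hr
    obtain ⟨m, hm⟩ := hrd
    set y := w ^ m
    have hyZ : y ∉ Z := by
      intro h
      have h1 : (QuotientGroup.mk' Z w) ^ m = 1 := by rw [← map_pow]; exact (QuotientGroup.eq_one_iff y).2 h
      have hpos : 0 < orderOf (QuotientGroup.mk' Z w) := orderOf_pos _
      have h3 := Nat.le_of_dvd (Nat.pos_of_ne_zero fun e => by rw [e, mul_zero] at hm; omega)
        (orderOf_dvd_of_pow_eq_one h1)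
      rw [hm] at h3 hpos
      have := hr.two_le
      nlinarith
    have hyr : y ^ r ∈ Z := by
      rw [← QuotientGroup.eq_one_iff]
      show QuotientGroup.mk' Z ((w ^ m) ^ r) = 1
      rw [← pow_mul, map_pow, mul_comm, ← hm, pow_orderOf_eq_one]
    obtain ⟨j, hj⟩ := mem_powers_iff_mem_zpowers.2 hyr
    change g0 ^ j = y ^ r at hj
    have hre : r ∣ Monoid.exponent Qt := by
      have h1 : orderOf (QuotientGroup.mk' Z w) ∣ Monoid.exponent Qt :=
        orderOf_dvd_of_pow_eq_one (by rw [← map_pow, Monoid.pow_exponent_eq_one, map_one])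
      exact (hm ▸ dvd_mul_right r m).trans h1
    obtain ⟨e, he⟩ := hre
    have hpos : 0 < Monoid.exponent Qt := Nat.pos_of_ne_zero Monoid.exponent_ne_zero_of_finite
    have hje : r ∣ j := by
      have h1 : g0 ^ (j * e) = 1 := by rw [pow_mul, hj, ← pow_mul, ← he, Monoid.pow_exponent_eq_one]
      have h2 := orderOf_dvd_of_pow_eq_one h1
      rw [hg0, he] at h2
      exact Nat.dvd_of_mul_dvd_mul_right (Nat.pos_of_ne_zero fun h0 => by rw [h0, mul_zero] at he; omega) h2
    obtain ⟨i, rfl⟩ := hje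
    set z := y * (g0 ^ i)⁻¹ with hz
    have hzr : z ^ r = 1 := by rw [hz, mul_pow, inv_pow, ← hj, ← pow_mul g0 i r, mul_comm i r, mul_inv_cancel]
    have hze : z ∈ Z := by
      by_cases hz1 : z = 1
      · rw [hz1]; exact one_mem Z
      have hoz : orderOf z = r := orderOf_eq_prime hzr hz1
      have hog : orderOf (g0 ^ e) = r := by
        have he0 : e ≠ 0 := fun h0 => by rw [h0, mul_zero] at he; omega
        rw [orderOf_pow_of_dvd he0 (hg0 ▸ he ▸ dvd_mul_left e r), hg0, he, Nat.mul_div_cancel r (Nat.pos_of_ne_zero he0)]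
      obtain ⟨x0, hx0, ex⟩ := (g0 ^ e).2
      obtain ⟨z0, hz0, ez⟩ := z.2
      have := huniq r x0 z0 hr hx0 hz0 (by rw [ex, Subgroup.orderOf_coe, hog]) (by rw [ez, Subgroup.orderOf_coe, hoz])
      rw [ex, ez] at this
      obtain ⟨l, hl⟩ := Subgroup.mem_zpowers_iff.1 this
      have : z = (g0 ^ e) ^ l := Subtype.ext (by rw [SubgroupClass.coe_zpow]; exact hl.symm)
      rw [this]
      exact zpow_mem (pow_mem (Subgroup.mem_zpowers g0) e) l
    refine hyZ ?_
    have : y = z * g0 ^ i := (inv_mul_cancel_right y _).symm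
    rw [this]
    exact mul_mem hze (pow_mem (Subgroup.mem_zpowers g0) i)
  -- the images coincide
  have hcard : ∀ X : Subgroup G, F ⊓ X = D → Nat.card X = Nat.card (X.map π) * Nat.card D := fun X hX => by
    have h1 := Subgroup.card_eq_card_quotient_mul_card_subgroup (π.comp X.subtype).ker
    rw [Nat.card_congr (QuotientGroup.quotientKerEquivRange _).toEquiv, MonoidHom.range_comp,
      Subgroup.range_subtype, ← MonoidHom.comap_ker, QuotientGroup.ker_mk',
      ← Subgroup.card_map_of_injective X.subtype_injective] at h1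
    rw [h1]
    congr 1
    show Nat.card ↥((F.subgroupOf X).map X.subtype) = _
    rw [Subgroup.subgroupOf_map_subtype, hX]
  have himg : Nat.card (A'.map π) = Nat.card (B.map π) := by
    have := (hcard A' hDA).symm.trans ((hA'c.trans h).trans (hcard B rfl))
    exact Nat.eq_of_mul_eq_mul_right Nat.card_pos this
  have heq : B.map π ≤ A'.map π := by
    have h1 := AbelianConjQuotient.le_of_card_dvd ((B.map π).subgroupOf Qt) ((A'.map π).subgroupOf Qt) (by
      rw [Nat.card_congr (Subgroup.subgroupOfEquivOfLe (Subgroup.map_mono hBT)).toEquiv,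
        Nat.card_congr (Subgroup.subgroupOfEquivOfLe (Subgroup.map_mono hA'T)).toEquiv, himg])
    intro b hb
    exact h1 (x := ⟨b, Subgroup.map_mono hBT hb⟩) hb
  -- complements
  have comp : ∀ X : Subgroup G, F ⊓ X = D → ∃ X0 : Subgroup G, X0 ≤ X ∧ D ⊔ X0 = X ∧
      Nat.card X = Nat.card D * Nat.card X0 ∧ (Nat.card F).Coprime (Nat.card X0) := by
    intro X hX
    have hDX : D ≤ X := hX ▸ inf_le_right
    haveI : (D.subgroupOf X).Normal := Subgroup.normal_subgroupOf_iff_le_normalizer hDX |>.2 (hnorm X hX)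
    have hidx : (D.subgroupOf X).index ∣ F.index := by
      rw [← hX, Subgroup.inf_subgroupOf_right]
      exact Subgroup.relIndex_dvd_index_of_normal F X
    have hcop : (Nat.card (D.subgroupOf X)).Coprime (D.subgroupOf X).index := by
      rw [Nat.card_congr (Subgroup.subgroupOfEquivOfLe hDX).toEquiv]
      exact (hcopF.coprime_dvd_left (Subgroup.card_dvd_of_le inf_le_left)).coprime_dvd_right hidx
    obtain ⟨K, hK⟩ := Subgroup.exists_right_complement'_of_coprime hcop
    refine ⟨K.map X.subtype, Subgroup.map_subtype_le K, ?_, ?_, ?_⟩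
    · conv_rhs => rw [← X.range_subtype, MonoidHom.range_eq_map, ← hK.sup_eq_top, Subgroup.map_sup,
        Subgroup.subgroupOf_map_subtype, inf_eq_left.2 hDX]
    · rw [Subgroup.card_map_of_injective X.subtype_injective,
        ← Nat.card_congr (Subgroup.subgroupOfEquivOfLe hDX).toEquiv]
      exact hK.card_mul.symm
    · rw [Subgroup.card_map_of_injective X.subtype_injective, ← hK.symm.index_eq_card]
      exact hcopF.coprime_dvd_right hidx
  obtain ⟨A0, hA0, hA0s, hA0c, hA0cop⟩ := comp A' hDA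
  obtain ⟨B0, hB0, hB0s, hB0c, -⟩ := comp B rfl
  have hB0le : B0 ≤ F ⊔ A0 := by
    intro b hb
    obtain ⟨a, ha, e⟩ := heq ⟨b, hB0 hb, rfl⟩
    have ha' : a ∈ F ⊔ A0 := (sup_le_sup_right inf_le_left A0) (hA0s.ge ha)
    have : b = a * (a⁻¹ * b) := by group
    rw [this]
    exact mul_mem ha' (Subgroup.mem_sup_left (QuotientGroup.eq.1 e))
  obtain ⟨f, hfF, hf⟩ := Grp.exists_conj_of_le_sup (N := F) (H := A0) (K := B0)
    ((Subgroup.normalizer_eq_top (H := F)).symm ▸ le_top) hB0le (by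
      have := hA0c.symm.trans ((hA'c.trans h).trans hB0c)
      exact (Nat.eq_of_mul_eq_mul_left Nat.card_pos this).symm) hA0cop (Or.inl hsolF)
  refine ⟨f, ?_⟩
  rw [← Grp.map_conj_eq_smul] at hf
  rw [← hA0s, Subgroup.map_sup, hf, ← hB0s]
  congr 1
  have hle : D.map (MulAut.conj f).toMonoidHom ≤ D := by
    rintro _ ⟨d, hd, rfl⟩
    show f * d * f⁻¹ ∈ D
    rwa [setLike_mul_comm hfF hd.1, mul_inv_cancel_right]
  exact (Subgroup.eq_of_le_of_card_ge hle
    (Subgroup.card_map_of_injective (f := (MulAut.conj f).toMonoidHom) (MulAut.conj f).injective).ge).symm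

/-- All subgroups of equal order are conjugate. -/
theorem allConj : ∀ (n : ℕ) (G : Type u) [Group G] [Finite G], Nat.card G ≤ n → Group.IsSolvable G →
    AbConj G → AllConj G := by
  intro n
  induction n with
  | zero =>
    intro G _ _ hn
    exact absurd hn (by have := Nat.card_pos (α := G); omega)
  | succ n ih =>
    intro G _ _ hn hsol hB A B h
    haveI := hsol
    have hquot : ∀ N : Subgroup G, [N.Normal] → N ≠ ⊥ → AllConj (G ⧸ N) := by
      intro N _ hN
      have hlt := Grp.card_quotient_lt hN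
      exact ih _ (by omega) (Group.isSolvable_of_surjective (QuotientGroup.mk'_surjective N))
        (AbelianConjSolvable.surjective _ G (G ⧸ N) le_rfl hsol hB (QuotientGroup.mk' N)
          (QuotientGroup.mk'_surjective N))
    have data : ∀ N : Subgroup G, IsMin N → ∃ p t : ℕ, p.Prime ∧ 1 ≤ t ∧ Nat.card N = p ^ t ∧
        IsMulCommutative N ∧ (∀ x ∈ N, x ^ p = 1) := by
      intro N hN
      haveI := hN.1
      obtain ⟨hab, p, hp, hexp⟩ := Grp.minimal_normal_solvable
        (Grp.isSolvable_of_injective N.subtype N.subtype_injective hsol) hN.2.1 hN.2.2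
      haveI := Fact.mk hp
      have hNp : IsPGroup p N := fun x => ⟨1, Subtype.ext (by simpa using hexp x x.2)⟩
      obtain ⟨t, ht⟩ := hNp.exists_card_eq
      refine ⟨p, t, hp, ?_, ht, hab, hexp⟩
      by_contra hlt
      exact hN.2.1 (Subgroup.card_eq_one.1 (by rw [ht, show t = 0 by omega, pow_zero]))
    -- a minimal normal subgroup of order dividing the common order
    have hsub : ∀ (N X : Subgroup G) (p t : ℕ), IsMin N → p.Prime → Nat.card N = p ^ t → 1 ≤ t →
        IsMulCommutative N → (∀ x ∈ N, x ^ p = 1) → p ^ t ∣ Nat.card X → N ≤ X := by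
      intro N X p t hN hp hc ht hab hexp hd
      haveI := Fact.mk hp
      haveI := hN.1
      obtain ⟨R, hR⟩ := Sylow.exists_subgroup_card_pow_prime (G := X) p hd
      have hR' : Nat.card (R.map X.subtype) = p ^ t := by
        rw [Subgroup.card_map_of_injective X.subtype_injective, hR]
      suffices R.map X.subtype = N from this ▸ Subgroup.map_subtype_le R
      rcases eq_or_lt_of_le ht with h1 | h2
      · subst h1
        haveI : IsCyclic ↥(R.map X.subtype) := isCyclic_of_prime_card (hR'.trans (pow_one p))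
        obtain ⟨g, hg⟩ := hB (R.map X.subtype) N inferInstance hab (hR'.trans hc.symm)
        refine (Subgroup.map_injective (f := (MulAut.conj g).toMonoidHom) (MulAut.conj g).injective ?_)
        rw [← hg]
        refine (Subgroup.eq_of_le_of_card_ge ?_ (Subgroup.card_map_of_injective
          (f := (MulAut.conj g).toMonoidHom) (MulAut.conj g).injective).ge).symm
        rintro _ ⟨x, hx, rfl⟩
        exact hN.1.conj_mem x hx g
      · obtain ⟨P, hP⟩ := (IsPGroup.of_card hR').exists_le_sylow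
        rw [(S3909.result hB N).2 p t h2 hc ⟨hab, hexp⟩ P] at hP
        exact Subgroup.eq_of_le_of_card_ge hP (hR'.symm ▸ hc.le)
    by_cases htriv : Nat.card G = 1
    · haveI := (Nat.card_eq_one_iff_unique.1 htriv).1
      exact ⟨1, Subsingleton.elim _ _⟩
    by_cases hgood : ∃ N : Subgroup G, IsMin N ∧ ((Nat.card N).Coprime (Nat.card A) ∨ (N ≤ A ∧ N ≤ B))
    · obtain ⟨N, hN, hcase⟩ := hgood
      haveI := hN.1
      exact conj_of_quotient N (hquot N hN.2.1) hsol A B h hcase.symm
    push Not at hgood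
    have hprop : ∀ N : Subgroup G, IsMin N → N ⊓ A ≠ ⊥ ∧ ¬ N ≤ A ∧ ∃ p t : ℕ, p.Prime ∧ 2 ≤ t ∧
        Nat.card N = p ^ t ∧ IsMulCommutative N ∧ (∀ x ∈ N, x ^ p = 1) ∧ ∀ P : Sylow p G, (P : Subgroup G) = N := by
      intro N hN
      obtain ⟨p, t, hp, ht, hc, hab, hexp⟩ := data N hN
      haveI := Fact.mk hp
      haveI := hN.1
      obtain ⟨hncop, hnle⟩ := hgood N hN
      have hpA : p ∣ Nat.card A := by
        by_contra hpA
        exact hncop (hc ▸ Nat.Coprime.pow_left _ ((Nat.Prime.coprime_iff_not_dvd hp).2 hpA))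
      have hno : ¬ p ^ t ∣ Nat.card A := fun hd =>
        hnle (hsub N A p t hN hp hc ht hab hexp hd) (hsub N B p t hN hp hc ht hab hexp (h ▸ hd))
      have ht2 : 2 ≤ t := by
        by_contra hlt
        rw [show t = 1 by omega, pow_one] at hno
        exact hno hpA
      have hP := fun P : Sylow p G => (S3909.result hB N).2 p t ht2 hc ⟨hab, hexp⟩ P
      refine ⟨?_, fun hle => hno (hc ▸ Subgroup.card_dvd_of_le hle), p, t, hp, ht2, hc, hab, hexp, hP⟩
      obtain ⟨x, hx⟩ := exists_prime_orderOf_dvd_card' (G := A) p hpA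
      obtain ⟨P, hP'⟩ := (IsPGroup.of_card (G := Subgroup.zpowers (x : G)) (n := 1)
        (by rw [Nat.card_zpowers, Subgroup.orderOf_coe, hx, pow_one])).exists_le_sylow
      intro e
      have h1 : (x : G) ∈ N ⊓ A := ⟨hP P ▸ hP' (Subgroup.mem_zpowers _), x.2⟩
      rw [e, Subgroup.mem_bot] at h1
      rw [← Subgroup.orderOf_coe, h1, orderOf_one] at hx
      exact hp.ne_one hx.symm
    exact conj_core hB hsol (fun N hN => (hprop N hN).2.2) A B h fun N hN => ⟨(hprop N hN).1, (hprop N hN).2.1⟩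

end main

end Cfsg.Agent.Grp.ConjAllSolvable
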