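import Mathlib
import Cfsg.Prelude.Def_CaseTheorems
import Cfsg.Agent.Lib.Transfer.ExtraspecialIso
import Cfsg.Agent.Lib.Grp.Frattini

/-!
The rank of an extraspecial 2-group, and the number of square roots of one when `Φ` has order two.
-/

set_option autoImplicit false

namespace Cfsg.Agent.Grp.ExtraRank

open Cfsg.Agent.Transfer.ExtraIso
open scoped commutatorElement

universe u

variable {G : Type u} [Group G]

/-- The elementary abelian 2-subgroups have order at most `2 ^ k`, and this is attained. -/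
def HasRank (G : Type u) [Group G] (k : ℕ) : Prop :=
  (∀ A : Subgroup G, IsMulCommutative A → (∀ a ∈ A, a ^ 2 = 1) → Nat.card A ≤ 2 ^ k) ∧
  ∃ A : Subgroup G, IsMulCommutative A ∧ (∀ a ∈ A, a ^ 2 = 1) ∧ Nat.card A = 2 ^ k

theorem HasRank.pRankLE_iff {k : ℕ} (h : HasRank G k) (j : ℕ) : Cfsg.PRankLE 2 j G ↔ k ≤ j := by
  refine ⟨fun hj => ?_, fun hj A h1 h2 => (h.1 A h1 h2).trans (Nat.pow_le_pow_right two_pos hj)⟩
  obtain ⟨A, h1, h2, h3⟩ := h.2
  exact (Nat.pow_le_pow_iff_right Nat.one_lt_two).mp (h3 ▸ hj A h1 h2)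

theorem card_le_two_mul [Finite G] {S T : Subgroup G}
    (h : ∀ a ∈ T, ∀ b ∈ T, a ∉ S → b ∉ S → a * b ∈ S) :
    Nat.card T ≤ 2 * Nat.card ↥(S ⊓ T) := by
  classical
  by_cases hTS : T ≤ S
  · rw [inf_eq_right.mpr hTS]; omega
  obtain ⟨t, ht, htS⟩ := SetLike.not_le_iff_exists.mp hTS
  let f : T → ↥(S ⊓ T) ⊕ ↥(S ⊓ T) := fun a =>
    if ha : (a : G) ∈ S then Sum.inl ⟨a, ha, a.2⟩
    else Sum.inr ⟨t * a, h t ht a a.2 htS ha, mul_mem ht a.2⟩
  have hf : Function.Injective f := by
    intro a b hab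
    simp only [f] at hab
    by_cases ha : (a : G) ∈ S <;> by_cases hb : (b : G) ∈ S <;> simp [ha, hb] at hab
    · exact Subtype.ext (congrArg (fun s : ↥(S ⊓ T) => (s : G)) hab)
    · exact Subtype.ext (mul_left_cancel (congrArg (fun s : ↥(S ⊓ T) => (s : G)) hab))
  have := Nat.card_le_card_of_injective f hf
  rw [Nat.card_sum] at this
  omega

theorem exists_adjoin [Finite G] {S : Subgroup G} {x : G} (hS : IsMulCommutative S)
    (hS2 : ∀ a ∈ S, a ^ 2 = 1) (hx : x ^ 2 = 1) (hc : ∀ a ∈ S, x * a = a * x) (hxS : x ∉ S) :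
    ∃ B : Subgroup G, IsMulCommutative B ∧ (∀ a ∈ B, a ^ 2 = 1) ∧ x ∈ B ∧ S ≤ B ∧
      Nat.card B = 2 * Nat.card S := by
  classical
  have hxx : x * x = 1 := by rw [← pow_two, hx]
  have hcom : ∀ a ∈ S, ∀ b ∈ S, a * b = b * a := fun a ha b hb =>
    congrArg Subtype.val (hS.is_comm.comm (⟨a, ha⟩ : S) ⟨b, hb⟩)
  let B : Subgroup G :=
    { carrier := {g | g ∈ S ∨ x * g ∈ S}
      one_mem' := Or.inl (one_mem S)
      mul_mem' := fun {a b} ha hb => by
        rcases ha with ha | ha <;> rcases hb with hb | hb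
        · exact Or.inl (mul_mem ha hb)
        · refine Or.inr ?_
          rw [← mul_assoc, hc a ha, mul_assoc]; exact mul_mem ha hb
        · refine Or.inr ?_
          rw [← mul_assoc]; exact mul_mem ha hb
        · refine Or.inl ?_
          have e : a * b = (x * a) * (x * b) := by
            have h1 := hc _ ha
            rw [← mul_assoc x x, hxx, one_mul] at h1
            calc a * b = (x * a * x) * b := by rw [← h1]
              _ = _ := by group
          rw [e]; exact mul_mem ha hb
      inv_mem' := fun {a} ha => by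
        rcases ha with ha | ha
        · exact Or.inl (inv_mem ha)
        · refine Or.inr ?_
          have e : x * a⁻¹ = (x * a)⁻¹ := by
            have h1 := hc _ ha
            rw [← mul_assoc x x, hxx, one_mul] at h1
            have h2 : x⁻¹ = x := inv_eq_of_mul_eq_one_right hxx
            calc x * a⁻¹ = x * (x * a * x)⁻¹ := by rw [← h1]
              _ = (x * x⁻¹) * a⁻¹ * x⁻¹ := by group
              _ = _ := by rw [mul_inv_cancel, one_mul]; group
          rw [e]; exact inv_mem ha }
  have hB : ∀ g ∈ B, ∃ s ∈ S, g = s ∨ g = x * s := by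
    rintro g (hg | hg)
    · exact ⟨g, hg, Or.inl rfl⟩
    · exact ⟨x * g, hg, Or.inr (by rw [← mul_assoc, hxx, one_mul])⟩
  have hBc : ∀ a ∈ B, ∀ b ∈ B, a * b = b * a := by
    intro a ha b hb
    obtain ⟨s, hs, rfl | rfl⟩ := hB a ha <;> obtain ⟨t, ht, rfl | rfl⟩ := hB b hb
    · exact hcom _ hs _ ht
    · rw [← mul_assoc, ← hc _ hs, mul_assoc, hcom _ hs _ ht, mul_assoc]
    · rw [mul_assoc, hcom _ hs _ ht, ← mul_assoc, hc _ ht, mul_assoc]
    · calc x * s * (x * t) = x * (s * x) * t := by group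
        _ = x * (x * s) * t := by rw [← hc _ hs]
        _ = x * x * (t * s) := by rw [← hcom _ hs _ ht]; group
        _ = x * (x * t) * s := by group
        _ = x * (t * x) * s := by rw [← hc _ ht]
        _ = _ := by group
  refine ⟨B, ⟨⟨fun a b => Subtype.ext (hBc a a.2 b b.2)⟩⟩, ?_, Or.inr (by rw [hxx]; exact one_mem S),
    fun s hs => Or.inl hs, ?_⟩
  · intro g hg
    obtain ⟨s, hs, rfl | rfl⟩ := hB g hg
    · exact hS2 _ hs
    · rw [(show Commute x s from hc s hs).mul_pow, hx, hS2 _ hs, one_mul]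
  · have hx' : ∀ s : S, x * (s : G) ∈ B := fun s => Or.inr (by rw [← mul_assoc, hxx, one_mul]; exact s.2)
    let f : S ⊕ S → B := Sum.elim (fun s => ⟨s, Or.inl s.2⟩) (fun s => ⟨x * s, hx' s⟩)
    have hf : Function.Bijective f := by
      constructor
      · rintro (a | a) (b | b) hab <;> simp only [f, Sum.elim_inl, Sum.elim_inr, Subtype.mk.injEq] at hab
        · exact congrArg Sum.inl (Subtype.ext hab)
        · exact absurd (eq_mul_inv_of_mul_eq hab.symm ▸ mul_mem a.2 (inv_mem b.2)) hxS
        · exact absurd (eq_mul_inv_of_mul_eq hab ▸ mul_mem b.2 (inv_mem a.2)) hxS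
        · exact congrArg Sum.inr (Subtype.ext (mul_left_cancel hab))
      · rintro ⟨g, hg⟩
        obtain ⟨s, hs, rfl | rfl⟩ := hB g hg
        · exact ⟨Sum.inl ⟨_, hs⟩, rfl⟩
        · exact ⟨Sum.inr ⟨_, hs⟩, rfl⟩
    rw [← Nat.card_congr (Equiv.ofBijective f hf), Nat.card_sum]
    ring

theorem hasRank_split [Finite G] {z x y : G} (h : Ext 2 z) (hP : Pair 2 z x y 0 0) {k : ℕ}
    (hk : HasRank (cent x y) k) : HasRank G (k + 1) := by
  have hx2 : x ^ 2 = 1 := by rw [hP.px, zpow_zero]
  have hy2 : y ^ 2 = 1 := by rw [hP.py, zpow_zero]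
  have hxy : x * y ≠ y * x := fun e => h.ne_one (right_eq_mul.mp (e.symm.trans hP.comm))
  have hxc : x ∉ cent x y := fun hm => hxy (commute_right hm)
  have hcx : ∀ a : G, a * x ≠ x * a → a * x = z * (x * a) := by
    intro a ha
    obtain ⟨s, hs⟩ := h.comm a x
    simp only [commutatorElement_def] at hs
    have e : a * x = z ^ s * (x * a) := by rw [hs]; group
    rcases Int.emod_two_eq_zero_or_one s with h0 | h1
    · exact absurd (by rw [e, (h.zpow_eq_one s).mpr (Int.dvd_of_emod_eq_zero h0), one_mul]) ha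
    · rw [e]; congr 1
      conv_rhs => rw [← zpow_one z]
      rw [← mul_inv_eq_one, ← zpow_sub, h.zpow_eq_one]
      exact Int.dvd_of_emod_eq_zero (by omega)
  refine ⟨fun A hA hA2 => ?_, ?_⟩
  · have hz2 : z * z = 1 := by rw [← pow_two]; exact h.pow_eq
    -- reduce to `x ∈ A`
    obtain ⟨B, hBc, hB2, hxB, hBA⟩ : ∃ B : Subgroup G, IsMulCommutative B ∧ (∀ a ∈ B, a ^ 2 = 1) ∧
        x ∈ B ∧ Nat.card A ≤ Nat.card B := by
      by_cases hxA : x ∈ A
      · exact ⟨A, hA, hA2, hxA, le_rfl⟩
      have h1 : Nat.card A ≤ 2 * Nat.card ↥(Subgroup.centralizer ({x} : Set G) ⊓ A) :=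
        card_le_two_mul fun a _ b _ ha hb => by
          rw [Subgroup.mem_centralizer_singleton_iff] at ha hb ⊢
          have ea := hcx a ha
          have eb := hcx b hb
          calc a * b * x = a * (b * x) := by group
            _ = a * (z * (x * b)) := by rw [eb]
            _ = (a * z) * (x * b) := by group
            _ = z * (a * x) * b := by rw [← h.central a]; group
            _ = (z * z) * (x * (a * b)) := by rw [ea]; group
            _ = x * (a * b) := by rw [hz2, one_mul]
      obtain ⟨B, hBc, hB2, hxB, -, hBcard⟩ :=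
        exists_adjoin (S := Subgroup.centralizer ({x} : Set G) ⊓ A) (x := x)
          ⟨⟨fun a b => Subtype.ext (show (a : G) * b = b * a from congrArg (fun t : A => (t : G))
            (hA.is_comm.comm (⟨a, a.2.2⟩ : A) ⟨b, b.2.2⟩))⟩⟩
          (fun a ha => hA2 a ha.2) hx2
          (fun a ha => (Subgroup.mem_centralizer_singleton_iff.mp ha.1).symm) (fun hm => hxA hm.2)
      exact ⟨B, hBc, hB2, hxB, hBcard ▸ h1⟩
    refine hBA.trans ?_
    have hform : ∀ b ∈ B, b ∈ cent x y ∨ x * b ∈ cent x y := by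
      intro b hb
      obtain ⟨i, j, c, hc, rfl⟩ := exists_form h hP b
      have hbx : Commute (form x y i j c) x :=
        congrArg Subtype.val (hBc.is_comm.comm (⟨_, hb⟩ : B) ⟨x, hxB⟩)
      have hyx : Commute (y ^ j) x := by
        have h1 : form x y i j c = x ^ i * y ^ j * c := rfl
        have h2 : y ^ j = (x ^ i)⁻¹ * form x y i j c * c⁻¹ := by rw [h1]; group
        rw [h2]
        exact (((Commute.refl x).zpow_left i).inv_left.mul_left hbx).mul_left (commute_left hc).inv_left
      have hj : y ^ j = 1 := by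
        rcases Int.emod_two_eq_zero_or_one j with h0 | h1
        · obtain ⟨t, rfl⟩ := Int.dvd_of_emod_eq_zero h0
          rw [zpow_mul, show ((2 : ℤ)) = ((2 : ℕ) : ℤ) from rfl, zpow_natCast, hy2, one_zpow]
        · exfalso
          obtain ⟨t, rfl⟩ : ∃ t, j = 1 + 2 * t := ⟨j / 2, by omega⟩
          rw [zpow_add, zpow_one, zpow_mul, show ((2 : ℤ)) = ((2 : ℕ) : ℤ) from rfl, zpow_natCast, hy2,
            one_zpow, mul_one] at hyx
          exact hxy hyx.eq.symm
      rcases Int.emod_two_eq_zero_or_one i with h0 | h1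
      · left
        obtain ⟨t, rfl⟩ := Int.dvd_of_emod_eq_zero h0
        rw [form, hj, mul_one, zpow_mul, show ((2 : ℤ)) = ((2 : ℕ) : ℤ) from rfl, zpow_natCast, hx2,
          one_zpow, one_mul]
        exact hc
      · right
        obtain ⟨t, rfl⟩ : ∃ t, i = 1 + 2 * t := ⟨i / 2, by omega⟩
        rw [form, hj, mul_one, zpow_add, zpow_one, zpow_mul, show ((2 : ℤ)) = ((2 : ℕ) : ℤ) from rfl,
          zpow_natCast, hx2, one_zpow, mul_one, ← mul_assoc, ← pow_two, hx2, one_mul]
        exact hc
    have h2 : Nat.card B ≤ 2 * Nat.card ↥(cent x y ⊓ B) :=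
      card_le_two_mul fun a ha b hb ha' hb' => by
        have h3 := (hform a ha).resolve_left ha'
        have h4 := (hform b hb).resolve_left hb'
        have e : a * b = (x * a) * (x * b) := by
          have hax : a * x = x * a := congrArg Subtype.val (hBc.is_comm.comm (⟨a, ha⟩ : B) ⟨x, hxB⟩)
          calc a * b = (x * x) * (a * b) := by rw [← pow_two, hx2, one_mul]
            _ = x * (x * a) * b := by group
            _ = x * (a * x) * b := by rw [hax]
            _ = _ := by group
        rw [e]; exact mul_mem h3 h4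
    have h5 : Nat.card ↥(cent x y ⊓ B) ≤ 2 ^ k := by
      rw [← Nat.card_congr (Subgroup.subgroupOfEquivOfLe (inf_le_left : cent x y ⊓ B ≤ cent x y)).toEquiv]
      refine hk.1 _ ⟨⟨fun a b => Subtype.ext (Subtype.ext ?_)⟩⟩ fun a ha => Subtype.ext ?_
      · show ((a : cent x y) : G) * (b : cent x y) = (b : cent x y) * (a : cent x y)
        exact congrArg (fun t : B => (t : G)) (hBc.is_comm.comm (⟨((a : cent x y) : G), a.2.2⟩ : B) ⟨((b : cent x y) : G), b.2.2⟩)
      · simpa using hB2 _ ha.2
    rw [pow_succ']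
    omega
  · obtain ⟨A, hAc, hA2, hAcard⟩ := hk.2
    have hA' : ∀ a ∈ A.map (cent x y).subtype, a ∈ cent x y := by
      rintro _ ⟨a, -, rfl⟩; exact a.2
    obtain ⟨B, hBc, hB2, -, -, hBcard⟩ := exists_adjoin (S := A.map (cent x y).subtype) (x := x)
      ⟨⟨by
        rintro ⟨_, a, ha, rfl⟩ ⟨_, b, hb, rfl⟩
        exact Subtype.ext (congrArg (fun t : A => ((t : cent x y) : G))
          (hAc.is_comm.comm (⟨a, ha⟩ : A) ⟨b, hb⟩))⟩⟩
      (by rintro _ ⟨a, ha, rfl⟩; rw [← map_pow, hA2 a ha, map_one]) hx2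
      (fun a ha => ((commute_left (hA' a ha)).eq).symm) (fun hm => hxc (hA' x hm))
    refine ⟨B, hBc, hB2, ?_⟩
    rw [hBcard, Subgroup.card_map_of_injective (cent x y).subtype_injective, hAcard, pow_succ']

/-- The two types. -/
theorem rank_formula : ∀ (n : ℕ) (G : Type u) [Group G] [Finite G] (z : G), Ext 2 z → Nat.card G = n →
    ∃ m : ℕ, n = 2 ^ (2 * m + 1) ∧ ((invCount G = 2 ^ (2 * m) + 2 ^ m ∧ HasRank G (m + 1)) ∨
      (invCount G + 2 ^ m = 2 ^ (2 * m) ∧ 1 ≤ m ∧ HasRank G m)) := by
  haveI : Fact (Nat.Prime 2) := ⟨Nat.prime_two⟩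
  intro n
  induction n using Nat.strong_induction_on with
  | _ n ih =>
    intro G _ _ z h hn
    by_cases h2 : n = 2
    · refine ⟨0, by simp [h2], Or.inl ⟨by rw [invCount_cyclic h (hn.trans h2)]; rfl, ?_⟩⟩
      have hall := eq_zpowers_of_card h (hn.trans h2)
      refine ⟨fun A _ _ => (Subgroup.card_le_card_group A).trans (by rw [hn, h2]; norm_num), ⊤, ?_, ?_, ?_⟩
      · refine ⟨⟨fun a b => Subtype.ext ?_⟩⟩
        obtain ⟨i, hi⟩ := hall a
        show (a : G) * b = b * a
        rw [← hi]; exact h.commute_zpow i b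
      · intro a _
        rw [← show Nat.card G = 2 from hn.trans h2]
        exact pow_card_eq_one'
      · rw [Subgroup.card_top, hn, h2]; norm_num
    rcases cases_two h (hn.trans_ne h2) with ⟨x, y, P⟩ | ⟨x, y, P, hC, hN⟩
    · have d := card_eq h P
      rw [hn] at d
      have hlt : Nat.card (cent x y) < n := by
        have := Nat.card_pos (α := cent x y)
        omega
      obtain ⟨m, hm, hcase⟩ := ih _ hlt (cent x y) _ (ext_cent h P) rfl
      have e1 : 2 ^ (2 * (m + 1)) = 4 * 2 ^ (2 * m) := by ring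
      have e2 : 2 ^ (m + 1) = 2 * 2 ^ m := by ring
      have e3 : 2 ^ (2 * m + 1) = 2 * 2 ^ (2 * m) := by ring
      have d' := invCount_split h P
      rw [hm, e3] at d'
      refine ⟨m + 1, by rw [d, hm]; ring, ?_⟩
      rcases hcase with ⟨hc, hr⟩ | ⟨hc, hm1, hr⟩
      · exact Or.inl ⟨by omega, hasRank_split h P hr⟩
      · exact Or.inr ⟨by omega, by omega, hasRank_split h P hr⟩
    · have d := card_eq h P
      rw [hn, hC] at d
      refine ⟨1, by rw [d]; norm_num, Or.inr ⟨by rw [hN]; norm_num, le_rfl, ?_, Subgroup.zpowers z, ?_, ?_, ?_⟩⟩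
      · intro A _ hA2
        rw [pow_one, ← hN]
        exact Nat.card_le_card_of_injective (fun a : A => (⟨(a : G), hA2 a a.2⟩ : {g : G // g ^ 2 = 1}))
          fun a b e => Subtype.ext (congrArg Subtype.val e :)
      · infer_instance
      · rintro a ⟨i, rfl⟩
        show (z ^ i) ^ 2 = 1
        rw [← zpow_natCast, ← zpow_mul, mul_comm, zpow_mul, zpow_natCast, h.pow_eq, one_zpow]
      · rw [Nat.card_zpowers, orderOf_eq_prime h.pow_eq h.ne_one, pow_one]

/-- Square roots of one when the Frattini subgroup has order two. -/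
theorem count_frattini_two {G : Type u} [Group G] [Finite G] (hG : IsPGroup 2 G)
    (hΦ : Nat.card (frattini G) = 2) (d : ℕ) (hd : (frattini G).index = 2 ^ d) :
    (Nat.card {x : G // x ^ 2 = 1} = 2 ^ d ∨ ∃ r : ℕ, 1 ≤ r ∧ 2 * r ≤ d ∧
      (Nat.card {x : G // x ^ 2 = 1} = 2 ^ d + 2 ^ (d - r) ∨
        Nat.card {x : G // x ^ 2 = 1} + 2 ^ (d - r) = 2 ^ d)) ∧
    (∀ r : ℕ, d = 2 * r → (Nat.card {x : G // x ^ 2 = 1} = 2 ^ d + 2 ^ r ∨
      Nat.card {x : G // x ^ 2 = 1} + 2 ^ r = 2 ^ d) → Cfsg.IsExtraspecial 2 G) := by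
  classical
  haveI : Fact (Nat.Prime 2) := ⟨Nat.prime_two⟩
  haveI := Fintype.ofFinite G
  set j := Nat.card {x : G // x ^ 2 = 1} with hj
  have hcardG : Nat.card G = 2 ^ (d + 1) := by
    rw [← Subgroup.card_mul_index (frattini G), hΦ, hd, pow_succ']
  -- the involution of `Φ`
  obtain ⟨z', hz'⟩ := exists_prime_orderOf_dvd_card' (G := frattini G) 2 hΦ.symm.dvd
  obtain ⟨z, hzΦ, hz⟩ : ∃ z : G, z ∈ frattini G ∧ orderOf z = 2 := ⟨z', z'.2, by rw [Subgroup.orderOf_coe]; exact hz'⟩
  have hΦeq : ∀ w ∈ frattini G, w = 1 ∨ w = z := by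
    intro w hw
    have e : Subgroup.zpowers z = frattini G :=
      Subgroup.eq_of_le_of_card_ge (Subgroup.zpowers_le.mpr hzΦ) (by rw [hΦ, Nat.card_zpowers, hz])
    rw [← e, mem_zpowers_iff_mem_range_orderOf, hz] at hw
    obtain ⟨i, hi, rfl⟩ := Finset.mem_image.mp hw
    rw [Finset.mem_range] at hi
    interval_cases i <;> simp
  have hz1 : z ≠ 1 := fun e => by rw [e, orderOf_one] at hz; omega
  have hzz : z * z = 1 := by rw [← pow_two, ← hz]; exact pow_orderOf_eq_one z
  have hzc : ∀ g, g * z = z * g := fun g => by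
    rcases hΦeq _ ((inferInstance : (frattini G).Normal).conj_mem z hzΦ g) with e | e
    · exact absurd (conj_eq_one_iff.mp e) hz1
    · exact mul_inv_eq_iff_eq_mul.mp e
  have hsq : ∀ g : G, g ^ 2 = 1 ∨ g ^ 2 = z := fun g => hΦeq _ (pGroup_pow_mem_frattini hG g)
  have hcom : ∀ a b : G, a * b = b * a ∨ a * b = z * (b * a) := fun a b => by
    rcases hΦeq _ (pGroup_commutator_le_frattini hG (Subgroup.commutator_mem_commutator
      (Subgroup.mem_top a) (Subgroup.mem_top b))) with e | e
    · exact Or.inl (commutatorElement_eq_one_iff_mul_comm.mp e)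
    · exact Or.inr (by rw [← e, commutatorElement_def]; group)
  -- signs
  let χ : G → ℤ := fun g => if g ^ 2 = 1 then 1 else -1
  let ε : G → G → ℤ := fun a b => if a * b = b * a then 1 else -1
  have hmul : ∀ a b : G, χ (a * b) = χ a * χ b * ε a b := by
    intro a b
    have e : (a * b) ^ 2 = a * (b * a) * b := by simp only [pow_two, mul_assoc]
    rcases hcom a b with hab | hab
    · have e' : (a * b) ^ 2 = a ^ 2 * b ^ 2 := (show Commute a b from hab).mul_pow 2
      simp only [χ, ε]
      rw [e', if_pos hab]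
      rcases hsq a with ha | ha <;> rcases hsq b with hb | hb <;> simp [ha, hb, hz1, hzz]
    · have hne : a * b ≠ b * a := fun h => hz1 (right_eq_mul.mp (h.symm.trans hab))
      have hba : b * a = z * (a * b) := by rw [hab, ← mul_assoc, hzz, one_mul]
      have e' : (a * b) ^ 2 = z * (a ^ 2 * b ^ 2) := by
        rw [e, hba, ← mul_assoc a z, hzc a, pow_two, pow_two]; group
      rcases hsq a with ha | ha <;> rcases hsq b with hb | hb <;>
        simp [χ, ε, hne, ha, hb, hz1, hzz, e']
  have hχsq : ∀ g, χ g * χ g = 1 := fun g => by simp only [χ]; split_ifs <;> norm_num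
  -- the sum
  set T : ℤ := ∑ g, χ g with hT
  have hTj : T = 2 * (j : ℤ) - (2 : ℤ) ^ (d + 1) := by
    have h1 : ∀ g, χ g = 2 * (if g ^ 2 = 1 then 1 else 0 : ℤ) - 1 := fun g => by
      simp only [χ]; split_ifs <;> norm_num
    rw [hT, Finset.sum_congr rfl (fun g _ => h1 g), Finset.sum_sub_distrib, ← Finset.mul_sum,
      Finset.sum_boole, Finset.sum_const, Finset.card_univ, ← Nat.card_eq_fintype_card, hcardG, hj,
      Nat.card_eq_fintype_card, Fintype.card_subtype]
    simp
  set Z := Subgroup.center G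
  have hε : ∀ u : G, u ∉ Z → ∑ v, ε v u = 0 := by
    intro u hu
    obtain ⟨w, hw⟩ : ∃ w, w * u ≠ u * w := by
      by_contra hc; push Not at hc; exact hu (Subgroup.mem_center_iff.mpr hc)
    have key : ∀ v, ε (w * v) u = - ε v u := by
      intro v
      have hw' := (hcom w u).resolve_left hw
      rcases hcom v u with hv | hv
      · have hne : w * v * u ≠ u * (w * v) := fun h => hw (by
          have h' : w * u * v = u * w * v := by rw [mul_assoc, ← hv, ← mul_assoc, h, mul_assoc]
          exact mul_right_cancel h')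
        simp [ε, hv, hne]
      · have hne : v * u ≠ u * v := fun h => hz1 (right_eq_mul.mp (h.symm.trans hv))
        have heq : w * v * u = u * (w * v) := by
          calc w * v * u = w * (v * u) := by group
            _ = (w * z) * (u * v) := by rw [hv]; group
            _ = z * (w * u) * v := by rw [hzc w]; group
            _ = (z * z) * (u * (w * v)) := by rw [hw']; group
            _ = _ := by rw [hzz, one_mul]
        simp [ε, hne, heq]
    have : ∑ v, ε v u = - ∑ v, ε v u := by
      conv_lhs => rw [← Equiv.sum_comp (Equiv.mulLeft w)]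
      simp only [Equiv.coe_mulLeft, key, Finset.sum_neg_distrib]
    omega
  have hT2 : T * T = (Nat.card G : ℤ) * ∑ u : Z, χ (u : G) := by
    have h1 : T * T = ∑ u, ∑ v, χ v * χ (v * u) := by
      rw [hT, Finset.sum_mul_sum, Finset.sum_comm (s := Finset.univ) (f := fun u v => χ v * χ (v * u))]
      exact Finset.sum_congr rfl fun v _ => (Equiv.sum_comp (Equiv.mulLeft v) (fun w => χ v * χ w)).symm
    have h2 : ∀ u, ∑ v, χ v * χ (v * u) = χ u * ∑ v, ε v u := by
      intro u
      rw [Finset.mul_sum]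
      refine Finset.sum_congr rfl fun v _ => ?_
      rw [hmul v u, ← mul_assoc, ← mul_assoc, hχsq v, one_mul]
    rw [h1, Finset.sum_congr rfl (fun u _ => h2 u),
      ← Finset.sum_filter_add_sum_filter_not Finset.univ (fun u => u ∈ Z),
      Finset.sum_eq_zero (s := Finset.univ.filter fun u => ¬ u ∈ Z)
        (fun u hu => by rw [hε u (Finset.mem_filter.mp hu).2, mul_zero]), add_zero, Finset.mul_sum,
      Finset.sum_subtype (p := fun u => u ∈ Z) _ (fun u => by simp) (fun u => χ u * ∑ v, ε v u)]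
    refine Finset.sum_congr rfl fun u _ => ?_
    rw [Finset.sum_congr rfl (g := fun _ => (1 : ℤ)) (fun v _ => by
      simp [ε, Subgroup.mem_center_iff.mp u.2 v]), Finset.sum_const, Finset.card_univ,
      Nat.card_eq_fintype_card, nsmul_eq_mul, mul_one, mul_comm]
  obtain ⟨e, he⟩ := (hG.to_subgroup Z).exists_card_eq
  have he1 : 1 ≤ e := by
    rcases Nat.eq_zero_or_pos e with rfl | h
    · rw [pow_zero] at he
      exact absurd (Subgroup.mem_bot.mp (Subgroup.eq_bot_of_card_eq _ he ▸
        (Subgroup.mem_center_iff.mpr hzc : z ∈ Z))) hz1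
    · exact h
  have hZsum : (∑ u : Z, χ (u : G)) = 0 ∨ (∑ u : Z, χ (u : G)) = (Nat.card Z : ℤ) := by
    by_cases hall : ∀ u : Z, χ (u : G) = 1
    · right
      rw [Finset.sum_congr rfl (fun u _ => hall u), Nat.card_eq_fintype_card]
      simp
    · left
      push Not at hall
      obtain ⟨w, hw⟩ := hall
      have hwn : χ (w : G) = -1 := by
        have : χ (w : G) = 1 ∨ χ (w : G) = -1 := by simp only [χ]; split_ifs <;> simp
        exact this.resolve_left hw
      have : (∑ u : Z, χ (u : G)) = - ∑ u : Z, χ (u : G) := by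
        conv_lhs => rw [← Equiv.sum_comp (Equiv.mulLeft w)]
        rw [← Finset.sum_neg_distrib]
        refine Finset.sum_congr rfl fun u _ => ?_
        simp only [Equiv.coe_mulLeft, Subgroup.coe_mul, hmul, hwn]
        simp [ε, Subgroup.mem_center_iff.mp u.2 w]
      omega
  have hjpos : 1 ≤ j := by
    haveI : Nonempty {x : G // x ^ 2 = 1} := ⟨⟨1, one_pow 2⟩⟩
    exact Nat.card_pos
  by_cases hT0 : T = 0
  · have hjd : j = 2 ^ d := by
      rw [hT0, pow_succ'] at hTj
      have : (j : ℤ) = (2 : ℤ) ^ d := by linarith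
      exact_mod_cast this
    refine ⟨Or.inl hjd, fun r hr h => absurd h ?_⟩
    rw [hjd]
    have : 0 < 2 ^ r := pow_pos two_pos r
    omega
  have hsum : (∑ u : Z, χ (u : G)) = (Nat.card Z : ℤ) := hZsum.resolve_left fun h => hT0 (by
    rw [h, mul_zero] at hT2; exact mul_self_eq_zero.mp hT2)
  rw [hsum, hcardG, he] at hT2
  have habs : T.natAbs ^ 2 = 2 ^ (d + 1 + e) := by
    have := congrArg Int.natAbs hT2
    rw [Int.natAbs_mul, Int.natAbs_mul, Int.natAbs_natCast, Int.natAbs_natCast, ← pow_add] at this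
    rw [sq]; exact this
  obtain ⟨f, -, hf⟩ := (Nat.dvd_prime_pow Nat.prime_two).mp (habs ▸ dvd_pow_self _ two_ne_zero : T.natAbs ∣ 2 ^ (d + 1 + e))
  have hf2 : 2 * f = d + 1 + e := by
    rw [hf, ← pow_mul] at habs
    have := Nat.pow_right_injective le_rfl habs
    omega
  have hed : e ≤ d + 1 := by
    have h := Subgroup.card_le_card_group Z
    rw [he, hcardG] at h
    exact (Nat.pow_le_pow_iff_right Nat.one_lt_two).mp h
  obtain ⟨g, rfl⟩ : ∃ g, f = g + 1 := ⟨f - 1, by omega⟩
  have hcases : (j : ℤ) = 2 ^ d + 2 ^ g ∨ (j : ℤ) = 2 ^ d - 2 ^ g := by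
    rcases Int.natAbs_eq T with h | h <;> rw [hf] at h <;> push_cast at h <;>
      rw [pow_succ'] at h <;> rw [pow_succ'] at hTj
    · left; linarith
    · right; linarith
  refine ⟨Or.inr ⟨d - g, ?_, by omega, ?_⟩, fun r hr h => ?_⟩
  · -- `d = g` would make `G` elementary abelian
    by_contra hlt
    have hg : g = d := by omega
    rw [hg] at hcases
    rcases hcases with h | h
    · have hall : j = Nat.card G := by rw [hcardG, pow_succ']; exact_mod_cast (by linarith : (j : ℤ) = 2 * 2 ^ d)
      have hevery : ∀ x : G, x ^ 2 = 1 := by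
        intro x
        have hbij := Nat.bijective_iff_injective_and_card (fun y : {x : G // x ^ 2 = 1} => (y : G))
        obtain ⟨-, hs⟩ := hbij.mpr ⟨Subtype.val_injective, hall⟩
        obtain ⟨y, hy⟩ := hs x
        rw [← hy]; exact y.2
      have hcm : ∀ a b : G, a * b = b * a := fun a b => by
        have := hevery (a * b)
        have ha := inv_eq_of_mul_eq_one_right (by rw [← pow_two]; exact hevery a : a * a = 1)
        have hb := inv_eq_of_mul_eq_one_right (by rw [← pow_two]; exact hevery b : b * b = 1)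
        have hab := inv_eq_of_mul_eq_one_right (by rw [← pow_two]; exact this : (a * b) * (a * b) = 1)
        rw [mul_inv_rev, ha, hb] at hab
        exact hab.symm
      rw [frattini_eq_bot_of_exponent Nat.prime_two hcm hevery, Subgroup.card_bot] at hΦ
      omega
    · have : j = 0 := by exact_mod_cast (by linarith : (j : ℤ) = 0)
      omega
  · rw [show d - (d - g) = g by omega]
    rcases hcases with h | h
    · left; exact_mod_cast h
    · right; exact_mod_cast (by linarith : (j : ℤ) + 2 ^ g = 2 ^ d)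
  · have hgr : g = r := by
      have hpow : (2 : ℤ) ^ g = 2 ^ r := by
        have hgp : (0 : ℤ) < 2 ^ g := by positivity
        have hrp : (0 : ℤ) < 2 ^ r := by positivity
        rcases h with h | h <;> have h' : ((j : ℤ)) = _ := rfl <;> rcases hcases with hc | hc <;>
          zify at h <;> linarith
      exact Nat.pow_right_injective le_rfl (by exact_mod_cast hpow)
    have hZ : Nat.card Z = 2 := by rw [he, show e = 1 by omega, pow_one]
    have hZΦ : frattini G = Z := Subgroup.eq_of_le_of_card_ge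
      (fun w hw => by
        rcases hΦeq w hw with rfl | rfl
        · exact one_mem _
        · exact Subgroup.mem_center_iff.mpr hzc) (by rw [hZ, hΦ])
    refine ⟨⟨hG, hZΦ, ?_⟩, hZ⟩
    refine Subgroup.eq_of_le_of_card_ge ((pGroup_commutator_le_frattini hG).trans hZΦ.le) ?_
    have hne : commutator G ≠ ⊥ := fun hb => by
      have htop : Z = ⊤ := eq_top_iff.mpr fun a _ => Subgroup.mem_center_iff.mpr fun b =>
        commutatorElement_eq_one_iff_mul_comm.mp (Subgroup.mem_bot.mp (hb.le
          (Subgroup.commutator_mem_commutator (Subgroup.mem_top b) (Subgroup.mem_top a))))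
      rw [htop, Subgroup.card_top, hcardG] at hZ
      have := Nat.pow_right_injective le_rfl (hZ.trans (pow_one 2).symm)
      have hd0 : d = 0 := by omega
      rw [hd0, pow_zero, Subgroup.index_eq_one] at hd
      exact hz1 (Subgroup.mem_bot.mp ((frattini_nongenerating
        (by rw [hd, sup_top_eq] : (⊥ : Subgroup G) ⊔ frattini G = ⊤)).ge (Subgroup.mem_top z)))
    rw [hZ]
    exact (Subgroup.one_lt_card_iff_ne_bot _).mpr hne

end Cfsg.Agent.Grp.ExtraRank
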