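import Mathlib
import Cfsg.Prelude.Def_Transfer
import Cfsg.Agent.Lib.Grp.AmbivalentSolvable
import Cfsg.Agent.Lib.Grp.Frattini
import Cfsg.Agent.Lib.Grp.Basic
import Cfsg.Agent.Lib.Grp.ExtraRank
import Cfsg.Agent.Lib.Transfer.OmegaMetacyclic

/-!
Sylow subgroups of groups in which `p`-subgroups (or abelian subgroups) of equal order are conjugate.
-/

set_option autoImplicit false

namespace Cfsg.Agent.Grp.ConjSylow

open scoped commutatorElement

universe u

variable {P : Type u} [Group P] [Finite P] {p : ℕ} [hp : Fact p.Prime]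

omit [Finite P] in
theorem isMulComm_iff {H : Subgroup P} : IsMulCommutative H ↔ ∀ a ∈ H, ∀ b ∈ H, a * b = b * a := by
  refine ⟨fun h a ha b hb => congrArg Subtype.val (h.is_comm.comm (⟨a, ha⟩ : H) ⟨b, hb⟩),
    fun h => ⟨⟨fun a b => Subtype.ext (h a a.2 b b.2)⟩⟩⟩

/-- A noncyclic `p`-group has an elementary subgroup of order `p²`, unless `p = 2` and it is quaternion. -/
theorem exists_square (hP : IsPGroup p P) (hc : ¬ IsCyclic P) :
    (∃ E : Subgroup P, Cfsg.IsElementaryAbelian p E ∧ Nat.card E = p ^ 2) ∨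
      (p = 2 ∧ ∃ n : ℕ, Nonempty (P ≃* QuaternionGroup (2 ^ (n + 1)))) := by
  classical
  by_cases hp2 : p = 2
  · subst hp2
    by_cases huniq : ∀ u v : P, orderOf u = 2 → orderOf v = 2 → u = v
    · exact Or.inr ⟨rfl, (Ambivalent.cyclic_or_quaternion hP huniq).resolve_left hc⟩
    push Not at huniq
    obtain ⟨u, v, hu, hv, huv⟩ := huniq
    haveI : Nontrivial P := ⟨⟨u, v, huv⟩⟩
    haveI := hP.center_nontrivial
    obtain ⟨e, he⟩ := (hP.to_subgroup (Subgroup.center P)).exists_card_eq
    have he0 : e ≠ 0 := fun h => by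
      rw [h, pow_zero] at he
      exact absurd he (Finite.one_lt_card (α := Subgroup.center P)).ne'
    obtain ⟨z, hz⟩ := exists_prime_orderOf_dvd_card' 2 ((dvd_pow_self 2 he0).trans he.symm.dvd)
    obtain ⟨w, hw, hwz⟩ : ∃ w : P, orderOf w = 2 ∧ w ≠ (z : P) := by
      rcases eq_or_ne u (z : P) with h | h
      · exact ⟨v, hv, fun h' => huv (h.trans h'.symm)⟩
      · exact ⟨u, hu, h⟩
    have hzo : orderOf (z : P) = 2 := by rw [Subgroup.orderOf_coe, hz]
    have hcomm : Commute w (z : P) := Subgroup.mem_center_iff.mp z.2 w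
    have hwsq : w ^ 2 = 1 := hw ▸ pow_orderOf_eq_one w
    have hzsq : (z : P) ^ 2 = 1 := hzo ▸ pow_orderOf_eq_one (z : P)
    have hall : ∀ a ∈ Subgroup.zpowers w, a ^ 2 = 1 := by
      rintro a ⟨i, rfl⟩
      show (w ^ i) ^ 2 = 1
      rw [← zpow_natCast, ← zpow_mul, mul_comm, zpow_mul, zpow_natCast, hwsq, one_zpow]
    have hnot : (z : P) ∉ Subgroup.zpowers w := by
      intro h
      rw [mem_zpowers_iff_mem_range_orderOf, hw] at h
      obtain ⟨i, hi, e⟩ := Finset.mem_image.mp h
      rw [Finset.mem_range] at hi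
      interval_cases i
      · rw [pow_zero] at e
        rw [← e, orderOf_one] at hzo
        omega
      · rw [pow_one] at e
        exact hwz e
    obtain ⟨B, hBc, hB2, -, -, hBcard⟩ := ExtraRank.exists_adjoin (S := Subgroup.zpowers w) (x := (z : P))
      inferInstance hall hzsq (by
        rintro a ⟨i, rfl⟩
        exact (hcomm.zpow_left i).symm.eq) hnot
    exact Or.inl ⟨B, ⟨hBc, hB2⟩, by rw [hBcard, Nat.card_zpowers, hw]; norm_num⟩
  · haveI : (⊤ : Subgroup P).Normal := inferInstance
    obtain ⟨A, -, -, hA, hAc⟩ := Transfer.exists_normal_elementary hp2 hP ⊤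
      (fun h => hc (isCyclic_of_surjective (Subgroup.topEquiv (G := P)).toMonoidHom (MulEquiv.surjective _)))
    exact Or.inl ⟨A, hA, hAc⟩

/-- Abelian subgroups of the same order have the same exponent `p` status: then `P` has exponent `p`. -/
theorem exponent_of_square (hP : IsPGroup p P)
    (hiso : ∀ A B : Subgroup P, IsMulCommutative A → IsMulCommutative B → Nat.card A = Nat.card B →
      (∀ x ∈ A, x ^ p = 1) → ∀ x ∈ B, x ^ p = 1)
    {E : Subgroup P} (hE : Cfsg.IsElementaryAbelian p E) (hEc : Nat.card E = p ^ 2) (x : P) :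
    x ^ p = 1 := by
  obtain ⟨k, hk⟩ := IsPGroup.iff_orderOf.mp hP x
  rcases Nat.lt_or_ge k 2 with h | h
  · refine orderOf_dvd_iff_pow_eq_one.mp ?_
    rw [hk]
    calc p ^ k ∣ p ^ 1 := pow_dvd_pow p (by omega)
      _ = p := pow_one p
  · exfalso
    set y := x ^ p ^ (k - 2) with hy
    have hyo : orderOf y = p ^ 2 := by
      rw [hy, orderOf_pow_of_dvd (pow_ne_zero _ hp.out.ne_zero) (by rw [hk]; exact pow_dvd_pow p (by omega)), hk,
        Nat.pow_div (by omega) hp.out.pos, show k - (k - 2) = 2 by omega]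
    have h1 := hiso E (Subgroup.zpowers y) hE.1 inferInstance (by rw [hEc, Nat.card_zpowers, hyo]) hE.2 y
      (Subgroup.mem_zpowers y)
    have h2 := Nat.le_of_dvd hp.out.pos (hyo ▸ orderOf_dvd_of_pow_eq_one h1)
    have := hp.out.two_le
    nlinarith

omit hp in
theorem comm_of_exp_two {G : Type u} [Group G] (h : ∀ x : G, x ^ 2 = 1) (a b : G) : a * b = b * a := by
  have key : ∀ c : G, c⁻¹ = c := fun c => inv_eq_of_mul_eq_one_right (by rw [← pow_two]; exact h c)
  rw [← key (a * b), mul_inv_rev, key, key]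

/-- The cyclic, elementary, quaternion trichotomy. -/
theorem trichotomy (hP : IsPGroup p P)
    (hiso : ∀ A B : Subgroup P, IsMulCommutative A → IsMulCommutative B → Nat.card A = Nat.card B →
      (∀ x ∈ A, x ^ p = 1) → ∀ x ∈ B, x ^ p = 1) :
    IsCyclic P ∨ (∀ x : P, x ^ p = 1) ∨
      (p = 2 ∧ ∃ n : ℕ, Nonempty (P ≃* QuaternionGroup (2 ^ (n + 1)))) := by
  by_cases hc : IsCyclic P
  · exact Or.inl hc
  rcases exists_square hP hc with ⟨E, hE, hEc⟩ | h
  · exact Or.inr (Or.inl (exponent_of_square hP hiso hE hEc))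
  · exact Or.inr (Or.inr h)

/-- A group of exponent `p` and order at least `p⁴` has abelian and non-abelian subgroups of order `p³`. -/
theorem two_cubes (hP : IsPGroup p P) (hexp : ∀ x : P, x ^ p = 1) {n : ℕ} (hn : Nat.card P = p ^ n)
    (hn4 : 4 ≤ n) (hna : ¬ ∀ a b : P, a * b = b * a) :
    ∃ A H : Subgroup P, IsMulCommutative A ∧ ¬ IsMulCommutative H ∧ Nat.card A = p ^ 3 ∧ Nat.card H = p ^ 3 := by
  classical
  haveI := hP.isNilpotent
  haveI : Nontrivial P := by
    by_contra h
    rw [not_nontrivial_iff_subsingleton] at h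
    exact hna fun a b => Subsingleton.elim _ _
  set Z := Subgroup.center P
  haveI := hP.center_nontrivial
  obtain ⟨zc, hzc⟩ := hP.to_subgroup Z |>.exists_card_eq
  have hzc0 : 1 ≤ zc := by
    rcases Nat.eq_zero_or_pos zc with h | h
    · rw [h, pow_zero] at hzc
      exact absurd hzc (Finite.one_lt_card (α := Z)).ne'
    · exact h
  -- an element of the second centre
  haveI : Group.IsNilpotent (P ⧸ Z) := inferInstance
  have hQ : (⊤ : Subgroup (P ⧸ Z)) ≠ ⊥ := fun e => hna fun a b => by
    have ha : (a : P ⧸ Z) = 1 := Subgroup.mem_bot.mp (e.le (Subgroup.mem_top _))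
    exact ((Subgroup.mem_center_iff.mp ((QuotientGroup.eq_one_iff a).mp ha)) b).symm
  obtain ⟨ub, ⟨-, hub⟩, hub1⟩ := (Subgroup.bot_or_exists_ne_one _).resolve_left
    (inf_center_ne_bot (⊤ : Subgroup (P ⧸ Z)) hQ)
  obtain ⟨u, rfl⟩ := QuotientGroup.mk'_surjective Z ub
  have huZ : u ∉ Z := fun h => hub1 ((QuotientGroup.eq_one_iff u).mpr h)
  have hcomm : ∀ g : P, ⁅g, u⁆ ∈ Z := fun g => by
    rw [← QuotientGroup.eq_one_iff]
    show QuotientGroup.mk' Z ⁅g, u⁆ = 1
    rw [map_commutatorElement]
    exact commutatorElement_eq_one_iff_mul_comm.mpr (Subgroup.mem_center_iff.mp hub _)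
  have hcardp : ∀ y : P, y ≠ 1 → orderOf y = p := fun y hy => orderOf_eq_prime (hexp y) hy
  obtain ⟨y, hy⟩ : ∃ y : P, y * u ≠ u * y := by
    by_contra hc; push Not at hc; exact huZ (Subgroup.mem_center_iff.mpr hc)
  set c := ⁅y, u⁆ with hc
  have hcZ : c ∈ Z := hcomm y
  have hc1 : c ≠ 1 := fun e => hy (commutatorElement_eq_one_iff_mul_comm.mp e)
  -- `V = ⟨u, c⟩`
  have adjoin : ∀ (S : Subgroup P) (x : P), S ≤ Subgroup.normalizer (S : Set P) → x ∈ Subgroup.normalizer (S : Set P) →
      x ∉ S → Nat.card ↥(Subgroup.zpowers x ⊔ S) = p * Nat.card S := by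
    intro S x _ hx hxS
    have h := card_sup_mul_card_inf (H := Subgroup.zpowers x) (N := S) (Subgroup.zpowers_le.mpr hx)
    have h1 : Subgroup.zpowers x ⊓ S = ⊥ := by
      refine Subgroup.eq_bot_of_card_eq _ ?_
      have hd := Subgroup.card_dvd_of_le (inf_le_left : Subgroup.zpowers x ⊓ S ≤ Subgroup.zpowers x)
      rw [Nat.card_zpowers, hcardp x (fun e => hxS (e ▸ one_mem S))] at hd
      refine ((Nat.dvd_prime hp.out).mp hd).resolve_right fun e => hxS ?_
      have := Subgroup.eq_of_le_of_card_ge (inf_le_left : Subgroup.zpowers x ⊓ S ≤ Subgroup.zpowers x)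
        (by rw [e, Nat.card_zpowers, hcardp x (fun e => hxS (e ▸ one_mem S))])
      exact (this.ge (Subgroup.mem_zpowers x)).2
    rw [h1, Subgroup.card_bot, mul_one, Nat.card_zpowers, hcardp x (fun e => hxS (e ▸ one_mem S))] at h
    exact h
  set V := Subgroup.zpowers u ⊔ Subgroup.zpowers c with hV
  have huc : u ∉ Subgroup.zpowers c := fun h => huZ (Subgroup.zpowers_le.mpr hcZ h)
  have hnc : ∀ x : P, x ∈ Subgroup.normalizer (Subgroup.zpowers c : Set P) := fun x =>
    Subgroup.mem_normalizer_iff.mpr fun w => by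
      constructor
      · intro hw
        rwa [Subgroup.mem_center_iff.mp (Subgroup.zpowers_le.mpr hcZ hw) x, mul_inv_cancel_right]
      · intro hw
        have h1 := Subgroup.mem_center_iff.mp (Subgroup.zpowers_le.mpr hcZ hw) x⁻¹
        have h2 : w = x * w * x⁻¹ := by
          calc w = x⁻¹ * (x * w * x⁻¹) * x := by group
            _ = (x * w * x⁻¹) * x⁻¹ * x := by rw [h1]
            _ = _ := by group
        rw [h2]; exact hw
  have hVc : Nat.card V = p ^ 2 := by
    rw [hV, adjoin _ u Subgroup.le_normalizer (hnc u) huc, Nat.card_zpowers, hcardp c hc1, pow_two]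
  have hyV : y ∈ Subgroup.normalizer (V : Set P) := by
    rw [Subgroup.mem_normalizer_iff_map_conj_eq]
    refine Subgroup.eq_of_le_of_card_ge ?_ (Subgroup.card_map_of_injective (MulAut.conj y).injective).ge
    rw [Subgroup.map_sup, MonoidHom.map_zpowers, MonoidHom.map_zpowers, sup_le_iff, Subgroup.zpowers_le,
      Subgroup.zpowers_le]
    refine ⟨?_, ?_⟩
    · show y * u * y⁻¹ ∈ V
      rw [show y * u * y⁻¹ = c * u by rw [hc, commutatorElement_def]; group]
      exact mul_mem (Subgroup.mem_sup_right (Subgroup.mem_zpowers c)) (Subgroup.mem_sup_left (Subgroup.mem_zpowers u))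
    · show y * c * y⁻¹ ∈ V
      rw [Subgroup.mem_center_iff.mp hcZ y, mul_inv_cancel_right]
      exact Subgroup.mem_sup_right (Subgroup.mem_zpowers c)
  have hVcomm : ∀ a ∈ V, a * u = u * a := by
    have : V ≤ Subgroup.centralizer ({u} : Set P) := sup_le
      (Subgroup.zpowers_le.mpr (Subgroup.mem_centralizer_singleton_iff.mpr rfl))
      (Subgroup.zpowers_le.mpr (Subgroup.mem_centralizer_singleton_iff.mpr (Subgroup.mem_center_iff.mp hcZ u).symm))
    exact fun a ha => Subgroup.mem_centralizer_singleton_iff.mp (this ha)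
  have hyV' : y ∉ V := fun h => hy (hVcomm y h)
  -- the centralizer of `u`
  let φ : P →* Z :=
    { toFun := fun g => ⟨⁅g, u⁆, hcomm g⟩
      map_one' := Subtype.ext (commutatorElement_one_left u)
      map_mul' := fun a b => Subtype.ext (by
        show ⁅a * b, u⁆ = ⁅a, u⁆ * ⁅b, u⁆
        have h := Subgroup.mem_center_iff.mp (hcomm b) a
        calc ⁅a * b, u⁆ = a * ⁅b, u⁆ * a⁻¹ * ⁅a, u⁆ := by simp only [commutatorElement_def]; group
          _ = ⁅b, u⁆ * ⁅a, u⁆ := by rw [h, mul_inv_cancel_right]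
          _ = _ := (Subgroup.mem_center_iff.mp (hcomm a) ⁅b, u⁆)) }
  have hker : φ.ker = Subgroup.centralizer ({u} : Set P) := by
    ext g
    rw [MonoidHom.mem_ker, Subgroup.mem_centralizer_singleton_iff]
    exact ⟨fun h => commutatorElement_eq_one_iff_mul_comm.mp (congrArg Subtype.val h),
      fun h => Subtype.ext (commutatorElement_eq_one_iff_mul_comm.mpr h)⟩
  -- an abelian subgroup of order at least `p³`
  obtain ⟨A0, hA0, hA0c⟩ : ∃ A0 : Subgroup P, IsMulCommutative A0 ∧ p ^ 3 ≤ Nat.card A0 := by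
    set W := Subgroup.zpowers u ⊔ Z with hW
    have hWcard : Nat.card W = p * p ^ zc := by
      rw [hW, adjoin Z u Subgroup.le_normalizer (by rw [Subgroup.normalizer_eq_top Z]; exact Subgroup.mem_top u) huZ, hzc]
    have hWC : W ≤ Subgroup.centralizer ({u} : Set P) := sup_le
      (Subgroup.zpowers_le.mpr (Subgroup.mem_centralizer_singleton_iff.mpr rfl))
      (fun w hw => Subgroup.mem_centralizer_singleton_iff.mpr (Subgroup.mem_center_iff.mp hw u).symm)
    have hWc : IsMulCommutative W := isMulComm_iff.mpr fun a ha b hb => by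
      have h2 : W ≤ Subgroup.centralizer (W : Set P) := sup_le
        (Subgroup.zpowers_le.mpr (Subgroup.mem_centralizer_iff.mpr fun w hw => Subgroup.mem_centralizer_singleton_iff.mp (hWC hw)))
        (fun w hw => Subgroup.mem_centralizer_iff.mpr fun v _ => Subgroup.mem_center_iff.mp hw v)
      exact (Subgroup.mem_centralizer_iff.mp (h2 ha) b hb).symm
    by_cases h3 : p ^ 3 ≤ Nat.card W
    · exact ⟨W, hWc, h3⟩
    have hzc1 : zc = 1 := by
      by_contra hne
      refine h3 ?_
      rw [hWcard, ← pow_succ']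
      exact Nat.pow_le_pow_right hp.out.pos (by omega)
    obtain ⟨w, hw, hwW⟩ : ∃ w ∈ Subgroup.centralizer ({u} : Set P), w ∉ W := by
      by_contra hc
      push Not at hc
      have h1 := Subgroup.card_le_of_le (hc : Subgroup.centralizer ({u} : Set P) ≤ W)
      have h2 := Subgroup.card_mul_index φ.ker
      have h4 : φ.ker.index ≤ p := by
        rw [Subgroup.index_ker]
        refine (Subgroup.card_le_card_group φ.range).trans ?_
        rw [hzc, hzc1, pow_one]
      rw [hWcard, hzc1, pow_one] at h1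
      rw [hker] at h2 h4
      have h5 : p ^ n ≤ p ^ 3 := by
        rw [← hn, ← h2]
        calc Nat.card ↥(Subgroup.centralizer ({u} : Set P)) * (Subgroup.centralizer ({u} : Set P)).index
            ≤ (p * p) * p := Nat.mul_le_mul h1 h4
          _ = p ^ 3 := by ring
      have := (Nat.pow_le_pow_iff_right hp.out.one_lt).mp h5
      omega
    have hwc : ∀ a ∈ W, w * a = a * w := by
      have : W ≤ Subgroup.centralizer ({w} : Set P) := sup_le
        (Subgroup.zpowers_le.mpr (Subgroup.mem_centralizer_singleton_iff.mpr (Subgroup.mem_centralizer_singleton_iff.mp hw).symm))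
        (fun v hv => Subgroup.mem_centralizer_singleton_iff.mpr (Subgroup.mem_center_iff.mp hv w).symm)
      exact fun a ha => (Subgroup.mem_centralizer_singleton_iff.mp (this ha)).symm
    refine ⟨Subgroup.zpowers w ⊔ W, ?_, ?_⟩
    · have h2 : Subgroup.zpowers w ⊔ W ≤ Subgroup.centralizer ((Subgroup.zpowers w ⊔ W : Subgroup P) : Set P) := by
        refine sup_le (Subgroup.zpowers_le.mpr (Subgroup.mem_centralizer_iff.mpr fun v hv => ?_))
          (fun a ha => Subgroup.mem_centralizer_iff.mpr fun v hv => ?_)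
        · have : Subgroup.zpowers w ⊔ W ≤ Subgroup.centralizer ({w} : Set P) := sup_le
            (Subgroup.zpowers_le.mpr (Subgroup.mem_centralizer_singleton_iff.mpr rfl))
            (fun a ha => Subgroup.mem_centralizer_singleton_iff.mpr (hwc a ha).symm)
          exact Subgroup.mem_centralizer_singleton_iff.mp (this hv)
        · have : Subgroup.zpowers w ⊔ W ≤ Subgroup.centralizer ({a} : Set P) := sup_le
            (Subgroup.zpowers_le.mpr (Subgroup.mem_centralizer_singleton_iff.mpr (hwc a ha)))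
            (fun b hb => Subgroup.mem_centralizer_singleton_iff.mpr (isMulComm_iff.mp hWc b hb a ha))
          exact Subgroup.mem_centralizer_singleton_iff.mp (this hv)
      exact isMulComm_iff.mpr fun a ha b hb => (Subgroup.mem_centralizer_iff.mp (h2 ha) b hb).symm
    · rw [adjoin W w Subgroup.le_normalizer ?_ hwW, hWcard, hzc1]
      · exact le_of_eq (by ring)
      · exact Subgroup.mem_normalizer_iff.mpr fun v => by
          constructor
          · intro hv; rwa [hwc v hv, mul_inv_cancel_right]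
          · intro hv
            have h1 := hwc _ hv
            have h2 : v = w * v * w⁻¹ := by
              have h3 : w * (w * v * w⁻¹) = w * v := by rw [h1]; group
              exact (mul_left_cancel h3).symm
            rw [h2]; exact hv
  obtain ⟨e, he⟩ := (hP.to_subgroup A0).exists_card_eq
  obtain ⟨X, hX⟩ := Sylow.exists_subgroup_card_pow_prime (G := A0) p (n := 3)
    (he ▸ pow_dvd_pow p ((Nat.pow_le_pow_iff_right hp.out.one_lt).mp (he ▸ hA0c)))
  refine ⟨X.map A0.subtype, Subgroup.zpowers y ⊔ V, isMulComm_iff.mpr fun a ha b hb => ?_, fun h => hy ?_,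
    by rw [Subgroup.card_map_of_injective A0.subtype_injective, hX], ?_⟩
  · exact isMulComm_iff.mp hA0 a (Subgroup.map_subtype_le X ha) b (Subgroup.map_subtype_le X hb)
  · exact isMulComm_iff.mp h y (Subgroup.mem_sup_left (Subgroup.mem_zpowers y)) u
      (Subgroup.mem_sup_right (Subgroup.mem_sup_left (Subgroup.mem_zpowers u)))
  · rw [adjoin V y Subgroup.le_normalizer hyV hyV', hVc]; ring

/-- `Q₈` inside a larger generalized quaternion group. -/
theorem exists_q8_hom (n : ℕ) : ∃ f : QuaternionGroup 2 →* QuaternionGroup (2 ^ (n + 1)), Function.Injective f := by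
  let m := 2 * 2 ^ (n + 1)
  have hzero : zmultiplesHom (ZMod m) ((2 : ZMod m) ^ n) ((2 * 2 : ℕ) : ℤ) = 0 := by
    rw [zmultiplesHom_apply, natCast_zsmul, nsmul_eq_mul]
    have e : 2 * 2 * 2 ^ n = m := by simp only [m]; ring
    have h := congrArg (fun k : ℕ => (k : ZMod m)) e
    simp only [ZMod.natCast_self] at h
    rw [← h]; push_cast; ring
  let l : ZMod (2 * 2) →+ ZMod m := ZMod.lift (2 * 2) ⟨zmultiplesHom (ZMod m) ((2 : ZMod m) ^ n), hzero⟩
  have hl : ∀ i : ℕ, l (i : ZMod (2 * 2)) = (i : ZMod m) * 2 ^ n := fun i => by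
    have := ZMod.lift_coe (2 * 2) ⟨zmultiplesHom (ZMod m) ((2 : ZMod m) ^ n), hzero⟩ (i : ℤ)
    simpa [l] using this
  have hl2 : l 2 = ((2 ^ (n + 1) : ℕ) : ZMod m) := by
    have := hl 2
    push_cast at this ⊢
    rw [this, pow_succ']
  have hinj : Function.Injective l := by
    intro a b h
    obtain ⟨i, rfl⟩ := ZMod.natCast_zmod_surjective a
    obtain ⟨j, rfl⟩ := ZMod.natCast_zmod_surjective b
    rw [hl, hl] at h
    have h' : ((i * 2 ^ n : ℕ) : ZMod m) = ((j * 2 ^ n : ℕ) : ZMod m) := by push_cast; exact h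
    rw [ZMod.natCast_eq_natCast_iff'] at h'
    have hm : m = (2 * 2) * 2 ^ n := by simp only [m]; ring
    rw [hm, Nat.mul_mod_mul_right, Nat.mul_mod_mul_right] at h'
    exact (ZMod.natCast_eq_natCast_iff' i j (2 * 2)).mpr (Nat.eq_of_mul_eq_mul_right (pow_pos two_pos n) h')
  refine ⟨{ toFun := fun g => match g with
              | QuaternionGroup.a i => QuaternionGroup.a (l i)
              | QuaternionGroup.xa i => QuaternionGroup.xa (l i)
            map_one' := by
              show QuaternionGroup.a (l 0) = 1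
              rw [map_zero]; rfl
            map_mul' := ?_ }, ?_⟩
  · rintro (i | i) (j | j)
    · simp only [QuaternionGroup.a_mul_a, map_add]
    · simp only [QuaternionGroup.a_mul_xa, map_sub]
    · simp only [QuaternionGroup.xa_mul_a, map_add]
    · simp only [QuaternionGroup.xa_mul_xa, map_sub, map_add]
      rw [← hl2]
      rfl
  · rintro (i | i) (j | j) h <;> simp only [MonoidHom.coe_mk, OneHom.coe_mk] at h <;>
      first
        | (rw [hinj (QuaternionGroup.a.inj h)])
        | (rw [hinj (QuaternionGroup.xa.inj h)])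
        | cases h

/-- The full statement for conjugate `p`-subgroups. -/
theorem classify (hP : IsPGroup p P)
    (hiso : ∀ A B : Subgroup P, Nat.card A = Nat.card B →
      (IsMulCommutative A → IsMulCommutative B) ∧ ((∀ x ∈ A, x ^ p = 1) → ∀ x ∈ B, x ^ p = 1)) :
    IsCyclic P ∨ ((∀ a b : P, a * b = b * a) ∧ ∀ x : P, x ^ p = 1) ∨
      (p = 2 ∧ Nonempty (P ≃* QuaternionGroup 2)) ∨
      (p ≠ 2 ∧ ¬ IsMulCommutative P ∧ Nat.card P = p ^ 3 ∧ Monoid.exponent P = p) := by
  classical
  rcases trichotomy hP (fun A B _ _ h => (hiso A B h).2) with h | h | ⟨hp2, n, ⟨e⟩⟩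
  · exact Or.inl h
  · by_cases hab : ∀ a b : P, a * b = b * a
    · exact Or.inr (Or.inl ⟨hab, h⟩)
    refine Or.inr (Or.inr (Or.inr ⟨fun hp2 => hab (comm_of_exp_two (hp2 ▸ h)),
      fun hc => hab hc.is_comm.comm, ?_, ?_⟩))
    · obtain ⟨n, hn⟩ := hP.exists_card_eq
      rcases Nat.lt_or_ge n 4 with hlt | hge
      · rcases Nat.lt_or_ge n 3 with h3 | h3
        · exfalso
          apply hab
          interval_cases n
          · haveI : Subsingleton P := (Nat.card_eq_one_iff_unique.mp (by simpa using hn)).1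
            exact fun a b => Subsingleton.elim _ _
          · haveI := isCyclic_of_prime_card (p := p) (by simpa using hn)
            exact fun a b => IsMulCommutative.is_comm.comm a b
          · exact fun a b => (IsPGroup.commGroupOfCardEqPrimeSq hn).mul_comm a b
        · rw [hn, show n = 3 by omega]
      · obtain ⟨A, H, hA, hH, hAc, hHc⟩ := two_cubes hP h hn hge hab
        exact absurd ((hiso A H (hAc.trans hHc.symm)).1 hA) hH
    · refine ((Nat.dvd_prime hp.out).mp (Monoid.exponent_dvd_of_forall_pow_eq_one h)).resolve_left fun e => hab ?_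
      haveI := Monoid.exp_eq_one_iff.mp e
      exact fun a b => Subsingleton.elim _ _
  · refine Or.inr (Or.inr (Or.inl ⟨hp2, ?_⟩))
    subst hp2
    rcases n with _ | n
    · exact ⟨e⟩
    exfalso
    obtain ⟨f, hf⟩ := exists_q8_hom (n + 1)
    let g : QuaternionGroup 2 →* P := e.symm.toMonoidHom.comp f
    have hg : Function.Injective g := e.symm.injective.comp hf
    have hH : Nat.card g.range = 8 := by
      rw [← Nat.card_congr (MonoidHom.ofInjective hg).toEquiv, Nat.card_eq_fintype_card, QuaternionGroup.card]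
    obtain ⟨c, hc⟩ : ∃ c : P, orderOf c = 8 := by
      set a := e.symm (QuaternionGroup.a 1) with ha
      have hao : orderOf a = 2 * 2 ^ (n + 1 + 1) := by
        rw [ha, MulEquiv.orderOf_eq, QuaternionGroup.orderOf_a_one]
      refine ⟨a ^ 2 ^ n, ?_⟩
      rw [orderOf_pow_of_dvd (pow_ne_zero _ two_ne_zero) (by rw [hao]; exact ⟨8, by ring⟩), hao,
        show 2 * 2 ^ (n + 1 + 1) = 8 * 2 ^ n by ring, Nat.mul_div_cancel _ (pow_pos two_pos n)]
    have hcomm := (hiso (Subgroup.zpowers c) g.range (by rw [hH, Nat.card_zpowers, hc])).1 inferInstance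
    have h1 : g (QuaternionGroup.a 1) * g (QuaternionGroup.xa 0) = g (QuaternionGroup.xa 0) * g (QuaternionGroup.a 1) :=
      isMulComm_iff.mp hcomm _ ⟨_, rfl⟩ _ ⟨_, rfl⟩
    rw [← map_mul, ← map_mul] at h1
    exact absurd (hg h1) (by decide)

end Cfsg.Agent.Grp.ConjSylow
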