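import Mathlib
import Cfsg.Prelude.Def_Local
import Cfsg.Agent.Lib.Grp.Cores
import Cfsg.Agent.Lib.Grp.PSolvable
import Cfsg.Agent.Lib.Grp.Frattini
import Cfsg.Agent.Lib.Grp.ConjSylow
import Cfsg.Agent.Lib.Grp.SameOrderConj

/-!
Normal `p`-solvable subgroups when `p`-subgroups of equal order are conjugate.
-/

set_option autoImplicit false

namespace Cfsg.Agent.Grp.ConjPSolvable

open scoped commutatorElement

variable {G : Type*} [Group G] [Finite G] {p : ℕ} [hp : Fact p.Prime]

/-- The hypothesis on `p`-subgroups. -/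
def Hyp (p : ℕ) (G : Type*) [Group G] : Prop :=
  ∀ H K : Subgroup G, IsPGroup p H → IsPGroup p K → Nat.card H = Nat.card K →
    ∃ g : G, K = H.map (MulAut.conj g).toMonoidHom

theorem pPrimeCore_char (H : Type*) [Group H] [Finite H] (p : ℕ) : (Cfsg.pPrimeCore p H).Characteristic :=
  Subgroup.characteristic_iff_map_le.mpr fun e => by
    haveI := pPrimeCore_isNormal (p := p) (G := H)
    exact le_pPrimeCore (Subgroup.Normal.map inferInstance e.toMonoidHom e.surjective)
      (by rw [Subgroup.card_map_of_injective e.injective]; exact pPrimeCore_coprime)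

theorem pPrimePCore_facts (H : Type*) [Group H] [Finite H] (p : ℕ) [Fact p.Prime]
    (hH : Cfsg.IsPSolvable p H) (hd : p ∣ Nat.card H) :
    ∃ M W : Subgroup H, M.Characteristic ∧ W.Characteristic ∧ M ≤ W ∧ (Nat.card M).Coprime p ∧
      (∃ a, 1 ≤ a ∧ M.relIndex W = p ^ a) := by
  haveI hMn : (Cfsg.pPrimeCore p H).Normal := pPrimeCore_isNormal
  set M := Cfsg.pPrimeCore p H
  let π := QuotientGroup.mk' M
  have hπ : Function.Surjective π := QuotientGroup.mk'_surjective M
  set K := Cfsg.pCore p (H ⧸ M)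
  set W := K.comap π
  have hMW : M ≤ W := fun x hx => by
    show π x ∈ K
    rw [show π x = 1 from (QuotientGroup.eq_one_iff x).mpr hx]; exact one_mem K
  have hcard : ∀ U : Subgroup H, M ≤ U → Nat.card (U.map π) * Nat.card M = Nat.card U := fun U hU => by
    have := SameOrder.card_map_mk M U
    rwa [inf_eq_left.mpr hU] at this
  have hKcard : Nat.card (W.map π) = Nat.card K := by rw [Subgroup.map_comap_eq_self_of_surjective hπ]
  obtain ⟨a, ha⟩ := (pCore_isPGroup (p := p) (G := H ⧸ M)).exists_card_eq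
  refine ⟨M, W, pPrimeCore_char H p, ?_, hMW, pPrimeCore_coprime, a, ?_, ?_⟩
  · refine Subgroup.characteristic_iff_map_le.mpr fun e => ?_
    haveI : (W.map e.toMonoidHom).Normal := Subgroup.Normal.map inferInstance e.toMonoidHom e.surjective
    have hMe : M ≤ W.map e.toMonoidHom := by
      have h1 : M.map e.toMonoidHom = M := Subgroup.characteristic_iff_map_eq.mp (pPrimeCore_char H p) e
      rw [← h1]; exact Subgroup.map_mono hMW
    have hn : ((W.map e.toMonoidHom).map π).Normal := Subgroup.Normal.map inferInstance π hπ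
    have hc : Nat.card ((W.map e.toMonoidHom).map π) = Nat.card K := by
      refine Nat.eq_of_mul_eq_mul_right (Nat.card_pos (α := M)) ?_
      rw [hcard _ hMe, Subgroup.card_map_of_injective e.injective, ← hcard W hMW, hKcard]
    have hle : (W.map e.toMonoidHom).map π ≤ K := le_pCore hn (IsPGroup.of_card (hc.trans ha))
    exact fun x hx => hle ⟨x, hx, rfl⟩
  · by_contra h0
    have hKbot : K = ⊥ := Subgroup.eq_bot_of_card_eq K (by rw [ha, show a = 0 by omega, pow_zero])
    have htop := isPSolvable_eq_top_of_cores (isPSolvable_map hH π hπ) hKbot (pPrimeCore_quotient_eq_bot)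
    have h1 : Nat.card (H ⧸ M) = 1 := by rw [← Subgroup.card_top, htop, Subgroup.card_bot]
    have h2 := Subgroup.card_eq_card_quotient_mul_card_subgroup M
    rw [h1, one_mul] at h2
    exact ((Fact.out : p.Prime).coprime_iff_not_dvd.mp (pPrimeCore_coprime (p := p) (G := H)).symm) (h2 ▸ hd)
  · refine Nat.eq_of_mul_eq_mul_left (Nat.card_pos (α := M)) ?_
    rw [card_mul_relIndex hMW, ← hcard W hMW, hKcard, ha, mul_comm]

/-- A normal subgroup meets `P` in the only subgroup of its order. -/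
theorem eq_inf (hC : Hyp p G) (P : Sylow p G) (N : Subgroup G) [N.Normal] {X : Subgroup G}
    (hX : X ≤ P) (hc : Nat.card X = Nat.card ↥((P : Subgroup G) ⊓ N)) : X = (P : Subgroup G) ⊓ N := by
  obtain ⟨g, hg⟩ := hC ((P : Subgroup G) ⊓ N) X (P.isPGroup'.to_le inf_le_left) (P.isPGroup'.to_le hX) hc.symm
  refine Subgroup.eq_of_le_of_card_ge (le_inf hX ?_) hc.ge
  rw [hg]
  rintro _ ⟨x, hx, rfl⟩
  exact Subgroup.Normal.conj_mem inferInstance x hx.2 g

theorem main (hp2 : p ≠ 2) (hC : Hyp p G) (P : Sylow p G) (H : Subgroup G) [H.Normal]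
    (hsolv : Cfsg.IsPSolvable p H) (hdiv : p ∣ Nat.card H) :
    IsMulCommutative P ∧ ((P : Subgroup G) ≤ H ∨ IsCyclic P) := by
  classical
  have hiso : ∀ A B : Subgroup (P : Subgroup G), Nat.card A = Nat.card B →
      (IsMulCommutative A → IsMulCommutative B) ∧ ((∀ x ∈ A, x ^ p = 1) → ∀ x ∈ B, x ^ p = 1) := by
    intro A B h
    obtain ⟨g, hg⟩ := hC (A.map (P : Subgroup G).subtype) (B.map (P : Subgroup G).subtype)
      ((P.isPGroup'.to_subgroup A).map _) ((P.isPGroup'.to_subgroup B).map _)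
      (by rw [Subgroup.card_map_of_injective (P : Subgroup G).subtype_injective,
        Subgroup.card_map_of_injective (P : Subgroup G).subtype_injective, h])
    have key : ∀ b ∈ B, ∃ a ∈ A, ((b : (P : Subgroup G)) : G) = g * (a : G) * g⁻¹ := by
      intro b hb
      obtain ⟨_, ⟨a, ha, rfl⟩, e⟩ := hg.le ⟨b, hb, rfl⟩
      exact ⟨a, ha, e.symm⟩
    refine ⟨fun hA => ⟨⟨fun x y => ?_⟩⟩, fun hA x hx => ?_⟩
    · obtain ⟨a, ha, ea⟩ := key x x.2
      obtain ⟨b, hb, eb⟩ := key y y.2
      refine Subtype.ext (Subtype.ext ?_)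
      show ((x : (P : Subgroup G)) : G) * (y : (P : Subgroup G)) = (y : (P : Subgroup G)) * (x : (P : Subgroup G))
      have hab := congrArg (fun t : A => ((t : (P : Subgroup G)) : G)) (hA.is_comm.comm (⟨a, ha⟩ : A) ⟨b, hb⟩)
      simp only [Subgroup.coe_mul] at hab
      rw [ea, eb]
      calc g * (a : G) * g⁻¹ * (g * (b : G) * g⁻¹) = g * ((a : G) * b) * g⁻¹ := by group
        _ = g * ((b : G) * a) * g⁻¹ := by rw [hab]
        _ = _ := by group
    · obtain ⟨a, ha, ea⟩ := key x hx
      refine Subtype.ext ?_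
      rw [Subgroup.coe_pow, ea, conj_pow, ← Subgroup.coe_pow, hA a ha]
      simp
  -- `P ⊓ N` for normal `N` of order divisible by `p`
  have hmeet : ∀ N : Subgroup G, N.Normal → p ∣ Nat.card N → (P : Subgroup G) ⊓ N ≠ ⊥ := by
    intro N hN hd hbot
    haveI := hN
    have h := sylow_inf_normal_relIndex P N
    rw [← Subgroup.inf_relIndex_right, hbot, Subgroup.relIndex_bot_left] at h
    exact h hd
  have hexpP : (∀ x : (P : Subgroup G), x ^ p = 1) → ¬ IsCyclic P → ∀ N : Subgroup G, N.Normal →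
      p ∣ Nat.card N → (P : Subgroup G) ≤ N := by
    intro hexp hnc N hN hd x hx
    haveI := hN
    by_contra hxN
    set R := (P : Subgroup G) ⊓ N
    obtain ⟨r, hr⟩ := (P.isPGroup'.to_le (inf_le_left : R ≤ P)).exists_card_eq
    have hr1 : 1 ≤ r := by
      rcases Nat.eq_zero_or_pos r with rfl | h
      · exact absurd (Subgroup.eq_bot_of_card_eq R (by rw [hr, pow_zero])) (hmeet N hN hd)
      · exact h
    have hxo : orderOf x = p := orderOf_eq_prime (congrArg Subtype.val (hexp ⟨x, hx⟩) :)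
      (fun e => hxN (e ▸ one_mem N))
    -- a subgroup of order `|R|` containing `x`
    obtain ⟨X, hXc, hxX⟩ := Sylow.exists_subgroup_card_pow_prime_le (G := (P : Subgroup G)) p (n := 1) (m := r)
      (by
        have : p ^ r ∣ Nat.card (P : Subgroup G) := hr ▸ Subgroup.card_dvd_of_le inf_le_left
        exact this)
      (Subgroup.zpowers (⟨x, hx⟩ : (P : Subgroup G)))
      (by rw [Nat.card_zpowers, Subgroup.orderOf_mk, hxo, pow_one]) hr1
    have := eq_inf hC P N (X := X.map (P : Subgroup G).subtype) (Subgroup.map_subtype_le X)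
      (by rw [Subgroup.card_map_of_injective (P : Subgroup G).subtype_injective, hXc]; exact hr.symm)
    exact hxN (this.le ⟨_, hxX (Subgroup.mem_zpowers _), rfl⟩ : x ∈ R).2
  rcases ConjSylow.classify P.isPGroup' hiso with hcyc | ⟨hab, hexp⟩ | ⟨h2, -⟩ | ⟨-, hna, hcard, hexp⟩
  · exact ⟨⟨⟨fun a b => (IsCyclic.commGroup (α := P)).mul_comm a b⟩⟩, Or.inr hcyc⟩
  · refine ⟨⟨⟨hab⟩⟩, ?_⟩
    by_cases hnc : IsCyclic P
    · exact Or.inr hnc
    · exact Or.inl (hexpP hexp hnc H inferInstance hdiv)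
  · exact absurd h2 hp2
  -- the extraspecial case is impossible
  exfalso
  have hexp' : ∀ x : (P : Subgroup G), x ^ p = 1 := fun x =>
    orderOf_dvd_iff_pow_eq_one.mp ((Monoid.order_dvd_exponent x).trans hexp.dvd)
  have hnc : ¬ IsCyclic P := fun hc => hna ⟨⟨fun a b => (IsCyclic.commGroup (α := P)).mul_comm a b⟩⟩
  obtain ⟨M0, W0, hM0, hW0, hMW, hMc, a, ha, hrel⟩ := pPrimePCore_facts H p hsolv hdiv
  haveI := hM0
  haveI := hW0
  set M := M0.map H.subtype
  set W := W0.map H.subtype
  haveI hMn : M.Normal := normal_of_characteristic_map M0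
  haveI hWn : W.Normal := normal_of_characteristic_map W0
  have hWc : Nat.card W = Nat.card M * p ^ a := by
    rw [Subgroup.card_map_of_injective H.subtype_injective, Subgroup.card_map_of_injective H.subtype_injective,
      ← hrel, card_mul_relIndex hMW]
  have hpW : p ∣ Nat.card W := hWc ▸ (dvd_pow_self p (by omega)).mul_left _
  have hPW := hexpP hexp' hnc W hWn hpW
  -- `W = P M`
  have hdisj : M ⊓ (P : Subgroup G) = ⊥ := inf_eq_bot_of_coprime (by
    rw [Subgroup.card_map_of_injective H.subtype_injective, hcard]; exact hMc.pow_right 3)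
  have hWPM : W = (P : Subgroup G) ⊔ M := by
    refine (Subgroup.eq_of_le_of_card_ge (sup_le hPW (Subgroup.map_mono hMW)) ?_).symm
    have h := card_sup_mul_card_inf_normal (H := (P : Subgroup G)) (N := M)
    rw [inf_comm, hdisj, Subgroup.card_bot, mul_one] at h
    rw [h, hWc, hcard, mul_comm]
    refine Nat.mul_le_mul_right _ (Nat.pow_le_pow_right hp.out.pos ?_)
    by_contra hlt
    have h1 : p ^ a ∣ Nat.card G := ((dvd_mul_left _ _).trans hWc.symm.dvd).trans (Subgroup.card_subgroup_dvd_card W)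
    have h2 := (hp.out.pow_dvd_iff_le_factorization Nat.card_pos.ne').mp h1
    have h3 : (Nat.card G).factorization p = 3 :=
      Nat.pow_right_injective hp.out.two_le (P.card_eq_multiplicity.symm.trans hcard)
    omega
  -- the centre of `P` and another subgroup of order `p`
  haveI : Nontrivial P := Finite.one_lt_card_iff_nontrivial.mp (by
    show 1 < Nat.card (P : Subgroup G)
    rw [hcard]; exact Nat.one_lt_pow (by norm_num) hp.out.one_lt)
  haveI := P.isPGroup'.center_nontrivial
  obtain ⟨⟨z, hz⟩, hz1⟩ := exists_ne (1 : Subgroup.center (P : Subgroup G))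
  have hz1' : z ≠ 1 := fun e => hz1 (Subtype.ext e)
  obtain ⟨y, hy⟩ : ∃ y : (P : Subgroup G), y ∉ Subgroup.center (P : Subgroup G) := by
    by_contra hc
    push Not at hc
    exact hna ⟨⟨fun u v => (Subgroup.mem_center_iff.mp (hc v) u)⟩⟩
  have ho : ∀ w : (P : Subgroup G), w ≠ 1 → orderOf (w : G) = p := fun w hw => by
    rw [Subgroup.orderOf_coe]; exact orderOf_eq_prime (hexp' w) hw
  have hy1 : y ≠ 1 := fun e => hy (e ▸ one_mem _)
  obtain ⟨g, hg⟩ := hC (Subgroup.zpowers (z : G)) (Subgroup.zpowers (y : G))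
    (P.isPGroup'.to_le (Subgroup.zpowers_le.mpr z.2)) (P.isPGroup'.to_le (Subgroup.zpowers_le.mpr y.2))
    (by rw [Nat.card_zpowers, Nat.card_zpowers, ho z hz1', ho y hy1])
  obtain ⟨-, ⟨i, rfl⟩, hi⟩ := hg.le (Subgroup.mem_zpowers (y : G))
  set w := (z : G) ^ i
  have hi' : g * w * g⁻¹ = y := hi
  apply hy
  rw [Subgroup.mem_center_iff]
  intro u
  refine Subtype.ext ?_
  -- `y` commutes with `u` modulo `M`
  have hu' : g⁻¹ * (u : G) * g ∈ W := hWn.conj_mem' _ (hPW u.2) g
  rw [hWPM] at hu'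
  obtain ⟨s, hs, m, hm, e⟩ := Subgroup.mem_sup_of_normal_right.mp hu'
  have hws : Commute w s :=
    ((show Commute (z : G) s from (congrArg Subtype.val (Subgroup.mem_center_iff.mp hz ⟨s, hs⟩)).symm).zpow_left i)
  have h2 : ⁅(y : G), (u : G)⁆ ∈ M := by
    have hgm : g * m * g⁻¹ ∈ M := hMn.conj_mem m hm g
    have hu2 : (u : G) = g * s * g⁻¹ * (g * m * g⁻¹) := by
      rw [show g * s * g⁻¹ * (g * m * g⁻¹) = g * (s * m) * g⁻¹ by group, e]; group
    rw [← QuotientGroup.eq_one_iff]
    show QuotientGroup.mk' M ⁅(y : G), (u : G)⁆ = 1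
    rw [map_commutatorElement, commutatorElement_eq_one_iff_mul_comm, hu2, ← hi', map_mul _ (g * s * g⁻¹),
      show QuotientGroup.mk' M (g * m * g⁻¹) = 1 from (QuotientGroup.eq_one_iff _).mpr hgm, mul_one,
      ← map_mul, ← map_mul]
    congr 1
    calc g * w * g⁻¹ * (g * s * g⁻¹) = g * (w * s) * g⁻¹ := by group
      _ = g * (s * w) * g⁻¹ := by rw [hws.eq]
      _ = _ := by group
  have h3 : ⁅(y : G), (u : G)⁆ = 1 := Subgroup.mem_bot.mp (hdisj.le ⟨h2, by
    rw [commutatorElement_def]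
    exact mul_mem (mul_mem (mul_mem y.2 u.2) ((P : Subgroup G).inv_mem y.2)) ((P : Subgroup G).inv_mem u.2)⟩)
  show (u : G) * y = y * u
  exact (commutatorElement_eq_one_iff_mul_comm.mp h3).symm

end Cfsg.Agent.Grp.ConjPSolvable
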