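import Mathlib
import Cfsg.Agent.Lib.Grp.CoprimeAbelian
import Cfsg.Agent.Lib.Grp.Solvable
import Cfsg.Agent.Lib.Grp.FpfPrime
import Cfsg.Agent.Lib.Grp.SchurZassenhaus

/-!
A `p`-group `P` acting coprimely on `H` with `[H, P]` solvable, and a fixed `q`-element `z`: the
`q'`-core of the centraliser of `z` is, up to fixed points of `P`, in the `q'`-core of `H`.
-/

set_option autoImplicit false

namespace Cfsg.Agent.Grp.CoreFixed

set_option linter.style.haveILetI false

open scoped commutatorElement Pointwise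
open Subgroup

variable {G : Type*} [Group G] [Finite G] {p q : ℕ} [Fact p.Prime] [Fact q.Prime]

omit [Finite G] in
theorem le_norm (S T : Subgroup G) [T.Normal] : S ≤ normalizer (T : Set G) := by
  rw [Subgroup.normalizer_eq_top]; exact le_top

theorem eq_bot_of_cop {A B : Subgroup G} (hA : IsPGroup q A) (hB : (Nat.card B).Coprime q) :
    A ⊓ B = ⊥ := by
  obtain ⟨k, hk⟩ := IsPGroup.iff_card.mp hA
  exact inf_eq_bot_of_coprime (by rw [hk]; exact (hB.pow_right k).symm)

/-- The situation after dividing out the `q'`-core. -/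
theorem core_case {H K P X V : Subgroup G} [H.Normal] [hKn : K.Normal] (z : G) (_hzH : z ∈ H)
    (hzq : IsPGroup q (zpowers z)) (hcop : (Nat.card P).Coprime (Nat.card H)) (hP : IsPGroup p P)
    (htop : H ⊔ P = ⊤) (hK : K = ⁅H, P⁆) (hKs : Group.IsSolvable K)
    (hN0 : ∀ N : Subgroup G, N.Normal → N ≤ H → (Nat.card N).Coprime q → N = ⊥)
    (hX : X ≤ H ⊓ centralizer {z}) (hXn : H ⊓ centralizer {z} ≤ normalizer (X : Set G))
    (hXq : (Nat.card X).Coprime q) (hV : V ≤ H ⊓ centralizer (P : Set G))
    (hVn : H ⊓ centralizer (P : Set G) ≤ normalizer (V : Set G)) (hVq : (Nat.card V).Coprime q) :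
    X ⊓ K = ⊥ ∧ X ⊓ V = ⊥ := by
  have hPH : P ≤ normalizer (H : Set G) := le_norm _ H
  have hPs : Group.IsSolvable P := by
    haveI := hP.isNilpotent
    infer_instance
  have hKH : K ≤ H := hK ▸ commutator_le_left_of_le_normalizer hPH
  set Q : Subgroup G := (Cfsg.pCore q ↥K).map K.subtype with hQ
  haveI : (Cfsg.pCore q ↥K).Normal := pCore_isNormal
  haveI hQn : Q.Normal := normal_of_characteristic_map _
  have hQq : IsPGroup q Q := pCore_isPGroup.map _
  have hQK : Q ≤ K := map_subtype_le _
  have hFit : K ⊓ centralizer (Q : Set G) ≤ Q := by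
    haveI := hKs
    have h0 : Cfsg.pPrimeCore q ↥K = ⊥ := by
      refine (map_eq_bot_iff_of_injective _ K.subtype_injective).mp (hN0 _ ?_ ?_ ?_)
      · exact normal_of_characteristic_map _
      · exact (map_subtype_le _).trans hKH
      · rw [card_map_of_injective K.subtype_injective]; exact pPrimeCore_coprime
    rintro x ⟨hxK, hxC⟩
    refine ⟨⟨x, hxK⟩, centralizer_pCore_le h0 (mem_centralizer_iff.mpr fun y hy => Subtype.ext ?_), rfl⟩
    exact mem_centralizer_iff.mp hxC _ (mem_map_of_mem _ hy)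
  have hcent : ∀ Y : Subgroup G, Y ≤ X → Y ≤ centralizer (Q : Set G) := by
    intro Y hY
    refine thompson_PQ (p := q) (zpowers z) Y hzq (hXq.coprime_dvd_left (card_dvd_of_le hY)) ?_ Q hQq
      (le_norm _ Q) (le_norm _ Q) ?_
    · rw [zpowers_le]
      exact mem_centralizer_iff.mpr fun y hy => (mem_centralizer_singleton_iff.mp (hX (hY hy)).2)
    · rintro u ⟨huQ, huz⟩
      refine mem_centralizer_iff.mpr fun y hy => ?_
      have huC : u ∈ H ⊓ centralizer {z} :=
        ⟨hKH (hQK huQ), mem_centralizer_singleton_iff.mpr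
          (mem_centralizer_iff.mp huz z (mem_zpowers z)).symm⟩
      have h1 : ⁅y, u⁆ ∈ Q ⊓ X := by
        refine ⟨?_, ?_⟩
        · rw [commutatorElement_def]
          show _ * _ ∈ Q; exact mul_mem (hQn.conj_mem _ huQ y) (inv_mem huQ)
        · rw [commutatorElement_def, mul_assoc, mul_assoc, ← mul_assoc u]
          exact mul_mem (hY hy) ((mem_normalizer_iff.mp (hXn huC) _).mp (inv_mem (hY hy)))
      rw [eq_bot_of_cop hQq hXq, mem_bot] at h1
      exact commutatorElement_eq_one_iff_mul_comm.mp h1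
  have hXK : X ⊓ K = ⊥ := by
    refine le_bot_iff.mp ?_
    rw [← eq_bot_of_cop hQq hXq]
    exact le_inf ((le_inf inf_le_right (hcent _ inf_le_left)).trans hFit) inf_le_left
  refine ⟨hXK, ?_⟩
  haveI : (centralizer (Q : Set G)).Normal := normal_centralizer
  set Z : Subgroup G := K ⊓ centralizer (Q : Set G) with hZ
  haveI hZn : Z.Normal := normal_inf_normal _ _
  set W : Subgroup G := V ⊓ centralizer (Q : Set G) with hW
  have hWP : W ≤ centralizer (P : Set G) := inf_le_left.trans (hV.trans inf_le_right)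
  have hWn : H ⊓ centralizer (P : Set G) ≤ normalizer (W : Set G) := fun s hs =>
    mem_normalizer_iff.mpr fun y => and_congr (mem_normalizer_iff.mp (hVn hs) y)
      (mem_normalizer_iff.mp (le_norm ⊤ (centralizer (Q : Set G)) (mem_top s)) y)
  suffices W = ⊥ from le_bot_iff.mp (this ▸ le_inf inf_le_right (hcent _ inf_le_left))
  have hWQ : W ≤ centralizer (Q : Set G) := inf_le_right
  have hWZ : ∀ w ∈ W, ∀ c ∈ Z, w * c = c * w := fun w hw c hc =>
    (mem_centralizer_iff.mp (hWQ hw) c (hFit hc)).symm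
  have hCn : (W ⊔ Z).Normal := by
    rw [← normalizer_eq_top_iff, eq_top_iff, ← htop, ← commutator_sup_fixed P H hPH hcop (Or.inl hPs),
      ← hK]
    have aux : ∀ S : Subgroup G, (∀ s ∈ S, ∀ w ∈ W, s * w * s⁻¹ ∈ W ⊔ Z) →
        S ≤ normalizer ((W ⊔ Z : Subgroup G) : Set G) := by
      intro S hS
      have h : ∀ s ∈ S, (W ⊔ Z).map (MulAut.conj s).toMonoidHom ≤ W ⊔ Z := fun s hs => by
        rw [Subgroup.map_sup]
        refine sup_le ?_ ?_
        · rintro _ ⟨w, hw, rfl⟩
          exact hS s hs w hw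
        · rintro _ ⟨c, hc, rfl⟩
          exact mem_sup_right (hZn.conj_mem c hc s)
      intro s hs
      rw [mem_normalizer_iff]
      refine fun x => ⟨fun hx => h s hs (mem_map_of_mem _ hx), fun hx => ?_⟩
      have := h s⁻¹ (inv_mem hs) (mem_map_of_mem _ hx)
      simpa [mul_assoc] using this
    refine sup_le (sup_le (aux _ fun k hk w hw => ?_) (aux _ fun s hs w hw => ?_))
      (aux _ fun s hs w hw => ?_)
    · have h1 : ⁅k, w⁆ ∈ Z := by
        refine ⟨?_, ?_⟩
        · rw [commutatorElement_def, mul_assoc, mul_assoc, ← mul_assoc w]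
          exact mul_mem hk (hKn.conj_mem _ (inv_mem hk) w)
        · rw [commutatorElement_def]
          show _ * _ ∈ centralizer (Q : Set G); exact mul_mem ((normal_centralizer (H := Q)).conj_mem _ (hWQ hw) k) (inv_mem (hWQ hw))
      have := mul_mem (mem_sup_right (S := W) h1) (mem_sup_left (T := Z) hw)
      rwa [commutatorElement_def, inv_mul_cancel_right] at this
    · exact mem_sup_left ((mem_normalizer_iff.mp (hWn hs) w).mp hw)
    · rw [mem_centralizer_iff.mp (hWP hw) s hs, mul_inv_cancel_right]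
      exact mem_sup_left hw
  have hWq : (Nat.card W).Coprime q := hVq.coprime_dvd_left (card_dvd_of_le inf_le_left)
  refine hN0 W ⟨fun w hw g => ?_⟩ (inf_le_left.trans (hV.trans inf_le_left)) hWq
  obtain ⟨w', hw', c, hc, he⟩ := mem_sup_of_normal_right.mp (hCn.conj_mem w (mem_sup_left hw) g)
  have hpow : ∀ y ∈ W, y ^ Nat.card W = 1 := fun y hy =>
    congrArg Subtype.val (pow_card_eq_one' (x := (⟨y, hy⟩ : W)))
  have h1 : (w' * c) ^ Nat.card W = 1 := by rw [he, conj_pow, hpow w hw, mul_one, mul_inv_cancel]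
  rw [(show Commute w' c from hWZ w' hw' c hc).mul_pow, hpow w' hw', one_mul] at h1
  obtain ⟨k, hk⟩ := hQq ⟨c, hFit hc⟩
  have hk' : c ^ q ^ k = 1 := congrArg Subtype.val hk
  have hc1 : c = 1 := orderOf_eq_one_iff.mp (Nat.eq_one_of_dvd_coprimes (hWq.pow_right k)
    (orderOf_dvd_of_pow_eq_one h1) (orderOf_dvd_of_pow_eq_one hk'))
  rw [← he, hc1, mul_one]
  exact hw'

theorem main (P : Sylow p G) (hPH : Cfsg.pPrimeCore p G ⊔ (P : Subgroup G) = ⊤)
    (hsol : Group.IsSolvable ↥⁅Cfsg.pPrimeCore p G, (P : Subgroup G)⁆)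
    (z : G) (hzH : z ∈ Cfsg.pPrimeCore p G) (hzP : z ∈ centralizer ((P : Subgroup G) : Set G))
    (hz : ∃ k : ℕ, orderOf z = q ^ k) :
    ((Cfsg.pPrimeCore q ↥(Cfsg.pPrimeCore p G ⊓ centralizer ({z} : Set G))).map
        (Cfsg.pPrimeCore p G ⊓ centralizer ({z} : Set G)).subtype ⊓
      (Cfsg.pPrimeCore q ↥(Cfsg.pPrimeCore p G ⊓ centralizer ((P : Subgroup G) : Set G))).map
        (Cfsg.pPrimeCore p G ⊓ centralizer ((P : Subgroup G) : Set G)).subtype) ⊔
    ⁅(Cfsg.pPrimeCore q ↥(Cfsg.pPrimeCore p G ⊓ centralizer ({z} : Set G))).map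
        (Cfsg.pPrimeCore p G ⊓ centralizer ({z} : Set G)).subtype, (P : Subgroup G)⁆ ≤
    (Cfsg.pPrimeCore q ↥(Cfsg.pPrimeCore p G)).map (Cfsg.pPrimeCore p G).subtype := by
  set H := Cfsg.pPrimeCore p G with hH
  haveI hHn : H.Normal := pPrimeCore_isNormal
  set C := H ⊓ centralizer ({z} : Set G) with hC
  set X := (Cfsg.pPrimeCore q ↥C).map C.subtype with hX
  set D := H ⊓ centralizer ((P : Subgroup G) : Set G) with hD
  set N := (Cfsg.pPrimeCore q ↥H).map H.subtype with hN
  set V := (Cfsg.pPrimeCore q ↥D).map D.subtype with hV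
  set K := ⁅H, (P : Subgroup G)⁆ with hK
  haveI : N.Normal := normal_of_characteristic_map _
  have hNH : N ≤ H := map_subtype_le _
  have hNq : (Nat.card N).Coprime q := by
    rw [hN, card_map_of_injective H.subtype_injective]; exact pPrimeCore_coprime
  have hPn : (P : Subgroup G) ≤ normalizer (H : Set G) := le_norm _ H
  have hcop : (Nat.card (P : Subgroup G)).Coprime (Nat.card H) := by
    obtain ⟨k, hk⟩ := IsPGroup.iff_card.mp P.2
    rw [hk]; exact (pPrimeCore_coprime.pow_right k).symm
  have hPs : Group.IsSolvable (P : Subgroup G) := by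
    haveI := P.2.isNilpotent
    infer_instance
  haveI hKn : K.Normal := by
    rw [← normalizer_eq_top_iff, eq_top_iff, ← hPH]
    exact sup_le (left_le_normalizer_commutator _ _) (right_le_normalizer_commutator _ _)
  have hXP : (P : Subgroup G) ≤ normalizer (X : Set G) := by
    intro x hx
    have hxC : x ∈ normalizer (C : Set G) := by
      refine mem_normalizer_iff.mpr fun y => ?_
      have hxz : z * x = x * z := (mem_centralizer_iff.mp hzP x hx).symm
      have hc : x ∈ centralizer ({z} : Set G) := mem_centralizer_singleton_iff.mpr hxz.symm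
      refine and_congr (mem_normalizer_iff.mp (hPn hx) y) ⟨fun hy => ?_, fun hy => ?_⟩
      · show _ ∈ centralizer {z}; exact mul_mem (mul_mem hc hy) (inv_mem hc)
      · show _ ∈ centralizer {z}; have := mul_mem (mul_mem (inv_mem hc) hy) hc
        simpa [mul_assoc] using this
    exact mem_normalizer_of_map_eq.mpr (map_char_eq hxC _)
  have hXC : X ≤ C := map_subtype_le _
  let f := QuotientGroup.mk' N
  have hf : Function.Surjective f := QuotientGroup.mk'_surjective N
  haveI : (H.map f).Normal := hHn.map f hf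
  haveI : (K.map f).Normal := hKn.map f hf
  have hzq : IsPGroup q (zpowers z) := by
    obtain ⟨k, hk⟩ := hz
    exact IsPGroup.of_card (n := k) (by rw [Nat.card_zpowers, hk])
  -- centralisers in the quotient lift
  have hliftz : H.map f ⊓ centralizer {f z} ≤ (H ⊓ centralizer {z}).map f := by
    rintro _ ⟨⟨y, hy, rfl⟩, hyz⟩
    have hcopz : (Nat.card N).Coprime (Nat.card (zpowers z)) := by
      obtain ⟨k, hk⟩ := IsPGroup.iff_card.mp hzq
      rw [hk]; exact hNq.pow_right k
    have hle : MulAut.conj y • zpowers z ≤ N ⊔ zpowers z := by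
      rw [← map_conj_eq_smul, MonoidHom.map_zpowers, zpowers_le]
      have : f (y * z * y⁻¹ * z⁻¹) = 1 := by
        rw [map_mul, map_mul, map_mul, mem_centralizer_singleton_iff.mp hyz, map_inv, map_inv]
        group
      have h2 := mul_mem (mem_sup_left (T := zpowers z) ((QuotientGroup.eq_one_iff _).mp this))
        (mem_sup_right (S := N) (mem_zpowers z))
      rwa [inv_mul_cancel_right] at h2
    obtain ⟨n, hn, hn'⟩ := exists_conj_of_le_sup (le_norm _ N) hle (card_conj_smul _ _)
      hcopz (Or.inr inferInstance)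
    have hfy : f (n⁻¹ * y) = f y := by
      rw [map_mul, show f n⁻¹ = 1 from (QuotientGroup.eq_one_iff _).mpr (inv_mem hn), one_mul]
    refine ⟨n⁻¹ * y, ⟨H.mul_mem (H.inv_mem (hNH hn)) hy, ?_⟩, hfy⟩
    have hs : MulAut.conj (n⁻¹ * y) • zpowers z = zpowers z := by
      rw [← conj_smul_conj_smul, ← hn', conj_smul_conj_smul, inv_mul_cancel, map_one, one_smul]
    have hm : (n⁻¹ * y) * z * (n⁻¹ * y)⁻¹ ∈ zpowers z :=
      hs.le (mem_smul_conj.mpr (by simp [mul_assoc]))
    have hd : (n⁻¹ * y) * z * (n⁻¹ * y)⁻¹ * z⁻¹ ∈ N ⊓ zpowers z := by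
      refine ⟨(QuotientGroup.eq_one_iff _).mp ?_, (zpowers z).mul_mem hm ((zpowers z).inv_mem (mem_zpowers z))⟩
      change f _ = 1
      rw [map_mul, map_mul, map_mul, map_inv f (n⁻¹ * y), hfy,
        mem_centralizer_singleton_iff.mp hyz, map_inv]
      group
    rw [inf_eq_bot_of_coprime hcopz, mem_bot, mul_inv_eq_one, mul_inv_eq_iff_eq_mul] at hd
    exact mem_centralizer_singleton_iff.mpr hd
  have hliftP : H.map f ⊓ centralizer (((P : Subgroup G).map f : Subgroup (G ⧸ N)) : Set (G ⧸ N)) ≤
      D.map f := by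
    rintro _ ⟨⟨y, hy, rfl⟩, hyP⟩
    obtain ⟨c, hc, hc'⟩ := exists_fixed_rep (P : Subgroup G) H N hPn (inf_eq_bot_of_coprime hcop)
      (hcop.coprime_dvd_right (card_dvd_of_le hNH)) (Or.inl hPs) hNH (le_norm _ N)
      (le_norm _ N) hy (fun a ha => (QuotientGroup.eq_one_iff _).mp (by
        change f _ = 1
        rw [map_mul, map_mul, map_mul, mem_centralizer_iff.mp hyP _ (mem_map_of_mem f ha), map_inv,
          map_inv]
        group))
    exact ⟨c, hc, (QuotientGroup.eq.mpr hc').symm⟩
  have hnC : C ≤ normalizer (X : Set G) := by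
    haveI : (Cfsg.pPrimeCore q ↥C).Normal := pPrimeCore_isNormal
    exact fun c hc => mem_normalizer_of_map_eq.mpr (map_char_eq (le_normalizer hc) _)
  have hnD : D ≤ normalizer (V : Set G) := fun d hd =>
    mem_normalizer_of_map_eq.mpr (map_char_eq (le_normalizer hd) _)
  have hmapn : ∀ S T : Subgroup G, S ≤ normalizer (T : Set G) →
      S.map f ≤ normalizer ((T.map f : Subgroup (G ⧸ N)) : Set (G ⧸ N)) := fun S T h =>
    (map_mono h).trans (le_normalizer_map f)
  have hqcop : ∀ S : Subgroup G, (Nat.card S).Coprime q → (Nat.card (S.map f)).Coprime q := fun S h =>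
    h.coprime_dvd_left (card_map_dvd _ _)
  have hzq' : IsPGroup q (zpowers (f z)) := by
    rw [← MonoidHom.map_zpowers]; exact hzq.map f
  have hN0 : ∀ M : Subgroup (G ⧸ N), M.Normal → M ≤ H.map f → (Nat.card M).Coprime q → M = ⊥ := by
    intro M hM hMH hMq
    haveI := hM.comap f
    have hcard : (Nat.card (M.comap f)).Coprime q := by
      have := card_mul_relIndex (show N ≤ M.comap f from fun x hx => by
        rw [mem_comap, show f x = 1 from (QuotientGroup.eq_one_iff _).mpr hx]; exact one_mem _)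
      have e := relIndex_ker f (K := M.comap f)
      rw [QuotientGroup.ker_mk', map_comap_eq_self_of_surjective hf] at e
      rw [← this, e]
      exact Nat.Coprime.mul_left hNq hMq
    have hle : M.comap f ≤ H := by
      refine (comap_mono hMH).trans ?_
      rw [comap_map_eq, QuotientGroup.ker_mk']
      exact sup_le le_rfl hNH
    have h1 : (M.comap f).subgroupOf H ≤ Cfsg.pPrimeCore q ↥H := by
      refine le_pPrimeCore inferInstance ?_
      rw [Nat.card_congr (subgroupOfEquivOfLe hle).toEquiv]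
      exact hcard
    have h2 := map_mono (f := H.subtype) h1
    rw [subgroupOf_map_subtype, inf_eq_left.mpr hle] at h2
    rw [← map_comap_eq_self_of_surjective hf M, Subgroup.map_eq_bot_iff, QuotientGroup.ker_mk']
    exact h2
  have htop' : H.map f ⊔ (P : Subgroup G).map f = ⊤ := by
    rw [← Subgroup.map_sup, hPH, map_top_of_surjective f hf]
  obtain ⟨h1, h2⟩ := core_case (X := X.map f) (V := V.map f) (K := K.map f) (P := (P : Subgroup G).map f)
    (f z) (mem_map_of_mem f hzH) hzq'
    ((hcop.coprime_dvd_left (card_map_dvd _ _)).coprime_dvd_right (card_map_dvd _ _))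
    (P.2.map f) htop' (map_commutator _ _ f) (isSolvable_map hsol f) hN0
    ((map_mono hXC).trans (le_inf (map_mono inf_le_left) (by
      rintro _ ⟨y, hy, rfl⟩
      exact mem_centralizer_singleton_iff.mpr (by
        rw [← map_mul, ← map_mul, mem_centralizer_singleton_iff.mp hy.2]))))
    (hliftz.trans (hmapn C X hnC))
    (hqcop X (by rw [hX, card_map_of_injective C.subtype_injective]; exact pPrimeCore_coprime))
    ((map_mono (map_subtype_le _)).trans (le_inf (map_mono inf_le_left) (by
      rintro _ ⟨y, hy, rfl⟩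
      refine mem_centralizer_iff.mpr ?_
      rintro _ ⟨a, ha, rfl⟩
      rw [← map_mul, ← map_mul, mem_centralizer_iff.mp hy.2 a ha])))
    (hliftP.trans (hmapn D V hnD))
    (hqcop V (by rw [hV, card_map_of_injective D.subtype_injective]; exact pPrimeCore_coprime))
  have key : ∀ S : Subgroup G, S.map f = ⊥ → S ≤ N := fun S h => by
    rwa [Subgroup.map_eq_bot_iff, QuotientGroup.ker_mk'] at h
  refine sup_le (key _ (le_bot_iff.mp ?_)) (key _ (le_bot_iff.mp ?_))
  · rw [← h2]; exact le_inf (map_mono inf_le_left) (map_mono inf_le_right)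
  · rw [← h1]
    exact le_inf (map_mono (commutator_le_left_of_le_normalizer hXP))
      (map_mono (commutator_mono (hXC.trans inf_le_left) le_rfl))

end Cfsg.Agent.Grp.CoreFixed
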