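import Mathlib
import Cfsg.Agent.Lib.Grp.SignalizerTransitive

/-!
Factorizations of coprime operator groups from factorizations of centralizers.
-/

namespace Cfsg.Agent.Grp

set_option linter.unusedSectionVars false

open scoped Pointwise commutatorElement
open Subgroup

variable {G : Type*} [Group G] {p : ℕ} [hp : Fact p.Prime] {A : Subgroup G}

/-- Factorization of an invariant nilpotent group from factorizations of fixed points. -/
theorem nilpotent_subset_mul [Finite G] (hA : Cfsg.IsElementaryAbelian p A)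
    (hA2 : p ^ 2 ≤ Nat.card A) {Q X Y : Subgroup G} (hQ : Group.IsNilpotent Q)
    (hQp : ¬ p ∣ Nat.card Q) (hAQ : A ≤ Subgroup.normalizer (Q : Set G)) (hY : Y ≤ Q)
    (hfac : ∀ a ∈ A, a ≠ 1 →
      ((Q ⊓ Subgroup.centralizer {a} : Subgroup G) : Set G) ⊆ (X : Set G) * (Y : Set G)) :
    (Q : Set G) ⊆ (X : Set G) * (Y : Set G) := by
  let T : Set (Subgroup G) := {N | N ≤ Q ∧ Q ≤ Subgroup.normalizer (N : Set G) ∧
    A ≤ Subgroup.normalizer (N : Set G) ∧ (N : Set G) ⊆ (X : Set G) * (Y : Set G)}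
  obtain ⟨N, ⟨hNQ, hQN, hAN, hNXY⟩, hmax⟩ := Set.Finite.exists_maximalFor id T (Set.toFinite _)
    ⟨⊥, bot_le, fun g _ => by rw [mem_normalizer_iff_smul]; exact Subgroup.smul_bot _,
      fun g _ => by rw [mem_normalizer_iff_smul]; exact Subgroup.smul_bot _, fun x hx => by
        rw [SetLike.mem_coe, Subgroup.mem_bot] at hx
        exact ⟨1, X.one_mem, 1, Y.one_mem, by simp [hx]⟩⟩
  by_contra hne
  have hlt : N < Q := lt_of_le_of_ne hNQ fun h => hne (h ▸ hNXY)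
  -- the preimage of the centre of `Q / N`
  have : (N.subgroupOf Q).Normal := Subgroup.normal_subgroupOf_of_le_normalizer hQN
  have : Group.IsNilpotent (↥Q ⧸ N.subgroupOf Q) :=
    Group.nilpotent_of_surjective (QuotientGroup.mk' _) (QuotientGroup.mk'_surjective _)
  have : Nontrivial (↥Q ⧸ N.subgroupOf Q) :=
    QuotientGroup.nontrivial_iff.mpr fun h => hlt.not_ge (Subgroup.subgroupOf_eq_top.mp h)
  set M := ((Subgroup.center (↥Q ⧸ N.subgroupOf Q)).comap (QuotientGroup.mk' _)).map Q.subtype with hM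
  have hmemM : ∀ z, z ∈ M ↔ z ∈ Q ∧ ∀ g ∈ Q, (g * z)⁻¹ * (z * g) ∈ N := by
    intro z
    constructor
    · rintro ⟨w, hw, rfl⟩
      refine ⟨w.2, fun g hg => ?_⟩
      have := (Subgroup.mem_center_iff.mp hw) (QuotientGroup.mk' _ ⟨g, hg⟩)
      rw [← map_mul, ← map_mul] at this
      have := QuotientGroup.eq.mp this
      simpa [Subgroup.mem_subgroupOf] using this
    · rintro ⟨hz, h⟩
      refine ⟨⟨z, hz⟩, Subgroup.mem_center_iff.mpr fun v => ?_, rfl⟩
      obtain ⟨⟨g, hg⟩, rfl⟩ := QuotientGroup.mk'_surjective _ v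
      rw [← map_mul, ← map_mul]
      exact QuotientGroup.eq.mpr (by simpa [Subgroup.mem_subgroupOf] using h g hg)
  have hNM : N ≤ M := fun z hz => (hmemM z).mpr ⟨hNQ hz, fun g hg => by
    have h1 := mem_conj_normalizer' (hQN hg) hz
    convert N.mul_mem (N.inv_mem hz) h1 using 1
    group⟩
  have hMQ : M ≤ Q := Subgroup.map_subtype_le _
  have hQM : Q ≤ Subgroup.normalizer (M : Set G) := by
    intro g hg
    have h : ((Subgroup.center (↥Q ⧸ N.subgroupOf Q)).comap (QuotientGroup.mk' _)).Normal := inferInstance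
    refine Subgroup.mem_normalizer_iff.mpr fun z => ⟨?_, fun hz => ?_⟩
    · rintro ⟨w, hw, rfl⟩
      exact ⟨⟨g, hg⟩ * w * ⟨g, hg⟩⁻¹, h.conj_mem w hw _, rfl⟩
    · obtain ⟨w, hw, e⟩ := hz
      refine ⟨⟨g, hg⟩⁻¹ * w * ⟨g, hg⟩, by simpa using h.conj_mem w hw ⟨g, hg⟩⁻¹, ?_⟩
      simp only [Subgroup.coe_subtype] at e ⊢
      simp [e, mul_assoc]
  have hAM : A ≤ Subgroup.normalizer (M : Set G) := by
    rw [← invariant_iff]
    intro b hb z hz
    rw [hmemM] at hz ⊢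
    refine ⟨mem_conj_normalizer (hAQ hb) hz.1, fun g hg => ?_⟩
    have h1 := mem_conj_normalizer (hAN hb) (hz.2 _ (mem_conj_normalizer' (hAQ hb) hg))
    convert h1 using 1
    group
  have hMXY : (M : Set G) ⊆ (X : Set G) * (Y : Set G) := by
    have : IsMulCommutative A := hA.1
    have hgen := generated_by_centralizers A M (elemAb_not_isCyclic hA hA2) hAM
      (coprime_elemAb hA fun h => hQp (h.trans (Subgroup.card_dvd_of_le hMQ)))
    intro z hz
    rw [SetLike.mem_coe, ← hgen, iSup_subtype'] at hz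
    refine (Subgroup.iSup_induction (C := fun z => z ∈ M ∧ z ∈ (X : Set G) * (Y : Set G)) _ hz
      (fun a z hza => ⟨hza.1, hfac a a.2.1 a.2.2 ⟨hMQ hza.1, hza.2⟩⟩)
      ⟨M.one_mem, hNXY N.one_mem⟩ ?_).2
    rintro u v ⟨hu, x₁, hx₁, y₁, hy₁, rfl⟩ ⟨hv, x₂, hx₂, y₂, hy₂, rfl⟩
    refine ⟨M.mul_mem hu hv, ?_⟩
    simp only at hu hv ⊢
    have hc := ((hmemM _).mp hv).2 y₁ (hY hy₁)
    -- `y₁ v = v y₁ c` with `c` in `N`
    have hy21 : y₂ * y₁ ∈ Q := Q.mul_mem (hY hy₂) (hY hy₁)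
    obtain ⟨x₃, hx₃, y₃, hy₃, e⟩ :=
      hNXY (mem_conj_normalizer (hQN hy21) (N.inv_mem hc))
    simp only at e
    refine ⟨x₁ * x₂ * x₃, X.mul_mem (X.mul_mem hx₁ hx₂) hx₃, y₃ * y₂ * y₁,
      Y.mul_mem (Y.mul_mem hy₃ hy₂) hy₁, ?_⟩
    simp only
    calc x₁ * x₂ * x₃ * (y₃ * y₂ * y₁) = x₁ * x₂ * (x₃ * y₃) * (y₂ * y₁) := by group
      _ = _ := by rw [e]; group
  have hMT : M ∈ T := ⟨hMQ, hQM, hAM, hMXY⟩
  have hMN : M ≤ N := hmax hMT hNM
  have hbot : Subgroup.center (↥Q ⧸ N.subgroupOf Q) = ⊥ := by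
    rw [eq_bot_iff]
    intro v hv
    obtain ⟨w, rfl⟩ := QuotientGroup.mk'_surjective _ v
    have hwN : (w : G) ∈ N := hMN ⟨w, hv, rfl⟩
    exact Subgroup.mem_bot.mpr ((QuotientGroup.eq_one_iff _).mpr hwN)
  exact Group.IsNilpotent.center_ne_bot (G := ↥Q ⧸ N.subgroupOf Q) hbot

/-- Set product cardinality inequality inside a subgroup. -/
theorem card_mul_eq_of_subset [Finite G] {K X Y : Subgroup G} (hX : X ≤ K) (hY : Y ≤ K)
    (h : (K : Set G) ⊆ (X : Set G) * (Y : Set G)) :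
    Nat.card K * Nat.card ↥(X ⊓ Y) = Nat.card X * Nat.card Y := by
  classical
  have hsub : (X : Set G) * (Y : Set G) = (K : Set G) :=
    Set.Subset.antisymm (fun z ⟨x, hx, y, hy, e⟩ => e ▸ K.mul_mem (hX hx) (hY hy)) h
  let f : X × Y → K := fun z => ⟨z.1 * z.2, K.mul_mem (hX z.1.2) (hY z.2.2)⟩
  have hf : Function.Surjective f := by
    rintro ⟨k, hk⟩
    obtain ⟨x, hx, y, hy, e⟩ := h hk
    exact ⟨(⟨x, hx⟩, ⟨y, hy⟩), Subtype.ext e⟩
  have hfib : ∀ k : K, Nat.card {z // f z = k} = Nat.card ↥(X ⊓ Y) := by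
    intro k
    obtain ⟨⟨x₀, y₀⟩, e₀⟩ := hf k
    refine Nat.card_congr
      { toFun := fun z => ⟨(x₀ : G)⁻¹ * z.1.1, X.mul_mem (X.inv_mem x₀.2) z.1.1.2, ?_⟩
        invFun := fun d => ⟨(⟨x₀ * d, X.mul_mem x₀.2 d.2.1⟩,
          ⟨(d : G)⁻¹ * y₀, Y.mul_mem (Y.inv_mem d.2.2) y₀.2⟩), ?_⟩
        left_inv := ?_
        right_inv := fun d => Subtype.ext (by simp) }
    · have e : (z.1.1 : G) * z.1.2 = x₀ * y₀ := congrArg Subtype.val (z.2.trans e₀.symm)
      have e' : (x₀ : G)⁻¹ * z.1.1 = (y₀ : G) * (z.1.2 : G)⁻¹ := by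
        rw [eq_mul_inv_iff_mul_eq, mul_assoc, e]; group
      show (x₀ : G)⁻¹ * z.1.1 ∈ Y
      rw [e']
      exact Y.mul_mem y₀.2 (Y.inv_mem z.1.2.2)
    · rw [← e₀]; exact Subtype.ext (by simp [f, mul_assoc])
    · rintro ⟨⟨x, y⟩, hz⟩
      have e : (x : G) * y = x₀ * y₀ := congrArg Subtype.val (hz.trans e₀.symm)
      refine Subtype.ext (Prod.ext (Subtype.ext (by simp)) (Subtype.ext ?_))
      simp only
      calc ((x₀ : G)⁻¹ * x)⁻¹ * y₀ = (x : G)⁻¹ * (x₀ * y₀) := by group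
        _ = y := by rw [← e]; group
  calc Nat.card K * Nat.card ↥(X ⊓ Y) = Nat.card (Σ k : K, {z // f z = k}) := by
        have := Fintype.ofFinite K
        rw [Nat.card_sigma]; simp [hfib, Nat.card_eq_fintype_card]
    _ = Nat.card (X × Y) := Nat.card_congr (Equiv.sigmaFiberEquiv f)
    _ = _ := Nat.card_prod X Y

theorem le_card_mul [Finite G] {K X Y : Subgroup G} (hX : X ≤ K) (hY : Y ≤ K)
    (h : Nat.card K * Nat.card ↥(X ⊓ Y) ≤ Nat.card X * Nat.card Y) :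
    (K : Set G) = (X : Set G) * (Y : Set G) := by
  classical
  let f : X × Y → K := fun z => ⟨z.1 * z.2, K.mul_mem (hX z.1.2) (hY z.2.2)⟩
  refine Set.Subset.antisymm (fun k hk => ?_) fun z ⟨x, hx, y, hy, e⟩ => e ▸ K.mul_mem (hX hx) (hY hy)
  by_contra hk'
  -- every fibre has at most `|X ∩ Y|` elements and one is empty
  have hfib : ∀ k : K, Nat.card {z // f z = k} ≤ Nat.card ↥(X ⊓ Y) := by
    intro k
    by_cases he : IsEmpty {z // f z = k}
    · simp
    rw [not_isEmpty_iff] at he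
    obtain ⟨⟨⟨x₀, y₀⟩, e₀⟩⟩ := he
    refine Nat.card_le_card_of_injective (fun z => ⟨(x₀ : G)⁻¹ * z.1.1, ?_, ?_⟩) ?_
    · exact X.mul_mem (X.inv_mem x₀.2) z.1.1.2
    · have e : (z.1.1 : G) * z.1.2 = x₀ * y₀ := congrArg Subtype.val (z.2.trans e₀.symm)
      have e' : (x₀ : G)⁻¹ * z.1.1 = (y₀ : G) * (z.1.2 : G)⁻¹ := by
        rw [eq_mul_inv_iff_mul_eq, mul_assoc, e]; group
      show (x₀ : G)⁻¹ * z.1.1 ∈ Y
      rw [e']
      exact Y.mul_mem y₀.2 (Y.inv_mem z.1.2.2)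
    · rintro ⟨⟨x, y⟩, hz⟩ ⟨⟨x', y'⟩, hz'⟩ e
      have e1 : (x : G) = x' := by simpa using congrArg Subtype.val e
      have e2 : (x : G) * y = (x' : G) * y' := congrArg Subtype.val (hz.trans hz'.symm)
      rw [e1] at e2
      exact Subtype.ext (Prod.ext (Subtype.ext e1) (Subtype.ext (mul_left_cancel e2)))
  have hempty : Nat.card {z // f z = ⟨k, hk⟩} = 0 := by
    rw [Nat.card_eq_zero]
    left
    exact ⟨fun z => hk' ⟨z.1.1, z.1.1.2, z.1.2, z.1.2.2, congrArg Subtype.val z.2⟩⟩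
  have := Fintype.ofFinite K
  have hlt : Nat.card (Σ k : K, {z // f z = k}) < Nat.card K * Nat.card ↥(X ⊓ Y) := by
    rw [Nat.card_sigma]
    calc ∑ j : K, Nat.card {z // f z = j} < ∑ _j : K, Nat.card ↥(X ⊓ Y) :=
          Finset.sum_lt_sum (fun j _ => hfib j) ⟨⟨k, hk⟩, Finset.mem_univ _, by
            rw [hempty]; exact Nat.card_pos⟩
      _ = _ := by simp [Nat.card_eq_fintype_card]
  rw [Nat.card_congr (Equiv.sigmaFiberEquiv f), Nat.card_prod] at hlt
  omega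

/-- Factorization of an operator group of order prime to `p`. -/
theorem eq_mul_of_centralizers [Finite G] (hA : Cfsg.IsElementaryAbelian p A)
    (hA2 : p ^ 2 ≤ Nat.card A) {K X Y : Subgroup G} (hK : ¬ p ∣ Nat.card K)
    (hAK : A ≤ Subgroup.normalizer (K : Set G)) (hX : X ≤ K) (hY : Y ≤ K)
    (hAX : A ≤ Subgroup.normalizer (X : Set G)) (hAY : A ≤ Subgroup.normalizer (Y : Set G))
    (hCX : K ⊓ Subgroup.centralizer (A : Set G) ≤ Subgroup.normalizer (X : Set G))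
    (hfac : ∀ a ∈ A, a ≠ 1 → ((K ⊓ Subgroup.centralizer {a} : Subgroup G) : Set G) =
      ((X ⊓ Subgroup.centralizer {a} : Subgroup G) : Set G) *
        ((Y ⊓ Subgroup.centralizer {a} : Subgroup G) : Set G)) :
    (K : Set G) = (X : Set G) * (Y : Set G) := by
  have : IsMulCommutative A := hA.1
  have hsolA : Group.IsSolvable A := Group.isSolvable_of_comm mul_comm'
  have hcop : ∀ {H : Subgroup G}, H ≤ K → (Nat.card A).Coprime (Nat.card H) := fun h =>
    coprime_elemAb hA fun hd => hK (hd.trans (Subgroup.card_dvd_of_le h))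
  refine le_card_mul hX hY ?_
  -- compare prime by prime
  suffices hdvd : Nat.card K * Nat.card ↥(X ⊓ Y) ∣ Nat.card X * Nat.card Y from
    Nat.le_of_dvd (Nat.mul_pos Nat.card_pos Nat.card_pos) hdvd
  rw [← Nat.factorization_le_iff_dvd (Nat.mul_ne_zero Nat.card_pos.ne' Nat.card_pos.ne')
    (Nat.mul_ne_zero Nat.card_pos.ne' Nat.card_pos.ne')]
  intro q
  by_cases hq : q.Prime
  swap
  · simp [Nat.factorization_eq_zero_of_not_prime _ hq]
  have : Fact q.Prime := ⟨hq⟩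
  -- an invariant Sylow subgroup of `K` meeting `X` and `Y` in Sylow subgroups
  obtain ⟨Yq, hYq, hYqA⟩ := exists_invariant_sylow A Y hAY (hcop hY) (Or.inl hsolA) q
  obtain ⟨Q, hQ, hQA, hYQ⟩ := exists_invariant_sylow_ge A K hAK (hcop le_rfl) (Or.inl hsolA)
    (hYq.1.trans hY) hYq.2.1 hYqA
  obtain ⟨X₀, hX₀, hX₀A⟩ := exists_invariant_sylow A X hAX (hcop hX) (Or.inl hsolA) q
  obtain ⟨Q₀, hQ₀, hQ₀A, hX₀Q⟩ := exists_invariant_sylow_ge A K hAK (hcop le_rfl) (Or.inl hsolA)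
    (hX₀.1.trans hX) hX₀.2.1 hX₀A
  obtain ⟨c, hc, hcQ⟩ := invariant_sylow_conj A K hAK (hcop le_rfl) (Or.inl hsolA) hQ₀ hQ hQ₀A hQA
  have hXq : IsSylowIn q (Q ⊓ X) X := by
    have h1 := hX₀.smul (g := c) (mem_normalizer_iff_smul.mp (hCX hc))
    have h2 : MulAut.conj c • X₀ ≤ Q ⊓ X := le_inf
      (hcQ ▸ Subgroup.pointwise_smul_le_pointwise_smul_iff.mpr hX₀Q) h1.1
    rwa [h1.eq_of_le h2 inf_le_right (hQ.2.1.to_le inf_le_left)] at h1
  have hYq' : IsSylowIn q (Q ⊓ Y) Y := by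
    rwa [hYq.eq_of_le (le_inf hYQ hYq.1) inf_le_right (hQ.2.1.to_le inf_le_left)] at hYq
  have hAQ_inf : ∀ {H : Subgroup G}, A ≤ Subgroup.normalizer (H : Set G) →
      A ≤ Subgroup.normalizer ((Q ⊓ H : Subgroup G) : Set G) := le_normalizer_inf' hQA
  have hAC : ∀ a ∈ A, A ≤ Subgroup.normalizer ((Subgroup.centralizer {a} : Subgroup G) : Set G) := by
    intro a ha
    rw [centralizer_singleton_eq_zpowers]
    exact le_normalizer_centralizer_of_commute fun x hx y hy =>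
      elemAb_comm hA x hx y (Subgroup.zpowers_le.mpr ha hy)
  -- fixed points of invariant Sylow subgroups are Sylow in the fixed points
  have hfixed : ∀ {H S : Subgroup G}, H ≤ K → A ≤ Subgroup.normalizer (H : Set G) →
      IsSylowIn q S H → A ≤ Subgroup.normalizer (S : Set G) → ∀ a ∈ A,
      (Nat.card ↥(H ⊓ Subgroup.centralizer {a})).factorization q =
        (Nat.card ↥(S ⊓ Subgroup.centralizer {a})).factorization q := by
    intro H S hHK hAH hS hSA a ha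
    obtain ⟨T, hT, hTA⟩ := exists_invariant_sylow A (H ⊓ Subgroup.centralizer {a})
      (le_normalizer_inf' hAH (hAC a ha)) (hcop (inf_le_left.trans hHK)) (Or.inl hsolA) q
    obtain ⟨S', hS', hS'A, hTS'⟩ := exists_invariant_sylow_ge A H hAH (hcop hHK) (Or.inl hsolA)
      (hT.1.trans inf_le_left) hT.2.1 hTA
    obtain ⟨d, hd, hdS⟩ := invariant_sylow_conj A H hAH (hcop hHK) (Or.inl hsolA) hS' hS hS'A hSA
    have hda : MulAut.conj d • Subgroup.centralizer {a} = Subgroup.centralizer {a} := by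
      refine conj_smul_eq_self_of_mem (Subgroup.mem_centralizer_iff.mpr ?_)
      rintro z (rfl : z = a)
      exact Subgroup.mem_centralizer_iff.mp hd.2 z ha
    have hdH : MulAut.conj d • (H ⊓ Subgroup.centralizer {a}) = H ⊓ Subgroup.centralizer {a} := by
      rw [Subgroup.smul_inf, hda, conj_smul_eq_self_of_mem hd.1]
    have hT' := hT.smul (g := d) hdH
    have hle : MulAut.conj d • T ≤ S ⊓ Subgroup.centralizer {a} := le_inf
      (hdS ▸ Subgroup.pointwise_smul_le_pointwise_smul_iff.mpr hTS') (hT'.1.trans inf_le_right)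
    rw [hT'.eq_of_le hle (inf_le_inf_right _ hS.1) (hS.2.1.to_le inf_le_left)] at hT'
    rw [hT'.card, Nat.Prime.factorization_pow hq, Finsupp.single_eq_same]
  have hmono : ∀ {H J : Subgroup G}, H ≤ J →
      (Nat.card H).factorization q ≤ (Nat.card J).factorization q := fun h =>
    (Nat.factorization_le_iff_dvd Nat.card_pos.ne' Nat.card_pos.ne').mpr (Subgroup.card_dvd_of_le h) q
  -- products at the centralizers
  have hloc : ∀ a ∈ A, a ≠ 1 →
      ((Q ⊓ Subgroup.centralizer {a} : Subgroup G) : Set G) ⊆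
          ((Q ⊓ X : Subgroup G) : Set G) * ((Q ⊓ Y : Subgroup G) : Set G) ∧
        (Nat.card ↥((X ⊓ Y) ⊓ Subgroup.centralizer {a})).factorization q ≤
          (Nat.card ↥(((Q ⊓ X) ⊓ (Q ⊓ Y)) ⊓ Subgroup.centralizer {a})).factorization q := by
    intro a ha ha1
    set C := Subgroup.centralizer ({a} : Set G)
    have eK : (Nat.card ↥(K ⊓ C)).factorization q = (Nat.card ↥(Q ⊓ C)).factorization q :=
      hfixed le_rfl hAK hQ hQA a ha
    have eX : (Nat.card ↥(X ⊓ C)).factorization q = (Nat.card ↥(Q ⊓ X ⊓ C)).factorization q :=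
      hfixed hX hAX hXq (hAQ_inf hAX) a ha
    have eY : (Nat.card ↥(Y ⊓ C)).factorization q = (Nat.card ↥(Q ⊓ Y ⊓ C)).factorization q :=
      hfixed hY hAY hYq' (hAQ_inf hAY) a ha
    have hcard := card_mul_eq_of_subset (inf_le_inf_right C hX) (inf_le_inf_right C hY)
      (hfac a ha ha1).le
    have hfactor := congrArg (fun n => n.factorization q) hcard
    simp only [Nat.factorization_mul_apply_of_coprime, Nat.factorization_mul Nat.card_pos.ne' Nat.card_pos.ne',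
      Finsupp.add_apply] at hfactor
    have hD : (X ⊓ C) ⊓ (Y ⊓ C) = (X ⊓ Y) ⊓ C := (inf_inf_distrib_right _ _ _).symm
    rw [hD, eK, eX, eY] at hfactor
    have hDle : (Nat.card ↥((Q ⊓ X) ⊓ (Q ⊓ Y) ⊓ C)).factorization q ≤
        (Nat.card ↥((X ⊓ Y) ⊓ C)).factorization q := hmono (inf_le_inf_right C (le_inf (inf_le_left.trans inf_le_right)
      (inf_le_right.trans inf_le_right) : (Q ⊓ X) ⊓ (Q ⊓ Y) ≤ X ⊓ Y))
    -- the product set of the two fixed q-parts
    have key : Nat.card ↥(Q ⊓ C) * Nat.card ↥((Q ⊓ X ⊓ C) ⊓ (Q ⊓ Y ⊓ C)) ≤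
        Nat.card ↥(Q ⊓ X ⊓ C) * Nat.card ↥(Q ⊓ Y ⊓ C) := by
      refine Nat.le_of_dvd (Nat.mul_pos Nat.card_pos Nat.card_pos) ?_
      obtain ⟨i, hi⟩ := IsPGroup.iff_card.mp (hQ.2.1.to_le (inf_le_left : Q ⊓ C ≤ Q))
      obtain ⟨j, hj⟩ := IsPGroup.iff_card.mp (hQ.2.1.to_le
        ((inf_le_left.trans inf_le_left).trans inf_le_left : (Q ⊓ X ⊓ C) ⊓ (Q ⊓ Y ⊓ C) ≤ Q))
      obtain ⟨k, hk⟩ := IsPGroup.iff_card.mp (hQ.2.1.to_le
        (inf_le_left.trans inf_le_left : Q ⊓ X ⊓ C ≤ Q))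
      obtain ⟨l, hl⟩ := IsPGroup.iff_card.mp (hQ.2.1.to_le
        (inf_le_left.trans inf_le_left : Q ⊓ Y ⊓ C ≤ Q))
      rw [hi, hj, hk, hl, ← pow_add, ← pow_add]
      refine pow_dvd_pow q ?_
      have hD2 : (Q ⊓ X ⊓ C) ⊓ (Q ⊓ Y ⊓ C) = ((Q ⊓ X) ⊓ (Q ⊓ Y)) ⊓ C :=
        (inf_inf_distrib_right _ _ _).symm
      rw [hD2] at hj
      simp only [hi, hk, hl, Nat.Prime.factorization_pow hq, Finsupp.single_eq_same] at hfactor
      simp only [hj, Nat.Prime.factorization_pow hq, Finsupp.single_eq_same] at hDle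
      omega
    have hset := le_card_mul (inf_le_inf_right C inf_le_left) (inf_le_inf_right C inf_le_left) key
    refine ⟨hset.le.trans (Set.mul_subset_mul inf_le_left inf_le_left), ?_⟩
    have hcard2 := card_mul_eq_of_subset (inf_le_inf_right C inf_le_left) (inf_le_inf_right C inf_le_left) hset.le
    have hfactor2 := congrArg (fun n => n.factorization q) hcard2
    simp only [Nat.factorization_mul Nat.card_pos.ne' Nat.card_pos.ne', Finsupp.add_apply] at hfactor2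
    rw [← inf_inf_distrib_right] at hfactor2
    omega
  have hfull : ((Q : Subgroup G) : Set G) ⊆
      ((Q ⊓ X : Subgroup G) : Set G) * ((Q ⊓ Y : Subgroup G) : Set G) :=
    nilpotent_subset_mul hA hA2 hQ.2.1.isNilpotent (fun h => hK (h.trans (Subgroup.card_dvd_of_le hQ.1)))
      hQA inf_le_left fun a ha ha1 => (hloc a ha ha1).1
  -- `Q ∩ X ∩ Y` is a Sylow subgroup of `X ∩ Y`
  set D := (Q ⊓ X) ⊓ (Q ⊓ Y)
  have hDXY : D ≤ X ⊓ Y := le_inf (inf_le_left.trans inf_le_right) (inf_le_right.trans inf_le_right)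
  have hDq : IsPGroup q D := hQ.2.1.to_le (inf_le_left.trans inf_le_left)
  obtain ⟨Dq, hDq', hDqA, hDDq⟩ := exists_invariant_sylow_ge A (X ⊓ Y) (le_normalizer_inf' hAX hAY)
    (hcop (inf_le_left.trans hX)) (Or.inl hsolA) hDXY hDq
    (le_normalizer_inf' (hAQ_inf hAX) (hAQ_inf hAY))
  have hDeq : Dq ≤ D := by
    rw [← generated_by_centralizers A Dq (elemAb_not_isCyclic hA hA2) hDqA
      (hcop (hDq'.1.trans (inf_le_left.trans hX)))]
    refine iSup₂_le fun a ha => ?_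
    have h1 := (hloc a ha.1 ha.2).2
    have hle : D ⊓ Subgroup.centralizer {a} ≤ Dq ⊓ Subgroup.centralizer {a} := inf_le_inf_right _ hDDq
    have h2 := h1.trans' (hmono (inf_le_inf_right (Subgroup.centralizer {a}) hDq'.1))
    obtain ⟨i, hi⟩ := IsPGroup.iff_card.mp (hDq'.2.1.to_le (inf_le_left : Dq ⊓ Subgroup.centralizer {a} ≤ Dq))
    obtain ⟨j, hj⟩ := IsPGroup.iff_card.mp (hDq.to_le (inf_le_left : D ⊓ Subgroup.centralizer {a} ≤ D))
    rw [hi, hj, Nat.Prime.factorization_pow hq, Nat.Prime.factorization_pow hq,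
      Finsupp.single_eq_same, Finsupp.single_eq_same] at h2
    refine (Subgroup.eq_of_le_of_card_ge hle ?_).ge.trans inf_le_left
    rw [hi, hj]
    exact Nat.pow_le_pow_right hq.pos h2
  have hcardQ := card_mul_eq_of_subset (inf_le_left : Q ⊓ X ≤ Q) (inf_le_left : Q ⊓ Y ≤ Q) hfull
  have hfQ := congrArg (fun n => n.factorization q) hcardQ
  simp only [Nat.factorization_mul Nat.card_pos.ne' Nat.card_pos.ne', Finsupp.add_apply] at hfQ
  have hfac' : ∀ {S H : Subgroup G}, IsSylowIn q S H →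
      (Nat.card S).factorization q = (Nat.card H).factorization q := fun h => by
    rw [h.card, Nat.Prime.factorization_pow hq, Finsupp.single_eq_same]
  rw [le_antisymm hDeq hDDq] at hDq'
  rw [hfac' hQ, hfac' hXq, hfac' hYq', hfac' hDq'] at hfQ
  simp only [Nat.factorization_mul Nat.card_pos.ne' Nat.card_pos.ne', Finsupp.add_apply]
  omega

/-- A `q'`-subgroup whose commutators with fixed points of hyperplanes are `q'` is in `O_{q'}`. -/
theorem le_pPrimeCore_of_commutators [Finite G] (hA : Cfsg.IsElementaryAbelian p A)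
    (hA1 : A ≠ ⊥) {K U : Subgroup G} (hK : ¬ p ∣ Nat.card K) (hKs : Group.IsSolvable K)
    (hAK : A ≤ Subgroup.normalizer (K : Set G)) {q : ℕ} [hq : Fact q.Prime] (hU : U ≤ K)
    (hUq : ¬ q ∣ Nat.card U)
    (hcomm : ∀ B : Subgroup G, B ≤ A → B.relIndex A = p →
      ¬ q ∣ Nat.card ↥⁅U, K ⊓ Subgroup.centralizer (B : Set G)⁆) :
    U ≤ (Cfsg.pPrimeCore q ↥K).map K.subtype := by
  have hn := pPrimeCore_isNormal (p := q) (G := K)
  set f := QuotientGroup.mk' (Cfsg.pPrimeCore q K)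
  have := pCore_isNormal (p := q) (G := ↥K ⧸ Cfsg.pPrimeCore q K)
  have : Group.IsSolvable (↥K ⧸ Cfsg.pPrimeCore q K) :=
    Group.isSolvable_of_surjective (f := f) (QuotientGroup.mk'_surjective _)
  set M₀ := (Cfsg.pCore q (↥K ⧸ Cfsg.pPrimeCore q K)).comap f
  set M := M₀.map K.subtype
  have hMK : M ≤ K := Subgroup.map_subtype_le _
  have hAM : A ≤ Subgroup.normalizer (M : Set G) := by
    rw [← invariant_iff]
    rintro b hb z ⟨w, hw, rfl⟩
    let e : K ≃* K :=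
      { toFun := fun x => ⟨b * x * b⁻¹, mem_conj_normalizer (hAK hb) x.2⟩
        invFun := fun x => ⟨b⁻¹ * x * b, mem_conj_normalizer' (hAK hb) x.2⟩
        left_inv := fun x => Subtype.ext (by simp [mul_assoc])
        right_inv := fun x => Subtype.ext (by simp [mul_assoc])
        map_mul' := fun x y => Subtype.ext (by simp [mul_assoc]) }
    have he : (Cfsg.pPrimeCore q K).map e.toMonoidHom = Cfsg.pPrimeCore q K :=
      Subgroup.characteristic_iff_map_eq.mp inferInstance e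
    let eq := QuotientGroup.congr (Cfsg.pPrimeCore q K) (Cfsg.pPrimeCore q K) e he
    have hec : (Cfsg.pCore q (↥K ⧸ Cfsg.pPrimeCore q K)).map eq.toMonoidHom =
        Cfsg.pCore q (↥K ⧸ Cfsg.pPrimeCore q K) := Subgroup.characteristic_iff_map_eq.mp inferInstance eq
    refine ⟨e w, ?_, rfl⟩
    show f (e w) ∈ Cfsg.pCore q (↥K ⧸ Cfsg.pPrimeCore q K)
    rw [← hec]
    exact ⟨f w, hw, rfl⟩
  intro u hu
  refine ⟨⟨u, hU hu⟩, ?_, rfl⟩
  rw [SetLike.mem_coe, ← QuotientGroup.ker_mk' (Cfsg.pPrimeCore q K), MonoidHom.mem_ker]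
  show f ⟨u, hU hu⟩ = 1
  have h1 : f ⟨u, hU hu⟩ ∈ Subgroup.centralizer
      (Cfsg.pCore q (↥K ⧸ Cfsg.pPrimeCore q K) : Set (↥K ⧸ Cfsg.pPrimeCore q K)) := by
    rw [Subgroup.mem_centralizer_iff]
    intro t ht
    obtain ⟨m, rfl⟩ := QuotientGroup.mk'_surjective _ t
    have hm : (m : G) ∈ M := ⟨m, ht, rfl⟩
    let S : Subgroup G :=
      ((Subgroup.centralizer {f ⟨u, hU hu⟩}).comap f).map K.subtype
    have hMS : M ≤ S := by
      refine le_of_hyperplanes hA hA1 M (fun h => hK (h.trans (Subgroup.card_dvd_of_le hMK))) hAM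
        fun B hB hBi => ?_
      intro z hz
      obtain ⟨⟨w, hw, rfl⟩, hzB⟩ := hz
      refine ⟨w, Subgroup.mem_centralizer_iff.mpr ?_, rfl⟩
      rintro v (rfl : v = f ⟨u, hU hu⟩)
      refine commutatorElement_eq_one_iff_mul_comm.mp ?_
      have hc1 : ⁅f ⟨u, hU hu⟩, f w⁆ ∈ Cfsg.pCore q (↥K ⧸ Cfsg.pPrimeCore q K) := by
        rw [commutatorElement_def]
        exact Subgroup.mul_mem _ (Subgroup.Normal.conj_mem inferInstance _ hw _) (Subgroup.inv_mem _ hw)
      have hmem : ⁅u, (w : G)⁆ ∈ ⁅U, K ⊓ Subgroup.centralizer (B : Set G)⁆ :=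
        Subgroup.commutator_mem_commutator hu ⟨w.2, hzB⟩
      have hord : (orderOf ⁅f ⟨u, hU hu⟩, f w⁆).Coprime q := by
        have hd : orderOf ⁅f ⟨u, hU hu⟩, f w⁆ ∣ orderOf ⁅u, (w : G)⁆ := by
          rw [← map_commutatorElement]
          refine (orderOf_map_dvd f _).trans ?_
          rw [← Subgroup.orderOf_coe]
          rfl
        refine Nat.Coprime.coprime_dvd_left (hd.trans ?_)
          (Nat.Coprime.symm ((hq.out.coprime_iff_not_dvd).mpr (hcomm B hB hBi)))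
        exact Subgroup.orderOf_mk _ hmem ▸ orderOf_dvd_natCard _
      obtain ⟨k, hk⟩ := (pCore_isPGroup (p := q) (G := ↥K ⧸ Cfsg.pPrimeCore q K)) ⟨_, hc1⟩
      have hk' : orderOf ⁅f ⟨u, hU hu⟩, f w⁆ ∣ q ^ k :=
        orderOf_dvd_of_pow_eq_one (congrArg Subtype.val hk)
      exact orderOf_eq_one_iff.mp (Nat.eq_one_of_dvd_coprimes (hord.pow_right k) dvd_rfl hk')
    obtain ⟨w, hw, e⟩ := hMS hm
    rw [show w = m from Subtype.ext e] at hw
    exact (Subgroup.mem_centralizer_iff.mp hw _ rfl).symm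
  have h2 := centralizer_pCore_le pPrimeCore_quotient_bot h1
  obtain ⟨k, hk⟩ := (pCore_isPGroup (p := q) (G := ↥K ⧸ Cfsg.pPrimeCore q K)) ⟨_, h2⟩
  have hk' : orderOf (f ⟨u, hU hu⟩) ∣ q ^ k := orderOf_dvd_of_pow_eq_one (congrArg Subtype.val hk)
  have hd : orderOf (f ⟨u, hU hu⟩) ∣ Nat.card U := by
    refine (orderOf_map_dvd f _).trans ?_
    rw [← Subgroup.orderOf_coe]
    exact Subgroup.orderOf_mk _ hu ▸ orderOf_dvd_natCard _
  exact orderOf_eq_one_iff.mp (Nat.eq_one_of_dvd_coprimes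
    ((Nat.Coprime.symm (hq.out.coprime_iff_not_dvd.mpr hUq)).pow_right k) hd hk')

end Cfsg.Agent.Grp
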