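import Mathlib
import Cfsg.Agent.Lib.Transfer.OmegaMetacyclic
import Cfsg.Agent.Lib.Lie.PComplCentral

/-!
Miller's theorem: the number of elements of order `p ^ s`, `2 ≤ s`, in a group whose Sylow
`p`-subgroups (`p` odd) are not cyclic is divisible by `p ^ s`.
-/

namespace Cfsg.Agent.Grp.CountCyclic

open scoped Pointwise
open Subgroup

universe u

variable {H : Type u} [Group H] [Finite H] {p : ℕ} [hp : Fact p.Prime]

/-- The fibre of `zpowers` over a cyclic subgroup. -/
theorem card_generators (C : Subgroup H) [hC : IsCyclic C] :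
    Nat.card {x : H // zpowers x = C} = (Nat.card C).totient := by
  classical
  haveI := Fintype.ofFinite C
  rw [Nat.card_eq_fintype_card (α := C), ← IsCyclic.card_orderOf_eq_totient (α := C) dvd_rfl,
    ← Fintype.card_subtype, ← Nat.card_eq_fintype_card]
  refine Nat.card_congr
    { toFun := fun x => ⟨⟨x.1, (SetLike.ext_iff.mp x.2 x.1).mp (mem_zpowers x.1)⟩, ?_⟩
      invFun := fun c => ⟨c.1.1, ?_⟩
      left_inv := fun _ => rfl
      right_inv := fun _ => rfl }
  · rw [Subgroup.orderOf_mk, ← Nat.card_zpowers, x.2, Nat.card_eq_fintype_card]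
  · refine eq_of_le_of_card_ge (zpowers_le.mpr c.1.2) ?_
    rw [Nat.card_zpowers, Subgroup.orderOf_coe, c.2, Nat.card_eq_fintype_card]

/-- A set closed under "generating the same cyclic subgroup". -/
theorem dvd_card_of_genClosed (X : Set H) (d : ℕ)
    (hcl : ∀ x ∈ X, ∀ y, zpowers y = zpowers x → y ∈ X)
    (hd : ∀ x ∈ X, d ∣ (orderOf x).totient) : d ∣ Nat.card X := by
  classical
  haveI := Fintype.ofFinite H
  rw [Nat.card_eq_fintype_card, ← Set.toFinset_card,
    Finset.card_eq_sum_card_fiberwise (f := fun x => zpowers x)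
      (t := X.toFinset.image fun x => zpowers x) (fun x hx => Finset.mem_image_of_mem _ hx)]
  refine Finset.dvd_sum fun C hC => ?_
  obtain ⟨x, hx, rfl⟩ := Finset.mem_image.mp hC
  have hxX := Set.mem_toFinset.mp hx
  have e : (X.toFinset.filter fun y => zpowers y = zpowers x).card =
      Nat.card {y : H // zpowers y = zpowers x} := by
    rw [Nat.card_eq_fintype_card, Fintype.card_subtype]
    congr 1
    ext y
    simp only [Finset.mem_filter, Set.mem_toFinset, Finset.mem_univ, true_and, and_iff_right_iff_imp]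
    exact hcl x hxX y
  rw [e, card_generators, Nat.card_zpowers]
  exact hd x hxX

theorem mul_pow_of_central {G : Type*} [Group G] (x e d : G) (hxe : e * x = x * e * d)
    (hdx : Commute d x) (hde : Commute d e) :
    ∀ n : ℕ, (x * e) ^ n = x ^ n * e ^ n * d ^ (n.choose 2) := by
  have h1 : ∀ k : ℕ, e ^ k * x = x * e ^ k * d ^ k := by
    intro k
    induction k with
    | zero => simp
    | succ k ih =>
      calc e ^ (k + 1) * x = e ^ k * (e * x) := by rw [pow_succ, mul_assoc]
        _ = (e ^ k * x) * (e * d) := by rw [hxe]; simp only [mul_assoc]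
        _ = x * e ^ k * (d ^ k * e) * d := by rw [ih]; simp only [mul_assoc]
        _ = x * e ^ (k + 1) * d ^ (k + 1) := by
          rw [(hde.pow_left k).eq, pow_succ, pow_succ]; simp only [mul_assoc]
  intro n
  induction n with
  | zero => simp
  | succ n ih =>
    have hch : (n + 1).choose 2 = n + n.choose 2 := by
      rw [Nat.choose_succ_succ, Nat.choose_one_right]
    calc (x * e) ^ (n + 1) = x ^ n * e ^ n * (d ^ n.choose 2 * x) * e := by
          rw [pow_succ, ih]; simp only [mul_assoc]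
      _ = x ^ n * (e ^ n * x) * (d ^ n.choose 2 * e) := by
          rw [(hdx.pow_left _).eq]; simp only [mul_assoc]
      _ = x ^ n * x * e ^ n * (d ^ n * e) * d ^ n.choose 2 := by
          rw [h1, (hde.pow_left (n.choose 2)).eq]; simp only [mul_assoc]
      _ = _ := by
          rw [(hde.pow_left n).eq, hch, pow_add d, pow_succ x n, pow_succ e n]; simp only [mul_assoc]

theorem dvd_totient_prime_pow {s t : ℕ} (h : s ≤ t) : p ^ (s - 1) ∣ (p ^ t).totient := by
  rcases Nat.eq_zero_or_pos t with rfl | ht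
  · simp
    omega
  · rw [Nat.totient_prime_pow hp.out ht]
    exact dvd_mul_of_dvd_left (pow_dvd_pow p (by omega)) _

/-- The case of a `p`-group. -/
theorem pGroup_count (hodd : p ≠ 2) {R : Type u} [Group R] [Finite R] (hR : IsPGroup p R)
    (hnc : ¬ IsCyclic R) {s : ℕ} (hs : 2 ≤ s) :
    p ^ s ∣ Nat.card {x : R | orderOf x = p ^ s} := by
  obtain ⟨E, -, hEn, hE, hEc⟩ := Cfsg.Agent.Transfer.exists_normal_elementary
    hodd hR (⊤ : Subgroup R) (fun h => hnc (Subgroup.topEquiv.isCyclic.mp h))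
  haveI := hEn
  haveI := hR.isNilpotent
  have hcomm : ∀ x : R, ∀ e ∈ E, ∃ d ∈ E, e * x = x * e * d ∧ Commute d x ∧ Commute d e := by
    intro x e he
    refine ⟨e⁻¹ * x⁻¹ * e * x, ?_, by simp [mul_assoc], ?_⟩
    · have := E.mul_mem (E.inv_mem he) (hEn.conj_mem e he x⁻¹)
      simpa [mul_assoc] using this
    by_cases hz : E ≤ center R
    · have : e⁻¹ * x⁻¹ * e * x = 1 := by
        rw [mul_assoc _ e x, ← (mem_center_iff.mp (hz he)) x, mul_assoc]
        simp
      rw [this]
      exact ⟨Commute.one_left _, Commute.one_left _⟩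
    · set Z := E ⊓ center R
      have hZ0 : Z ≠ ⊥ := Cfsg.Agent.Grp.inf_center_ne_bot E fun h => by
        rw [h, card_bot] at hEc
        exact absurd hEc (Nat.one_lt_pow (by norm_num) hp.out.one_lt).ne
      haveI : Z.Normal := by
        refine ⟨fun n hn g => ?_⟩
        rw [show g * n * g⁻¹ = n by rw [(mem_center_iff.mp hn.2) g, mul_inv_cancel_right]]
        exact hn
      have hZE : Z ≤ E := inf_le_left
      have hZc : Nat.card Z = p := by
        obtain ⟨i, hi2, hi⟩ := (Nat.dvd_prime_pow hp.out).mp (hEc ▸ card_dvd_of_le hZE)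
        have h0 : i ≠ 0 := fun h => hZ0 (card_eq_one.mp (by rw [hi, h, pow_zero]))
        have h2 : i ≠ 2 := fun h => hz fun y hy => by
          have := eq_of_le_of_card_ge hZE (by rw [hi, h, hEc])
          exact (this.symm ▸ hy : y ∈ Z).2
        rw [hi, show i = 1 by omega, pow_one]
      have hEbar : Nat.card (E.map (QuotientGroup.mk' Z)) = p := by
        have h1 := card_mul_index (Z.subgroupOf E)
        rw [Nat.card_congr (subgroupOfEquivOfLe hZE).toEquiv, hZc, hEc, pow_two] at h1
        have h2 : Nat.card (E.map (QuotientGroup.mk' Z)) = Z.relIndex E := by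
          have := (relIndex_ker E (QuotientGroup.mk' Z)).symm
          rwa [QuotientGroup.ker_mk'] at this
        rw [h2]
        exact Nat.eq_of_mul_eq_mul_left hp.out.pos h1
      haveI : (E.map (QuotientGroup.mk' Z)).Normal :=
        hEn.map _ (QuotientGroup.mk'_surjective Z)
      have hc := Cfsg.Agent.Lie.PComplCentral.le_center_of_card_prime (hR.to_quotient Z) _ hEbar
      have hdZ : e⁻¹ * x⁻¹ * e * x ∈ Z := by
        rw [← QuotientGroup.ker_mk' Z, MonoidHom.mem_ker, map_mul, map_mul, map_mul, map_inv, map_inv]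
        have := mem_center_iff.mp (hc (mem_map_of_mem _ he)) (QuotientGroup.mk' Z x)
        rw [mul_assoc _ _ (QuotientGroup.mk' Z x), ← this]
        simp [mul_assoc]
      exact ⟨(mem_center_iff.mp hdZ.2 x).symm, (mem_center_iff.mp hdZ.2 e).symm⟩
  have hchoose : p ∣ p.choose 2 := hp.out.dvd_choose_self (by norm_num)
    (lt_of_le_of_ne hp.out.two_le (Ne.symm hodd))
  have hpow : ∀ x : R, ∀ e ∈ E, (x * e) ^ p = x ^ p := by
    intro x e he
    obtain ⟨d, hd, hxe, hdx, hde⟩ := hcomm x e he
    obtain ⟨k, hk⟩ := hchoose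
    rw [mul_pow_of_central x e d hxe hdx hde, hE.2 e he, hk, pow_mul, hE.2 d hd, one_pow, mul_one,
      mul_one]
  set X : Set R := {x | orderOf x = p ^ s}
  have hord : ∀ x ∈ X, ∀ e ∈ E, x * e ∈ X := by
    intro x hx e he
    show orderOf (x * e) = p ^ s
    have hiter : ∀ k, 1 ≤ k → (x * e) ^ p ^ k = x ^ p ^ k := by
      intro k hk
      obtain ⟨j, rfl⟩ := Nat.exists_eq_add_of_le hk
      rw [add_comm, pow_succ', pow_mul, pow_mul, hpow x e he]
    obtain ⟨t, rfl⟩ : ∃ t, s = t + 1 := ⟨s - 1, by omega⟩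
    refine orderOf_eq_prime_pow ?_ ?_
    · rw [hiter t (by omega)]
      intro h
      have := orderOf_dvd_of_pow_eq_one h
      rw [hx] at this
      exact absurd (Nat.le_of_dvd (pow_pos hp.out.pos _) this)
        (not_le.mpr (Nat.pow_lt_pow_right hp.out.one_lt (by omega)))
    · rw [hiter _ (by omega), ← hx]
      exact pow_orderOf_eq_one x
  set f := QuotientGroup.mk (s := E) with hf
  have hpre : X = f ⁻¹' (f '' X) := by
    refine Set.Subset.antisymm (Set.subset_preimage_image f X) ?_
    rintro y ⟨x, hx, hxy⟩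
    have := hord x hx _ (QuotientGroup.eq.mp hxy)
    rwa [mul_inv_cancel_left] at this
  have hcard : Nat.card X = p ^ 2 * Nat.card (f '' X) := by
    conv_lhs => rw [hpre]
    rw [Nat.card_congr (QuotientGroup.preimageMkEquivSubgroupProdSet E (f '' X)), Nat.card_prod, hEc]
  rw [hcard, show p ^ s = p ^ 2 * p ^ (s - 2) by rw [← pow_add]; congr 1; omega]
  refine mul_dvd_mul_left _ (dvd_card_of_genClosed (H := R ⧸ E) _ _ ?_ ?_)
  · rintro _ ⟨x, hx, rfl⟩ y hy
    obtain ⟨i, hi⟩ := mem_zpowers_iff.mp (hy ▸ mem_zpowers y : y ∈ zpowers (f x))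
    have hgen : f x ∈ zpowers y := hy.symm ▸ mem_zpowers (f x)
    have hxE : x ∉ E := fun h => by
      have h1 : x ^ p = 1 := hE.2 x h
      have := orderOf_dvd_of_pow_eq_one h1
      rw [hx] at this
      exact absurd (Nat.le_of_dvd hp.out.pos this)
        (not_le.mpr (lt_of_lt_of_le (by simpa using Nat.pow_lt_pow_right hp.out.one_lt (show 1 < 2 by norm_num))
          (Nat.pow_le_pow_right hp.out.pos hs)))
    have hip : ¬ (p : ℤ) ∣ i := by
      rintro ⟨k, rfl⟩
      obtain ⟨j, hj⟩ := mem_zpowers_iff.mp hgen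
      rw [← hi, ← zpow_mul] at hj
      obtain ⟨n, hn⟩ := IsPGroup.iff_orderOf.mp (hR.to_quotient E) (f x)
      have h0 : f x ^ ((p : ℤ) * k * j - 1) = 1 := by rw [zpow_sub, hj, zpow_one, mul_inv_cancel]
      rw [← orderOf_dvd_iff_zpow_eq_one, hn] at h0
      rcases Nat.eq_zero_or_pos n with rfl | hn0
      · rw [pow_zero] at hn
        exact hxE ((QuotientGroup.eq_one_iff x).mp (orderOf_eq_one_iff.mp hn))
      · have h1 : (p : ℤ) ∣ (p : ℤ) * k * j - 1 :=
          dvd_trans (by exact_mod_cast dvd_pow_self p hn0.ne') h0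
        have h2 : (p : ℤ) ∣ 1 := (dvd_sub_right (dvd_mul_of_dvd_left (dvd_mul_right _ k) j)).mp h1
        exact hp.out.not_dvd_one (by exact_mod_cast h2)
    refine ⟨x ^ i, ?_, by rw [← hi]; rfl⟩
    show orderOf (x ^ i) = p ^ s
    have hcop : IsCoprime ((p : ℤ) ^ s) i :=
      (((Nat.prime_iff_prime_int.mp hp.out).coprime_iff_not_dvd).mpr hip).pow_left
    obtain ⟨a, b, hab⟩ := hcop
    have hz : zpowers (x ^ i) = zpowers x := by
      refine le_antisymm (zpowers_le.mpr (zpow_mem (mem_zpowers x) i)) (zpowers_le.mpr ⟨b, ?_⟩)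
      show (x ^ i) ^ b = x
      have h1 : x ^ ((p : ℤ) ^ s) = 1 := by
        rw [← Nat.cast_pow, zpow_natCast, ← hx]
        exact pow_orderOf_eq_one x
      conv_rhs => rw [← zpow_one x, ← hab, zpow_add, mul_comm a, zpow_mul, h1, one_zpow, one_mul, mul_comm b]
      rw [zpow_mul]
    rw [← Nat.card_zpowers, hz, Nat.card_zpowers, hx]
  · rintro _ ⟨x, hx, rfl⟩
    obtain ⟨t, ht⟩ := IsPGroup.iff_orderOf.mp (hR.to_quotient E) (f x)
    rw [ht]
    have hle : s ≤ t + 1 := by
      have h1 : x ^ p ^ t ∈ E := by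
        rw [← QuotientGroup.eq_one_iff, QuotientGroup.mk_pow, ← ht]
        exact pow_orderOf_eq_one _
      have h2 : x ^ p ^ (t + 1) = 1 := by rw [pow_succ, pow_mul, hE.2 _ h1]
      have := orderOf_dvd_of_pow_eq_one h2
      rw [hx] at this
      exact (Nat.pow_dvd_pow_iff_le_right hp.out.one_lt).mp this
    rw [show s - 2 = (s - 1) - 1 by omega]
    exact dvd_totient_prime_pow (by omega)

/-- Elements of order `p ^ s` are counted through their cyclic subgroups. -/
theorem card_order_eq (s : ℕ) : Nat.card {x : H | orderOf x = p ^ s} =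
    (p ^ s).totient * Nat.card {C : Subgroup H // IsCyclic C ∧ Nat.card C = p ^ s} := by
  classical
  let g : {x : H | orderOf x = p ^ s} → {C : Subgroup H // IsCyclic C ∧ Nat.card C = p ^ s} :=
    fun x => ⟨zpowers x.1, inferInstance, by rw [Nat.card_zpowers]; exact x.2⟩
  haveI := Fintype.ofFinite {C : Subgroup H // IsCyclic C ∧ Nat.card C = p ^ s}
  rw [Nat.card_congr (Equiv.sigmaFiberEquiv g).symm, Nat.card_sigma,
    Finset.sum_congr rfl (g := fun _ => (p ^ s).totient), Finset.sum_const, Finset.card_univ,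
    Nat.card_eq_fintype_card, smul_eq_mul, mul_comm]
  rintro ⟨C, hC, hCc⟩ -
  refine Eq.trans ?_ ((card_generators C).trans (congrArg Nat.totient hCc))
  exact Nat.card_congr
    { toFun := fun x => ⟨x.1.1, congrArg Subtype.val x.2⟩
      invFun := fun x => ⟨⟨x.1, by
        show orderOf x.1 = p ^ s
        rw [← Nat.card_zpowers, x.2, hCc]⟩, Subtype.ext x.2⟩
      left_inv := fun _ => rfl
      right_inv := fun _ => rfl }

/-- The general case. -/
theorem noncyclic_count (hodd : p ≠ 2) (P : Sylow p H) (hP : ¬ IsCyclic (P : Subgroup H)) {s : ℕ}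
    (hs : 2 ≤ s) : p ^ s ∣ Nat.card {x : H | orderOf x = p ^ s} := by
  set R := (P : Subgroup H)
  have hRp : IsPGroup p R := P.isPGroup'
  have hps : s ≠ 0 := by omega
  have htot : (p ^ s).totient = p ^ (s - 1) * (p - 1) := Nat.totient_prime_pow hp.out (by omega)
  have hp1 : ¬ p ∣ p - 1 := fun h => by
    have := Nat.le_of_dvd (by have := hp.out.two_le; omega) h
    have := hp.out.two_le
    omega
  have hsplit : p ^ s = p ^ (s - 1) * p := by rw [← pow_succ]; congr 1; omega
  -- cyclic subgroups inside `R`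
  have hin : p ∣ Nat.card {C : Subgroup R // IsCyclic C ∧ Nat.card C = p ^ s} := by
    have h : p ^ (s - 1) * p ∣
        p ^ (s - 1) * ((p - 1) * Nat.card {C : Subgroup R // IsCyclic C ∧ Nat.card C = p ^ s}) := by
      rw [← hsplit, ← mul_assoc, ← htot, ← card_order_eq]
      exact pGroup_count hodd hRp hP hs
    exact (hp.out.dvd_mul.mp (Nat.dvd_of_mul_dvd_mul_left (pow_pos hp.out.pos _) h)).resolve_left hp1
  letI : MulAction R (Subgroup H) :=
    MulAction.compHom _ ((MulAut.conj : H →* MulAut H).comp R.subtype)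
  have hsmul : ∀ (r : R) (C : Subgroup H), r • C = MulAut.conj (r : H) • C := fun _ _ => rfl
  have hcyc : ∀ (r : R) (C : Subgroup H), (IsCyclic C ∧ Nat.card C = p ^ s) →
      IsCyclic (r • C : Subgroup H) ∧ Nat.card (r • C : Subgroup H) = p ^ s := by
    intro r C hC
    rw [hsmul]
    exact ⟨((Subgroup.equivSMul (MulAut.conj (r : H)) C).isCyclic).mp hC.1,
      (Nat.card_congr (Subgroup.equivSMul (MulAut.conj (r : H)) C).toEquiv).symm.trans hC.2⟩
  let Y : SubMulAction R (Subgroup H) :=
    ⟨{C | IsCyclic C ∧ Nat.card C = p ^ s}, fun r C hC => hcyc r C hC⟩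
  let Z : SubMulAction R (Subgroup H) :=
    ⟨{C | (IsCyclic C ∧ Nat.card C = p ^ s) ∧ C ≤ R}, fun r C hC =>
      ⟨hcyc r C hC.1, by
        rw [hsmul, Subgroup.pointwise_smul_def]
        rintro _ ⟨y, hy, rfl⟩
        exact R.mul_mem (R.mul_mem r.2 (hC.2 hy)) (R.inv_mem r.2)⟩⟩
  have hY := hRp.card_modEq_card_fixedPoints ↥Y
  have hZ := hRp.card_modEq_card_fixedPoints ↥Z
  have hfix : ∀ C : Y, C ∈ MulAction.fixedPoints R Y → (C : Subgroup H) ≤ R := by
    intro C hC
    have hnorm : R ≤ normalizer ((C : Subgroup H) : Set H) := fun r hr => by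
      rw [mem_normalizer_iff_map_conj_eq]
      exact congrArg Subtype.val (hC ⟨r, hr⟩)
    have hp' : IsPGroup p ↥(R ⊔ (C : Subgroup H)) :=
      IsPGroup.to_sup_of_normal_right' hRp (IsPGroup.of_card C.2.2) hnorm
    exact le_sup_right.trans (P.3 hp' le_sup_left).le
  have e : Nat.card (MulAction.fixedPoints R Y) = Nat.card (MulAction.fixedPoints R Z) := Nat.card_congr
    { toFun := fun C => ⟨⟨(C.1 : Subgroup H), C.1.2, hfix C.1 C.2⟩, fun r => Subtype.ext
        (congrArg Subtype.val (C.2 r) :)⟩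
      invFun := fun C => ⟨⟨(C.1 : Subgroup H), C.1.2.1⟩, fun r => Subtype.ext
        (congrArg Subtype.val (C.2 r) :)⟩
      left_inv := fun _ => rfl
      right_inv := fun _ => rfl }
  have eZ : Nat.card Z = Nat.card {C : Subgroup R // IsCyclic C ∧ Nat.card C = p ^ s} := Nat.card_congr
    { toFun := fun C => ⟨(C : Subgroup H).subgroupOf R,
        (subgroupOfEquivOfLe C.2.2).isCyclic.mpr C.2.1.1,
        (Nat.card_congr (subgroupOfEquivOfLe C.2.2).toEquiv).trans C.2.1.2⟩
      invFun := fun C => ⟨C.1.map R.subtype, ⟨((equivMapOfInjective C.1 _ R.subtype_injective).isCyclic).mp C.2.1,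
        (card_map_of_injective R.subtype_injective).trans C.2.2⟩, map_subtype_le _⟩
      left_inv := fun C => Subtype.ext (map_subgroupOf_eq_of_le C.2.2)
      right_inv := fun C => Subtype.ext (comap_map_eq_self_of_injective R.subtype_injective _) }
  have hYp : p ∣ Nat.card {C : Subgroup H // IsCyclic C ∧ Nat.card C = p ^ s} := by
    refine (Nat.ModEq.dvd_iff ?_ dvd_rfl).mpr hin
    rw [← eZ]
    exact hY.trans (e ▸ hZ.symm)
  have h := mul_dvd_mul_left (p ^ (s - 1)) (dvd_mul_of_dvd_right hYp (p - 1))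
  rwa [← hsplit, ← mul_assoc, ← htot, ← card_order_eq] at h

end Cfsg.Agent.Grp.CountCyclic
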