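import Mathlib
import Cfsg.Prelude.Def_LocalEven
import Cfsg.Agent.Lib.Grp.Cores
import Cfsg.Agent.Lib.Grp.CoprimeAbelian
import Cfsg.Agent.Lib.Grp.Signalizer
import Cfsg.Agent.Lib.Grp.SchurZassenhaus

/-!
A `p`-element whose commutators with a self-centralizing elementary abelian normal subgroup are
powers of itself; a criterion for sections isomorphic to the symmetric group of degree four.
-/

set_option autoImplicit false

namespace Cfsg.Agent.Grp

open Subgroup
open scoped commutatorElement

variable {E : Type*} [Group E] [Finite E]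

/-- A four-group with a dihedral group of order six acting faithfully gives `S₄`. -/
theorem exists_sym_four (W : Subgroup E) (z m : E) (hz : orderOf z = 3) (hm : m * m = 1)
    (hinv : m * z * m⁻¹ = z⁻¹) (hW : Nat.card W = 4) (hzW : ∀ w ∈ W, z * w * z⁻¹ ∈ W)
    (hmW : ∀ w ∈ W, m * w * m⁻¹ ∈ W) (hzC : ¬ ∀ w ∈ W, z * w = w * z)
    (hdisj : W ⊓ (zpowers z ⊔ zpowers m) = ⊥) (hm1 : m ∉ zpowers z) :
    ∃ H : Subgroup E, Nonempty (↥H ≃* Equiv.Perm (Fin 4)) := by
  classical
  set K := zpowers z ⊔ zpowers m with hK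
  set H := W ⊔ K with hH
  have hKW : K ≤ normalizer (W : Set E) := by
    have h : ∀ g : E, (∀ w ∈ W, g * w * g⁻¹ ∈ W) → g ∈ normalizer (W : Set E) := by
      intro g hg
      have hle : W.map (MulAut.conj g).toMonoidHom ≤ W := by rintro _ ⟨w, hw, rfl⟩; exact hg w hw
      have e : W.map (MulAut.conj g).toMonoidHom = W :=
        Subgroup.eq_of_le_of_card_ge hle (by rw [Subgroup.card_map_of_injective (MulAut.conj g).injective])
      rw [mem_normalizer_iff]
      refine fun w => ⟨hg w, fun hw => ?_⟩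
      rw [← e] at hw
      obtain ⟨u, hu, hue⟩ := hw
      exact (MulAut.conj g).injective hue ▸ hu
    exact sup_le (zpowers_le.mpr (h z hzW)) (zpowers_le.mpr (h m hmW))
  have hzn : zpowers m ≤ normalizer (zpowers z : Set E) := by
    rw [zpowers_le]
    have hle : (zpowers z).map (MulAut.conj m).toMonoidHom = zpowers z := by
      rw [MonoidHom.map_zpowers]
      show zpowers (m * z * m⁻¹) = _
      rw [hinv, zpowers_inv]
    rw [mem_normalizer_iff]
    intro x
    constructor
    · intro hx; rw [← hle]; exact ⟨x, hx, rfl⟩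
    · intro hx
      rw [← hle] at hx
      obtain ⟨u, hu, hue⟩ := hx
      exact (MulAut.conj m).injective hue ▸ hu
  have hm0 : m ≠ 1 := fun e => hm1 (e ▸ Subgroup.one_mem _)
  have hmo : orderOf m = 2 := orderOf_eq_prime (p := 2) (by rw [pow_two]; exact hm) hm0
  have hKc : Nat.card K = 6 := by
    have h1 := card_sup_mul_card_inf hzn
    have h2 : Nat.card ↥(zpowers m ⊓ zpowers z) = 1 := by
      refine Nat.eq_one_of_dvd_coprimes (show Nat.Coprime 2 3 by norm_num)
        ((Subgroup.card_dvd_of_le inf_le_left).trans ?_) ((Subgroup.card_dvd_of_le inf_le_right).trans ?_)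
      · rw [Nat.card_zpowers, hmo]
      · rw [Nat.card_zpowers, hz]
    rw [sup_comm, inf_comm, inf_comm, h2, mul_one, Nat.card_zpowers, Nat.card_zpowers, hmo, hz, ← hK] at h1
    exact h1
  have hHc : Nat.card H = 24 := by
    have h1 := card_sup_mul_card_inf hKW
    rw [inf_comm, hdisj, Subgroup.card_bot, mul_one, hKc, hW, sup_comm, ← hH] at h1
    exact h1
  set K' := K.subgroupOf H with hK'
  have hidx : K'.index = 4 := by
    have h1 := K'.index_mul_card
    rw [Nat.card_congr (subgroupOfEquivOfLe (le_sup_right : K ≤ H)).toEquiv, hKc, hHc] at h1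
    omega
  -- every element of `K` is `z ^ i * m ^ j`
  have hKmem : ∀ k ∈ K, ∃ c ∈ zpowers z, k = c ∨ k = c * m := by
    intro k hk
    rw [← SetLike.mem_coe, hK, Subgroup.coe_mul_of_right_le_normalizer_left _ _ hzn] at hk
    obtain ⟨c, hc, d, hd, rfl⟩ := hk
    refine ⟨c, hc, ?_⟩
    obtain ⟨i, rfl⟩ := Subgroup.mem_zpowers_iff.mp hd
    rcases Int.even_or_odd i with ⟨j, rfl⟩ | ⟨j, rfl⟩
    · left; show c * m ^ (j + j) = c; rw [← two_mul, zpow_mul, zpow_two, hm, one_zpow, mul_one]
    · right; show c * m ^ (2 * j + 1) = c * m; rw [zpow_add_one, zpow_mul, zpow_two, hm, one_zpow, one_mul]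
  have hzfix : ∀ c ∈ zpowers z, (∀ w ∈ W, c * w = w * c) → c = 1 := by
    intro c hc h
    by_contra hc1
    refine hzC fun w hw => ?_
    have e : zpowers c = zpowers z := Subgroup.eq_of_le_of_card_ge (zpowers_le.mpr hc) (by
      rw [Nat.card_zpowers, Nat.card_zpowers, hz]
      obtain hd := (Nat.dvd_prime Nat.prime_three).mp (hz ▸ orderOf_dvd_of_mem_zpowers hc)
      rcases hd with h0 | h0
      · exact absurd (orderOf_eq_one_iff.mp h0) hc1
      · rw [h0])
    have hzc : z ∈ zpowers c := e ▸ mem_zpowers z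
    obtain ⟨i, rfl⟩ := Subgroup.mem_zpowers_iff.mp hzc
    exact ((show Commute c w from h w hw).zpow_left i).eq
  -- the action on the cosets is faithful
  have hcore : K'.normalCore = ⊥ := by
    rw [Subgroup.eq_bot_iff_forall]
    intro k hk
    have hkK : ∀ g : ↥H, (g : E) * k * (g : E)⁻¹ ∈ K := fun g => mem_subgroupOf.mp (hk g)
    have hk0 : (k : E) ∈ K := by simpa using hkK 1
    have hWk : ∀ g : ↥H, ∀ w ∈ W, ((g : E) * k * (g : E)⁻¹) * w = w * ((g : E) * k * (g : E)⁻¹) := by
      intro g w hw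
      set t := (g : E) * k * (g : E)⁻¹ with ht
      have h1 := hkK (⟨w, mem_sup_left hw⟩ * g)
      have h1' : w * t * w⁻¹ ∈ K := by
        have e : w * t * w⁻¹ = (w * (g : E)) * k * (w * (g : E))⁻¹ := by rw [ht]; group
        rw [e]; exact h1
      have h2 : w * t * w⁻¹ * t⁻¹ ∈ W ⊓ K := by
        refine ⟨?_, K.mul_mem h1' (K.inv_mem (hkK g))⟩
        rw [show w * t * w⁻¹ * t⁻¹ = w * (t * w⁻¹ * t⁻¹) by group]
        exact W.mul_mem hw ((mem_normalizer_iff.mp (hKW (hkK g)) _).mp (W.inv_mem hw))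
      rw [hdisj, Subgroup.mem_bot, mul_inv_eq_one, mul_inv_eq_iff_eq_mul] at h2
      exact h2.symm
    obtain ⟨c, hc, hkc | hkc⟩ := hKmem k hk0
    · refine Subtype.ext ?_
      rw [hkc]
      exact hzfix c hc fun w hw => by simpa [hkc] using hWk 1 w hw
    · exfalso
      have hzH : z ∈ H := mem_sup_right (mem_sup_left (mem_zpowers z))
      have h1 : ∀ w ∈ W, Commute (c * m) w := fun w hw => by
        show (c * m) * w = w * (c * m); simpa [hkc] using hWk 1 w hw
      have h2 : ∀ w ∈ W, Commute (z * (c * m) * z⁻¹) w := fun w hw => by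
        show (z * (c * m) * z⁻¹) * w = w * _; simpa [hkc] using hWk ⟨z, hzH⟩ w hw
      obtain ⟨i, rfl⟩ := Subgroup.mem_zpowers_iff.mp hc
      have e : z * (z ^ i * m) * z⁻¹ * (z ^ i * m)⁻¹ = z ^ (2 : ℤ) := by
        have hmz : m * z⁻¹ * m⁻¹ = z := by
          calc m * z⁻¹ * m⁻¹ = (m * z * m⁻¹)⁻¹ := by group
            _ = z := by rw [hinv, inv_inv]
        calc z * (z ^ i * m) * z⁻¹ * (z ^ i * m)⁻¹ = z * z ^ i * (m * z⁻¹ * m⁻¹) * (z ^ i)⁻¹ := by group
          _ = z * z ^ i * z * (z ^ i)⁻¹ := by rw [hmz]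
          _ = z ^ (2 : ℤ) := by group
      have h3 := hzfix (z ^ (2 : ℤ)) (Subgroup.zpow_mem _ (mem_zpowers z) 2) fun w hw => by
        rw [← e]; exact ((h2 w hw).mul_left (h1 w hw).inv_left).eq
      have h4 : orderOf z ∣ 2 := by
        refine orderOf_dvd_of_pow_eq_one ?_
        rw [← zpow_natCast]; exact h3
      rw [hz] at h4; norm_num at h4
  let φ := MulAction.toPermHom ↥H (↥H ⧸ K')
  have hφ : Function.Injective φ := by
    rw [← MonoidHom.ker_eq_bot_iff, ← Subgroup.normalCore_eq_ker]; exact hcore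
  have hq : Nat.card (↥H ⧸ K') = 4 := by rw [← Subgroup.index_eq_card, hidx]
  have hb : Function.Bijective φ := by
    refine (Nat.bijective_iff_injective_and_card φ).mpr ⟨hφ, ?_⟩
    rw [hHc, Nat.card_perm, hq]; rfl
  exact ⟨H, ⟨(MulEquiv.ofBijective φ hb).trans
    (Equiv.permCongrHom (Finite.equivFinOfCardEq hq))⟩⟩

/-- In a cyclic group any two elements of the same prime order generate the same subgroup. -/
theorem mem_zpowers_of_orderOf_eq_prime {a x y : E} {p : ℕ} (hp : p.Prime) (hx : x ∈ zpowers a)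
    (hy : y ∈ zpowers a) (hox : orderOf x = p) (hoy : orderOf y = p) : y ∈ zpowers x := by
  obtain ⟨n, hn⟩ : p ∣ orderOf a := hox ▸ orderOf_dvd_of_mem_zpowers hx
  have hn0 : 0 < n := Nat.pos_of_ne_zero fun e => (orderOf_pos a).ne' (by rw [hn, e, mul_zero])
  have key : ∀ w ∈ zpowers a, orderOf w = p → w ∈ zpowers (a ^ n) := by
    intro w hw how
    obtain ⟨i, rfl⟩ := Subgroup.mem_zpowers_iff.mp hw
    have h1 : (a ^ i) ^ (p : ℤ) = 1 := by rw [zpow_natCast, ← how, pow_orderOf_eq_one]
    rw [← zpow_mul, ← orderOf_dvd_iff_zpow_eq_one, hn, mul_comm i] at h1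
    push_cast at h1
    obtain ⟨j, rfl⟩ := Int.dvd_of_mul_dvd_mul_left (by exact_mod_cast hp.ne_zero) h1
    rw [zpow_mul, zpow_natCast]; exact Subgroup.zpow_mem _ (mem_zpowers _) j
  have ho : orderOf (a ^ n) = p := by
    rw [orderOf_pow' _ hn0.ne', hn, Nat.gcd_eq_right (dvd_mul_left n p), Nat.mul_div_cancel _ hn0]
  have e : zpowers x = zpowers (a ^ n) := Subgroup.eq_of_le_of_card_ge (zpowers_le.mpr (key x hx hox))
    (by rw [Nat.card_zpowers, Nat.card_zpowers, ho, hox])
  rw [e]; exact key y hy hoy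

/-- The key lemma: such an element lies in `V`. -/
theorem mem_of_cyclic_commutators {p : ℕ} [hp : Fact p.Prime] (V N : Subgroup E) [V.Normal] [N.Normal]
    (hVN : V ≤ N) (hV : ∀ v ∈ V, v ^ p = 1) (hVc : ∀ v ∈ V, ∀ w ∈ V, v * w = w * v)
    (hVself : ∀ g : E, (∀ v ∈ V, g * v = v * g) → g ∈ V)
    (hidx : ¬ p ∣ V.relIndex N) (hNself : ∀ g : E, (∀ n ∈ N, ⁅n, g⁆ ∈ V) → g ∈ N)
    (hnoS4 : p ≠ 2 ∨ ∀ H : Subgroup E, IsEmpty (↥H ≃* Equiv.Perm (Fin 4)))
    {a : E} {k : ℕ} (ha : a ^ p ^ k = 1) (hcomm : ∀ v ∈ V, ⁅v, a⁆ ∈ zpowers a) : a ∈ V := by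
  classical
  by_contra haV
  have hVp : IsPGroup p V := fun v => ⟨1, Subtype.ext (by simpa using hV v v.2)⟩
  haveI : IsMulCommutative ↥V := ⟨⟨fun v w => Subtype.ext (hVc v v.2 w w.2)⟩⟩
  have hVn : ∀ g v : E, v ∈ V → g * v * g⁻¹ ∈ V := fun g v hv => (inferInstance : V.Normal).conj_mem v hv g
  -- reduce to an element whose `p`-th power is a nontrivial element of `V`
  obtain ⟨j, hjV, hj1V⟩ : ∃ j, a ^ p ^ j ∉ V ∧ a ^ p ^ (j + 1) ∈ V := by
    by_contra hne
    push Not at hne
    have h : ∀ j, a ^ p ^ j ∉ V := by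
      intro j
      induction j with
      | zero => simpa using haV
      | succ j ih => exact hne j ih
    exact h k (by rw [ha]; exact V.one_mem)
  set b := a ^ p ^ j with hb
  set u := b ^ p with hu
  have huV : u ∈ V := by rw [hu, hb, ← pow_mul, ← pow_succ]; exact hj1V
  have hcb : ∀ v ∈ V, ⁅v, b⁆ ∈ zpowers u := by
    intro v hv
    have h1 : ⁅v, b⁆ ∈ V := by
      rw [commutatorElement_def, mul_assoc v b, mul_assoc v]
      exact V.mul_mem hv (hVn b _ (V.inv_mem hv))
    have h2 : ⁅v, b⁆ ∈ zpowers a := by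
      have han : v * a * v⁻¹ ∈ zpowers a := by
        have := (zpowers a).mul_mem (hcomm v hv) (mem_zpowers a)
        rwa [commutatorElement_def, inv_mul_cancel_right] at this
      rw [commutatorElement_def, show v * b * v⁻¹ = (v * a * v⁻¹) ^ p ^ j by rw [conj_pow]]
      exact (zpowers a).mul_mem (Subgroup.pow_mem _ han _) ((zpowers a).inv_mem (Subgroup.pow_mem _ (mem_zpowers a) _))
    obtain ⟨i, hi⟩ := Subgroup.mem_zpowers_iff.mp h2
    by_cases hu1 : u = 1
    · -- `a` has order dividing `p ^ (j + 1)`: then `zpowers a ⊓ V` is trivial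
      have hz : ⁅v, b⁆ = 1 := by
        by_contra hne
        set c := ⁅v, b⁆ with hc
        have ho : orderOf c = p := orderOf_eq_prime (hV c h1) hne
        have hao : orderOf a = p ^ (j + 1) := by
          refine orderOf_eq_prime_pow (fun e => hjV ?_) ?_
          · rw [hb, e]; exact V.one_mem
          · rw [pow_succ, pow_mul]; exact hu1
        have hbo : orderOf b = p := orderOf_eq_prime hu1 (fun e => hjV (e ▸ V.one_mem))
        have hb' : b ∈ zpowers c := mem_zpowers_of_orderOf_eq_prime hp.out h2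
          (Subgroup.pow_mem _ (mem_zpowers a) _) ho hbo
        exact hjV (zpowers_le.mpr h1 hb')
      rw [hz]; exact Subgroup.one_mem _
    · -- the elements of order dividing `p` in a cyclic group
      by_cases hc1 : ⁅v, b⁆ = 1
      · rw [hc1]; exact Subgroup.one_mem _
      have ho : orderOf ⁅v, b⁆ = p := orderOf_eq_prime (hV _ h1) hc1
      have huo : orderOf u = p := orderOf_eq_prime (hV u huV) hu1
      have hua : u ∈ zpowers a := Subgroup.pow_mem _ (Subgroup.pow_mem _ (mem_zpowers a) _) _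
      exact mem_zpowers_of_orderOf_eq_prime hp.out hua h2 huo ho
  -- a complement normalized by a conjugate of `b` modulo `V`
  obtain ⟨X, hXN, hXV, hsup, hXc⟩ : ∃ X : Subgroup E, X ≤ N ∧ V ⊓ X = ⊥ ∧ V ⊔ X = N ∧ (Nat.card X).Coprime p := by
    have hc : (V.subgroupOf N).index.Coprime p := (hp.out.coprime_iff_not_dvd.mpr hidx).symm
    obtain ⟨t, ht⟩ := hVp.exists_card_eq
    obtain ⟨X, hX⟩ := Subgroup.exists_right_complement'_of_coprime (N := V.subgroupOf N)
      (show (Nat.card ↥(V.subgroupOf N)).Coprime (V.subgroupOf N).index by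
        rw [Nat.card_congr (subgroupOfEquivOfLe hVN).toEquiv, ht]; exact hc.symm.pow_left t)
    refine ⟨X.map N.subtype, map_subtype_le _, ?_, ?_, ?_⟩
    · have := congrArg (Subgroup.map N.subtype) hX.disjoint.eq_bot
      rwa [Subgroup.map_inf _ _ _ N.subtype_injective, Subgroup.map_subgroupOf_eq_of_le hVN, Subgroup.map_bot] at this
    · have := congrArg (Subgroup.map N.subtype) hX.sup_eq_top
      rwa [Subgroup.map_sup, Subgroup.map_subgroupOf_eq_of_le hVN, ← MonoidHom.range_eq_map, Subgroup.range_subtype] at this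
    · rw [Subgroup.card_map_of_injective N.subtype_injective, ← hX.symm.index_eq_card]; exact hc
  have hVX : (Nat.card V).Coprime (Nat.card X) := by
    obtain ⟨t, ht⟩ := hVp.exists_card_eq
    rw [ht]; exact hXc.symm.pow_left t
  have hXn : X ≤ normalizer (V : Set E) := by rw [Subgroup.normalizer_eq_top]; exact le_top
  obtain ⟨v0, hv0, hm0⟩ : ∃ v0 ∈ V, v0⁻¹ * b ∈ normalizer (X : Set E) := by
    obtain ⟨v, hv, hvX⟩ := exists_conj_of_le_sup (N := V) (H := X) (K := X.map (MulAut.conj b).toMonoidHom) hXn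
      (by
        rw [hsup]
        rintro _ ⟨x, hx, rfl⟩
        exact (inferInstance : N.Normal).conj_mem x (hXN hx) b)
      (Subgroup.card_map_of_injective (MulAut.conj b).injective) hVX
      (Or.inl (by have := hVp.isNilpotent; infer_instance))
    refine ⟨v, hv, ?_⟩
    rw [mem_normalizer_iff_smul, ← conj_smul_conj_smul, ← map_conj_eq_smul X b, ← hvX,
      conj_smul_conj_smul, inv_mul_cancel, map_one, one_smul]
  set m := v0⁻¹ * b with hm
  have hmV : m ∉ V := fun h => hjV (by
    have := V.mul_mem hv0 h; rwa [hm, mul_inv_cancel_left] at this)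
  have hbm : b = v0 * m := by rw [hm, mul_inv_cancel_left]
  have hact : ∀ v ∈ V, m * v * m⁻¹ = b * v * b⁻¹ := by
    intro v hv
    have hbv := hVn b v hv
    calc m * v * m⁻¹ = v0⁻¹ * (b * v * b⁻¹) * v0 := by rw [hm]; group
      _ = b * v * b⁻¹ := by rw [hVc v0⁻¹ (V.inv_mem hv0) _ hbv, inv_mul_cancel_right]
  have hcm : ∀ v ∈ V, v * (m * v * m⁻¹)⁻¹ ∈ zpowers u := fun v hv => by
    rw [hact v hv, show v * (b * v * b⁻¹)⁻¹ = ⁅v, b⁆ by rw [commutatorElement_def]; group]
    exact hcb v hv
  -- the `p`-th power of `m`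
  set c := v0⁻¹ * (m * v0 * m⁻¹) with hc
  have hcu : c ∈ zpowers u := by
    have := (zpowers u).inv_mem (hcm v0 hv0)
    rw [mul_inv_rev, inv_inv, hVc _ (hVn m v0 hv0) _ (V.inv_mem hv0)] at this
    exact this
  have hmu : ∀ w ∈ zpowers u, m * w * m⁻¹ = w := by
    intro w hw
    have h1 : Commute b w := by
      obtain ⟨i, rfl⟩ := Subgroup.mem_zpowers_iff.mp hw
      rw [hu]; exact ((Commute.refl b).pow_right p).zpow_right i
    rw [hact w (zpowers_le.mpr huV hw), h1.eq, mul_inv_cancel_right]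
  have huV' : ∀ w ∈ zpowers u, w ∈ V := fun w hw => zpowers_le.mpr huV hw
  have hconj : ∀ i : ℕ, m ^ i * v0 * (m ^ i)⁻¹ = v0 * c ^ i := by
    intro i
    induction i with
    | zero => simp
    | succ i ih =>
      calc m ^ (i + 1) * v0 * (m ^ (i + 1))⁻¹ = m * (m ^ i * v0 * (m ^ i)⁻¹) * m⁻¹ := by rw [pow_succ']; group
        _ = (m * v0 * m⁻¹) * (m * c ^ i * m⁻¹) := by rw [ih]; group
        _ = v0 * c * c ^ i := by rw [hmu _ (Subgroup.pow_mem _ hcu i), hc]; group
        _ = v0 * c ^ (i + 1) := by rw [pow_succ', mul_assoc]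
  have hpow : ∀ n : ℕ, (v0 * m) ^ n = v0 ^ n * c ^ (n.choose 2) * m ^ n := by
    intro n
    induction n with
    | zero => simp
    | succ n ih =>
      have hcv : Commute v0 (c ^ n.choose 2) := hVc v0 hv0 _ (huV' _ (Subgroup.pow_mem _ hcu _))
      calc (v0 * m) ^ (n + 1) = v0 ^ n * c ^ (n.choose 2) * (m ^ n * v0 * (m ^ n)⁻¹) * (m ^ n * m) := by
            rw [pow_succ, ih]; group
        _ = v0 ^ n * (c ^ (n.choose 2) * v0) * c ^ n * (m ^ n * m) := by rw [hconj]; group
        _ = v0 ^ n * v0 * (c ^ (n.choose 2) * c ^ n) * (m ^ n * m) := by rw [← hcv.eq]; group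
        _ = v0 ^ (n + 1) * c ^ ((n + 1).choose 2) * m ^ (n + 1) := by
            rw [← pow_succ, ← pow_succ, ← pow_add, Nat.choose_succ_succ', Nat.choose_one_right, Nat.add_comm n (n.choose 2)]
  have hup : u = c ^ (p.choose 2) * m ^ p := by
    rw [hu, hbm, hpow, hV v0 hv0, one_mul]
  have hmp : m ^ p ∈ V := by
    have : m ^ p = (c ^ (p.choose 2))⁻¹ * u := by rw [hup, inv_mul_cancel_left]
    rw [this]; exact V.mul_mem (V.inv_mem (huV' _ (Subgroup.pow_mem _ hcu _))) huV
  have hmN : m ∉ N := by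
    intro h
    have h1 : m ^ V.relIndex N ∈ V := by
      have h2 := Subgroup.mem_subgroupOf.mp ((V.subgroupOf N).pow_index_mem ⟨m, h⟩)
      show m ^ (V.subgroupOf N).index ∈ V
      simpa using h2
    obtain ⟨r, hr⟩ := exists_pow_eq_self_of_coprime (G := E ⧸ V) (x := (QuotientGroup.mk m : E ⧸ V)) (n := V.relIndex N)
      (((hp.out.coprime_iff_not_dvd.mpr hidx).symm).coprime_dvd_right (orderOf_dvd_of_pow_eq_one (by
        rw [← QuotientGroup.mk_pow]; exact (QuotientGroup.eq_one_iff _).mpr hmp)))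
    rw [← QuotientGroup.mk_pow, (QuotientGroup.eq_one_iff _).mpr h1, one_pow] at hr
    exact hmV ((QuotientGroup.eq_one_iff m).mp hr.symm)
  have hmX : ¬ ∀ x ∈ X, m * x = x * m := by
    intro h
    refine hmN (hNself m fun n hn => ?_)
    rw [← SetLike.mem_coe, ← hsup, Subgroup.coe_mul_of_right_le_normalizer_left _ _ hXn] at hn
    obtain ⟨v, hv, x, hx, rfl⟩ := hn
    have e : ⁅v * x, m⁆ = v * (m * v⁻¹ * m⁻¹) := by
      rw [commutatorElement_def]
      calc v * x * m * (v * x)⁻¹ * m⁻¹ = v * (x * m) * x⁻¹ * v⁻¹ * m⁻¹ := by group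
        _ = v * (m * x) * x⁻¹ * v⁻¹ * m⁻¹ := by rw [h x hx]
        _ = _ := by group
    rw [e]; exact V.mul_mem hv (hVn m _ (V.inv_mem hv))
  -- the case where `m ^ p` is nontrivial
  by_cases hmp1 : m ^ p = 1
  swap
  · have hmpu : m ^ p ∈ zpowers u := by
      have : m ^ p = (c ^ (p.choose 2))⁻¹ * u := by rw [hup, inv_mul_cancel_left]
      rw [this]; exact (zpowers u).mul_mem ((zpowers u).inv_mem (Subgroup.pow_mem _ hcu _)) (mem_zpowers u)
    have huX : ∀ x ∈ X, u * x = x * u := by
      have hgen : zpowers (m ^ p) = zpowers u := by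
        refine Subgroup.eq_of_le_of_card_ge (zpowers_le.mpr hmpu) ?_
        rw [Nat.card_zpowers, Nat.card_zpowers, orderOf_eq_prime (hV _ hmp) hmp1]
        exact orderOf_le_of_pow_eq_one hp.out.pos (hV u huV)
      intro x hx
      have huN : u ∈ normalizer (X : Set E) := zpowers_le.mpr (Subgroup.pow_mem _ hm0 p) (hgen ▸ mem_zpowers u)
      have h1 : u * x * u⁻¹ * x⁻¹ ∈ V ⊓ X := by
        refine ⟨?_, X.mul_mem ((mem_normalizer_iff.mp huN x).mp hx) (X.inv_mem hx)⟩
        rw [show u * x * u⁻¹ * x⁻¹ = u * (x * u⁻¹ * x⁻¹) by group]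
        exact V.mul_mem huV (hVn x _ (V.inv_mem huV))
      rw [hXV, Subgroup.mem_bot, mul_inv_eq_one, mul_inv_eq_iff_eq_mul] at h1
      exact h1
    set W := ⁅V, X⁆ with hW
    have hWV : W ≤ V := Subgroup.commutator_le.mpr fun v hv x _ => by
      rw [commutatorElement_def, mul_assoc v x, mul_assoc v]
      exact V.mul_mem hv (hVn x _ (V.inv_mem hv))
    have hinf := abelian_commutator_inf_fixed X V hXn hVX.symm
    have hmW : ∀ w ∈ W, m * w * m⁻¹ ∈ W := by
      intro w hw
      have h1 : W ≤ W.comap (MulAut.conj m).toMonoidHom := by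
        rw [hW, Subgroup.commutator_le]
        intro v hv x hx
        rw [Subgroup.mem_comap, map_commutatorElement, MulEquiv.coe_toMonoidHom]
        exact Subgroup.commutator_mem_commutator (hVn m v hv) ((mem_normalizer_iff.mp hm0 x).mp hx)
      exact h1 hw
    have hfixW : ∀ w ∈ W, m * w * m⁻¹ = w := by
      intro w hw
      have h1 : w * (m * w * m⁻¹)⁻¹ ∈ (V ⊓ centralizer (X : Set E)) ⊓ ⁅V, X⁆ := by
        refine ⟨⟨huV' _ (hcm w (hWV hw)), Subgroup.mem_centralizer_iff.mpr fun x hx => ?_⟩,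
          W.mul_mem hw (W.inv_mem (hmW w hw))⟩
        obtain ⟨i, hi⟩ := Subgroup.mem_zpowers_iff.mp (hcm w (hWV hw))
        rw [← hi]
        exact ((show Commute u x from huX x hx).zpow_left i).eq.symm
      rw [hinf, Subgroup.mem_bot, mul_inv_eq_one] at h1
      exact h1.symm
    refine hmX fun x hx => ?_
    set y := x⁻¹ * (m * x * m⁻¹) with hy
    have hyX : y ∈ X := X.mul_mem (X.inv_mem hx) ((mem_normalizer_iff.mp hm0 x).mp hx)
    have hyV : y ∈ V := by
      refine hVself y ?_
      have hle : V ≤ centralizer ({y} : Set E) := by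
        have hdec := (commutator_sup_fixed X V hXn hVX.symm (Or.inr (by have := hVp.isNilpotent; infer_instance)))
        rw [← hdec]
        refine sup_le (fun w hw => ?_) (fun w hw => ?_) <;> rw [Subgroup.mem_centralizer_singleton_iff]
        · have hx' : ∀ w ∈ W, x * w * x⁻¹ ∈ W := fun w hw =>
            mem_conj_normalizer (right_le_normalizer_commutator X V hx) hw
          have e : m * x * m⁻¹ * w * (m * x * m⁻¹)⁻¹ = x * w * x⁻¹ := by
            calc m * x * m⁻¹ * w * (m * x * m⁻¹)⁻¹ = m * (x * (m⁻¹ * w * m) * x⁻¹) * m⁻¹ := by group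
              _ = m * (x * w * x⁻¹) * m⁻¹ := by
                  have h := hfixW w hw
                  rw [show m⁻¹ * w * m = w from by
                    calc m⁻¹ * w * m = m⁻¹ * (m * w * m⁻¹) * m := by rw [h]
                      _ = w := by group]
              _ = _ := hfixW _ (hx' w hw)
          refine (mul_inv_eq_iff_eq_mul.mp ?_).symm
          calc y * w * y⁻¹ = x⁻¹ * (m * x * m⁻¹ * w * (m * x * m⁻¹)⁻¹) * x := by rw [hy]; group
            _ = w := by rw [e]; group
        · exact (Subgroup.mem_centralizer_iff.mp hw.2 y hyX).symm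
      exact fun v hv => (Subgroup.mem_centralizer_singleton_iff.mp (hle hv)).symm
    have h1 : y ∈ V ⊓ X := ⟨hyV, hyX⟩
    rw [hXV, Subgroup.mem_bot, hy, inv_mul_eq_one] at h1
    exact mul_inv_eq_iff_eq_mul.mp h1.symm
  · -- `m` is an involution: `p = 2` and there is a section isomorphic to `S₄`
    have hp2 : p = 2 := by
      by_contra hp2
      have hd : p ∣ p.choose 2 := hp.out.dvd_choose_self two_ne_zero (lt_of_le_of_ne hp.out.two_le (Ne.symm hp2))
      obtain ⟨t, ht⟩ := hd
      rw [hmp1, ht, pow_mul, hV c (huV' c hcu), one_pow, one_mul] at hup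
      refine hmV (hVself m fun v hv => ?_)
      have h := hcm v hv
      rw [hup, zpowers_one_eq_bot, Subgroup.mem_bot, mul_inv_eq_one] at h
      exact mul_inv_eq_iff_eq_mul.mp h.symm
    subst hp2
    have hS4 := hnoS4.resolve_left (fun h => h rfl)
    have hmm : m * m = 1 := by rw [← pow_two]; exact hmp1
    have hmi : m⁻¹ = m := inv_eq_of_mul_eq_one_left hmm
    push Not at hmX
    obtain ⟨y, hy, hym⟩ := hmX
    set z0 := y⁻¹ * (m * y * m) with hz0
    have hz0X : z0 ∈ X := by
      refine X.mul_mem (X.inv_mem hy) ?_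
      have := (mem_normalizer_iff.mp hm0 y).mp hy
      rwa [hmi] at this
    have hz0inv : m * z0 * m⁻¹ = z0⁻¹ := by
      have key : ∀ M : E, M * M = 1 → M * (y⁻¹ * (M * y * M)) * M⁻¹ = (y⁻¹ * (M * y * M))⁻¹ := by
        intro M hM
        have hMi : M⁻¹ = M := inv_eq_of_mul_eq_one_left hM
        calc M * (y⁻¹ * (M * y * M)) * M⁻¹ = M * y⁻¹ * M * y := by group
          _ = M⁻¹ * y⁻¹ * M⁻¹ * y := by rw [hMi]
          _ = _ := by group
      rw [hz0]; exact key m hmm
    have hz01 : z0 ≠ 1 := by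
      intro e
      rw [hz0, inv_mul_eq_one] at e
      refine hym ?_
      calc m * y = m * y * (m * m) := by rw [hmm, mul_one]
        _ = m * y * m * m := by group
        _ = y * m := by rw [← e]
    obtain ⟨q, hq, hqd⟩ := Nat.exists_prime_and_dvd (fun e => hz01 (orderOf_eq_one_iff.mp e))
    haveI := Fact.mk hq
    set z := z0 ^ (orderOf z0 / q) with hz
    have hzo : orderOf z = q := orderOf_pow_orderOf_div (orderOf_pos z0).ne' hqd
    have hzX : z ∈ X := X.pow_mem hz0X _
    have hzinv : m * z * m⁻¹ = z⁻¹ := by rw [hz, ← conj_pow, hz0inv, inv_pow]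
    have hz1 : z ≠ 1 := fun e => hq.one_lt.ne (by rw [← hzo, e, orderOf_one])
    have hq2 : q.Coprime 2 := hXc.coprime_dvd_left (hzo ▸ Subgroup.orderOf_dvd_natCard _ hzX)
    have hqne : q ≠ 2 := fun e => by rw [e] at hq2; norm_num at hq2
    have hzn : zpowers z ≤ normalizer (V : Set E) := (zpowers_le.mpr hzX).trans hXn
    have hcop : (Nat.card ↥(zpowers z)).Coprime (Nat.card V) :=
      hVX.symm.coprime_dvd_left (Subgroup.card_dvd_of_le (zpowers_le.mpr hzX))
    set W := ⁅V, zpowers z⁆ with hW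
    have hWV : W ≤ V := commutator_le_left_of_le_normalizer hzn
    have hinf := abelian_commutator_inf_fixed (zpowers z) V hzn hcop
    have hCz : (V ⊓ centralizer (zpowers z : Set E)).relIndex V ≤ 4 := by
      set Cm := V ⊓ centralizer ({m} : Set E) with hCm
      have hfib : Cm.relIndex V ≤ 2 := by
        let f : ↥V →* ↥V :=
          { toFun := fun v => ⟨v * (m * v * m⁻¹)⁻¹, huV' _ (hcm v v.2)⟩
            map_one' := Subtype.ext (by simp)
            map_mul' := fun v w => Subtype.ext (by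
              show (v : E) * w * (m * (v * w) * m⁻¹)⁻¹ = (v : E) * (m * v * m⁻¹)⁻¹ * ((w : E) * (m * w * m⁻¹)⁻¹)
              rw [show (m * ((v : E) * w) * m⁻¹)⁻¹ = (m * w * m⁻¹)⁻¹ * (m * v * m⁻¹)⁻¹ by group]
              calc (v : E) * w * ((m * w * m⁻¹)⁻¹ * (m * v * m⁻¹)⁻¹) = (v : E) * (((w : E) * (m * w * m⁻¹)⁻¹) * (m * v * m⁻¹)⁻¹) := by group
                _ = (v : E) * ((m * v * m⁻¹)⁻¹ * ((w : E) * (m * w * m⁻¹)⁻¹)) := by
                    rw [hVc _ (huV' _ (hcm w w.2)) _ (V.inv_mem (hVn m v v.2))]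
                _ = _ := by group) }
        have hker : f.ker ≤ Cm.subgroupOf V := by
          intro v hv
          have := congrArg Subtype.val (MonoidHom.mem_ker.mp hv)
          refine ⟨v.2, ?_⟩
          show (v : E) ∈ centralizer ({m} : Set E)
          rw [Subgroup.mem_centralizer_singleton_iff]
          have h : (v : E) = m * v * m⁻¹ := mul_inv_eq_one.mp this
          conv_lhs => rw [h]
          group
        calc Cm.relIndex V ≤ f.ker.index := Nat.le_of_dvd (Nat.pos_of_ne_zero Subgroup.index_ne_zero_of_finite) (Subgroup.index_dvd_of_le hker)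
          _ = Nat.card f.range := Subgroup.index_ker f
          _ ≤ Nat.card ↥((zpowers u).subgroupOf V) := Subgroup.card_le_of_le (by rintro _ ⟨v, rfl⟩; exact hcm v v.2)
          _ = orderOf u := by rw [Nat.card_congr (subgroupOfEquivOfLe (zpowers_le.mpr huV)).toEquiv, Nat.card_zpowers]
          _ ≤ 2 := orderOf_le_of_pow_eq_one two_pos (hV u huV)
      have hmap : Cm.map (MulAut.conj z).toMonoidHom = V ⊓ centralizer ({z * m * z⁻¹} : Set E) := by
        ext g
        constructor
        · rintro ⟨w, ⟨hwV, hwm⟩, rfl⟩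
          refine ⟨hVn z w hwV, ?_⟩
          have hwm : w * m = m * w := Subgroup.mem_centralizer_singleton_iff.mp hwm
          show _ ∈ centralizer ({z * m * z⁻¹} : Set E)
          rw [Subgroup.mem_centralizer_singleton_iff]
          simp only [MulEquiv.coe_toMonoidHom, MulAut.conj_apply]
          calc z * w * z⁻¹ * (z * m * z⁻¹) = z * (w * m) * z⁻¹ := by group
            _ = z * (m * w) * z⁻¹ := by rw [hwm]
            _ = _ := by group
        · rintro ⟨hgV, hg⟩
          refine ⟨z⁻¹ * g * z, ⟨by simpa using hVn z⁻¹ g hgV, ?_⟩, by simp [mul_assoc]⟩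
          have hg : g * (z * m * z⁻¹) = z * m * z⁻¹ * g := Subgroup.mem_centralizer_singleton_iff.mp hg
          show _ ∈ centralizer ({m} : Set E)
          rw [Subgroup.mem_centralizer_singleton_iff]
          calc z⁻¹ * g * z * m = z⁻¹ * (g * (z * m * z⁻¹)) * z := by group
            _ = z⁻¹ * (z * m * z⁻¹ * g) * z := by rw [hg]
            _ = _ := by group
      have hfib' : (V ⊓ centralizer ({z * m * z⁻¹} : Set E)).relIndex V ≤ 2 := by
        have h := Subgroup.relIndex_map_map_of_injective Cm V (f := (MulAut.conj z).toMonoidHom) (MulAut.conj z).injective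
        have hVz : V.map (MulAut.conj z).toMonoidHom = V := by
          rw [map_conj_eq_smul]; exact mem_normalizer_iff_smul.mp (hzn (mem_zpowers z))
        rw [hmap, hVz] at h
        omega
      have hle : Cm ⊓ (V ⊓ centralizer ({z * m * z⁻¹} : Set E)) ≤ V ⊓ centralizer (zpowers z : Set E) := by
        intro v hv
        refine ⟨hv.1.1, ?_⟩
        show v ∈ centralizer (zpowers z : Set E)
        have h1 : Commute m v := (Subgroup.mem_centralizer_singleton_iff.mp hv.1.2).symm
        have h2 : Commute (z * m * z⁻¹) v := (Subgroup.mem_centralizer_singleton_iff.mp hv.2.2).symm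
        have h3 := h2.mul_left h1
        have e : z * m * z⁻¹ * m = z ^ 2 := by
          have : m * z⁻¹ * m = z := by
            rw [← hzinv, hmi]
            calc m * (m * z * m) * m = (m * m) * z * (m * m) := by group
              _ = z := by rw [hmm]; group
          rw [pow_two]
          calc z * m * z⁻¹ * m = z * (m * z⁻¹ * m) := by group
            _ = z * z := by rw [this]
        rw [e] at h3
        obtain ⟨t, ht⟩ := exists_pow_eq_self_of_coprime (n := 2) (x := z) (by rw [hzo]; exact hq2.symm)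
        rw [← centralizer_singleton_eq_zpowers, Subgroup.mem_centralizer_singleton_iff, ← ht]
        exact ((h3.pow_left t).eq).symm
      refine le_trans (Nat.le_of_dvd (Nat.pos_of_ne_zero Subgroup.index_ne_zero_of_finite) (Subgroup.relIndex_dvd_of_le_left V hle))
        (Subgroup.relIndex_inf_le.trans ?_)
      calc Cm.relIndex V * _ ≤ 2 * 2 := Nat.mul_le_mul hfib hfib'
        _ = 4 := rfl
    have hWcard : Nat.card W ≤ 4 := by
      refine le_trans ?_ hCz
      rw [Subgroup.relIndex, Subgroup.index_eq_card]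
      refine Nat.card_le_card_of_injective (fun w : ↥W => (QuotientGroup.mk (⟨w, hWV w.2⟩ : ↥V) : ↥V ⧸ _)) ?_
      intro w w' h
      have h1 := mem_subgroupOf.mp (QuotientGroup.eq.mp h)
      have h2 : (w : E)⁻¹ * w' ∈ (V ⊓ centralizer (zpowers z : Set E)) ⊓ W := ⟨h1, W.mul_mem (W.inv_mem w.2) w'.2⟩
      rw [hinf, Subgroup.mem_bot, inv_mul_eq_one] at h2
      exact Subtype.ext h2
    have hzW : ∀ w ∈ W, z * w * z⁻¹ ∈ W := fun w hw =>
      mem_conj_normalizer (right_le_normalizer_commutator _ V (mem_zpowers z)) hw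
    obtain ⟨w, hw, hw1⟩ : ∃ w ∈ W, w ≠ 1 := by
      by_contra hne
      push Not at hne
      have hzV : z ∈ V := hVself z fun v hv => by
        have h := hne _ (Subgroup.commutator_mem_commutator hv (mem_zpowers z))
        exact (commutatorElement_eq_one_iff_mul_comm.mp h).symm
      exact hz1 (Subgroup.mem_bot.mp (hXV ▸ ⟨hzV, hzX⟩ : z ∈ (⊥ : Subgroup E)))
    have horb : ∀ i : ℕ, z ^ i * w * (z ^ i)⁻¹ ∈ W := by
      intro i
      induction i with
      | zero => simpa using hw
      | succ i ih =>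
        have e : z ^ (i + 1) * w * (z ^ (i + 1))⁻¹ = z * (z ^ i * w * (z ^ i)⁻¹) * z⁻¹ := by rw [pow_succ']; group
        rw [e]; exact hzW _ ih
    have hzw : ¬ z * w = w * z := by
      intro h
      have h1 : w ∈ (V ⊓ centralizer (zpowers z : Set E)) ⊓ W := ⟨⟨hWV hw, by
        show w ∈ centralizer (zpowers z : Set E)
        rw [← centralizer_singleton_eq_zpowers, Subgroup.mem_centralizer_singleton_iff]; exact h.symm⟩, hw⟩
      rw [hinf, Subgroup.mem_bot] at h1
      exact hw1 h1
    have hcardW : q + 1 ≤ Nat.card W := by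
      let g : Option (Fin q) → ↥W := fun o => o.elim 1 fun i => ⟨_, horb i⟩
      have hg : Function.Injective g := by
        rintro (_ | i) (_ | i') h
        · rfl
        · exfalso
          have h' : (1 : E) = z ^ (i' : ℕ) * w * (z ^ (i' : ℕ))⁻¹ := congrArg Subtype.val h
          rw [eq_comm, mul_inv_eq_one, mul_eq_left] at h'
          exact hw1 h'
        · exfalso
          have h' : z ^ (i : ℕ) * w * (z ^ (i : ℕ))⁻¹ = 1 := congrArg Subtype.val h
          rw [mul_inv_eq_one, mul_eq_left] at h'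
          exact hw1 h'
        · congr 1
          by_contra hne
          have h' : z ^ (i : ℕ) * w * (z ^ (i : ℕ))⁻¹ = z ^ (i' : ℕ) * w * (z ^ (i' : ℕ))⁻¹ := congrArg Subtype.val h
          set d : E := (z ^ (i' : ℕ))⁻¹ * z ^ (i : ℕ) with hd
          have hd1 : d ≠ 1 := by
            rw [hd, Ne, inv_mul_eq_one]
            intro e
            exact hne (Fin.ext (pow_injOn_Iio_orderOf (x := z) (by simp [hzo]) (by simp [hzo]) e).symm)
          have hdw : Commute d w := by
            show d * w = w * d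
            have := congrArg (fun t => (z ^ (i' : ℕ))⁻¹ * t * z ^ (i : ℕ)) h'
            simp only [mul_assoc, inv_mul_cancel_left, inv_mul_cancel, mul_one] at this
            rw [hd, mul_assoc]; simpa [mul_assoc] using this
          have hdz : d ∈ zpowers z := Subgroup.mul_mem _ (Subgroup.inv_mem _ (Subgroup.pow_mem _ (mem_zpowers z) _)) (Subgroup.pow_mem _ (mem_zpowers z) _)
          have hzd : z ∈ zpowers d := by
            have e : zpowers d = zpowers z := Subgroup.eq_of_le_of_card_ge (zpowers_le.mpr hdz) (by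
              rw [Nat.card_zpowers, Nat.card_zpowers, hzo]
              rcases (Nat.dvd_prime hq).mp (hzo ▸ orderOf_dvd_of_mem_zpowers hdz) with h0 | h0
              · exact absurd (orderOf_eq_one_iff.mp h0) hd1
              · rw [h0])
            exact e ▸ mem_zpowers z
          obtain ⟨s, hs⟩ := Subgroup.mem_zpowers_iff.mp hzd
          exact hzw (hs ▸ (hdw.zpow_left s).eq)
      have := Nat.card_le_card_of_injective g hg
      rwa [Nat.card_eq_fintype_card, Fintype.card_option, Fintype.card_fin] at this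
    have hq3 : q = 3 := by have := hq.two_le; omega
    subst hq3
    have hW4 : Nat.card W = 4 := by omega
    have hmW : ∀ w ∈ W, m * w * m⁻¹ ∈ W := by
      intro w hw
      have h1 : W ≤ W.comap (MulAut.conj m).toMonoidHom := by
        rw [hW, Subgroup.commutator_le]
        intro v hv x hx
        rw [Subgroup.mem_comap, map_commutatorElement, MulEquiv.coe_toMonoidHom]
        refine Subgroup.commutator_mem_commutator (hVn m v hv) ?_
        obtain ⟨i, rfl⟩ := Subgroup.mem_zpowers_iff.mp hx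
        rw [map_zpow, MulAut.conj_apply, hzinv]
        exact Subgroup.zpow_mem _ (Subgroup.inv_mem _ (mem_zpowers z)) i
      exact h1 hw
    have hdisj : W ⊓ (zpowers z ⊔ zpowers m) = ⊥ := by
      refine (Subgroup.eq_bot_iff_forall _).mpr fun g hg => ?_
      obtain ⟨hgW, hgK⟩ := hg
      have hzm : zpowers m ≤ normalizer (zpowers z : Set E) := by
        rw [← invariant_iff]
        intro d hd x hx
        obtain ⟨s, rfl⟩ := Subgroup.mem_zpowers_iff.mp hd
        have hb : ∀ x ∈ zpowers z, m * x * m⁻¹ ∈ zpowers z := by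
          intro x hx
          obtain ⟨i, rfl⟩ := Subgroup.mem_zpowers_iff.mp hx
          rw [← conj_zpow, hzinv]; exact Subgroup.zpow_mem _ (Subgroup.inv_mem _ (mem_zpowers z)) i
        rcases Int.even_or_odd s with ⟨r, rfl⟩ | ⟨r, rfl⟩
        · rw [← two_mul, zpow_mul, zpow_two, hmm, one_zpow]; simpa using hx
        · rw [zpow_add_one, zpow_mul, zpow_two, hmm, one_zpow, one_mul]; exact hb x hx
      have hgK' : g ∈ ((zpowers z ⊔ zpowers m : Subgroup E) : Set E) := hgK
      rw [Subgroup.coe_mul_of_right_le_normalizer_left _ _ hzm] at hgK'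
      obtain ⟨x, hx, d, hd, rfl⟩ := hgK' 
      obtain ⟨s, rfl⟩ := Subgroup.mem_zpowers_iff.mp hd
      have hxX : x ∈ X := zpowers_le.mpr hzX hx
      rcases Int.even_or_odd s with ⟨r, rfl⟩ | ⟨r, rfl⟩
      · have e : m ^ (r + r) = 1 := by rw [← two_mul, zpow_mul, zpow_two, hmm, one_zpow]
        have hgW : x ∈ W := by simpa [e] using hgW
        show x * m ^ (r + r) = 1
        rw [e, mul_one]
        exact Subgroup.mem_bot.mp (hXV ▸ ⟨hWV hgW, hxX⟩ : x ∈ (⊥ : Subgroup E))
      · exfalso
        have e : m ^ (2 * r + 1) = m := by rw [zpow_add_one, zpow_mul, zpow_two, hmm, one_zpow, one_mul]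
        have hgW : x * m ∈ W := by simpa [e] using hgW
        refine hmN ?_
        have := N.mul_mem (N.inv_mem (hXN hxX)) (hVN (hWV hgW))
        rwa [inv_mul_cancel_left] at this
    obtain ⟨H, hH⟩ := exists_sym_four W z m hzo hmm hzinv hW4 hzW hmW (fun h => hzw (h w hw)) hdisj
      (fun h => hmN (hXN (zpowers_le.mpr hzX h)))
    exact (hS4 H).false hH.some

end Cfsg.Agent.Grp
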