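import Mathlib
import Cfsg.Prelude.Def_Local
import Cfsg.Prelude.Def_LocalEven
import Cfsg.Agent.Lib.Grp.CyclicNormalPart
import Cfsg.Agent.Lib.Grp.FrattiniKernel
import Cfsg.Agent.Lib.Grp.PSolvable
import Cfsg.Agent.Lib.Grp.Frattini
import Cfsg.Agent.Lib.Block.TISylow

/-!
A cyclic normal subgroup of a Sylow `p`-subgroup of a `p`-soluble group lies in `O_{p',p}`, for odd `p`
or when no section is the symmetric group of degree four.
-/

set_option autoImplicit false

namespace Cfsg.Agent.Grp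

open Subgroup
open scoped commutatorElement

/-- A subgroup of a homomorphic image is a section. -/
theorem involves_of_surjective {G G' T : Type*} [Group G] [Group G'] [Group T] (f : G →* G')
    (H : Subgroup G') (hf : Function.Surjective f) (e : ↥H ≃* T) : Cfsg.Involves T G := by
  have hn : (f.ker.subgroupOf (H.comap f)).Normal := inferInstance
  refine ⟨H.comap f, f.ker, hn, ⟨?_⟩⟩
  let g : ↥(H.comap f) →* ↥H := f.subgroupComap H
  have hg : Function.Surjective g := f.subgroupComap_surjective_of_surjective H hf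
  have hk : g.ker = f.ker.subgroupOf (H.comap f) := by
    ext x
    rw [MonoidHom.mem_ker, Subgroup.mem_subgroupOf, MonoidHom.mem_ker, Subtype.ext_iff]
    rfl
  exact ((QuotientGroup.quotientMulEquivOfEq hk.symm).trans
    (QuotientGroup.quotientKerEquivOfSurjective g hg)).trans e

/-- The case of trivial `p'`-core. -/
theorem mem_pCore_of_cyclic_normal {G : Type*} [Group G] [Finite G] {p : ℕ} [hp : Fact p.Prime]
    (hG : Cfsg.IsPSolvable p G) (hO : Cfsg.pPrimeCore p G = ⊥) {a : G} {k : ℕ} (hak : a ^ p ^ k = 1)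
    (hnorm : ∀ b ∈ Cfsg.pCore p G, b * a * b⁻¹ ∈ zpowers a)
    (hS4 : p ≠ 2 ∨ ¬ Cfsg.Involves (Equiv.Perm (Fin 4)) G) : a ∈ Cfsg.pCore p G := by
  set P0 := Cfsg.pCore p G with hP0
  haveI : P0.Normal := pCore_isNormal
  have hP0p : IsPGroup p P0 := pCore_isPGroup
  set Φ0 := (frattini ↥P0).map P0.subtype with hΦ0
  haveI : Φ0.Normal := inferInstance
  have hΦle : Φ0 ≤ P0 := Subgroup.map_subtype_le _
  set f := QuotientGroup.mk' Φ0 with hf
  have hfs : Function.Surjective f := QuotientGroup.mk'_surjective Φ0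
  set V := P0.map f with hV
  haveI : V.Normal := (inferInstance : P0.Normal).map _ hfs
  have hVc : ∀ v ∈ V, ∀ w ∈ V, v * w = w * v := by
    rintro _ ⟨x, hx, rfl⟩ _ ⟨y, hy, rfl⟩
    rw [← commutatorElement_eq_one_iff_mul_comm, ← map_commutatorElement, hf, QuotientGroup.mk'_apply,
      QuotientGroup.eq_one_iff]
    exact ⟨⁅(⟨x, hx⟩ : ↥P0), ⟨y, hy⟩⁆, pGroup_commutator_le_frattini hP0p
      (Subgroup.commutator_mem_commutator (mem_top _) (mem_top _)), rfl⟩
  have hVp : ∀ v ∈ V, v ^ p = 1 := by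
    rintro _ ⟨x, hx, rfl⟩
    rw [← map_pow, hf, QuotientGroup.mk'_apply, QuotientGroup.eq_one_iff]
    exact ⟨(⟨x, hx⟩ : ↥P0) ^ p, pGroup_pow_mem_frattini hP0p _, rfl⟩
  have hVself : ∀ g, (∀ v ∈ V, g * v = v * g) → g ∈ V := by
    intro g hg
    obtain ⟨g, rfl⟩ := hfs g
    refine ⟨g, mem_pCore_of_trivial_on_frattini_quotient hG hO fun b hb => ?_, rfl⟩
    show ⁅b, g⁆ ∈ Φ0
    rw [← QuotientGroup.eq_one_iff, ← QuotientGroup.mk'_apply, ← hf, map_commutatorElement,
      commutatorElement_eq_one_iff_mul_comm]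
    exact (hg _ ⟨b, hb, rfl⟩).symm
  set f2 := QuotientGroup.mk' V with hf2
  have hf2s : Function.Surjective f2 := QuotientGroup.mk'_surjective V
  set N0 := Cfsg.pPrimeCore p ((G ⧸ Φ0) ⧸ V) with hN0
  haveI : N0.Normal := pPrimeCore_isNormal
  set N := N0.comap f2 with hN
  haveI : N.Normal := (inferInstance : N0.Normal).comap _
  have hVN : V ≤ N := fun v hv => by
    show f2 v ∈ N0
    rw [hf2, QuotientGroup.mk'_apply, (QuotientGroup.eq_one_iff v).mpr hv]
    exact N0.one_mem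
  have hidx : ¬ p ∣ V.relIndex N := by
    have e : V = (⊥ : Subgroup ((G ⧸ Φ0) ⧸ V)).comap f2 := by
      rw [MonoidHom.comap_bot, hf2, QuotientGroup.ker_mk']
    rw [e, Subgroup.relIndex_comap, hN, Subgroup.map_comap_eq_self_of_surjective hf2s,
      Subgroup.relIndex_bot_left]
    exact pPrimeCore_not_dvd
  have hcore : Cfsg.pCore p ((G ⧸ Φ0) ⧸ V) = ⊥ := by
    haveI : (Cfsg.pCore p ((G ⧸ Φ0) ⧸ V)).Normal := pCore_isNormal
    set ψ := f2.comp f with hψ
    have hψs : Function.Surjective ψ := hf2s.comp hfs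
    have hker : ψ.ker = P0 := by
      rw [hψ, ← MonoidHom.comap_ker, hf2, QuotientGroup.ker_mk', hV, Subgroup.comap_map_eq, hf,
        QuotientGroup.ker_mk']
      exact sup_eq_left.mpr hΦle
    have hp' : IsPGroup p ↥((Cfsg.pCore p ((G ⧸ Φ0) ⧸ V)).comap ψ) :=
      (pCore_isPGroup (p := p) (G := (G ⧸ Φ0) ⧸ V)).comap_of_ker_isPGroup ψ (by rw [hker]; exact hP0p)
    have hle := le_pCore ((inferInstance : (Cfsg.pCore p ((G ⧸ Φ0) ⧸ V)).Normal).comap ψ) hp'
    rw [← Subgroup.map_comap_eq_self_of_surjective hψs (Cfsg.pCore p ((G ⧸ Φ0) ⧸ V)),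
      Subgroup.map_eq_bot_iff, hker]
    exact hle
  have hsolv : Cfsg.IsPSolvable p ((G ⧸ Φ0) ⧸ V) := isPSolvable_map (isPSolvable_map hG f hfs) f2 hf2s
  have hNself : ∀ g, (∀ n ∈ N, ⁅n, g⁆ ∈ V) → g ∈ N := by
    intro g hg
    show f2 g ∈ N0
    refine Cfsg.Agent.Block.centralizer_pPrimeCore_le hsolv hcore (Subgroup.mem_centralizer_iff.mpr fun y hy => ?_)
    obtain ⟨n, rfl⟩ := hf2s y
    rw [← commutatorElement_eq_one_iff_mul_comm, ← map_commutatorElement, hf2, QuotientGroup.mk'_apply,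
      QuotientGroup.eq_one_iff]
    exact hg n hy
  have hS4' : p ≠ 2 ∨ ∀ H : Subgroup (G ⧸ Φ0), IsEmpty (↥H ≃* Equiv.Perm (Fin 4)) :=
    hS4.imp id fun h H => ⟨fun e => h (involves_of_surjective f H hfs e)⟩
  have hcomm : ∀ v ∈ V, ⁅v, f a⁆ ∈ zpowers (f a) := by
    rintro _ ⟨b, hb, rfl⟩
    rw [← map_commutatorElement, ← MonoidHom.map_zpowers]
    refine ⟨⁅b, a⁆, ?_, rfl⟩
    show b * a * b⁻¹ * a⁻¹ ∈ zpowers a
    exact Subgroup.mul_mem _ (hnorm b hb) (Subgroup.inv_mem _ (mem_zpowers a))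
  have haV : f a ∈ V := mem_of_cyclic_commutators V N hVN hVp hVc hVself hidx hNself hS4'
    (k := k) (by rw [← map_pow, hak, map_one]) hcomm
  have h1 : a ∈ V.comap f := haV
  rw [hV, Subgroup.comap_map_eq, hf, QuotientGroup.ker_mk', sup_eq_left.mpr hΦle] at h1
  exact h1

/-- A cyclic normal subgroup of a Sylow subgroup lies in `O_{p',p}`. -/
theorem cyclic_normal_le_pPrimePCore {G : Type*} [Group G] [Finite G] {p : ℕ} [hp : Fact p.Prime]
    (hG : Cfsg.IsPSolvable p G) (P : Sylow p G) (A : Subgroup G) (hAP : A ≤ (P : Subgroup G))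
    (hAn : (P : Subgroup G) ≤ Subgroup.normalizer (A : Set G)) (hA : IsCyclic A)
    (h : p ≠ 2 ∨ ¬ Cfsg.Involves (Equiv.Perm (Fin 4)) G) : A ≤ Cfsg.pPrimePCore p G := by
  haveI : (Cfsg.pPrimeCore p G).Normal := pPrimeCore_isNormal
  set R := Cfsg.pPrimeCore p G with hR
  set f := QuotientGroup.mk' R with hf
  have hfs : Function.Surjective f := QuotientGroup.mk'_surjective R
  obtain ⟨a, rfl⟩ := Subgroup.isCyclic_iff_exists_zpowers_eq_top A |>.mp hA
  rw [zpowers_le]
  show f a ∈ Cfsg.pCore p (G ⧸ R)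
  obtain ⟨k, hk⟩ := P.isPGroup' ⟨a, hAP (mem_zpowers a)⟩
  have hak : a ^ p ^ k = 1 := congrArg Subtype.val hk
  refine mem_pCore_of_cyclic_normal (isPSolvable_map hG f hfs) pPrimeCore_quotient_eq_bot
    (k := k) (by rw [← map_pow, hak, map_one]) ?_
    (h.imp id fun h hI => ?_)
  · intro b hb
    have hb' : b ∈ ((P.mapSurjective hfs : Sylow p (G ⧸ R)) : Subgroup (G ⧸ R)) := pCore_le_sylow _ hb
    obtain ⟨x, hx, rfl⟩ := hb'
    rw [← map_inv, ← map_mul, ← map_mul, ← MonoidHom.map_zpowers]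
    exact Subgroup.mem_map_of_mem f (mem_conj_normalizer (hAn hx) (mem_zpowers a))
  · obtain ⟨K, S, hS, ⟨e⟩⟩ := hI
    let g : ↥(K.comap f) →* ↥K ⧸ S.subgroupOf K := (QuotientGroup.mk' _).comp (f.subgroupComap K)
    have hg : Function.Surjective g :=
      (QuotientGroup.mk'_surjective _).comp (f.subgroupComap_surjective_of_surjective K hfs)
    have hk2 : g.ker = (S.comap f).subgroupOf (K.comap f) := by
      ext x
      rw [MonoidHom.mem_ker, Subgroup.mem_subgroupOf, Subgroup.mem_comap]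
      exact QuotientGroup.eq_one_iff _
    haveI hn' : ((S.comap f).subgroupOf (K.comap f)).Normal := hk2 ▸ g.normal_ker
    exact h ⟨K.comap f, S.comap f, hn', ⟨((QuotientGroup.quotientMulEquivOfEq hk2.symm).trans
      (QuotientGroup.quotientKerEquivOfSurjective g hg)).trans e⟩⟩

end Cfsg.Agent.Grp
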