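import Mathlib
import Cfsg.Agent.Lib.Grp.DerivedLengthLinear
import Cfsg.Agent.Lib.Grp.DerivedLengthPerm

/-!
The derived length of a Sylow p-subgroup of a finite general linear group in coprime characteristic.
-/

set_option autoImplicit false

namespace Cfsg.Agent.Grp.DerivedLength

open scoped commutatorElement
open Module Subgroup

universe u v w

variable {P : Type u} [Group P] {F : Type v} [Field F] {V : Type w} [AddCommGroup V] [Module F V]

theorem ker_of_sub_quot [Finite P] {p : ℕ} [Fact p.Prime] (hP : IsPGroup p P) (hp : (p : F) ≠ 0)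
    (ρ : P →* Module.End F V) (W : Submodule F V) (hW : ∀ g : P, ∀ x ∈ W, ρ g x ∈ W) {g : P}
    (h1 : g ∈ (subRep ρ W hW).ker) (h2 : g ∈ (quotRep ρ W hW).ker) : g ∈ ρ.ker := by
  rw [MonoidHom.mem_ker]
  refine LinearMap.ext fun x => ?_
  obtain ⟨w, hw, hgx⟩ : ∃ w ∈ W, ρ g x = x + w := ⟨_, sub_mem_of_quotRep h2 x, by abel⟩
  have hpow : ∀ j : ℕ, ρ (g ^ j) x = x + j • w := by
    intro j
    induction j with
    | zero => simp
    | succ j ihj =>
        rw [pow_succ', rep_mul_apply, ihj, map_add, map_nsmul, apply_eq_of_subRep h1 hw, hgx, succ_nsmul]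
        abel
  obtain ⟨m, hm⟩ := hP g
  have := hpow (p ^ m)
  rw [hm, map_one] at this
  have hw0 : ((p ^ m : ℕ) : F) • w = 0 := by
    rw [Nat.cast_smul_eq_nsmul]
    exact add_eq_left.mp this.symm
  rcases smul_eq_zero.mp hw0 with h | h
  · rw [Nat.cast_pow] at h; exact absurd (pow_eq_zero_iff'.mp h).1 hp
  · rw [hgx, h, add_zero]; rfl

theorem coprime_char_log [IsAlgClosed F] {p : ℕ} [hpf : Fact p.Prime] (hp : (p : F) ≠ 0) (n : ℕ) :
    ∀ (P : Type u) [Group P] [Finite P] (_ : IsPGroup p P) (V : Type w) [AddCommGroup V] [Module F V]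
      [FiniteDimensional F V] (ρ : P →* Module.End F V), finrank F V ≤ n →
      derivedSeries P (Nat.log p n + 1) ≤ ρ.ker := by
  induction n using Nat.strong_induction_on with
  | _ n ih =>
  intro P _ _ hP V _ _ _ ρ hd
  by_cases hred : ∃ W : Submodule F V, (∀ g : P, ∀ x ∈ W, ρ g x ∈ W) ∧ W ≠ ⊥ ∧ W ≠ ⊤
  · obtain ⟨W, hW, hW0, hW1⟩ := hred
    intro g hg
    have hWpos : 0 < finrank F W :=
      Nat.pos_of_ne_zero fun h => hW0 (Submodule.finrank_eq_zero.mp h)
    have hWlt : finrank F W < finrank F V := Submodule.finrank_lt hW1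
    have hsum := W.finrank_quotient_add_finrank
    have hmono : ∀ m < n, derivedSeries P (Nat.log p n + 1) ≤ derivedSeries P (Nat.log p m + 1) :=
      fun m hm => derivedSeries_antitone P (by have := Nat.log_mono_right (b := p) hm.le; omega)
    exact ker_of_sub_quot hP hp ρ W hW
      (ih _ (by omega) P hP W (subRep ρ W hW) le_rfl (hmono _ (by omega) hg))
      (ih _ (by omega) P hP (V ⧸ W) (quotRep ρ W hW) le_rfl (hmono _ (by omega) hg))
  · push Not at hred
    by_cases hsc : ∀ g : P, ∃ c : F, ρ g = c • 1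
    · refine le_trans (derivedSeries_antitone P (by omega : 1 ≤ Nat.log p n + 1)) ?_
      rw [derivedSeries_one, commutator_eq_closure, closure_le]
      rintro _ ⟨g, h, rfl⟩
      obtain ⟨c, hc⟩ := hsc g
      have hcomm : ρ (g * h) = ρ (h * g) := by rw [map_mul, map_mul, hc]; simp
      rw [SetLike.mem_coe, MonoidHom.mem_ker,
        show ⁅g, h⁆ = (g * h) * (h * g)⁻¹ by rw [commutatorElement_def]; group,
        map_mul, hcomm, ← map_mul, mul_inv_cancel, map_one]
    have hinv : ∀ g : P, ρ g⁻¹ * ρ g = 1 ∧ ρ g * ρ g⁻¹ = 1 := fun g =>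
      ⟨by rw [← map_mul, inv_mul_cancel, map_one], by rw [← map_mul, mul_inv_cancel, map_one]⟩
    let Z : Subgroup P :=
      { carrier := {g | ∃ c : F, ρ g = c • 1}
        one_mem' := ⟨1, by simp⟩
        mul_mem' := fun {a b} ⟨c, hc⟩ ⟨d, hd⟩ => ⟨c * d, by rw [map_mul, hc, hd, smul_mul_smul_comm, mul_one]⟩
        inv_mem' := fun {a} ⟨c, hc⟩ => by
          by_cases hc0 : c = 0
          · refine ⟨0, ?_⟩
            have h1 := (hinv a).1
            rw [hc, hc0, zero_smul, mul_zero] at h1
            rw [zero_smul, ← one_mul (ρ a⁻¹), ← h1, zero_mul]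
          · refine ⟨c⁻¹, ?_⟩
            have h1 := (hinv a).1
            rw [hc, mul_smul_comm, mul_one] at h1
            rw [← h1, smul_smul, inv_mul_cancel₀ hc0, one_smul] }
    haveI : Z.Normal := ⟨fun a ⟨c, hc⟩ g => ⟨c, by
      rw [map_mul, map_mul, hc, mul_smul_comm, mul_one, smul_mul_assoc, (hinv g).2]⟩⟩
    push Not at hsc
    obtain ⟨g0, hg0⟩ := hsc
    haveI : Nontrivial (P ⧸ Z) :=
      ⟨⟨(g0 : P ⧸ Z), 1, fun h => by
        obtain ⟨c, hc⟩ := (QuotientGroup.eq_one_iff g0).mp h
        exact hg0 c hc⟩⟩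
    haveI : Nontrivial (Subgroup.center (P ⧸ Z)) := (hP.to_quotient Z).center_nontrivial
    obtain ⟨⟨a', ha'⟩, ha1⟩ := exists_ne (1 : Subgroup.center (P ⧸ Z))
    obtain ⟨a, rfl⟩ := QuotientGroup.mk_surjective a'
    have hanot : ∀ c : F, ρ a ≠ c • 1 := fun c hc =>
      ha1 (Subtype.ext ((QuotientGroup.eq_one_iff a).mpr ⟨c, hc⟩))
    haveI : Nontrivial V := by
      by_contra hnt
      rw [not_nontrivial_iff_subsingleton] at hnt
      exact hanot 0 (Subsingleton.elim _ _)
    have hne0 : ∀ g : P, ρ g ≠ 0 := fun g h => by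
      have := (hinv g).1
      rw [h, mul_zero] at this
      exact zero_ne_one this
    have hcen : ∀ g : P, ∃ c : F, c ≠ 0 ∧ ρ g * ρ a = c • (ρ a * ρ g) := fun g => by
      obtain ⟨c, hc⟩ : (g * a) * (a * g)⁻¹ ∈ Z := by
        rw [← QuotientGroup.eq_one_iff, QuotientGroup.mk_mul, QuotientGroup.mk_inv, QuotientGroup.mk_mul,
          QuotientGroup.mk_mul, Subgroup.mem_center_iff.mp ha' g, mul_inv_cancel]
      have e : ρ g * ρ a = c • (ρ a * ρ g) := by
        rw [← map_mul, ← map_mul, show g * a = ((g * a) * (a * g)⁻¹) * (a * g) by group, map_mul, hc,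
          smul_mul_assoc, one_mul]
      refine ⟨c, fun h0 => hne0 _ (show ρ (g * a) = 0 by rw [map_mul, e, h0, zero_smul]), e⟩
    choose χ hχ0 hχ using hcen
    have hχu : ∀ (g : P) (c : F), ρ g * ρ a = c • (ρ a * ρ g) → χ g = c := fun g c h => by
      have h2 : χ g • (ρ a * ρ g) = c • (ρ a * ρ g) := (hχ g).symm.trans h
      by_contra hne
      refine hne0 (a * g) ?_
      rw [map_mul]
      rw [← sub_eq_zero, ← sub_smul, smul_eq_zero] at h2
      exact h2.resolve_left (sub_ne_zero.mpr hne)
    have hχmul : ∀ g h : P, χ (g * h) = χ g * χ h := fun g h => hχu _ _ (by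
      rw [map_mul, mul_assoc, hχ h, mul_smul_comm, ← mul_assoc, hχ g, smul_mul_assoc, smul_smul,
        mul_assoc, mul_comm (χ h)])
    let φ : P →* Fˣ := MonoidHom.mk' (fun g => Units.mk0 (χ g) (hχ0 g)) fun g h => Units.ext (hχmul g h)
    let M := φ.ker
    have hMmem : ∀ g : P, g ∈ M → ρ g * ρ a = ρ a * ρ g := fun g hg => by
      have : χ g = 1 := congrArg Units.val (MonoidHom.mem_ker.mp hg)
      rw [hχ g, this, one_smul]
    obtain ⟨μ, hμ⟩ := Module.End.exists_eigenvalue (ρ a)
    set E := Module.End.eigenspace (ρ a) μ with hE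
    have hμ0 : μ ≠ 0 := fun h0 => by
      obtain ⟨v, hv⟩ := hμ.exists_hasEigenvector
      have h1 := hv.apply_eq_smul
      rw [h0, zero_smul] at h1
      have h2 := LinearMap.congr_fun (hinv a).1 v
      change ρ a⁻¹ (ρ a v) = v at h2
      rw [h1, map_zero] at h2
      exact hv.2 h2.symm
    have hEtop : E ≠ ⊤ := fun h => hanot μ (LinearMap.ext fun x => by
      have : x ∈ E := h ▸ Submodule.mem_top
      simpa [hE, Module.End.mem_eigenspace_iff] using this)
    have hmap : ∀ g : P, E.map (ρ g) ≤ Module.End.eigenspace (ρ a) ((χ g)⁻¹ * μ) := by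
      rintro g _ ⟨x, hx, rfl⟩
      rw [SetLike.mem_coe, hE, Module.End.mem_eigenspace_iff] at hx
      rw [Module.End.mem_eigenspace_iff]
      have := LinearMap.congr_fun (hχ g) x
      change ρ g (ρ a x) = χ g • ρ a (ρ g x) at this
      rw [hx, map_smul] at this
      rw [← smul_smul, this, smul_smul, inv_mul_cancel₀ (hχ0 g), one_smul]
    have hinj : ∀ g : P, Function.Injective (ρ g) := fun g => Function.LeftInverse.injective
      (g := ρ g⁻¹) fun x => LinearMap.congr_fun (hinv g).1 x
    have hdim : ∀ g : P, finrank F (E.map (ρ g)) = finrank F E := fun g =>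
      (LinearEquiv.finrank_eq (Submodule.equivMapOfInjective (ρ g) (hinj g) E)).symm
    -- an element whose character value has order p
    obtain ⟨g1, hg1⟩ : ∃ g : P, φ g ≠ 1 := by
      by_contra hall
      push Not at hall
      have hEinv : ∀ g : P, ∀ x ∈ E, ρ g x ∈ E := fun g x hx => by
        have h1 := hmap g ⟨x, hx, rfl⟩
        rwa [show χ g = 1 from congrArg Units.val (hall g), inv_one, one_mul] at h1
      exact hEtop (hred E hEinv hμ)
    obtain ⟨h, hh⟩ : ∃ h : P, orderOf (φ h) = p := by
      obtain ⟨s, hs⟩ := hP g1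
      have hd : orderOf (φ g1) ∣ p ^ s := orderOf_dvd_of_pow_eq_one (by rw [← map_pow, hs, map_one])
      obtain ⟨i, -, hi⟩ := (Nat.dvd_prime_pow hpf.out).mp hd
      obtain ⟨j, rfl⟩ : ∃ j, i = j + 1 := ⟨i - 1, by
        have : i ≠ 0 := fun h0 => hg1 (orderOf_eq_one_iff.mp (by rw [hi, h0, pow_zero]))
        omega⟩
      refine ⟨g1 ^ p ^ j, ?_⟩
      rw [map_pow, orderOf_pow_of_dvd (pow_ne_zero _ hpf.out.ne_zero) (hi ▸ pow_dvd_pow p (Nat.le_succ j)), hi,
        pow_succ, Nat.mul_div_cancel_left _ (pow_pos hpf.out.pos j)]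
    -- the translates are independent
    have hpd : ∀ j ≤ p, j * finrank F E ≤ finrank F ↥(⨆ i < j, E.map (ρ (h ^ i)) : Submodule F V) := by
      intro j
      induction j with
      | zero => simp
      | succ j ihj =>
          intro hj
          have hsplit : (⨆ i < j + 1, E.map (ρ (h ^ i))) = (⨆ i < j, E.map (ρ (h ^ i))) ⊔ E.map (ρ (h ^ j)) :=
            Nat.iSup_lt_succ (fun i => E.map (ρ (h ^ i))) j
          have hdis : (⨆ i < j, E.map (ρ (h ^ i))) ⊓ E.map (ρ (h ^ j)) = ⊥ := by
            refine le_bot_iff.mp (le_trans (inf_le_inf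
              (a := ⨆ (ν : F) (_ : ν ≠ (χ (h ^ j))⁻¹ * μ), Module.End.eigenspace (ρ a) ν) ?_ (hmap (h ^ j))) ?_)
            · exact iSup₂_le fun i hi => le_trans (hmap (h ^ i))
                (le_iSup₂ (f := fun ν (_ : ν ≠ (χ (h ^ j))⁻¹ * μ) => Module.End.eigenspace (ρ a) ν)
                  ((χ (h ^ i))⁻¹ * μ) fun he => by
                    have h1 : φ (h ^ i) = φ (h ^ j) := Units.ext (inv_injective (mul_right_cancel₀ hμ0 he))
                    rw [map_pow, map_pow, pow_inj_mod, hh, Nat.mod_eq_of_lt (by omega), Nat.mod_eq_of_lt (by omega)] at h1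
                    omega)
            · exact ((Module.End.eigenspaces_iSupIndep (ρ a) _).symm).le_bot
          have := Submodule.finrank_sup_add_finrank_inf_eq (⨆ i < j, E.map (ρ (h ^ i))) (E.map (ρ (h ^ j)))
          rw [← hsplit, hdis, finrank_bot, hdim] at this
          have := ihj (by omega)
          rw [Nat.succ_mul]
          omega
    have hpE : p * finrank F E ≤ n := (hpd p le_rfl).trans ((Submodule.finrank_le _).trans hd)
    have hEpos : 0 < finrank F E := Nat.pos_of_ne_zero fun h0 => hμ (Submodule.finrank_eq_zero.mp h0)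
    have hdiv : finrank F E ≤ n / p := (Nat.le_div_iff_mul_le hpf.out.pos).mpr (by rw [mul_comm]; exact hpE)
    have hlog : Nat.log p (n / p) + 1 = Nat.log p n := by
      have h1 := Nat.log_div_base p n
      have h2 : 1 ≤ Nat.log p n := Nat.le_log_of_pow_le hpf.out.one_lt (by
        rw [pow_one]; exact le_trans (Nat.le_mul_of_pos_right p hEpos) hpE)
      omega
    have hlt : n / p < n := Nat.div_lt_self (lt_of_lt_of_le (Nat.mul_pos hpf.out.pos hEpos) hpE) hpf.out.one_lt
    haveI : M.Normal := φ.normal_ker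
    have hgE : ∀ g : P, ∀ m : M, ∀ x ∈ E.map (ρ g), ρ m x ∈ E.map (ρ g) := by
      rintro g m x ⟨y, hy, rfl⟩
      refine ⟨ρ (g⁻¹ * m * g) y, ?_, ?_⟩
      · have hm : g⁻¹ * (m : P) * g ∈ M := by
          simpa using Subgroup.Normal.conj_mem ‹M.Normal› m.1 m.2 g⁻¹
        rw [SetLike.mem_coe, hE, Module.End.mem_eigenspace_iff] at hy ⊢
        have := LinearMap.congr_fun (hMmem _ hm) y
        change ρ (g⁻¹ * m * g) (ρ a y) = ρ a (ρ (g⁻¹ * m * g) y) at this
        rw [← this, hy, map_smul]
      · rw [← rep_mul_apply, ← rep_mul_apply, show g * (g⁻¹ * (m : P) * g) = m * g by group]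
    intro x hx
    obtain ⟨y, hy, rfl⟩ := derivedSeries_le_map M (Abelianization.commutator_subset_ker φ) (Nat.log p n) hx
    rw [← hlog] at hy
    have hall : (⨆ g : P, E.map (ρ g)) ≤ LinearMap.eqLocus (ρ y.1) (1 : Module.End F V) := by
      refine iSup_le fun g x hx => ?_
      exact apply_eq_of_subRep (ρ := ρ.comp M.subtype) (hW := hgE g)
        (ih (n / p) hlt M (hP.to_subgroup M) _ (subRep (ρ.comp M.subtype) _ (hgE g))
          (by rw [hdim g]; exact hdiv) hy) hx
    have hS : (⨆ g : P, E.map (ρ g)) = ⊤ := by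
      refine hred _ (fun h x hx => ?_) (fun h => hμ (le_bot_iff.mp (h ▸ ?_)))
      · refine (Submodule.map_le_iff_le_comap (f := ρ h) (p := ⨆ g : P, E.map (ρ g))
          (q := ⨆ g : P, E.map (ρ g))).mp ?_ hx
        rw [Submodule.map_iSup]
        refine iSup_le fun g => le_trans ?_ (le_iSup _ (h * g))
        rw [← Submodule.map_comp, map_mul]; rfl
      · refine le_trans ?_ (le_iSup _ 1)
        rw [map_one ρ]; exact (Submodule.map_id E).ge
    rw [MonoidHom.mem_ker]
    exact LinearMap.ext fun v => hall (hS ▸ Submodule.mem_top)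

theorem field_step [FiniteDimensional F V] {p : ℕ} [hpf : Fact p.Prime] [Finite P] [Finite F] (hP : IsPGroup p P) (hp : (p : F) ≠ 0)
    (n : ℕ) (hd : finrank F V ≤ n) (ρ : P →* Module.End F V) (K : Type*) [Field K] [Finite K]
    (i : F →+* K) (j : K →+* Module.End F V) (hij : ∀ r : F, j (i r) = algebraMap F (Module.End F V) r)
    (hj : ∀ (k : K) (g : P), ρ g * j k = j k * ρ g) (ζ : K) (hζ : ζ ^ p = 1) (hζ1 : ζ ≠ 1) :
    derivedSeries P (Nat.log p (n / orderOf ((Nat.card F : ℕ) : ZMod p)) + 1) ≤ ρ.ker := by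
  set e := orderOf ((Nat.card F : ℕ) : ZMod p) with he
  rcases subsingleton_or_nontrivial V with hV | hV
  · exact fun g _ => Subsingleton.elim _ _
  letI : Algebra F K := i.toAlgebra
  letI : Module K V := Module.compHom V j
  haveI : IsScalarTower F K V := ⟨fun r k x => by
    change j (i r * k) x = r • j k x
    rw [map_mul, hij]; rfl⟩
  haveI : FiniteDimensional F K := Module.Finite.of_finite
  haveI : Finite V := Module.finite_of_finite F
  haveI : Module.Finite K V := Module.Finite.of_finite
  let σ : P →* Module.End K V :=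
    { toFun := fun g =>
        { toFun := ρ g
          map_add' := map_add (ρ g)
          map_smul' := fun k x => LinearMap.congr_fun (hj k g) x }
      map_one' := LinearMap.ext fun x => by
        show ρ 1 x = x
        rw [map_one]; rfl
      map_mul' := fun g h => LinearMap.ext fun x => rep_mul_apply ρ g h x }
  have hσker : σ.ker ≤ ρ.ker := fun g hg =>
    LinearMap.ext fun x => (LinearMap.congr_fun (MonoidHom.mem_ker.mp hg) x : σ g x = x)
  have hef : e ∣ finrank F K := by
    refine orderOf_dvd_of_pow_eq_one ?_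
    let zu : Kˣ := Units.ofPowEqOne ζ p hζ hpf.out.ne_zero
    have hzu : orderOf zu = p := orderOf_eq_prime (Units.ext hζ)
      fun h => hζ1 (congrArg (fun u : Kˣ => (u : K)) h)
    have hd' : p ∣ Nat.card K - 1 := by
      rw [← Nat.card_units K, ← hzu]; exact orderOf_dvd_natCard zu
    rw [← Nat.cast_pow, ← Module.natCard_eq_pow_finrank]
    conv_lhs => rw [show Nat.card K = (Nat.card K - 1) + 1 by have := Nat.card_pos (α := K); omega]
    rw [Nat.cast_add, (ZMod.natCast_eq_zero_iff _ p).mpr hd', zero_add, Nat.cast_one]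
  have hdimK : finrank K V ≤ n / e := by
    have hmul := Module.finrank_mul_finrank F K V
    have hfpos : 0 < finrank F K := Module.finrank_pos
    rcases Nat.eq_zero_or_pos e with h0 | hpos
    · exact absurd (zero_dvd_iff.mp (h0 ▸ hef)) hfpos.ne'
    refine (Nat.le_div_iff_mul_le hpos).mpr (le_trans ?_ hd)
    rw [← hmul, mul_comm]
    exact Nat.mul_le_mul_right _ (Nat.le_of_dvd hfpos hef)
  let L := AlgebraicClosure K
  let b := Module.finBasis K V
  let M := (LinearMap.toMatrixAlgEquiv b).toAlgHom.toRingHom.toMonoidHom.comp σ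
  let τ : P →* Module.End L (Fin (finrank K V) → L) :=
    (Matrix.toLinAlgEquiv' (R := L)).toAlgHom.toRingHom.toMonoidHom.comp
      (((algebraMap K L).mapMatrix).toMonoidHom.comp M)
  have hpL : (p : L) ≠ 0 := fun h => hp (by
    have h1 : (algebraMap K L) (algebraMap F K (p : F)) = 0 := by rw [map_natCast, map_natCast]; exact h
    exact (algebraMap F K).injective (((algebraMap K L).injective (h1.trans (map_zero _).symm)).trans (map_zero _).symm))
  refine le_trans (derivedSeries_antitone P (Nat.succ_le_succ (Nat.log_mono_right (b := p) hdimK))) ?_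
  refine (coprime_char_log hpL (finrank K V) P hP (Fin (finrank K V) → L) τ (finrank_fin_fun L).le).trans ?_
  intro g hg
  refine hσker (MonoidHom.mem_ker.mpr ?_)
  have h1 : ((algebraMap K L).mapMatrix) (M g) = 1 :=
    (Matrix.toLinAlgEquiv' (R := L)).injective ((MonoidHom.mem_ker.mp hg).trans (map_one _).symm)
  have h2 : M g = 1 := Matrix.map_injective (algebraMap K L).injective (h1.trans (Matrix.map_one _ (map_zero _) (map_one _)).symm)
  exact (LinearMap.toMatrixAlgEquiv b).injective (h2.trans (map_one _).symm)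

theorem finite_field_bound {p : ℕ} [hpf : Fact p.Prime] [Finite F] (hp : (p : F) ≠ 0) (n : ℕ) :
    ∀ (P : Type u) [Group P] [Finite P] (_ : IsPGroup p P) (V : Type w) [AddCommGroup V] [Module F V]
      [FiniteDimensional F V] (ρ : P →* Module.End F V), finrank F V ≤ n →
      derivedSeries P (Nat.log p (n / orderOf ((Nat.card F : ℕ) : ZMod p)) + 1) ≤ ρ.ker := by
  induction n using Nat.strong_induction_on with
  | _ n ih =>
  intro P _ _ hP V _ _ _ ρ hd
  set e := orderOf ((Nat.card F : ℕ) : ZMod p) with he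
  by_cases hred : ∃ W : Submodule F V, (∀ g : P, ∀ x ∈ W, ρ g x ∈ W) ∧ W ≠ ⊥ ∧ W ≠ ⊤
  · obtain ⟨W, hW, hW0, hW1⟩ := hred
    intro g hg
    have hWpos : 0 < finrank F W :=
      Nat.pos_of_ne_zero fun h => hW0 (Submodule.finrank_eq_zero.mp h)
    have hWlt : finrank F W < finrank F V := Submodule.finrank_lt hW1
    have hsum := W.finrank_quotient_add_finrank
    have hmono : ∀ m < n, derivedSeries P (Nat.log p (n / e) + 1) ≤ derivedSeries P (Nat.log p (m / e) + 1) :=
      fun m hm => derivedSeries_antitone P (by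
        have := Nat.log_mono_right (b := p) (Nat.div_le_div_right (c := e) hm.le); omega)
    exact ker_of_sub_quot hP hp ρ W hW
      (ih _ (by omega) P hP W (subRep ρ W hW) le_rfl (hmono _ (by omega) hg))
      (ih _ (by omega) P hP (V ⧸ W) (quotRep ρ W hW) le_rfl (hmono _ (by omega) hg))
  · push Not at hred
    by_cases hker : ρ.ker = ⊤
    · rw [hker]; exact le_top
    haveI : Nontrivial (P ⧸ ρ.ker) := by
      obtain ⟨g, -, hg⟩ := SetLike.exists_of_lt (lt_top_iff_ne_top.mpr hker)
      exact ⟨⟨(g : P ⧸ ρ.ker), 1, fun h => hg ((QuotientGroup.eq_one_iff g).mp h)⟩⟩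
    haveI : Nontrivial (Subgroup.center (P ⧸ ρ.ker)) := (hP.to_quotient ρ.ker).center_nontrivial
    have hdc : p ∣ Nat.card (Subgroup.center (P ⧸ ρ.ker)) := by
      obtain ⟨i, hi⟩ := IsPGroup.iff_card.mp ((hP.to_quotient ρ.ker).to_subgroup (Subgroup.center (P ⧸ ρ.ker)))
      rw [hi]
      exact dvd_pow_self p fun h0 => absurd (by rw [hi, h0, pow_zero]) (Finite.one_lt_card (α := Subgroup.center (P ⧸ ρ.ker))).ne'
    obtain ⟨⟨z', hz'⟩, hzo⟩ := exists_prime_orderOf_dvd_card' p hdc
    rw [Subgroup.orderOf_mk] at hzo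
    obtain ⟨z, rfl⟩ := QuotientGroup.mk_surjective z'
    let lift : P ⧸ ρ.ker →* Module.End F V := QuotientGroup.lift ρ.ker ρ le_rfl
    have hzc : ∀ g : P, ρ g * ρ z = ρ z * ρ g := fun g => by
      have := congrArg lift (Subgroup.mem_center_iff.mp hz' (g : P ⧸ ρ.ker))
      rwa [map_mul, map_mul, QuotientGroup.lift_mk, QuotientGroup.lift_mk] at this
    have hzp : ρ z ^ p = 1 ∧ ρ z ≠ 1 := by
      constructor
      · have := congrArg lift (hzo ▸ pow_orderOf_eq_one (z : P ⧸ ρ.ker))
        rwa [map_pow, map_one, QuotientGroup.lift_mk] at this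
      · intro h
        rw [(QuotientGroup.eq_one_iff z).mpr (MonoidHom.mem_ker.mpr h), orderOf_one] at hzo
        exact hpf.out.one_lt.ne hzo
    haveI : Nontrivial V := by
      by_contra hnt
      rw [not_nontrivial_iff_subsingleton] at hnt
      exact hzp.2 (Subsingleton.elim _ _)
    let K : Subalgebra F (Module.End F V) := Algebra.adjoin F {ρ z}
    have hKcomm : ∀ f ∈ K, ∀ g : P, ρ g * f = f * ρ g := by
      intro f hf g
      refine Algebra.adjoin_induction (fun x hx => ?_) (fun r => (Algebra.commutes r _).symm)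
        (fun x y _ _ hx hy => ?_) (fun x y _ _ hx hy => ?_) hf
      · rw [Set.mem_singleton_iff.mp hx]; exact hzc g
      · rw [mul_add, add_mul, hx, hy]
      · rw [← mul_assoc, hx, mul_assoc, hy, mul_assoc]
    letI : CommRing K := Algebra.adjoinCommRingOfComm F (by
      rintro a (rfl : a = ρ z) b (rfl : b = ρ z); rfl)
    haveI : IsDomain K := by
      haveI : Nontrivial K := ⟨⟨0, 1, fun h => zero_ne_one (congrArg Subtype.val h)⟩⟩
      haveI : NoZeroDivisors K := ⟨fun {a b} hab => or_iff_not_imp_left.mpr fun ha => Subtype.ext ?_⟩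
      · exact NoZeroDivisors.to_isDomain K
      · have hker' : LinearMap.ker (a : Module.End F V) = ⊥ := by
          by_contra hne
          have := hred _ (fun g x hx => by
            rw [LinearMap.mem_ker] at hx ⊢
            have := LinearMap.congr_fun (hKcomm a.1 a.2 g) x
            change ρ g (a.1 x) = a.1 (ρ g x) at this
            rw [← this, hx, map_zero]) hne
          exact ha (Subtype.ext (LinearMap.ker_eq_top.mp this))
        refine LinearMap.ext fun x => LinearMap.ker_eq_bot.mp hker' ?_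
        show (a : Module.End F V) ((b : Module.End F V) x) = (a : Module.End F V) 0
        rw [map_zero]
        exact LinearMap.congr_fun (congrArg Subtype.val hab) x
    haveI : Finite V := Module.finite_of_finite F
    haveI : Finite (Module.End F V) := Finite.of_injective (fun f => (f : V → V)) DFunLike.coe_injective
    haveI : Finite K := Subtype.finite
    let KF : Field K := (Finite.isDomain_to_isField K).toField
    exact @field_step P _ F _ V _ _ _ p _ _ _ hP hp n hd ρ K KF _ (algebraMap F K) K.val.toRingHom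
      (fun r => AlgHom.commutes K.val r) (fun k g => hKcomm k.1 k.2 g)
      ⟨ρ z, Algebra.subset_adjoin rfl⟩ (Subtype.ext hzp.1) (fun h => hzp.2 (congrArg Subtype.val h))

/-- The monomial representation of a regular wreath product. -/
def wreathRep {D Q : Type*} [Group D] [Group Q] (ρ : D →* Module.End F V) :
    (D ≀ᵣ Q) →* Module.End F (Q → V) where
  toFun w :=
    { toFun := fun f x => ρ (w.left x) (f (w.right⁻¹ * x))
      map_add' := fun f g => funext fun x => map_add _ _ _
      map_smul' := fun r f => funext fun x => map_smul _ _ _ }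
  map_one' := LinearMap.ext fun f => funext fun x => by simp
  map_mul' := fun a b => LinearMap.ext fun f => funext fun x => by
    simp [mul_assoc]

theorem wreathRep_injective {D Q : Type*} [Group D] [Group Q] [Nontrivial V] (ρ : D →* Module.End F V)
    (hρ : Function.Injective ρ) : Function.Injective (wreathRep (Q := Q) ρ) := by
  classical
  rw [injective_iff_map_eq_one]
  intro w hw
  obtain ⟨v, hv⟩ := exists_ne (0 : V)
  have hr : w.right = 1 := by
    by_contra hne
    have := congrFun (LinearMap.congr_fun hw (Pi.single 1 v)) 1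
    change ρ (w.left 1) ((Pi.single 1 v : Q → V) (w.right⁻¹ * 1)) = (Pi.single 1 v : Q → V) 1 at this
    rw [mul_one, Pi.single_eq_of_ne (inv_ne_one.mpr hne), map_zero, Pi.single_eq_same] at this
    exact hv this.symm
  refine RegularWreathProduct.ext (funext fun x => hρ ?_) hr
  refine LinearMap.ext fun u => ?_
  have := congrFun (LinearMap.congr_fun hw (Pi.single x u)) x
  change ρ (w.left x) ((Pi.single x u : Q → V) (w.right⁻¹ * x)) = (Pi.single x u : Q → V) x at this
  rw [hr, inv_one, one_mul, Pi.single_eq_same] at this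
  simpa using this

theorem iterated_rep {G : Type u} [Group G] [Finite G] (V : Type v) [AddCommGroup V] [Module F V]
    [FiniteDimensional F V] [Nontrivial V] (ρ : G →* Module.End F V) (hρ : Function.Injective ρ) :
    ∀ k : ℕ, ∃ (W : Type (max u v)) (_ : AddCommGroup W) (_ : Module F W) (_ : FiniteDimensional F W)
      (_ : Nontrivial W) (σ : IteratedWreathProduct G (k + 1) →* Module.End F W),
      Function.Injective σ ∧ finrank F W = Nat.card G ^ k * finrank F V
  | 0 => by
      let r : IteratedWreathProduct G 1 →* G := RegularWreathProduct.rightHom (D := IteratedWreathProduct G 0)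
      let u : ULift.{u} V ≃ₗ[F] V := ULift.moduleEquiv
      refine ⟨ULift.{u} V, inferInstance, inferInstance, Module.Finite.equiv u.symm, inferInstance,
        (u.symm.conjAlgEquiv F).toAlgHom.toRingHom.toMonoidHom.comp (ρ.comp r),
        (u.symm.conjAlgEquiv F).injective.comp (hρ.comp ?_), by rw [u.finrank_eq, pow_zero, one_mul]⟩
      intro a b h
      exact RegularWreathProduct.ext (funext fun _ => Subsingleton.elim (α := PUnit) _ _) h
  | k + 1 => by
      obtain ⟨W, iW1, iW2, iW3, iW4, σ, hσ, hdim⟩ := iterated_rep V ρ hρ k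
      haveI := Fintype.ofFinite G
      refine ⟨G → W, inferInstance, inferInstance, inferInstance, inferInstance,
        wreathRep (Q := G) σ, wreathRep_injective σ hσ, ?_⟩
      rw [Module.finrank_pi_fintype, Finset.sum_const, Finset.card_univ, smul_eq_mul, hdim,
        ← Nat.card_eq_fintype_card, pow_succ']
      ring

theorem sylow_gl (p : ℕ) [hpf : Fact p.Prime] {F : Type v} [Field F] [Fintype F] (q : ℕ)
    (hq : Fintype.card F = q) (hpq : ¬ p ∣ q) (n : ℕ) (hn : orderOf (q : ZMod p) ≤ n)
    (P : Sylow p (Matrix.GeneralLinearGroup (Fin n) F)) :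
    derivedSeries ↥(P : Subgroup (Matrix.GeneralLinearGroup (Fin n) F)) (Nat.log p (n / orderOf (q : ZMod p)) + 1) = ⊥ ∧
    derivedSeries ↥(P : Subgroup (Matrix.GeneralLinearGroup (Fin n) F)) (Nat.log p (n / orderOf (q : ZMod p))) ≠ ⊥ := by
  have hqc : Nat.card F = q := by rw [Nat.card_eq_fintype_card, hq]
  have hp0 : (p : F) ≠ 0 := by
    intro h
    haveI : CharP F p := (CharP.charP_iff_prime_eq_zero hpf.out).mpr h
    obtain ⟨k, -, hk⟩ := FiniteField.card F p
    exact hpq (hq ▸ hk ▸ dvd_pow_self p k.pos.ne')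
  let toEnd : Matrix.GeneralLinearGroup (Fin n) F →* Module.End F (Fin n → F) :=
    (Matrix.toLinAlgEquiv' (R := F) (n := Fin n)).toAlgHom.toRingHom.toMonoidHom.comp
      (Units.coeHom (Matrix (Fin n) (Fin n) F))
  have htoEnd : Function.Injective toEnd := fun a b h =>
    Units.ext ((Matrix.toLinAlgEquiv' (R := F) (n := Fin n)).injective h)
  constructor
  · refine le_bot_iff.mp ?_
    have hb := finite_field_bound hp0 n (↥(P : Subgroup (Matrix.GeneralLinearGroup (Fin n) F))) P.isPGroup'
      (Fin n → F) (toEnd.comp (P : Subgroup (Matrix.GeneralLinearGroup (Fin n) F)).subtype) (finrank_fin_fun F).le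
    rw [hqc, (MonoidHom.ker_eq_bot_iff _).mpr (fun a b h => Subtype.ext (htoEnd h))] at hb
    exact hb
  set e := orderOf (q : ZMod p) with he
  set k := Nat.log p (n / e) with hk
  have he0 : 0 < e := by
    rw [he]
    haveI : NeZero p := ⟨hpf.out.ne_zero⟩
    have hu : IsUnit (q : ZMod p) := isUnit_iff_ne_zero.mpr fun h => hpq ((ZMod.natCast_eq_zero_iff q p).mp h)
    obtain ⟨u, hu'⟩ := hu
    rw [← hu', orderOf_units]
    exact orderOf_pos u
  haveI : NeZero e := ⟨he0.ne'⟩
  -- an element of order p in the multiplicative group of the extension of degree e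
  obtain ⟨r, hr⟩ := CharP.exists F
  haveI := hr
  haveI : Fact r.Prime := ⟨CharP.char_is_prime F r⟩
  let K := FiniteField.Extension F r e
  haveI : Finite K := Module.finite_of_finite F
  have hKc : Nat.card K = q ^ e := by
    rw [Module.natCard_eq_pow_finrank (K := F), FiniteField.finrank_extension, hqc]
  obtain ⟨ζ, hζ⟩ := exists_prime_orderOf_dvd_card' (G := Kˣ) p (by
    rw [Nat.card_units, hKc, ← ZMod.natCast_eq_zero_iff, Nat.cast_sub (Nat.one_le_pow _ _ (by
      rw [← hq]; exact Fintype.card_pos)), Nat.cast_pow, he, pow_orderOf_eq_one, Nat.cast_one, sub_self])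
  let G := Subgroup.zpowers ζ
  have hG : Nat.card G = p := by rw [Nat.card_zpowers, hζ]
  let ρ : G →* Module.End F K :=
    (Algebra.lmul F K).toRingHom.toMonoidHom.comp ((Units.coeHom K).comp G.subtype)
  have hρ : Function.Injective ρ := fun a b h => Subtype.ext (Units.ext (by
    simpa [ρ] using LinearMap.congr_fun h 1))
  let u : ULift.{v} K ≃ₗ[F] K := ULift.moduleEquiv
  haveI : FiniteDimensional F (ULift.{v} K) := Module.Finite.equiv u.symm
  let ρ' : G →* Module.End F (ULift.{v} K) := (u.symm.conjAlgEquiv F).toAlgHom.toRingHom.toMonoidHom.comp ρ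
  have hρ' : Function.Injective ρ' := (u.symm.conjAlgEquiv F).injective.comp hρ
  obtain ⟨W, iW1, iW2, iW3, iW4, σ, hσ, hdim⟩ := iterated_rep (F := F) (G := ↥G) (ULift.{v} K) ρ' hρ' k
  have hne : n / e ≠ 0 := (Nat.div_pos hn he0).ne'
  have hWn : finrank F W ≤ n := by
    rw [hdim, hG, u.finrank_eq, FiniteField.finrank_extension]
    exact (Nat.le_div_iff_mul_le he0).mp (Nat.pow_log_le_self p hne)
  obtain ⟨d, hd⟩ := Nat.exists_eq_add_of_le hWn
  let U := W × (Fin d → F)
  have hU : finrank F U = n := by rw [Module.finrank_prod, finrank_fin_fun, ← hd]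
  let b : Module.Basis (Fin n) F U := (Module.finBasis F U).reindex (finCongr hU)
  let π : IteratedWreathProduct G (k + 1) →* Module.End F U :=
    { toFun := fun g => (σ g).prodMap 1
      map_one' := by rw [map_one]; exact LinearMap.prodMap_id
      map_mul' := fun g h => by rw [map_mul]; exact LinearMap.ext fun x => rfl }
  have hπ : Function.Injective π := fun g h e' => hσ (LinearMap.ext fun x =>
    congrArg Prod.fst (LinearMap.congr_fun (show (σ g).prodMap (1 : Module.End F (Fin d → F)) = (σ h).prodMap 1 from e') ((x, 0) : W × (Fin d → F))))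
  let f : IteratedWreathProduct G (k + 1) →* Matrix.GeneralLinearGroup (Fin n) F :=
    MonoidHom.toHomUnits ((LinearMap.toMatrixAlgEquiv b).toAlgHom.toRingHom.toMonoidHom.comp π)
  have hf : Function.Injective f := fun g h e' =>
    hπ ((LinearMap.toMatrixAlgEquiv b).injective (congrArg Units.val e'))
  have hW : IsPGroup p (IteratedWreathProduct G (k + 1)) := IsPGroup.of_card (by rw [IteratedWreathProduct.card, hG])
  obtain ⟨Q, hQ⟩ := (hW.of_surjective f.rangeRestrict f.rangeRestrict_surjective).exists_le_sylow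
  let g : IteratedWreathProduct G (k + 1) →* ↥(P : Subgroup (Matrix.GeneralLinearGroup (Fin n) F)) :=
    (Q.equiv P).toMonoidHom.comp (f.codRestrict (Q : Subgroup (Matrix.GeneralLinearGroup (Fin n) F)) fun x => hQ ⟨x, rfl⟩)
  have hg : Function.Injective g := (Q.equiv P).injective.comp fun a b h => hf (congrArg Subtype.val h)
  intro hbot
  exact iterated_ne_bot G hG k ((Subgroup.map_eq_bot_iff_of_injective _ hg).mp
    (le_bot_iff.mp (hbot ▸ map_derivedSeries_le g k)))

end Cfsg.Agent.Grp.DerivedLength
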