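import Mathlib
import Cfsg.Agent.S4206

/-!
Mann's lower bound for the order of a p-group of given derived length.
-/

set_option autoImplicit false
set_option linter.style.haveILetI false
set_option linter.unusedSectionVars false

namespace Cfsg.Agent.Grp.DerivedOrder

open Subgroup
open scoped commutatorElement

universe u

variable {G : Type u} [Group G] [Finite G]

/-- The lower central series, from `0`. -/
abbrev L (G : Type u) [Group G] (n : ℕ) : Subgroup G := (⊤ : Subgroup G).lowerCentralSeries n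

theorem comm_le (m n : ℕ) : ⁅L G m, L G n⁆ ≤ L G (m + n + 1) :=
  Cfsg.Agent.S4206.result (fun n => L G n) (fun _ => inferInstance)
    (fun n => Subgroup.lowerCentralSeries_antitone _ (Nat.le_succ n)) ⊤
    (fun n => le_of_eq (Subgroup.lowerCentralSeries_succ _ n).symm) m n

/-- `H` is cyclic modulo `L G (c + 1)`. -/
def Cyc (H : Subgroup G) (c : ℕ) : Prop := ∃ x ∈ H, H ≤ zpowers x ⊔ L G (c + 1)

theorem comm_sup_le {A B N : Subgroup G} [N.Normal] (hAA : ⁅A, A⁆ ≤ N) (hAB : ⁅A, B⁆ ≤ N)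
    (hBB : ⁅B, B⁆ ≤ N) : ⁅A ⊔ B, A ⊔ B⁆ ≤ N := by
  set g := QuotientGroup.mk' N
  have hbot : ∀ X Y : Subgroup G, ⁅X, Y⁆ ≤ N ↔ X.map g ≤ centralizer (Y.map g : Set (G ⧸ N)) := by
    intro X Y
    rw [← commutator_eq_bot_iff_le_centralizer, ← Subgroup.map_commutator, Subgroup.map_eq_bot_iff,
      QuotientGroup.ker_mk']
  rw [hbot]
  have hBA : ⁅B, A⁆ ≤ N := by rwa [commutator_comm]
  have h1 : ∀ Z : Subgroup G, ⁅A, Z⁆ ≤ N → ⁅B, Z⁆ ≤ N →
      (A ⊔ B).map g ≤ centralizer (Z.map g : Set (G ⧸ N)) := fun Z hA hB => by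
    rw [Subgroup.map_sup]; exact sup_le ((hbot _ _).mp hA) ((hbot _ _).mp hB)
  have h2 := le_centralizer_iff.mp (h1 A hAA hBA)
  have h3 := le_centralizer_iff.mp (h1 B hAB hBB)
  rw [le_centralizer_iff, Subgroup.map_sup A B]
  exact sup_le (by rwa [Subgroup.map_sup] at h2) (by rwa [Subgroup.map_sup] at h3)

theorem zpowers_comm (x : G) : ⁅zpowers x, zpowers x⁆ = ⊥ := by
  rw [commutator_eq_bot_iff_le_centralizer]
  intro a ha
  refine mem_centralizer_iff.mpr fun b hb => ?_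
  obtain ⟨i, rfl⟩ := mem_zpowers_iff.mp ha
  obtain ⟨j, rfl⟩ := mem_zpowers_iff.mp hb
  exact (Commute.zpow_zpow_self x j i).eq

theorem cyc_step {H : Subgroup G} {c : ℕ} (hH : H ≤ L G c) (h : Cyc H c) :
    ⁅H, H⁆ ≤ L G (2 * c + 2) := by
  obtain ⟨x, hx, hle⟩ := h
  refine (commutator_mono hle hle).trans (comm_sup_le ?_ ?_ ?_)
  · rw [zpowers_comm]; exact bot_le
  · refine (commutator_mono (zpowers_le.mpr (hH hx)) le_rfl).trans ((comm_le c (c + 1)).trans ?_)
    exact Subgroup.lowerCentralSeries_antitone _ (by omega)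
  · exact (comm_le (c + 1) (c + 1)).trans (Subgroup.lowerCentralSeries_antitone _ (by omega))

theorem two_step {H : Subgroup G} {c : ℕ} (hH : H ≤ L G c) {x y : G} (hx : x ∈ H) (hy : y ∈ H)
    (hle : H ≤ zpowers x ⊔ zpowers y ⊔ L G (c + 1)) : Cyc ⁅H, H⁆ (2 * c + 1) := by
  refine ⟨⁅x, y⁆, commutator_mem_commutator hx hy, ?_⟩
  set N := L G (2 * c + 1 + 1)
  haveI : (zpowers ⁅x, y⁆ ⊔ N).Normal := by
    refine ⟨fun a ha g => ?_⟩
    have hxy : ⁅x, y⁆ ∈ L G (2 * c + 1) := by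
      have := comm_le c c (commutator_mem_commutator (hH hx) (hH hy))
      rwa [show c + c + 1 = 2 * c + 1 by omega] at this
    have haL : a ∈ L G (2 * c + 1) := (sup_le (zpowers_le.mpr hxy)
      (Subgroup.lowerCentralSeries_antitone _ (Nat.le_succ _))) ha
    have h1 : ⁅a⁻¹, g⁆ ∈ N := commutator_mem_commutator (inv_mem haL) (mem_top g)
    have e : g * a * g⁻¹ = a * ⁅a⁻¹, g⁆ := by rw [commutatorElement_def]; group
    rw [e]
    exact mul_mem ha (mem_sup_right h1)
  have hN : ∀ m n : ℕ, 2 * c + 1 + 1 ≤ m + n + 1 → ⁅L G m, L G n⁆ ≤ zpowers ⁅x, y⁆ ⊔ N := fun m n h =>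
    ((comm_le m n).trans (Subgroup.lowerCentralSeries_antitone _ h)).trans le_sup_right
  have hxy' : ⁅zpowers x, zpowers y⁆ ≤ zpowers ⁅x, y⁆ ⊔ N := by
    set g := QuotientGroup.mk' (zpowers ⁅x, y⁆ ⊔ N)
    rw [← QuotientGroup.ker_mk' (zpowers ⁅x, y⁆ ⊔ N), ← Subgroup.map_eq_bot_iff,
      Subgroup.map_commutator, commutator_eq_bot_iff_le_centralizer, MonoidHom.map_zpowers,
      MonoidHom.map_zpowers, zpowers_le, mem_centralizer_iff]
    intro b hb
    obtain ⟨j, rfl⟩ := mem_zpowers_iff.mp hb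
    have hc : Commute (g x) (g y) := by
      rw [← commutatorElement_eq_one_iff_commute, ← map_commutatorElement]
      exact (QuotientGroup.eq_one_iff _).mpr (mem_sup_left (mem_zpowers _))
    exact (hc.zpow_right j).eq.symm
  refine (commutator_mono hle hle).trans (comm_sup_le ?_ ?_ (hN _ _ (by omega)))
  · refine comm_sup_le ?_ hxy' ?_
    · rw [zpowers_comm]; exact bot_le
    · rw [zpowers_comm]; exact bot_le
  · exact (commutator_mono (sup_le (zpowers_le.mpr (hH hx)) (zpowers_le.mpr (hH hy))) le_rfl).trans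
      (hN c (c + 1) (by omega))

theorem L_stable {n : ℕ} (h : L G (n + 1) = L G n) (k : ℕ) : L G (n + k) = L G n := by
  induction k with
  | zero => rfl
  | succ k ih =>
    show L G (n + k + 1) = _
    rw [L, Subgroup.lowerCentralSeries_succ, show (⊤ : Subgroup G).lowerCentralSeries (n + k) = L G n
      from ih, ← Subgroup.lowerCentralSeries_succ]
    exact h

variable {p : ℕ} [hp : Fact p.Prime]

theorem pow_le_card {X : Subgroup G} (hG : IsPGroup p G) (h : X ≠ ⊥) : p ≤ Nat.card X := by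
  obtain ⟨k, hk⟩ := IsPGroup.iff_card.mp (hG.to_subgroup X)
  rw [hk]
  exact Nat.le_self_pow (fun k0 => h (card_eq_one.mp (by rw [hk, k0, pow_zero]))) p

theorem index_mul_le (hG : IsPGroup p G) {n : ℕ} (hne : L G n ≠ ⊥) :
    (L G n).index * p ≤ (L G (n + 1)).index := by
  have hle : L G (n + 1) ≤ L G n := Subgroup.lowerCentralSeries_antitone _ (Nat.le_succ n)
  rw [← relIndex_mul_index hle, mul_comm]
  refine Nat.mul_le_mul_right _ ?_
  obtain ⟨k, hk⟩ := (hG.to_subgroup (L G n)).index ((L G (n + 1)).subgroupOf (L G n))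
  rw [Subgroup.relIndex, hk]
  refine Nat.le_self_pow (fun k0 => ?_) p
  rw [k0, pow_zero, index_eq_one, subgroupOf_eq_top] at hk
  obtain ⟨m, hm⟩ := Subgroup.nilpotent_iff_lowerCentralSeries.mp hG.isNilpotent
  apply hne
  rw [← L_stable (le_antisymm hle hk) m, eq_bot_iff]
  exact (Subgroup.lowerCentralSeries_antitone _ (Nat.le_add_left m n)).trans hm.le

theorem index_pow_le (hG : IsPGroup p G) {n m : ℕ} (hnm : n ≤ m) (hne : L G m ≠ ⊥) :
    (L G n).index * p ^ (m - n) ≤ (L G m).index := by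
  obtain ⟨d, rfl⟩ := Nat.exists_eq_add_of_le hnm
  clear hnm
  rw [Nat.add_sub_cancel_left]
  induction d with
  | zero => simp
  | succ d ih =>
    have hne' : L G (n + d) ≠ ⊥ := fun e => hne (le_bot_iff.mp
      ((Subgroup.lowerCentralSeries_antitone _ (Nat.le_succ _)).trans e.le))
    rw [pow_succ, ← mul_assoc]
    exact (Nat.mul_le_mul_right p (ih hne')).trans (index_mul_le hG hne')

/-- Either `H` is cyclic modulo the next term, or it is two-generated there, or it is large. -/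
theorem trichotomy (hG : IsPGroup p G) {H : Subgroup G} {c : ℕ} (hH : H ≤ L G c) :
    Cyc H c ∨ ((L G c).index * p ^ 2 ≤ (L G (c + 1)).index ∧
      ((∃ x ∈ H, ∃ y ∈ H, H ≤ zpowers x ⊔ zpowers y ⊔ L G (c + 1)) ∨
        (L G c).index * p ^ 3 ≤ (L G (c + 1)).index)) := by
  by_cases hc : Cyc H c
  · exact Or.inl hc
  refine Or.inr ?_
  set g := QuotientGroup.mk' (L G (c + 1))
  set Hb := H.map g
  have hle : L G (c + 1) ≤ L G c := Subgroup.lowerCentralSeries_antitone _ (Nat.le_succ c)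
  have hidx : (L G c).index * Nat.card Hb ≤ (L G (c + 1)).index := by
    rw [← relIndex_mul_index hle, mul_comm]
    refine Nat.mul_le_mul_right _ ?_
    have h1 : Nat.card ((L G c).map g : Subgroup (G ⧸ L G (c + 1))) = (L G (c + 1)).relIndex (L G c) := by
      rw [← relIndex_bot_left, ← Subgroup.map_bot g, relIndex_map_map, QuotientGroup.ker_mk',
        bot_sup_eq, sup_eq_left.mpr hle]
    rw [← h1]
    exact card_le_of_le (map_mono hH)
  have lift : ∀ T : Subgroup G, Hb ≤ T.map g → H ≤ T ⊔ L G (c + 1) := fun T hT h hh => by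
    have := hT (mem_map_of_mem g hh)
    rwa [← mem_comap, comap_map_eq, QuotientGroup.ker_mk'] at this
  obtain ⟨k, hk⟩ := IsPGroup.iff_card.mp ((hG.to_subgroup H).map g)
  replace hk : Nat.card Hb = p ^ k := hk
  rw [hk] at hidx
  have hk2 : 2 ≤ k := by
    by_contra h2
    apply hc
    haveI : IsCyclic Hb := by
      interval_cases k
      · haveI : Subsingleton Hb := (Nat.card_eq_one_iff_unique.mp (by rw [hk, pow_zero])).1
        exact isCyclic_of_subsingleton
      · exact isCyclic_of_prime_card (p := p) (by rw [hk, pow_one])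
    obtain ⟨q, hq⟩ := (Subgroup.isCyclic_iff_exists_zpowers_eq_top Hb).mp inferInstance
    obtain ⟨x, hx, rfl⟩ : ∃ x ∈ H, g x = q := (hq ▸ mem_zpowers q : q ∈ Hb)
    exact ⟨x, hx, lift _ (by rw [MonoidHom.map_zpowers, hq])⟩
  refine ⟨(Nat.mul_le_mul_left _ (Nat.pow_le_pow_right hp.out.pos hk2)).trans hidx, ?_⟩
  rcases Nat.lt_or_ge k 3 with h3 | h3
  swap
  · exact Or.inr ((Nat.mul_le_mul_left _ (Nat.pow_le_pow_right hp.out.pos h3)).trans hidx)
  refine Or.inl ?_
  have hk' : Nat.card Hb = p ^ 2 := by rw [hk]; congr 1; omega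
  obtain ⟨x, hx, hx1⟩ : ∃ x ∈ H, g x ≠ 1 := by
    by_contra hh
    push Not at hh
    have : Hb = ⊥ := (eq_bot_iff_forall _).mpr fun q ⟨x, hx, e⟩ => e ▸ hh x hx
    rw [this, card_bot] at hk'
    exact absurd hk'.symm (Nat.one_lt_pow two_ne_zero hp.out.one_lt).ne'
  have hgx : zpowers (g x) ≤ Hb := zpowers_le.mpr (mem_map_of_mem g hx)
  by_cases hfull : Hb ≤ zpowers (g x)
  · exact absurd ⟨x, hx, lift _ (by rw [MonoidHom.map_zpowers]; exact hfull)⟩ hc
  obtain ⟨q, hqH, hq⟩ := SetLike.not_le_iff_exists.mp hfull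
  obtain ⟨y, hy, rfl⟩ := hqH
  refine ⟨x, hx, y, hy, lift _ ?_⟩
  rw [Subgroup.map_sup, MonoidHom.map_zpowers, MonoidHom.map_zpowers]
  refine (eq_of_le_of_card_ge (sup_le hgx (zpowers_le.mpr (mem_map_of_mem g hy))) ?_).ge
  have h1 : zpowers (g x) < zpowers (g x) ⊔ zpowers (g y) :=
    lt_of_le_of_ne le_sup_left fun e => hq (e ▸ mem_sup_right (mem_zpowers _))
  have h2 : Nat.card (zpowers (g x)) < Nat.card ↥(zpowers (g x) ⊔ zpowers (g y)) :=
    lt_of_le_of_ne (card_le_of_le h1.le) fun e => h1.ne (eq_of_le_of_card_ge h1.le e.ge)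
  have hdvd := card_dvd_of_le (sup_le hgx (zpowers_le.mpr (mem_map_of_mem g hy)))
  rw [hk'] at hdvd ⊢
  obtain ⟨i, hi, e⟩ := (Nat.dvd_prime_pow hp.out).mp hdvd
  have hp1 : p ≤ Nat.card (zpowers (g x)) := by
    obtain ⟨j, hj⟩ := IsPGroup.iff_card.mp (((hG.to_subgroup H).map g).to_le hgx)
    rw [hj]
    exact Nat.le_self_pow (fun j0 => hx1 (by
      rw [j0, pow_zero, Nat.card_zpowers, orderOf_eq_one_iff] at hj; exact hj)) p
  rw [e] at h2 ⊢
  have : 2 ≤ i := by
    by_contra hi2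
    interval_cases i
    · rw [pow_zero] at h2; have := hp.out.two_le; omega
    · rw [pow_one] at h2; omega
  exact Nat.pow_le_pow_right hp.out.pos this

theorem invariant (hG : IsPGroup p G) (k : ℕ) (hk : derivedSeries G k ≠ ⊥) : ∀ i ≤ k, ∃ c E : ℕ,
    derivedSeries G i ≤ L G c ∧ p ^ (c + E) ≤ (L G c).index ∧ 2 ^ i ≤ c + 1 ∧
      ((c + 1 = 2 ^ i ∧ (2 * i ≤ E ∨ (2 * i ≤ E + 1 ∧ Cyc (derivedSeries G i) c))) ∨
        (2 ^ i < c + 1 ∧ 2 * i + 2 ^ i ≤ c + 1 + E + 2)) := by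
  intro i
  induction i with
  | zero =>
    intro _
    refine ⟨0, 0, by simp, ?_, by simp, Or.inl ⟨by simp, Or.inl (by simp)⟩⟩
    simp
  | succ i ih =>
    intro hi
    obtain ⟨c, E, hle, hidx, hpow, hcase⟩ := ih (by omega)
    set H := derivedSeries G i
    have hH' : derivedSeries G (i + 1) = ⁅H, H⁆ := derivedSeries_succ G i
    have hne : ∀ c', derivedSeries G (i + 1) ≤ L G c' → L G c' ≠ ⊥ := fun c' h e =>
      hk (le_bot_iff.mp ((derivedSeries_antitone G hi).trans (h.trans e.le)))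
    have grow : ∀ c' b, c + 1 ≤ c' → derivedSeries G (i + 1) ≤ L G c' →
        (L G c).index * p ^ (b + 1) ≤ (L G (c + 1)).index → p ^ (c' + (E + b)) ≤ (L G c').index := by
      intro c' b hc' hD hb
      refine le_trans ?_ (index_pow_le hG hc' (hne c' hD))
      refine le_trans ?_ (Nat.mul_le_mul_right _ hb)
      refine le_trans (le_of_eq ?_) (Nat.mul_le_mul_right _ (Nat.mul_le_mul_right _ hidx))
      rw [← pow_add, ← pow_add]; congr 1; omega
    have h2i : 2 ^ (i + 1) = 2 * 2 ^ i := by ring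
    rcases trichotomy hG hle with hcyc | ⟨hb2, hrest⟩
    · have hD : derivedSeries G (i + 1) ≤ L G (2 * c + 2) := hH' ▸ cyc_step hle hcyc
      have hg := grow _ 0 (by omega) hD (by
        rw [pow_one]; exact index_mul_le hG fun e => hne _ hD (le_bot_iff.mp
          ((Subgroup.lowerCentralSeries_antitone _ (by omega)).trans e.le)))
      refine ⟨2 * c + 2, E, hD, by simpa using hg, by omega, Or.inr ⟨by omega, ?_⟩⟩
      rcases hcase with ⟨hc, h | ⟨h, -⟩⟩ | ⟨hc, h⟩ <;> omega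
    · have hD : derivedSeries G (i + 1) ≤ L G (2 * c + 1) := by
        rw [hH']
        exact (commutator_mono hle hle).trans ((comm_le c c).trans
          (Subgroup.lowerCentralSeries_antitone _ (by omega)))
      rcases hcase with ⟨hc, h | ⟨h, hC⟩⟩ | ⟨hc, h⟩
      · rcases hrest with ⟨x, hx, y, hy, hxy⟩ | hb3
        · exact ⟨2 * c + 1, E + 1, hD, grow _ 1 (by omega) hD hb2, by omega,
            Or.inl ⟨by omega, Or.inr ⟨by omega, hH' ▸ two_step hle hx hy hxy⟩⟩⟩
        · exact ⟨2 * c + 1, E + 2, hD, grow _ 2 (by omega) hD hb3, by omega,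
            Or.inl ⟨by omega, Or.inl (by omega)⟩⟩
      · have hD2 : derivedSeries G (i + 1) ≤ L G (2 * c + 2) := hH' ▸ cyc_step hle hC
        exact ⟨2 * c + 2, E + 1, hD2, grow _ 1 (by omega) hD2 hb2, by omega,
          Or.inr ⟨by omega, by omega⟩⟩
      · exact ⟨2 * c + 1, E + 1, hD, grow _ 1 (by omega) hD hb2, by omega,
          Or.inr ⟨by omega, by omega⟩⟩

theorem main {n k : ℕ} (hcard : Nat.card G = p ^ n) (hk : derivedSeries G k ≠ ⊥) :
    2 ^ k + 2 * k ≤ n + 2 := by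
  have hG : IsPGroup p G := IsPGroup.of_card hcard
  obtain ⟨c, E, hle, hidx, -, hcase⟩ := invariant hG k hk k le_rfl
  have hp' : p ≤ Nat.card (L G c) := pow_le_card hG fun e => hk (le_bot_iff.mp (hle.trans e.le))
  have h1 : p ^ (c + E + 1) ≤ p ^ n := by
    rw [← hcard, ← (L G c).card_mul_index, pow_succ', mul_comm (Nat.card _), mul_comm p]
    exact Nat.mul_le_mul hidx hp'
  have h2 := (Nat.pow_le_pow_iff_right hp.out.one_lt).mp h1
  rcases hcase with ⟨hc, h | ⟨h, -⟩⟩ | ⟨hc, h⟩ <;> omega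

end Cfsg.Agent.Grp.DerivedOrder
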