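import Mathlib
import Cfsg.Agent.S0111
import Cfsg.Agent.Lib.Transfer.Residual
import Cfsg.Agent.Lib.Transfer.NormalComplement
import Cfsg.Agent.Lib.Invol.WeaklyHSubNPC

/-!
Classes of involutions and normal subgroups of index two in a group with dihedral Sylow 2-subgroups.
-/

set_option autoImplicit false

namespace Cfsg.Agent.Grp.DihClasses

open DihedralGroup

variable {G : Type*} [Group G] [Finite G]

theorem trichotomy (P : Sylow 2 G) {m : ℕ} [NeZero m] (hm4 : 4 ∣ m) (e : ↥(P : Subgroup G) ≃* DihedralGroup m) :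
    (Nat.card {C : ConjClasses G // ∃ g : G, ConjClasses.mk g = C ∧ orderOf g = 2} = 1 ∧ ∀ N : Subgroup G, N.Normal → N.index ≠ 2) ∨ (Nat.card {C : ConjClasses G // ∃ g : G, ConjClasses.mk g = C ∧ orderOf g = 2} = 2 ∧ (∃ N : Subgroup G, N.Normal ∧ N.index = 2) ∧ ∀ N : Subgroup G, N.Normal → N.index ≠ 4) ∨ (Nat.card {C : ConjClasses G // ∃ g : G, ConjClasses.mk g = C ∧ orderOf g = 2} = 3 ∧ Cfsg.HasNormalPComplement 2 G) := by
  classical
  obtain ⟨k, hk⟩ := hm4
  set h := 2 * k with hh
  have hm : m = h + h := by omega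
  have hk0 : 0 < k := Nat.pos_of_ne_zero fun h0 => NeZero.ne m (by omega)
  set f : DihedralGroup m →* G := (P : Subgroup G).subtype.comp e.symm.toMonoidHom with hf
  have hfinj : Function.Injective f := (P : Subgroup G).subtype_injective.comp e.symm.injective
  have hfP : ∀ d, f d ∈ (P : Subgroup G) := fun d => (e.symm d).2
  have hfrange : f.range = (P : Subgroup G) := by
    refine le_antisymm (by rintro _ ⟨d, rfl⟩; exact hfP d) fun a ha => ⟨e ⟨a, ha⟩, ?_⟩
    simp [hf]
  set z := f (r ((h : ℕ) : ZMod m)) with hz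
  set s₀ := f (sr (0 : ZMod m)) with hs₀
  set s₁ := f (sr (1 : ZMod m)) with hs₁
  have hord : ∀ i : ZMod m, orderOf (f (sr i)) = 2 := fun i => by
    rw [orderOf_injective f hfinj, orderOf_sr]
  have hh0 : ((h : ℕ) : ZMod m) ≠ 0 := by
    rw [Ne, ZMod.natCast_eq_zero_iff]
    exact fun hd => absurd (Nat.le_of_dvd (by omega) hd) (by omega)
  have hhh : ((h : ℕ) : ZMod m) + (h : ℕ) = 0 := by rw [← Nat.cast_add, ← hm, ZMod.natCast_self]
  have hzo : orderOf z = 2 := by
    rw [hz, orderOf_injective f hfinj]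
    refine orderOf_eq_prime ?_ ?_
    · rw [pow_two, r_mul_r, hhh, one_def]
    · rw [one_def]
      exact fun h1 => hh0 (DihedralGroup.r.inj h1)
  -- every rotation involution is `z`
  have hrot : ∀ i : ZMod m, orderOf (r i) = 2 → i = ((h : ℕ) : ZMod m) := by
    intro i hi
    have hi0 : i ≠ 0 := by
      rintro rfl
      rw [show r (0 : ZMod m) = 1 from rfl, orderOf_one] at hi
      exact absurd hi (by norm_num)
    have h2 : i + i = 0 := by
      have := pow_orderOf_eq_one (r i)
      rw [hi, pow_two, r_mul_r, one_def] at this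
      exact DihedralGroup.r.inj this
    rw [← ZMod.natCast_zmod_val i] at h2 ⊢
    have hv : i.val ≠ 0 := by rwa [Ne, ZMod.val_eq_zero]
    have hlt : i.val < m := ZMod.val_lt i
    rw [← Nat.cast_add, ZMod.natCast_eq_zero_iff] at h2
    obtain ⟨c, hc⟩ := h2
    have hc1 : c = 1 := by
      rcases c with _ | _ | c
      · omega
      · rfl
      · nlinarith
    subst hc1
    congr 1
    omega
  have hconj : ∀ i j : ZMod m, f (r j) * f (sr i) * (f (r j))⁻¹ = f (sr (i - 2 * j)) := fun i j => by
    rw [← map_inv, ← map_mul, ← map_mul, r_mul_sr, inv_r, sr_mul_r]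
    congr 2
    ring
  have hsrcls : ∀ i : ZMod m, IsConj (f (sr i)) s₀ ∨ IsConj (f (sr i)) s₁ := by
    intro i
    have h2 : ((i.val % 2 : ℕ) : ZMod m) + 2 * ((i.val / 2 : ℕ) : ZMod m) = i := by
      have := congrArg (fun a : ℕ => (a : ZMod m)) (Nat.mod_add_div i.val 2)
      push_cast at this
      rw [this, ZMod.natCast_zmod_val]
    have h1 := hconj i ((i.val / 2 : ℕ) : ZMod m)
    have h3 : i - 2 * ((i.val / 2 : ℕ) : ZMod m) = ((i.val % 2 : ℕ) : ZMod m) := by
      rw [sub_eq_iff_eq_add]; exact h2.symm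
    rcases Nat.mod_two_eq_zero_or_one i.val with h0 | h0
    · rw [h3, h0, Nat.cast_zero] at h1
      exact Or.inl (isConj_iff.mpr ⟨_, h1⟩)
    · rw [h3, h0, Nat.cast_one] at h1
      exact Or.inr (isConj_iff.mpr ⟨_, h1⟩)
  -- every involution is conjugate to one of the three
  have hall : ∀ g : G, orderOf g = 2 → IsConj g z ∨ IsConj g s₀ ∨ IsConj g s₁ := by
    intro g hg
    obtain ⟨R, hR⟩ := (IsPGroup.of_card (p := 2) (n := 1) (G := Subgroup.zpowers g)
      (by rw [Nat.card_zpowers, hg, pow_one])).exists_le_sylow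
    obtain ⟨t, ht⟩ := MulAction.exists_smul_eq G R P
    have hb : t * g * t⁻¹ ∈ (P : Subgroup G) := by
      rw [← ht, Sylow.coe_subgroup_smul]
      exact Subgroup.smul_mem_pointwise_smul g (MulAut.conj t) _ (hR (Subgroup.mem_zpowers g))
    rw [← hfrange] at hb
    obtain ⟨d, hd⟩ := hb
    have hgd : IsConj g (f d) := isConj_iff.mpr ⟨t, hd.symm⟩
    have hd2 : orderOf d = 2 := by
      rw [← orderOf_injective f hfinj, hd]
      exact ((MulAut.conj t).orderOf_eq g).trans hg
    cases d with
    | r i => left; rw [hrot i hd2] at hgd; exact hgd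
    | sr i => exact Or.inr ((hsrcls i).imp hgd.trans hgd.trans)
  -- facts about normal subgroups of index two
  have hnconj : ∀ N : Subgroup G, N.Normal → ∀ a b : G, IsConj a b → a ∈ N → b ∈ N := by
    intro N hN a b hab ha
    obtain ⟨c, rfl⟩ := isConj_iff.mp hab
    exact hN.conj_mem a ha c
  have himg : ∀ N : Subgroup G, N.Normal → ∀ a : ℕ, N.index = 2 ^ a → (P : Subgroup G) ⊔ N = ⊤ := by
    intro N hN a ha
    haveI := hN
    refine top_le_iff.mp ((Transfer.sylow_sup_pResidual P).ge.trans (sup_le_sup_left ?_ _))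
    exact Transfer.pResidual_le_of_index ha
  have hcomm : ∀ N : Subgroup G, N.Normal → (∀ a b : G, a * b * a⁻¹ * b⁻¹ ∈ N) →
      ∀ j : ZMod m, f (r (2 * j)) ∈ N := by
    intro N _ hN j
    have h1 := hN (f (r j)) (f (sr 0))
    rw [hconj, ← map_inv, ← map_mul, inv_sr, sr_mul_sr, zero_sub] at h1
    convert h1 using 3
    ring
  have hzN : ∀ N : Subgroup G, N.Normal → (∀ a b : G, a * b * a⁻¹ * b⁻¹ ∈ N) → z ∈ N := by
    intro N hN hc
    rw [hz, hh, Nat.cast_mul, Nat.cast_ofNat]
    exact hcomm N hN hc _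
  have hquot : ∀ N : Subgroup G, N.Normal → (N.index = 2 ∨ N.index = 4) →
      ∀ a b : G, a * b * a⁻¹ * b⁻¹ ∈ N := by
    intro N hN hi a b
    haveI := hN
    have hc : ∀ u v : G ⧸ N, u * v = v * u := by
      rcases hi with hi | hi
      · haveI : IsCyclic (G ⧸ N) := by
          haveI := Fact.mk Nat.prime_two
          exact isCyclic_of_prime_card (p := 2) (by rw [← Subgroup.index_eq_card, hi])
        exact fun u v => (IsCyclic.commutative (α := G ⧸ N)).is_comm.comm u v
      · haveI := Fact.mk Nat.prime_two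
        exact (IsPGroup.commutative_of_card_eq_prime_sq (p := 2) (G := G ⧸ N) (by rw [← Subgroup.index_eq_card, hi]; norm_num))
    rw [← QuotientGroup.eq_one_iff, QuotientGroup.mk_mul, QuotientGroup.mk_mul, QuotientGroup.mk_mul,
      hc (a : G ⧸ N), mul_assoc (b : G ⧸ N), ← QuotientGroup.mk_mul _ a, mul_inv_cancel, QuotientGroup.mk_one,
      mul_one, ← QuotientGroup.mk_mul, mul_inv_cancel, QuotientGroup.mk_one]
  -- a normal subgroup containing both reflections and of 2-power index is everything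
  have hgen : ∀ N : Subgroup G, N.Normal → s₀ ∈ N → s₁ ∈ N → ∀ d, f d ∈ N := by
    intro N hN h0 h1 d
    have hsr : ∀ i, f (sr i) ∈ N := fun i => (hsrcls i).elim (fun hc => hnconj N hN _ _ hc.symm h0)
      (fun hc => hnconj N hN _ _ hc.symm h1)
    cases d with
    | sr i => exact hsr i
    | r i =>
      have := N.mul_mem h0 (hsr i)
      rwa [hs₀, ← map_mul, sr_mul_sr, sub_zero] at this
  have hmiss : ∀ N : Subgroup G, N.Normal → ∀ a : ℕ, N.index = 2 ^ a → a ≠ 0 → s₀ ∉ N ∨ s₁ ∉ N := by
    intro N hN a ha ha0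
    by_contra hne
    push Not at hne
    have hPN : (P : Subgroup G) ≤ N := by
      rw [← hfrange]
      rintro _ ⟨d, rfl⟩
      exact hgen N hN hne.1 hne.2 d
    have h1 := himg N hN a ha
    rw [sup_eq_right.mpr hPN] at h1
    rw [h1, Subgroup.index_top] at ha
    exact absurd ha (Nat.one_lt_two_pow ha0).ne
  -- transfer
  have htr : ∀ u : ZMod m, ¬ IsConj (f (sr u)) z → ∃ M : Subgroup G, M.Normal ∧ M.index = 2 ∧ f (sr u) ∉ M := by
    intro u hu
    set Q : Subgroup G := (Subgroup.zpowers (r (1 : ZMod m))).map f with hQ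
    have hQP : Q ≤ (P : Subgroup G) := by rintro _ ⟨d, -, rfl⟩; exact hfP d
    have hQi : Q.relIndex (P : Subgroup G) = 2 := by
      have h1 := Subgroup.relIndex_map_map_of_injective (f := f) (Subgroup.zpowers (r (1 : ZMod m))) ⊤ hfinj
      rw [← MonoidHom.range_eq_map, hfrange, ← hQ, Subgroup.relIndex_top_right] at h1
      rw [h1]
      have h2 := Subgroup.card_mul_index (Subgroup.zpowers (r (1 : ZMod m)))
      rw [Nat.card_zpowers, orderOf_r_one, nat_card, mul_comm 2 m] at h2
      exact Nat.eq_of_mul_eq_mul_left (NeZero.pos m) h2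
    have hQrot : ∀ g ∈ Q, ∃ i, f (r i) = g := by
      rintro _ ⟨d, hd, rfl⟩
      obtain ⟨i, rfl⟩ := Subgroup.mem_zpowers_iff.mp hd
      exact ⟨(i : ZMod m), by rw [r_one_zpow]⟩
    have huQ : f (sr u) ∉ Q := fun hmem => by
      obtain ⟨i, hi⟩ := hQrot _ hmem
      exact absurd (hfinj hi) (by simp)
    rcases Cfsg.Agent.S0111.result P Q hQP hQi _ (hord u) (hfP _) huQ with ⟨M, hMn, hMi, hMu⟩ | ⟨g, hg⟩
    · exact ⟨M, hMn, hMi, hMu⟩
    · obtain ⟨i, hi⟩ := hQrot _ hg
      refine absurd (isConj_iff.mpr ⟨g, ?_⟩) hu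
      rw [← hi, hrot i]
      rw [← orderOf_injective f hfinj, hi]
      exact ((MulAut.conj g).orderOf_eq _).trans (hord u)
  -- counting
  set cz := ConjClasses.mk z
  set c₀ := ConjClasses.mk s₀
  set c₁ := ConjClasses.mk s₁
  have hset : {C : ConjClasses G | ∃ g : G, ConjClasses.mk g = C ∧ orderOf g = 2} = {cz, c₀, c₁} := by
    ext C
    simp only [Set.mem_setOf_eq, Set.mem_insert_iff, Set.mem_singleton_iff]
    constructor
    · rintro ⟨g, rfl, hg⟩
      exact (hall g hg).imp ConjClasses.mk_eq_mk_iff_isConj.mpr (Or.imp ConjClasses.mk_eq_mk_iff_isConj.mpr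
        ConjClasses.mk_eq_mk_iff_isConj.mpr)
    · rintro (rfl | rfl | rfl)
      · exact ⟨z, rfl, hzo⟩
      · exact ⟨s₀, rfl, hord 0⟩
      · exact ⟨s₁, rfl, hord 1⟩
  have hcount : Nat.card {C : ConjClasses G // ∃ g : G, ConjClasses.mk g = C ∧ orderOf g = 2} =
      ({cz, c₀, c₁} : Set (ConjClasses G)).ncard := by
    rw [← hset]; rfl
  rw [hcount]
  have hcj : ∀ a b : G, ConjClasses.mk a = ConjClasses.mk b ↔ IsConj a b := fun a b => ConjClasses.mk_eq_mk_iff_isConj
  by_cases h0z : IsConj s₀ z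
  · by_cases h1z : IsConj s₁ z
    · left
      refine ⟨?_, fun N hN hi => ?_⟩
      · rw [show c₀ = cz from (hcj _ _).mpr h0z, show c₁ = cz from (hcj _ _).mpr h1z]
        simp
      · have hzmem := hzN N hN (hquot N hN (Or.inl hi))
        rcases hmiss N hN 1 (by simpa using hi) one_ne_zero with hne | hne
        · exact hne (hnconj N hN _ _ h0z.symm hzmem)
        · exact hne (hnconj N hN _ _ h1z.symm hzmem)
    · right; left
      obtain ⟨M, hMn, hMi, -⟩ := htr 1 h1z
      refine ⟨?_, ⟨M, hMn, hMi⟩, fun N hN hi => ?_⟩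
      · rw [show c₀ = cz from (hcj _ _).mpr h0z, Set.insert_eq_of_mem (Set.mem_insert _ _)]
        exact Set.ncard_pair fun hc => h1z ((hcj _ _).mp hc).symm
      · haveI := hN
        have hzmem := hzN N hN (hquot N hN (Or.inr hi))
        have h0 := hnconj N hN _ _ h0z.symm hzmem
        have hQ : (G ⧸ N) = (G ⧸ N) := rfl
        have hgenQ : ∀ q : G ⧸ N, q = 1 ∨ q = (s₁ : G ⧸ N) := by
          intro q
          obtain ⟨g, rfl⟩ := QuotientGroup.mk_surjective q
          obtain ⟨a, ha, b, hb, rfl⟩ := Subgroup.mem_sup_of_normal_right.mp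
            ((himg N hN 2 (by rw [hi]; norm_num)).ge (Subgroup.mem_top g))
          rw [QuotientGroup.mk_mul, (QuotientGroup.eq_one_iff b).mpr hb, mul_one]
          rw [← hfrange] at ha
          obtain ⟨d, rfl⟩ := ha
          have hsr : ∀ i, ((f (sr i) : G) : G ⧸ N) = 1 ∨ ((f (sr i) : G) : G ⧸ N) = (s₁ : G ⧸ N) := fun i => by
            rcases hsrcls i with hc | hc
            · exact Or.inl ((QuotientGroup.eq_one_iff _).mpr (hnconj N hN _ _ hc.symm h0))
            · right
              obtain ⟨c, hc'⟩ := isConj_iff.mp hc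
              rw [← hc', QuotientGroup.mk_mul, QuotientGroup.mk_mul, QuotientGroup.mk_inv]
              have hab : ∀ u v : G ⧸ N, u * v = v * u := by
                haveI := Fact.mk Nat.prime_two
                exact IsPGroup.commutative_of_card_eq_prime_sq (p := 2) (G := G ⧸ N) (by rw [← Subgroup.index_eq_card, hi]; norm_num)
              rw [hab (c : G ⧸ N), mul_inv_cancel_right]
          cases d with
          | sr i => exact hsr i
          | r i =>
            rw [show r i = sr 0 * sr i by rw [sr_mul_sr, sub_zero], map_mul, QuotientGroup.mk_mul,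
              (QuotientGroup.eq_one_iff _).mpr h0, one_mul]
            exact hsr i
        have hle : Nat.card (G ⧸ N) ≤ 2 := by
          let g : Fin 2 → G ⧸ N := ![1, (s₁ : G ⧸ N)]
          refine le_of_le_of_eq (Nat.card_le_card_of_surjective g fun q => ?_) (Nat.card_fin 2)
          rcases hgenQ q with rfl | rfl
          · exact ⟨0, rfl⟩
          · exact ⟨1, rfl⟩
        rw [← Subgroup.index_eq_card, hi] at hle
        omega
  · obtain ⟨M₀, hM₀n, hM₀i, hM₀0⟩ := htr 0 h0z
    by_cases h1z : IsConj s₁ z ∨ IsConj s₀ s₁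
    · right; left
      refine ⟨?_, ⟨M₀, hM₀n, hM₀i⟩, fun N hN hi => ?_⟩
      · rcases h1z with h1z | h01
        · rw [show c₁ = cz from (hcj _ _).mpr h1z, show ({cz, c₀, cz} : Set (ConjClasses G)) = {cz, c₀} by ext; simp; tauto]
          exact Set.ncard_pair fun hc => h0z ((hcj _ _).mp hc).symm
        · rw [← show c₀ = c₁ from (hcj _ _).mpr h01, Set.pair_eq_singleton]
          exact Set.ncard_pair fun hc => h0z ((hcj _ _).mp hc).symm
      · haveI := hN
        have hzmem := hzN N hN (hquot N hN (Or.inr hi))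
        have hab : ∀ u v : G ⧸ N, u * v = v * u := by
          haveI := Fact.mk Nat.prime_two
          exact IsPGroup.commutative_of_card_eq_prime_sq (p := 2) (G := G ⧸ N) (by rw [← Subgroup.index_eq_card, hi]; norm_num)
        have hsame : ∀ a b : G, IsConj a b → (a : G ⧸ N) = (b : G ⧸ N) := fun a b hc => by
          obtain ⟨c, rfl⟩ := isConj_iff.mp hc
          rw [QuotientGroup.mk_mul, QuotientGroup.mk_mul, QuotientGroup.mk_inv, hab (c : G ⧸ N), mul_inv_cancel_right]
        have hcase : (s₁ : G ⧸ N) = 1 ∨ (s₁ : G ⧸ N) = (s₀ : G ⧸ N) := by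
          rcases h1z with h1z | h01
          · exact Or.inl ((hsame _ _ h1z).trans ((QuotientGroup.eq_one_iff _).mpr hzmem))
          · exact Or.inr (hsame _ _ h01).symm
        have hsq : (s₀ : G ⧸ N) * (s₀ : G ⧸ N) = 1 := by
          rw [← QuotientGroup.mk_mul, ← pow_two, show s₀ ^ 2 = 1 by rw [← hord 0]; exact pow_orderOf_eq_one _,
            QuotientGroup.mk_one]
        have hgenQ : ∀ q : G ⧸ N, q = 1 ∨ q = (s₀ : G ⧸ N) := by
          intro q
          obtain ⟨g, rfl⟩ := QuotientGroup.mk_surjective q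
          obtain ⟨a, ha, b, hb, rfl⟩ := Subgroup.mem_sup_of_normal_right.mp
            ((himg N hN 2 (by rw [hi]; norm_num)).ge (Subgroup.mem_top g))
          rw [QuotientGroup.mk_mul, (QuotientGroup.eq_one_iff b).mpr hb, mul_one]
          rw [← hfrange] at ha
          obtain ⟨d, rfl⟩ := ha
          have hsr : ∀ i, ((f (sr i) : G) : G ⧸ N) = 1 ∨ ((f (sr i) : G) : G ⧸ N) = (s₀ : G ⧸ N) := fun i => by
            rcases hsrcls i with hc | hc
            · exact Or.inr (hsame _ _ hc)
            · rw [hsame _ _ hc]; exact hcase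
          cases d with
          | sr i => exact hsr i
          | r i =>
            rw [show r i = sr 0 * sr i by rw [sr_mul_sr, sub_zero], map_mul, QuotientGroup.mk_mul]
            rcases hsr i with e' | e' <;> rw [e']
            · exact Or.inr (mul_one _)
            · exact Or.inl hsq
        have hle : Nat.card (G ⧸ N) ≤ 2 := by
          let g : Fin 2 → G ⧸ N := ![1, (s₀ : G ⧸ N)]
          refine le_of_le_of_eq (Nat.card_le_card_of_surjective g fun q => ?_) (Nat.card_fin 2)
          rcases hgenQ q with rfl | rfl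
          · exact ⟨0, rfl⟩
          · exact ⟨1, rfl⟩
        rw [← Subgroup.index_eq_card, hi] at hle
        omega
    · push Not at h1z
      right; right
      refine ⟨?_, ?_⟩
      · exact Set.ncard_eq_three.mpr ⟨cz, c₀, c₁, fun hc => h0z ((hcj _ _).mp hc).symm,
          fun hc => h1z.1 ((hcj _ _).mp hc).symm, fun hc => h1z.2 ((hcj _ _).mp hc), rfl⟩
      obtain ⟨M₁, hM₁n, hM₁i, hM₁1⟩ := htr 1 h1z.1
      haveI := hM₀n
      haveI := hM₁n
      haveI := Fact.mk Nat.prime_two
      set N := M₀ ⊓ M₁ with hN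
      obtain ⟨S⟩ : Nonempty (Sylow 2 ↥N) := inferInstance
      have hS2 : IsPGroup 2 ((S : Subgroup ↥N).map N.subtype) := S.isPGroup'.map _
      obtain ⟨R, hR⟩ := hS2.exists_le_sylow
      obtain ⟨t, ht⟩ := MulAction.exists_smul_eq G R P
      have hcyc : IsCyclic ↥(S : Subgroup ↥N) := by
        have hmem : ∀ x : ↥(S : Subgroup ↥N), t * ((x : ↥N) : G) * t⁻¹ ∈ (Subgroup.zpowers (r (1 : ZMod m))).map f := by
          intro x
          have hxP : t * ((x : ↥N) : G) * t⁻¹ ∈ (P : Subgroup G) := by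
            rw [← ht, Sylow.coe_subgroup_smul]
            exact Subgroup.smul_mem_pointwise_smul _ (MulAut.conj t) _ (hR ⟨_, x.2, rfl⟩)
          have hxN : t * ((x : ↥N) : G) * t⁻¹ ∈ N := (inferInstance : N.Normal).conj_mem _ (x : ↥N).2 t
          rw [← hfrange] at hxP
          obtain ⟨d, hd⟩ := hxP
          rw [← hd] at hxN ⊢
          cases d with
          | r i => exact ⟨r i, ⟨(i.val : ℤ), by show r (1 : ZMod m) ^ (i.val : ℤ) = r i; rw [r_one_zpow]; simp⟩, rfl⟩
          | sr i =>
            exfalso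
            obtain ⟨hx0, hx1⟩ := Subgroup.mem_inf.mp hxN
            rcases hsrcls i with hc | hc
            · exact hM₀0 (hnconj M₀ hM₀n _ _ hc hx0)
            · exact hM₁1 (hnconj M₁ hM₁n _ _ hc hx1)
        let ψ : ↥(S : Subgroup ↥N) →* ↥((Subgroup.zpowers (r (1 : ZMod m))).map f) :=
          MonoidHom.mk' (fun x => ⟨t * ((x : ↥N) : G) * t⁻¹, hmem x⟩) fun a b => Subtype.ext (by
            simp only [Subgroup.coe_mul]; group)
        haveI : IsCyclic ↥((Subgroup.zpowers (r (1 : ZMod m))).map f) := by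
          rw [MonoidHom.map_zpowers]; infer_instance
        refine isCyclic_of_injective ψ fun a b hab => ?_
        have h1 := congrArg Subtype.val hab
        exact Subtype.ext (Subtype.ext (mul_left_cancel (mul_right_cancel h1)))
      have hNnpc := Cfsg.Agent.Invol.hasNormalPComplement_of_closed (G := ↥N)
        (fun q hq _ => hq.two_le) S (Or.inl hcyc)
      rw [Transfer.hasNormalPComplement_iff_not_dvd] at hNnpc ⊢
      intro hd
      refine hNnpc (hd.trans ?_)
      obtain ⟨j, hj⟩ := Transfer.exists_pResidual_index (G := ↥N) 2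
      haveI : (Cfsg.pResidual 2 ↥N).Characteristic := Transfer.pResidual_characteristic 2 ↥N
      have hidx : ∃ a, ((Cfsg.pResidual 2 ↥N).map N.subtype).index = 2 ^ a := by
        have h01 : N.index ∣ 2 ^ 2 := by
          have h1 := Subgroup.relIndex_inf_le (H := M₀) (K := M₁) (L := ⊤)
          rw [pow_two, ← hM₀i]
          have h2 : N.relIndex M₀ ∣ 2 := by
            rw [hN, Subgroup.inf_relIndex_left, ← hM₁i]
            exact Subgroup.relIndex_dvd_index_of_normal M₁ M₀
          rw [← Subgroup.relIndex_mul_index (inf_le_left : N ≤ M₀), hM₀i]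
          exact Nat.mul_dvd_mul_right h2 2
        obtain ⟨a, -, ha⟩ := (Nat.dvd_prime_pow Nat.prime_two).mp h01
        refine ⟨j + a, ?_⟩
        rw [Subgroup.index_map_subtype, hj, ha, pow_add]
      obtain ⟨a, ha⟩ := hidx
      refine (Subgroup.card_dvd_of_le (Transfer.pResidual_le_of_index ha)).trans ?_
      rw [Subgroup.card_map_of_injective N.subtype_injective]

end Cfsg.Agent.Grp.DihClasses
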