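import Mathlib

/-! Eigenspaces of a finite abelian group of operators inside an invariant subspace. -/

set_option autoImplicit false

namespace Cfsg.Agent.Grp.EigenSplit

open Module

variable {P : Type*} [AddCommGroup P] {V : Type*} [AddCommGroup V] [Module ℂ V]

/-- An additive family of operators. -/
structure IsAct (φ : P → End ℂ V) : Prop where
  map_zero : φ 0 = 1
  map_add : ∀ x y, φ (x + y) = φ x * φ y

/-- The eigenspace of a character. -/
def eig (φ : P → End ℂ V) (μ : AddChar P ℂ) : Submodule ℂ V where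
  carrier := {v | ∀ x, φ x v = μ x • v}
  zero_mem' := fun x => by simp
  add_mem' := fun {a b} ha hb x => by rw [_root_.map_add, ha x, hb x, smul_add]
  smul_mem' := fun c v hv x => by rw [map_smul, hv x, smul_comm]

theorem mem_eig {φ : P → End ℂ V} {μ : AddChar P ℂ} {v : V} :
    v ∈ eig φ μ ↔ ∀ x, φ x v = μ x • v := Iff.rfl

/-- A subspace invariant under an operator. -/
def Stable (T : End ℂ V) (W : Submodule ℂ V) : Prop := ∀ v ∈ W, T v ∈ W

theorem stable_top (T : End ℂ V) : Stable T ⊤ := fun _ _ => Submodule.mem_top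

theorem Stable.inf {T : End ℂ V} {W W' : Submodule ℂ V} (h : Stable T W) (h' : Stable T W') :
    Stable T (W ⊓ W') := fun v hv => ⟨h v hv.1, h' v hv.2⟩

theorem stable_eig {φ : P → End ℂ V} {T : End ℂ V} (h : ∀ x, Commute (φ x) T) (μ : AddChar P ℂ) :
    Stable T (eig φ μ) := fun v hv x => by
  rw [← End.mul_apply, (h x).eq, End.mul_apply, hv x, map_smul]

theorem finrank_le_of_maps [FiniteDimensional ℂ V] {T : End ℂ V} (hT : Function.Injective T)
    {W W' : Submodule ℂ V} (h : ∀ v ∈ W, T v ∈ W') : finrank ℂ W ≤ finrank ℂ W' := by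
  have hm : W.map T ≤ W' := Submodule.map_le_iff_le_comap.2 h
  rw [(Submodule.equivMapOfInjective T hT W).finrank_eq]
  exact Submodule.finrank_mono hm

variable [Fintype P] {φ : P → End ℂ V} (hφ : IsAct φ)

/-- The projection to an eigenspace. -/
noncomputable def proj (φ : P → End ℂ V) (μ : AddChar P ℂ) : End ℂ V :=
  (Fintype.card P : ℂ)⁻¹ • ∑ x : P, μ (-x) • φ x

theorem proj_apply (μ : AddChar P ℂ) (v : V) :
    proj φ μ v = (Fintype.card P : ℂ)⁻¹ • ∑ x : P, μ (-x) • φ x v := by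
  simp [proj, LinearMap.sum_apply]

include hφ

theorem apply_proj (μ : AddChar P ℂ) (y : P) (v : V) :
    φ y (proj φ μ v) = μ y • proj φ μ v := by
  rw [proj_apply, map_smul, map_sum, smul_comm (μ y) ((Fintype.card P : ℂ)⁻¹)]
  congr 1
  rw [Finset.smul_sum]
  refine Fintype.sum_equiv (Equiv.addLeft y : P ≃ P) _ _ fun x => ?_
  simp only [Equiv.coe_addLeft, map_smul, smul_smul, hφ.map_add, End.mul_apply,
    ← AddChar.map_add_eq_mul]
  congr 1
  rw [neg_add, ← add_assoc, add_neg_cancel, zero_add]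

omit hφ in
theorem proj_mem {W : Submodule ℂ V} (hW : ∀ x, Stable (φ x) W) (μ : AddChar P ℂ) {v : V}
    (hv : v ∈ W) : proj φ μ v ∈ W := by
  rw [proj_apply]
  exact W.smul_mem _ (W.sum_mem fun x _ => W.smul_mem _ (hW x v hv))

omit hφ in
theorem card_ne : (Fintype.card P : ℂ) ≠ 0 := Nat.cast_ne_zero.2 Fintype.card_ne_zero

omit hφ in
theorem proj_of_mem (μ ν : AddChar P ℂ) [Decidable (μ = ν)] {v : V} (hv : v ∈ eig φ ν) :
    proj φ μ v = if μ = ν then v else 0 := by
  have e : ∑ x : P, μ (-x) • φ x v = (∑ x : P, μ (-x) * ν x) • v := by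
    rw [Finset.sum_smul]
    exact Finset.sum_congr rfl fun x _ => by rw [hv x, smul_smul]
  rw [proj_apply, e]
  split_ifs with h
  · subst h
    have : ∀ x : P, μ (-x) * μ x = 1 := fun x => by
      rw [← AddChar.map_add_eq_mul, neg_add_cancel, AddChar.map_zero_eq_one]
    simp [this, card_ne, smul_smul]
  · have hne : μ⁻¹ * ν ≠ 1 := fun e1 => h (inv_mul_eq_one.1 e1)
    have h0 : ∑ x : P, (μ⁻¹ * ν) x = 0 :=
      AddChar.sum_eq_zero_iff_ne_zero.2 (by simpa [← AddChar.one_eq_zero] using hne)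
    simp only [AddChar.mul_apply, AddChar.inv_apply] at h0
    simp [h0]

theorem sum_proj (v : V) : ∑ μ : AddChar P ℂ, proj φ μ v = v := by
  classical
  simp only [proj_apply, ← Finset.smul_sum]
  rw [Finset.sum_comm]
  simp only [← Finset.sum_smul, AddChar.sum_apply_eq_ite, neg_eq_zero, ite_smul, zero_smul]
  rw [Finset.sum_ite_eq' Finset.univ (0 : P), if_pos (Finset.mem_univ _), hφ.map_zero,
    End.one_apply, smul_smul, inv_mul_cancel₀ card_ne, one_smul]

/-- The dimensions of the eigenspaces add up. -/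
theorem sum_finrank [FiniteDimensional ℂ V] {ι : Type*} [Fintype ι] (χ : ι → AddChar P ℂ)
    (hχ : Function.Injective χ) (hι : Fintype.card ι = Fintype.card P) {W : Submodule ℂ V}
    (hW : ∀ x, Stable (φ x) W) :
    ∑ i, finrank ℂ ↥(W ⊓ eig φ (χ i)) = finrank ℂ W := by
  classical
  have hb : Function.Bijective χ :=
    (Fintype.bijective_iff_injective_and_card χ).2 ⟨hχ, hι.trans AddChar.card_eq.symm⟩
  have hs : ∀ v : V, ∑ i, proj φ (χ i) v = v := fun v => by
    rw [Fintype.sum_bijective χ hb (fun i => proj φ (χ i) v) (fun μ => proj φ μ v) fun _ => rfl]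
    exact sum_proj hφ v
  let fwd : ↥W →ₗ[ℂ] ((i : ι) → ↥(W ⊓ eig φ (χ i))) := LinearMap.pi fun i =>
    LinearMap.codRestrict _ ((proj φ (χ i)).comp W.subtype) fun v =>
      ⟨proj_mem hW _ v.2, fun y => apply_proj hφ _ y _⟩
  let bwd : ((i : ι) → ↥(W ⊓ eig φ (χ i))) →ₗ[ℂ] ↥W := ∑ i,
    (Submodule.inclusion (inf_le_left : W ⊓ eig φ (χ i) ≤ W)).comp (LinearMap.proj i)
  have hbwd : ∀ w, (bwd w : V) = ∑ i, (w i : V) := fun w => by
    simp [bwd, LinearMap.sum_apply]
  let e : ↥W ≃ₗ[ℂ] ((i : ι) → ↥(W ⊓ eig φ (χ i))) := LinearEquiv.ofLinearMap fwd bwd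
    (LinearMap.ext fun w => funext fun i => Subtype.ext (by
      show proj φ (χ i) (bwd w : V) = (w i : V)
      rw [hbwd, map_sum]
      rw [Finset.sum_eq_single i]
      · rw [proj_of_mem _ (χ i) (w i).2.2, if_pos rfl]
      · intro j _ hj
        rw [proj_of_mem _ (χ j) (w j).2.2, if_neg fun e1 => hj (hχ e1).symm]
      · simp))
    (LinearMap.ext fun v => Subtype.ext (by
      show (bwd (fwd v) : V) = (v : V)
      rw [hbwd]
      exact hs v))
  rw [e.finrank_eq, Module.finrank_pi_fintype]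

end Cfsg.Agent.Grp.EigenSplit
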