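import Mathlib
import Cfsg.Prelude.Def_Balance
import Cfsg.Agent.Lib.Grp.PComponents

/-!
The extended 2-layer: independence of the Sylow subgroup, normality.
-/

namespace Cfsg.Agent.Grp

open scoped Pointwise commutatorElement
open Subgroup

variable {G : Type*} [Group G]

/-- `O(C_G(S))` as a subgroup of `G`. -/
def oddCent (S : Subgroup G) : Subgroup G :=
  (Cfsg.oddCore (Subgroup.centralizer (S : Set G))).map (Subgroup.centralizer (S : Set G)).subtype

theorem centralizer_conj_smul (g : G) (S : Subgroup G) :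
    Subgroup.centralizer ((MulAut.conj g • S : Subgroup G) : Set G) =
      MulAut.conj g • Subgroup.centralizer (S : Set G) := by
  ext x
  rw [mem_smul_conj, Subgroup.mem_centralizer_iff, Subgroup.mem_centralizer_iff]
  constructor
  · intro h s hs
    have := h (g * s * g⁻¹) (mem_smul_conj.mpr (by simpa [mul_assoc] using hs))
    calc s * (g⁻¹ * x * g) = g⁻¹ * ((g * s * g⁻¹) * x) * g := by group
      _ = g⁻¹ * (x * (g * s * g⁻¹)) * g := by rw [this]
      _ = g⁻¹ * x * g * s := by group
  · intro h s hs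
    have := h _ (mem_smul_conj.mp hs)
    calc s * x = g * ((g⁻¹ * s * g) * (g⁻¹ * x * g)) * g⁻¹ := by group
      _ = g * ((g⁻¹ * x * g) * (g⁻¹ * s * g)) * g⁻¹ := by rw [this]
      _ = x * s := by group

theorem oddCent_le_centralizer (S : Subgroup G) :
    oddCent S ≤ Subgroup.centralizer (S : Set G) := Subgroup.map_subtype_le _

theorem centralizer_le_normalizer_oddCent (S : Subgroup G) :
    Subgroup.centralizer (S : Set G) ≤ Subgroup.normalizer (oddCent S : Set G) := by
  set C := Subgroup.centralizer (S : Set G)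
  intro c hc
  have hn : (Cfsg.oddCore C).Normal := pPrimeCore_isNormal
  exact Subgroup.le_normalizer_map C.subtype
    ⟨⟨c, hc⟩, by rw [Subgroup.normalizer_eq_top]; trivial, rfl⟩

theorem oddCent_card [Finite G] (S : Subgroup G) : (Nat.card (oddCent S)).Coprime 2 := by
  rw [oddCent, Subgroup.card_map_of_injective (Subgroup.subtype_injective _)]
  exact pPrimeCore_coprime

theorem conj_smul_oddCent [Finite G] (g : G) (S : Subgroup G) :
    MulAut.conj g • oddCent S = oddCent (MulAut.conj g • S) := by
  have key : ∀ (g : G) (S : Subgroup G),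
      MulAut.conj g • oddCent S ≤ oddCent (MulAut.conj g • S) := by
    intro g S
    set C' := Subgroup.centralizer ((MulAut.conj g • S : Subgroup G) : Set G) with hC'
    set D := MulAut.conj g • oddCent S
    have hle : D ≤ C' := by
      rw [hC', centralizer_conj_smul]
      exact Subgroup.pointwise_smul_le_pointwise_smul_iff.mpr (oddCent_le_centralizer S)
    have hn : C' ≤ Subgroup.normalizer (D : Set G) := by
      rw [hC', centralizer_conj_smul]
      refine (Subgroup.pointwise_smul_le_pointwise_smul_iff.mpr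
        (centralizer_le_normalizer_oddCent S)).trans ?_
      rw [← map_conj_eq_smul]
      refine (Subgroup.le_normalizer_map _).trans (le_of_eq ?_)
      rw [map_conj_eq_smul]
    have h : D.subgroupOf C' ≤ Cfsg.oddCore C' := by
      refine le_pPrimeCore (Subgroup.normal_subgroupOf_of_le_normalizer hn) ?_
      rw [Nat.card_congr (Subgroup.subgroupOfEquivOfLe hle).toEquiv, card_conj_smul]
      exact oddCent_card S
    have := Subgroup.map_mono (f := C'.subtype) h
    rwa [Subgroup.subgroupOf_map_subtype, inf_eq_left.mpr hle] at this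
  refine le_antisymm (key g S) ?_
  have := (Subgroup.pointwise_smul_le_pointwise_smul_iff (a := MulAut.conj g)).mpr
    (key g⁻¹ (MulAut.conj g • S))
  rwa [conj_smul_conj_smul, conj_smul_conj_smul, mul_inv_cancel, inv_mul_cancel, map_one, one_smul,
    one_smul] at this

theorem normalizer_le_normalizer_oddCent [Finite G] (S : Subgroup G) :
    Subgroup.normalizer (S : Set G) ≤ Subgroup.normalizer (oddCent S : Set G) := fun g hg => by
  rw [mem_normalizer_iff_smul] at hg ⊢
  rw [conj_smul_oddCent, hg]

/-- The subgroup `L_{2'}(G) O_{2',2}(G)`. -/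
abbrev extBase (G : Type*) [Group G] : Subgroup G := Cfsg.pLayer 2 G ⊔ Cfsg.pPrimePCore 2 G

/-- A Sylow 2-subgroup of `extBase`, as a subgroup of `G`. -/
abbrev extSylow (T : Sylow 2 (extBase G)) : Subgroup G :=
  (T : Subgroup (extBase G)).map (extBase G).subtype

theorem extBase_normal [Finite G] : (extBase G).Normal := by
  have h1 := pLayer_normal (p := 2) (G := G)
  have h2 : (Cfsg.pPrimePCore 2 G).Normal := by
    rw [Cfsg.pPrimePCore]; exact (pCore_isNormal (p := 2)).comap _
  exact Subgroup.sup_normal _ _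

theorem extBase_le [Finite G] (T : Sylow 2 (extBase G)) :
    extBase G ≤ Cfsg.pLayer 2 G ⊔ Cfsg.oddCore G ⊔ extSylow T := by
  set f := QuotientGroup.mk' (Cfsg.pPrimeCore 2 G)
  have hfs : Function.Surjective f := QuotientGroup.mk'_surjective _
  let φ : (extBase G) →* (extBase G).map f := MonoidHom.codRestrict (f.comp (extBase G).subtype) _ fun y => ⟨y, y.2, rfl⟩
  have hφ : Function.Surjective φ := fun ⟨z, y, hy, e⟩ => ⟨⟨y, hy⟩, Subtype.ext e⟩
  have hR : (Cfsg.pCore 2 (G ⧸ Cfsg.pPrimeCore 2 G)).subgroupOf ((extBase G).map f) ≤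
      (T.mapSurjective hφ : Sylow 2 ((extBase G).map f)) := by
    have hn := pCore_isNormal (p := 2) (G := G ⧸ Cfsg.pPrimeCore 2 G)
    exact (le_pCore inferInstance ((pCore_isPGroup (p := 2)).comap_subtype)).trans (pCore_le_sylow _)
  have hT : Cfsg.pCore 2 (G ⧸ Cfsg.pPrimeCore 2 G) ≤ (extSylow T).map f := by
    intro z hz
    have hzY : z ∈ (extBase G).map f := by
      obtain ⟨y, rfl⟩ := hfs z
      exact ⟨y, Subgroup.mem_sup_right hz, rfl⟩
    obtain ⟨y, hy, e⟩ := hR (show (⟨z, hzY⟩ : (extBase G).map f) ∈ _ from hz)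
    exact ⟨y, ⟨y, hy, rfl⟩, congrArg Subtype.val e⟩
  have h1 : (extBase G).map f ≤ (Cfsg.pLayer 2 G ⊔ extSylow T).map f := by
    show (Cfsg.pLayer 2 G ⊔ Cfsg.pPrimePCore 2 G).map f ≤ _
    rw [Subgroup.map_sup, Subgroup.map_sup]
    refine sup_le_sup le_rfl (le_trans ?_ hT)
    rw [Cfsg.pPrimePCore, Subgroup.map_comap_eq_self_of_surjective hfs]
  rw [Subgroup.map_le_iff_le_comap, Subgroup.comap_map_eq, QuotientGroup.ker_mk'] at h1
  exact h1.trans (le_of_eq (sup_right_comm (Cfsg.pLayer 2 G) (extSylow T) (Cfsg.oddCore G)))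

theorem sup_oddCent_normalized [Finite G] (T : Sylow 2 (extBase G)) :
    extBase G ≤ Subgroup.normalizer
      ((Cfsg.pLayer 2 G ⊔ Cfsg.oddCore G ⊔ oddCent (extSylow T) : Subgroup G) : Set G) := by
  have h1 := pLayer_normal (p := 2) (G := G)
  have h2 := pPrimeCore_isNormal (p := 2) (G := G)
  set W := Cfsg.pLayer 2 G ⊔ Cfsg.oddCore G ⊔ oddCent (extSylow T)
  refine (extBase_le T).trans (sup_le ((le_sup_left : _ ≤ W).trans Subgroup.le_normalizer) ?_)
  intro t ht
  rw [mem_normalizer_iff_smul, Subgroup.smul_sup, Subgroup.smul_sup,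
    normalizer_le_smul (le_top.trans (Subgroup.normalizer_eq_top (H := Cfsg.pLayer 2 G)).ge) (Subgroup.mem_top t),
    normalizer_le_smul (le_top.trans (Subgroup.normalizer_eq_top (H := Cfsg.oddCore G)).ge) (Subgroup.mem_top t),
    mem_normalizer_iff_smul.mp (normalizer_le_normalizer_oddCent _ (Subgroup.le_normalizer ht))]

theorem extSylow_conj [Finite G] (T T' : Sylow 2 (extBase G)) :
    ∃ y ∈ extBase G, MulAut.conj y • extSylow T = extSylow T' := by
  obtain ⟨y, hy⟩ := MulAction.exists_smul_eq (extBase G) T T'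
  refine ⟨y, y.2, ?_⟩
  show MulAut.conj (y : G) • (T : Subgroup (extBase G)).map _ = (T' : Subgroup (extBase G)).map _
  rw [← hy, Sylow.coe_subgroup_smul, ← conj_smul_map]
  rfl

/-- Any one Sylow subgroup gives the extended 2-layer. -/
theorem extendedTwoLayer_eq [Finite G] (T : Sylow 2 (extBase G)) :
    Cfsg.extendedTwoLayer G = Cfsg.pLayer 2 G ⊔ Cfsg.oddCore G ⊔ oddCent (extSylow T) := by
  refine le_antisymm (sup_le le_sup_left (iSup_le fun T' => ?_))
    (sup_le_sup le_rfl (le_iSup (fun T : Sylow 2 (extBase G) => oddCent (extSylow T)) T))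
  obtain ⟨y, hy, e⟩ := extSylow_conj T T'
  show oddCent (extSylow T') ≤ _
  rw [← e, ← conj_smul_oddCent]
  exact (Subgroup.pointwise_smul_le_pointwise_smul_iff.mpr le_sup_right).trans
    (le_of_eq (mem_normalizer_iff_smul.mp (sup_oddCent_normalized T hy)))

theorem extendedTwoLayer_normal [Finite G] : (Cfsg.extendedTwoLayer G).Normal := by
  have h1 := pLayer_normal (p := 2) (G := G)
  have h2 := pPrimeCore_isNormal (p := 2) (G := G)
  have h3 := extBase_normal (G := G)
  refine ⟨fun n hn g => ?_⟩
  obtain ⟨T⟩ : Nonempty (Sylow 2 (extBase G)) := Sylow.nonempty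
  have e : MulAut.conj g • Cfsg.extendedTwoLayer G ≤ Cfsg.extendedTwoLayer G := by
    conv_lhs => rw [extendedTwoLayer_eq T]
    rw [Subgroup.smul_sup, Subgroup.smul_sup,
      normalizer_le_smul (le_top.trans (Subgroup.normalizer_eq_top (H := Cfsg.pLayer 2 G)).ge) (Subgroup.mem_top g),
      normalizer_le_smul (le_top.trans (Subgroup.normalizer_eq_top (H := Cfsg.oddCore G)).ge) (Subgroup.mem_top g)]
    refine sup_le le_sup_left (le_trans ?_ le_sup_right)
    rw [conj_smul_oddCent]
    set P := MulAut.conj g • extSylow T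
    have hPle : P ≤ extBase G :=
      (Subgroup.pointwise_smul_le_pointwise_smul_iff.mpr (Subgroup.map_subtype_le _)).trans
        (le_of_eq (normalizer_le_smul (le_top.trans (Subgroup.normalizer_eq_top (H := extBase G)).ge)
          (Subgroup.mem_top g)))
    have hPc : Nat.card P = Nat.card (T : Subgroup (extBase G)) := by
      rw [card_conj_smul, Subgroup.card_map_of_injective (Subgroup.subtype_injective _)]
    have hPp : IsPGroup 2 P := by
      obtain ⟨k, hk⟩ := IsPGroup.iff_card.mp T.isPGroup'
      exact IsPGroup.of_card (n := k) (hPc.trans hk)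
    let T' : Sylow 2 (extBase G) := Sylow.ofCard (P.subgroupOf (extBase G))
      (by rw [Nat.card_congr (Subgroup.subgroupOfEquivOfLe hPle).toEquiv, hPc, T.card_eq_multiplicity])
    have hT' : extSylow T' = P := by
      show (P.subgroupOf (extBase G)).map _ = P
      rw [Subgroup.subgroupOf_map_subtype, inf_eq_left.mpr hPle]
    rw [← hT']
    exact le_iSup (fun T : Sylow 2 (extBase G) => oddCent (extSylow T)) T'
  exact e (mem_smul_conj.mpr (by simpa [mul_assoc] using hn))

end Cfsg.Agent.Grp
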