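import Cfsg.Agent.Lib.Fus.GfitExtra

/-!
Simplicity of a group having an involution whose centraliser has an extraspecial normal subgroup on which
it acts irreducibly with a simple quotient.
-/

set_option autoImplicit false
set_option linter.style.haveILetI false

namespace Cfsg.Agent.Grp.ExtraCentSimple

open Subgroup
open scoped commutatorElement

variable {G : Type*} [Group G] [Finite G] {z : G} {Q : Subgroup G}

theorem Ext.le_cent (h : Spor.ExtraPair.Ext z Q) : Q ≤ centralizer ({z} : Set G) := fun q hq =>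
  mem_centralizer_singleton_iff.2 (h.central q hq)

theorem mem_zpowers_cases (hzz : z * z = 1) {x : G} (hx : x ∈ zpowers z) : x = 1 ∨ x = z := by
  let T : Subgroup G :=
    { carrier := {1, z}
      one_mem' := Or.inl rfl
      mul_mem' := by rintro a b (rfl | rfl) (rfl | rfl) <;> simp [hzz]
      inv_mem' := by rintro a (rfl | rfl) <;> simp [inv_eq_of_mul_eq_one_right hzz] }
  exact (Subgroup.zpowers_le.2 (show z ∈ T from Or.inr rfl)) hx

/-- The centraliser in an extraspecial group of width at least two of a non-central element is not abelian. -/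
theorem centralizer_not_comm (h : Spor.ExtraPair.Ext z Q) (hbig : 8 < Nat.card Q) {u : G} (hu : u ∈ Q)
    (hu1 : u ≠ 1) (huz : u ≠ z) :
    ¬ ∀ a ∈ Q, a * u = u * a → ∀ b ∈ Q, b * u = u * b → a * b = b * a := by
  classical
  intro hcomm
  obtain ⟨y, hy, hyu⟩ : ∃ y ∈ Q, ¬ y * u = u * y := by
    by_contra hne
    push Not at hne
    exact (h.cen u hu hne).elim hu1 huz
  have hy2 := ((h.conj_cases hu hy).resolve_left hyu).2
  -- the elements of the centraliser moved by `y` form one coset of the centre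
  have hsplit : ∀ x ∈ Q, x * u = u * x ∨ (x * y) * u = u * (x * y) := fun x hx => by
    rcases h.conj_cases hu hx with e | ⟨-, e⟩
    · exact Or.inl e
    · refine Or.inr (mul_inv_eq_iff_eq_mul.1 ?_)
      calc x * y * u * (x * y)⁻¹ = x * (y * u * y⁻¹) * x⁻¹ := by group
        _ = (x * u * x⁻¹) * (x * z * x⁻¹) := by rw [hy2]; group
        _ = u * z * z := by rw [e, h.central x hx, mul_inv_cancel_right]
        _ = u := by rw [mul_assoc, h.zz, mul_one]
  have hkill : ∀ a ∈ Q, a * u = u * a → y * a = a * y → a = 1 ∨ a = z := fun a ha hau hay => by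
    refine h.cen a ha fun q hq => ?_
    rcases hsplit q hq with e | e
    · exact hcomm q hq e a ha hau
    · have := hcomm (q * y) (mul_mem hq hy) e a ha hau
      exact mul_right_cancel (b := y) (by rw [mul_assoc q a y, ← hay, ← mul_assoc, this, mul_assoc])
  obtain ⟨a₀, ha₀⟩ : ∃ a₀ : G, ∀ a ∈ Q, a * u = u * a → a ∈ ({1, z, a₀, a₀ * z} : Finset G) := by
    by_cases hex : ∃ a ∈ Q, a * u = u * a ∧ ¬ y * a = a * y
    · obtain ⟨a₀, h0, h0u, h0y⟩ := hex
      refine ⟨a₀, fun a ha hau => ?_⟩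
      simp only [Finset.mem_insert, Finset.mem_singleton]
      rcases h.conj_cases ha hy with e | ⟨-, e⟩
      · exact (hkill a ha hau e).elim Or.inl fun h' => Or.inr (Or.inl h')
      · have e0 := ((h.conj_cases h0 hy).resolve_left h0y).2
        have hm : y * (a₀⁻¹ * a) = (a₀⁻¹ * a) * y := mul_inv_eq_iff_eq_mul.1 (by
          calc y * (a₀⁻¹ * a) * y⁻¹ = (y * a₀ * y⁻¹)⁻¹ * (y * a * y⁻¹) := by group
            _ = z⁻¹ * a₀⁻¹ * (a * z) := by rw [e0, e, mul_inv_rev]
            _ = z⁻¹ * ((a₀⁻¹ * a) * z) := by group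
            _ = z⁻¹ * (z * (a₀⁻¹ * a)) := by rw [h.central _ (mul_mem (inv_mem h0) ha)]
            _ = a₀⁻¹ * a := inv_mul_cancel_left _ _)
        have hmu : (a₀⁻¹ * a) * u = u * (a₀⁻¹ * a) :=
          ((Commute.inv_left (show Commute a₀ u from h0u)).mul_left (show Commute a u from hau)).eq
        rcases hkill _ (mul_mem (inv_mem h0) ha) hmu hm with e' | e'
        · exact Or.inr (Or.inr (Or.inl (inv_mul_eq_one.1 e').symm))
        · exact Or.inr (Or.inr (Or.inr (inv_mul_eq_iff_eq_mul.1 e')))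
    · refine ⟨1, fun a ha hau => ?_⟩
      simp only [Finset.mem_insert, Finset.mem_singleton]
      exact (hkill a ha hau (by by_contra hc; exact hex ⟨a, ha, hau, hc⟩)).elim Or.inl fun h' => Or.inr (Or.inl h')
  let T : Finset G := ({1, z, a₀, a₀ * z} : Finset G) ∪ ({1, z, a₀, a₀ * z} : Finset G).image fun a => a * y⁻¹
  have hsub : (Q : Set G) ⊆ (T : Set G) := fun q hq => by
    rcases hsplit q hq with e | e
    · exact Finset.mem_coe.2 (Finset.mem_union_left _ (ha₀ q hq e))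
    · exact Finset.mem_coe.2 (Finset.mem_union_right _ (Finset.mem_image.2 ⟨q * y, ha₀ _ (mul_mem hq hy) e, mul_inv_cancel_right q y⟩))
  have h1 : Nat.card Q ≤ T.card := by
    simpa [Nat.card_coe_set_eq, Set.ncard_coe_finset] using Nat.card_mono T.finite_toSet hsub
  have h2 : T.card ≤ 4 + 4 := (Finset.card_union_le _ _).trans
    (add_le_add Finset.card_le_four ((Finset.card_image_le).trans Finset.card_le_four))
  omega

/-- Every nontrivial normal subgroup contains the centraliser of `z`. -/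
theorem cent_le (h : Spor.ExtraPair.Ext z Q) (hbig : 8 < Nat.card Q)
    (hirr : ∀ W : Subgroup G, W ≤ Q → centralizer ({z} : Set G) ≤ normalizer (W : Set G) →
      W = Q ∨ W ≤ zpowers z)
    (hsimp : ∀ W : Subgroup G, Q ≤ W → W ≤ centralizer ({z} : Set G) →
      centralizer ({z} : Set G) ≤ normalizer (W : Set G) → W = Q ∨ W = centralizer ({z} : Set G))
    {g : G} (hgQ : g * z * g⁻¹ ∈ Q) (hgne : g * z * g⁻¹ ≠ z) (N : Subgroup G) [hN : N.Normal] (hN1 : N ≠ ⊥) :
    centralizer ({z} : Set G) ≤ N := by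
  classical
  have hQC := Ext.le_cent h
  have hnN : ∀ (c : G) (x : G), x ∈ N → c * x * c⁻¹ ∈ N := fun c x hx => hN.conj_mem x hx c
  have hgn1 : g * z * g⁻¹ ≠ 1 := fun e => h.ne (conj_eq_one_iff.1 e)
  have hmem : ∀ c x, c ∈ centralizer ({z} : Set G) → x ∈ centralizer ({z} : Set G) →
      c * x * c⁻¹ ∈ centralizer ({z} : Set G) := fun c x hc hx => mul_mem (mul_mem hc hx) (inv_mem hc)
  have hQn : ∀ c ∈ centralizer ({z} : Set G), ∀ q ∈ Q, c * q * c⁻¹ ∈ Q := fun c hc q hq =>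
    h.norm c (mem_centralizer_singleton_iff.1 hc) q hq
  rcases hirr (N ⊓ Q) inf_le_right (fun c hc => mem_normalizer_iff.2 fun x => ⟨fun hx =>
      ⟨hnN c x hx.1, hQn c hc x hx.2⟩, fun hx => by
        have e : x = c⁻¹ * (c * x * c⁻¹) * c⁻¹⁻¹ := by group
        exact e ▸ ⟨hnN c⁻¹ _ hx.1, hQn _ (inv_mem hc) _ hx.2⟩⟩) with hA | hB
  · have hQN : Q ≤ N := inf_eq_right.1 hA
    rcases hsimp (N ⊓ centralizer ({z} : Set G)) (le_inf hQN hQC) inf_le_right (fun c hc =>
      mem_normalizer_iff.2 fun x => ⟨fun hx => ⟨hnN c x hx.1, hmem c x hc hx.2⟩, fun hx => by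
        have e : x = c⁻¹ * (c * x * c⁻¹) * c⁻¹⁻¹ := by group
        exact e ▸ ⟨hnN c⁻¹ _ hx.1, hmem _ _ (inv_mem hc) hx.2⟩⟩) with hW | hW
    · exfalso
      refine centralizer_not_comm h hbig hgQ hgn1 hgne fun a ha hau b hb hbu => ?_
      have hback : ∀ x ∈ Q, x * (g * z * g⁻¹) = (g * z * g⁻¹) * x → g⁻¹ * x * g ∈ Q := fun x hx hxu => by
        have h1 : g⁻¹ * x * g ∈ N ⊓ centralizer ({z} : Set G) := by
          refine ⟨by simpa using hnN g⁻¹ x (hQN hx), mem_centralizer_singleton_iff.2 ?_⟩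
          calc g⁻¹ * x * g * z = g⁻¹ * (x * (g * z * g⁻¹)) * g := by group
            _ = g⁻¹ * ((g * z * g⁻¹) * x) * g := by rw [hxu]
            _ = z * (g⁻¹ * x * g) := by group
        exact hW.le h1
      rcases h.comm a ha b hb with e | e
      · exact commutatorElement_eq_one_iff_mul_comm.1 e
      · exfalso
        rcases h.comm _ (hback a ha hau) _ (hback b hb hbu) with e' | e'
        · apply h.ne
          have : ⁅g⁻¹ * a * g, g⁻¹ * b * g⁆ = g⁻¹ * z * g := by
            rw [← e, commutatorElement_def, commutatorElement_def]; group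
          rw [e'] at this
          have h' : g * 1 * g⁻¹ = g * (g⁻¹ * z * g) * g⁻¹ := by rw [← this]
          simpa [mul_assoc] using h'.symm
        · apply hgne
          have : ⁅g⁻¹ * a * g, g⁻¹ * b * g⁆ = g⁻¹ * z * g := by
            rw [← e, commutatorElement_def, commutatorElement_def]; group
          rw [e'] at this
          calc g * z * g⁻¹ = g * (g⁻¹ * z * g) * g⁻¹ := by rw [← this]
            _ = z := by group
    · exact hW.ge.trans inf_le_left
  · exfalso
    have hsmall : ∀ c ∈ N ⊓ centralizer ({z} : Set G), c = 1 ∨ c = z := fun c hc => by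
      have hcQ : c ∈ Q := h.mem_of_trivial fun q hq => by
        have h1 : c * q * c⁻¹ * q⁻¹ ∈ N ⊓ Q := by
          refine Subgroup.mem_inf.2 ⟨?_, mul_mem (hQn c hc.2 q hq) (inv_mem hq)⟩
          rw [show c * q * c⁻¹ * q⁻¹ = c * (q * c⁻¹ * q⁻¹) by group]
          exact mul_mem hc.1 (hnN q _ (inv_mem hc.1))
        rcases mem_zpowers_cases h.zz (hB h1) with e | e
        · exact Or.inl (mul_inv_eq_one.1 e)
        · exact Or.inr ((mul_inv_eq_iff_eq_mul.1 e).trans (h.central q hq).symm)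
      exact mem_zpowers_cases h.zz (hB ⟨hc.1, hcQ⟩)
    by_cases hzN : z ∈ N
    · exact (hsmall _ ⟨hnN g z hzN, hQC hgQ⟩).elim hgn1 hgne
    have hfix : ∀ n ∈ N, z * n = n * z → n = 1 := fun n hn he =>
      (hsmall n ⟨hn, mem_centralizer_singleton_iff.2 he.symm⟩).resolve_right fun e => hzN (e ▸ hn)
    have hzi : z⁻¹ = z := inv_eq_of_mul_eq_one_right h.zz
    let φ : N ≃* N := MulAut.conjNormal z
    have hφ : MonoidHom.FixedPointFree φ := fun n hn => by
      have h1 : z * (n : G) * z⁻¹ = n := by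
        rw [← MulAut.conjNormal_apply]; exact congrArg Subtype.val hn
      exact Subtype.ext (hfix n n.2 (mul_inv_eq_iff_eq_mul.1 h1))
    have h2 : Function.Involutive φ := fun n => Subtype.ext (by
      show ((MulAut.conjNormal z (MulAut.conjNormal z n) : N) : G) = n
      rw [MulAut.conjNormal_apply, MulAut.conjNormal_apply, hzi]
      calc z * (z * (n : G) * z) * z = (z * z) * n * (z * z) := by group
        _ = n := by rw [h.zz, one_mul, mul_one])
    have hinv : ∀ n ∈ N, z * n * z⁻¹ = n⁻¹ := fun n hn => by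
      have := congrFun (hφ.coe_eq_inv_of_involutive h2) ⟨n, hn⟩
      have h3 := congrArg Subtype.val this
      rw [MulAut.conjNormal_apply] at h3
      exact h3
    have hconj : ∀ (w : G) (s : G), (∀ n ∈ N, s * n * s⁻¹ = n⁻¹) →
        ∀ n ∈ N, (w * s * w⁻¹) * n * (w * s * w⁻¹)⁻¹ = n⁻¹ := fun w s hs n hn => by
      have h1 := hs _ (show w⁻¹ * n * w ∈ N by simpa using hnN w⁻¹ n hn)
      calc (w * s * w⁻¹) * n * (w * s * w⁻¹)⁻¹ = w * (s * (w⁻¹ * n * w) * s⁻¹) * w⁻¹ := by group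
        _ = w * (w⁻¹ * n * w)⁻¹ * w⁻¹ := by rw [h1]
        _ = n⁻¹ := by group
    obtain ⟨q, hq, hqu⟩ : ∃ q ∈ Q, ¬ q * (g * z * g⁻¹) = (g * z * g⁻¹) * q := by
      by_contra hne
      push Not at hne
      exact (h.cen _ hgQ hne).elim hgn1 hgne
    have hq2 := ((h.conj_cases hgQ hq).resolve_left hqu).2
    have hu := hconj g z hinv
    have huz := hconj q _ hu
    rw [hq2] at huz
    refine hN1 ((Subgroup.eq_bot_iff_forall N).2 fun n hn => hfix n hn ?_)
    have h3 : n = n⁻¹ := by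
      calc n = (n⁻¹)⁻¹ := (inv_inv n).symm
        _ = (g * z * g⁻¹) * (z * n * z⁻¹) * (g * z * g⁻¹)⁻¹ := by rw [hinv n hn, hu _ (inv_mem hn)]
        _ = ((g * z * g⁻¹) * z) * n * ((g * z * g⁻¹) * z)⁻¹ := by group
        _ = n⁻¹ := huz n hn
    exact mul_inv_eq_iff_eq_mul.1 ((hinv n hn).trans h3.symm)

/-- The Frattini argument. -/
theorem eq_top_of_cent_le (h : Spor.ExtraPair.Ext z Q) (hQ2 : IsPGroup 2 Q) (N : Subgroup G) [N.Normal]
    (hCN' : centralizer ({z} : Set G) ≤ N) : N = ⊤ := by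
  classical
  haveI : Fact (Nat.Prime 2) := ⟨Nat.prime_two⟩
  obtain ⟨C, hC⟩ : ∃ C, C = centralizer ({z} : Set G) := ⟨_, rfl⟩
  have hQC : Q ≤ C := hC ▸ Ext.le_cent h
  haveI : (Q.subgroupOf C).Normal := ⟨fun q hq c => h.norm c
    (mem_centralizer_singleton_iff.1 (hC ▸ c.2)) q hq⟩
  let S : Sylow 2 ↥C := default
  have hQS : Q.subgroupOf C ≤ (S : Subgroup ↥C) := by
    obtain ⟨R, hR⟩ := (hQ2.of_equiv (Subgroup.subgroupOfEquivOfLe hQC).symm).exists_le_sylow
    obtain ⟨c, hc⟩ := MulAction.exists_smul_eq ↥C R S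
    intro q hq
    rw [← hc]
    have h1 : c⁻¹ * q * c ∈ (R : Subgroup ↥C) := hR (by
      simpa using (inferInstance : (Q.subgroupOf C).Normal).conj_mem q hq c⁻¹)
    show q ∈ ((c • R : Sylow 2 ↥C) : Subgroup ↥C)
    rw [Sylow.coe_subgroup_smul]
    exact ⟨c⁻¹ * q * c, h1, show c * (c⁻¹ * q * c) * c⁻¹ = q by group⟩
  obtain ⟨T, hT⟩ : ∃ T, T = (S : Subgroup ↥C).map C.subtype := ⟨_, rfl⟩
  have hTC : T ≤ C := hT ▸ map_subtype_le _
  have hQT : Q ≤ T := fun q hq => hT ▸ ⟨⟨q, hQC hq⟩, hQS hq, rfl⟩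
  have hzT : ∀ t ∈ T, t * z = z * t := fun t ht => mem_centralizer_singleton_iff.1 (hC ▸ hTC ht)
  have hNT : normalizer (T : Set G) ≤ C := fun n hn => by
    have h1 : n * z * n⁻¹ ∈ Q ∧ ∀ q ∈ Q, q * (n * z * n⁻¹) = (n * z * n⁻¹) * q := by
      have key : ∀ q ∈ Q, q * (n * z * n⁻¹) = (n * z * n⁻¹) * q := fun q hq => by
        have hb : n⁻¹ * q * n ∈ T := by
          have := (mem_normalizer_iff.1 (inv_mem hn) q).1 (hQT hq)
          simpa using this
        calc q * (n * z * n⁻¹) = n * ((n⁻¹ * q * n) * z) * n⁻¹ := by group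
          _ = n * (z * (n⁻¹ * q * n)) * n⁻¹ := by rw [hzT _ hb]
          _ = _ := by group
      exact ⟨h.self _ key, key⟩
    rw [hC]
    refine mem_centralizer_singleton_iff.2 (mul_inv_eq_iff_eq_mul.1 ?_)
    exact (h.cen _ h1.1 h1.2).resolve_left fun e => h.ne (conj_eq_one_iff.1 e)
  have hTp : IsPGroup 2 T := hT ▸ S.isPGroup'.map C.subtype
  obtain ⟨P, hTP⟩ := hTp.exists_le_sylow
  have hPT : (P : Subgroup G) = T := by
    by_contra hne
    have hlt : T.subgroupOf (P : Subgroup G) < ⊤ :=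
      lt_top_iff_ne_top.2 fun e => hne (le_antisymm (Subgroup.subgroupOf_eq_top.1 e) hTP)
    haveI : Group.IsNilpotent (P : Subgroup G) := P.isPGroup'.isNilpotent
    obtain ⟨x, hxN, hxT⟩ := Set.exists_of_ssubset
      (Group.normalizerCondition_of_isNilpotent (G := (P : Subgroup G)) _ hlt)
    have hxn : (x : G) ∈ normalizer (T : Set G) := mem_normalizer_iff.2 fun t => by
      constructor
      · intro ht
        exact ((mem_normalizer_iff.1 hxN) ⟨t, hTP ht⟩).1 ht
      · intro ht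
        have h2 : t ∈ (P : Subgroup G) := by
          have := mul_mem (mul_mem (inv_mem x.2) (hTP ht)) x.2
          simpa [mul_assoc] using this
        exact ((mem_normalizer_iff.1 hxN) ⟨t, h2⟩).2 ht
    let R : Subgroup ↥C := ((P : Subgroup G) ⊓ C).subgroupOf C
    have hR : IsPGroup 2 R := (P.isPGroup'.to_le inf_le_left).of_equiv (Subgroup.subgroupOfEquivOfLe inf_le_right).symm
    have hSR : (S : Subgroup ↥C) ≤ R := fun s hs => by
      exact ⟨hTP (hT ▸ ⟨s, hs, rfl⟩), s.2⟩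
    have := S.is_maximal' hR hSR
    exact hxT (show (x : G) ∈ T from hT ▸ ⟨⟨x, hNT hxn⟩, this.le ⟨x.2, hNT hxn⟩, rfl⟩)
  have hCN : C ≤ N := hC ▸ hCN'
  have hPN : (P : Subgroup G) ≤ N := hPT ▸ hTC.trans hCN
  rw [← Sylow.normalizer_sup_eq_top' P hPN, sup_eq_right.2]
  show Subgroup.normalizer ((P : Subgroup G) : Set G) ≤ N
  rw [hPT]
  exact hNT.trans hCN

/-- The main theorem. -/
theorem isSimpleGroup (h : Spor.ExtraPair.Ext z Q) (hQ2 : IsPGroup 2 Q) (hbig : 8 < Nat.card Q)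
    (hirr : ∀ W : Subgroup G, W ≤ Q → centralizer ({z} : Set G) ≤ normalizer (W : Set G) →
      W = Q ∨ W ≤ zpowers z)
    (hsimp : ∀ W : Subgroup G, Q ≤ W → W ≤ centralizer ({z} : Set G) →
      centralizer ({z} : Set G) ≤ normalizer (W : Set G) → W = Q ∨ W = centralizer ({z} : Set G))
    {g : G} (hgQ : g * z * g⁻¹ ∈ Q) (hgne : g * z * g⁻¹ ≠ z) : IsSimpleGroup G := by
  haveI : Nontrivial G := ⟨z, 1, h.ne⟩
  refine ⟨fun N hN => ?_⟩
  by_cases hN1 : N = ⊥
  · exact Or.inl hN1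
  haveI := hN
  exact Or.inr (eq_top_of_cent_le h hQ2 N (cent_le h hbig hirr hsimp hgQ hgne N hN1))

/-- A subgroup normalised by `Q` on which `z` and some involutory non-central element of `Q` act without fixed
points is trivial. -/
theorem eq_bot_of_free (h : Spor.ExtraPair.Ext z Q) {u : G} (hu : u ∈ Q) (hu1 : u ≠ 1) (huz : u ≠ z)
    (huu : u * u = 1) (hkey : ∀ x, x * u = u * x → ∃ k : ℕ, (z * x * z⁻¹ * x⁻¹) ^ 2 ^ k = 1)
    (X : Subgroup G) (hX : ∀ q ∈ Q, ∀ x ∈ X, q * x * q⁻¹ ∈ X)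
    (hfix : ∀ x ∈ X, z * x = x * z → x = 1) : X = ⊥ := by
  classical
  have inv_of_free : ∀ (a : G), (∀ x ∈ X, a * x * a⁻¹ ∈ X) → a * a = 1 →
      (∀ x ∈ X, a * x = x * a → x = 1) → ∀ n ∈ X, a * n * a⁻¹ = n⁻¹ := fun a hn haa hf => by
    have hai : a⁻¹ = a := inv_eq_of_mul_eq_one_right haa
    let φ : X →* X :=
      { toFun := fun x => ⟨a * x * a⁻¹, hn x x.2⟩
        map_one' := Subtype.ext (by simp)
        map_mul' := fun x y => Subtype.ext (by simp [mul_assoc]) }
    have hφ : MonoidHom.FixedPointFree φ := fun x hx =>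
      Subtype.ext (hf x x.2 (mul_inv_eq_iff_eq_mul.1 (congrArg Subtype.val hx)))
    have h2 : Function.Involutive φ := fun x => Subtype.ext (by
      show a * (a * (x : G) * a⁻¹) * a⁻¹ = x
      rw [hai]
      calc a * (a * (x : G) * a) * a = (a * a) * x * (a * a) := by group
        _ = x := by rw [haa, one_mul, mul_one])
    intro n hn'
    exact congrArg Subtype.val (congrFun (hφ.coe_eq_inv_of_involutive h2) ⟨n, hn'⟩)
  have hinv := inv_of_free z (hX z h.mem) h.zz hfix
  have hno2 : ∀ x ∈ X, x * x = 1 → x = 1 := fun x hx hxx => hfix x hx (mul_inv_eq_iff_eq_mul.1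
    ((hinv x hx).trans (inv_eq_of_mul_eq_one_right hxx)))
  have hno2k : ∀ k : ℕ, ∀ x ∈ X, x ^ 2 ^ k = 1 → x = 1 := fun k => by
    induction k with
    | zero => intro x _ hx; simpa using hx
    | succ k ih =>
      intro x hx he
      exact hno2 x hx (ih _ (mul_mem hx hx) (by rw [← sq, ← pow_mul, ← pow_succ', he]))
  have hufix : ∀ x ∈ X, u * x = x * u → x = 1 := fun x hx hxu => by
    obtain ⟨k, hk⟩ := hkey x hxu.symm
    rw [hinv x hx] at hk
    exact hno2 x hx (inv_injective (by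
      rw [mul_inv_rev, inv_one]; exact hno2k k _ (mul_mem (inv_mem hx) (inv_mem hx)) hk))
  have hui := inv_of_free u (hX u hu) huu hufix
  obtain ⟨q, hq, hqu⟩ : ∃ q ∈ Q, ¬ q * u = u * q := by
    by_contra hne
    push Not at hne
    exact (h.cen _ hu hne).elim hu1 huz
  have hq2 := ((h.conj_cases hu hq).resolve_left hqu).2
  refine (Subgroup.eq_bot_iff_forall X).2 fun n hn => hfix n hn (mul_inv_eq_iff_eq_mul.1 ?_)
  have h1 : q⁻¹ * n * q ∈ X := by simpa using hX q⁻¹ (inv_mem hq) n hn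
  have huz' : (u * z) * n * (u * z)⁻¹ = n⁻¹ := by
    rw [← hq2]
    calc (q * u * q⁻¹) * n * (q * u * q⁻¹)⁻¹ = q * (u * (q⁻¹ * n * q) * u⁻¹) * q⁻¹ := by group
      _ = q * (q⁻¹ * n * q)⁻¹ * q⁻¹ := by rw [hui _ h1]
      _ = n⁻¹ := by group
  calc z * n * z⁻¹ = u⁻¹ * ((u * z) * n * (u * z)⁻¹) * u := by group
    _ = u * n⁻¹ * u⁻¹ := by rw [huz', inv_eq_of_mul_eq_one_right huu]
    _ = n := by rw [hui _ (inv_mem hn), inv_inv]

end Cfsg.Agent.Grp.ExtraCentSimple
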