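import Mathlib
import Cfsg.Prelude.Def_Transfer
import Cfsg.Agent.Lib.Grp.HallHigman
import Cfsg.Agent.Lib.Grp.ExtraspecialFixed

/-!
Cyclic groups acting freely on the central quotient of an extraspecial group.
-/

set_option autoImplicit false

namespace Cfsg.Agent.Grp

open Subgroup
open scoped commutatorElement

/-- The order of such a cyclic group divides `p ^ n + 1` or `p ^ n - 1`. -/
theorem cyclic_free_extraspecial {G : Type*} [Group G] [Finite G] {p : ℕ} [hp : Fact p.Prime]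
    (P H : Subgroup G) (hP : Cfsg.IsExtraspecial p ↥P) (n : ℕ) (hn : Nat.card P = p ^ (2 * n + 1))
    (hH : IsCyclic H) (hcop : (Nat.card H).Coprime p) (hHP : H ≤ normalizer (P : Set G))
    (hfix : ∀ x ∈ H, x ≠ 1 → P ⊓ centralizer {x} = (Subgroup.center ↥P).map P.subtype) :
    Nat.card H ∣ p ^ n + 1 ∨ Nat.card H ∣ p ^ n - 1 := by
  classical
  by_cases hh1 : Nat.card H = 1
  · rw [hh1]; exact Or.inl (one_dvd _)
  have hh : 2 ≤ Nat.card H := by have := Nat.card_pos (α := H); omega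
  obtain ⟨⟨-, -, hder⟩, hZp⟩ := hP
  set Z := (Subgroup.center ↥P).map P.subtype with hZ
  have hZP : Z ≤ P := Subgroup.map_subtype_le _
  have hZcard : Nat.card Z = p := by rw [hZ, Subgroup.card_map_of_injective P.subtype_injective, hZp]
  obtain ⟨x, hx⟩ := isCyclic_iff_exists_zpowers_eq_top.mp hH
  have hgen : Subgroup.zpowers (x : G) = H := by
    have h1 := congrArg (Subgroup.map H.subtype) hx
    rwa [MonoidHom.map_zpowers, ← MonoidHom.range_eq_map, Subgroup.range_subtype] at h1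
  have hord : orderOf (x : G) = Nat.card H := by rw [← Nat.card_zpowers, hgen]
  have hx1 : (x : G) ≠ 1 := fun e => hh1 (by rw [← hord, e, orderOf_one])
  have hxh : (x : G) ^ Nat.card H = 1 := by rw [← hord]; exact pow_orderOf_eq_one _
  have hxZ : ∀ z ∈ Z, (x : G) * z = z * x := fun z hz => by
    have h1 : z ∈ P ⊓ centralizer ({(x : G)} : Set G) := (hfix _ x.2 hx1).symm ▸ hz
    exact (Subgroup.mem_centralizer_singleton_iff.mp h1.2).symm
  have hZc : ∀ z ∈ Z, ∀ g ∈ P, g * z = z * g := fun z hz g hg => by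
    obtain ⟨w, hw, rfl⟩ := hz
    exact congrArg Subtype.val (Subgroup.mem_center_iff.mp hw ⟨g, hg⟩)
  -- the module
  set Γ := P ⊔ H with hΓ
  have hPΓ : P ≤ Γ := le_sup_left
  have hcent : ∀ (g : Γ), ∀ z ∈ Z, (g : G) * z = z * g := by
    intro g z hz
    have hle : Γ ≤ centralizer ({z} : Set G) := sup_le
      (fun a ha => Subgroup.mem_centralizer_singleton_iff.mpr (hZc z hz a ha))
      (hgen ▸ Subgroup.zpowers_le.mpr (Subgroup.mem_centralizer_singleton_iff.mpr (hxZ z hz)))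
    exact Subgroup.mem_centralizer_singleton_iff.mp (hle g.2)
  obtain ⟨z₀, hz₀⟩ := isCyclic_iff_exists_zpowers_eq_top.mp (isCyclic_of_prime_card hZcard : IsCyclic Z)
  have hz₀o : orderOf z₀ = p := by rw [← Nat.card_zpowers, hz₀, Subgroup.card_top, hZcard]
  obtain ⟨ζ, hζ⟩ : ∃ ζ : ℂ, IsPrimitiveRoot ζ p := ⟨_, Complex.isPrimitiveRoot_exp p hp.out.ne_zero⟩
  have hζu : orderOf (hζ.isUnit hp.out.ne_zero).unit = orderOf z₀ := by
    rw [hz₀o, ← orderOf_units, IsUnit.unit_spec, ← hζ.eq_orderOf]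
  let χ : ↥Z →* ℂˣ := monoidHomOfForallMemZpowers (g := z₀) (g' := (hζ.isUnit hp.out.ne_zero).unit)
    (fun z => by rw [hz₀]; exact mem_top z) (hζu ▸ dvd_rfl)
  let ω₀ : Γ → ℂ := fun g => if hg : (g : G) ∈ Z then (χ ⟨g, hg⟩ : ℂ) else 0
  have hω₀mul : ∀ g w : Γ, (w : G) ∈ Z → ω₀ (g * w) = ω₀ g * ω₀ w := by
    intro g w hw
    by_cases hg : (g : G) ∈ Z
    · have hgw : ((g * w : Γ) : G) ∈ Z := Z.mul_mem hg hw
      simp only [ω₀, dif_pos hgw, dif_pos hg, dif_pos hw]
      rw [← Units.val_mul, ← map_mul]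
      rfl
    · have hgw : ¬ ((g * w : Γ) : G) ∈ Z := fun h => hg (by
        have := Z.mul_mem h (Z.inv_mem hw)
        rwa [Subgroup.coe_mul, mul_inv_cancel_right] at this)
      simp only [ω₀, dif_neg hgw, dif_neg hg, zero_mul]
  let V : Submodule ℂ (Γ → ℂ) :=
    { carrier := {f | ∀ g w : Γ, (w : G) ∈ Z → f (g * w) = ω₀ w * f g}
      add_mem' := fun {a b} ha hb g w hw => by simp only [Pi.add_apply, ha g w hw, hb g w hw, mul_add]
      zero_mem' := fun g w hw => by simp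
      smul_mem' := fun c a ha g w hw => by simp only [Pi.smul_apply, smul_eq_mul, ha g w hw]; ring }
  have hf₀ : ω₀ ∈ V := fun g w hw => (hω₀mul g w hw).trans (mul_comm _ _)
  have hω₀1 : ω₀ 1 = 1 := by
    have h1 : ((1 : Γ) : G) ∈ Z := Z.one_mem
    simp only [ω₀, dif_pos h1]
    rw [show (⟨((1 : Γ) : G), h1⟩ : Z) = 1 from rfl, map_one, Units.val_one]
  haveI : Nontrivial V := ⟨⟨⟨ω₀, hf₀⟩, 0, fun e => one_ne_zero
    (hω₀1.symm.trans (congrFun (congrArg Subtype.val e) 1))⟩⟩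
  let ρ : Γ →* Module.End ℂ V :=
    { toFun := fun g =>
        { toFun := fun f => ⟨fun t => (f : Γ → ℂ) (g⁻¹ * t), fun t w hw => by
            show (f : Γ → ℂ) (g⁻¹ * (t * w)) = _
            rw [← mul_assoc, f.2 _ _ hw]⟩
          map_add' := fun a b => rfl
          map_smul' := fun c a => rfl }
      map_one' := LinearMap.ext fun f => Subtype.ext (funext fun t => by
        show (f : Γ → ℂ) (1⁻¹ * t) = _
        rw [inv_one, one_mul]; rfl)
      map_mul' := fun g g' => LinearMap.ext fun f => Subtype.ext (funext fun t => by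
        show (f : Γ → ℂ) ((g * g')⁻¹ * t) = (f : Γ → ℂ) (g'⁻¹ * (g⁻¹ * t))
        rw [mul_inv_rev, mul_assoc]) }
  set P' := P.subgroupOf Γ with hP'
  set Z' := Z.subgroupOf Γ with hZ'
  obtain ⟨d, hd, hd2, -⟩ := hallHigman_free ρ P' Z' ⟨x, Subgroup.mem_sup_right x.2⟩ hh
    (by exact_mod_cast Nat.card_pos.ne' : ((Nat.card H : ℕ) : ℂ) ≠ 0) (Subtype.ext hxh)
    (by
      rw [Subgroup.mem_normalizer_iff]
      exact fun g => Subgroup.mem_normalizer_iff.mp (hHP x.2) g)
    (fun w hw => Subtype.ext (hxZ _ hw))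
    (fun g hg t ht => ⟨⁅(⟨_, ht⟩ : ↥P), ⟨_, hg⟩⁆, hder.le
      (Subgroup.commutator_mem_commutator (mem_top _) (mem_top _)), rfl⟩)
    (fun w => ω₀ w⁻¹)
    (fun w hw => LinearMap.ext fun f => Subtype.ext (funext fun t => by
      have hw' : ((w⁻¹ : Γ) : G) ∈ Z := Z.inv_mem hw
      show (f : Γ → ℂ) (w⁻¹ * t) = ω₀ w⁻¹ * (f : Γ → ℂ) t
      rw [show w⁻¹ * t = t * w⁻¹ from Subtype.ext (hcent t _ hw').symm, f.2 _ _ hw']))
    (fun g hg hgZ => by
      by_contra hne
      push Not at hne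
      have hnd : ∀ w : Γ, (w : G) ∈ Z → ω₀ w⁻¹ = 1 → w = 1 := by
        intro w hw e
        have hw' : ((w⁻¹ : Γ) : G) ∈ Z := Z.inv_mem hw
        simp only [ω₀, dif_pos hw'] at e
        have hu : χ ⟨_, hw'⟩ = 1 := Units.val_injective (e.trans Units.val_one.symm)
        obtain ⟨i, hi⟩ := Subgroup.mem_zpowers_iff.mp (show (⟨_, hw'⟩ : Z) ∈ Subgroup.zpowers z₀ by rw [hz₀]; exact mem_top _)
        rw [← hi, map_zpow] at hu
        simp only [χ, monoidHomOfForallMemZpowers_apply_gen] at hu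
        rw [← orderOf_dvd_iff_zpow_eq_one, hζu, orderOf_dvd_iff_zpow_eq_one, hi] at hu
        exact (inv_eq_one.mp (Subtype.ext (congrArg (fun u : ↥Z => (u : G)) hu)))
      exact hgZ ⟨⟨g, hg⟩, Subgroup.mem_center_iff.mpr fun t =>
        Subtype.ext (commutatorElement_eq_one_iff_mul_comm.mp
          (congrArg Subtype.val (hnd _ ⟨⁅t, (⟨_, hg⟩ : ↥P)⁆, hder.le
            (Subgroup.commutator_mem_commutator (mem_top _) (mem_top _)), rfl⟩
            (hne ⟨t, hPΓ t.2⟩ t.2)))), rfl⟩)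
    (fun w hw => hZP hw)
    (fun i hi hih g hg hgz => by
      have hy1 : (x : G) ^ i ≠ 1 := pow_ne_one_of_lt_orderOf hi.ne' (by rw [hord]; exact hih)
      have h1 := commute_of_fixed_mod (Z := Z) (y := (x : G) ^ i) (g := (g : G)) (h := Nat.card H)
        (by rw [← pow_mul, mul_comm, pow_mul, hxh, one_pow])
        (fun z hz => ((show Commute (x : G) z from hxZ z hz).pow_left i).eq)
        (by rw [hZcard]; exact hcop) hgz
      show (g : G) ∈ Z
      rw [← hfix _ (H.pow_mem x.2 i) hy1]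
      exact ⟨hg, Subgroup.mem_centralizer_singleton_iff.mpr h1.symm⟩)
  have hdn : d = p ^ n := by
    rw [Subgroup.relIndex_subgroupOf hPΓ] at hd
    have h1 := card_mul_relIndex hZP
    rw [← hd, hZcard, hn, pow_succ', Nat.mul_right_inj hp.out.ne_zero, two_mul, pow_add] at h1
    exact Nat.mul_self_inj.mp h1
  rwa [hdn] at hd2

end Cfsg.Agent.Grp
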