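import Mathlib

/-!
# The determinant of a homocyclic group of exponent four

An automorphism group of a free `ℤ/4`-module of odd rank containing the inversion maps onto a group of order two.
-/

set_option autoImplicit false

namespace Cfsg.Agent.Grp.FourDet

universe u v

variable {F : Type u} [CommGroup F] [Finite F]

/-- An abelian group of exponent four in which every element of order two is a square is a power of `ℤ/4`. -/
theorem exists_equiv {n : ℕ} (hcard : Nat.card F = 4 ^ n) (h4 : ∀ x : F, x ^ 4 = 1)
    (hsq : ∀ x : F, x * x = 1 → ∃ y : F, y * y = x) :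
    Nonempty (Additive F ≃+ (Fin n → ZMod 4)) := by
  classical
  obtain ⟨ι, _, m, hm, ⟨e⟩⟩ := CommGroup.equiv_prod_multiplicative_zmod_of_finite F
  have hfour : ∀ i, m i = 4 := by
    intro i
    have hd : m i ∣ 4 := by
      set x := e.symm (Pi.mulSingle i (Multiplicative.ofAdd (1 : ZMod (m i))))
      have h := congrArg (fun w => e w i) (h4 x)
      simp only [x, map_pow, MulEquiv.apply_symm_apply, map_one, Pi.pow_apply, Pi.mulSingle_eq_same, Pi.one_apply,
        ← ofAdd_nsmul, nsmul_one, ofAdd_eq_one] at h
      exact (ZMod.natCast_eq_zero_iff 4 _ |>.mp h)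
    have hle := Nat.le_of_dvd (by norm_num) hd
    have h1 := hm i
    interval_cases hk : m i
    · exfalso
      set x := e.symm (Pi.mulSingle i (Multiplicative.ofAdd (1 : ZMod (m i))))
      have hx : x * x = 1 := e.injective (by
        rw [map_mul, map_one]
        ext j
        simp only [x, MulEquiv.apply_symm_apply, Pi.mul_apply, Pi.one_apply]
        rcases eq_or_ne j i with rfl | hj
        · rw [Pi.mulSingle_eq_same, ← ofAdd_add, toAdd_ofAdd, toAdd_one]
          rw [← Nat.cast_one, ← Nat.cast_add, ZMod.natCast_eq_zero_iff]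
          rw [hk]
        · simp [Pi.mulSingle_eq_of_ne hj])
      obtain ⟨y, hy⟩ := hsq x hx
      have h := congrArg (fun w => (Multiplicative.toAdd (e w i))) hy
      simp only [x, map_mul, MulEquiv.apply_symm_apply, Pi.mul_apply, Pi.mulSingle_eq_same, toAdd_mul, toAdd_ofAdd] at h
      revert h
      generalize Multiplicative.toAdd (e y i) = a
      revert a
      rw [hk]
      decide
    · exfalso
      revert hd
      norm_num
    · rfl
  have hι : Fintype.card ι = n := by
    have h := Nat.card_congr e.toEquiv
    rw [hcard, Nat.card_pi] at h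
    simp only [Nat.card_congr Multiplicative.toAdd, Nat.card_zmod, hfour, Finset.prod_const, Finset.card_univ] at h
    exact (Nat.pow_right_injective (le_refl 4 |>.trans' (by norm_num)) h).symm
  let r : ι ≃ Fin n := Fintype.equivFinOfCardEq hι
  have e1 : ((i : ι) → Multiplicative (ZMod (m i))) ≃* Multiplicative (Fin n → ZMod 4) :=
    (MulEquiv.piCongrRight fun i => AddEquiv.toMultiplicative (ZMod.ringEquivCongr (hfour i)).toAddEquiv).trans
      ((MulEquiv.piMultiplicative fun _ : ι => ZMod 4).symm.trans
        (AddEquiv.toMultiplicative (AddEquiv.arrowCongr r (AddEquiv.refl _))))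
  exact ⟨MulEquiv.toAdditiveLeft (e.trans e1)⟩

/-- A group acting on such a group of odd rank, with an element acting as inversion, has a subgroup of index two. -/
theorem exists_hom_two {H : Type v} [Group H] {n : ℕ} (hn : Odd n) (hcard : Nat.card F = 4 ^ n)
    (h4 : ∀ x : F, x ^ 4 = 1) (hsq : ∀ x : F, x * x = 1 → ∃ y : F, y * y = x) (φ : H →* MulAut F) {u : H}
    (hu : ∀ x, φ u x = x⁻¹) : ∃ N : Subgroup H, N.index = 2 ∧ u ∉ N := by
  obtain ⟨e⟩ := exists_equiv hcard h4 hsq
  haveI : Fact (1 < 4) := ⟨by norm_num⟩
  let toEnd : H →* Module.End (ZMod 4) (Fin n → ZMod 4) :=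
    { toFun := fun h => (e.toAddMonoidHom.comp
        ((MulEquiv.toAdditive (φ h)).toAddMonoidHom.comp e.symm.toAddMonoidHom)).toZModLinearMap 4
      map_one' := by
        refine LinearMap.ext fun v => ?_
        simp
      map_mul' := fun a b => by
        refine LinearMap.ext fun v => ?_
        simp }
  let d : H →* (ZMod 4)ˣ := MonoidHom.toHomUnits (LinearMap.det.comp toEnd)
  have hdu : (d u : ZMod 4) = -1 := by
    have h1 : toEnd u = (-1 : ZMod 4) • LinearMap.id := by
      refine LinearMap.ext fun v => ?_
      rw [LinearMap.smul_apply, LinearMap.id_apply, neg_smul, one_smul]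
      change e (Additive.ofMul (φ u (Additive.toMul (e.symm v)))) = -v
      rw [hu, ofMul_inv, map_neg, ofMul_toMul, AddEquiv.apply_symm_apply]
    change LinearMap.det (toEnd u) = -1
    rw [h1, LinearMap.det_smul, LinearMap.det_id, mul_one, Module.finrank_fin_fun, hn.neg_one_pow]
  refine ⟨d.ker, ?_, fun h => ?_⟩
  · have hrange : d.range = ⊤ := by
      refine Subgroup.eq_top_iff' _ |>.2 fun x => ?_
      have hx : x = 1 ∨ x = d u := by
        have : ∀ a : (ZMod 4)ˣ, a = 1 ∨ (a : ZMod 4) = -1 := by decide
        rcases this x with h | h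
        · exact Or.inl h
        · exact Or.inr (Units.ext (h.trans hdu.symm))
      rcases hx with rfl | rfl
      · exact one_mem _
      · exact ⟨u, rfl⟩
    rw [Subgroup.index_ker, hrange, Subgroup.card_top, Nat.card_eq_fintype_card, ZMod.card_units_eq_totient]
    rfl
  · rw [MonoidHom.mem_ker] at h
    rw [h, Units.val_one] at hdu
    exact absurd hdu (by decide)

end Cfsg.Agent.Grp.FourDet
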