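import Mathlib
import Cfsg.Agent.Lib.Recog.Frobenius
import Cfsg.Agent.Lib.Grp.Coprime

/-!
Conjugacy of Frobenius complements, proved without Frobenius's theorem.
-/

namespace Cfsg.Agent.Grp

open scoped Pointwise
open Subgroup Cfsg

universe u

variable {G : Type u} [Group G]

theorem IsFrobeniusComplement.conj {H : Subgroup G} (hH : IsFrobeniusComplement H) (g : G) :
    IsFrobeniusComplement (MulAut.conj g • H) := by
  refine ⟨fun h => hH.1 ?_, fun h => hH.2.1 ?_, fun x hx => ?_⟩
  · have := congrArg (fun Z => MulAut.conj g⁻¹ • Z) h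
    simp only [conj_smul_conj_smul, inv_mul_cancel, map_one, one_smul, Subgroup.smul_bot] at this
    exact this
  · have := congrArg (fun Z => MulAut.conj g⁻¹ • Z) h
    simp only [conj_smul_conj_smul, inv_mul_cancel, map_one, one_smul] at this
    rw [this, ← map_conj_eq_smul,
      Subgroup.map_top_of_surjective _ (MulAut.conj g⁻¹).surjective]
  · have h1 : g⁻¹ * x * g ∉ H := fun h => hx (mem_smul_conj.mpr h)
    have := congrArg (fun Z => MulAut.conj g • Z) (hH.2.2 _ h1)
    simp only [Subgroup.smul_inf, conj_smul_conj_smul, Subgroup.smul_bot] at this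
    rwa [show g * (g⁻¹ * x * g) = x * g by group, ← conj_smul_conj_smul] at this

theorem card_sub_one_mul_le [Finite G] {H H₀ : Subgroup G} (hH : IsFrobeniusComplement H)
    (hH₀ : IsFrobeniusComplement H₀) {y : G} (hy : y ∈ H₀) (hy1 : y ≠ 1)
    (hyK : y ∈ frobeniusKernel H) : H₀.index < H.index := by
  classical
  let Φ : Option (G ⧸ H₀) → frobeniusKernel H := fun q =>
    q.elim ⟨1, Frob.one_mem_kernel⟩ fun q => ⟨q.out * y * q.out⁻¹, Frob.conj_mem_kernel hyK _⟩
  have hΦ : Function.Injective Φ := by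
    rintro (_ | a) (_ | b) h
    · rfl
    · exact absurd (conj_eq_one_iff.mp (congrArg Subtype.val h).symm) hy1
    · exact absurd (conj_eq_one_iff.mp (congrArg Subtype.val h)) hy1
    · have h' : a.out * y * a.out⁻¹ = b.out * y * b.out⁻¹ := congrArg Subtype.val h
      have := Frob.inv_mul_mem_of_mem_conj hH₀ (g := a.out) (f := b.out)
        (x := a.out * y * a.out⁻¹) (fun e => hy1 (conj_eq_one_iff.mp e)) (by simpa [mul_assoc] using hy)
        (by rw [h']; simpa [mul_assoc] using hy)
      rw [← QuotientGroup.out_eq' a, ← QuotientGroup.out_eq' b]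
      exact congrArg some (QuotientGroup.eq.mpr this)
  have := Nat.card_le_card_of_injective Φ hΦ
  rw [Frob.card_kernel hH, Finite.card_option, ← Subgroup.index_eq_card] at this
  omega

/-- Smaller complements are conjugate into larger ones, in groups of order `n`. -/
def ConjInto (n : ℕ) : Prop :=
  ∀ (G : Type u) [Group G] [Finite G], Nat.card G = n → ∀ H H₀ : Subgroup G,
    IsFrobeniusComplement H → IsFrobeniusComplement H₀ → Nat.card H₀ ≤ Nat.card H →
    ∃ g : G, MulAut.conj g • H₀ ≤ H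

theorem le_conj_of_forall_mem [Finite G] (ih : ∀ m < Nat.card G, ConjInto.{u} m) {H : Subgroup G}
    (hH : IsFrobeniusComplement H) (L : Subgroup G)
    (hL : ∀ y ∈ L, ∃ g : G, y ∈ MulAut.conj g • H) : ∃ g : G, L ≤ MulAut.conj g • H := by
  classical
  rcases eq_or_ne L ⊥ with rfl | hLb
  · exact ⟨1, bot_le⟩
  have hLt : L ≠ ⊤ := by
    rintro rfl
    have hsub : frobeniusKernel H ⊆ ({1} : Set G) := by
      intro x hx
      by_contra hx1
      obtain ⟨g, hg⟩ := hL x (Subgroup.mem_top x)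
      rcases Frob.mem_kernel_iff.mp hx with h | h
      · exact hx1 h
      · exact h g (mem_smul_conj.mp hg)
    have h1 := Set.ncard_le_ncard hsub (Set.toFinite _)
    rw [Set.ncard_singleton, ← Nat.card_coe_set_eq, Frob.card_kernel hH] at h1
    exact absurd h1 (not_le.mpr (Subgroup.one_lt_index_of_ne_top hH.2.1))
  by_contra hcon
  push Not at hcon
  set F : G → Subgroup L := fun g => (MulAut.conj g • H).subgroupOf L with hF
  have hFc : ∀ g, F g ≠ ⊥ → IsFrobeniusComplement (F g) := by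
    intro g hg
    refine ⟨hg, fun h => hcon g (Subgroup.subgroupOf_eq_top.mp h), fun l hl => ?_⟩
    rw [Subgroup.eq_bot_iff_forall]
    rintro z ⟨hz1, hz2⟩
    replace hz2 : l⁻¹ * z * l ∈ F g := mem_smul_conj.mp hz2
    have h' := (IsFrobeniusComplement.conj hH g).2.2 (l : G) hl
    refine Subtype.ext (Subgroup.mem_bot.mp (h' ▸ ?_))
    exact ⟨hz1, mem_smul_conj.mpr (by simpa [hF, Subgroup.mem_subgroupOf] using hz2)⟩
  have key : ∀ (g g' : G) (l : L), F g ≠ ⊥ → MulAut.conj l • F g ≤ F g' →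
      MulAut.conj l • F g = F g' := by
    intro g g' l hg hle
    refine le_antisymm hle fun z hz => ?_
    obtain ⟨⟨x, hx⟩, hx1⟩ := Subgroup.ne_bot_iff_exists_ne_one.mp hg
    have hxg : (x : G) ∈ MulAut.conj g • H := hx
    have hxg' : (l : G) * x * (l : G)⁻¹ ∈ MulAut.conj g' • H :=
      hle (show l * x * l⁻¹ ∈ MulAut.conj l • F g by rw [mem_smul_conj]; simpa [mul_assoc] using hx)
    rw [mem_smul_conj] at hxg hxg'
    have hne : (l : G) * x * (l : G)⁻¹ ≠ 1 := fun e =>
      hx1 (Subtype.ext (Subtype.ext (conj_eq_one_iff.mp e)))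
    have h2 := Frob.inv_mul_mem_of_mem_conj hH hne (g := (l : G) * g) (f := g')
      (by simpa [mul_assoc] using hxg) hxg'
    rw [mem_smul_conj]
    have hz' : g'⁻¹ * (z : G) * g' ∈ H := mem_smul_conj.mp hz
    show ((l⁻¹ * z * l : L) : G) ∈ MulAut.conj g • H
    rw [mem_smul_conj]
    have := H.mul_mem (H.mul_mem h2 hz') (H.inv_mem h2)
    simpa [mul_assoc] using this
  obtain ⟨x, hx, hx1⟩ := (Subgroup.bot_or_exists_ne_one L).resolve_left hLb
  obtain ⟨g, hg⟩ := hL x hx
  have hne : ∀ (g : G) (x : G) (hx : x ∈ L), x ≠ 1 → x ∈ MulAut.conj g • H → F g ≠ ⊥ :=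
    fun g x hx hx1 hg h => hx1 (congrArg Subtype.val ((Subgroup.eq_bot_iff_forall _).mp h ⟨x, hx⟩ hg))
  have hD := hFc g (hne g x hx hx1 hg)
  obtain ⟨y, hy, hy1⟩ : ∃ y ∈ frobeniusKernel (F g), y ≠ 1 := by
    refine Set.exists_ne_of_one_lt_ncard ?_ 1
    rw [← Nat.card_coe_set_eq, Frob.card_kernel hD]
    exact Subgroup.one_lt_index_of_ne_top hD.2.1
  obtain ⟨g', hg'⟩ := hL y y.2
  have hy1' : (y : G) ≠ 1 := fun e => hy1 (Subtype.ext e)
  have hD' := hFc g' (hne g' y y.2 hy1' hg')
  have hno : ∀ l : L, y ∉ MulAut.conj l • F g := by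
    intro l hl
    rcases Frob.mem_kernel_iff.mp hy with h | h
    · exact hy1 h
    · exact h l (mem_smul_conj.mp hl)
  have hlt : Nat.card L < Nat.card G := card_lt_of_ne_top hLt
  rcases le_total (Nat.card (F g)) (Nat.card (F g')) with hle | hle
  · obtain ⟨l, hl⟩ := ih _ hlt L rfl _ _ hD' hD hle
    exact hno l ((key g g' l hD.1 hl).symm ▸ hg')
  · obtain ⟨l, hl⟩ := ih _ hlt L rfl _ _ hD hD' hle
    refine hno l⁻¹ ?_
    rw [← key g' g l hD'.1 hl, conj_smul_conj_smul, inv_mul_cancel, map_one, one_smul]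
    exact hg'

theorem frobenius_conj_into : ∀ n, ConjInto.{u} n := by
  intro n
  induction n using Nat.strong_induction_on with
  | _ n ih =>
  intro G _ _ hn H H₀ hH hH₀ hle
  have hall : ∀ y ∈ H₀, ∃ g : G, y ∈ MulAut.conj g • H := by
    intro y hy
    rcases eq_or_ne y 1 with rfl | hy1
    · exact ⟨1, Subgroup.one_mem _⟩
    by_contra hcon
    push Not at hcon
    have := card_sub_one_mul_le hH hH₀ hy hy1 (Or.inr hcon)
    have h1 := H.card_mul_index
    have h2 := H₀.card_mul_index
    have h3 : Nat.card H₀ * H₀.index < Nat.card H * H.index :=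
      lt_of_le_of_lt (Nat.mul_le_mul_right _ hle) (Nat.mul_lt_mul_of_pos_left this Nat.card_pos)
    omega
  obtain ⟨g, hg⟩ := le_conj_of_forall_mem (by rw [hn]; exact ih) hH H₀ hall
  refine ⟨g⁻¹, ?_⟩
  have := (Subgroup.pointwise_smul_le_pointwise_smul_iff (a := MulAut.conj g⁻¹)).mpr hg
  rwa [conj_smul_conj_smul, inv_mul_cancel, map_one, one_smul] at this

/-- A subgroup whose order divides that of a Frobenius complement lies in a conjugate of it. -/
theorem frobenius_le_conj_of_card_dvd [Finite G] {H : Subgroup G} (hH : IsFrobeniusComplement H)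
    (L : Subgroup G) (hL : Nat.card L ∣ Nat.card H) : ∃ g : G, L ≤ MulAut.conj g • H := by
  refine le_conj_of_forall_mem (fun m _ => frobenius_conj_into m) hH L fun y hy => ?_
  rcases eq_or_ne y 1 with rfl | hy1
  · exact ⟨1, Subgroup.one_mem _⟩
  obtain ⟨p, hp, hpd⟩ := Nat.exists_prime_and_dvd (mt orderOf_eq_one_iff.mp hy1)
  have := Fact.mk hp
  set z := y ^ (orderOf y / p) with hz
  have hzo : orderOf z = p := orderOf_pow_orderOf_div (orderOf_pos y).ne' hpd
  have hpH : p ∣ Nat.card H := hpd.trans ((L.orderOf_dvd_natCard hy).trans hL)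
  have hcop : ¬ p ∣ H.index :=
    fun h => Nat.not_coprime_of_dvd_of_dvd hp.one_lt hpH h (Frob.coprime_card_index hH)
  obtain ⟨P⟩ : Nonempty (Sylow p H) := Sylow.nonempty
  obtain ⟨R, hR⟩ := (P.isPGroup'.map H.subtype).exists_le_sylow
  have hRP : (P : Subgroup H).map H.subtype = R := by
    refine Subgroup.eq_of_le_of_card_ge hR (le_of_eq ?_)
    rw [Subgroup.card_map_of_injective (Subgroup.subtype_injective H), R.card_eq_multiplicity,
      P.card_eq_multiplicity]
    congr 1
    rw [← H.card_mul_index, Nat.factorization_mul Nat.card_pos.ne' Subgroup.index_ne_zero_of_finite,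
      Finsupp.add_apply, Nat.factorization_eq_zero_of_not_dvd hcop, add_zero]
  have hzp : IsPGroup p (Subgroup.zpowers z) :=
    IsPGroup.of_card (n := 1) (by rw [Nat.card_zpowers, hzo, pow_one])
  obtain ⟨R', hR'⟩ := hzp.exists_le_sylow
  obtain ⟨g, hg⟩ := MulAction.exists_smul_eq G R R'
  refine ⟨g, ?_⟩
  have hzg : z ∈ MulAut.conj g • H := by
    have h1 : z ∈ (R' : Subgroup G) := hR' (Subgroup.mem_zpowers z)
    rw [← hg, Sylow.coe_subgroup_smul, ← hRP] at h1
    exact Subgroup.pointwise_smul_le_pointwise_smul_iff.mpr (Subgroup.map_subtype_le _) h1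
  have hz1 : z ≠ 1 := fun e => hp.ne_one (by rw [← hzo, e, orderOf_one])
  refine Frob.centralizer_le (IsFrobeniusComplement.conj hH g) hzg hz1 ?_
  rw [Subgroup.mem_centralizer_singleton_iff, hz]
  exact (Commute.self_pow y _).eq

end Cfsg.Agent.Grp
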