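import Mathlib
import Cfsg.Prelude.Def_Transfer
import Cfsg.Prelude.Def_Solvable
import Cfsg.Agent.Lib.Grp.FrobeniusTheorem
import Cfsg.Agent.Lib.Recog.Frobenius

/-!
A Frobenius group with complement of prime order fixing only a line in a coprime module: the derived
subgroup of the kernel acts trivially.
-/

set_option autoImplicit false

namespace Cfsg.Agent.Grp

open Module
open scoped commutatorElement TensorProduct

/-- If the orbit sums of a fixed-point-free element of prime order acting on a module lie on one line, the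
derived subgroup of the nilpotent normal subgroup it acts on is represented trivially. -/
theorem rep_commutator_trivial {K : Type*} [Field K] [IsAlgClosed K] {Γ : Type*} [Group Γ] [Finite Γ]
    {V : Type*} [AddCommGroup V] [Module K V] [FiniteDimensional K V] (ρ : Γ →* Module.End K V)
    (N : Subgroup Γ) [N.Normal] [Group.IsNilpotent N] {x : Γ} {r : ℕ} (hr : r.Prime) (hxr : x ^ r = 1)
    (hfpf : ∀ n ∈ N, x * n = n * x → n = 1) (hcard : (Nat.card ↥⁅N, N⁆ : K) ≠ 0) (w : V)
    (hline : ∀ v : V, (∑ i ∈ Finset.range r, ρ (x ^ i)) v ∈ K ∙ w) :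
    ∀ k ∈ ⁅N, N⁆, ρ k = 1 := by
  classical
  letI : Fintype ↥⁅N, N⁆ := Fintype.ofFinite _
  -- minimal invariant submodules are fixed by commutators
  have hmin : ∀ U : Submodule K V, U ≠ ⊥ → (∀ n ∈ N, ∀ v ∈ U, ρ n v ∈ U) →
      (∀ S : Submodule K V, S ≤ U → (∀ n ∈ N, ∀ v ∈ S, ρ n v ∈ S) → S = ⊥ ∨ S = U) →
      ∀ k ∈ ⁅N, N⁆, ∀ u ∈ U, ρ k u = u := by
    intro U hU0 hUinv hUirr
    obtain ⟨u, hu, hu0⟩ := U.exists_mem_ne_zero_of_ne_bot hU0
    -- it suffices that `U` is a line
    suffices hdim : finrank K U ≤ 1 by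
      have hUu : U = K ∙ u := (Submodule.eq_of_le_of_finrank_le ((Submodule.span_singleton_le_iff_mem u U).mpr hu)
        (by rw [finrank_span_singleton hu0]; exact hdim)).symm
      intro k hk v hv
      have hsc : ∀ n ∈ N, ∃ c : K, c • u = ρ n u := fun n hn =>
        Submodule.mem_span_singleton.mp (hUu ▸ hUinv n hn u hu)
      have hcomm : ∀ a ∈ N, ∀ b ∈ N, ρ (a * b) u = ρ (b * a) u := by
        intro a ha b hb
        obtain ⟨c, hc⟩ := hsc a ha
        obtain ⟨d, hd⟩ := hsc b hb
        rw [map_mul, map_mul, Module.End.mul_apply, Module.End.mul_apply, ← hc, ← hd, map_smul, map_smul,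
          ← hc, ← hd, smul_smul, smul_smul, mul_comm c d]
      let F : Subgroup Γ :=
        { carrier := {g | ρ g u = u}
          one_mem' := by show ρ 1 u = u; rw [map_one]; rfl
          mul_mem' := fun {a b} ha hb => by
            show ρ (a * b) u = u
            rw [map_mul, Module.End.mul_apply, show ρ b u = u from hb, show ρ a u = u from ha]
          inv_mem' := fun {a} ha => by
            show ρ a⁻¹ u = u
            conv_lhs => rw [← show ρ a u = u from ha]
            rw [← Module.End.mul_apply, ← map_mul, inv_mul_cancel, map_one, Module.End.one_apply] }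
      have hle : ⁅N, N⁆ ≤ F := Subgroup.commutator_le.mpr fun a ha b hb => by
        show ρ ⁅a, b⁆ u = u
        obtain ⟨c, hc⟩ := hsc (b * a)⁻¹ (N.inv_mem (N.mul_mem hb ha))
        rw [show ⁅a, b⁆ = a * b * (b * a)⁻¹ by rw [commutatorElement_def]; group, map_mul (ρ) (a * b),
          Module.End.mul_apply, ← hc, map_smul, hcomm a ha b hb, ← map_smul, hc, ← Module.End.mul_apply,
          ← map_mul, mul_inv_cancel, map_one, Module.End.one_apply]
      obtain ⟨c, rfl⟩ := Submodule.mem_span_singleton.mp (hUu ▸ hv)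
      rw [map_smul, show ρ k u = u from hle hk]
    by_contra hdim
    push Not at hdim
    -- `N` moves `U`
    obtain ⟨n₀, hn₀, v₀, hv₀, hmove⟩ : ∃ n ∈ N, ∃ v ∈ U, ρ n v ≠ v := by
      by_contra hne
      push Not at hne
      refine absurd hdim (not_lt.mpr ?_)
      have hinv : ∀ n ∈ N, ∀ v ∈ K ∙ u, ρ n v ∈ K ∙ u := by
        intro n hn v hv
        rwa [hne n hn v ((Submodule.span_singleton_le_iff_mem u U).mpr hu hv)]
      rcases hUirr _ ((Submodule.span_singleton_le_iff_mem u U).mpr hu) hinv with h | h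
      · exact absurd (Submodule.span_singleton_eq_bot.mp h) hu0
      · rw [← h, finrank_span_singleton hu0]
    -- the elements fixing all translates of `U`
    let C : Set N := {n | ∀ j : ℕ, ∀ v ∈ U, ρ ((x ^ j)⁻¹ * (n : Γ) * x ^ j) v = v}
    have hC : (⟨n₀, hn₀⟩ : N) ∉ C := fun h => hmove (by simpa using h 0 v₀ hv₀)
    obtain ⟨i, hi, hi'⟩ : ∃ i : ℕ, (Subgroup.upperCentralSeries N i : Set N) ⊆ C ∧
        ¬ (Subgroup.upperCentralSeries N (i + 1) : Set N) ⊆ C := by
      by_contra hne
      push Not at hne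
      have hall : ∀ i : ℕ, (Subgroup.upperCentralSeries N i : Set N) ⊆ C := by
        intro i
        induction i with
        | zero =>
          intro n hn j v hv
          rw [Subgroup.upperCentralSeries_zero, SetLike.mem_coe, Subgroup.mem_bot] at hn
          subst hn
          simp
        | succ i ih => exact hne i ih
      obtain ⟨c, hc⟩ := Group.IsNilpotent.nilpotent (G := N)
      exact hC (hall c (by rw [hc]; exact Subgroup.mem_top _))
    let Z : Subgroup Γ := (Subgroup.upperCentralSeries N (i + 1)).map N.subtype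
    have hZN : ∀ z ∈ Z, z ∈ N := by rintro _ ⟨z, -, rfl⟩; exact z.2
    have hZconj : ∀ g : Γ, ∀ z ∈ Z, g⁻¹ * z * g ∈ Z := by
      intro g z hz
      haveI : Z.Normal := inferInstance
      simpa using ‹Z.Normal›.conj_mem z hz g⁻¹
    have hcent : ∀ z ∈ Z, ∀ n ∈ N, ∀ v ∈ U, ρ z (ρ n v) = ρ n (ρ z v) := by
      rintro _ ⟨z, hz, rfl⟩ n hn v hv
      have hvz : ρ (z : Γ) v ∈ U := hUinv _ z.2 v hv
      have h1 : z * ⟨n, hn⟩ * z⁻¹ * (⟨n, hn⟩ : N)⁻¹ ∈ Subgroup.upperCentralSeries N i :=
        (Subgroup.mem_upperCentralSeries_succ_iff).mp hz ⟨n, hn⟩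
      have h2 := hi h1 0 (ρ n (ρ (z : Γ) v)) (hUinv n hn _ hvz)
      simp only [pow_zero, inv_one, one_mul, mul_one, Subgroup.coe_mul, InvMemClass.coe_inv] at h2
      rw [show ρ n (ρ (z : Γ) v) = ρ (n * z) v by rw [map_mul]; rfl, ← Module.End.mul_apply, ← map_mul,
        show (z : Γ) * n * (z : Γ)⁻¹ * n⁻¹ * (n * z) = z * n by group] at h2
      show ρ (z : Γ) (ρ n v) = ρ n (ρ (z : Γ) v)
      rw [show ρ n (ρ (z : Γ) v) = ρ (n * z) v by rw [map_mul]; rfl, ← h2, map_mul, Module.End.mul_apply]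
    have hscal : ∀ z ∈ Z, ∃ c : K, ∀ v ∈ U, ρ z v = c • v := by
      intro z hz
      haveI : Nontrivial U := Submodule.nontrivial_iff_ne_bot.mpr hU0
      obtain ⟨c, hc⟩ := Module.End.exists_eigenvalue (K := K) (V := ↥U) ((ρ z).restrict (hUinv z (hZN z hz)))
      obtain ⟨v₁, hv₁, hv₁0⟩ := hc.exists_hasEigenvector
      have hv₁' : ρ z (v₁ : V) = c • (v₁ : V) := congrArg Subtype.val (Module.End.mem_eigenspace_iff.mp hv₁)
      have hinv : ∀ n ∈ N, ∀ v ∈ U ⊓ Module.End.eigenspace (ρ z) c,
          ρ n v ∈ U ⊓ Module.End.eigenspace (ρ z) c := by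
        intro n hn v hv
        obtain ⟨hvU, hvE⟩ := Submodule.mem_inf.mp hv
        refine Submodule.mem_inf.mpr ⟨hUinv n hn v hvU, Module.End.mem_eigenspace_iff.mpr ?_⟩
        rw [hcent z hz n hn v hvU, Module.End.mem_eigenspace_iff.mp hvE, map_smul]
      refine ⟨c, fun v hv => ?_⟩
      rcases hUirr _ inf_le_left hinv with h | h
      · exfalso
        refine hv₁0 (Subtype.ext ?_)
        exact (Submodule.mem_bot K).mp (h ▸ Submodule.mem_inf.mpr ⟨v₁.2, Module.End.mem_eigenspace_iff.mpr hv₁'⟩)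
      · rw [← h] at hv
        exact Module.End.mem_eigenspace_iff.mp (Submodule.mem_inf.mp hv).2
    choose c hc using hscal
    have huniq : ∀ a b : K, a • u = b • u → a = b := fun a b e => smul_left_injective K hu0 e
    have hcmul : ∀ a b (ha : a ∈ Z) (hb : b ∈ Z), c (a * b) (Z.mul_mem ha hb) = c a ha * c b hb := by
      intro a b ha hb
      refine huniq _ _ ?_
      rw [← hc _ _ u hu, map_mul, Module.End.mul_apply, hc b hb u hu, map_smul, hc a ha u hu, smul_smul, mul_comm]
    have hc1 : c 1 Z.one_mem = 1 := by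
      refine huniq _ _ ?_
      rw [← hc _ _ u hu, map_one, one_smul]; rfl
    let χ : ℕ → (↥Z →* K) := fun j =>
      { toFun := fun z => c ((x ^ j)⁻¹ * (z : Γ) * x ^ j) (hZconj _ _ z.2)
        map_one' := by
          refine Eq.trans ?_ hc1
          congr 1
          simp
        map_mul' := fun a b => by
          refine Eq.trans ?_ (hcmul _ _ (hZconj _ _ a.2) (hZconj _ _ b.2))
          congr 1
          rw [Subgroup.coe_mul]; group }
    have hχ : ∀ j (z : ↥Z), ρ (z : Γ) (ρ (x ^ j) u) = χ j z • ρ (x ^ j) u := by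
      intro j z
      show _ = c _ (hZconj _ _ z.2) • _
      rw [← map_smul, ← hc _ _ u hu, ← Module.End.mul_apply, ← map_mul, ← Module.End.mul_apply, ← map_mul]
      congr 2
      group
    -- the characters are distinct
    have hχinj : Function.Injective fun j : Fin r => χ j := by
      intro a b hab
      by_contra hne
      simp only at hab
      wlog hlt : (a : ℕ) < b generalizing a b
      · exact this hab.symm (Ne.symm hne) (lt_of_le_of_ne (not_lt.mp hlt) fun e => hne (Fin.ext e.symm))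
      obtain ⟨d, hd⟩ := Nat.exists_eq_add_of_lt hlt
      have hdr : d + 1 < r := by have := b.2; omega
      set y := x ^ (d + 1) with hy
      have hy' : ∀ z : ↥Z, χ 0 z = χ (d + 1) z := by
        intro z
        have hz : x ^ (a : ℕ) * (z : Γ) * (x ^ (a : ℕ))⁻¹ ∈ Z := by
          simpa using hZconj (x ^ (a : ℕ))⁻¹ (z : Γ) z.2
        have e := DFunLike.congr_fun hab ⟨_, hz⟩
        refine Eq.trans ?_ (e.trans ?_)
        · show c _ _ = c _ _
          congr 1
          simp only [pow_zero]; group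
        · show c _ _ = c _ _
          congr 1
          rw [hd, show (a : ℕ) + d + 1 = (a : ℕ) + (d + 1) by omega, pow_add]; group
      have hsurj : Function.Surjective fun z : ↥Z =>
          (⟨(z : Γ)⁻¹ * (y⁻¹ * z * y), Z.mul_mem (Z.inv_mem z.2) (hZconj y _ z.2)⟩ : ↥Z) := by
        refine Finite.injective_iff_surjective.mp fun m n hmn => ?_
        have e : (m : Γ)⁻¹ * (y⁻¹ * m * y) = (n : Γ)⁻¹ * (y⁻¹ * n * y) := congrArg Subtype.val hmn
        have hcy : ((n : Γ) * (m : Γ)⁻¹) * y⁻¹ = y⁻¹ * ((n : Γ) * (m : Γ)⁻¹) := by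
          calc ((n : Γ) * (m : Γ)⁻¹) * y⁻¹
              = n * ((m : Γ)⁻¹ * (y⁻¹ * m * y)) * y⁻¹ * (m : Γ)⁻¹ := by group
            _ = n * ((n : Γ)⁻¹ * (y⁻¹ * n * y)) * y⁻¹ * (m : Γ)⁻¹ := by rw [e]
            _ = y⁻¹ * ((n : Γ) * (m : Γ)⁻¹) := by group
        have hcx : Commute ((n : Γ) * (m : Γ)⁻¹) x := by
          have h1 : Commute ((n : Γ) * (m : Γ)⁻¹) y := by simpa using (show Commute _ _ from hcy).inv_right
          have hcop : Nat.Coprime r (d + 1) :=
            hr.coprime_iff_not_dvd.mpr fun h => absurd (Nat.le_of_dvd (by omega) h) (by omega)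
          obtain ⟨k, hk⟩ := exists_pow_eq_self_of_coprime (x := x) (n := d + 1)
            (Nat.Coprime.coprime_dvd_right (orderOf_dvd_of_pow_eq_one hxr) hcop.symm)
          rw [← hk]
          exact (hy ▸ h1).pow_right k
        have h0 := hfpf _ (N.mul_mem (hZN _ n.2) (N.inv_mem (hZN _ m.2))) hcx.eq.symm
        exact Subtype.ext (mul_inv_eq_one.mp h0).symm
      have hone : ∀ z : ↥Z, χ 0 z = 1 := by
        intro z
        obtain ⟨m, rfl⟩ := hsurj z
        have hm' : (⟨y⁻¹ * m * y, hZconj y _ m.2⟩ : ↥Z) =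
            m * ⟨(m : Γ)⁻¹ * (y⁻¹ * m * y), Z.mul_mem (Z.inv_mem m.2) (hZconj y _ m.2)⟩ := by
          refine Subtype.ext ?_
          rw [Subgroup.coe_mul]; group
        have h2 : χ 0 ⟨y⁻¹ * m * y, hZconj y _ m.2⟩ = χ (d + 1) m := by
          show c _ _ = c _ _
          congr 1
          simp [hy]
        rw [hm', map_mul, ← hy' m] at h2
        have h3 : χ 0 m ≠ 0 := by
          intro e
          have h4 : χ 0 (m * m⁻¹) = 1 := by rw [mul_inv_cancel, map_one]
          rw [map_mul, e, zero_mul] at h4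
          exact zero_ne_one h4
        exact (mul_eq_left₀ h3).mp h2
      refine hi' fun z hz j v hv => ?_
      have hzZ : (z : Γ) ∈ Z := ⟨z, hz, rfl⟩
      rw [hc _ (hZconj (x ^ j) _ hzZ) v hv]
      have h5 := hone ⟨_, hZconj (x ^ j) _ hzZ⟩
      have h6 : c ((x ^ j)⁻¹ * (z : Γ) * x ^ j) (hZconj (x ^ j) _ hzZ) = 1 := by
        refine Eq.trans ?_ h5
        show _ = c _ _
        congr 1
        simp
      rw [h6, one_smul]
    -- orbit sums are injective on `U`
    let s : U →ₗ[K] ↥(K ∙ w) := ((∑ i ∈ Finset.range r, ρ (x ^ i)).comp U.subtype).codRestrict _ fun v => hline _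
    have hs : Function.Injective s := by
      refine (injective_iff_map_eq_zero s).mpr ?_
      rintro ⟨v, hv⟩ hsv
      by_contra hv0
      have hv0' : v ≠ 0 := fun e => hv0 (Subtype.ext e)
      have hsum : ∑ j : Fin r, ρ (x ^ (j : ℕ)) v = 0 := by
        have := congrArg Subtype.val hsv
        simp only [s, LinearMap.codRestrict_apply, LinearMap.comp_apply, Submodule.subtype_apply,
          LinearMap.sum_apply] at this
        rw [Fin.sum_univ_eq_sum_range (fun j => ρ (x ^ j) v)]
        simpa using this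
      have hχv : ∀ j (z : ↥Z), ρ (z : Γ) (ρ (x ^ j) v) = χ j z • ρ (x ^ j) v := by
        intro j z
        show _ = c _ (hZconj _ _ z.2) • _
        rw [← map_smul, ← hc _ _ v hv, ← Module.End.mul_apply, ← map_mul, ← Module.End.mul_apply, ← map_mul]
        congr 2
        group
      have hli := (linearIndependent_monoidHom ↥Z K).comp (fun j : Fin r => χ j) hχinj
      have hzero : ∀ (f : Module.Dual K V) (j : Fin r), f (ρ (x ^ (j : ℕ)) v) = 0 := by
        intro f
        refine Fintype.linearIndependent_iff.mp hli (fun j => f (ρ (x ^ (j : ℕ)) v)) (funext fun z => ?_)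
        have h1 := congrArg (fun t => f (ρ (z : Γ) t)) hsum
        simp only [map_sum, map_zero] at h1
        simp only [Finset.sum_apply, Pi.smul_apply, smul_eq_mul, Pi.zero_apply, Function.comp_apply]
        rw [← h1]
        refine Finset.sum_congr rfl fun j _ => ?_
        rw [hχv, map_smul, smul_eq_mul, mul_comm]
      refine hv0' ((Module.forall_dual_apply_eq_zero_iff K v).mp fun f => ?_)
      simpa using hzero f ⟨0, hr.pos⟩
    have hle := LinearMap.finrank_le_finrank_of_injective hs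
    have hw : finrank K ↥(K ∙ w) ≤ 1 := by
      refine (finrank_span_le_card ({w} : Set V)).trans ?_
      simp
    omega
  -- averaging over the derived subgroup
  intro k hk
  let e : Module.End K V := ∑ g : ↥⁅N, N⁆, ρ (g : Γ)
  have hek : ∀ g ∈ ⁅N, N⁆, e * ρ g = e := fun g hg => by
    show (∑ a : ↥⁅N, N⁆, ρ (a : Γ)) * ρ g = ∑ a : ↥⁅N, N⁆, ρ (a : Γ)
    rw [Finset.sum_mul]
    exact Fintype.sum_equiv (Equiv.mulRight (⟨g, hg⟩ : ↥⁅N, N⁆)) _ _ fun a => by simp [map_mul]
  have hen : ∀ n : Γ, n ∈ N → e * ρ n = ρ n * e := fun n hn => by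
    show (∑ a : ↥⁅N, N⁆, ρ (a : Γ)) * ρ n = ρ n * ∑ a : ↥⁅N, N⁆, ρ (a : Γ)
    rw [Finset.sum_mul, Finset.mul_sum]
    haveI : (⁅N, N⁆).Normal := Subgroup.commutator_normal N N
    refine Fintype.sum_equiv (MulAut.conjNormal n⁻¹).toEquiv _ _ fun a => ?_
    rw [← map_mul, ← map_mul]
    congr 1
    show _ = n * ((MulAut.conjNormal n⁻¹ a : ↥⁅N, N⁆) : Γ)
    rw [MulAut.conjNormal_apply]; group
  have hker : LinearMap.ker e = ⊥ := by
    by_contra hne
    obtain ⟨U, ⟨hU0, hUe, hUinv⟩, hUmin⟩ :=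
      (IsWellFounded.wf : WellFounded ((· < ·) : Submodule K V → Submodule K V → Prop)).has_min
        {S : Submodule K V | S ≠ ⊥ ∧ S ≤ LinearMap.ker e ∧ ∀ n ∈ N, ∀ v ∈ S, ρ n v ∈ S}
        ⟨LinearMap.ker e, hne, le_rfl, fun n hn v hv => by
          rw [LinearMap.mem_ker] at hv ⊢
          rw [← Module.End.mul_apply, hen n hn, Module.End.mul_apply, hv, map_zero]⟩
    obtain ⟨u, hu, hu0⟩ := U.exists_mem_ne_zero_of_ne_bot hU0
    have hfix := hmin U hU0 hUinv (fun S hSU hS => by
      by_cases hS0 : S = ⊥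
      · exact Or.inl hS0
      · refine Or.inr (le_antisymm hSU (not_lt_iff_le_imp_ge.mp (hUmin S ⟨hS0, hSU.trans hUe, hS⟩) hSU)))
    have h1 : e u = 0 := hUe hu
    rw [LinearMap.sum_apply, Finset.sum_congr rfl (fun (g : ↥⁅N, N⁆) _ => hfix g g.2 u hu), Finset.sum_const,
      Finset.card_univ, ← Nat.card_eq_fintype_card, ← Nat.cast_smul_eq_nsmul K] at h1
    exact hu0 ((smul_eq_zero.mp h1).resolve_left hcard)
  refine LinearMap.ext fun v => ?_
  have h1 : e (ρ k v - v) = 0 := by
    rw [map_sub, ← Module.End.mul_apply, hek k hk, sub_self]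
  exact sub_eq_zero.mp ((Submodule.mem_bot K).mp (hker ▸ LinearMap.mem_ker.mpr h1))

variable {X : Type*} [Group X] [Finite X]

/-- A Frobenius group with complement of prime order fixing a subgroup of order `ℓ` in an elementary abelian
`ℓ`-group of coprime order: the derived subgroup of the kernel centralizes it. -/
theorem frobenius_fixed_line (G : Subgroup X) (V : Subgroup X) {ℓ : ℕ} (hℓ : ℓ.Prime)
    (hV : Cfsg.IsElementaryAbelian ℓ V) (hℓG : ¬ ℓ ∣ Nat.card G)
    (hGV : G ≤ Subgroup.normalizer (V : Set X)) (R : Subgroup ↥G) (hR : Cfsg.IsFrobeniusComplement R)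
    (hRp : (Nat.card R).Prime)
    (hCV : Nat.card ↥(V ⊓ Subgroup.centralizer ((R.map G.subtype : Subgroup X) : Set X)) = ℓ) :
    ⁅Subgroup.closure (Subtype.val '' Cfsg.frobeniusKernel R),
      Subgroup.closure (Subtype.val '' Cfsg.frobeniusKernel R)⁆ ≤ Subgroup.centralizer (V : Set X) := by
  classical
  letI : Fintype ↥G := Fintype.ofFinite _
  obtain ⟨N, hN, hNn, -, hNnil⟩ := frobenius_kernel_spec hR
  have hcl : Subgroup.closure (Subtype.val '' Cfsg.frobeniusKernel R) = N.map G.subtype := by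
    rw [← hN, show (Subtype.val '' (N : Set ↥G) : Set X) = G.subtype '' (N : Set ↥G) from rfl,
      ← Subgroup.coe_map, Subgroup.closure_eq]
  rw [hcl, ← Subgroup.map_commutator]
  haveI := Fact.mk hℓ
  haveI := Fact.mk hRp
  set r := Nat.card R with hr
  haveI : Nontrivial R := Finite.one_lt_card_iff_nontrivial.mp hRp.one_lt
  obtain ⟨xR, hxR⟩ := exists_ne (1 : R)
  set x : ↥G := (xR : ↥G) with hx
  have hx1 : x ≠ 1 := fun e => hxR (Subtype.ext e)
  have hxr : x ^ r = 1 := by
    rw [hx, ← Subgroup.coe_pow, hr, pow_card_eq_one', Subgroup.coe_one]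
  have hgen : ∀ g ∈ R, g ∈ Subgroup.zpowers x := fun g hg => by
    obtain ⟨k, hk⟩ := Subgroup.mem_zpowers_iff.mp
      (mem_zpowers_of_prime_card (h := hr.symm) (g' := (⟨g, hg⟩ : R)) hxR)
    exact ⟨k, by simpa [hx] using congrArg Subtype.val hk⟩
  have hfpf : ∀ n ∈ N, x * n = n * x → n = 1 := fun n hn e => by
    have h1 : n ∈ R := Frob.centralizer_le hR xR.2 hx1 (Subgroup.mem_centralizer_singleton_iff.mpr e.symm)
    exact (Subgroup.mem_bot.mp (Frob.kernel_inf_eq_bot hN ▸ Subgroup.mem_inf.mpr ⟨hn, h1⟩))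
  haveI := hV.1
  letI : CommGroup V := { (inferInstance : Group V) with mul_comm := fun u v => IsMulCommutative.is_comm.comm u v }
  haveI : Module (ZMod ℓ) (Additive V) := AddCommGroup.zmodModule (fun w => by
    refine Additive.toMul.injective (Subtype.ext ?_)
    rw [toMul_nsmul, toMul_zero, SubmonoidClass.coe_pow, hV.2 _ (Additive.toMul w).2, Subgroup.coe_one])
  let τ : ↥G →* MulAut V := V.normalizerMonoidHom.comp (Subgroup.inclusion hGV)
  let ρ : ↥G →* Module.End (ZMod ℓ) (Additive V) :=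
    { toFun := fun g => (τ g).toMonoidHom.toAdditive.toZModLinearMap ℓ
      map_one' := LinearMap.ext fun w => by
        show Additive.ofMul (τ 1 (Additive.toMul w)) = w
        rw [map_one]; rfl
      map_mul' := fun g g' => LinearMap.ext fun w => by
        show Additive.ofMul (τ (g * g') (Additive.toMul w)) = Additive.ofMul (τ g (τ g' (Additive.toMul w)))
        rw [map_mul]; rfl }
  have hρ : ∀ (g : ↥G) (w : Additive V), ((Additive.toMul (ρ g w) : V) : X) = g * (Additive.toMul w : V) * (g : X)⁻¹ :=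
    fun g w => rfl
  haveI : Module.Finite (ZMod ℓ) (Additive V) := Module.Finite.of_finite
  let K := AlgebraicClosure (ZMod ℓ)
  haveI : CharP K ℓ := charP_of_injective_algebraMap (algebraMap (ZMod ℓ) K).injective ℓ
  let V₁ := K ⊗[ZMod ℓ] Additive V
  let ρK : ↥G →* Module.End K V₁ :=
    (Module.End.baseChangeHom (ZMod ℓ) K (Additive V)).toMonoidHom.comp ρ
  have hinj : ∀ v : Additive V, (1 : K) ⊗ₜ[ZMod ℓ] v = 0 → v = 0 := by
    intro v hv
    let b := Module.finBasis (ZMod ℓ) (Additive V)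
    refine b.repr.injective (Finsupp.ext fun i => (algebraMap (ZMod ℓ) K).injective ?_)
    have h1 := congrArg (fun t => (b.baseChange K).repr t i) hv
    simp only [Module.Basis.baseChange_repr_tmul, map_zero, Finsupp.coe_zero, Pi.zero_apply] at h1
    rw [map_zero, Finsupp.coe_zero, Pi.zero_apply, map_zero, Algebra.algebraMap_eq_smul_one]
    exact h1
  -- the fixed line
  set F := V ⊓ Subgroup.centralizer ((R.map G.subtype : Subgroup X) : Set X) with hF
  haveI : Nontrivial F := Finite.one_lt_card_iff_nontrivial.mp (by rw [hCV]; exact hℓ.one_lt)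
  obtain ⟨w₀, hw₀⟩ := exists_ne (1 : F)
  let w : Additive V := Additive.ofMul ⟨(w₀ : X), (Subgroup.mem_inf.mp w₀.2).1⟩
  have hS : ∀ v : Additive V, ∃ c : ℕ, (∑ i ∈ Finset.range r, ρ (x ^ i)) v = c • w := by
    intro v
    set s := (∑ i ∈ Finset.range r, ρ (x ^ i)) v with hs
    have hfix : ρ x s = s := by
      have e1 : ρ x * (∑ i ∈ Finset.range r, ρ (x ^ i)) = ∑ i ∈ Finset.range r, ρ (x ^ i) := by
        simp only [map_pow]
        have e2 := mul_geom_sum (ρ x) r
        rw [← map_pow, hxr, map_one, sub_self, sub_mul, one_mul, sub_eq_zero] at e2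
        exact e2
      rw [hs, ← Module.End.mul_apply, e1]
    have hmem : ((Additive.toMul s : V) : X) ∈ F := by
      refine Subgroup.mem_inf.mpr ⟨(Additive.toMul s).2, Subgroup.mem_centralizer_iff.mpr ?_⟩
      rintro _ ⟨g, hg, rfl⟩
      have h4 := hρ x s
      rw [hfix] at h4
      have hcx : (x : X) ∈ Subgroup.centralizer ({((Additive.toMul s : V) : X)} : Set X) :=
        Subgroup.mem_centralizer_singleton_iff.mpr (mul_inv_eq_iff_eq_mul.mp h4.symm)
      obtain ⟨k, rfl⟩ := hgen g hg
      exact Subgroup.mem_centralizer_singleton_iff.mp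
        (show ((x ^ k : ↥G) : X) ∈ Subgroup.centralizer ({((Additive.toMul s : V) : X)} : Set X) by
          rw [Subgroup.coe_zpow]; exact Subgroup.zpow_mem _ hcx k)
    obtain ⟨c, hc⟩ := (mem_powers_of_prime_card (h := hCV) (g' := (⟨_, hmem⟩ : F)) hw₀)
    refine ⟨c, Additive.toMul.injective (Subtype.ext ?_)⟩
    rw [toMul_nsmul, SubmonoidClass.coe_pow]
    exact (congrArg Subtype.val hc).symm
  have hline : ∀ v : V₁, (∑ i ∈ Finset.range r, ρK (x ^ i)) v ∈ K ∙ ((1 : K) ⊗ₜ[ZMod ℓ] w) := by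
    intro v
    induction v using TensorProduct.induction_on with
    | zero => rw [map_zero]; exact Submodule.zero_mem _
    | add a b ha hb => rw [map_add]; exact Submodule.add_mem _ ha hb
    | tmul a v =>
      obtain ⟨c, hc⟩ := hS v
      refine Submodule.mem_span_singleton.mpr ⟨c • a, ?_⟩
      rw [LinearMap.sum_apply]
      show _ = ∑ i ∈ Finset.range r, a ⊗ₜ[ZMod ℓ] (ρ (x ^ i) v)
      rw [← TensorProduct.tmul_sum, ← LinearMap.sum_apply, hc, TensorProduct.tmul_smul, TensorProduct.smul_tmul',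
        smul_eq_mul, mul_one]
      exact (TensorProduct.smul_tmul' _ _ _).symm
  haveI := hNn
  haveI := hNnil
  have hcard : (Nat.card ↥⁅N, N⁆ : K) ≠ 0 := fun e =>
    hℓG (((CharP.cast_eq_zero_iff K ℓ _).mp e).trans (Subgroup.card_subgroup_dvd_card _))
  have htriv := rep_commutator_trivial ρK N hRp hxr hfpf hcard _ hline
  rintro _ ⟨k, hk, rfl⟩
  refine Subgroup.mem_centralizer_iff.mpr fun v hv => ?_
  let v' : Additive V := Additive.ofMul ⟨v, hv⟩
  have h1 : ρ k v' = v' := by
    refine sub_eq_zero.mp (hinj _ ?_)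
    rw [TensorProduct.tmul_sub, ← LinearMap.baseChange_tmul]
    show ρK k ((1 : K) ⊗ₜ[ZMod ℓ] v') - _ = 0
    rw [htriv k hk, Module.End.one_apply, sub_self]
  have h2 := hρ k v'
  rw [h1] at h2
  exact (mul_inv_eq_iff_eq_mul.mp h2.symm).symm

end Cfsg.Agent.Grp
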