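import Mathlib
import Cfsg.Agent.Lib.Grp.Frattini
import Cfsg.Agent.Lib.Grp.CountCyclic
import Cfsg.Agent.Lib.Fus.PSLSimple

/-!
Numbers of generators: `p`-central groups (Laffey), subgroups of the unitriangular group.
-/

set_option autoImplicit false
set_option linter.unusedSectionVars false

open scoped Classical

namespace Cfsg.Agent.Grp.GenCount

open Cfsg.Agent.Fus.PSLN

universe u

/-- `H` is generated by at most `n` elements. -/
def GenBy {G : Type*} [Group G] (H : Subgroup G) (n : ℕ) : Prop :=
  ∃ S : Finset G, S.card ≤ n ∧ Subgroup.closure (S : Set G) = H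

theorem GenBy.mono {G : Type*} [Group G] {H : Subgroup G} {a b : ℕ} (h : GenBy H a) (hab : a ≤ b) :
    GenBy H b := by
  obtain ⟨S, hS, hSc⟩ := h
  exact ⟨S, hS.trans hab, hSc⟩

theorem GenBy.map {G Q : Type*} [Group G] [Group Q] {H : Subgroup G} {a : ℕ} (h : GenBy H a)
    (f : G →* Q) : GenBy (H.map f) a := by
  obtain ⟨S, hS, hSc⟩ := h
  refine ⟨S.image f, Finset.card_image_le.trans hS, ?_⟩
  rw [← hSc, MonoidHom.map_closure, Finset.coe_image]

theorem genBy_add {G Q : Type*} [Group G] [Group Q] (f : G →* Q) {H : Subgroup G} {a b : ℕ}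
    (h1 : GenBy (H ⊓ f.ker) a) (h2 : GenBy (H.map f) b) : GenBy H (a + b) := by
  obtain ⟨S, hS, hSc⟩ := h1
  obtain ⟨T, hT, hTc⟩ := h2
  have hT' : ∀ t ∈ T, ∃ x ∈ H, f x = t := fun t ht =>
    Subgroup.mem_map.1 (hTc ▸ Subgroup.subset_closure (Finset.mem_coe.2 ht))
  choose g hg hgf using hT'
  let L : Finset G := T.attach.image fun t => g t.1 t.2
  refine ⟨S ∪ L, (Finset.card_union_le _ _).trans (add_le_add hS
    (Finset.card_image_le.trans (by simpa using hT))), le_antisymm ?_ ?_⟩
  · rw [Subgroup.closure_le, Finset.coe_union, Set.union_subset_iff]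
    refine ⟨fun x hx => ?_, fun x hx => ?_⟩
    · have := Subgroup.subset_closure hx
      rw [hSc] at this
      exact this.1
    · simp only [L, Finset.coe_image, Set.mem_image] at hx
      obtain ⟨t, -, rfl⟩ := hx
      exact hg _ _
  · intro x hx
    have hle : Subgroup.closure (T : Set Q) ≤ (Subgroup.closure (L : Set G)).map f := by
      rw [Subgroup.closure_le]
      intro t ht
      refine ⟨g t ht, Subgroup.subset_closure ?_, hgf t ht⟩
      simp only [L, Finset.coe_image, Set.mem_image]
      exact ⟨⟨t, ht⟩, by simp, rfl⟩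
    obtain ⟨l, hl, hlx⟩ := hle (hTc ▸ Subgroup.mem_map_of_mem f hx)
    have hlH : l ∈ H := by
      refine (Subgroup.closure_le H).2 ?_ hl
      intro y hy
      simp only [L, Finset.coe_image, Set.mem_image] at hy
      obtain ⟨t, -, rfl⟩ := hy
      exact hg _ _
    have hk : l⁻¹ * x ∈ Subgroup.closure (S : Set G) := by
      rw [hSc]
      refine ⟨H.mul_mem (H.inv_mem hlH) hx, ?_⟩
      simp [MonoidHom.mem_ker, hlx]
    rw [Finset.coe_union, ← mul_inv_cancel_left l x]
    exact mul_mem (Subgroup.closure_mono Set.subset_union_right hl)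
      (Subgroup.closure_mono Set.subset_union_left hk)

section PCentral

variable {p : ℕ} [hp : Fact p.Prime]

theorem dvd_choose_two (hodd : p ≠ 2) : p ∣ p.choose 2 := by
  have := hp.out.two_le
  exact hp.out.dvd_choose_self (by norm_num) (by omega)

/-- Laffey's lemma for `p`-central groups. -/
theorem laffey (hodd : p ≠ 2) : ∀ (N : ℕ) (K : Type u) [Group K] [Finite K], Nat.card K = N →
    IsPGroup p K → (∀ x : K, x ^ p = 1 → x ∈ Subgroup.center K) →
    ∀ x y : K, x ^ (p ^ 2) = 1 → (x⁻¹ * (y⁻¹ * x * y)) ^ p = 1 := by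
  intro N
  induction N using Nat.strong_induction_on with
  | _ N ih =>
    intro K _ _ hN hK hc x y hx
    rcases eq_top_or_exists_le_coatom (Subgroup.zpowers x) with htop | ⟨M, hM, hxM⟩
    · have hy : y ∈ Subgroup.zpowers x := htop ▸ Subgroup.mem_top y
      obtain ⟨k, rfl⟩ := Subgroup.mem_zpowers_iff.1 hy
      have hcm : Commute x (x ^ k) := (Commute.refl x).zpow_right k
      rw [mul_assoc, hcm.eq, inv_mul_cancel_left, inv_mul_cancel, one_pow]
    · haveI := hK.isNilpotent
      haveI hMn : M.Normal := Grp.coatom_normal_of_nilpotent hM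
      have hlt : Nat.card M < N := hN ▸ lt_of_le_of_ne (Subgroup.card_le_card_group M)
        fun e => hM.1 (Subgroup.eq_top_of_card_eq M e)
      have hxmem : x ∈ M := hxM (Subgroup.mem_zpowers x)
      have hemem : y⁻¹ * x * y ∈ M := by
        have := hMn.conj_mem x hxmem y⁻¹
        rwa [inv_inv] at this
      have hcM : ∀ m : M, m ^ p = 1 → m ∈ Subgroup.center M := fun m hm =>
        Subgroup.mem_center_iff.2 fun g => Subtype.ext <| Subgroup.mem_center_iff.1
          (hc (m : K) (by simpa [Subtype.ext_iff] using hm)) g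
      have hconj : ∀ k : ℕ, (y⁻¹ * x * y) ^ k = y⁻¹ * x ^ k * y := fun k => by
        have h := conj_pow (a := y⁻¹) (b := x) (i := k)
        rwa [inv_inv] at h
      set e := y⁻¹ * x * y with he
      have hep2 : e ^ (p ^ 2) = 1 := by rw [hconj, hx]; group
      have hd := ih _ hlt M rfl (hK.to_subgroup M) hcM ⟨e, hemem⟩ ⟨x⁻¹, inv_mem hxmem⟩
        (by simpa [Subtype.ext_iff] using hep2)
      replace hd : (e⁻¹ * (x * e * x⁻¹)) ^ p = 1 := by simpa [Subtype.ext_iff] using hd
      have hdc : ∀ g : K, Commute (e⁻¹ * (x * e * x⁻¹)) g := fun g =>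
        (Subgroup.mem_center_iff.1 (hc _ hd) g).symm
      rw [Grp.CountCyclic.mul_pow_of_central x⁻¹ e (e⁻¹ * (x * e * x⁻¹))
        (by group) (hdc _) (hdc _)]
      obtain ⟨q, hq⟩ := dvd_choose_two (p := p) hodd
      rw [hq, pow_mul, hd, one_pow, mul_one, inv_pow, hconj]
      have hxp : x ^ p ∈ Subgroup.center K := hc _ (by rw [← pow_mul, ← sq]; exact hx)
      rw [mul_assoc y⁻¹, ← Subgroup.mem_center_iff.1 hxp y, inv_mul_cancel_left, inv_mul_cancel]

/-- The elements killed by `p` of a `p`-central group. -/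
def omega {K : Type u} [Group K] (hc : ∀ x : K, x ^ p = 1 → x ∈ Subgroup.center K) : Subgroup K where
  carrier := {x | x ^ p = 1}
  one_mem' := one_pow p
  mul_mem' := fun {a b} ha hb => by
    have hab : Commute a b := (Subgroup.mem_center_iff.1 (hc a ha) b).symm
    show (a * b) ^ p = 1
    rw [hab.mul_pow, ha, hb, one_mul]
  inv_mem' := fun {a} ha => by
    show a⁻¹ ^ p = 1
    rw [inv_pow, ha, inv_one]

/-- A `p`-central group with at most `p ^ r` elements killed by `p` needs `r` generators. -/
theorem pcentral_gen (hodd : p ≠ 2) : ∀ (N : ℕ) (K : Type u) [Group K] [Finite K], Nat.card K = N →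
    IsPGroup p K → (∀ x : K, x ^ p = 1 → x ∈ Subgroup.center K) →
    ∀ r : ℕ, Nat.card {x : K // x ^ p = 1} ≤ p ^ r → GenBy (⊤ : Subgroup K) r := by
  intro N
  induction N using Nat.strong_induction_on with
  | _ N ih =>
    intro K _ _ hN hK hc r hr
    haveI := hK.isNilpotent
    let W : Subgroup K := omega hc
    have hW : ∀ x, x ∈ W ↔ x ^ p = 1 := fun x => Iff.rfl
    rcases subsingleton_or_nontrivial K with hK1 | hK1
    · exact ⟨∅, by simp, Subsingleton.elim _ _⟩
    have hWbot : W ≠ ⊥ := by
      obtain ⟨n, hn⟩ := hK.exists_card_eq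
      have hpdvd : p ∣ Nat.card K := by
        rw [hn]
        refine dvd_pow_self p fun e => ?_
        rw [e, pow_zero] at hn
        exact not_subsingleton K (Nat.card_eq_one_iff_unique.1 hn).1
      obtain ⟨x, hx⟩ := exists_prime_orderOf_dvd_card' p hpdvd
      intro e
      have : x ∈ W := (hW x).2 (hx ▸ pow_orderOf_eq_one x)
      rw [e, Subgroup.mem_bot] at this
      rw [this, orderOf_one] at hx
      exact hp.out.one_lt.ne hx
    have hWc : ∀ x ∈ W, x ∈ Subgroup.center K := fun x hx => hc x hx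
    haveI hWn : W.Normal := ⟨fun w hw g => by
      rwa [Subgroup.mem_center_iff.1 (hWc w hw) g, mul_inv_cancel_right]⟩
    by_cases hF : W ≤ frattini K
    · have hlt : Nat.card (K ⧸ W) < N := by
        rw [← hN, Subgroup.card_eq_card_quotient_mul_card_subgroup W]
        exact lt_mul_of_one_lt_right Nat.card_pos ((Subgroup.one_lt_card_iff_ne_bot W).2 hWbot)
      have hp2 : ∀ q : K ⧸ W, q ^ p = 1 → (Quotient.out q : K) ^ (p ^ 2) = 1 := fun q hq => by
        have h1 : ((Quotient.out q ^ p : K) : K ⧸ W) = 1 := by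
          rw [QuotientGroup.mk_pow, QuotientGroup.out_eq', hq]
        rw [sq, pow_mul]
        exact (hW _).1 ((QuotientGroup.eq_one_iff _).1 h1)
      have hcQ : ∀ q : K ⧸ W, q ^ p = 1 → q ∈ Subgroup.center (K ⧸ W) := by
        intro q hq
        rw [Subgroup.mem_center_iff]
        intro g
        rw [← QuotientGroup.out_eq' q, ← QuotientGroup.out_eq' g, ← QuotientGroup.mk_mul,
          ← QuotientGroup.mk_mul, eq_comm, QuotientGroup.eq, hW]
        have h := laffey hodd _ K rfl hK hc (Quotient.out q) (Quotient.out g) (hp2 q hq)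
        have e : (Quotient.out q * Quotient.out g)⁻¹ * (Quotient.out g * Quotient.out q) =
          ((Quotient.out q)⁻¹ * ((Quotient.out g)⁻¹ * Quotient.out q * Quotient.out g))⁻¹ := by
          group
        rw [e, inv_pow, h, inv_one]
      have hcount : Nat.card {q : K ⧸ W // q ^ p = 1} ≤ Nat.card {x : K // x ^ p = 1} := by
        refine Nat.card_le_card_of_injective
          (fun q => ⟨(Quotient.out q.1 : K) ^ p, by rw [← pow_mul, ← sq]; exact hp2 q.1 q.2⟩) ?_
        intro a b hab
        simp only [Subtype.mk.injEq] at hab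
        set x := (Quotient.out a.1 : K) with hxdef
        set y := (Quotient.out b.1 : K) with hydef
        apply Subtype.ext
        rw [← QuotientGroup.out_eq' a.1, ← QuotientGroup.out_eq' b.1, QuotientGroup.eq, hW]
        have hd := laffey hodd _ K rfl hK hc y x⁻¹ (hp2 b.1 b.2)
        rw [inv_inv] at hd
        have hdc : ∀ g : K, Commute (y⁻¹ * (x * y * x⁻¹)) g := fun g =>
          (Subgroup.mem_center_iff.1 (hc _ hd) g).symm
        rw [← hxdef, ← hydef, Grp.CountCyclic.mul_pow_of_central x⁻¹ y (y⁻¹ * (x * y * x⁻¹))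
          (by group) (hdc _) (hdc _)]
        obtain ⟨q, hq⟩ := dvd_choose_two (p := p) hodd
        rw [hq, pow_mul, hd, one_pow, mul_one, inv_pow, hab, inv_mul_cancel]
      obtain ⟨S, hS, hSc⟩ := ih _ hlt (K ⧸ W) rfl (hK.to_quotient W) hcQ r (hcount.trans hr)
      refine ⟨S.image (fun q => (Quotient.out q : K)), Finset.card_image_le.trans hS,
        frattini_nongenerating (top_le_iff.1 ?_)⟩
      intro x _
      have hle : Subgroup.closure (S : Set (K ⧸ W)) ≤
          (Subgroup.closure ((S.image fun q => (Quotient.out q : K)) : Set K)).map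
            (QuotientGroup.mk' W) := by
        rw [Subgroup.closure_le]
        intro q hq
        exact ⟨_, Subgroup.subset_closure (Finset.mem_coe.2 (Finset.mem_image_of_mem _ hq)),
          QuotientGroup.out_eq' q⟩
      obtain ⟨l, hl, hlx⟩ := hle (hSc ▸ Subgroup.mem_top (QuotientGroup.mk' W x))
      rw [← mul_inv_cancel_left l x]
      exact Subgroup.mul_mem_sup hl (hF ((QuotientGroup.eq).1 hlx))
    · obtain ⟨z, hzW, hzF⟩ := SetLike.not_le_iff_exists.1 hF
      obtain ⟨M, hM, hzM⟩ : ∃ M : Subgroup K, IsCoatom M ∧ z ∉ M := by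
        by_contra hno
        push Not at hno
        exact hzF (by simpa [frattini, Order.radical, Subgroup.mem_iInf] using hno)
      have hlt : Nat.card M < N := hN ▸ lt_of_le_of_ne (Subgroup.card_le_card_group M)
        fun e => hM.1 (Subgroup.eq_top_of_card_eq M e)
      have hcM : ∀ m : M, m ^ p = 1 → m ∈ Subgroup.center M := fun m hm =>
        Subgroup.mem_center_iff.2 fun g => Subtype.ext <| Subgroup.mem_center_iff.1
          (hc (m : K) (by simpa [Subtype.ext_iff] using hm)) g
      have hWcard : Nat.card W ≤ p ^ r := hr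
      obtain ⟨a, ha⟩ := (hK.to_subgroup W).exists_card_eq
      obtain ⟨b, hb⟩ := (hK.to_subgroup (W ⊓ M)).exists_card_eq
      have hlt' : (W ⊓ M : Subgroup K) < W := lt_of_le_of_ne inf_le_left fun e =>
        hzM (e.symm.le hzW : z ∈ W ⊓ M).2
      have hba : b < a := by
        rw [← Nat.pow_lt_pow_iff_right hp.out.one_lt, ← ha, ← hb]
        exact lt_of_le_of_ne (Subgroup.card_le_of_le inf_le_left)
          fun e => hlt'.ne (Subgroup.eq_of_le_of_card_ge inf_le_left e.ge)
      have har : a ≤ r := by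
        rw [← Nat.pow_le_pow_iff_right hp.out.one_lt, ← ha]; exact hWcard
      have hcnt : Nat.card {m : M // m ^ p = 1} ≤ p ^ (r - 1) := by
        refine le_trans (le_trans ?_ hb.le) (Nat.pow_le_pow_right hp.out.pos (by omega))
        refine Nat.card_le_card_of_injective (fun m : {m : M // m ^ p = 1} =>
          (⟨(m.1 : K), (hW _).2 (by simpa [Subtype.ext_iff] using m.2), m.1.2⟩ :
            (W ⊓ M : Subgroup K))) ?_
        intro x y hxy
        exact Subtype.ext (Subtype.ext (congrArg Subtype.val hxy :))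
      obtain ⟨S, hS, hSc⟩ := (ih _ hlt M rfl (hK.to_subgroup M) hcM (r - 1) hcnt).map M.subtype
      rw [← MonoidHom.range_eq_map, Subgroup.range_subtype] at hSc
      refine ⟨insert z S, (Finset.card_insert_le _ _).trans (by omega), ?_⟩
      refine hM.2 _ (lt_of_le_not_ge ?_ fun hle => hzM (hle (Subgroup.subset_closure (by simp))))
      calc M = Subgroup.closure (S : Set K) := hSc.symm
        _ ≤ _ := Subgroup.closure_mono (by simp)

end PCentral

section Unitriangular

variable {p : ℕ} [hp : Fact p.Prime] {n : ℕ}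

local notation "SLp" => Matrix.SpecialLinearGroup (Fin n) (ZMod p)

/-- Ordering of the positions. -/
def key (i j : Fin n) : ℕ := ((j : ℕ) - i) * (n + 1) + i

theorem key_lt_iff (a b c d : Fin n) : key a b < key c d ↔
    ((b : ℕ) - a < (d : ℕ) - c) ∨ ((b : ℕ) - a = (d : ℕ) - c ∧ (a : ℕ) < c) := by
  unfold key
  have ha := a.2
  have hc := c.2
  rcases lt_trichotomy ((b : ℕ) - a) ((d : ℕ) - c) with h | h | h
  · exact ⟨fun _ => Or.inl h, fun _ => by
      have := Nat.mul_le_mul_right (n + 1) h
      rw [Nat.succ_mul] at this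
      omega⟩
  · rw [h]; omega
  · refine ⟨fun h' => absurd h' ?_, fun h' => by omega⟩
    have := Nat.mul_le_mul_right (n + 1) h
    rw [Nat.succ_mul] at this
    omega

theorem key_inj {a b c d : Fin n} (hab : a < b) (hcd : c < d) (h : key a b = key c d) :
    a = c ∧ b = d := by
  have h1 := (key_lt_iff a b c d).not.1 h.not_lt
  have h2 := (key_lt_iff c d a b).not.1 h.symm.not_lt
  rw [Fin.lt_def] at hab hcd
  simp only [Fin.ext_iff]
  omega

/-- `(i, j)` is the first nonzero position of `A`. -/
def Lead (A : SLp) (i j : Fin n) : Prop :=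
  i < j ∧ ent A i j ≠ 0 ∧ ∀ a b, a < b → key a b < key i j → ent A a b = 0

theorem ent_mul_uni {A B : SLp} (hA : IsUni A) (hB : IsUni B) {s t : Fin n} (hst : s < t) :
    ent (A * B) s t = ent A s t + ent B s t + ∑ u ∈ Finset.Ioo s t, ent A s u * ent B u t := by
  rw [ent_mul, ← Finset.sum_subset (Finset.subset_univ (insert s (insert t (Finset.Ioo s t))))]
  · rw [Finset.sum_insert (by simp [hst.ne]), Finset.sum_insert (by simp), hA.2 s, hB.2 t]
    ring
  · intro u _ hu
    simp only [Finset.mem_insert, Finset.mem_Ioo, not_or, not_and, not_lt] at hu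
    rcases lt_or_ge u s with h | h
    · rw [hA.1 s u h, zero_mul]
    · rw [hB.1 u t (lt_of_le_of_ne (hu.2.2 (lt_of_le_of_ne h (Ne.symm hu.1))) (Ne.symm hu.2.1)),
        mul_zero]

theorem lead_commutator {A B : SLp} (hA : IsUni A) (hB : IsUni B) {i j l : Fin n}
    (h1 : Lead A i j) (h2 : Lead B j l) : Lead (A * B * A⁻¹ * B⁻¹) i l := by
  obtain ⟨hij, hAne, hA0⟩ := h1
  obtain ⟨hjl, hBne, hB0⟩ := h2
  have hil : i < l := hij.trans hjl
  set C := A * B * A⁻¹ * B⁻¹ with hCdef
  have hC : IsUni C := ((hA.mul hB).mul hA.inv).mul hB.inv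
  have hCX : C * (B * A) = A * B := by rw [hCdef]; group
  have nzA : ∀ {s u : Fin n}, s < u → ent A s u ≠ 0 → ¬ key s u < key i j :=
    fun hsu hne h => hne (hA0 _ _ hsu h)
  have nzB : ∀ {s u : Fin n}, s < u → ent B s u ≠ 0 → ¬ key s u < key j l :=
    fun hsu hne h => hne (hB0 _ _ hsu h)
  have hba : ∀ s t, s < t → key s t ≤ key i l →
      ∑ u ∈ Finset.Ioo s t, ent B s u * ent A u t = 0 := by
    intro s t hst hk
    refine Finset.sum_eq_zero fun u hu => ?_
    rw [Finset.mem_Ioo] at hu
    by_contra hne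
    obtain ⟨hBu, hAu⟩ := mul_ne_zero_iff.1 hne
    have k1 := nzB hu.1 hBu
    have k2 := nzA hu.2 hAu
    have k3 := hk.not_gt
    rw [key_lt_iff] at k1 k2 k3
    simp only [Fin.lt_def] at hij hjl hil hu hst
    omega
  have hab : ∀ s t, s < t → key s t ≤ key i l → ∀ u ∈ Finset.Ioo s t,
      ent A s u * ent B u t ≠ 0 → s = i ∧ u = j ∧ t = l := by
    intro s t hst hk u hu hne
    rw [Finset.mem_Ioo] at hu
    obtain ⟨hAu, hBu⟩ := mul_ne_zero_iff.1 hne
    have k1 := nzA hu.1 hAu
    have k2 := nzB hu.2 hBu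
    have k3 := hk.not_gt
    rw [key_lt_iff] at k1 k2 k3
    simp only [Fin.lt_def] at hij hjl hil hu hst
    simp only [Fin.ext_iff]
    omega
  have hzero : ∀ k, ∀ s t, s < t → key s t = k → k < key i l → ent C s t = 0 := by
    intro k
    induction k using Nat.strong_induction_on with
    | _ k ih =>
      intro s t hst hks hlt
      have e := congrArg (fun Y : SLp => ent Y s t) hCX
      simp only [ent_mul_uni hC (hB.mul hA) hst, ent_mul_uni hA hB hst,
        ent_mul_uni hB hA hst] at e
      have hCsum : ∑ u ∈ Finset.Ioo s t, ent C s u * ent (B * A) u t = 0 := by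
        refine Finset.sum_eq_zero fun u hu => ?_
        rw [Finset.mem_Ioo] at hu
        have hk' : key s u < key s t := (key_lt_iff _ _ _ _).2 (Or.inl (by
          simp only [Fin.lt_def] at hu; omega))
        rw [ih _ (hks ▸ hk') s u hu.1 rfl (by omega), zero_mul]
      have hABsum : ∑ u ∈ Finset.Ioo s t, ent A s u * ent B u t = 0 := by
        refine Finset.sum_eq_zero fun u hu => ?_
        by_contra hne
        obtain ⟨rfl, -, rfl⟩ := hab s t hst (by omega) u hu hne
        omega
      rw [hCsum, hABsum, hba s t hst (by omega)] at e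
      linear_combination e
  refine ⟨hil, ?_, fun a b hab' hk => hzero _ a b hab' rfl hk⟩
  have e := congrArg (fun Y : SLp => ent Y i l) hCX
  simp only [ent_mul_uni hC (hB.mul hA) hil, ent_mul_uni hA hB hil, ent_mul_uni hB hA hil] at e
  have hCsum : ∑ u ∈ Finset.Ioo i l, ent C i u * ent (B * A) u l = 0 := by
    refine Finset.sum_eq_zero fun u hu => ?_
    rw [Finset.mem_Ioo] at hu
    have hk' : key i u < key i l := (key_lt_iff _ _ _ _).2 (Or.inl (by
      simp only [Fin.lt_def] at hu hil; omega))
    rw [hzero _ i u hu.1 rfl hk', zero_mul]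
  have hABsum : ∑ u ∈ Finset.Ioo i l, ent A i u * ent B u l = ent A i j * ent B j l := by
    refine Finset.sum_eq_single j (fun u hu hne => ?_) fun h => absurd (Finset.mem_Ioo.2 ⟨hij, hjl⟩) h
    by_contra h0
    exact hne (hab i l hil le_rfl u hu h0).2.1
  rw [hCsum, hABsum, hba i l hil le_rfl] at e
  have hCil : ent C i l = ent A i j * ent B j l := by linear_combination e
  rw [hCil]
  exact mul_ne_zero hAne hBne

/-- Zero at all positions before `k`. -/
def Low (k : ℕ) (A : SLp) : Prop := ∀ a b : Fin n, a < b → key a b < k → ent A a b = 0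

theorem ent_mul_low {k : ℕ} {A B : SLp} (hA : IsUni A) (hB : IsUni B) (hAk : Low k A)
    {a b : Fin n} (hab : a < b) (hk : key a b ≤ k) :
    ent (A * B) a b = ent A a b + ent B a b := by
  rw [ent_mul_uni hA hB hab, add_eq_left]
  refine Finset.sum_eq_zero fun u hu => ?_
  rw [Finset.mem_Ioo] at hu
  have hk' : key a u < key a b := (key_lt_iff _ _ _ _).2 (Or.inl (by
    simp only [Fin.lt_def] at hu hab; omega))
  rw [hAk a u hu.1 (by omega), zero_mul]

theorem low_pow {k : ℕ} {A : SLp} (hA : IsUni A) (hAk : Low k A) : ∀ m : ℕ,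
    Low k (A ^ m) ∧ ∀ a b, a < b → key a b ≤ k → ent (A ^ m) a b = m * ent A a b := by
  intro m
  induction m with
  | zero =>
    refine ⟨fun a b hab _ => ?_, fun a b hab _ => ?_⟩ <;> simp [ent, hab.ne]
  | succ m ih =>
    have he : ∀ a b, a < b → key a b ≤ k → ent (A ^ (m + 1)) a b = ((m + 1 : ℕ) : ZMod p) * ent A a b :=
      fun a b hab hk => by
        rw [pow_succ, ent_mul_low (hA.pow m) hA ih.1 hab hk, ih.2 a b hab hk]
        push_cast; ring
    exact ⟨fun a b hab hk => by rw [he a b hab hk.le, hAk a b hab hk, mul_zero], he⟩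

/-- A subgroup of the unitriangular group needs at most `n² / 4` generators. -/
theorem unip_gen (H : Subgroup SLp) (hH : H ≤ unip (ZMod p) n) : GenBy H (n * n / 4) := by
  have hU : ∀ A ∈ H, IsUni A := fun A hA => hH hA
  let L : Fin n → Fin n → Prop := fun i j => ∃ A ∈ H, Lead A i j
  have hLlt : ∀ {i j}, L i j → i < j := fun ⟨A, _, h⟩ => h.1
  let S : Finset (Fin n × Fin n) := Finset.univ.filter fun x =>
    L x.1 x.2 ∧ ∀ m, ¬ (L x.1 m ∧ L m x.2)
  have hS : ∀ x ∈ S, ∃ A ∈ H, Lead A x.1 x.2 := fun x hx => (Finset.mem_filter.1 hx).2.1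
  choose f hfH hfL using hS
  let T : Finset SLp := S.attach.image fun x => f x.1 x.2
  -- counting
  have hcard : S.card ≤ n * n / 4 := by
    let Γ : SimpleGraph (Fin n) :=
      { Adj := fun a b => (a, b) ∈ S ∨ (b, a) ∈ S
        symm := ⟨fun a b h => h.symm⟩
        loopless := ⟨fun a h => by
          rcases h with h | h <;> exact absurd (hLlt (Finset.mem_filter.1 h).2.1) (lt_irrefl _)⟩ }
    have hcf : Γ.CliqueFree 3 := by
      intro s hs
      obtain ⟨a, b, c, h1, h2, h3, -⟩ := SimpleGraph.is3Clique_iff.1 hs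
      have hlt : ∀ {x y}, (x, y) ∈ S → x < y := fun h => hLlt (Finset.mem_filter.1 h).2.1
      have hL' : ∀ {x y}, (x, y) ∈ S → L x y := fun h => (Finset.mem_filter.1 h).2.1
      have hno : ∀ {x y z}, (x, y) ∈ S → (y, z) ∈ S → (x, z) ∈ S → False := fun h h' h'' =>
        (Finset.mem_filter.1 h'').2.2 _ ⟨hL' h, hL' h'⟩
      rcases h1 with h1 | h1 <;> rcases h2 with h2 | h2 <;> rcases h3 with h3 | h3
      · exact hno h1 h3 h2
      · exact hno h2 h3 h1
      · exact absurd (((hlt h1).trans (hlt h3)).trans (hlt h2)) (lt_irrefl _)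
      · exact hno h2 h1 h3
      · exact hno h1 h2 h3
      · exact absurd (((hlt h1).trans (hlt h2)).trans (hlt h3)) (lt_irrefl _)
      · exact hno h3 h2 h1
      · exact hno h3 h1 h2
    have hle : S.card ≤ Γ.edgeFinset.card := by
      refine Finset.card_le_card_of_injOn (fun x => s(x.1, x.2)) (fun x hx => ?_) ?_
      · simp only [SimpleGraph.coe_edgeFinset, SimpleGraph.mem_edgeSet]
        exact Or.inl hx
      · intro x hx y hy hxy
        have hx' := hLlt (Finset.mem_filter.1 hx).2.1
        have hy' := hLlt (Finset.mem_filter.1 hy).2.1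
        rcases Sym2.eq_iff.1 hxy with ⟨h, h'⟩ | ⟨h, h'⟩
        · exact Prod.ext h h'
        · rw [h, h'] at hx'; exact absurd hx' (lt_asymm hy')
    have ht := SimpleGraph.CliqueFree.card_edgeFinset_le (r := 2) hcf
    simp only [Fintype.card_fin] at ht
    refine hle.trans (ht.trans ?_)
    rcases Nat.mod_two_eq_zero_or_one n with h | h <;> rw [h] <;> simp [sq] <;> omega
  refine ⟨T, Finset.card_image_le.trans (by simpa using hcard), le_antisymm ?_ ?_⟩
  · rw [Subgroup.closure_le]
    intro A hA
    simp only [T, Finset.coe_image, Set.mem_image] at hA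
    obtain ⟨x, -, rfl⟩ := hA
    exact hfH _ _
  set H' := Subgroup.closure (T : Set SLp)
  have hH'H : H' ≤ H := by
    rw [Subgroup.closure_le]
    intro A hA
    simp only [T, Finset.coe_image, Set.mem_image] at hA
    obtain ⟨x, -, rfl⟩ := hA
    exact hfH _ _
  have hlead : ∀ d : ℕ, ∀ i j, L i j → (j : ℕ) - i = d → ∃ A ∈ H', Lead A i j := by
    intro d
    induction d using Nat.strong_induction_on with
    | _ d ih =>
      intro i j hL hd
      by_cases hx : ∃ m, L i m ∧ L m j
      · obtain ⟨m, h1, h2⟩ := hx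
        have him := hLlt h1
        have hmj := hLlt h2
        simp only [Fin.lt_def] at him hmj
        obtain ⟨A, hA, hAL⟩ := ih ((m : ℕ) - i) (by omega) i m h1 rfl
        obtain ⟨B, hB, hBL⟩ := ih ((j : ℕ) - m) (by omega) m j h2 rfl
        exact ⟨A * B * A⁻¹ * B⁻¹, mul_mem (mul_mem (mul_mem hA hB) (inv_mem hA)) (inv_mem hB),
          lead_commutator (hU _ (hH'H hA)) (hU _ (hH'H hB)) hAL hBL⟩
      · push Not at hx
        have hxS : (i, j) ∈ S := Finset.mem_filter.2 ⟨Finset.mem_univ _, hL, fun m h => hx m h.1 h.2⟩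
        refine ⟨f _ hxS, Subgroup.subset_closure ?_, hfL _ hxS⟩
        simp only [T, Finset.coe_image, Set.mem_image]
        exact ⟨⟨(i, j), hxS⟩, by simp, rfl⟩
  set M := n * (n + 1) + n + 1
  have hM : ∀ a b : Fin n, key a b < M := fun a b => by
    have := Nat.mul_le_mul_right (n + 1) (show (b : ℕ) - a ≤ n by omega)
    have := a.2
    unfold key
    omega
  suffices hsift : ∀ d k, M - k = d → ∀ A ∈ H, Low k A → A ∈ H' from
    fun A hA => hsift M 0 (by simp) A hA fun a b _ h => absurd h (Nat.not_lt_zero _)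
  intro d
  induction d with
  | zero =>
    intro k hk A hA hlow
    have hA1 : A = 1 := by
      ext r s
      show ent A r s = (1 : Matrix (Fin n) (Fin n) (ZMod p)) r s
      rcases lt_trichotomy r s with h | rfl | h
      · rw [hlow r s h (lt_of_lt_of_le (hM r s) (by omega)), Matrix.one_apply_ne h.ne]
      · rw [(hU A hA).2, Matrix.one_apply_eq]
      · rw [(hU A hA).1 r s h, Matrix.one_apply_ne h.ne']
    rw [hA1]
    exact one_mem _
  | succ d ih =>
    intro k hk A hA hlow
    by_cases hex : ∃ a b, a < b ∧ key a b = k ∧ ent A a b ≠ 0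
    swap
    · push Not at hex
      refine ih (k + 1) (by omega) A hA fun a b hab hlt => ?_
      rcases Nat.lt_succ_iff_lt_or_eq.1 hlt with h | h
      · exact hlow a b hab h
      · exact hex a b hab h
    obtain ⟨a, b, hab, hkey, hne⟩ := hex
    obtain ⟨R, hR, -, hRne, hR0⟩ := hlead _ a b ⟨A, hA, hab, hne, fun x y hxy h =>
      hlow x y hxy (hkey ▸ h)⟩ rfl
    set m := (-ent A a b / ent R a b).val
    have hRU := hU R (hH'H hR)
    have hRlow : Low k R := fun x y hxy h => hR0 x y hxy (hkey ▸ h)
    have hmem : A * R ^ m ∈ H' := by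
      refine ih (k + 1) (by omega) _ (mul_mem hA (pow_mem (hH'H hR) m)) fun x y hxy hlt => ?_
      have hle : key x y ≤ k := Nat.lt_succ_iff.1 hlt
      rw [ent_mul_low (hU A hA) (hRU.pow m) hlow hxy hle, (low_pow hRU hRlow m).2 x y hxy hle]
      rcases hle.lt_or_eq with h | h
      · rw [hlow x y hxy h, hRlow x y hxy h, mul_zero, add_zero]
      · obtain ⟨rfl, rfl⟩ := key_inj hxy hab (h.trans hkey.symm)
        rw [ZMod.natCast_zmod_val, div_mul_cancel₀ _ hRne, add_neg_cancel]
    have := mul_mem hmem (inv_mem (pow_mem hR m))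
    rwa [mul_inv_cancel_right] at this

/-- Every `p`-subgroup of `SLₙ(p)` is conjugate into the unitriangular group. -/
theorem exists_conj_le_unip (R : Subgroup SLp) (hR : IsPGroup p R) :
    ∃ g : SLp, R.map (MulAut.conj g).toMonoidHom ≤ unip (ZMod p) n := by
  obtain ⟨Q, hQ⟩ := (isPGroup_unip (K := ZMod p) (p := p) (n := n)).exists_le_sylow
  obtain ⟨T, hT⟩ := hR.exists_le_sylow
  have hker : ∀ A : SLp, QuotientGroup.mk' (Subgroup.center SLp) A = 1 ↔
      A ∈ Subgroup.center SLp := fun A => QuotientGroup.eq_one_iff A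
  have hsurj := QuotientGroup.mk'_surjective (Subgroup.center SLp)
  obtain ⟨Q', hQ'⟩ := (Q.2.map (QuotientGroup.mk' (Subgroup.center SLp))).exists_le_sylow
  have heq := eq_map_unip (p := p) hker hsurj Q' ((Subgroup.map_mono hQ).trans hQ')
  have hQU : (Q : Subgroup SLp) ≤ unip (ZMod p) n := by
    intro x hx
    obtain ⟨u, hu, hux⟩ : QuotientGroup.mk' (Subgroup.center SLp) x ∈
        (unip (ZMod p) n).map (QuotientGroup.mk' (Subgroup.center SLp)) :=
      heq ▸ hQ' (Subgroup.mem_map_of_mem _ hx)
    have hz : u⁻¹ * x ∈ Subgroup.center SLp := (hker _).1 (by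
      rw [map_mul, map_inv, hux, inv_mul_cancel])
    obtain ⟨k, hk⟩ := Q.2 ⟨u⁻¹ * x, mul_mem (inv_mem (hQ hu)) hx⟩
    have h1 := eq_one_of_center_pow (p := p) hz (k := k) (congrArg Subtype.val hk)
    rw [← inv_mul_eq_one.1 h1]
    exact hu
  obtain ⟨g, hg⟩ := MulAction.exists_smul_eq SLp T Q
  refine ⟨g, (Subgroup.map_mono hT).trans (le_trans (le_of_eq ?_) hQU)⟩
  rw [← hg]
  rfl

/-- A `p`-subgroup of `SLₙ(p)` needs at most `n² / 4` generators. -/
theorem sl_gen (R : Subgroup SLp) (hR : IsPGroup p R) : GenBy R (n * n / 4) := by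
  obtain ⟨g, hg⟩ := exists_conj_le_unip R hR
  have := (unip_gen _ hg).map (MulAut.conj g).symm.toMonoidHom
  have e : (R.map (MulAut.conj g).toMonoidHom).map (MulAut.conj g).symm.toMonoidHom = R := by
    ext x
    simp [Subgroup.mem_map, mul_assoc]
  rwa [e] at this

end Unitriangular

section Rep

variable {p : ℕ} [hp : Fact p.Prime]

theorem natCard_module (V : Type*) [AddCommGroup V] [Finite V] [Module (ZMod p) V] :
    Nat.card V = p ^ Module.finrank (ZMod p) V := by
  rw [Module.natCard_eq_pow_finrank (K := ZMod p) (V := V), Nat.card_zmod]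

theorem finrank_le_of_closure (V : Type*) [AddCommGroup V] [Finite V] [Module (ZMod p) V]
    (T : Finset V) (hT : AddSubgroup.closure (T : Set V) = ⊤) :
    Module.finrank (ZMod p) V ≤ T.card := by
  have htop : Submodule.span (ZMod p) (T : Set V) = ⊤ := by
    rw [Submodule.eq_top_iff']
    intro w
    have hle : AddSubgroup.closure (T : Set V) ≤
        (Submodule.span (ZMod p) (T : Set V)).toAddSubgroup :=
      (AddSubgroup.closure_le _).2 Submodule.subset_span
    exact hle (hT ▸ AddSubgroup.mem_top w)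
  have := finrank_span_finset_le_card (R := ZMod p) T
  rwa [Set.finrank, htop, finrank_top] at this

theorem rep_of_module {V : Type*} [AddCommGroup V] [Finite V] [Module (ZMod p) V] {P : Type u}
    [Group P] (hP : IsPGroup p P) (φ : P →* Module.End (ZMod p) V) :
    ∃ ψ : P →* Matrix.SpecialLinearGroup (Fin (Module.finrank (ZMod p) V)) (ZMod p),
      ∀ g, ψ g = 1 → φ g = 1 := by
  let b := Module.finBasis (ZMod p) V
  let M : P →* Matrix (Fin (Module.finrank (ZMod p) V)) (Fin (Module.finrank (ZMod p) V)) (ZMod p) :=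
    (LinearMap.toMatrixAlgEquiv b).toMonoidHom.comp φ
  have hdet : ∀ g, (M g).det = 1 := fun g => by
    obtain ⟨e, he⟩ := hP g
    refine eq_one_of_pow_prime_pow_eq_one (p := p) (k := e) ?_
    rw [← Matrix.det_pow, ← map_pow, he, map_one, Matrix.det_one]
  refine ⟨{ toFun := fun g => ⟨M g, hdet g⟩
            map_one' := Subtype.ext (map_one M)
            map_mul' := fun g h => Subtype.ext (map_mul M g h) }, fun g hg => ?_⟩
  have h1 : M g = M 1 := by rw [map_one]; exact congrArg Subtype.val hg
  have h2 : φ g = φ 1 := (LinearMap.toMatrixAlgEquiv b).injective h1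
  rwa [map_one] at h2

/-- Endomorphisms of a `ZMod p`-module given by additive maps. -/
def endOfAdd {V : Type*} [AddCommGroup V] [Module (ZMod p) V] {P : Type u} [Group P]
    (f : P → V →+ V) (h1 : ∀ v, f 1 v = v) (h2 : ∀ g h v, f (g * h) v = f g (f h v)) :
    P →* Module.End (ZMod p) V where
  toFun g := (f g).toZModLinearMap p
  map_one' := LinearMap.ext h1
  map_mul' g h := LinearMap.ext (h2 g h)

/-- An elementary abelian group, its rank, and linearisation of `p`-groups acting on it. -/
theorem elementary_rep {E : Type u} [CommGroup E] [Finite E] (hE : ∀ e : E, e ^ p = 1) :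
    ∃ r : ℕ, Nat.card E = p ^ r ∧
      (∀ T : Finset E, Subgroup.closure (T : Set E) = ⊤ → r ≤ T.card) ∧
      ∀ {P : Type u} [Group P], IsPGroup p P → ∀ φ : P →* MulAut E,
        ∃ ψ : P →* Matrix.SpecialLinearGroup (Fin r) (ZMod p), ψ.ker ≤ φ.ker := by
  have h00 : ∀ w : Additive E, p • w = 0 := fun w =>
    Additive.toMul.injective (by rw [toMul_nsmul, toMul_zero, hE])
  let _ : Module (ZMod p) (Additive E) := AddCommGroup.zmodModule h00
  refine ⟨Module.finrank (ZMod p) (Additive E), ?_, fun T hT => ?_, fun {P} _ hP φ => ?_⟩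
  · rw [Nat.card_congr (Additive.ofMul (α := E))]
    exact natCard_module (p := p) (Additive E)
  · refine le_trans (finrank_le_of_closure (p := p) (Additive E) (T.image Additive.ofMul) ?_)
      Finset.card_image_le
    rw [eq_top_iff]
    intro w _
    have hx : Additive.toMul w ∈ Subgroup.closure (T : Set E) := hT ▸ Subgroup.mem_top _
    obtain ⟨x, rfl⟩ := Additive.ofMul.surjective w
    rw [toMul_ofMul] at hx
    induction hx using Subgroup.closure_induction with
    | mem s hs => exact AddSubgroup.subset_closure (Finset.mem_coe.2 (Finset.mem_image_of_mem _ hs))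
    | one => exact AddSubgroup.zero_mem _
    | mul a b _ _ iha ihb => exact AddSubgroup.add_mem _ (iha trivial) (ihb trivial)
    | inv a _ iha => exact AddSubgroup.neg_mem _ (iha trivial)
  · obtain ⟨ψ, hψ⟩ := rep_of_module (p := p) hP
      (endOfAdd (p := p) (fun g => (φ g).toMonoidHom.toAdditive)
        (fun v => congrArg Additive.ofMul (DFunLike.congr_fun (map_one φ) (Additive.toMul v)))
        (fun g h v => congrArg Additive.ofMul
          (DFunLike.congr_fun (map_mul φ g h) (Additive.toMul v))))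
    refine ⟨ψ, fun g hg => MulEquiv.ext fun x => ?_⟩
    exact congrArg Additive.toMul (LinearMap.congr_fun (hψ g hg) (Additive.ofMul x))

end Rep

end Cfsg.Agent.Grp.GenCount
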