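import Mathlib
import Cfsg.Agent.Lib.Grp.CyclicShift
import Cfsg.Agent.Lib.Grp.HallHigman
import Cfsg.Agent.Lib.Grp.FpfRep
import Cfsg.Agent.Lib.Grp.Coprime

/-!
The Shult–Gross theorem on modules: an operator of odd prime power order without fixed points on a
coprime `r`-group and on a module for it has its element of prime order acting trivially on the image.
-/

set_option autoImplicit false

namespace Cfsg.Agent.Grp.ShultGross

open Module CyclicShift
open scoped commutatorElement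

theorem tau_trivial {K : Type*} [Field K] [IsAlgClosed K] {Γ : Type*} [Group Γ] [Finite Γ] {p r : ℕ}
    [hp : Fact p.Prime] [hr : Fact r.Prime] (hp2 : p ≠ 2) (hrp : r ≠ p) (hpK : (p : K) ≠ 0) (hrK : (r : K) ≠ 0)
    {V : Type*} [AddCommGroup V] [Module K V] [FiniteDimensional K V] (ρ : Γ →* Module.End K V) (s : Γ)
    {n : ℕ} (hn : 1 ≤ n) (hs : s ^ p ^ n = 1) (hsum : ∑ i ∈ Finset.range (p ^ n), ρ (s ^ i) = 0)
    (R : Subgroup Γ) (hR : IsPGroup r R) (hsR : s ∈ Subgroup.normalizer (R : Set Γ))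
    (hfpf : ∀ g ∈ R, ρ (s * g * s⁻¹) = ρ g → ρ g = 1) :
    ∀ g ∈ R, ρ (s ^ p ^ (n - 1) * g * (s ^ p ^ (n - 1))⁻¹) = ρ g := by
  classical
  induction hcard : Nat.card R using Nat.strong_induction_on generalizing R with
  | _ N₀ ih =>
  set τ := s ^ p ^ (n - 1) with hτ
  set T := Subgroup.zpowers τ with hT
  have hτR : τ ∈ Subgroup.normalizer (R : Set Γ) := Subgroup.pow_mem _ hsR _
  have hTR : T ≤ Subgroup.normalizer (R : Set Γ) := Subgroup.zpowers_le.mpr hτR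
  have hIH : ∀ A : Subgroup Γ, A ≤ R → A ≠ R → s ∈ Subgroup.normalizer (A : Set Γ) →
      ∀ g ∈ A, ρ (τ * g * τ⁻¹) = ρ g := fun A hAR hne hsA => by
    refine ih _ ?_ A (hR.to_le hAR) hsA (fun g hg => hfpf g (hAR hg)) rfl
    rw [← hcard]
    exact lt_of_not_ge fun h => hne (Subgroup.eq_of_le_of_card_ge hAR h)
  have hiter : ∀ A : Subgroup Γ, τ ∈ Subgroup.normalizer (A : Set Γ) → (∀ g ∈ A, ρ (τ * g * τ⁻¹) = ρ g) →
      ∀ t ∈ T, ∀ g ∈ A, ρ (t * g * t⁻¹) = ρ g := by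
    intro A hτA h t ht
    obtain ⟨i, rfl⟩ := mem_powers_iff_mem_zpowers.mpr ht
    show ∀ g ∈ A, ρ (τ ^ i * g * (τ ^ i)⁻¹) = ρ g
    clear ht
    induction i with
    | zero => intro g _; simp
    | succ i ihi =>
      intro g hg
      rw [show τ ^ (i + 1) * g * (τ ^ (i + 1))⁻¹ = τ ^ i * (τ * g * τ⁻¹) * (τ ^ i)⁻¹ by rw [pow_succ]; group,
        ihi _ ((Subgroup.mem_normalizer_iff.mp hτA g).mp hg), h g hg]
  have hinv : ∀ g : Γ, ρ g * ρ g⁻¹ = 1 := fun g => by rw [← map_mul, mul_inv_cancel, map_one]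
  have hinv' : ∀ g : Γ, ρ g⁻¹ * ρ g = 1 := fun g => by rw [← map_mul, inv_mul_cancel, map_one]
  -- the reduction `R = [R, τ]`
  have hR1le : ⁅R, T⁆ ≤ R := commutator_le_left_of_le_normalizer hTR
  have hsR1 : s ∈ Subgroup.normalizer ((⁅R, T⁆ : Subgroup Γ) : Set Γ) := by
    rw [mem_normalizer_iff_smul, ← map_conj_eq_smul, Subgroup.map_commutator]
    congr 1
    · rw [map_conj_eq_smul]; exact mem_normalizer_iff_smul.mp hsR
    · rw [hT, MonoidHom.map_zpowers]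
      congr 1
      show s * τ * s⁻¹ = τ
      rw [hτ, (Commute.self_pow s (p ^ (n - 1))).eq, mul_inv_cancel_right]
  by_cases hgen : ⁅R, T⁆ = R
  swap
  · have h1 := hIH _ hR1le hgen hsR1
    have hτR1 : τ ∈ Subgroup.normalizer ((⁅R, T⁆ : Subgroup Γ) : Set Γ) := Subgroup.pow_mem _ hsR1 _
    let Ck : Subgroup Γ :=
      { carrier := {g | ρ g = 1}
        one_mem' := map_one ρ
        mul_mem' := fun {a b} ha hb => by
          show ρ (a * b) = 1
          rw [map_mul, show ρ a = 1 from ha, show ρ b = 1 from hb, one_mul]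
        inv_mem' := fun {a} ha => by
          show ρ a⁻¹ = 1
          have := hinv' a
          rwa [show ρ a = 1 from ha, mul_one] at this }
    have hTp : IsPGroup p T := by
      obtain ⟨m, -, hm⟩ := (Nat.dvd_prime_pow hp.out).mp
        (orderOf_dvd_of_pow_eq_one (show τ ^ p ^ 1 = 1 by
          rw [hτ, ← pow_mul, ← pow_add, show n - 1 + 1 = n by omega, hs]))
      exact IsPGroup.of_card (n := m) (by rw [hT, Nat.card_zpowers, hm])
    have hcop : (Nat.card T).Coprime (Nat.card R) := IsPGroup.coprime_card_of_ne p r (Ne.symm hrp) T R hTp hR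
    have hle : ⁅R, T⁆ ≤ Ck := by
      rw [← commutator_commutator_eq T R hTR hcop (Or.inr (@IsNilpotent.to_isSolvable _ _ hR.isNilpotent))]
      rw [Subgroup.commutator_le]
      intro k hk t ht
      show ρ ⁅k, t⁆ = 1
      rw [show ⁅k, t⁆ = k * (t * k⁻¹ * t⁻¹) by rw [commutatorElement_def]; group, map_mul,
        hiter _ hτR1 h1 t ht _ (Subgroup.inv_mem _ hk), hinv]
    intro g hg
    have h2 : ρ ⁅g, τ⁆ = 1 := hle (Subgroup.commutator_mem_commutator hg (Subgroup.mem_zpowers τ))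
    calc ρ (τ * g * τ⁻¹) = ρ (⁅g, τ⁆ * (τ * g * τ⁻¹)) := by rw [map_mul ρ ⁅g, τ⁆, h2, one_mul]
      _ = ρ g := by congr 1; rw [commutatorElement_def]; group
  by_cases hRbot : R = ⊥
  · intro g hg
    rw [hRbot, Subgroup.mem_bot] at hg
    simp [hg]
  -- the centre modulo the kernel
  set R' := ⁅R, R⁆ with hR'
  have hR'le : R' ≤ R := Subgroup.commutator_le.mpr fun a ha b hb => by
    rw [commutatorElement_def]
    exact R.mul_mem (R.mul_mem (R.mul_mem ha hb) (R.inv_mem ha)) (R.inv_mem hb)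
  have hR'ne : R' ≠ R := by
    intro e
    haveI : Nontrivial R := (Subgroup.nontrivial_iff_ne_bot R).mpr hRbot
    haveI : Group.IsSolvable R := @IsNilpotent.to_isSolvable _ _ hR.isNilpotent
    refine (IsSolvable.commutator_lt_top_of_nontrivial R).ne ?_
    refine Subgroup.map_injective R.subtype_injective ?_
    rw [Subgroup.map_subtype_commutator, ← hR', e, ← MonoidHom.range_eq_map, Subgroup.range_subtype]
  have hnormR' : ∀ g ∈ Subgroup.normalizer (R : Set Γ), g ∈ Subgroup.normalizer (R' : Set Γ) := by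
    intro g hg
    rw [mem_normalizer_iff_smul, ← map_conj_eq_smul, hR', Subgroup.map_commutator, map_conj_eq_smul,
      mem_normalizer_iff_smul.mp hg]
  have hτR' := hIH R' hR'le hR'ne (hnormR' s hsR)
  have hTR' := hiter R' (hnormR' τ hτR) hτR'
  set Z := repCenter (k := K) (M := V) ρ R with hZdef
  have hZR : Z ≤ R := repCenter_le (k := K) (M := V) ρ
  let Mc : Subgroup Γ :=
    { carrier := {g | ∀ c ∈ R', ρ (g * c) = ρ (c * g)}
      one_mem' := fun c _ => by simp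
      mul_mem' := fun {a b} ha hb c hc => by
        show ρ (a * b * c) = ρ (c * (a * b))
        rw [mul_assoc, map_mul, hb c hc, ← map_mul, ← mul_assoc, map_mul, ha c hc, ← map_mul, mul_assoc]
      inv_mem' := fun {a} ha c hc => by
        calc ρ (a⁻¹ * c) = ρ (a⁻¹ * ((c * a) * a⁻¹)) := by rw [mul_inv_cancel_right]
          _ = ρ a⁻¹ * ρ (c * a) * ρ a⁻¹ := by simp only [← map_mul, mul_assoc]
          _ = ρ a⁻¹ * ρ (a * c) * ρ a⁻¹ := by rw [ha c hc]
          _ = ρ (c * a⁻¹) := by rw [← map_mul, ← map_mul, ← mul_assoc, inv_mul_cancel, one_mul] }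
  have hRMc : R ≤ Mc := hgen.ge.trans (Subgroup.commutator_le.mpr fun g hg t ht => by
    intro c hc
    set u := ⁅g, t⁆ with hu
    have htN' : t ∈ Subgroup.normalizer (R' : Set Γ) := hnormR' t (hTR ht)
    have hgN' : g ∈ Subgroup.normalizer (R' : Set Γ) := hnormR' g (Subgroup.le_normalizer hg)
    have hc' : t⁻¹ * c * t ∈ R' := by
      simpa using (Subgroup.mem_normalizer_iff.mp (Subgroup.inv_mem _ htN') c).mp hc
    have hd : g⁻¹ * (t⁻¹ * c * t) * g ∈ R' := by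
      simpa using (Subgroup.mem_normalizer_iff.mp (Subgroup.inv_mem _ hgN') _).mp hc'
    have e1 : ρ (u * c * u⁻¹) = ρ c := by
      calc ρ (u * c * u⁻¹) = ρ g * ρ (t * (g⁻¹ * (t⁻¹ * c * t) * g) * t⁻¹) * ρ g⁻¹ := by
            rw [← map_mul, ← map_mul]; congr 1; rw [hu, commutatorElement_def]; group
        _ = ρ g * ρ (g⁻¹ * (t⁻¹ * c * t) * g) * ρ g⁻¹ := by rw [hTR' t ht _ hd]
        _ = ρ (t⁻¹ * c * t) := by rw [← map_mul, ← map_mul]; congr 1; group
        _ = ρ c := by rw [← hTR' t ht _ hc']; congr 1; group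
    show ρ (u * c) = ρ (c * u)
    rw [show u * c = (u * c * u⁻¹) * u by group, map_mul, e1, ← map_mul])
  have hR'Z : R' ≤ Z := fun c hc => ⟨hR'le hc, fun x hx => (hRMc hx c hc).symm⟩
  have hRcard : (Nat.card R : K) ≠ 0 := by
    obtain ⟨i, hi⟩ := hR.exists_card_eq
    rw [hi, Nat.cast_pow]
    exact pow_ne_zero _ hrK
  by_cases hZtop : R ≤ Z
  · -- abelian image
    have hcR : ∀ a ∈ R, ∀ b ∈ R, ∀ v ∈ (⊤ : Submodule K V), ρ a (ρ b v) = ρ b (ρ a v) := fun a ha b hb v _ => by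
      rw [← Module.End.mul_apply, ← map_mul, (hZtop ha).2 b hb, map_mul, Module.End.mul_apply]
    have hsp := mem_span_eigen ρ R hRcard ⊤ (fun _ _ _ _ => trivial) hcR
    have hfix : ∀ a ∈ R, ρ (τ⁻¹ * a * τ) = ρ a := by
      intro a ha
      refine LinearMap.ext fun v => ?_
      induction hsp (Submodule.mem_top (x := v)) using Submodule.span_induction with
      | mem w hw =>
        exact eigen_fixed ρ hp.out s hs R hsR w hw.2 (by
          have := LinearMap.congr_fun hsum w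
          rwa [LinearMap.sum_apply] at this) a ha
      | zero => simp
      | add a b _ _ h1 h2 => rw [map_add, map_add, h1, h2]
      | smul c a _ h1 => rw [map_smul, map_smul, h1]
    intro g hg
    rw [← hfix _ ((Subgroup.mem_normalizer_iff.mp hτR g).mp hg)]
    congr 1; group
  exfalso
  have hsZ : s ∈ Subgroup.normalizer (Z : Set Γ) :=
    le_normalizer_repCenter (k := K) (M := V) ρ (H := Subgroup.zpowers s) (Subgroup.zpowers_le.mpr hsR)
      (Subgroup.mem_zpowers s)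
  have hτZ := hIH Z hZR (fun e => hZtop e.ge) hsZ
  have hZn : ∀ g ∈ Subgroup.normalizer (R : Set Γ), g ∈ Subgroup.normalizer (Z : Set Γ) :=
    fun g hg => le_normalizer_repCenter (k := K) (M := V) ρ (H := Subgroup.zpowers g)
      (Subgroup.zpowers_le.mpr hg) (Subgroup.mem_zpowers g)
  have hconjZ : ∀ (i : ℕ) z, z ∈ Z → (s ^ i)⁻¹ * z * s ^ i ∈ Z := by
    intro i z hz
    simpa using (Subgroup.mem_normalizer_iff.mp (Subgroup.inv_mem _ (Subgroup.pow_mem _ hsZ i)) z).mp hz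
  have hconjR : ∀ (i : ℕ) z, z ∈ R → (s ^ i)⁻¹ * z * s ^ i ∈ R := by
    intro i z hz
    simpa using (Subgroup.mem_normalizer_iff.mp (Subgroup.inv_mem _ (Subgroup.pow_mem _ hsR i)) z).mp hz
  -- an eigencharacter of `Z` non-trivial on the derived subgroup
  obtain ⟨c₀, hc₀, hc₀1⟩ : ∃ c₀ ∈ R', ρ c₀ ≠ 1 := by
    by_contra hne
    push Not at hne
    refine hZtop fun a ha => ⟨ha, fun b hb => ?_⟩
    rw [show a * b = ⁅a, b⁆ * (b * a) by rw [commutatorElement_def]; group, map_mul,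
      hne _ (Subgroup.commutator_mem_commutator ha hb), one_mul]
  have hZcard : (Nat.card Z : K) ≠ 0 := by
    obtain ⟨i, hi⟩ := (hR.to_le hZR).exists_card_eq
    rw [hi, Nat.cast_pow]
    exact pow_ne_zero _ hrK
  have hZcomm : ∀ z ∈ Z, ∀ g ∈ R, ∀ v, ρ z (ρ g v) = ρ g (ρ z v) := fun z hz g hg v => by
    rw [← Module.End.mul_apply, ← map_mul, hz.2 g hg, map_mul, Module.End.mul_apply]
  obtain ⟨v₀, hv₀e, hv₀ne⟩ : ∃ v₀, (∀ z ∈ Z, ∃ c : K, ρ z v₀ = c • v₀) ∧ ρ c₀ v₀ ≠ v₀ := by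
    by_contra hne
    push Not at hne
    refine hc₀1 (LinearMap.ext fun v => ?_)
    induction mem_span_eigen ρ Z hZcard ⊤ (fun _ _ _ _ => trivial) (fun a ha b hb v _ => hZcomm a ha b (hZR hb) v)
      (Submodule.mem_top (x := v)) using Submodule.span_induction with
    | mem w hw => exact hne w hw.2
    | zero => simp
    | add a b _ _ h1 h2 => simp only [map_add, h1, h2]
    | smul c a _ h1 => simp only [map_smul, h1]
  have hv0 : v₀ ≠ 0 := fun e => hv₀ne (by simp [e])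
  let c : Γ → K := fun z => if hz : z ∈ Z then (hv₀e z hz).choose else 0
  have hc : ∀ z ∈ Z, ρ z v₀ = c z • v₀ := fun z hz => by
    simp only [c, dif_pos hz]
    exact (hv₀e z hz).choose_spec
  have huniq : ∀ a b : K, a • v₀ = b • v₀ → a = b := fun a b e => smul_left_injective K hv0 e
  have hcρ : ∀ z ∈ Z, ∀ z' ∈ Z, ρ z = ρ z' → c z = c z' := fun z hz z' hz' e =>
    huniq _ _ (by rw [← hc z hz, ← hc z' hz', e])
  have hcmul : ∀ z ∈ Z, ∀ z' ∈ Z, c (z * z') = c z * c z' := by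
    intro z hz z' hz'
    refine huniq _ _ ?_
    rw [← hc _ (Z.mul_mem hz hz'), map_mul, Module.End.mul_apply, hc z' hz', map_smul, hc z hz, smul_smul, mul_comm]
  have hc1 : c 1 = 1 := huniq _ _ (by rw [← hc _ Z.one_mem, one_smul, map_one]; rfl)
  let W : Submodule K V :=
    { carrier := {v | ∀ z ∈ Z, ρ z v = c z • v}
      add_mem' := fun {a b} ha hb z hz => by rw [map_add, ha z hz, hb z hz, smul_add]
      zero_mem' := fun z _ => by simp
      smul_mem' := fun a v hv z hz => by rw [map_smul, hv z hz, smul_comm] }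
  have hv₀W : v₀ ∈ W := hc
  -- periods of the character
  let P : ℕ → Prop := fun a => ∀ z ∈ Z, c ((s ^ a)⁻¹ * z * s ^ a) = c z
  have hP0 : P 0 := fun z _ => by congr 1; simp
  have hPadd : ∀ a b, P a → P b → P (a + b) := by
    intro i j hi hj z hz
    rw [← hi z hz, ← hj _ (hconjZ i z hz)]
    congr 1
    rw [pow_add]; group
  have hPmod : ∀ a, P a → P (a % p ^ n) := by
    intro a ha z hz
    rw [← ha z hz, ← pow_eq_pow_mod a hs]
  have hPτ : P (p ^ (n - 1)) := by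
    intro z hz
    refine hcρ _ (hconjZ _ z hz) _ hz ?_
    show ρ (τ⁻¹ * z * τ) = ρ z
    rw [← hτZ _ (hconjZ (p ^ (n - 1)) z hz)]
    congr 1
    rw [← hτ]; group
  have hPex : ∃ e, P (p ^ e) := ⟨n - 1, hPτ⟩
  set e := Nat.find hPex with he
  have hen : e ≤ n - 1 := Nat.find_min' hPex hPτ
  have hPe : P (p ^ e) := Nat.find_spec hPex
  set N := p ^ e with hN
  have hPmul : ∀ k : ℕ, P (N * k) := by
    intro k
    induction k with
    | zero => simpa using hP0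
    | succ k ihk => rw [Nat.mul_succ]; exact hPadd _ _ ihk hPe
  have hper : ∀ a, P a → N ∣ a := by
    intro a ha
    haveI : NeZero (p ^ n) := ⟨pow_ne_zero _ hp.out.ne_zero⟩
    obtain ⟨i, hi, hi'⟩ := (Nat.dvd_prime_pow hp.out).mp (Nat.gcd_dvd_right a (p ^ n))
    have hNi : N ∣ p ^ i := by
      refine pow_dvd_pow p ?_
      rcases lt_or_eq_of_le hi with hlt | heq
      · refine Nat.find_min' hPex ?_
        have h1 := period_gcd hP0 hPadd hPmod ha
        rwa [hi', Nat.mod_eq_of_lt (Nat.pow_lt_pow_right hp.out.one_lt hlt)] at h1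
      · omega
    exact hNi.trans (hi' ▸ Nat.gcd_dvd_left a (p ^ n))
  set x := s ^ N with hx
  set h := p ^ (n - e) with hh
  have hNh : N * h = p ^ n := by rw [hN, hh, ← pow_add]; congr 1; omega
  have hxh : x ^ h = 1 := by rw [hx, ← pow_mul, hNh, hs]
  have hτx : τ = x ^ p ^ (n - e - 1) := by
    rw [hx, hτ, ← pow_mul, hN, ← pow_add]; congr 2; omega
  have hxR : x ∈ Subgroup.normalizer (R : Set Γ) := Subgroup.pow_mem _ hsR _
  have hWs : ∀ (a : ℕ) v, v ∈ W → ∀ z ∈ Z, ρ z (ρ (s ^ a) v) = c ((s ^ a)⁻¹ * z * s ^ a) • ρ (s ^ a) v := by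
    intro a v hv z hz
    rw [← map_smul, ← hv _ (hconjZ a z hz), ← Module.End.mul_apply, ← map_mul, ← Module.End.mul_apply, ← map_mul]
    congr 2; group
  have hWk : ∀ k : ℕ, ∀ v ∈ W, ρ (x ^ k) v ∈ W := by
    intro k v hv z hz
    rw [hx, ← pow_mul, hWs _ v hv z hz, hPmul k z hz]
  -- orbit sums vanish
  have hW0 : ∀ v ∈ W, ∑ b ∈ Finset.range h, ρ (x ^ b) v = 0 := by
    intro v hv
    set u := ∑ b ∈ Finset.range h, ρ (x ^ b) v with hu
    have huW : u ∈ W := W.sum_mem fun b _ => hWk b v hv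
    have htot : ∑ a ∈ Finset.range N, ρ (s ^ a) u = 0 := by
      have h1 := LinearMap.congr_fun hsum v
      rw [LinearMap.sum_apply, ← hNh, sum_range_mul, Finset.sum_comm] at h1
      rw [← LinearMap.zero_apply (σ₁₂ := RingHom.id K) (M := V) (M₂ := V) v, ← h1]
      refine Finset.sum_congr rfl fun a _ => ?_
      rw [hu, map_sum]
      refine Finset.sum_congr rfl fun b _ => ?_
      rw [← Module.End.mul_apply, ← map_mul, hx, ← pow_mul, ← pow_add, add_comm a]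
    have h2 := eq_zero_of_sum_eq_zero (fun z : ↥Z => ρ (z : Γ))
      (fun (a : ℕ) (z : ↥Z) => c ((s ^ a)⁻¹ * z * s ^ a)) (fun a => ρ (s ^ a) u) (Finset.range N)
      (fun a _ z => hWs a u huW z z.2) ?_ htot 0 (Finset.mem_range.mpr (pow_pos hp.out.pos e))
    · simpa using h2
    have key : ∀ i j : ℕ, i < j → j < N →
        (∀ z ∈ Z, c ((s ^ i)⁻¹ * z * s ^ i) = c ((s ^ j)⁻¹ * z * s ^ j)) → False := by
      intro i j hlt hj hij
      refine absurd (Nat.le_of_dvd (by omega) (hper (j - i) fun z hz => ?_)) (by omega)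
      have hz' : s ^ i * z * (s ^ i)⁻¹ ∈ Z :=
        (Subgroup.mem_normalizer_iff.mp (Subgroup.pow_mem _ hsZ i) z).mp hz
      refine Eq.trans ?_ ((hij _ hz').symm.trans ?_)
      · congr 1
        rw [show s ^ j = s ^ i * s ^ (j - i) by rw [← pow_add]; congr 1; omega]
        group
      · congr 1; group
    intro i hi j hj hij
    simp only [Finset.coe_range, Set.mem_Iio] at hi hj
    rcases lt_trichotomy i j with h' | h' | h'
    · exact (key i j h' hj fun z hz => congrFun hij ⟨z, hz⟩).elim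
    · exact h'
    · exact (key j i h' hi fun z hz => (congrFun hij ⟨z, hz⟩).symm).elim
  -- restriction to `W`
  let St : Subgroup Γ :=
    { carrier := {g | (∀ v ∈ W, ρ g v ∈ W) ∧ ∀ v ∈ W, ρ g⁻¹ v ∈ W}
      one_mem' := by constructor <;> intro v hv <;> simpa using hv
      mul_mem' := fun {a b} ha hb => ⟨fun v hv => by rw [map_mul]; exact ha.1 _ (hb.1 v hv),
        fun v hv => by rw [mul_inv_rev, map_mul]; exact hb.2 _ (ha.2 v hv)⟩
      inv_mem' := fun {a} ha => ⟨ha.2, by rw [inv_inv]; exact ha.1⟩ }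
  have hRW : ∀ g ∈ R, ∀ v ∈ W, ρ g v ∈ W := fun g hg v hv z hz => by
    rw [hZcomm z hz g hg, hv z hz, map_smul]
  have hh0 : 0 < h := pow_pos hp.out.pos _
  set Δ := R ⊔ Subgroup.zpowers x with hΔ
  have hΔSt : Δ ≤ St := sup_le (fun g hg => ⟨hRW g hg, hRW _ (R.inv_mem hg)⟩)
    (Subgroup.zpowers_le.mpr ⟨fun v hv => by simpa using hWk 1 v hv, fun v hv => by
      rw [show x⁻¹ = x ^ (h - 1) by rw [inv_eq_iff_mul_eq_one, ← pow_succ', show h - 1 + 1 = h by omega, hxh]]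
      exact hWk _ v hv⟩)
  let ρW : ↥Δ →* Module.End K W :=
    { toFun := fun g => (ρ (g : Γ)).restrict (fun v hv => (hΔSt g.2).1 v hv)
      map_one' := LinearMap.ext fun v => Subtype.ext (by simp [LinearMap.restrict_apply])
      map_mul' := fun a b => LinearMap.ext fun v => Subtype.ext (by simp [LinearMap.restrict_apply]) }
  let φ := ρW.toHomUnits
  let f := φ.rangeRestrict
  let ρ' : ↥φ.range →* Module.End K W := (Units.coeHom _).comp φ.range.subtype
  haveI : Finite ↥φ.range := Finite.of_surjective f φ.rangeRestrict_surjective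
  have hρ' : ∀ (g : ↥Δ) (v : W), ((ρ' (f g) v : W) : V) = ρ (g : Γ) v := fun g v => rfl
  have hρinj : Function.Injective ρ' := fun a b e => Subtype.ext (Units.ext e)
  have hRΔ : R ≤ Δ := le_sup_left
  have hxΔ : x ∈ Δ := Subgroup.mem_sup_right (Subgroup.mem_zpowers x)
  set Q' := (R.subgroupOf Δ).map f with hQ'
  set Zp := (Z.subgroupOf Δ).map f with hZp
  set x' := f ⟨x, hxΔ⟩ with hx'
  set τ' := x' ^ p ^ (n - e - 1) with hτ'
  have hZpQ : Zp ≤ Q' := Subgroup.map_mono (Subgroup.comap_mono hZR)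
  let ω : ↥φ.range → K := fun g => if hg : ∃ c : K, ρ' g = c • 1 then hg.choose else 0
  have hsc : ∀ (z : ↥Δ), (z : Γ) ∈ Z → ρ' (f z) = c (z : Γ) • 1 := fun z hz => LinearMap.ext fun v => Subtype.ext (by
    rw [hρ', v.2 _ hz]; rfl)
  have hω : ∀ g ∈ Zp, ρ' g = ω g • 1 := by
    rintro _ ⟨z, hz, rfl⟩
    have hex : ∃ c' : K, ρ' (f z) = c' • 1 := ⟨_, hsc z hz⟩
    simp only [ω, dif_pos hex]
    exact hex.choose_spec
  have hωc : ∀ (z : ↥Δ), (z : Γ) ∈ Z → ω (f z) = c (z : Γ) := fun z hz => by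
    refine huniq _ _ ?_
    have h1 := LinearMap.congr_fun ((hω _ ⟨z, hz, rfl⟩).symm.trans (hsc z hz)) ⟨v₀, hv₀W⟩
    exact congrArg Subtype.val h1
  have hcent : ∀ z ∈ Zp, ∀ g, g * z = z * g := fun z hz g => hρinj (by
    rw [map_mul, map_mul, hω z hz, mul_smul_comm, smul_mul_assoc, mul_one, one_mul])
  have hxQ : x' ∈ Subgroup.normalizer (Q' : Set ↥φ.range) :=
    Subgroup.le_normalizer_map f ⟨⟨x, hxΔ⟩, (Subgroup.mem_normalizer_iff.mpr fun g =>
      Subgroup.mem_normalizer_iff.mp hxR (g : Γ)), rfl⟩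
  have hτQ : τ' ∈ Subgroup.normalizer (Q' : Set ↥φ.range) := Subgroup.pow_mem _ hxQ _
  have hcommZ : ∀ a ∈ Q', ∀ b ∈ Q', ⁅a, b⁆ ∈ Zp := by
    rintro _ ⟨a, ha, rfl⟩ _ ⟨b, hb, rfl⟩
    rw [← map_commutatorElement]
    refine ⟨_, ?_, rfl⟩
    show ((⁅a, b⁆ : ↥Δ) : Γ) ∈ Z
    exact hR'Z (Subgroup.commutator_mem_commutator ha hb)
  have hτ'eq : τ' = f ⟨τ, hτx ▸ Subgroup.pow_mem _ hxΔ _⟩ := by
    rw [hτ', hx', ← map_pow]
    congr 1
    exact Subtype.ext hτx.symm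
  have hQgen : Q' ≤ ⁅Q', Subgroup.zpowers τ'⁆ := by
    rw [hQ', hτ'eq, ← MonoidHom.map_zpowers, ← Subgroup.map_commutator]
    refine Subgroup.map_mono ((Subgroup.map_le_map_iff_of_injective Δ.subtype_injective).mp ?_)
    rw [Subgroup.map_commutator, MonoidHom.map_zpowers, Subgroup.map_subgroupOf_eq_of_le hRΔ]
    exact hgen.ge
  have hτZp : τ' ∈ Subgroup.normalizer (Zp : Set ↥φ.range) := by
    refine Subgroup.mem_normalizer_iff.mpr fun g => ⟨fun hg => ?_, fun hg => ?_⟩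
    · rwa [hcent g hg τ', mul_inv_cancel_right]
    · have := hcent _ hg τ'⁻¹
      rw [show τ'⁻¹ * (τ' * g * τ'⁻¹) = g * τ'⁻¹ by group] at this
      rwa [mul_right_cancel this]
  have hfree1 : ∀ a ∈ Q', ⁅a, τ'⁆ ∈ Zp → a ∈ Zp := fun a ha hat =>
    mem_of_commutator_mem Q' Zp τ' hτQ hτZp hZpQ hcommZ hQgen ha hat
  have hQ'p : IsPGroup r Q' := (hR.comap_subtype (K := Δ)).map f
  -- the centre of the image is scalar
  have hcentre : ∀ d ∈ Q', (∀ t ∈ Q', t * d = d * t) → d ∈ Zp := by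
    intro d hd hdc
    set D := Q' ⊓ Subgroup.centralizer (Q' : Set ↥φ.range) with hD
    have hdD : d ∈ D := Subgroup.mem_inf.mpr ⟨hd, Subgroup.mem_centralizer_iff.mpr hdc⟩
    have hxD : x' ∈ Subgroup.normalizer (D : Set ↥φ.range) := by
      rw [mem_normalizer_iff_smul]
      refine Subgroup.eq_of_le_of_card_ge ?_ (le_of_eq (card_conj_smul _ _).symm)
      rw [← map_conj_eq_smul]
      rintro _ ⟨g, hg, rfl⟩
      obtain ⟨hg1, hg2⟩ := Subgroup.mem_inf.mp hg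
      refine Subgroup.mem_inf.mpr ⟨(Subgroup.mem_normalizer_iff.mp hxQ g).mp hg1,
        Subgroup.mem_centralizer_iff.mpr fun t ht => ?_⟩
      show t * (x' * g * x'⁻¹) = x' * g * x'⁻¹ * t
      have ht' : x'⁻¹ * t * x' ∈ Q' := by
        simpa using (Subgroup.mem_normalizer_iff.mp (Subgroup.inv_mem _ hxQ) t).mp ht
      calc t * (x' * g * x'⁻¹) = x' * ((x'⁻¹ * t * x') * g) * x'⁻¹ := by group
        _ = x' * (g * (x'⁻¹ * t * x')) * x'⁻¹ := by rw [Subgroup.mem_centralizer_iff.mp hg2 _ ht']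
        _ = x' * g * x'⁻¹ * t := by group
    have hDcard : (Nat.card D : K) ≠ 0 := by
      obtain ⟨i, hi⟩ := (hQ'p.to_le (inf_le_left : D ≤ Q')).exists_card_eq
      rw [hi, Nat.cast_pow]
      exact pow_ne_zero _ hrK
    have hDc : ∀ a ∈ D, ∀ b ∈ D, ∀ v ∈ (⊤ : Submodule K W), ρ' a (ρ' b v) = ρ' b (ρ' a v) := fun a ha b hb v _ => by
      rw [← Module.End.mul_apply, ← map_mul, Subgroup.mem_centralizer_iff.mp (Subgroup.mem_inf.mp hb).2 a
        (Subgroup.mem_inf.mp ha).1, map_mul, Module.End.mul_apply]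
    have e1 : ρ' (τ'⁻¹ * d * τ') = ρ' d := by
      refine LinearMap.ext fun v => ?_
      induction mem_span_eigen ρ' D hDcard ⊤ (fun _ _ _ _ => trivial) hDc
        (Submodule.mem_top (x := v)) using Submodule.span_induction with
      | mem w hw =>
        refine eigen_fixed ρ' hp.out x' ?_ D hxD w hw.2 ?_ d hdD
        · show x' ^ p ^ (n - e) = 1
          rw [hx', ← map_pow, show (⟨x, hxΔ⟩ : ↥Δ) ^ p ^ (n - e) = 1 from Subtype.ext hxh, map_one]
        · refine Subtype.ext ?_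
          rw [Submodule.coe_sum]
          refine Eq.trans (Finset.sum_congr rfl fun b _ => ?_) (hW0 w w.2)
          rw [hx', ← map_pow, hρ', SubmonoidClass.coe_pow]
      | zero => simp
      | add a b _ _ h1 h2 => rw [map_add, map_add, h1, h2]
      | smul a b _ h1 => rw [map_smul, map_smul, h1]
    refine hfree1 d hd ?_
    have e2 : d * τ' = τ' * d := by
      have := hρinj e1
      calc d * τ' = τ' * (τ'⁻¹ * d * τ') := by group
        _ = τ' * d := by rw [this]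
    rw [commutatorElement_eq_one_iff_mul_comm.mpr e2]
    exact one_mem _
  haveI : Nontrivial W := Submodule.nontrivial_iff_ne_bot.mpr fun e => hv0 ((Submodule.mem_bot K).mp (e ▸ hv₀W))
  have hxZp : ∀ z ∈ Zp, x' * z = z * x' := fun z hz => hcent z hz x'
  have hne1 : 1 < n - e + 0 ∨ n - e = 1 := by omega
  have hh2 : 2 ≤ h := by
    rw [hh]
    calc 2 ≤ p ^ 1 := by rw [pow_one]; exact hp.out.two_le
      _ ≤ p ^ (n - e) := Nat.pow_le_pow_right hp.out.pos (by omega)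
  have hhK : (h : K) ≠ 0 := by rw [hh, Nat.cast_pow]; exact pow_ne_zero _ hpK
  have hx'h : x' ^ h = 1 := by
    rw [hx', ← map_pow, show (⟨x, hxΔ⟩ : ↥Δ) ^ h = 1 from Subtype.ext hxh, map_one]
  have hnd : ∀ g ∈ Q', g ∉ Zp → ∃ t ∈ Q', ω ⁅t, g⁆ ≠ 1 := by
    intro g hg hgZ
    by_contra hne
    push Not at hne
    refine hgZ (hcentre g hg fun t ht => commutatorElement_eq_one_iff_mul_comm.mp (hρinj ?_))
    rw [hω _ (hcommZ t ht g hg), hne t ht, one_smul, map_one]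
  have hfree : ∀ i, 0 < i → i < h → ∀ g ∈ Q', g⁻¹ * (x' ^ i * g * (x' ^ i)⁻¹) ∈ Zp → g ∈ Zp := by
    intro i hi hih g hg hgi
    let Pg : ℕ → Prop := fun i => g⁻¹ * (x' ^ i * g * (x' ^ i)⁻¹) ∈ Zp
    have hp0 : Pg 0 := by show _ ∈ Zp; simp
    have hpadd : ∀ a b, Pg a → Pg b → Pg (a + b) := by
      intro a b ha hb
      show _ ∈ Zp
      have e : g⁻¹ * (x' ^ (a + b) * g * (x' ^ (a + b))⁻¹) =
          (g⁻¹ * (x' ^ a * g * (x' ^ a)⁻¹)) * (x' ^ a * (g⁻¹ * (x' ^ b * g * (x' ^ b)⁻¹)) * (x' ^ a)⁻¹) := by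
        rw [pow_add]; group
      rw [e, hcent _ hb (x' ^ a), mul_inv_cancel_right]
      exact Zp.mul_mem ha hb
    have hpmod : ∀ a, Pg a → Pg (a % p ^ (n - e)) := by
      intro a ha
      show _ ∈ Zp
      rw [← pow_eq_pow_mod a hx'h]
      exact ha
    have h1 := period_prime_pow hp.out hp0 hpadd hpmod hgi fun hd => absurd (Nat.le_of_dvd hi hd) (by omega)
    refine inv_mem_iff.mp (hfree1 g⁻¹ (Q'.inv_mem hg) ?_)
    rw [show ⁅g⁻¹, τ'⁆ = g⁻¹ * (τ' * g * τ'⁻¹) by rw [commutatorElement_def]; group]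
    exact h1
  have hlt : Zp < Q' := by
    refine lt_of_le_of_ne hZpQ fun e' => ?_
    refine hv₀ne ?_
    have hc0Z : c₀ ∈ Z := hR'Z hc₀
    have hall : ∀ a ∈ R, ∀ b ∈ R, ρ ⁅a, b⁆ v₀ = v₀ := by
      intro a ha b hb
      have h1 : f ⁅(⟨a, hRΔ ha⟩ : ↥Δ), ⟨b, hRΔ hb⟩⁆ = 1 := by
        rw [map_commutatorElement, commutatorElement_eq_one_iff_mul_comm]
        exact hcent _ (e' ▸ (⟨_, hb, rfl⟩ : f ⟨b, hRΔ hb⟩ ∈ Q')) _
      have h2 := congrArg (fun g => ((ρ' g ⟨v₀, hv₀W⟩ : W) : V)) h1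
      simp only [hρ', map_one, Module.End.one_apply] at h2
      exact h2
    let Fx : Subgroup Γ :=
      { carrier := {g | ρ g v₀ = v₀}
        one_mem' := by show ρ 1 v₀ = v₀; rw [map_one]; rfl
        mul_mem' := fun {a b} ha hb => by
          show ρ (a * b) v₀ = v₀
          rw [map_mul, Module.End.mul_apply, show ρ b v₀ = v₀ from hb, show ρ a v₀ = v₀ from ha]
        inv_mem' := fun {a} ha => by
          show ρ a⁻¹ v₀ = v₀
          conv_lhs => rw [← show ρ a v₀ = v₀ from ha]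
          rw [← Module.End.mul_apply, hinv', Module.End.one_apply] }
    exact (Subgroup.commutator_le.mpr hall : R' ≤ Fx) hc₀
  obtain ⟨d, hd1, -, hd3⟩ := hallHigman_free ρ' Q' Zp x' hh2 hhK hx'h hxQ hxZp
    (fun g hg t ht => hcommZ t ht g hg) ω hω hnd hZpQ hfree
  have hdh : d + 1 = h := by
    refine hd3 (fun v hv => ?_) hlt
    have hpw : ∀ b : ℕ, ρ (x ^ b) (v : V) = (v : V) := by
      intro b
      induction b with
      | zero => simp
      | succ b ihb =>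
        rw [pow_succ, map_mul, Module.End.mul_apply]
        have h1 : ρ x (v : V) = (v : V) := congrArg Subtype.val hv
        rw [h1, ihb]
    have h1 := hW0 v v.2
    rw [Finset.sum_congr rfl (fun b _ => hpw b), Finset.sum_const, Finset.card_range,
      ← Nat.cast_smul_eq_nsmul K] at h1
    exact Subtype.ext ((smul_eq_zero.mp h1).resolve_left hhK)
  obtain ⟨m, hm⟩ : ∃ m, d = r ^ m := by
    obtain ⟨i, hi⟩ := hQ'p.exists_card_eq
    have h1 : d ∣ r ^ i := (dvd_mul_right d d).trans (hd1 ▸ hi ▸ Subgroup.relIndex_dvd_card Zp Q')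
    obtain ⟨m, -, hm⟩ := (Nat.dvd_prime_pow hr.out).mp h1
    exact ⟨m, hm⟩
  have hr2 : r = 2 := by
    by_contra hr2
    have h1 : Odd d := hm ▸ (hr.out.odd_of_ne_two hr2).pow
    have h2 : Odd h := (hp.out.odd_of_ne_two hp2).pow
    rw [← hdh] at h2
    exact (Nat.not_even_iff_odd.mpr h2) (h1.add_odd odd_one)
  subst hr2
  have hm2 : 2 ^ m + 1 = p ^ (n - e) := by rw [← hm, hdh]
  -- the whole product of the translates occurs
  set Z₀ := (Zp.comap f).map Δ.subtype ⊓ R with hZ₀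
  have hmemZ₀ : ∀ g (hg : g ∈ R), g ∈ Z₀ ↔ f ⟨g, hRΔ hg⟩ ∈ Zp := by
    intro g hg
    rw [hZ₀, Subgroup.mem_inf]
    constructor
    · rintro ⟨⟨g', hg', e'⟩, -⟩
      rwa [show g' = ⟨g, hRΔ hg⟩ from Subtype.ext e'] at hg'
    · exact fun h' => ⟨⟨⟨g, hRΔ hg⟩, h', rfl⟩, hg⟩
  have hZZ₀ : Z ≤ Z₀ := fun z hz => (hmemZ₀ z (hZR hz)).mpr ⟨_, hz, rfl⟩
  have hxk : ∀ (k : ℕ) g, g ∈ Z₀ → (x ^ k)⁻¹ * g * x ^ k ∈ Z₀ := by
    intro k g hg
    have hgR : g ∈ R := (Subgroup.mem_inf.mp hg).2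
    have hgR' : (x ^ k)⁻¹ * g * x ^ k ∈ R := by
      rw [hx, ← pow_mul]; exact hconjR _ g hgR
    refine (hmemZ₀ _ hgR').mpr ?_
    have h1 := (hmemZ₀ g hgR).mp hg
    rw [show (⟨(x ^ k)⁻¹ * g * x ^ k, hRΔ hgR'⟩ : ↥Δ) =
      (⟨x, hxΔ⟩ ^ k)⁻¹ * ⟨g, hRΔ hgR⟩ * ⟨x, hxΔ⟩ ^ k from Subtype.ext rfl, map_mul, map_mul,
      mul_assoc, ← hcent _ h1 (f (⟨x, hxΔ⟩ ^ k)), ← mul_assoc, map_inv, inv_mul_cancel, one_mul]
    exact h1
  let E : Subgroup Γ :=
    { carrier := {g | g ∈ R ∧ ∀ a : ℕ, (s ^ a)⁻¹ * g * s ^ a ∈ Z₀}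
      one_mem' := ⟨R.one_mem, fun a => by simp⟩
      mul_mem' := fun {g g'} hg hg' => ⟨R.mul_mem hg.1 hg'.1, fun a => by
        rw [show (s ^ a)⁻¹ * (g * g') * s ^ a = ((s ^ a)⁻¹ * g * s ^ a) * ((s ^ a)⁻¹ * g' * s ^ a) by group]
        exact Z₀.mul_mem (hg.2 a) (hg'.2 a)⟩
      inv_mem' := fun {g} hg => ⟨R.inv_mem hg.1, fun a => by
        rw [show (s ^ a)⁻¹ * g⁻¹ * s ^ a = ((s ^ a)⁻¹ * g * s ^ a)⁻¹ by group]
        exact Z₀.inv_mem (hg.2 a)⟩ }
  have hEs : ∀ g ∈ R, g ∈ E → s * g * s⁻¹ ∈ E := by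
    intro g hg hgE
    refine ⟨(Subgroup.mem_normalizer_iff.mp hsR g).mp hg, fun a => ?_⟩
    have hps : s ^ (p ^ n - 1) = s⁻¹ := by
      rw [eq_inv_iff_mul_eq_one, ← pow_succ, show p ^ n - 1 + 1 = p ^ n by
        have := Nat.one_le_pow n p hp.out.pos; omega, hs]
    have h1 := hgE.2 (a + (p ^ n - 1))
    rw [pow_add, hps, (Commute.pow_self s a).inv_right.eq] at h1
    convert h1 using 1
    group
  have hsN : ∀ (a : ℕ), s ^ a ∈ Subgroup.normalizer (R : Set Γ) := fun a => Subgroup.pow_mem _ hsR a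
  have hEnorm : s ∈ Subgroup.normalizer (E : Set Γ) := by
    rw [mem_normalizer_iff_smul]
    refine Subgroup.eq_of_le_of_card_ge ?_ (le_of_eq (card_conj_smul _ _).symm)
    rw [← map_conj_eq_smul]
    rintro _ ⟨g, hg, rfl⟩
    exact hEs g hg.1 hg
  have hEab : ∀ a ∈ R, ∀ b ∈ R, ⁅a, b⁆ ∈ E := fun a ha b hb =>
    ⟨hR'le (Subgroup.commutator_mem_commutator ha hb), fun i => hZZ₀ (hconjZ i _
      (hR'Z (Subgroup.commutator_mem_commutator ha hb)))⟩
  haveI hEn : (E.subgroupOf R).Normal := ⟨fun l hl g => by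
    have h1 : ((g * l * g⁻¹ : ↥R) : Γ) = ⁅(g : Γ), (l : Γ)⁆ * l := by
      simp only [Subgroup.coe_mul, Subgroup.coe_inv, commutatorElement_def]; group
    show ((g * l * g⁻¹ : ↥R) : Γ) ∈ E
    rw [h1]
    exact E.mul_mem (hEab _ g.2 _ l.2) hl⟩
  haveI hZpn : (Zp.subgroupOf Q').Normal := ⟨fun z hz t => by
    show (t : ↥φ.range) * (z : ↥φ.range) * (t : ↥φ.range)⁻¹ ∈ Zp
    rw [hcent (z : ↥φ.range) hz (t : ↥φ.range), mul_inv_cancel_right]; exact hz⟩
  let fR : ↥R →* ↥Q' := MonoidHom.mk' (fun g => ⟨f ⟨g, hRΔ g.2⟩, ⟨_, g.2, rfl⟩⟩) fun a b =>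
    Subtype.ext (map_mul f ⟨(a : Γ), hRΔ a.2⟩ ⟨b, hRΔ b.2⟩)
  let cj : ℕ → ↥R →* ↥R := fun a => MonoidHom.mk' (fun g => ⟨(s ^ a)⁻¹ * g * s ^ a, hconjR a g g.2⟩) fun g g' =>
    Subtype.ext (by simp only [Subgroup.coe_mul]; group)
  let F : ↥R →* (Fin N → ↥Q' ⧸ Zp.subgroupOf Q') :=
    MonoidHom.pi fun a : Fin N => (QuotientGroup.mk' _).comp (fR.comp (cj a))
  have hFker : F.ker = E.subgroupOf R := by
    ext g
    have key : ∀ a : ℕ, (QuotientGroup.mk' (Zp.subgroupOf Q')) (fR (cj a g)) = 1 ↔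
        (s ^ a)⁻¹ * (g : Γ) * s ^ a ∈ Z₀ := fun a => by
      rw [QuotientGroup.mk'_apply, QuotientGroup.eq_one_iff, hmemZ₀ _ (hconjR a g g.2)]
      rfl
    rw [MonoidHom.mem_ker, Subgroup.mem_subgroupOf]
    constructor
    · intro hg
      refine ⟨g.2, fun a => ?_⟩
      have h1 := (key (a % N)).mp (congrFun hg ⟨a % N, Nat.mod_lt _ (pow_pos hp.out.pos e)⟩)
      have h2 := hxk (a / N) _ h1
      rw [hx, ← pow_mul] at h2
      rw [show s ^ a = s ^ (a % N) * s ^ (N * (a / N)) by rw [← pow_add, Nat.mod_add_div]]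
      convert h2 using 1
      group
    · exact fun hg => funext fun a => (key a).mpr (hg.2 a)
  set Qb := ↥R ⧸ E.subgroupOf R with hQb
  let σ : Qb →* Qb := QuotientGroup.map _ _ (MonoidHom.mk'
    (fun g : ↥R => (⟨s * g * s⁻¹, (Subgroup.mem_normalizer_iff.mp hsR g).mp g.2⟩ : ↥R))
    (fun g g' => Subtype.ext (by simp only [Subgroup.coe_mul]; group))) (fun g hg => hEs g g.2 hg)
  have hσn : ∀ (k : ℕ) (g : ↥R), σ^[k] (g : Qb) =
      ((⟨s ^ k * g * (s ^ k)⁻¹, (Subgroup.mem_normalizer_iff.mp (hsN k) g).mp g.2⟩ : ↥R) : Qb) := by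
    intro k
    induction k with
    | zero => intro g; simp
    | succ k ihk =>
      intro g
      rw [Function.iterate_succ_apply', ihk]
      show ((_ : ↥R) : Qb) = _
      congr 1
      exact Subtype.ext (by show s * (s ^ k * g * (s ^ k)⁻¹) * s⁻¹ = s ^ (k + 1) * g * (s ^ (k + 1))⁻¹; rw [pow_succ']; group)
  have hσp : ∀ g : Qb, σ^[p ^ n] g = g := fun g => by
    obtain ⟨g, rfl⟩ := QuotientGroup.mk_surjective g
    rw [hσn]; congr 1
    exact Subtype.ext (by simp [hs])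
  have hpn : 1 ≤ p ^ n := Nat.one_le_pow _ _ hp.out.pos
  let σe : Equiv.Perm Qb :=
    { toFun := σ
      invFun := σ^[p ^ n - 1]
      left_inv := fun g => by rw [← Function.iterate_succ_apply, show (p ^ n - 1).succ = p ^ n by omega, hσp]
      right_inv := fun g => by rw [← Function.iterate_succ_apply' σ, show (p ^ n - 1).succ = p ^ n by omega, hσp] }
  have hσpow : ∀ (k : ℕ) g, (σe ^ k) g = σ^[k] g := fun k g => by rw [Equiv.Perm.coe_pow]; rfl
  have hdiv := dvd_card_sub_one σe (1 : Qb) hp.out hn (map_one σ)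
    (Equiv.ext fun g => by rw [hσpow, hσp]; rfl) (fun g hg => by
      obtain ⟨g, rfl⟩ := QuotientGroup.mk_surjective g
      rw [hσpow, hσn, QuotientGroup.eq] at hg
      rw [QuotientGroup.eq_one_iff]
      have hg' : (τ * (g : Γ) * τ⁻¹)⁻¹ * g ∈ E := hg
      show (g : Γ) ∈ E
      refine inv_mem_iff.mp (mem_of_commutator_mem R E τ hτR (Subgroup.pow_mem _ hEnorm _) (fun k hk => hk.1) hEab
        hgen.ge (R.inv_mem g.2) ?_)
      rw [show ⁅(g : Γ)⁻¹, τ⁆ = ((τ * (g : Γ) * τ⁻¹)⁻¹ * g)⁻¹ by rw [commutatorElement_def]; group]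
      exact E.inv_mem hg')
  obtain ⟨D, hD⟩ : ∃ D, Nat.card Qb = 2 ^ D := by
    obtain ⟨i, hi⟩ := hR.exists_card_eq
    obtain ⟨D, -, hD⟩ := (Nat.dvd_prime_pow Nat.prime_two).mp (hi ▸ Subgroup.card_quotient_dvd_card (E.subgroupOf R))
    exact ⟨D, hD⟩
  have hQbp : Nat.card (↥Q' ⧸ Zp.subgroupOf Q') = 2 ^ (2 * m) := by
    rw [← Subgroup.index_eq_card, show (Zp.subgroupOf Q').index = Zp.relIndex Q' from rfl, ← hd1, hm, ← pow_add]
    congr 1; omega
  have hrange : Nat.card F.range = 2 ^ D := by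
    rw [← hD, ← Nat.card_congr (QuotientGroup.quotientKerEquivRange F).toEquiv]
    exact Nat.card_congr (QuotientGroup.quotientMulEquivOfEq hFker).toEquiv
  obtain ⟨q, hq, hqne⟩ := SetLike.exists_of_lt hlt
  have hcodom : Nat.card (Fin N → ↥Q' ⧸ Zp.subgroupOf Q') = 2 ^ (2 * m * N) := by
    rw [Nat.card_fun, hQbp, Nat.card_fin, ← pow_mul]
  have hD0 : D ≠ 0 := by
    rintro rfl
    obtain ⟨g', hg', rfl⟩ := hq
    have hE : (g' : Γ) ∈ E := by
      have h1 := (QuotientGroup.eq_one_iff (⟨(g' : Γ), hg'⟩ : ↥R)).mp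
        ((Nat.card_eq_one_iff_unique.mp (hD.trans (pow_zero 2))).1.elim _ (1 : Qb))
      exact h1
    have h2 := (hmemZ₀ (g' : Γ) hg').mp (by simpa using hE.2 0)
    exact hqne h2
  have hsurj : Function.Surjective F := by
    rw [← MonoidHom.range_eq_top]
    refine Subgroup.eq_top_of_le_card _ ?_
    rw [hrange, hcodom]
    refine Nat.pow_le_pow_right (by norm_num) (Nat.le_of_dvd (Nat.pos_of_ne_zero hD0) ?_)
    refine two_order (k := n - e) (e := e) hp2 (by omega) hm2 ?_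
    rw [show n - e + e = n by omega, ← hD]
    exact hdiv
  obtain ⟨t', ht', hωne⟩ := hnd q hq hqne
  haveI : NeZero N := ⟨pow_ne_zero _ hp.out.ne_zero⟩
  obtain ⟨g, hg⟩ := hsurj (Pi.mulSingle (0 : Fin N) ((⟨q, hq⟩ : ↥Q') : ↥Q' ⧸ Zp.subgroupOf Q'))
  obtain ⟨t, ht⟩ := hsurj (Pi.mulSingle (0 : Fin N) ((⟨t', ht'⟩ : ↥Q') : ↥Q' ⧸ Zp.subgroupOf Q'))
  set z := ⁅(t : Γ), (g : Γ)⁆ with hz
  have hzZ : z ∈ Z := hR'Z (Subgroup.commutator_mem_commutator t.2 g.2)
  have hcz : ∀ a : ℕ, c ((s ^ a)⁻¹ * z * s ^ a) = ω ⁅((fR (cj a t) : ↥Q') : ↥φ.range), ((fR (cj a g) : ↥Q') : ↥φ.range)⁆ := by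
    intro a
    show _ = ω ⁅f ⟨_, hRΔ (hconjR a _ t.2)⟩, f ⟨_, hRΔ (hconjR a _ g.2)⟩⁆
    rw [← map_commutatorElement, hωc]
    · congr 1
      show _ = ⁅(s ^ a)⁻¹ * (t : Γ) * s ^ a, (s ^ a)⁻¹ * (g : Γ) * s ^ a⁆
      simp only [hz, commutatorElement_def]; group
    · show ⁅(s ^ a)⁻¹ * (t : Γ) * s ^ a, (s ^ a)⁻¹ * (g : Γ) * s ^ a⁆ ∈ Z
      exact hR'Z (Subgroup.commutator_mem_commutator (hconjR a _ t.2) (hconjR a _ g.2))
  have hω1 : ω 1 = 1 := by
    rw [← map_one f, hωc 1 Z.one_mem]; exact hc1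
  have hzne : c z ≠ 1 := by
    intro h1
    refine hωne ?_
    have h2 : ∀ (y : ↥R) (y' : ↥Q'), F y = Pi.mulSingle (0 : Fin N) (y' : ↥Q' ⧸ Zp.subgroupOf Q') →
        ∃ w ∈ Zp, ((fR (cj 0 y) : ↥Q') : ↥φ.range) = (y' : ↥φ.range) * w := by
      intro y y' hy
      have h3 : ((fR (cj 0 y) : ↥Q') : ↥Q' ⧸ Zp.subgroupOf Q') = (y' : ↥Q' ⧸ Zp.subgroupOf Q') := by
        have := congrFun hy 0
        rwa [Pi.mulSingle_eq_same] at this
      have h4 := QuotientGroup.eq.mp h3.symm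
      exact ⟨((y'⁻¹ * fR (cj 0 y) : ↥Q') : ↥φ.range), h4, (mul_inv_cancel_left _ _).symm⟩
    obtain ⟨w, hw, ew⟩ := h2 t _ ht
    obtain ⟨w', hw', ew'⟩ := h2 g _ hg
    have h4 : ⁅t', q⁆ = ⁅((fR (cj 0 t) : ↥Q') : ↥φ.range), ((fR (cj 0 g) : ↥Q') : ↥φ.range)⁆ := by
      rw [ew, ew']
      show ⁅t', q⁆ = ⁅t' * w, q * w'⁆
      rw [commutatorElement_mul_left_eq_conj_mul, commutatorElement_mul_right_eq_mul_conj,
        commutatorElement_mul_right_eq_mul_conj,
        commutatorElement_eq_one_iff_mul_comm.mpr (hcent w hw q).symm,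
        commutatorElement_eq_one_iff_mul_comm.mpr (hcent w' hw' w).symm.symm,
        commutatorElement_eq_one_iff_mul_comm.mpr (hcent w' hw' t')]
      simp
    rw [h4, ← hcz 0]
    simpa using h1
  have hzero : ∀ a, a < N → a ≠ 0 → c ((s ^ a)⁻¹ * z * s ^ a) = 1 := by
    intro a ha ha0
    rw [hcz a]
    have h3 : ((fR (cj a t) : ↥Q') : ↥Q' ⧸ Zp.subgroupOf Q') = 1 := by
      have := congrFun ht ⟨a, ha⟩
      rwa [Pi.mulSingle_eq_of_ne (fun e' => ha0 (congrArg Fin.val e'))] at this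
    have h5 : ((fR (cj a t) : ↥Q') : ↥φ.range) ∈ Zp :=
      ((QuotientGroup.eq_one_iff (fR (cj a t))).mp h3 : fR (cj a t) ∈ Zp.subgroupOf Q')
    rw [commutatorElement_eq_one_iff_mul_comm.mpr (hcent _ h5 _).symm, hω1]
  -- the product of the translates of `z`
  let y : ℕ → Γ := fun k => Nat.rec (1 : Γ) (fun _ yk => (s⁻¹ * yk * s) * z) k
  have hy : ∀ k, y (k + 1) = (s ^ k)⁻¹ * z * s ^ k * y k := by
    intro k
    induction k with
    | zero => show (s⁻¹ * 1 * s) * z = _ * 1; simp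
    | succ k ihk =>
      show (s⁻¹ * y (k + 1) * s) * z = _
      conv_lhs => rw [ihk]
      show _ = _ * ((s⁻¹ * y k * s) * z)
      rw [pow_succ]; group
  have hyZ : ∀ k, y k ∈ Z := by
    intro k
    induction k with
    | zero => exact Z.one_mem
    | succ k ihk => rw [hy]; exact Z.mul_mem (hconjZ k z hzZ) ihk
  have hcy : ∀ k, c (y k) = ∏ i ∈ Finset.range k, c ((s ^ i)⁻¹ * z * s ^ i) := by
    intro k
    induction k with
    | zero => exact hc1
    | succ k ihk => rw [hy, hcmul _ (hconjZ k z hzZ) _ (hyZ k), ihk, Finset.prod_range_succ, mul_comm]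
  have hy1 : c (y (p ^ n)) = 1 := by
    have h1 : y (p ^ n + 1) = (s⁻¹ * y (p ^ n) * s) * z := rfl
    rw [hy, hs] at h1
    simp only [inv_one, one_mul, mul_one] at h1
    have h2 : ρ (s⁻¹ * y (p ^ n) * s) = ρ (y (p ^ n)) := by
      have h3 : ρ (s⁻¹ * y (p ^ n) * s) * ρ z = ρ (y (p ^ n)) * ρ z := by
        rw [← map_mul, ← h1, (hyZ (p ^ n)).2 z (hZR hzZ) |>.symm, map_mul]
      have h4 := congrArg (· * ρ z⁻¹) h3
      simpa [mul_assoc, hinv] using h4
    have h5 : ρ (s⁻¹ * y (p ^ n) * s) = 1 := by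
      refine hfpf _ (by simpa using hconjR 1 _ (hZR (hyZ (p ^ n)))) ?_
      rw [h2]; congr 1; group
    refine (hcρ _ (hyZ _) _ Z.one_mem ?_).trans hc1
    rw [← h2, h5, map_one]
  have hprod : c (y (p ^ n)) = c z ^ h := by
    rw [hcy, ← hNh, prod_range_mul, show c z ^ h = ∏ _b ∈ Finset.range h, c z by rw [Finset.prod_const, Finset.card_range]]
    refine Finset.prod_congr rfl fun b _ => ?_
    have h1 : ∀ a, c ((s ^ (N * b + a))⁻¹ * z * s ^ (N * b + a)) = c ((s ^ a)⁻¹ * z * s ^ a) := by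
      intro a
      rw [← hPmul b _ (hconjZ a z hzZ)]
      congr 1
      rw [add_comm, pow_add]; group
    rw [Finset.prod_congr rfl (fun a _ => h1 a), Finset.prod_eq_single_of_mem 0 (Finset.mem_range.mpr (NeZero.pos N))
      (fun a ha ha0 => hzero a (Finset.mem_range.mp ha) ha0)]
    simp
  have hzpow : ∀ k : ℕ, c (z ^ k) = c z ^ k := by
    intro k
    induction k with
    | zero => simpa using hc1
    | succ k ihk => rw [pow_succ, hcmul _ (Z.pow_mem hzZ k) _ hzZ, ihk, pow_succ]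
  obtain ⟨j, hj⟩ := hR ⟨z, hZR hzZ⟩
  have hj' : c z ^ 2 ^ j = 1 := by
    rw [← hzpow, show z ^ 2 ^ j = 1 from congrArg Subtype.val hj, hc1]
  refine hzne ?_
  have hgcd : Nat.gcd (2 ^ j) h = 1 :=
    Nat.Coprime.pow _ _ ((Nat.coprime_primes Nat.prime_two hp.out).mpr (Ne.symm hp2))
  have := pow_gcd_eq_one.mpr ⟨hj', (hprod.symm.trans hy1)⟩
  rwa [hgcd, pow_one] at this

end Cfsg.Agent.Grp.ShultGross
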