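import Mathlib
import Cfsg.Prelude.Def_Solvable
import Cfsg.Prelude.Def_Transfer
import Cfsg.Agent.Lib.Grp.ShultGross
import Cfsg.Agent.Lib.Grp.FpfDual
import Cfsg.Agent.Lib.Grp.Cores
import Cfsg.Agent.Lib.Grp.Solvable
import Cfsg.Agent.Lib.Grp.CoprimeAbelian

/-!
The Shult–Gross bound on Fitting height.
-/

set_option autoImplicit false

namespace Cfsg.Agent.Grp.ShultGross

open Module
open scoped commutatorElement TensorProduct

universe u

/-- A fixed-point-free operator stays fixed-point-free on the image modulo an invariant normal subgroup. -/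
theorem fpf_map {Γ : Type*} [Group Γ] [Finite Γ] (s : Γ) (R N : Subgroup Γ) [N.Normal]
    (hcop : (orderOf s).Coprime (Nat.card R)) (hsR : s ∈ Subgroup.normalizer (R : Set Γ))
    (hfix : R ⊓ Subgroup.centralizer ({s} : Set Γ) = ⊥) :
    ∀ g ∈ R, s * g * s⁻¹ * g⁻¹ ∈ N → g ∈ N := by
  intro g hg hgN
  set A := Subgroup.zpowers s with hA
  have hAR : A ≤ Subgroup.normalizer (R : Set Γ) := Subgroup.zpowers_le.mpr hsR
  have hcA : (Nat.card A).Coprime (Nat.card R) := by rwa [hA, Nat.card_zpowers]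
  have hNR : R ≤ Subgroup.normalizer ((R ⊓ N : Subgroup Γ) : Set Γ) := invariant_iff.mp fun b hb x hx =>
    Subgroup.mem_inf.mpr ⟨R.mul_mem (R.mul_mem hb (Subgroup.mem_inf.mp hx).1) (R.inv_mem hb),
      ‹N.Normal›.conj_mem x (Subgroup.mem_inf.mp hx).2 b⟩
  have hNA : A ≤ Subgroup.normalizer ((R ⊓ N : Subgroup Γ) : Set Γ) := invariant_iff.mp fun b hb x hx =>
    Subgroup.mem_inf.mpr ⟨(Subgroup.mem_normalizer_iff.mp (hAR hb) x).mp (Subgroup.mem_inf.mp hx).1,
      ‹N.Normal›.conj_mem x (Subgroup.mem_inf.mp hx).2 b⟩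
  have hall : ∀ a ∈ A, a * g * a⁻¹ * g⁻¹ ∈ R ⊓ N := by
    intro a ha
    refine Subgroup.mem_inf.mpr ⟨R.mul_mem ((Subgroup.mem_normalizer_iff.mp (hAR ha) g).mp hg) (R.inv_mem hg), ?_⟩
    obtain ⟨i, rfl⟩ := mem_powers_iff_mem_zpowers.mpr ha
    show s ^ i * g * (s ^ i)⁻¹ * g⁻¹ ∈ N
    clear ha
    induction i with
    | zero => simp
    | succ i ih =>
      rw [show s ^ (i + 1) * g * (s ^ (i + 1))⁻¹ * g⁻¹ =
        (s * (s ^ i * g * (s ^ i)⁻¹ * g⁻¹) * s⁻¹) * (s * g * s⁻¹ * g⁻¹) by rw [pow_succ']; group]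
      exact N.mul_mem (‹N.Normal›.conj_mem _ ih s) hgN
  obtain ⟨c, hc, hcN⟩ := exists_fixed_rep A R (R ⊓ N) hAR (inf_eq_bot_of_coprime hcA)
    (hcA.coprime_dvd_right (Subgroup.card_dvd_of_le inf_le_left))
    (Or.inl (Group.isSolvable_of_comm mul_comm')) inf_le_left hNR hNA hg hall
  rw [← centralizer_singleton_eq_zpowers, hfix, Subgroup.mem_bot] at hc
  rw [hc, mul_one] at hcN
  exact inv_mem_iff.mp (Subgroup.mem_inf.mp hcN).2

variable {p : ℕ} [hp : Fact p.Prime]

/-- The action on an invariant elementary abelian group. -/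
theorem commutator_centralizes_elementary {Γ : Type*} [Group Γ] [Finite Γ] (hp2 : p ≠ 2) {q r : ℕ}
    [hq : Fact q.Prime] [hr : Fact r.Prime] (hrp : r ≠ p) (hqp : q ≠ p) (hqr : q ≠ r) (s : Γ) {n : ℕ}
    (hn : 1 ≤ n) (hs : s ^ p ^ n = 1) (R : Subgroup Γ) (hR : IsPGroup r R)
    (hsR : s ∈ Subgroup.normalizer (R : Set Γ)) (hRfix : R ⊓ Subgroup.centralizer ({s} : Set Γ) = ⊥)
    (V : Subgroup Γ) [V.Normal] (hV : Cfsg.IsElementaryAbelian q V)
    (hVfix : V ⊓ Subgroup.centralizer ({s} : Set Γ) = ⊥) :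
    ⁅R, Subgroup.zpowers (s ^ p ^ (n - 1))⁆ ≤ Subgroup.centralizer (V : Set Γ) := by
  classical
  haveI := hV.1
  letI : CommGroup V := { (inferInstance : Group V) with mul_comm := fun u v => IsMulCommutative.is_comm.comm u v }
  haveI : Module (ZMod q) (Additive V) := AddCommGroup.zmodModule (fun w => by
    refine Additive.toMul.injective (Subtype.ext ?_)
    rw [toMul_nsmul, toMul_zero, SubmonoidClass.coe_pow, hV.2 _ (Additive.toMul w).2, Subgroup.coe_one])
  let τ₀ : Γ →* MulAut V := MulAut.conjNormal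
  let ρ : Γ →* Module.End (ZMod q) (Additive V) :=
    { toFun := fun g => (τ₀ g).toMonoidHom.toAdditive.toZModLinearMap q
      map_one' := LinearMap.ext fun w => by
        show Additive.ofMul (τ₀ 1 (Additive.toMul w)) = w
        rw [map_one]; rfl
      map_mul' := fun g g' => LinearMap.ext fun w => by
        show Additive.ofMul (τ₀ (g * g') (Additive.toMul w)) = Additive.ofMul (τ₀ g (τ₀ g' (Additive.toMul w)))
        rw [map_mul]; rfl }
  have hρ : ∀ (g : Γ) (w : Additive V), ((Additive.toMul (ρ g w) : V) : Γ) = g * (Additive.toMul w : V) * g⁻¹ :=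
    fun g w => MulAut.conjNormal_apply g _
  haveI : Module.Finite (ZMod q) (Additive V) := Module.Finite.of_finite
  let K := AlgebraicClosure (ZMod q)
  haveI : CharP K q := charP_of_injective_algebraMap (algebraMap (ZMod q) K).injective q
  let V₁ := K ⊗[ZMod q] Additive V
  let ρK : Γ →* Module.End K V₁ :=
    (Module.End.baseChangeHom (ZMod q) K (Additive V)).toMonoidHom.comp ρ
  have hinj : ∀ v : Additive V, (1 : K) ⊗ₜ[ZMod q] v = 0 → v = 0 := by
    intro v hv
    let b := Module.finBasis (ZMod q) (Additive V)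
    refine b.repr.injective (Finsupp.ext fun i => (algebraMap (ZMod q) K).injective ?_)
    have h1 := congrArg (fun t => (b.baseChange K).repr t i) hv
    simp only [Module.Basis.baseChange_repr_tmul, map_zero, Finsupp.coe_zero, Pi.zero_apply] at h1
    rw [map_zero, Finsupp.coe_zero, Pi.zero_apply, map_zero, Algebra.algebraMap_eq_smul_one]
    exact h1
  have hK1 : ∀ g, ρK g = 1 ↔ g ∈ Subgroup.centralizer (V : Set Γ) := by
    intro g
    rw [Subgroup.mem_centralizer_iff]
    constructor
    · intro hg v hv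
      have h1 : ρ g (Additive.ofMul ⟨v, hv⟩) = Additive.ofMul (⟨v, hv⟩ : V) := by
        refine sub_eq_zero.mp (hinj _ ?_)
        rw [TensorProduct.tmul_sub, ← LinearMap.baseChange_tmul]
        show ρK g ((1 : K) ⊗ₜ[ZMod q] _) - _ = 0
        rw [hg, Module.End.one_apply, sub_self]
      have h2 := hρ g (Additive.ofMul ⟨v, hv⟩)
      rw [h1] at h2
      exact (mul_inv_eq_iff_eq_mul.mp h2.symm).symm
    · intro hg
      have h1 : ρ g = 1 := LinearMap.ext fun w => Additive.toMul.injective (Subtype.ext (by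
        rw [hρ, ← hg _ (Additive.toMul w).2, mul_inv_cancel_right]; rfl))
      show (Module.End.baseChangeHom (ZMod q) K (Additive V)).toMonoidHom (ρ g) = 1
      rw [h1, map_one]
  have hsum : ∑ i ∈ Finset.range (p ^ n), ρK (s ^ i) = 0 := by
    have hS : ∑ i ∈ Finset.range (p ^ n), (ρ s) ^ i = 0 := by
      refine LinearMap.ext fun w => ?_
      set t := (∑ i ∈ Finset.range (p ^ n), (ρ s) ^ i) w with ht
      have hfix : ρ s t = t := by
        have e1 : ρ s * (∑ i ∈ Finset.range (p ^ n), (ρ s) ^ i) = ∑ i ∈ Finset.range (p ^ n), (ρ s) ^ i := by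
          have e2 := mul_geom_sum (ρ s) (p ^ n)
          rw [← map_pow, hs, map_one, sub_self, sub_mul, one_mul, sub_eq_zero] at e2
          exact e2
        rw [ht, ← Module.End.mul_apply, e1]
      have hmem : ((Additive.toMul t : V) : Γ) ∈ V ⊓ Subgroup.centralizer ({s} : Set Γ) := by
        refine Subgroup.mem_inf.mpr ⟨(Additive.toMul t).2, Subgroup.mem_centralizer_singleton_iff.mpr ?_⟩
        have h4 := hρ s t
        rw [hfix] at h4
        exact (mul_inv_eq_iff_eq_mul.mp h4.symm).symm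
      rw [hVfix, Subgroup.mem_bot] at hmem
      exact Additive.toMul.injective (Subtype.ext hmem)
    have e3 := congrArg (Module.End.baseChangeHom (ZMod q) K (Additive V)) hS
    simp only [map_sum, map_pow, map_zero] at e3
    simp only [map_pow]
    exact e3
  have hcast : ∀ l : ℕ, l.Prime → q ≠ l → (l : K) ≠ 0 := fun l hl hne e =>
    hne ((Nat.prime_dvd_prime_iff_eq hq.out hl).mp ((CharP.cast_eq_zero_iff K q l).mp e))
  have hcop : (orderOf s).Coprime (Nat.card R) := by
    obtain ⟨i, hi⟩ := hR.exists_card_eq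
    rw [hi]
    exact Nat.Coprime.coprime_dvd_left (orderOf_dvd_of_pow_eq_one hs)
      (Nat.Coprime.pow _ _ ((Nat.coprime_primes hp.out hr.out).mpr (Ne.symm hrp)))
  have hmain := tau_trivial hp2 hrp (hcast p hp.out hqp) (hcast r hr.out hqr) ρK s hn hs hsum R hR hsR
    (fun g hg he => (hK1 g).mpr (fpf_map s R (Subgroup.centralizer (V : Set Γ)) hcop hsR hRfix g hg ((hK1 _).mp (by
      rw [map_mul, he, ← map_mul, mul_inv_cancel, map_one]))))
  set τ := s ^ p ^ (n - 1) with hτ
  have hτR : τ ∈ Subgroup.normalizer (R : Set Γ) := Subgroup.pow_mem _ hsR _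
  have hτmem : ∀ g ∈ R, ⁅g, τ⁆ ∈ Subgroup.centralizer (V : Set Γ) := fun g hg => (hK1 _).mp (by
    rw [show ⁅g, τ⁆ = g * (τ * g⁻¹ * τ⁻¹) by rw [commutatorElement_def]; group, map_mul,
      hmain _ (R.inv_mem hg), ← map_mul, mul_inv_cancel, map_one])
  rw [Subgroup.commutator_le]
  intro g hg t ht
  obtain ⟨i, rfl⟩ := mem_powers_iff_mem_zpowers.mpr ht
  show ⁅g, τ ^ i⁆ ∈ _
  clear ht
  induction i generalizing g with
  | zero => simp
  | succ i ih =>
    rw [show ⁅g, τ ^ (i + 1)⁆ = ⁅g, τ ^ i⁆ * (τ ^ i * ⁅g, τ⁆ * (τ ^ i)⁻¹) by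
      rw [commutatorElement_def, commutatorElement_def, commutatorElement_def, pow_succ]; group]
    exact Subgroup.mul_mem _ (ih g hg)
      ((inferInstance : (Subgroup.centralizer (V : Set Γ)).Normal).conj_mem _ (hτmem g hg) _)

/-- The element of order `p` acts trivially on invariant coprime `q`-groups modulo the centralizer. -/
theorem commutator_centralizes (hp2 : p ≠ 2) {q r : ℕ} [hq : Fact q.Prime] [hr : Fact r.Prime]
    (hrp : r ≠ p) (hqp : q ≠ p) (hqr : q ≠ r) {n : ℕ} (hn : 1 ≤ n) :
    ∀ (Γ : Type u) [Group Γ] [Finite Γ] (s : Γ), s ^ p ^ n = 1 → ∀ R : Subgroup Γ, IsPGroup r R →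
      s ∈ Subgroup.normalizer (R : Set Γ) → R ⊓ Subgroup.centralizer ({s} : Set Γ) = ⊥ →
      ∀ Q : Subgroup Γ, Q.Normal → IsPGroup q Q → Q ⊓ Subgroup.centralizer ({s} : Set Γ) = ⊥ →
      ⁅R, Subgroup.zpowers (s ^ p ^ (n - 1))⁆ ≤ Subgroup.centralizer (Q : Set Γ) := by
  intro Γ _ _ s hs R hR hsR hRfix Q hQn hQ hQfix
  induction hk : Nat.card Q using Nat.strong_induction_on generalizing Γ with
  | _ k ih =>
  classical
  set A := ⁅R, Subgroup.zpowers (s ^ p ^ (n - 1))⁆ with hA
  by_cases hQbot : Q = ⊥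
  · intro a _
    rw [Subgroup.mem_centralizer_iff, hQbot]
    intro v hv
    rw [Subgroup.coe_bot, Set.mem_singleton_iff] at hv
    simp [hv]
  haveI := hQn
  let V : Subgroup Γ :=
    { carrier := {v | v ∈ Q ∧ (∀ x ∈ Q, v * x = x * v) ∧ v ^ q = 1}
      one_mem' := ⟨Q.one_mem, fun x _ => by simp, one_pow q⟩
      mul_mem' := fun {a b} ha hb => ⟨Q.mul_mem ha.1 hb.1, fun x hx => by
          rw [mul_assoc, hb.2.1 x hx, ← mul_assoc, ha.2.1 x hx, mul_assoc],
        by rw [(show Commute a b from ha.2.1 b hb.1).mul_pow, ha.2.2, hb.2.2, one_mul]⟩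
      inv_mem' := fun {a} ha => ⟨Q.inv_mem ha.1, fun x hx => ((show Commute a x from ha.2.1 x hx).inv_left).eq,
        by rw [inv_pow, ha.2.2, inv_one]⟩ }
  have hVQ : V ≤ Q := fun v hv => hv.1
  haveI hVn : V.Normal := ⟨fun v hv g => ⟨hQn.conj_mem v hv.1 g, fun x hx => by
      have h1 := hv.2.1 (g⁻¹ * x * g) (by simpa using hQn.conj_mem x hx g⁻¹)
      calc g * v * g⁻¹ * x = g * (v * (g⁻¹ * x * g)) * g⁻¹ := by group
        _ = g * (g⁻¹ * x * g * v) * g⁻¹ := by rw [h1]
        _ = x * (g * v * g⁻¹) := by group,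
    by rw [conj_pow, hv.2.2]; group⟩⟩
  have hV : Cfsg.IsElementaryAbelian q V :=
    ⟨⟨⟨fun a b => Subtype.ext (a.2.2.1 b b.2.1)⟩⟩, fun v hv => hv.2.2⟩
  have hVne : V ≠ ⊥ := by
    haveI : Nontrivial Q := (Subgroup.nontrivial_iff_ne_bot Q).mpr hQbot
    haveI : Nontrivial (Subgroup.center Q) := hQ.center_nontrivial
    have hd : q ∣ Nat.card (Subgroup.center Q) := by
      obtain ⟨i, hi⟩ := (hQ.to_subgroup (Subgroup.center Q)).exists_card_eq
      rw [hi]
      refine dvd_pow_self q fun e => ?_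
      rw [e, pow_zero] at hi
      exact (Finite.one_lt_card (α := Subgroup.center Q)).ne' hi
    obtain ⟨v, hv⟩ := exists_prime_orderOf_dvd_card' q hd
    intro e
    have hmem : ((v : Q) : Γ) ∈ V := ⟨(v : Q).2, fun x hx =>
      congrArg Subtype.val (Subgroup.mem_center_iff.mp v.2 ⟨x, hx⟩).symm, by
        rw [← hv, ← Subgroup.coe_pow, ← Subgroup.coe_pow, pow_orderOf_eq_one]; rfl⟩
    rw [e, Subgroup.mem_bot] at hmem
    have : v = 1 := Subtype.ext (Subtype.ext hmem)
    rw [this, orderOf_one] at hv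
    exact hq.out.ne_one hv.symm
  have h1 : A ≤ Subgroup.centralizer (V : Set Γ) :=
    commutator_centralizes_elementary hp2 hrp hqp hqr s hn hs R hR hsR hRfix V hV
      (le_bot_iff.mp (hQfix ▸ inf_le_inf_right _ hVQ))
  -- modulo `V`
  set π := QuotientGroup.mk' V with hπ
  have hcop : ∀ {l : ℕ} [Fact l.Prime] (T : Subgroup Γ), IsPGroup l T → l ≠ p → (orderOf s).Coprime (Nat.card T) := by
    intro l hl T hT hne
    obtain ⟨i, hi⟩ := hT.exists_card_eq
    rw [hi]
    exact Nat.Coprime.coprime_dvd_left (orderOf_dvd_of_pow_eq_one hs)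
      (Nat.Coprime.pow _ _ ((Nat.coprime_primes hp.out hl.out).mpr (Ne.symm hne)))
  have hfix' : ∀ {l : ℕ} [Fact l.Prime] (T : Subgroup Γ), IsPGroup l T → l ≠ p → s ∈ Subgroup.normalizer (T : Set Γ) →
      T ⊓ Subgroup.centralizer ({s} : Set Γ) = ⊥ → T.map π ⊓ Subgroup.centralizer ({π s} : Set (Γ ⧸ V)) = ⊥ := by
    intro l hl T hT hne hsT hTfix
    rw [Subgroup.eq_bot_iff_forall]
    intro g hg
    obtain ⟨⟨g, hgT, rfl⟩, hgc⟩ := Subgroup.mem_inf.mp hg
    refine (QuotientGroup.eq_one_iff g).mpr (fpf_map s T V (hcop T hT hne) hsT hTfix g hgT ?_)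
    rw [← QuotientGroup.eq_one_iff]
    show π (s * g * s⁻¹ * g⁻¹) = 1
    rw [map_mul, map_mul, map_mul, map_inv, map_inv, ← (Subgroup.mem_centralizer_singleton_iff.mp hgc),
      mul_inv_cancel_right, mul_inv_cancel]
  have hsQ : s ∈ Subgroup.normalizer (Q : Set Γ) := by rw [Subgroup.normalizer_eq_top]; exact Subgroup.mem_top s
  have hlt : Nat.card (Q.map π) < k := by
    rw [← hk]
    refine lt_of_le_of_ne (Nat.le_of_dvd Nat.card_pos (Subgroup.card_map_dvd Q π)) fun e => hVne ?_
    have hinj : Set.InjOn π (Q : Set Γ) := by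
      have h2 : Function.Bijective (π.subgroupMap Q) :=
        (Nat.bijective_iff_surjective_and_card _).mpr ⟨π.subgroupMap_surjective Q, e.symm⟩
      intro a ha b hb hab
      exact congrArg Subtype.val (h2.1 (a₁ := ⟨a, ha⟩) (a₂ := ⟨b, hb⟩) (Subtype.ext hab))
    rw [Subgroup.eq_bot_iff_forall]
    intro v hv
    refine hinj (hVQ hv) Q.one_mem ?_
    rw [map_one]
    exact (QuotientGroup.eq_one_iff v).mpr hv
  have h2 := ih _ hlt (Γ ⧸ V) (π s) (by rw [← map_pow, hs, map_one]) (R.map π) (hR.map π)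
    (Subgroup.le_normalizer_map π ⟨s, hsR, rfl⟩) (hfix' R hR hrp hsR hRfix) (Q.map π)
    (hQn.map π (QuotientGroup.mk'_surjective V)) (hQ.map π) (hfix' Q hQ hqp hsQ hQfix) rfl
  rw [← map_pow, ← MonoidHom.map_zpowers, ← Subgroup.map_commutator, ← hA] at h2
  have hQA : ⁅Q, A⁆ ≤ V := Subgroup.commutator_le.mpr fun x hx a ha => by
    rw [← QuotientGroup.eq_one_iff, ← QuotientGroup.mk'_apply, map_commutatorElement,
      commutatorElement_eq_one_iff_mul_comm]
    exact Subgroup.mem_centralizer_iff.mp (h2 ⟨a, ha, rfl⟩) _ ⟨x, hx, rfl⟩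
  have hVA : ⁅V, A⁆ = ⊥ := by
    rw [Subgroup.commutator_comm]
    exact Subgroup.commutator_eq_bot_iff_le_centralizer.mpr h1
  have hAR : A ≤ R := commutator_le_left_of_le_normalizer
    (Subgroup.zpowers_le.mpr (Subgroup.pow_mem _ hsR _))
  refine le_centralizer_of_series A Q V (by rw [Subgroup.normalizer_eq_top]; exact le_top)
    (IsPGroup.coprime_card_of_ne r q (Ne.symm hqr) A Q (hR.to_le hAR) hQ)
    (Or.inr (@IsNilpotent.to_isSolvable _ _ hQ.isNilpotent)) hQA hVA

/-- Fitting height at most `n`. -/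
theorem fitting_height (hp2 : p ≠ 2) :
    ∀ (n : ℕ) (G : Type u) [Group G] [Finite G], Group.IsSolvable G → ∀ σ : MulAut G, σ ^ p ^ n = 1 →
      (∀ g : G, σ g = g → g = 1) →
      ∃ F : Fin (n + 1) → Subgroup G, F 0 = ⊥ ∧ F (Fin.last n) = ⊤ ∧ Monotone F ∧ (∀ i, (F i).Normal) ∧
        ∀ i : Fin n, ∃ k : ℕ, (F i.succ).lowerCentralSeries k ≤ F i.castSucc := by
  intro n
  induction n with
  | zero =>
    intro G _ _ _ σ hσ hfpf
    rw [pow_zero, pow_one] at hσ
    refine ⟨fun _ => ⊥, rfl, ?_, monotone_const, fun _ => inferInstance, fun i => i.elim0⟩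
    refine (Subgroup.eq_top_iff' _).mpr fun g => Subgroup.mem_bot.mpr (hfpf g ?_)
    rw [hσ]; rfl
  | succ n ih =>
    intro G _ _ hG σ hσ hfpf
    classical
    haveI := hG
    -- the semidirect product
    let S := Subgroup.zpowers σ
    let φ : ↥S →* MulAut G := S.subtype
    haveI : Finite (MulAut G) := inferInstance
    haveI : Finite (G ⋊[φ] ↥S) := Finite.of_equiv _ SemidirectProduct.equivProd.symm
    let ι : G →* G ⋊[φ] ↥S := SemidirectProduct.inl
    let s : G ⋊[φ] ↥S := SemidirectProduct.inr ⟨σ, Subgroup.mem_zpowers σ⟩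
    have hconj : ∀ g, s * ι g * s⁻¹ = ι (σ g) := fun g => by
      show SemidirectProduct.inr _ * ι g * (SemidirectProduct.inr _)⁻¹ = _
      rw [← map_inv]
      exact (SemidirectProduct.inl_aut (φ := φ) _ g).symm
    have hconjk : ∀ (k : ℕ) g, s ^ k * ι g * (s ^ k)⁻¹ = ι ((σ ^ k : MulAut G) g) := by
      intro k
      induction k with
      | zero => intro g; simp
      | succ k ihk =>
        intro g
        rw [pow_succ, pow_succ, MulAut.mul_apply, ← ihk, ← hconj]; group
    have hιinj : Function.Injective ι := SemidirectProduct.inl_injective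
    have hs : s ^ p ^ (n + 1) = 1 := by
      show (SemidirectProduct.inr _) ^ _ = (1 : G ⋊[φ] ↥S)
      rw [← map_pow, show (⟨σ, Subgroup.mem_zpowers σ⟩ : ↥S) ^ p ^ (n + 1) = 1 from Subtype.ext hσ, map_one]
    have hnorm : ∀ H : Subgroup G, H.map σ.toMonoidHom = H → s ∈ Subgroup.normalizer ((H.map ι : Subgroup _) : Set _) := by
      intro H hH
      rw [mem_normalizer_iff_smul, ← map_conj_eq_smul, Subgroup.map_map]
      conv_rhs => rw [← hH, Subgroup.map_map]
      congr 1
      exact MonoidHom.ext fun g => hconj g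
    have hfix : ∀ H : Subgroup G, H.map ι ⊓ Subgroup.centralizer ({s} : Set _) = ⊥ := by
      intro H
      rw [Subgroup.eq_bot_iff_forall]
      intro y hy
      obtain ⟨⟨g, -, rfl⟩, hc⟩ := Subgroup.mem_inf.mp hy
      rw [hfpf g (hιinj ?_), map_one]
      rw [← hconj, ← Subgroup.mem_centralizer_singleton_iff.mp hc, mul_inv_cancel_right]
    have hsord : IsPGroup p (Subgroup.zpowers s) := by
      obtain ⟨m, -, hm⟩ := (Nat.dvd_prime_pow hp.out).mp (orderOf_dvd_of_pow_eq_one hs)
      exact IsPGroup.of_card (n := m) (by rw [Nat.card_zpowers, hm])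
    have hnormT : ∀ H : Subgroup G, H.map σ.toMonoidHom = H →
        Subgroup.zpowers s ≤ Subgroup.normalizer ((H.map ι : Subgroup _) : Set _) :=
      fun H hH => Subgroup.zpowers_le.mpr (hnorm H hH)
    have hcard : ∀ H : Subgroup G, Nat.card (H.map ι) = Nat.card H := fun H =>
      (Nat.card_congr (H.equivMapOfInjective ι hιinj).toEquiv).symm
    have hpG : ¬ p ∣ Nat.card G := by
      have h1 := not_dvd_card_of_fpf hsord
        (hnormT ⊤ (Subgroup.map_top_of_surjective _ σ.surjective))
        (by rw [← centralizer_singleton_eq_zpowers]; exact hfix ⊤)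
      rwa [hcard, Subgroup.card_top] at h1
    set τ : MulAut G := σ ^ p ^ n with hτ
    set F := Cfsg.fittingSubgroup G with hF
    haveI hFn : F.Normal := fittingSubgroup_isNormal
    have hFσ : F.map σ.toMonoidHom = F := Subgroup.characteristic_iff_map_eq.mp inferInstance σ
    -- the induced automorphism
    let σq : MulAut (G ⧸ F) := QuotientGroup.congr F F σ hFσ
    have hσqk : ∀ (k : ℕ) (g : G), (σq ^ k) (g : G ⧸ F) = (((σ ^ k : MulAut G) g : G) : G ⧸ F) := by
      intro k
      induction k with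
      | zero => intro g; simp
      | succ k ihk =>
        intro g
        rw [pow_succ, pow_succ, MulAut.mul_apply, MulAut.mul_apply]
        exact ihk (σ g)
    -- `τ` centralizes every `O_r (G / F)`
    have hcore : ∀ r : ℕ, r.Prime → ∀ g : G, (g : G ⧸ F) ∈ Cfsg.pCore r (G ⧸ F) → τ g * g⁻¹ ∈ F := by
      intro r hr g hg
      haveI := Fact.mk hr
      by_cases hrp : r = p
      · subst hrp
        have h1 : Cfsg.pCore r (G ⧸ F) = ⊥ := by
          obtain ⟨i, hi⟩ := (pCore_isPGroup (p := r) (G := G ⧸ F)).exists_card_eq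
          rcases Nat.eq_zero_or_pos i with rfl | hi0
          · exact Subgroup.card_eq_one.mp (by rw [hi, pow_zero])
          · exact absurd ((dvd_pow_self r hi0.ne').trans (hi ▸ (Subgroup.card_subgroup_dvd_card _).trans
              (Subgroup.card_quotient_dvd_card F))) hpG
        rw [h1, Subgroup.mem_bot, QuotientGroup.eq_one_iff] at hg
        refine F.mul_mem ?_ (F.inv_mem hg)
        have := Subgroup.characteristic_iff_map_eq.mp (inferInstance : F.Characteristic) τ
        rw [← this]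
        exact ⟨g, hg, rfl⟩
      set M := (Cfsg.pCore r (G ⧸ F)).comap (QuotientGroup.mk' F) with hM
      haveI : (Cfsg.pCore r (G ⧸ F)).Normal := pCore_isNormal
      haveI hMn : M.Normal := Subgroup.Normal.comap inferInstance _
      have hMσ : M.map σ.toMonoidHom = M := by
        refine Subgroup.eq_of_le_of_card_ge ?_ (le_of_eq
          (Nat.card_congr (M.equivMapOfInjective σ.toMonoidHom σ.injective).toEquiv))
        rintro _ ⟨y, hy, rfl⟩
        have h1 := Subgroup.characteristic_iff_map_eq.mp (inferInstance : (Cfsg.pCore r (G ⧸ F)).Characteristic) σq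
        show ((σ y : G) : G ⧸ F) ∈ Cfsg.pCore r (G ⧸ F)
        rw [← h1]
        exact ⟨_, hy, rfl⟩
      have hcopM : (Nat.card (Subgroup.zpowers s)).Coprime (Nat.card (M.map ι)) := by
        obtain ⟨i, hi⟩ := hsord.exists_card_eq
        rw [hi, hcard]
        exact ((hp.out.coprime_iff_not_dvd.mpr hpG).pow_left i).coprime_dvd_right (Subgroup.card_subgroup_dvd_card M)
      obtain ⟨R₀, hR₀, hR₀s⟩ := exists_invariant_sylow (Subgroup.zpowers s) (M.map ι) (hnormT M hMσ) hcopM
        (Or.inl (Group.isSolvable_of_comm mul_comm')) r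
      set R := R₀.comap ι with hR
      have hRmap : R.map ι = R₀ := by
        rw [hR, Subgroup.map_comap_eq, inf_eq_right]
        exact hR₀.1.trans (Subgroup.map_le_range ι M)
      have hRM : R ≤ M := by
        intro y hy
        obtain ⟨y', hy', e⟩ := hR₀.1 hy
        rwa [← hιinj e]
      have hRp : IsPGroup r R := hR₀.2.1.comap_of_injective ι hιinj
      have hrel : ¬ r ∣ R.relIndex M := by
        rw [← Subgroup.relIndex_map_map_of_injective R M hιinj, hRmap]; exact hR₀.2.2
      have hMle : M ≤ R ⊔ F := by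
        refine Subgroup.relIndex_eq_one.mp (Nat.eq_one_of_dvd_coprimes ?_
          (Subgroup.relIndex_dvd_of_le_left M (le_sup_left : R ≤ R ⊔ F))
          (Subgroup.relIndex_dvd_of_le_left M (le_sup_right : F ≤ R ⊔ F)))
        have h1 : F.relIndex M = Nat.card (Cfsg.pCore r (G ⧸ F)) := by
          have h2 := Subgroup.relIndex_comap (⊥ : Subgroup (G ⧸ F)) (QuotientGroup.mk' F) M
          rw [MonoidHom.comap_bot, QuotientGroup.ker_mk', hM,
            Subgroup.map_comap_eq_self_of_surjective (QuotientGroup.mk'_surjective F), Subgroup.relIndex_bot_left] at h2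
          rw [hM]; exact h2
        obtain ⟨i, hi⟩ := (pCore_isPGroup (p := r) (G := G ⧸ F)).exists_card_eq
        rw [h1, hi]
        exact ((hr.coprime_iff_not_dvd.mpr hrel).symm).pow_right i
      -- the normal subgroup centralizing the other cores
      let D : Subgroup G := M ⊓ ⨅ (q : ℕ) (_ : q.Prime ∧ q ≠ r), Subgroup.centralizer (Cfsg.pCore q G : Set G)
      have hDn : D.Normal := by
        haveI : (⨅ (q : ℕ) (_ : q.Prime ∧ q ≠ r), Subgroup.centralizer (Cfsg.pCore q G : Set G)).Normal := by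
          refine Subgroup.normal_iInf_normal fun q => Subgroup.normal_iInf_normal fun _ => ?_
          haveI := pCore_isNormal (p := q) (G := G)
          infer_instance
        exact inferInstanceAs (M ⊓ ⨅ (q : ℕ) (_ : q.Prime ∧ q ≠ r), Subgroup.centralizer (Cfsg.pCore q G : Set G)).Normal
      have hDF : D ≤ F := by
        refine le_fitting_of_centralizing (q := r) hDn (fun q hq hqr => inf_le_right.trans (iInf₂_le q ⟨hq, hqr⟩))
          fun q hq hqr x hx i hi => ?_
        rw [← QuotientGroup.eq_one_iff]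
        obtain ⟨j, hj⟩ := (pCore_isPGroup (p := r) (G := G ⧸ F)) ⟨_, (Subgroup.mem_inf.mp hx).1⟩
        have hj' : (x : G ⧸ F) ^ r ^ j = 1 := congrArg Subtype.val hj
        have hi' : (x : G ⧸ F) ^ q ^ i = 1 := by rw [← QuotientGroup.mk_pow, hi, QuotientGroup.mk_one]
        have h3 := pow_gcd_eq_one.mpr ⟨hi', hj'⟩
        rwa [Nat.Coprime.pow i j ((Nat.coprime_primes hq hr).mpr hqr), pow_one] at h3
      have hRinv : s ∈ Subgroup.normalizer ((R.map ι : Subgroup _) : Set _) := by
        rw [hRmap]; exact hR₀s (Subgroup.mem_zpowers s)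
      have hRτ : ∀ y ∈ R, τ y * y⁻¹ ∈ F := by
        intro y hy
        refine hDF (Subgroup.mem_inf.mpr ⟨?_, ?_⟩)
        · refine M.mul_mem ?_ (M.inv_mem (hRM hy))
          have : ∀ k : ℕ, ∀ y ∈ M, (σ ^ k : MulAut G) y ∈ M := by
            intro k
            induction k with
            | zero => intro y hy; simpa using hy
            | succ k ihk =>
              intro y hy
              rw [pow_succ, MulAut.mul_apply]
              exact ihk _ (by rw [← hMσ]; exact ⟨y, hy, rfl⟩)
          exact this _ y (hRM hy)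
        simp only [Subgroup.mem_iInf]
        rintro q ⟨hq, hqr⟩
        haveI := Fact.mk hq
        haveI hQn := pCore_isNormal (p := q) (G := G)
        by_cases hqp : q = p
        · subst hqp
          have h1 : Cfsg.pCore q G = ⊥ := by
            obtain ⟨i, hi⟩ := (pCore_isPGroup (p := q) (G := G)).exists_card_eq
            rcases Nat.eq_zero_or_pos i with rfl | hi0
            · exact Subgroup.card_eq_one.mp (by rw [hi, pow_zero])
            · exact absurd ((dvd_pow_self q hi0.ne').trans (hi ▸ Subgroup.card_subgroup_dvd_card _)) hpG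
          rw [Subgroup.mem_centralizer_iff, h1]
          intro v hv
          rw [Subgroup.coe_bot, Set.mem_singleton_iff] at hv
          simp [hv]
        have hQσ : (Cfsg.pCore q G).map σ.toMonoidHom = Cfsg.pCore q G :=
          Subgroup.characteristic_iff_map_eq.mp inferInstance σ
        have hQΓ : ((Cfsg.pCore q G).map ι).Normal := by
          refine ⟨fun y hy w => ?_⟩
          obtain ⟨y, hy, rfl⟩ := hy
          obtain ⟨k, hk⟩ := mem_powers_iff_mem_zpowers.mpr (w.right).2
          refine ⟨w.left * (σ ^ k : MulAut G) y * w.left⁻¹, hQn.conj_mem _ ?_ _, ?_⟩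
          · have h1 := Subgroup.characteristic_iff_map_eq.mp (inferInstance : (Cfsg.pCore q G).Characteristic) (σ ^ k)
            rw [← h1]; exact ⟨y, hy, rfl⟩
          · have hw : w = ι w.left * s ^ k := by
              show w = ι w.left * (SemidirectProduct.inr _) ^ k
              rw [← map_pow, show (⟨σ, Subgroup.mem_zpowers σ⟩ : ↥S) ^ k = w.right from Subtype.ext hk]
              exact (SemidirectProduct.inl_left_mul_inr_right w).symm
            conv_rhs => rw [hw]
            rw [map_mul, map_mul, map_inv, ← hconjk]; group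
        have hres := commutator_centralizes hp2 hrp hqp hqr (Nat.succ_le_succ (Nat.zero_le n)) _ s hs
          (R.map ι) (hRp.map ι) hRinv (hfix R) _ hQΓ ((pCore_isPGroup (p := q)).map ι) (hfix _)
        rw [show n + 1 - 1 = n from rfl] at hres
        rw [Subgroup.mem_centralizer_iff]
        intro v hv
        refine hιinj ?_
        have h2 : ι (τ y * y⁻¹) ∈ Subgroup.centralizer (((Cfsg.pCore q G).map ι : Subgroup _) : Set _) := by
          have h3 := Subgroup.inv_mem _ (hres (Subgroup.commutator_mem_commutator (Subgroup.mem_map_of_mem ι hy)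
            (Subgroup.mem_zpowers (s ^ p ^ n))))
          rwa [commutatorElement_inv, commutatorElement_def, hconjk, ← map_inv, ← map_mul] at h3
        rw [map_mul, map_mul ι (τ y * y⁻¹) v]
        exact Subgroup.mem_centralizer_iff.mp h2 _ ⟨v, hv, rfl⟩
      obtain ⟨a, ha, b, hb, e⟩ := Subgroup.mem_sup_of_normal_right.mp (hMle (show g ∈ M from hg))
      rw [← e, map_mul, mul_inv_rev, show τ a * τ b * (b⁻¹ * a⁻¹) = (τ a * (τ b * b⁻¹) * (τ a)⁻¹) * (τ a * a⁻¹) by group]
      refine F.mul_mem (hFn.conj_mem _ (F.mul_mem ?_ (F.inv_mem hb)) _) (hRτ a ha)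
      have := Subgroup.characteristic_iff_map_eq.mp (inferInstance : F.Characteristic) τ
      rw [← this]
      exact ⟨b, hb, rfl⟩
    -- `τ` is trivial modulo `F`
    have hτq : σq ^ p ^ n = 1 := by
      set t := σq ^ p ^ n with ht
      set F₂ := Cfsg.fittingSubgroup (G ⧸ F) with hF₂
      let E : Subgroup (G ⧸ F) := t.toMonoidHom.eqLocus (MonoidHom.id _)
      have hFE : F₂ ≤ E := by
        rw [hF₂, fittingSubgroup_eq_iSup_pCore]
        refine iSup_le fun r y hy => ?_
        obtain ⟨g, rfl⟩ := QuotientGroup.mk_surjective y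
        show t (g : G ⧸ F) = (g : G ⧸ F)
        rw [hσqk, ← hτ, QuotientGroup.eq_iff_div_mem, div_eq_mul_inv]
        exact hcore r r.2 g hy
      have htfix : ∀ y ∈ F₂, t y = y := fun y hy => hFE hy
      have hcen : Subgroup.centralizer (F₂ : Set (G ⧸ F)) ≤ F₂ := centralizer_fittingSubgroup_le
      haveI hF₂n : F₂.Normal := fittingSubgroup_isNormal
      refine MulEquiv.ext fun y => ?_
      show t y = y
      set z := y⁻¹ * t y with hz
      have hzF : z ∈ F₂ := hcen (Subgroup.mem_centralizer_iff.mpr fun x hx => by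
        have h1 := htfix _ (hF₂n.conj_mem x hx y)
        rw [map_mul, map_mul, map_inv, htfix x hx] at h1
        calc x * z = y⁻¹ * (y * x * y⁻¹) * t y := by rw [hz]; group
          _ = y⁻¹ * (t y * x * (t y)⁻¹) * t y := by rw [h1]
          _ = z * x := by rw [hz]; group)
      have hty : t y = y * z := by rw [hz, mul_inv_cancel_left]
      have hpow : ∀ i : ℕ, (t ^ i) y = y * z ^ i := by
        intro i
        induction i with
        | zero => simp
        | succ i ihi => rw [pow_succ', MulAut.mul_apply, ihi, map_mul, map_pow, hty, htfix z hzF, mul_assoc, ← pow_succ']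
      have htp : t ^ p = 1 := by
        rw [ht, ← pow_mul, ← pow_succ]
        refine MulEquiv.ext fun y => ?_
        obtain ⟨g, rfl⟩ := QuotientGroup.mk_surjective y
        rw [hσqk, hσ]; rfl
      have hzp : z ^ p = 1 := by
        have h1 := hpow p
        rw [htp, MulAut.one_apply, eq_comm, mul_eq_left] at h1
        exact h1
      have hz1 : z = 1 := by
        rw [← orderOf_eq_one_iff]
        refine Nat.eq_one_of_dvd_coprimes (hp.out.coprime_iff_not_dvd.mpr ?_) (orderOf_dvd_of_pow_eq_one hzp)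
          (orderOf_dvd_natCard z)
        exact fun h => hpG (h.trans (Subgroup.card_quotient_dvd_card F))
      rw [hty, hz1, mul_one]
    have hfpfq : ∀ y : G ⧸ F, σq y = y → y = 1 := by
      intro y hy
      obtain ⟨g, rfl⟩ := QuotientGroup.mk_surjective y
      rw [QuotientGroup.eq_one_iff]
      set A := Subgroup.zpowers s with hA
      have hcop : ∀ H : Subgroup G, (Nat.card A).Coprime (Nat.card (H.map ι)) := fun H => by
        obtain ⟨i, hi⟩ := hsord.exists_card_eq
        rw [hi, hcard]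
        exact ((hp.out.coprime_iff_not_dvd.mpr hpG).pow_left i).coprime_dvd_right (Subgroup.card_subgroup_dvd_card H)
      have hall : ∀ a ∈ A, a * ι g * a⁻¹ * (ι g)⁻¹ ∈ F.map ι := by
        intro a ha
        obtain ⟨k, rfl⟩ := mem_powers_iff_mem_zpowers.mpr ha
        show s ^ k * ι g * (s ^ k)⁻¹ * (ι g)⁻¹ ∈ _
        rw [hconjk, ← map_inv, ← map_mul]
        refine Subgroup.mem_map_of_mem ι ?_
        rw [← div_eq_mul_inv, ← QuotientGroup.eq_iff_div_mem, ← hσqk]
        clear ha
        induction k with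
        | zero => simp
        | succ k ihk => rw [pow_succ, MulAut.mul_apply, hy, ihk]
      have hFN : (⊤ : Subgroup G).map ι ≤ Subgroup.normalizer ((F.map ι : Subgroup _) : Set _) := by
        refine invariant_iff.mp ?_
        rintro _ ⟨a, -, rfl⟩ _ ⟨x, hx, rfl⟩
        exact ⟨a * x * a⁻¹, hFn.conj_mem x hx a, by rw [map_mul, map_mul, map_inv]⟩
      obtain ⟨c, hc, hcN⟩ := exists_fixed_rep A ((⊤ : Subgroup G).map ι) (F.map ι)
        (hnormT ⊤ (Subgroup.map_top_of_surjective _ σ.surjective)) (inf_eq_bot_of_coprime (hcop ⊤)) (hcop F)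
        (Or.inl (Group.isSolvable_of_comm mul_comm')) (Subgroup.map_mono le_top) hFN (hnormT F hFσ)
        (Subgroup.mem_map_of_mem ι (Subgroup.mem_top g)) hall
      rw [← centralizer_singleton_eq_zpowers, hfix ⊤, Subgroup.mem_bot] at hc
      rw [hc, mul_one, ← map_inv] at hcN
      obtain ⟨x, hx, e⟩ := hcN
      rw [← inv_mem_iff, ← hιinj e]; exact hx
    obtain ⟨F', h0, hlast, hmono, hnormal, hnil⟩ :=
      ih (G ⧸ F) (Group.isSolvable_of_surjective (QuotientGroup.mk'_surjective F)) σq hτq hfpfq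
    refine ⟨Fin.cons ⊥ (fun i => (F' i).comap (QuotientGroup.mk' F)), rfl, ?_, ?_, ?_, ?_⟩
    · rw [← Fin.succ_last, Fin.cons_succ, hlast, Subgroup.comap_top]
    · refine Fin.monotone_iff_le_succ.mpr fun i => ?_
      refine Fin.cases ?_ (fun j => ?_) i
      · rw [Fin.castSucc_zero, Fin.cons_zero]; exact bot_le
      · rw [Fin.castSucc_succ, Fin.cons_succ, Fin.cons_succ]
        exact Subgroup.comap_mono (hmono (Fin.castSucc_le_succ j))
    · refine Fin.cases ?_ (fun j => ?_)
      · rw [Fin.cons_zero]; infer_instance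
      · rw [Fin.cons_succ]; exact (hnormal j).comap _
    · refine Fin.cases ?_ (fun j => ?_)
      · rw [Fin.castSucc_zero, Fin.cons_zero, Fin.cons_succ, h0, MonoidHom.comap_bot, QuotientGroup.ker_mk']
        haveI : Group.IsNilpotent F := fittingSubgroup_isNilpotent
        obtain ⟨k, hk⟩ := Subgroup.nilpotent_iff_lowerCentralSeries.mp ‹Group.IsNilpotent F›
        refine ⟨k, ?_⟩
        rw [← Subgroup.top_subtype_lowerCentralSeries, hk, Subgroup.map_bot]
      · obtain ⟨k, hk⟩ := hnil j
        refine ⟨k, ?_⟩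
        rw [Fin.castSucc_succ, Fin.cons_succ, Fin.cons_succ, ← Subgroup.map_le_iff_le_comap,
          Subgroup.map_lowerCentralSeries,
          Subgroup.map_comap_eq_self_of_surjective (QuotientGroup.mk'_surjective F)]
        exact hk

end Cfsg.Agent.Grp.ShultGross
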