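import Mathlib
import Cfsg.Agent.Lib.Grp.HHExceptional
import Cfsg.Agent.Lib.Grp.HHCommute

/-!
The critical case behind the Hall-Higman theorem: a `q`-group irreducible on a space in characteristic
`p`, extended by a cyclic `p`-group acting freely outside the scalars.
-/

set_option autoImplicit false
set_option linter.style.haveILetI false
set_option linter.unusedSectionVars false

namespace Cfsg.Agent.Grp.HHCrit

open Module
open scoped commutatorElement

universe u v

variable {K : Type*} [Field K]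

section schur

variable [IsAlgClosed K] {V : Type v} [AddCommGroup V] [Module K V] [FiniteDimensional K V] [Nontrivial V]
  {Q : Type u} [Group Q] (ρ : Q →* Module.End K V)
  (hirr : ∀ W : Submodule K V, (∀ g, ∀ w ∈ W, ρ g w ∈ W) → W = ⊥ ∨ W = ⊤)

include hirr

theorem scalar_of_commute {X : Module.End K V} (hX : ∀ g, ρ g * X = X * ρ g) : ∃ c : K, X = c • 1 := by
  obtain ⟨c, hc⟩ := Module.End.exists_eigenvalue X
  have htop : Module.End.eigenspace X c = ⊤ := by
    refine (hirr _ fun g w hw => ?_).resolve_left hc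
    rw [Module.End.mem_eigenspace_iff] at hw ⊢
    rw [← Module.End.mul_apply, ← hX, Module.End.mul_apply, hw, map_smul]
  exact ⟨c, LinearMap.ext fun w => Module.End.mem_eigenspace_iff.mp (htop ▸ Submodule.mem_top)⟩

/-- The averaging identity. -/
theorem sum_trace_smul [Fintype Q] (hQ : (Fintype.card Q : K) ≠ 0) :
    (finrank K V : K) ≠ 0 ∧ ∀ S : Module.End K V,
      ∑ g : Q, LinearMap.trace K V (S * ρ g⁻¹) • ρ g = ((Fintype.card Q : K) / finrank K V) • S := by
  classical
  have hconj : ∀ X : Module.End K V, ∃ c : K, (∑ g : Q, ρ g * X * ρ g⁻¹ = c • 1) ∧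
      c * finrank K V = Fintype.card Q * LinearMap.trace K V X := by
    intro X
    obtain ⟨c, hc⟩ := scalar_of_commute ρ hirr (X := ∑ g : Q, ρ g * X * ρ g⁻¹) (fun a => by
      rw [Finset.mul_sum, Finset.sum_mul]
      refine Fintype.sum_equiv (Equiv.mulLeft a) _ _ fun g => ?_
      simp only [Equiv.coe_mulLeft, mul_inv_rev, map_mul, mul_assoc]
      rw [← map_mul ρ a⁻¹ a, inv_mul_cancel, map_one, mul_one])
    refine ⟨c, hc, ?_⟩
    have h1 := congrArg (LinearMap.trace K V) hc
    rw [map_sum, map_smul, LinearMap.trace_one, smul_eq_mul] at h1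
    rw [← h1, Finset.sum_congr rfl fun g _ => ?_, Finset.sum_const, Finset.card_univ, nsmul_eq_mul]
    rw [LinearMap.trace_mul_cycle, ← map_mul, inv_mul_cancel, map_one, one_mul]
  have hd : (finrank K V : K) ≠ 0 := by
    intro h0
    obtain ⟨y, hy⟩ := exists_ne (0 : V)
    obtain ⟨φ, hφ⟩ : ∃ φ : Module.Dual K V, φ y ≠ 0 := by
      by_contra h
      push Not at h
      exact hy ((Module.forall_dual_apply_eq_zero_iff K y).mp h)
    obtain ⟨c, -, hc⟩ := hconj (φ.smulRight y)
    rw [h0, mul_zero, LinearMap.trace_smulRight] at hc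
    exact (mul_ne_zero hQ hφ) hc.symm
  refine ⟨hd, fun S => LinearMap.ext fun y => ?_⟩
  let b := Module.finBasis K V
  have key : ∀ (φ : Module.Dual K V) (z : V),
      ∑ g : Q, φ (ρ g⁻¹ z) • ρ g y = ((Fintype.card Q : K) / finrank K V * φ y) • z := by
    intro φ z
    obtain ⟨c, hc, hc'⟩ := hconj (φ.smulRight y)
    rw [LinearMap.trace_smulRight] at hc'
    have h1 := LinearMap.congr_fun hc z
    simp only [LinearMap.sum_apply, Module.End.mul_apply, LinearMap.smulRight_apply, map_smul,
      LinearMap.smul_apply, Module.End.one_apply] at h1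
    rw [h1]
    congr 1
    field_simp
    rw [mul_comm] at hc'
    linear_combination hc'
  rw [LinearMap.sum_apply, LinearMap.smul_apply]
  calc ∑ g : Q, (LinearMap.trace K V (S * ρ g⁻¹) • ρ g) y
      = ∑ g : Q, ∑ k, (b.coord k ∘ₗ S) (ρ g⁻¹ (b k)) • ρ g y := by
        refine Finset.sum_congr rfl fun g _ => ?_
        rw [LinearMap.smul_apply, ← Finset.sum_smul, LinearMap.trace_eq_matrix_trace K b]
        congr 1
        simp only [Matrix.trace, Matrix.diag, LinearMap.toMatrix_apply, Module.End.mul_apply,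
          LinearMap.comp_apply, Basis.coord_apply]
    _ = ∑ k, ((Fintype.card Q : K) / finrank K V * b.coord k (S y)) • b k := by
        rw [Finset.sum_comm]
        exact Finset.sum_congr rfl fun k _ => key _ _
    _ = ((Fintype.card Q : K) / finrank K V) • S y := by
        simp only [mul_smul, ← Finset.smul_sum, Basis.coord_apply, b.sum_repr]

/-- A trace-zero operator commuting with `u` is a norm, when `u` permutes `Q` freely outside the scalars. -/
theorem exists_norm [Fintype Q] (hQ : (Fintype.card Q : K) ≠ 0) {h : ℕ} (hh : h ≠ 0) (u : Module.End K V)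
    (hu : u ^ h = 1) (σ : Q ≃ Q) (hσu : ∀ g, u * ρ g = ρ (σ g) * u) (hσinv : ∀ g, σ g⁻¹ = (σ g)⁻¹)
    (hσh : ∀ g, σ^[h] g = g) (hfree : ∀ i, 0 < i → i < h → ∀ g, σ^[i] g = g → ∃ c : K, ρ g = c • 1)
    {S : Module.End K V} (hS : u * S = S * u) (htr : LinearMap.trace K V S = 0) :
    ∃ X : Module.End K V, S = ∑ i ∈ Finset.range h, u ^ i * X * u ^ (h - i) := by
  classical
  obtain ⟨hd, hid⟩ := sum_trace_smul ρ hirr hQ
  let t : Q → Module.End K V := fun g => LinearMap.trace K V (S * ρ g⁻¹) • ρ g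
  have hinv : ∀ i, i ≤ h → u ^ i * u ^ (h - i) = 1 := fun i hi => by rw [← pow_add, Nat.add_sub_cancel' hi, hu]
  have hinv' : ∀ i, i ≤ h → u ^ (h - i) * u ^ i = 1 := fun i hi => by rw [← pow_add, Nat.sub_add_cancel hi, hu]
  have hσi : ∀ (i : ℕ) g, u ^ i * ρ g = ρ (σ^[i] g) * u ^ i := by
    intro i
    induction i with
    | zero => intro g; simp
    | succ i ih =>
      intro g
      rw [pow_succ', mul_assoc, ih, ← mul_assoc, hσu, mul_assoc, Function.iterate_succ_apply']
  have hσii : ∀ (i : ℕ) g, σ^[i] g⁻¹ = (σ^[i] g)⁻¹ := by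
    intro i
    induction i with
    | zero => intro g; rfl
    | succ i ih => intro g; rw [Function.iterate_succ_apply', Function.iterate_succ_apply', ih, hσinv]
  have hti : ∀ i, i ≤ h → ∀ g, u ^ i * t g * u ^ (h - i) = t (σ^[i] g) := by
    intro i hi g
    have hρ : ∀ g, u ^ i * ρ g * u ^ (h - i) = ρ (σ^[i] g) := fun g => by
      rw [hσi, mul_assoc, hinv i hi, mul_one]
    show u ^ i * (_ • ρ g) * u ^ (h - i) = _ • _
    rw [mul_smul_comm, smul_mul_assoc, hρ]
    congr 1
    rw [← hσii, ← hρ, ← mul_assoc, ← mul_assoc, ← (show Commute (u ^ i) S from Commute.pow_left hS i).eq,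
      LinearMap.trace_mul_cycle, ← mul_assoc, hinv' i hi, one_mul]
  -- one representative in each orbit
  have hscalar : ∀ g, (∃ c : K, ρ g = c • 1) → t g = 0 := by
    intro g ⟨c, hc⟩
    have hc' : c • ρ g⁻¹ = 1 := by
      rw [← one_mul (ρ g⁻¹), ← smul_mul_assoc, ← hc, ← map_mul, mul_inv_cancel, map_one]
    show _ • ρ g = 0
    rw [hc, smul_smul, mul_comm _ c, ← smul_eq_mul c, ← map_smul, ← mul_smul_comm, hc', mul_one, htr, zero_smul]
  let e := Fintype.equivFin Q
  let w : Q → Prop := fun g => (¬ ∃ c : K, ρ g = c • 1) ∧ ∀ i < h, e g ≤ e (σ^[i] g)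
  refine ⟨((Fintype.card Q : K) / finrank K V)⁻¹ • ∑ g ∈ Finset.univ.filter w, t g, ?_⟩
  have hκ : (Fintype.card Q : K) / finrank K V ≠ 0 := div_ne_zero hQ hd
  have hsum : ∑ i ∈ Finset.range h, ∑ g ∈ Finset.univ.filter w, t (σ^[i] g) = ∑ g, t g := by
    rw [← Finset.sum_product']
    have hperiod : ∀ i g, σ^[i % h] g = σ^[i] g := by
      intro i g
      conv_rhs => rw [← Nat.mod_add_div i h, Function.iterate_add_apply]
      have : ∀ k, σ^[h * k] g = g := by
        intro k
        induction k with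
        | zero => rfl
        | succ k ih => rw [Nat.mul_succ, Function.iterate_add_apply, hσh, ih]
      rw [this]
    have hnd : ∀ g, (¬ ∃ c : K, ρ g = c • 1) → ∀ i, ¬ ∃ c : K, ρ (σ^[i] g) = c • 1 := by
      rintro g hg i ⟨c, hc⟩
      refine hg ⟨c, ?_⟩
      have h1 := hσi (i % h) g
      rw [hperiod, hc, smul_mul_assoc, one_mul] at h1
      have h2 := congrArg (fun M => u ^ (h - i % h) * M) h1
      have hlt := Nat.mod_lt i (Nat.pos_of_ne_zero hh)
      simp only [← mul_assoc, hinv' _ hlt.le, one_mul, mul_smul_comm] at h2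
      exact h2
    have hback : ∀ g i, i ≤ h → σ^[h - i] (σ^[i] g) = g := fun g i hi => by
      rw [← Function.iterate_add_apply, Nat.sub_add_cancel hi, hσh]
    rw [← Finset.sum_subset (Finset.subset_univ (Finset.univ.filter fun g => ¬ ∃ c : K, ρ g = c • 1))
      (fun g _ hg => hscalar g (by simpa using hg))]
    refine Finset.sum_bij' (fun (a : ℕ × Q) _ => σ^[a.1] a.2)
      (fun g _ => (?_ : ℕ × Q)) ?_ ?_ ?_ ?_ (fun a _ => rfl)
    · have hne : ((Finset.range h).image fun i => e (σ^[i] g)).Nonempty :=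
        ⟨e g, Finset.mem_image.mpr ⟨0, Finset.mem_range.mpr (Nat.pos_of_ne_zero hh), rfl⟩⟩
      exact ((h - (Finset.mem_image.mp (Finset.min'_mem _ hne)).choose) % h, e.symm (Finset.min' _ hne))
    · intro a ha
      simp only [Finset.mem_product, Finset.mem_filter, Finset.mem_univ, true_and] at ha ⊢
      exact hnd _ ha.2.1 _
    · intro g hg
      simp only [Finset.mem_filter, Finset.mem_univ, true_and] at hg
      set hne : ((Finset.range h).image fun i => e (σ^[i] g)).Nonempty :=
        ⟨e g, Finset.mem_image.mpr ⟨0, Finset.mem_range.mpr (Nat.pos_of_ne_zero hh), rfl⟩⟩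
      obtain ⟨hj, hje⟩ := (Finset.mem_image.mp (Finset.min'_mem _ hne)).choose_spec
      set j := (Finset.mem_image.mp (Finset.min'_mem _ hne)).choose
      simp only [Finset.mem_product, Finset.mem_range, Finset.mem_filter, Finset.mem_univ, true_and]
      refine ⟨Nat.mod_lt _ (Nat.pos_of_ne_zero hh), ?_, fun i _ => ?_⟩
      · rw [← hje, Equiv.symm_apply_apply]; exact hnd g hg j
      · rw [Equiv.apply_symm_apply]
        refine Finset.min'_le _ _ (Finset.mem_image.mpr ⟨(i + j) % h, Finset.mem_range.mpr (Nat.mod_lt _ (Nat.pos_of_ne_zero hh)), ?_⟩)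
        rw [hperiod, Function.iterate_add_apply, ← hje, Equiv.symm_apply_apply]
    · intro a ha
      simp only [Finset.mem_product, Finset.mem_range, Finset.mem_filter, Finset.mem_univ, true_and] at ha
      obtain ⟨ha1, ha2, ha3⟩ := ha
      set g := σ^[a.1] a.2
      have hne : ((Finset.range h).image fun i => e (σ^[i] g)).Nonempty :=
        ⟨e g, Finset.mem_image.mpr ⟨0, Finset.mem_range.mpr (Nat.pos_of_ne_zero hh), rfl⟩⟩
      obtain ⟨hj, hje⟩ := (Finset.mem_image.mp (Finset.min'_mem _ hne)).choose_spec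
      set j := (Finset.mem_image.mp (Finset.min'_mem _ hne)).choose
      have hmin : Finset.min' _ hne = e a.2 := by
        refine le_antisymm (Finset.min'_le _ _ (Finset.mem_image.mpr
          ⟨(h - a.1) % h, Finset.mem_range.mpr (Nat.mod_lt _ (Nat.pos_of_ne_zero hh)), by rw [hperiod, hback _ _ ha1.le]⟩)) ?_
        refine Finset.le_min' _ _ _ fun y hy => ?_
        obtain ⟨i, -, rfl⟩ := Finset.mem_image.mp hy
        show e a.2 ≤ e (σ^[i] (σ^[a.1] a.2))
        rw [← Function.iterate_add_apply, ← hperiod]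
        exact ha3 _ (Nat.mod_lt _ (Nat.pos_of_ne_zero hh))
      refine Prod.ext ?_ (by show e.symm (Finset.min' _ hne) = a.2; rw [hmin, Equiv.symm_apply_apply])
      show (h - j) % h = a.1
      rw [hmin] at hje
      have hje' : σ^[(j + a.1) % h] a.2 = a.2 := by rw [hperiod, Function.iterate_add_apply]; exact e.injective hje
      have h0 : (j + a.1) % h = 0 := by
        by_contra h0
        exact ha2 (hfree _ (Nat.pos_of_ne_zero h0) (Nat.mod_lt _ (Nat.pos_of_ne_zero hh)) _ hje')
      have hjh := Finset.mem_range.mp hj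
      rcases Nat.lt_or_ge (j + a.1) h with hlt | hge
      · rw [Nat.mod_eq_of_lt hlt] at h0
        rw [show j = 0 by omega, Nat.sub_zero, Nat.mod_self]; omega
      · rw [Nat.mod_eq_sub_mod hge, Nat.mod_eq_of_lt (by omega)] at h0
        rw [Nat.mod_eq_of_lt (by omega)]; omega
    · intro g hg
      set hne : ((Finset.range h).image fun i => e (σ^[i] g)).Nonempty :=
        ⟨e g, Finset.mem_image.mpr ⟨0, Finset.mem_range.mpr (Nat.pos_of_ne_zero hh), rfl⟩⟩
      obtain ⟨hj, hje⟩ := (Finset.mem_image.mp (Finset.min'_mem _ hne)).choose_spec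
      set j := (Finset.mem_image.mp (Finset.min'_mem _ hne)).choose
      show σ^[(h - j) % h] (e.symm (Finset.min' _ hne)) = g
      rw [← hje, Equiv.symm_apply_apply, hperiod, hback _ _ (Finset.mem_range.mp hj).le]
  rw [Finset.sum_congr rfl fun i hi => by
    rw [mul_smul_comm, smul_mul_assoc, Finset.mul_sum, Finset.sum_mul,
      Finset.sum_congr rfl fun g _ => hti i (Finset.mem_range.mp hi).le g]]
  rw [← Finset.smul_sum, hsum, hid, smul_smul, inv_mul_cancel₀ hκ, one_smul]

end schur

/-- A nilpotent map with a free orbit structure on trace-zero commuting operators is a single block. -/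
theorem single_block {p : ℕ} [hp : Fact p.Prime] [CharP K p] {V : Type v} [AddCommGroup V] [Module K V]
    [FiniteDimensional K V] (hd2 : 1 < finrank K V) {e : ℕ}
    (u : Module.End K V) (hu : u ^ p ^ e = 1) {s : ℕ} (hs : (u - 1) ^ s = 0)
    (hmin : ∀ k < s, (u - 1) ^ k ≠ 0) (hsh : s < p ^ e)
    (hnorm : ∀ S : Module.End K V, u * S = S * u → LinearMap.trace K V S = 0 →
      ∃ X : Module.End K V, S = ∑ i ∈ Finset.range (p ^ e), u ^ i * X * u ^ (p ^ e - i)) :
    s = finrank K V ∧ finrank K V = p ^ e - 1 := by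
  classical
  set h := p ^ e with hh
  set N := u - 1 with hN
  haveI : Nontrivial V := nontrivial_of_finrank_pos (R := K) (by omega)
  have hs0 : s ≠ 0 := fun h0 => by
    rw [h0, pow_zero] at hs
    obtain ⟨y, hy⟩ := exists_ne (0 : V)
    exact hy (LinearMap.congr_fun hs y)
  have hbig : ∀ k, s ≤ k → N ^ k = 0 := fun k hk => by rw [← Nat.sub_add_cancel hk, pow_add, hs, mul_zero]
  have hmono : ∀ i j, i ≤ j → LinearMap.range (N ^ j) ≤ LinearMap.range (N ^ i) := by
    rintro i j hij _ ⟨y, rfl⟩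
    exact ⟨(N ^ (j - i)) y, by rw [← Module.End.mul_apply, ← pow_add, Nat.add_sub_cancel' hij]⟩
  -- ranges of norms
  have hrange : ∀ S : Module.End K V, u * S = S * u → LinearMap.trace K V S = 0 →
      ∀ y, S y ∈ LinearMap.range (N ^ (h - s)) := by
    intro S hS htr y
    obtain ⟨X, hX⟩ := hnorm S hS htr
    haveI : Nontrivial (Module.End K V) := inferInstance
    haveI : CharP (Module.End K (Module.End K V)) p :=
      charP_of_injective_algebraMap (algebraMap K _).injective p
    let l : Module.End K (Module.End K V) := LinearMap.mulLeft K u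
    let r : Module.End K (Module.End K V) := LinearMap.mulRight K u
    let r' : Module.End K (Module.End K V) := LinearMap.mulRight K (u ^ (h - 1))
    have hlr : ∀ (i : ℕ), ((l * r') ^ i) (X * 1) = u ^ i * X * (u ^ (h - 1)) ^ i := by
      intro i
      induction i with
      | zero => simp
      | succ i ih =>
        rw [pow_succ', Module.End.mul_apply, ih, Module.End.mul_apply]
        show u * (u ^ i * X * (u ^ (h - 1)) ^ i * u ^ (h - 1)) = _
        rw [pow_succ' u, pow_succ (u ^ (h - 1))]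
        simp only [mul_assoc]
    have hh0 : 0 < h := pow_pos hp.out.pos e
    have hmod : ∀ i < h, (u ^ (h - 1)) ^ i = u ^ (h - i) := by
      intro i hi
      have e1 : (u ^ (h - 1)) ^ i * u ^ i = 1 := by
        rw [← pow_mul, ← pow_add, show (h - 1) * i + i = h * i by rw [Nat.sub_mul, one_mul]; exact Nat.sub_add_cancel (Nat.le_mul_of_pos_left i hh0),
          pow_mul, hu, one_pow]
      have e2 : u ^ i * u ^ (h - i) = 1 := by rw [← pow_add, Nat.add_sub_cancel' hi.le, hu]
      calc (u ^ (h - 1)) ^ i = (u ^ (h - 1)) ^ i * (u ^ i * u ^ (h - i)) := by rw [e2, mul_one]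
        _ = _ := by rw [← mul_assoc, e1, one_mul]
    have h1 : S = ((l * r' - 1) ^ (h - 1)) X := by
      letI := ZMod.algebra (Module.End K (Module.End K V)) p
      rw [HHExc.geom_eq_pow_sub_one (p := p) (l * r') e, LinearMap.sum_apply, hX]
      refine Finset.sum_congr rfl fun i hi => ?_
      have h2 := hlr i
      rw [mul_one] at h2
      rw [h2, hmod i (Finset.mem_range.mp hi)]
    have hc1 : Commute l r := LinearMap.commute_mulLeft_right u u
    have hc2 : Commute l r' := LinearMap.commute_mulLeft_right u _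
    have hrr : r * r' = 1 := LinearMap.ext fun Y => by
      show Y * u ^ (h - 1) * u = Y
      rw [mul_assoc, ← pow_succ, Nat.sub_add_cancel hh0, hu, mul_one]
    have hr'r : r' * r = 1 := LinearMap.ext fun Y => by
      show Y * u * u ^ (h - 1) = Y
      rw [mul_assoc, ← pow_succ', Nat.sub_add_cancel hh0, hu, mul_one]
    have hfac : l * r' - 1 = (l - r) * r' := by rw [sub_mul, hrr]
    have hc3 : Commute (l - r) r' := hc2.sub_left (show Commute r r' from hrr.trans hr'r.symm)
    rw [hfac, hc3.mul_pow, Module.End.mul_apply] at h1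
    set Y := (r' ^ (h - 1)) X
    let ln : Module.End K (Module.End K V) := LinearMap.mulLeft K N
    let rn : Module.End K (Module.End K V) := -LinearMap.mulRight K N
    have hsplit : l - r = ln + rn := LinearMap.ext fun Z => by
      show u * Z - Z * u = N * Z + -(Z * N)
      rw [hN, sub_mul, mul_sub, one_mul, mul_one]; abel
    have hc4 : Commute ln rn := LinearMap.ext fun Z => by
      show N * -(Z * N) = -(N * Z * N)
      rw [mul_neg, mul_assoc]
    have hrn : ∀ (j : ℕ) (Z : Module.End K V), (rn ^ j) Z = (-1 : K) ^ j • (Z * N ^ j) := by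
      intro j
      induction j with
      | zero => intro Z; simp
      | succ j ihj =>
        intro Z
        rw [pow_succ', Module.End.mul_apply, ihj]
        show -((-1 : K) ^ j • (Z * N ^ j) * N) = _
        rw [smul_mul_assoc, mul_assoc, ← pow_succ, pow_succ (-1 : K), mul_smul, neg_one_smul, smul_neg]
    rw [hsplit, hc4.add_pow, LinearMap.sum_apply] at h1
    rw [h1, LinearMap.sum_apply]
    refine Submodule.sum_mem _ fun i hi => ?_
    rw [← nsmul_eq_mul', LinearMap.smul_apply, LinearMap.smul_apply]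
    refine Submodule.smul_of_tower_mem _ _ ?_
    have hln : ∀ (j : ℕ) (Z : Module.End K V), (ln ^ j) Z = N ^ j * Z := fun j Z => by
      rw [LinearMap.pow_mulLeft]; rfl
    rw [Module.End.mul_apply, hln]
    by_cases hi' : h - s ≤ i
    · exact hmono _ _ hi' ⟨_, rfl⟩
    · have h2 : (rn ^ (h - 1 - i)) Y = 0 := by
        rw [hrn, hbig _ (by omega), mul_zero, smul_zero]
      rw [h2, mul_zero, LinearMap.zero_apply]
      exact Submodule.zero_mem _
  -- a cyclic vector
  obtain ⟨v, hv⟩ : ∃ v, (N ^ (s - 1)) v ≠ 0 := by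
    by_contra h'
    push Not at h'
    exact hmin (s - 1) (by omega) (LinearMap.ext fun y => by simp [h' y])
  obtain ⟨φ, hφ⟩ : ∃ φ : Module.Dual K V, φ ((N ^ (s - 1)) v) = 1 := by
    obtain ⟨φ, hφ⟩ : ∃ φ : Module.Dual K V, φ ((N ^ (s - 1)) v) ≠ 0 := by
      by_contra h'
      push Not at h'
      exact hv ((Module.forall_dual_apply_eq_zero_iff K _).mp h')
    exact ⟨(φ ((N ^ (s - 1)) v))⁻¹ • φ, by rw [LinearMap.smul_apply, smul_eq_mul, inv_mul_cancel₀ hφ]⟩
  have hlt : 0 < h - s := by omega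
  have hcov : ∀ y, ∃ c : K, y - c • v ∈ LinearMap.range N := by
    intro y
    refine ⟨φ ((N ^ (s - 1)) y), ?_⟩
    set x := y - φ ((N ^ (s - 1)) y) • v with hx
    have hφx : φ ((N ^ (s - 1)) x) = 0 := by rw [hx]; simp [hφ]
    set S := NilpotentCommutant.cyc N s φ x
    have hSN : S * N = N * S := NilpotentCommutant.cyc_commute N hs φ x
    have hSu : u * S = S * u := by
      have h1 : (u - 1) * S = S * (u - 1) := hSN.symm
      rw [sub_mul, mul_sub, one_mul, mul_one] at h1
      exact sub_left_inj.mp h1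
    have htr : LinearMap.trace K V S = 0 := by
      have hS : S = ∑ i ∈ Finset.range s, (φ ∘ₗ (N ^ (s - 1 - i) : Module.End K V)).smulRight ((N ^ i) x) :=
        LinearMap.ext fun y => by rw [NilpotentCommutant.cyc_apply]; simp [LinearMap.sum_apply]
      rw [hS, map_sum]
      refine Finset.sum_eq_zero fun i hi => ?_
      rw [LinearMap.trace_smulRight, LinearMap.comp_apply, ← Module.End.mul_apply, ← pow_add,
        show s - 1 - i + i = s - 1 by have := Finset.mem_range.mp hi; omega, hφx]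
    have h1 := hmono 1 _ hlt (hrange S hSu htr v)
    rw [pow_one] at h1
    rw [NilpotentCommutant.cyc_apply] at h1
    rw [← Finset.add_sum_erase _ _ (Finset.mem_range.mpr (Nat.pos_of_ne_zero hs0))] at h1
    rw [Nat.sub_zero, hφ, one_smul, pow_zero, Module.End.one_apply] at h1
    refine (Submodule.add_mem_iff_left _ (Submodule.sum_mem _ fun i hi => Submodule.smul_mem _ _ ?_)).mp h1
    obtain ⟨hi0, -⟩ := Finset.mem_erase.mp hi
    exact ⟨(N ^ (i - 1)) x, by rw [← Module.End.mul_apply, ← pow_succ', Nat.sub_add_cancel (Nat.pos_of_ne_zero hi0)]⟩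
  -- the cyclic vector generates
  have hgen : ∀ (k : ℕ) (y : V), ∃ c : Fin k → K, y - ∑ i, c i • (N ^ (i : ℕ)) v ∈ LinearMap.range (N ^ k) := by
    intro k
    induction k with
    | zero => intro y; exact ⟨0, ⟨y, by simp⟩⟩
    | succ k ih =>
      intro y
      obtain ⟨c, z, hz⟩ := ih y
      obtain ⟨a, w, hw⟩ := hcov z
      refine ⟨Fin.snoc c a, w, ?_⟩
      rw [Fin.sum_univ_castSucc]
      simp only [Fin.snoc_castSucc, Fin.snoc_last, Fin.val_castSucc, Fin.val_last]
      rw [pow_succ, Module.End.mul_apply, hw, map_sub, map_smul, hz, sub_add_eq_sub_sub]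
  have hli : LinearIndependent K (fun i : Fin s => (N ^ (i : ℕ)) v) := by
    rw [Fintype.linearIndependent_iff]
    intro g hg
    suffices h' : ∀ k : ℕ, ∀ i : Fin s, (i : ℕ) = k → g i = 0 from fun i => h' i i rfl
    intro k
    induction k using Nat.strong_induction_on with
    | _ k ihk =>
    intro i hi
    have h1 := congrArg (fun t => (N ^ (s - 1 - k)) t) hg
    simp only [map_sum, map_smul, map_zero] at h1
    rw [Finset.sum_eq_single i (fun j _ hj => ?_) (fun h' => absurd (Finset.mem_univ _) h')] at h1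
    · rw [← Module.End.mul_apply, ← pow_add, show s - 1 - k + (i : ℕ) = s - 1 by omega] at h1
      exact (smul_eq_zero.mp h1).resolve_right hv
    · rcases lt_or_gt_of_ne (fun e' => hj (Fin.ext e') : (j : ℕ) ≠ i) with h' | h'
      · rw [ihk j (hi ▸ h') j rfl, zero_smul]
      · rw [← Module.End.mul_apply, ← pow_add, hbig _ (by omega), LinearMap.zero_apply, smul_zero]
  have hspan : ⊤ ≤ Submodule.span K (Set.range fun i : Fin s => (N ^ (i : ℕ)) v) := by
    intro y _
    obtain ⟨c, z, hz⟩ := hgen s y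
    rw [hs, LinearMap.zero_apply] at hz
    rw [sub_eq_zero.mp hz.symm]
    exact Submodule.sum_mem _ fun i _ => Submodule.smul_mem _ _ (Submodule.subset_span ⟨i, rfl⟩)
  have hsd : s = finrank K V := by
    rw [finrank_eq_card_basis (Basis.mk hli hspan), Fintype.card_fin]
  refine ⟨hsd, ?_⟩
  -- the block has length `h - 1`
  by_contra hne
  have h2 : 2 ≤ h - s := by omega
  have hTr : LinearMap.trace K V N = 0 := (LinearMap.isNilpotent_trace_of_isNilpotent ⟨s, hs⟩).eq_zero
  have hNu : u * N = N * u := by rw [hN, mul_sub, sub_mul, mul_one, one_mul]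
  have hN2 : ∀ y, N y ∈ LinearMap.range (N ^ 2) := fun y => hmono 2 _ h2 (hrange N hNu hTr y)
  have hNs : ∀ k, 0 < k → ∀ y, N y ∈ LinearMap.range (N ^ k) := by
    intro k hk
    induction k with
    | zero => omega
    | succ k ih =>
      intro y
      rcases Nat.eq_zero_or_pos k with rfl | hk'
      · exact ⟨y, by rw [pow_one]⟩
      obtain ⟨z, hz⟩ := ih hk' y
      obtain ⟨z2, hz2⟩ := hN2 z
      obtain ⟨j, rfl⟩ : ∃ j, k = j + 1 := ⟨k - 1, by omega⟩
      refine ⟨z2, ?_⟩
      rw [show j + 1 + 1 = j + 2 by omega, pow_add, Module.End.mul_apply, hz2, ← Module.End.mul_apply,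
        ← pow_succ, hz]
  have hN0 : N ^ 1 = 0 := LinearMap.ext fun y => by
    obtain ⟨z, hz⟩ := hNs s (Nat.pos_of_ne_zero hs0) y
    rw [pow_one, ← hz, hs]; rfl
  have := hmin 1 (by omega)
  exact this hN0

/-- The degree of an irreducible representation of a `q`-group in coprime characteristic. -/
theorem exists_degree_pow [IsAlgClosed K] {q : ℕ} [hq : Fact q.Prime] : ∀ (n : ℕ) (Q : Type u) [Group Q] [Finite Q]
    (V : Type v) [AddCommGroup V] [Module K V] [FiniteDimensional K V] [Nontrivial V] (ρ : Q →* Module.End K V),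
    Nat.card Q ≤ n → IsPGroup q Q → (Nat.card Q : K) ≠ 0 →
    (∀ W : Submodule K V, (∀ g, ∀ w ∈ W, ρ g w ∈ W) → W = ⊥ ∨ W = ⊤) → ∃ k, finrank K V = q ^ k := by
  intro n
  induction n with
  | zero => intro Q _ _ V _ _ _ _ ρ hn; exact absurd hn (not_le.mpr Nat.card_pos)
  | succ n ih =>
  intro Q _ _ V _ _ _ _ ρ hn hQ hchar hirr
  classical
  by_cases hcomm : ∀ g t : Q, ρ g * ρ t = ρ t * ρ g
  · refine ⟨0, ?_⟩
    obtain ⟨v, hv⟩ := exists_ne (0 : V)
    have htop : Submodule.span K {v} = ⊤ := (hirr _ fun g w hw => by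
      obtain ⟨c, hc⟩ := scalar_of_commute ρ hirr (X := ρ g) (fun t => hcomm t g)
      rw [hc, LinearMap.smul_apply, Module.End.one_apply]
      exact Submodule.smul_mem _ _ hw).resolve_left (fun e => hv (Submodule.span_singleton_eq_bot.mp e))
    rw [← finrank_top, ← htop, finrank_span_singleton hv, pow_zero]
  -- a normal subgroup with abelian non-central image
  let Zc : Subgroup Q :=
    { carrier := {g | ∀ t, ρ g * ρ t = ρ t * ρ g}
      mul_mem' := fun {a b} ha hb t => by rw [map_mul, mul_assoc, hb t, ← mul_assoc, ha t, mul_assoc]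
      one_mem' := fun t => by rw [map_one, one_mul, mul_one]
      inv_mem' := fun {a} ha t => by
        calc ρ a⁻¹ * ρ t = ρ a⁻¹ * (ρ t * ρ a) * ρ a⁻¹ := by
              rw [mul_assoc, mul_assoc, ← map_mul ρ a, mul_inv_cancel, map_one, mul_one]
          _ = ρ a⁻¹ * (ρ a * ρ t) * ρ a⁻¹ := by rw [ha t]
          _ = _ := by rw [← mul_assoc, ← map_mul ρ a⁻¹ a, inv_mul_cancel, map_one, one_mul] }
  haveI hZn : Zc.Normal := ⟨fun g hg a => by
    intro t
    have h1 : ρ (a * g * a⁻¹) = ρ g := by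
      rw [map_mul, map_mul, ← hg a, mul_assoc, ← map_mul ρ a, mul_inv_cancel, map_one, mul_one]
    rw [h1]
    exact hg t⟩
  haveI : Nontrivial (Q ⧸ Zc) := by
    rw [QuotientGroup.nontrivial_iff]
    intro e
    exact hcomm fun g t => (e ▸ Subgroup.mem_top g : g ∈ Zc) t
  obtain ⟨abar, ha, ha1⟩ := (Subgroup.bot_or_exists_ne_one _).resolve_left
    (hQ.to_quotient Zc).bot_lt_center.ne'
  obtain ⟨a, rfl⟩ := QuotientGroup.mk'_surjective Zc abar
  have haZ : a ∉ Zc := fun h => ha1 ((QuotientGroup.eq_one_iff a).mpr h)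
  set A := (Subgroup.zpowers (QuotientGroup.mk' Zc a)).comap (QuotientGroup.mk' Zc) with hA
  haveI hAn : A.Normal := by
    haveI : (Subgroup.zpowers (QuotientGroup.mk' Zc a)).Normal := ⟨fun y hy g => by
      have hc : y ∈ Subgroup.center (Q ⧸ Zc) := Subgroup.zpowers_le.mpr ha hy
      rwa [Subgroup.mem_center_iff.mp hc g, mul_inv_cancel_right]⟩
    exact this.comap _
  have haA : a ∈ A := Subgroup.mem_zpowers _
  have hAcomm : ∀ b ∈ A, ∀ b' ∈ A, ρ b * ρ b' = ρ b' * ρ b := by
    have hdec : ∀ b ∈ A, ∃ i : ℤ, ∃ z ∈ Zc, b = a ^ i * z := by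
      intro b hb
      obtain ⟨i, hi⟩ := Subgroup.mem_zpowers_iff.mp hb
      refine ⟨i, (a ^ i)⁻¹ * b, ?_, (mul_inv_cancel_left _ _).symm⟩
      rw [← QuotientGroup.eq_one_iff]
      show QuotientGroup.mk' Zc ((a ^ i)⁻¹ * b) = 1
      rw [map_mul, map_inv, map_zpow, hi, inv_mul_cancel]
    intro b hb b' hb'
    obtain ⟨i, z, hz, rfl⟩ := hdec b hb
    obtain ⟨j, z', hz', rfl⟩ := hdec b' hb'
    have e1 : Commute (ρ (a ^ i)) (ρ (a ^ j)) := by
      show ρ _ * ρ _ = ρ _ * ρ _
      rw [← map_mul, ← map_mul, ← zpow_add, ← zpow_add, add_comm]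
    have e2 : ∀ t, Commute (ρ z) (ρ t) := hz
    have e3 : ∀ t, Commute (ρ z') (ρ t) := hz'
    rw [map_mul, map_mul]
    exact ((e1.mul_right (e3 _).symm).mul_left ((e2 _).mul_right (e2 _))).eq
  have hAchar : (Nat.card A : K) ≠ 0 := fun e => by
    obtain ⟨c, hc⟩ := Subgroup.card_subgroup_dvd_card A
    exact hchar (by rw [hc, Nat.cast_mul, e, zero_mul])
  have htop := HHExc.iSup_chEigen_eq_top ρ A hAcomm hAchar
  obtain ⟨ω, hω⟩ : ∃ ω, HHExc.chEigen ρ A ω ≠ ⊥ := by
    by_contra h
    push Not at h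
    rw [iSup_eq_bot.mpr h] at htop
    exact bot_ne_top htop
  set W := HHExc.chEigen ρ A ω with hW
  haveI : Nontrivial W := Submodule.nontrivial_iff_ne_bot.mpr hω
  -- the stabilizer of the character
  let H : Subgroup Q :=
    { carrier := {g | ∀ b ∈ A, ω (g * b * g⁻¹) = ω b}
      mul_mem' := fun {x y} hx hy b hb => by
        rw [← hy b hb, ← hx _ (hAn.conj_mem b hb y)]; congr 1; group
      one_mem' := fun b _ => by simp
      inv_mem' := fun {x} hx b hb => by
        rw [← hx _ (hAn.conj_mem b hb x⁻¹)]; congr 1; group }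
  have hgn : ∀ g : Q, g ∈ Subgroup.normalizer (A : Set Q) := fun g => by
    rw [Subgroup.normalizer_eq_top]; exact Subgroup.mem_top g
  have hmove : ∀ g, ∀ w ∈ W, ρ g w ∈ HHExc.chEigen ρ A (fun b => ω (g⁻¹ * b * g)) := fun g w hw =>
    HHExc.apply_mem_chEigen ρ (hgn g) (fun b _ => by simp [mul_assoc]) hw
  have hHW : ∀ g ∈ H, ∀ w ∈ W, ρ g w ∈ W := fun g hg w hw =>
    HHExc.apply_mem_chEigen ρ (hgn g) hg hw
  let ρW : H →* Module.End K W :=
    { toFun := fun g => (ρ (g : Q)).restrict (hHW g g.2)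
      map_one' := LinearMap.ext fun v => Subtype.ext (by simp [LinearMap.restrict_apply])
      map_mul' := fun x y => LinearMap.ext fun v => Subtype.ext (by simp [LinearMap.restrict_apply]) }
  haveI : Fintype (Q ⧸ H) := Fintype.ofFinite _
  let Φ : (Q ⧸ H → W) →ₗ[K] V :=
    ∑ c : Q ⧸ H, (ρ c.out).comp (W.subtype.comp (LinearMap.proj c))
  have hΦ : ∀ f, Φ f = ∑ c : Q ⧸ H, ρ c.out (f c : V) := fun f => by
    simp [Φ, LinearMap.sum_apply]
  have hΦinj : Function.Injective Φ := by
    rw [← LinearMap.ker_eq_bot, eq_bot_iff]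
    intro f hf
    rw [LinearMap.mem_ker, hΦ] at hf
    refine (Submodule.mem_bot K).mpr (funext fun c => ?_)
    have h1 := HHExc.eigen_sum_eq_zero ρ A Finset.univ
      (fun c : Q ⧸ H => fun b => ω (c.out⁻¹ * b * c.out)) (fun c _ c' _ hne => by
        by_contra hall
        push Not at hall
        refine hne ?_
        rw [← QuotientGroup.out_eq' c, ← QuotientGroup.out_eq' c', QuotientGroup.eq]
        intro b hb
        have h2 := hall _ (hAn.conj_mem b hb c'.out)
        rw [show c'.out⁻¹ * (c'.out * b * c'.out⁻¹) * c'.out = b by group] at h2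
        rw [← h2]; congr 1; group)
      (fun c => ρ c.out (f c : V)) (fun c _ => hmove _ _ (f c).2) hf c (Finset.mem_univ c)
    have h2 := congrArg (ρ c.out⁻¹) h1
    rw [HHExc.coe_inv_apply, map_zero] at h2
    exact Subtype.ext h2
  have hinv : ∀ U : Submodule K W, (∀ g, ∀ w ∈ U, ρW g w ∈ U) →
      ∀ g, ∀ v ∈ (Submodule.pi Set.univ fun _ : Q ⧸ H => U).map Φ,
        ρ g v ∈ (Submodule.pi Set.univ fun _ : Q ⧸ H => U).map Φ := by
    rintro U hU g _ ⟨f, hf, rfl⟩
    rw [hΦ, map_sum]
    refine Submodule.sum_mem _ fun c _ => ?_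
    set c' : Q ⧸ H := ((g * c.out : Q) : Q ⧸ H) with hc'
    have hh : c'.out⁻¹ * (g * c.out) ∈ H := QuotientGroup.eq.mp (by rw [QuotientGroup.out_eq' c'])
    refine ⟨(Pi.single c' (ρW ⟨_, hh⟩ (f c)) : Q ⧸ H → W), fun d _ => ?_, ?_⟩
    · show (Pi.single c' (ρW ⟨_, hh⟩ (f c)) : Q ⧸ H → W) d ∈ U
      rcases eq_or_ne d c' with rfl | hd
      · rw [Pi.single_eq_same]; exact hU _ _ (hf c trivial)
      · rw [Pi.single_eq_of_ne hd]; exact U.zero_mem
    · rw [hΦ, Finset.sum_eq_single c' (fun d _ hd => by rw [Pi.single_eq_of_ne hd]; simp) (by simp), Pi.single_eq_same]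
      show ρ c'.out (ρ (c'.out⁻¹ * (g * c.out)) (f c : V)) = ρ g (ρ c.out (f c : V))
      rw [← Module.End.mul_apply, ← map_mul, mul_inv_cancel_left, map_mul, Module.End.mul_apply]
  have hirrW : ∀ U : Submodule K W, (∀ g, ∀ w ∈ U, ρW g w ∈ U) → U = ⊥ ∨ U = ⊤ := by
    intro U hU
    rcases eq_or_ne U ⊥ with h | h
    · exact Or.inl h
    right
    obtain ⟨w, hw, hw0⟩ := (Submodule.ne_bot_iff _).mp h
    have h1 := (hirr _ (hinv U hU)).resolve_left fun e => by
      have h2 : Φ (fun _ => w) ∈ (Submodule.pi Set.univ fun _ : Q ⧸ H => U).map Φ := ⟨_, fun _ _ => hw, rfl⟩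
      rw [e, Submodule.mem_bot, ← map_zero Φ] at h2
      exact hw0 (congrFun (hΦinj h2) ((1 : Q) : Q ⧸ H))
    rw [eq_top_iff]
    intro y _
    obtain ⟨f, hf, hfy⟩ := (h1 ▸ Submodule.mem_top : Φ (fun _ => y) ∈ _)
    exact congrFun (hΦinj hfy) ((1 : Q) : Q ⧸ H) ▸ hf _ trivial
  have hΦsurj : Function.Surjective Φ := by
    intro y
    have h1 := (hirr _ (hinv ⊤ fun _ _ _ => trivial)).resolve_left fun e => by
      obtain ⟨w, hw⟩ := exists_ne (0 : W)
      have h2 : Φ (fun _ => w) ∈ (Submodule.pi Set.univ fun _ : Q ⧸ H => (⊤ : Submodule K W)).map Φ :=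
        ⟨_, fun _ _ => trivial, rfl⟩
      rw [e, Submodule.mem_bot, ← map_zero Φ] at h2
      exact hw (congrFun (hΦinj h2) ((1 : Q) : Q ⧸ H))
    obtain ⟨f, -, hf⟩ := (h1 ▸ Submodule.mem_top : y ∈ _)
    exact ⟨f, hf⟩
  have hHne : H ≠ ⊤ := by
    intro e
    have hWtop : W = ⊤ := (hirr W fun g w hw => hHW g (e ▸ Subgroup.mem_top g) w hw).resolve_left hω
    refine haZ fun t => ?_
    have hsc : ρ a = ω a • 1 := LinearMap.ext fun v =>
      (HHExc.mem_chEigen ρ).mp (hWtop ▸ Submodule.mem_top : v ∈ W) a haA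
    rw [hsc, smul_mul_assoc, one_mul, mul_smul_comm, mul_one]
  have hcardH : Nat.card H ≤ n := by
    have h1 := H.card_mul_index
    have h2 : 2 ≤ H.index := by
      have := Subgroup.index_ne_zero_of_finite (H := H)
      have : H.index ≠ 1 := fun e => hHne (Subgroup.index_eq_one.mp e)
      omega
    have h3 : 0 < Nat.card H := Nat.card_pos
    nlinarith
  obtain ⟨k, hk⟩ := ih H W ρW hcardH (hQ.to_subgroup H) (fun e => by
    obtain ⟨c, hc⟩ := Subgroup.card_subgroup_dvd_card H
    exact hchar (by rw [hc, Nat.cast_mul, e, zero_mul])) hirrW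
  obtain ⟨i, hi⟩ := hQ.index H
  refine ⟨i + k, ?_⟩
  rw [← (LinearEquiv.ofBijective Φ ⟨hΦinj, hΦsurj⟩).finrank_eq, Module.finrank_pi_fintype,
    Finset.sum_const, Finset.card_univ, ← Nat.card_eq_fintype_card, ← Subgroup.index_eq_card, hi, hk,
    smul_eq_mul, pow_add]

end Cfsg.Agent.Grp.HHCrit
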