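import Mathlib
import Cfsg.Agent.Lib.Grp.HHPLength

/-!
The derived length of a Sylow `p`-subgroup bounds the `p`-length, `p` odd.
-/

set_option autoImplicit false
set_option linter.style.haveILetI false

namespace Cfsg.Agent.Grp.HHP

open Subgroup
open scoped commutatorElement

universe u

/-- A `3`-group of automorphisms of a group of order four is commutative. -/
theorem commute_aut_four {M : Type*} [Group M] [Finite M] (hM : Nat.card M = 4) {Y : Subgroup (MulAut M)}
    (hY : IsPGroup 3 Y) : ∀ a ∈ Y, ∀ b ∈ Y, Commute a b := by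
  classical
  intro a ha b hb
  haveI := Fintype.ofFinite M
  let f : MulAut M →* Equiv.Perm {m : M // m ≠ 1} :=
    { toFun := fun φ => Equiv.subtypeEquiv φ.toEquiv fun m => ((EmbeddingLike.map_ne_one_iff (f := φ)).symm : m ≠ 1 ↔ φ m ≠ 1)
      map_one' := rfl
      map_mul' := fun _ _ => rfl }
  have hf : Function.Injective f := by
    intro φ ψ h
    refine MulEquiv.ext fun m => ?_
    by_cases hm : m = 1
    · rw [hm, map_one, map_one]
    · exact congrArg Subtype.val (Equiv.congr_fun h ⟨m, hm⟩)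
  have h3 : Nat.card {m : M // m ≠ 1} = 3 := by
    rw [Nat.card_eq_fintype_card, Fintype.card_subtype_compl, Fintype.card_subtype_eq, ← Nat.card_eq_fintype_card, hM]
  have hle : Nat.card Y ∣ 6 := by
    have h1 := card_dvd_of_injective (f.comp Y.subtype) (hf.comp Y.subtype_injective)
    rwa [Nat.card_perm, h3] at h1
  haveI : Fact (Nat.Prime 3) := ⟨Nat.prime_three⟩
  obtain ⟨k, hk⟩ := hY.exists_card_eq
  have hk1 : k ≤ 1 := by
    by_contra hk'
    have h9 : 3 ^ 2 ∣ 6 := (pow_dvd_pow 3 (by omega)).trans (hk ▸ hle)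
    exact absurd h9 (by norm_num)
  have hcyc : IsCyclic Y := by
    rcases Nat.le_one_iff_eq_zero_or_eq_one.mp hk1 with rfl | rfl
    · haveI : Subsingleton Y := (Nat.card_eq_one_iff_unique.mp (by rw [hk, pow_zero])).1
      exact isCyclic_of_subsingleton
    · exact isCyclic_of_prime_card (p := 3) (by rw [hk, pow_one])
  exact congrArg Subtype.val ((IsCyclic.commGroup (α := Y)).mul_comm ⟨a, ha⟩ ⟨b, hb⟩)

/-- An abelian group of automorphisms of exponent three, each moving at most four elements of an elementary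
abelian `2`-group, dies in the derived subgroup of a normalizing `3`-group. -/
theorem trivial_of_small {S : Type u} [CommGroup S] [Finite S] (hS : ∀ s : S, s ^ 2 = 1)
    (A B : Subgroup (MulAut S)) (hA : IsMulCommutative A) (hA3 : ∀ a ∈ A, a ^ 3 = 1)
    (hsmall : ∀ a ∈ A, Nat.card (HHSmall.disp a).range ≤ 4) (hB : IsPGroup 3 B) (hBA : ∀ b ∈ B, ∀ a ∈ A, b * a * b⁻¹ ∈ A)
    (hAB : A ≤ ⁅B, B⁆) : A = ⊥ := by
  classical
  by_contra hne
  obtain ⟨a, ha, ha1⟩ := A.bot_or_exists_ne_one.resolve_left hne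
  -- an element of order three with no fixed displacement
  have hfix : ∀ φ ∈ A, ∀ s, φ (φ s / s) = φ s / s → φ s = s := by
    intro φ hφ s h
    set c := φ s / s with hc
    have h1 : φ s = c * s := (div_mul_cancel _ _).symm
    have h3 : (φ ^ 3) s = c ^ 3 * s := by
      simp only [pow_succ, pow_zero, one_mul, MulAut.mul_apply, h1, map_mul, h, mul_assoc]
    rw [hA3 φ hφ, MulAut.one_apply, right_eq_mul, pow_succ, hS, one_mul] at h3
    rw [h1, h3, one_mul]
  set M := (HHSmall.disp a).range with hM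
  have hMne : M ≠ ⊥ := fun e => ha1 (MulEquiv.ext fun s => by
    have h : HHSmall.disp a s ∈ M := ⟨s, rfl⟩
    rwa [e, mem_bot, HHSmall.disp_apply, div_eq_one] at h)
  have hMinv : ∀ φ ∈ A, ∀ m ∈ M, φ m ∈ M := by
    rintro φ hφ _ ⟨s, rfl⟩
    refine ⟨φ s, ?_⟩
    rw [HHSmall.disp_apply, HHSmall.disp_apply, map_div, ← MulAut.mul_apply, ← MulAut.mul_apply,
      show a * φ = φ * a from congrArg Subtype.val (hA.is_comm.comm ⟨a, ha⟩ ⟨φ, hφ⟩)]
  have hamove : ∀ m ∈ M, a m = m → m = 1 := by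
    rintro _ ⟨s, rfl⟩ h
    rw [HHSmall.disp_apply, hfix a ha s h, div_self']
  have hMc : Nat.card M = 4 := by
    have h2 : IsPGroup 2 M := fun m => ⟨1, Subtype.ext (hS m)⟩
    obtain ⟨k, hk⟩ := h2.exists_card_eq
    have h4 := hsmall a ha
    rw [← hM, hk] at h4
    have hk2 : k ≤ 2 := (Nat.pow_le_pow_iff_right (le_refl 2)).mp h4
    have hk0 : k ≠ 0 := fun e => hMne (card_eq_one.mp (by rw [hk, e, pow_zero]))
    rcases (show k = 1 ∨ k = 2 by omega) with rfl | rfl
    · exfalso
      obtain ⟨m, hm, hm1⟩ := M.bot_or_exists_ne_one.resolve_left hMne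
      have hmo : orderOf (⟨m, hm⟩ : M) ≠ 1 := fun e => hm1 (congrArg Subtype.val (orderOf_eq_one_iff.mp e))
      haveI : Nontrivial M := nontrivial_iff_ne_bot _ |>.mpr hMne
      have hinj : Function.Injective ![(1 : M), ⟨m, hm⟩, ⟨a m, hMinv a ha m hm⟩] := by
        intro i j hij
        have hne1 : a m ≠ 1 := fun e => hm1 ((MulEquiv.map_eq_one_iff a).mp e)
        have hne2 : a m ≠ m := fun e => hm1 (hamove m hm e)
        fin_cases i <;> fin_cases j <;> simp [Subtype.ext_iff, hm1, Ne.symm hm1, hne1, Ne.symm hne1, hne2, Ne.symm hne2] at hij ⊢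
      have := Nat.card_le_card_of_injective _ hinj
      rw [Nat.card_fin, hk] at this
      omega
    · exact hk
  -- restriction to `M` is faithful on `A`
  have hfaith : ∀ φ ∈ A, (∀ m ∈ M, φ m = m) → φ = 1 := by
    intro φ hφ h
    have hprod : ∀ m ∈ M, HHSmall.disp (a * φ) m = HHSmall.disp a m := fun m hm => by
      rw [HHSmall.disp_apply, HHSmall.disp_apply, MulAut.mul_apply, h m hm]
    have hMle : M ≤ (HHSmall.disp (a * φ)).range := by
      have h1 : ∀ m ∈ M, HHSmall.disp a m ∈ M := fun m hm => ⟨m, rfl⟩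
      let g : M → M := fun m => ⟨HHSmall.disp a m, h1 m m.2⟩
      have hg : Function.Surjective g := Finite.surjective_of_injective fun m m' e => by
        have e' : HHSmall.disp a (m : S) = HHSmall.disp a (m' : S) := congrArg Subtype.val e
        rw [← div_eq_one, ← map_div, HHSmall.disp_apply, div_eq_one] at e'
        exact Subtype.ext (div_eq_one.mp (hamove _ (M.div_mem m.2 m'.2) e'))
      intro y hy
      obtain ⟨m, hm⟩ := hg ⟨y, hy⟩
      exact ⟨m, (hprod m m.2).trans (congrArg Subtype.val hm)⟩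
    have heq := eq_of_le_of_card_ge hMle (by rw [hMc]; exact hsmall _ (A.mul_mem ha hφ))
    refine MulEquiv.ext fun s => hfix φ hφ s (h _ ?_)
    have h1 : HHSmall.disp (a * φ) s ∈ M := heq ▸ ⟨s, rfl⟩
    have h2 : a (φ s / s) ∈ M := by
      have h3 : a (φ s / s) = HHSmall.disp (a * φ) s / HHSmall.disp a s := by
        rw [HHSmall.disp_apply, HHSmall.disp_apply, MulAut.mul_apply, map_div, div_div_div_cancel_right]
      rw [h3]; exact M.div_mem h1 ⟨s, rfl⟩
    have h4 := hMinv (a ^ 2) (A.pow_mem ha 2) _ h2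
    rwa [← MulAut.mul_apply, ← pow_succ, hA3 a ha, MulAut.one_apply] at h4
  -- `B` preserves `M`
  have hBM : ∀ b ∈ B, ∀ m ∈ M, b m ∈ M := by
    rintro b hb _ ⟨s, rfl⟩
    set a' := b * a * b⁻¹ with ha'
    have ha'A : a' ∈ A := hBA b hb a ha
    have hbd : b (HHSmall.disp a s) = HHSmall.disp a' (b s) := by
      rw [HHSmall.disp_apply, HHSmall.disp_apply, map_div, ha', MulAut.mul_apply, MulAut.mul_apply, MulAut.inv_apply,
        MulEquiv.symm_apply_apply]
    rw [hbd]
    -- on `M` it moves every element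
    have hne' : ∃ m ∈ M, a' m ≠ m := by
      by_contra hall
      push Not at hall
      have h := hfaith a' ha'A hall
      rw [ha'] at h
      exact ha1 (by simpa [mul_assoc] using congrArg (fun z => b⁻¹ * z * b) h)
    have hle : M ≤ (HHSmall.disp a').range := by
      let g : M →* M :=
        { toFun := fun m => ⟨HHSmall.disp a' m, M.div_mem (hMinv a' ha'A m m.2) m.2⟩
          map_one' := Subtype.ext (map_one _)
          map_mul' := fun x y => Subtype.ext (map_mul (HHSmall.disp a') _ _) }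
      have hg : Function.Surjective g := by
        refine Finite.surjective_of_injective ((injective_iff_map_eq_one g).mpr fun m hm => ?_)
        by_contra hm1
        have hm' : a' (m : S) = m := div_eq_one.mp (congrArg Subtype.val hm)
        -- the fixed subgroup is invariant under `a`
        have ham : a' (a (m : S)) = a m := by
          rw [← MulAut.mul_apply, show a' * a = a * a' from congrArg Subtype.val (hA.is_comm.comm ⟨a', ha'A⟩ ⟨a, ha⟩), MulAut.mul_apply, hm']
        obtain ⟨x, hx, hxne⟩ := hne'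
        have hm1' : (m : S) ≠ 1 := fun e => hm1 (Subtype.ext e)
        have hne1 : a (m : S) ≠ 1 := fun e => hm1' ((MulEquiv.map_eq_one_iff a).mp e)
        have hne2 : a (m : S) ≠ m := fun e => hm1' (hamove _ m.2 e)
        have hx1 : x ≠ 1 := fun e => hxne (by rw [e, map_one])
        have hxm : x ≠ m := fun e => hxne (e ▸ hm')
        have hxam : x ≠ a m := fun e => hxne (e ▸ ham)
        have hprod : (m : S) * a m ≠ x := fun e => hxne (by rw [← e, map_mul, hm', ham])
        have hp1 : (m : S) * a m ≠ 1 := fun e => hne2 (by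
          have h2 : (m : S) * m = 1 := by rw [← sq]; exact hS m
          exact mul_left_cancel (e.trans h2.symm))
        have hp2 : (m : S) * a m ≠ m := fun e => hne1 (left_eq_mul.mp e.symm)
        have hp3 : (m : S) * a m ≠ a m := fun e => hm1' (mul_eq_right.mp e)
        have hinj : Function.Injective ![(1 : M), m, ⟨a m, hMinv a ha m m.2⟩,
            ⟨(m : S) * a m, M.mul_mem m.2 (hMinv a ha m m.2)⟩, ⟨x, hx⟩] := by
          intro i j hij
          fin_cases i <;> fin_cases j <;> simp [Subtype.ext_iff, hm1', Ne.symm hm1', hne1, Ne.symm hne1, hne2,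
            Ne.symm hne2, hx1, Ne.symm hx1, hxm, Ne.symm hxm, hxam, Ne.symm hxam, hprod, Ne.symm hprod, hp1,
            Ne.symm hp1, hp2, Ne.symm hp2, hp3, Ne.symm hp3] at hij ⊢
        have := Nat.card_le_card_of_injective _ hinj
        rw [Nat.card_fin, hMc] at this
        omega
      intro y hy
      obtain ⟨m, hm⟩ := hg ⟨y, hy⟩
      exact ⟨m, congrArg Subtype.val hm⟩
    exact (eq_of_le_of_card_ge hle (by rw [hMc]; exact hsmall a' ha'A)).ge ⟨_, rfl⟩
  obtain ⟨τ, hτ⟩ := HHSmall.exists_restrict B.subtype M fun b => hBM b b.2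
  have hτc := commute_aut_four hMc (hB.of_surjective τ.rangeRestrict τ.rangeRestrict_surjective)
  obtain ⟨a₀, ha₀, ha₀e⟩ : ∃ a₀ : B, a₀ ∈ τ.ker ∧ (a₀ : MulAut S) = a := by
    have h := hAB ha
    rw [← range_subtype B, MonoidHom.range_eq_map, ← Subgroup.map_commutator] at h
    obtain ⟨a₀, h0, rfl⟩ := h
    refine ⟨a₀, ?_, rfl⟩
    refine (commutator_le.mpr fun x _ y _ => ?_) h0
    rw [MonoidHom.mem_ker, map_commutatorElement, commutatorElement_eq_one_iff_mul_comm]
    exact hτc _ ⟨x, rfl⟩ _ ⟨y, rfl⟩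
  obtain ⟨m, hm, hm1⟩ := M.bot_or_exists_ne_one.resolve_left hMne
  refine hm1 (hamove m hm ?_)
  have h := hτ a₀ ⟨m, hm⟩
  rw [MonoidHom.mem_ker.mp ha₀, MulAut.one_apply] at h
  rw [← ha₀e]
  exact h.symm

open HHExc in
/-- For `p = 3` an abelian normal subgroup in the derived subgroup, acting quadratically, centralizes a
normalized `2`-group. -/
theorem quadratic_centralizes_two {K : Type*} [Field K] [IsAlgClosed K] [CharP K 3] {V : Type*}
    [AddCommGroup V] [Module K V] [FiniteDimensional K V] {Γ : Type u} [Group Γ] [Finite Γ]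
    {ρ : Γ →* Module.End K V} (hρ : Function.Injective ρ) {P A B Q : Subgroup Γ} (hP : IsPGroup 3 P)
    (hQ : IsPGroup 2 Q) (hPQ : P ≤ normalizer (Q : Set Γ)) (hAP : A ≤ P) (hBP : B ≤ P)
    (hAn : P ≤ normalizer (A : Set Γ)) (hAc : IsMulCommutative A) (hA3 : ∀ a ∈ A, a ^ 3 = 1)
    (hAB : A ≤ ⁅B, B⁆) (hquad : ∀ a ∈ A, (ρ a - 1) ^ 2 = 0)
    (hcube : ∀ a ∈ A, ∀ b ∈ B, (ρ a - 1) * (ρ b - 1) * (ρ b - 1) = 0) :
    ⁅Q, A⁆ = ⊥ := by
  classical
  haveI : Fact (Nat.Prime 3) := ⟨Nat.prime_three⟩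
  have hp2 : (3 : ℕ) ≠ 2 := by norm_num
  by_contra hnt
  obtain ⟨X, ⟨hXQ, hPX, hXnt⟩, hXmin⟩ := (Set.toFinite
    {U : Subgroup Γ | U ≤ Q ∧ P ≤ normalizer (U : Set Γ) ∧ ⁅U, A⁆ ≠ ⊥}).exists_minimal ⟨Q, le_rfl, hPQ, hnt⟩
  have hX : IsPGroup 2 X := hQ.to_le hXQ
  have hcop : (Nat.card A).Coprime 2 := by
    obtain ⟨e, he⟩ := IsPGroup.iff_card.mp (hP.to_le hAP)
    rw [he]
    exact ((Nat.coprime_primes Nat.prime_three Nat.prime_two).mpr hp2).pow_left e
  obtain ⟨hXA, hstruct, -, -⟩ := Cfsg.Agent.S3736.result (p := 2) P A X hX hPX hAP hAn hcop hXnt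
    (fun U hU hB => by
      by_contra h
      exact hU.not_ge (hXmin ⟨hU.le.trans hXQ, hB, h⟩ hU.le))
  have hpow0 : ∀ a : Γ, a ^ 3 ^ 0 = a := fun a => by rw [pow_zero, pow_one]
  have hnorm : ∀ a ∈ A, (ρ a - 1) ^ (3 ^ (0 + 1) - 1) = 0 := fun a ha => hquad a ha
  have habel : ¬ IsMulCommutative X := by
    intro hab
    refine hXnt (commutator_eq_bot_iff_le_centralizer.mpr fun t ht => mem_centralizer_iff.mpr fun a ha => ?_)
    have h := commute_of_injective (hp := ⟨Nat.prime_three⟩) hp2 hp2 hρ hX (hPX (hAP ha))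
      (by rw [zero_add, pow_one]; exact hA3 a ha) (hnorm a ha) le_rfl (Or.inr (Or.inr (Or.inl hab))) t ht
    rw [hpow0] at h
    exact mul_inv_eq_iff_eq_mul.mp h
  have hspec : Cfsg.IsSpecial 2 X := hstruct.resolve_left fun h => habel h.1
  set Z := (center X).map X.subtype with hZ
  have hcomm : ∀ a ∈ X, ∀ d ∈ X, ⁅d, a⁆ ∈ Z := fun a ha d hd =>
    ⟨⁅(⟨d, hd⟩ : X), ⟨a, ha⟩⁆, hspec.2.2.le (commutator_mem_commutator (mem_top _) (mem_top _)), by
      simp [commutatorElement_def]⟩
  have hsq : ∀ a ∈ X, a ^ 2 ∈ Z := fun a ha =>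
    ⟨⟨a, ha⟩ ^ 2, hspec.2.1.le (pGroup_pow_mem_frattini hX _), rfl⟩
  have hS : Setting 3 X Z := ⟨map_subtype_le _, hcomm, fun z hz g hg => by
    obtain ⟨z', hz', rfl⟩ := hz
    exact congrArg Subtype.val (mem_center_iff.mp hz' ⟨g, hg⟩), by
    obtain ⟨e, he⟩ := IsPGroup.iff_card.mp hX
    rw [he]
    exact fun h => hp2 ((Nat.prime_dvd_prime_iff_eq Nat.prime_three Nat.prime_two).mp (Nat.prime_three.dvd_of_dvd_pow h))⟩
  have hPZ : P ≤ normalizer (Z : Set Γ) := fun d hd => by
    refine Cfsg.Agent.Grp.mem_normalizer_of_map_eq.mpr ?_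
    let e : X ≃* X := ((MulAut.conj d).subgroupMap X).trans
      (MulEquiv.subgroupCongr (Cfsg.Agent.Grp.mem_normalizer_of_map_eq.mp (hPX hd)))
    have he : (center X).map e.toMonoidHom = center X :=
      characteristic_iff_map_eq.mp inferInstance e
    conv_rhs => rw [hZ, ← he]
    rw [hZ, Subgroup.map_map, Subgroup.map_map]
    rfl
  have hZcard : (Nat.card Z : K) ≠ 0 := fun e =>
    hS.coprime (((CharP.cast_eq_zero_iff K 3 _).mp e).trans (card_dvd_of_le hS.le))
  have htop := iSup_chEigen_eq_top ρ Z (fun a ha d hd => by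
    rw [← map_mul, ← map_mul, hS.central d hd a (hS.le ha)]) hZcard
  -- `A` is trivial on every symplectic section
  have hsec : ∀ {ω : Γ → K} (hW : chEigen ρ Z ω ≠ ⊥), ∀ a ∈ A, ∀ t ∈ X, t⁻¹ * (a * t * a⁻¹) ∈ rad hS hW := by
    intro ω hW
    have hast : ∀ a ∈ A, a ∈ stab X Z ω ∧ ((∀ t ∈ X, t⁻¹ * (a * t * a⁻¹) ∈ rad hS hW) ∨
        ∃ Q1 : Subgroup Γ, Q1 ≤ X ∧ (∀ t ∈ X, t⁻¹ * (a * t * a⁻¹) ∈ Q1) ∧ (rad hS hW).relIndex Q1 = 4) := by
      intro a ha
      obtain ⟨h1, -, h2⟩ := section_dichotomy (q := 2) hp2 hS hX (hPX (hAP ha)) (hPZ (hAP ha))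
        (m := 0) (by rw [zero_add, pow_one]; exact hA3 a ha) (hnorm a ha) le_rfl hW
      rw [hpow0] at h1 h2
      refine ⟨h1, h2.imp_right ?_⟩
      rintro ⟨k, b, hk, hkm, hpk, -, -, -, Q1, -, hQ1X, hQ1, hcard⟩
      obtain rfl : k = 1 := by rcases hk with h | ⟨-, h⟩ <;> omega
      obtain rfl : b = 1 := Nat.pow_right_injective le_rfl (show 2 ^ b = 2 ^ 1 by norm_num at hpk ⊢; omega)
      exact ⟨Q1, hQ1X, hQ1, by rw [hcard]; norm_num⟩
    by_cases hB' : ∀ b ∈ B, b ∈ stab X Z ω
    swap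
    · -- some element of `B` moves `ω`: `A` is the identity on the eigenspace
      push Not at hB'
      obtain ⟨b, hbB, hb⟩ := hB'
      intro a ha t ht
      have hne2 : b ^ 2 ∉ stab X Z ω := by
        intro h2
        obtain ⟨k, hk⟩ := hP ⟨b, hBP hbB⟩
        have hk' : b ^ 3 ^ k = 1 := congrArg Subtype.val hk
        obtain ⟨n, hn⟩ := exists_pow_eq_self_of_coprime (x := b) (n := 2) (by
          refine Nat.Coprime.coprime_dvd_right (orderOf_dvd_of_pow_eq_one hk') ?_
          exact ((Nat.coprime_primes Nat.prime_two Nat.prime_three).mpr (by norm_num)).pow_right k)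
        exact hb (hn ▸ pow_mem h2 n)
      have hbN : ∀ i : ℕ, b ^ i ∈ normalizer (Z : Set Γ) := fun i => hPZ (pow_mem (hBP hbB) i)
      have hbX : ∀ i : ℕ, b ^ i ∈ normalizer (X : Set Γ) := fun i => hPX (pow_mem (hBP hbB) i)
      have hafix : ∀ v ∈ chEigen ρ Z ω, ρ a v = v := by
        intro v hv
        let χ : ℕ → Γ → K := fun i z => ω ((b ^ i)⁻¹ * z * b ^ i)
        have hw : ∀ i, (ρ b ^ i) v ∈ chEigen ρ Z (χ i) := fun i => by
          rw [← map_pow]
          exact apply_mem_chEigen ρ (hbN i) (fun z _ => by simp [χ, mul_assoc]) hv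
        have hwne : ∀ i, chEigen ρ Z (χ i) ≠ ⊥ := fun i => by
          obtain ⟨y, hy, hy0⟩ := (Submodule.ne_bot_iff _).mp hW
          refine (Submodule.ne_bot_iff _).mpr ⟨(ρ b ^ i) y, ?_, fun e => hy0 ?_⟩
          · rw [← map_pow]
            exact apply_mem_chEigen ρ (hbN i) (fun z _ => by simp [χ, mul_assoc]) hy
          · rw [← map_pow] at e
            rw [← coe_inv_apply ρ (b ^ i) y, e, map_zero]
        -- `a` maps each translate to itself
        have ha' : ∀ i, ρ a ((ρ b ^ i) v) ∈ chEigen ρ Z (χ i) := fun i => by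
          obtain ⟨h1, -, -⟩ := section_dichotomy (q := 2) hp2 hS hX (hPX (hAP ha)) (hPZ (hAP ha))
            (m := 0) (by rw [zero_add, pow_one]; exact hA3 a ha) (hnorm a ha) le_rfl (hwne i)
          rw [hpow0] at h1
          exact apply_mem_chEigen ρ h1.2.1 h1.2.2 (hw i)
        have hsum : ∑ i ∈ Finset.range 3, (ρ a ((ρ b ^ i) v) - (ρ b ^ i) v) = 0 := by
          have h := LinearMap.congr_fun (hcube a ha b hbB) v
          have e : (ρ b - 1) * (ρ b - 1) = ∑ i ∈ Finset.range 3, ρ b ^ i := by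
            rcases subsingleton_or_nontrivial V with hV | hV
            · exact LinearMap.ext fun y => Subsingleton.elim _ _
            haveI : CharP (Module.End K V) 3 :=
              charP_of_injective_algebraMap (algebraMap K (Module.End K V)).injective 3
            letI := ZMod.algebra (Module.End K V) 3
            rw [← sq]
            exact geom_eq_pow_sub_one (p := 3) (ρ b) 1
          rw [mul_assoc, e, Finset.mul_sum, LinearMap.sum_apply, LinearMap.zero_apply] at h
          simpa [sub_mul, LinearMap.sub_apply, Module.End.mul_apply] using h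
        have hne : ∀ i ∈ Finset.range 3, ∀ j ∈ Finset.range 3, i ≠ j → ∃ z ∈ Z, χ i z ≠ χ j z := by
          suffices key : ∀ i j, i < j → j < 3 → ∃ z ∈ Z, χ i z ≠ χ j z by
            intro i hi j hj hij
            rcases Nat.lt_or_gt_of_ne hij with h | h
            · exact key i j h (Finset.mem_range.mp hj)
            · obtain ⟨z, hz, hz'⟩ := key j i h (Finset.mem_range.mp hi)
              exact ⟨z, hz, hz'.symm⟩
          intro i j hij hj
          by_contra hall
          push Not at hall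
          have hst : b ^ (j - i) ∈ stab X Z ω := by
            refine mem_stab.mpr ⟨hbX _, hbN _, fun z hz => ?_⟩
            have h1 := hall _ ((mem_normalizer_iff.mp (hbN j) z).mp hz)
            simp only [χ] at h1
            rw [show (b ^ j)⁻¹ * (b ^ j * z * (b ^ j)⁻¹) * b ^ j = z by group] at h1
            rw [← h1, show j = i + (j - i) by omega, show i + (j - i) - i = j - i by omega, pow_add]
            congr 1; group
          rcases (show j - i = 1 ∨ j - i = 2 by omega) with h | h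
          · rw [h, pow_one] at hst; exact hb hst
          · rw [h] at hst; exact hne2 hst
        have h0 := eigen_sum_eq_zero ρ Z _ χ hne _ (fun i _ => Submodule.sub_mem _ (ha' i) (hw i)) hsum 0
          (Finset.mem_range.mpr (by norm_num))
        rwa [pow_zero, Module.End.one_apply, sub_eq_zero] at h0
      have huX : t⁻¹ * (a * t * a⁻¹) ∈ X :=
        X.mul_mem (inv_mem ht) ((mem_normalizer_iff.mp (hPX (hAP ha)) t).mp ht)
      refine mem_rad.mpr ⟨huX, fun u hu => ?_⟩
      obtain ⟨v, hv, hv0⟩ := (Submodule.ne_bot_iff _).mp hW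
      have hXW : ∀ r ∈ X, ∀ y ∈ chEigen ρ Z ω, ρ r y ∈ chEigen ρ Z ω := fun r hr y hy =>
        apply_mem_chEigen ρ (centralizer_le_normalizer _ (mem_centralizer_iff.mpr fun z hz => (hS.central z hz r hr).symm))
          (fun z hz => by rw [hS.central z hz r hr, mul_inv_cancel_right]) hy
      have hainv : ∀ y ∈ chEigen ρ Z ω, ρ a⁻¹ y = y := fun y hy => by
        conv_lhs => rw [← hafix y hy]
        exact coe_inv_apply ρ a y
      have hone : ∀ y ∈ chEigen ρ Z ω, ρ (t⁻¹ * (a * t * a⁻¹)) y = y := fun y hy => by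
        rw [map_mul, map_mul, map_mul, Module.End.mul_apply, Module.End.mul_apply, Module.End.mul_apply,
          hainv y hy, hafix _ (hXW t ht y hy), coe_inv_apply]
      have h1 := (mem_chEigen ρ).mp hv ⁅u, t⁻¹ * (a * t * a⁻¹)⁆ (hcomm _ huX u hu)
      rw [show ⁅u, t⁻¹ * (a * t * a⁻¹)⁆ = u * ((t⁻¹ * (a * t * a⁻¹)) * (u⁻¹ * (t⁻¹ * (a * t * a⁻¹))⁻¹)) by
        rw [commutatorElement_def, mul_assoc, mul_assoc], map_mul, map_mul, map_mul, Module.End.mul_apply,
        Module.End.mul_apply, Module.End.mul_apply, map_mul ρ u⁻¹, Module.End.mul_apply] at h1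
      have hu'v : ρ (t⁻¹ * (a * t * a⁻¹))⁻¹ v = v := by
        conv_lhs => rw [← hone v hv]
        exact coe_inv_apply ρ _ v
      rw [hu'v, ← Module.End.mul_apply (ρ t⁻¹), ← map_mul ρ t⁻¹, hone _ (hXW _ (inv_mem hu) v hv), coe_apply_inv] at h1
      exact (smul_left_injective K hv0 (show ω _ • v = (1 : K) • v by rw [commutatorElement_def, mul_assoc, mul_assoc, ← h1, one_smul]))
    -- `B` stabilizes `ω`
    set R := rad hS hW with hR
    have hRX : R ≤ X := fun r hr => (mem_rad.mp hr).1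
    have hZR : ∀ z ∈ Z, z ∈ R := fun z hz => mem_rad.mpr ⟨hS.le hz, fun u hu => by
      rw [commutatorElement_eq_one_iff_mul_comm.mpr (hS.central z hz u hu), (ch_mul ρ hW).1]⟩
    set M := P ⊓ stab X Z ω
    have hAM : A ≤ M := fun a ha => ⟨hAP ha, (hast a ha).1⟩
    have hBM : B ≤ M := fun b hb => ⟨hBP hb, hB' b hb⟩
    obtain ⟨S, _, _, f, σ, hfs, hfk, hσ⟩ := exists_section_action M X R hRX
      (fun a ha d hd => hZR _ (hcomm d hd a ha)) (fun d hd => hPX hd.1) (fun d hd a ha => conj_mem_rad hd.2 ha)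
    have hS2 : ∀ s : S, s ^ 2 = 1 := fun s => by
      obtain ⟨a, rfl⟩ := hfs s
      rw [← map_pow, ← MonoidHom.mem_ker, hfk, mem_subgroupOf]
      exact hZR _ (hsq a a.2)
    have hbot := trivial_of_small hS2 ((A.subgroupOf M).map σ) ((B.subgroupOf M).map σ)
      ⟨⟨by
        rintro ⟨_, ⟨a, haM⟩, ha, rfl⟩ ⟨_, ⟨a', ha'M⟩, ha', rfl⟩
        refine Subtype.ext ?_
        show σ _ * σ _ = σ _ * σ _
        rw [← map_mul, ← map_mul]
        exact congrArg σ (Subtype.ext (congrArg (fun z : A => (z : Γ)) (hAc.is_comm.comm ⟨a, ha⟩ ⟨a', ha'⟩)))⟩⟩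
      (by
        rintro _ ⟨a, ha, rfl⟩
        rw [← map_pow, show a ^ 3 = 1 from Subtype.ext (hA3 a ha), map_one])
      (by
        rintro _ ⟨a, ha, rfl⟩
        have hbound : ∀ Q1 : Subgroup Γ, Q1 ≤ X → (∀ t ∈ X, t⁻¹ * ((a : Γ) * t * (a : Γ)⁻¹) ∈ Q1) →
            Nat.card (HHSmall.disp (σ a)).range ≤ R.relIndex Q1 := by
          intro Q1 hQ1X hQ1
          have hidx : Nat.card ((Q1.subgroupOf X).map f) = R.relIndex Q1 := by
            rw [← relIndex_ker, hfk, relIndex_subgroupOf hQ1X]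
          rw [← hidx]
          refine Nat.le_of_dvd Nat.card_pos (card_dvd_of_le ?_)
          rintro _ ⟨s, rfl⟩
          obtain ⟨t, rfl⟩ := hfs s
          have ht' : (a : Γ) * t * (a : Γ)⁻¹ ∈ X := (mem_normalizer_iff.mp (hPX a.2.1) t).mp t.2
          refine ⟨t⁻¹ * ⟨_, ht'⟩, hQ1 t t.2, ?_⟩
          rw [HHSmall.disp_apply, hσ a t ⟨_, ht'⟩ rfl, map_mul, map_inv, inv_mul_eq_div]
        rcases (hast a ha).2 with h | ⟨Q1, hQ1X, hQ1, hcard⟩
        · refine (hbound R hRX h).trans ?_
          rw [relIndex_self]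
          norm_num
        · exact hcard ▸ hbound Q1 hQ1X hQ1)
      ((((hP.to_le hBP).comap_of_injective M.subtype M.subtype_injective)).map σ)
      (by
        rintro _ ⟨d, hd, rfl⟩ _ ⟨a, ha, rfl⟩
        rw [← map_inv, ← map_mul, ← map_mul]
        exact ⟨d * a * d⁻¹, (mem_normalizer_iff.mp (hAn (hBP hd)) (a : Γ)).mp ha, rfl⟩)
      (by
        rw [← map_commutator]
        refine map_mono fun a ha => ?_
        have h := hAB ha
        rw [← map_subgroupOf_eq_of_le hBM, ← map_commutator] at h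
        obtain ⟨a', ha', he⟩ := h
        exact Subtype.ext (a1 := a) (a2 := a') he.symm ▸ ha')
    intro a ha t ht
    have hσa : σ ⟨a, hAM ha⟩ = 1 := by
      rw [← mem_bot, ← hbot]
      exact ⟨⟨a, hAM ha⟩, ha, rfl⟩
    have ht' : a * t * a⁻¹ ∈ X := (mem_normalizer_iff.mp (hPX (hAP ha)) t).mp ht
    have h1 := hσ ⟨a, hAM ha⟩ ⟨t, ht⟩ ⟨_, ht'⟩ rfl
    rw [hσa, MulAut.one_apply] at h1
    have h2 : (⟨t, ht⟩ : X)⁻¹ * ⟨_, ht'⟩ ∈ f.ker := MonoidHom.mem_ker.mpr (by rw [map_mul, map_inv, ← h1, inv_mul_cancel])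
    rw [hfk] at h2
    exact h2
  -- hence on the Frattini quotient
  have hcent : ∀ a ∈ A, ∀ t ∈ X, t⁻¹ * (a * t * a⁻¹) ∈ Z := by
    intro a ha t ht
    have huX : t⁻¹ * (a * t * a⁻¹) ∈ X := X.mul_mem (inv_mem ht) ((mem_normalizer_iff.mp (hPX (hAP ha)) t).mp ht)
    refine ⟨⟨_, huX⟩, mem_center_iff.mpr fun u => Subtype.ext ?_, rfl⟩
    show (u : Γ) * _ = _ * (u : Γ)
    rw [← commutatorElement_eq_one_iff_mul_comm]
    apply hρ
    rw [← LinearMap.eqLocus_eq_top, eq_top_iff, ← htop]
    refine iSup_le fun ω => ?_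
    rcases eq_or_ne (chEigen ρ Z ω) ⊥ with h0 | hW
    · rw [h0]; exact bot_le
    intro v hv
    show ρ ⁅(u : Γ), _⁆ v = ρ 1 v
    rw [(mem_chEigen ρ).mp hv _ (hcomm _ huX u u.2), (mem_rad.mp (hsec hW a ha t ht)).2 u u.2, one_smul, map_one,
      Module.End.one_apply]
  have hXZ : X ≤ Z := by
    rw [← hXA, commutator_le]
    intro t ht a ha
    have h := hcent a ha t⁻¹ (inv_mem ht)
    rw [inv_inv] at h
    simpa only [commutatorElement_def, mul_assoc] using h
  refine habel ⟨⟨fun a d => Subtype.ext ?_⟩⟩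
  exact hS.central d (hXZ d.2) a a.2

/-- A self-normalized abelian subgroup of a Sylow `p`-subgroup in its derived subgroup lies in the second
term. -/
theorem derived_le_uSer_two {G : Type u} [Group G] [Finite G] {p : ℕ} [hp : Fact p.Prime] (hp2 : p ≠ 2)
    (hG : Cfsg.IsPSolvable p G) {d : ℕ} (P : Sylow p G) (hd : derivedSeries ↥(P : Subgroup G) (d + 1) = ⊥) :
    (derivedSeries ↥(P : Subgroup G) d).map (P : Subgroup G).subtype ≤ uSer p G 2 := by
  classical
  obtain ⟨Γ, V, _, _, _, _, q, ι, χ, hq, hι, hχ, hV, -, hker, hO, -⟩ := exists_action (p := p) hG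
  obtain ⟨W, _, _, _, L, hL, -, -, hLl⟩ := HHExc.exists_linearization (p := p) hV
  haveI : CharP (AlgebraicClosure (ZMod p)) p :=
    charP_of_injective_algebraMap (algebraMap (ZMod p) (AlgebraicClosure (ZMod p))).injective p
  set T := (P : Subgroup G).map q with hT
  let qT : ↥(P : Subgroup G) →* Γ := q.comp (P : Subgroup G).subtype
  set A := (derivedSeries ↥(P : Subgroup G) d).map qT with hA
  have hιT : ∀ w, ι w ∈ T := by
    haveI : ι.range.Normal := ⟨fun y ⟨w, hw⟩ g => ⟨χ g w, by rw [hχ, hw]⟩⟩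
    have hVp : IsPGroup p ι.range := by
      rintro ⟨_, w, rfl⟩
      exact ⟨1, Subtype.ext (by show ι w ^ p ^ 1 = 1; rw [pow_one, ← map_pow, hV, map_one])⟩
    exact fun w => IsPGroup.le_sylow_of_normal (p := p) hVp (P.mapSurjective hq) ⟨w, rfl⟩
  have hAnc : ∀ t ∈ T, ∀ a ∈ A, t * a * t⁻¹ ∈ A := by
    rintro _ ⟨t, ht, rfl⟩ _ ⟨a, ha, rfl⟩
    exact ⟨⟨t, ht⟩ * a * (⟨t, ht⟩ : ↥(P : Subgroup G))⁻¹, (derivedSeries_normal _ _).conj_mem a ha _, by simp [qT]⟩
  have hAc : ∀ a ∈ A, ∀ b ∈ A, a * b = b * a := by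
    rintro _ ⟨a, ha, rfl⟩ _ ⟨b, hb, rfl⟩
    have h := commutator_mem_commutator (H₁ := derivedSeries ↥(P : Subgroup G) d) (H₂ := derivedSeries ↥(P : Subgroup G) d) ha hb
    rw [← derivedSeries_succ, hd, mem_bot, commutatorElement_eq_one_iff_mul_comm] at h
    rw [← map_mul, ← map_mul, h]
  -- `⁅v, t⁆`
  have hdiv : ∀ (t : Γ) (w : V), ι (χ t w / w) = t * ι w * t⁻¹ * (ι w)⁻¹ := fun t w => by
    rw [map_div, hχ, div_eq_mul_inv]
  have hsub : ∀ w, ∀ a ∈ A, ι (χ a w / w) ∈ A := fun w a ha => by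
    rw [hdiv, mul_assoc, mul_assoc]
    refine A.mul_mem ha ?_
    rw [← mul_assoc]
    exact hAnc _ (hιT w) _ (inv_mem ha)
  have hquad : ∀ a ∈ A, (L (χ a) - 1) * (L (χ a) - 1) = 0 := by
    intro a ha
    have h := hLl [χ a, χ a] fun w => by
      show χ a (χ a w / w) / (χ a w / w) = 1
      refine hι ?_
      rw [map_one, hdiv, hAc a ha _ (hsub w a ha), mul_inv_cancel_right, mul_inv_cancel]
    simpa using h
  set ψ := χ.comp q
  have hAker : ∀ a ∈ A, χ a = 1 := by
    let f := ψ.rangeRestrict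
    have hf : Function.Surjective f := ψ.rangeRestrict_surjective
    let ρ := L.comp ψ.range.subtype
    have hρ : Function.Injective ρ := hL.comp ψ.range.subtype_injective
    have hHs := isPSolvable_map hG f hf
    set A' := (derivedSeries ↥(P : Subgroup G) d).map (f.comp (P : Subgroup G).subtype)
    have hmem : ∀ a' ∈ A', ∃ a ∈ A, ((a' : ψ.range) : MulAut V) = χ a := by
      rintro _ ⟨a, ha, rfl⟩
      exact ⟨q (a : G), ⟨a, ha, rfl⟩, rfl⟩
    have hA'q : ∀ a ∈ A', (ρ a - 1) ^ 2 = 0 := fun a ha => by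
      obtain ⟨a0, ha0, e⟩ := hmem a ha
      show (L ((a : ψ.range) : MulAut V) - 1) ^ 2 = 0
      rw [e, sq]; exact hquad a0 ha0
    have hA'p : ∀ a ∈ A', a ^ p = 1 := fun a ha => by
      refine hρ ?_
      rcases subsingleton_or_nontrivial W with hW | hW
      · exact LinearMap.ext fun y => Subsingleton.elim _ _
      haveI : CharP (Module.End (AlgebraicClosure (ZMod p)) W) p :=
        charP_of_injective_algebraMap (algebraMap (AlgebraicClosure (ZMod p)) _).injective p
      have h1 : (ρ a - 1) ^ p = 0 := by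
        obtain ⟨j, hj⟩ : ∃ j, p = j + 2 := ⟨p - 2, by have := hp.out.two_le; omega⟩
        calc (ρ a - 1) ^ p = (ρ a - 1) ^ (j + 2) := congrArg _ hj
          _ = 0 := by rw [pow_add, hA'q a ha, mul_zero]
      rw [sub_pow_char_of_commute (p := p) (h := Commute.one_right _), one_pow, sub_eq_zero] at h1
      rw [map_pow, map_one, h1]
    suffices hA'1 : A' = ⊥ by
      rintro _ ⟨a, ha, rfl⟩
      have h : (f.comp (P : Subgroup G).subtype) a ∈ A' := ⟨a, ha, rfl⟩
      rw [hA'1, mem_bot] at h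
      exact congrArg Subtype.val h
    rw [eq_bot_iff]
    intro a ha
    rw [mem_bot]
    by_cases hp3 : 3 < p
    · have h1 := pow_eq_one_of_norm hp2 hHs hO (ρ := ρ) hρ (h := a) (m := 0)
        (by rw [zero_add, pow_one]; exact hA'p a ha) (hA'q a ha) (by rw [zero_add, pow_one]; omega)
        (Or.inr (Or.inr (by rw [zero_add, pow_one, pow_zero]; omega)))
      rwa [pow_zero, pow_one] at h1
    obtain rfl : p = 3 := by have := hp.out.two_le; omega
    -- `p = 3`
    set C := Cfsg.pPrimeCore 3 ψ.range with hC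
    haveI : C.Normal := pPrimeCore_isNormal
    set T' := (P : Subgroup G).map f
    have hT' : IsPGroup 3 T' := P.isPGroup'.map _
    have hA'T : A' ≤ T' := by
      rintro _ ⟨b, -, rfl⟩
      exact ⟨b, b.2, rfl⟩
    have hA'n : T' ≤ normalizer (A' : Set ψ.range) := by
      intro t ht
      haveI : ((derivedSeries ↥(P : Subgroup G) d)).Normal := derivedSeries_normal _ _
      have hle := le_normalizer_map (f.comp (P : Subgroup G).subtype) (H := derivedSeries ↥(P : Subgroup G) d)
      obtain ⟨t', ht', rfl⟩ := ht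
      exact hle ⟨⟨t', ht'⟩, by rw [normalizer_eq_top]; exact mem_top _, rfl⟩
    have hkill : ⁅C, A'⁆ = ⊥ := by
      rw [commutator_eq_bot_iff_le_centralizer]
      have hcop : (Nat.card T').Coprime (Nat.card C) := by
        obtain ⟨e, he⟩ := hT'.exists_card_eq
        rw [he]
        exact (hp.out.coprime_iff_not_dvd.mpr pPrimeCore_not_dvd).pow_left e
      haveI := hT'.isNilpotent
      refine le_trans (le_of_forall_sylow (K := C) inf_le_left fun r hr => ?_) inf_le_right
      obtain ⟨X, hX, hTX⟩ := exists_invariant_sylow T' C (by rw [normalizer_eq_top]; exact le_top) hcop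
        (Or.inl inferInstance) r
      refine ⟨X, hX, le_inf hX.1 ?_⟩
      rw [← commutator_eq_bot_iff_le_centralizer]
      by_cases hr2 : r = 2
      · subst hr2
        rcases Nat.eq_zero_or_pos d with rfl | hdpos
        · -- an abelian Sylow subgroup centralizes the module
          rw [commutator_eq_bot_iff_le_centralizer]
          intro t _
          refine mem_centralizer_iff.mpr fun b hb => ?_
          obtain ⟨a0, ha0, e⟩ := hmem b hb
          have hb1 : b = 1 := Subtype.ext (e.trans (MulEquiv.ext fun w => hι (by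
            rw [hχ]
            show a0 * ι w * a0⁻¹ = ι w
            rw [mul_inv_eq_iff_eq_mul]
            refine hAc a0 ha0 _ ?_
            obtain ⟨g, hg, hge⟩ := hιT w
            exact ⟨⟨g, hg⟩, by rw [derivedSeries_zero]; exact mem_top _, hge⟩)))
          rw [hb1, one_mul, mul_one]
        obtain ⟨d', rfl⟩ : ∃ d', d = d' + 1 := ⟨d - 1, by omega⟩
        set B' := (derivedSeries ↥(P : Subgroup G) d').map (f.comp (P : Subgroup G).subtype)
        have hB'T : B' ≤ T' := by
          rintro _ ⟨b, -, rfl⟩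
          exact ⟨b, b.2, rfl⟩
        refine quadratic_centralizes_two hρ hT' hX.2.1 hTX hA'T hB'T hA'n
          ⟨⟨fun x y => Subtype.ext ?_⟩⟩ hA'p ?_ hA'q fun a' ha' b hb => ?_
        · obtain ⟨x0, hx0, ex⟩ := x.2
          obtain ⟨y0, hy0, ey⟩ := y.2
          show (x : ψ.range) * y = y * x
          have h := commutator_mem_commutator (H₁ := derivedSeries ↥(P : Subgroup G) (d' + 1))
            (H₂ := derivedSeries ↥(P : Subgroup G) (d' + 1)) hx0 hy0
          rw [← derivedSeries_succ, hd, mem_bot, commutatorElement_eq_one_iff_mul_comm] at h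
          rw [← ex, ← ey, ← map_mul, ← map_mul, h]
        · rw [← map_commutator, ← derivedSeries_succ]
        · -- `[V, B, B] ≤ A`
          obtain ⟨a0, ha0, ea⟩ := hmem a' ha'
          obtain ⟨b1, hb1, rfl⟩ := hb
          show (L ((a' : ψ.range) : MulAut V) - 1) * (L _ - 1) * (L _ - 1) = 0
          rw [ea]
          change (L (χ a0) - 1) * (L (χ (q (b1 : G))) - 1) * (L (χ (q (b1 : G))) - 1) = 0
          have h := hLl [χ a0, χ (q (b1 : G)), χ (q (b1 : G))] fun w => by
            show χ a0 (χ (q (b1 : G)) (χ (q (b1 : G)) w / w) / (χ (q (b1 : G)) w / w)) /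
              (χ (q (b1 : G)) (χ (q (b1 : G)) w / w) / (χ (q (b1 : G)) w / w)) = 1
            set B := (derivedSeries ↥(P : Subgroup G) d').map qT
            have hBn : ∀ t ∈ T, ∀ c ∈ B, t * c * t⁻¹ ∈ B := by
              rintro _ ⟨t, ht, rfl⟩ _ ⟨c, hc, rfl⟩
              exact ⟨⟨t, ht⟩ * c * (⟨t, ht⟩ : ↥(P : Subgroup G))⁻¹, (derivedSeries_normal _ _).conj_mem c hc _, by simp [qT]⟩
            have hyB : q (b1 : G) ∈ B := ⟨b1, hb1, rfl⟩
            set w1 := χ (q (b1 : G)) w / w
            have hw1 : ι w1 ∈ B := by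
              rw [hdiv, mul_assoc, mul_assoc]
              refine B.mul_mem hyB ?_
              rw [← mul_assoc]
              exact hBn _ (hιT w) _ (inv_mem hyB)
            have hw2 : ι (χ (q (b1 : G)) w1 / w1) ∈ A := by
              rw [hdiv, hA, derivedSeries_succ, map_commutator]
              have h := commutator_mem_commutator hyB hw1
              rwa [commutatorElement_def] at h
            refine hι ?_
            rw [map_one, hdiv, hAc a0 ha0 _ hw2, mul_inv_cancel_right, mul_inv_cancel]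
          simpa [mul_assoc] using h
      by_cases hr3 : r = 3
      · subst hr3
        obtain ⟨j, hj⟩ := hX.2.1.exists_card_eq
        rcases j.eq_zero_or_pos with rfl | hj0
        · rw [card_eq_one.mp (by rw [hj, pow_zero] : Nat.card X = 1), commutator_bot_left]
        · exact absurd ((hj ▸ dvd_pow_self 3 hj0.ne' : 3 ∣ Nat.card X).trans (card_dvd_of_le hX.1))
            pPrimeCore_not_dvd
      rw [commutator_eq_bot_iff_le_centralizer]
      intro t ht
      refine mem_centralizer_iff.mpr fun b hb => ?_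
      have h := HHExc.commute_of_injective hp2 (Ne.symm hr3) hρ hX.2.1 (hTX (hA'T hb)) (m := 0)
        (by rw [zero_add, pow_one]; exact hA'p b hb) (hA'q b hb) (by norm_num) (Or.inr (Or.inl hr2)) t ht
      rw [pow_zero, pow_one] at h
      exact mul_inv_eq_iff_eq_mul.mp h
    have haC : a ∈ C := Block.centralizer_pPrimeCore_le hHs hO (mem_centralizer_iff.mpr fun w hw =>
      (mem_centralizer_iff.mp (commutator_eq_bot_iff_le_centralizer.mp hkill hw) a ha).symm)
    have h1 : orderOf a ∣ 3 := orderOf_dvd_of_pow_eq_one (hA'p a ha)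
    have h2 := Nat.dvd_gcd h1 (orderOf_dvd_natCard _ haC)
    rw [(hp.out.coprime_iff_not_dvd.mpr pPrimeCore_not_dvd : (3 : ℕ).Coprime (Nat.card C))] at h2
    exact orderOf_eq_one_iff.mp (Nat.dvd_one.mp h2)
  rintro _ ⟨a, ha, rfl⟩
  exact hker (hAker _ ⟨a, ha, rfl⟩)

theorem pLengthLE_derived : ∀ (d : ℕ) (G : Type u) [Group G] [Finite G] (p : ℕ) [Fact p.Prime], p ≠ 2 →
    Cfsg.IsPSolvable p G → (∀ P : Sylow p G, derivedSeries ↥(P : Subgroup G) d = ⊥) → Cfsg.PLengthLE p d G
  | 0, G, _, _, p, hp, _, _, hd => pLengthLE_zero_of_exponent fun P x hx => by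
    have h := hd P
    rw [derivedSeries_zero] at h
    have : (⟨x, hx⟩ : ↥(P : Subgroup G)) ∈ (⊥ : Subgroup ↥(P : Subgroup G)) := h ▸ mem_top _
    rw [pow_zero, pow_one]
    exact congrArg Subtype.val (mem_bot.mp this)
  | d + 1, G, _, _, p, hp, hp2, hG, hd => by
    haveI : (uSer p G 2).Normal := (Cfsg.upperPSeries p G 2).2
    have hf : Function.Surjective (QuotientGroup.mk' (uSer p G 2)) := QuotientGroup.mk'_surjective _
    rw [Nat.add_comm d 1]
    refine pLengthLE_extension (uSer p G 2) (a := 1) (uSer_mono (by omega))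
      (pLengthLE_derived d _ p hp2 (isPSolvable_map hG _ hf) fun P' => ?_)
    obtain ⟨P, rfl⟩ := Sylow.mapSurjective_surjective hf p P'
    have hle := derived_le_uSer_two hp2 hG P (hd P)
    let g := (QuotientGroup.mk' (uSer p G 2)).subgroupMap (P : Subgroup G)
    have hg : Function.Surjective g := (QuotientGroup.mk' (uSer p G 2)).subgroupMap_surjective _
    show derivedSeries ↥((P : Subgroup G).map (QuotientGroup.mk' (uSer p G 2))) d = ⊥
    rw [← map_derivedSeries_eq hg d, Subgroup.map_eq_bot_iff]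
    intro a ha
    rw [MonoidHom.mem_ker]
    exact Subtype.ext ((QuotientGroup.eq_one_iff (a : G)).mpr (hle ⟨a, ha, rfl⟩))

end Cfsg.Agent.Grp.HHP
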