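import Mathlib
import Cfsg.Agent.Lib.Grp.HallSystem

/-!
The Hall subgroups of a complement system, one for each set of primes, permute pairwise.
-/

namespace Cfsg.Agent.Grp.HallSys

open scoped Pointwise
open Cfsg

universe u

variable {G : Type u} [Group G] [Finite G]

/-- The primes dividing the order. -/
noncomputable def primesOf (G : Type u) [Group G] : Finset Nat.Primes :=
  (Nat.card G).primeFactors.subtype Nat.Prime

open Classical in
/-- The Hall subgroup for the set of primes `A`. -/
noncomputable def part (K : Nat.Primes → Subgroup G) (A : Finset Nat.Primes) : Subgroup G :=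
  (primesOf G \ A).inf K

theorem prod_primesOf : ∏ q ∈ primesOf G, (q : ℕ) ^ (Nat.card G).factorization q = Nat.card G := by
  calc (∏ q ∈ primesOf G, (q : ℕ) ^ (Nat.card G).factorization q)
        = ∏ q ∈ (Nat.card G).primeFactors.filter Nat.Prime, q ^ (Nat.card G).factorization q := by
        rw [primesOf, ← Finset.subtype_map, Finset.prod_map]; rfl
    _ = Nat.card G := by
        rw [Finset.filter_true_of_mem fun q hq => (Nat.mem_primeFactors.1 hq).1]
        conv_rhs => rw [← Nat.prod_factorization_pow_eq_self (Nat.card_pos (α := G)).ne']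
        rfl

variable {K : Nat.Primes → Subgroup G} (hK : IsComplementSystem K)
include hK

theorem index_inf (B : Finset Nat.Primes) :
    (B.inf K).index = ∏ q ∈ B, (q : ℕ) ^ (Nat.card G).factorization q := by
  classical
  induction B using Finset.induction_on with
  | empty => simp
  | insert s B hs ih =>
    rw [Finset.inf_insert, Finset.prod_insert hs, ← hK s, ← ih]
    refine HallConv.index_inf_of_coprime ?_
    rw [ih, hK s]
    exact Nat.Coprime.prod_right fun q hq => Nat.coprime_pow_primes _ _ s.2 q.2 fun e => hs (Subtype.ext e ▸ hq)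

open Classical in
theorem card_part (A : Finset Nat.Primes) :
    Nat.card (part K A) = ∏ q ∈ A, (q : ℕ) ^ (Nat.card G).factorization q := by
  have h1 := (part K A).card_mul_index
  rw [part, index_inf hK] at h1
  refine Nat.eq_of_mul_eq_mul_right (Finset.prod_pos fun q _ => pow_pos q.2.pos _) (h1.trans ?_)
  rw [← Finset.prod_filter_of_ne (p := fun q => q ∈ primesOf G) (s := A) (fun q _ hq => by
    by_contra hqF
    refine hq ?_
    rw [Nat.factorization_eq_zero_of_not_dvd fun hd => hqF (Finset.mem_subtype.mpr
      (Nat.mem_primeFactors.mpr ⟨q.2, hd, Nat.card_pos.ne'⟩)), pow_zero])]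
  rw [show A.filter (fun q => q ∈ primesOf G) = primesOf G ∩ A by rw [Finset.inter_comm]; exact Finset.filter_mem_eq_inter,
    ← Finset.prod_union (Finset.disjoint_left.mpr fun q hq hq' => (Finset.mem_sdiff.mp hq').2 (Finset.mem_inter.mp hq).2),
    Finset.union_comm, Finset.sdiff_union_inter, prod_primesOf]

open Classical in
theorem part_mul_part (A B : Finset Nat.Primes) :
    (part K A : Set G) * (part K B : Set G) = (part K (A ∪ B) : Set G) := by
  have hmono : ∀ C, C ⊆ A ∪ B → part K C ≤ part K (A ∪ B) := fun C hC =>
    Finset.inf_mono (Finset.sdiff_subset_sdiff (Finset.Subset.refl _) hC)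
  have ha := hmono A Finset.subset_union_left
  have hb := hmono B Finset.subset_union_right
  refine Set.Subset.antisymm ?_ fun g hg => ?_
  · rintro _ ⟨x, hx, y, hy, rfl⟩; exact mul_mem (ha hx) (hb hy)
  have hco : ((part K B).subgroupOf (part K (A ∪ B))).index.Coprime ((part K A).subgroupOf (part K (A ∪ B))).index := by
    have h : ∀ C, C ⊆ A ∪ B → ((part K C).subgroupOf (part K (A ∪ B))).index
        = ∏ q ∈ (A ∪ B) \ C, (q : ℕ) ^ (Nat.card G).factorization q := by
      intro C hC
      refine Nat.eq_of_mul_eq_mul_left (Nat.card_pos (α := part K C)) ((card_mul_relIndex (hmono C hC)).trans ?_)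
      rw [card_part hK, card_part hK, mul_comm, Finset.prod_sdiff hC]
    rw [h B Finset.subset_union_right, h A Finset.subset_union_left]
    refine Nat.Coprime.prod_left fun q hq => Nat.Coprime.prod_right fun r hr => Nat.coprime_pow_primes _ _ q.2 r.2 ?_
    intro e
    obtain ⟨hq1, hq2⟩ := Finset.mem_sdiff.mp hq
    obtain ⟨hr1, hr2⟩ := Finset.mem_sdiff.mp hr
    rw [Subtype.ext e] at hq2
    rcases Finset.mem_union.mp hr1 with h | h
    · exact hr2 h
    · exact hq2 h
  obtain ⟨k, hk, x, hx, e⟩ := HallConv.exists_mul_of_coprime hco ⟨g, hg⟩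
  exact ⟨k, hk, x, hx, (congrArg Subtype.val e).symm⟩

theorem exists_conj_part [Group.IsSolvable G] {A : Subgroup G} (hA : (Nat.card A).Coprime A.index) :
    ∃ (C : Finset Nat.Primes) (g : G), MulAut.conj g • part K C = A := by
  classical
  refine ⟨primesOf A, ?_⟩
  have hc : Nat.card (part K (primesOf A)) = Nat.card A := by
    rw [card_part hK]
    refine Eq.trans (Finset.prod_congr rfl fun q hq => ?_) (prod_primesOf (G := A))
    have hd := (Nat.mem_primeFactors.mp (Finset.mem_subtype.mp hq)).2.1
    have h0 : A.index.factorization q = 0 := Nat.factorization_eq_zero_of_not_dvd fun h =>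
      q.2.ne_one (Nat.eq_one_of_dvd_coprimes hA hd h)
    rw [← factorization_card_add A q, h0, add_zero]
  exact hall_conj (H := part K _) (K := A) A.card_mul_index.symm hA hc rfl

end Cfsg.Agent.Grp.HallSys
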