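import Cfsg.Agent.Lib.Grp.InvolTransitive

/-!
The critical subgroup supplies the quadratic space; Thompson's normal Sylow `2`-subgroup theorem.
-/

set_option autoImplicit false
set_option linter.unusedSectionVars false
set_option linter.style.haveILetI false

namespace Cfsg.Agent.Grp.InvTrans

open scoped commutatorElement

variable {G : Type*} [Group G] [Finite G]

/-- Solvable, trivial odd core, all involutions conjugate, at least two: normal Sylow `2`-subgroup. -/
theorem sylow_eq_pCore [Group.IsSolvable G] (S : Sylow 2 G) (hcore : Cfsg.pPrimeCore 2 G = ⊥)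
    (htwo : ∃ a b : G, a ≠ b ∧ a ≠ 1 ∧ a * a = 1 ∧ b ≠ 1 ∧ b * b = 1)
    (hconj : ∀ a b : G, a ≠ 1 → a * a = 1 → b ≠ 1 → b * b = 1 → IsConj a b) :
    (S : Subgroup G) = Cfsg.pCore 2 G := by
  classical
  refine le_antisymm ?_ (Grp.pCore_le_sylow S)
  set Q := Cfsg.pCore 2 G with hQdef
  have hQn : Q.Normal := Grp.pCore_isNormal
  have hQp : IsPGroup 2 Q := Grp.pCore_isPGroup
  have hCQ : Subgroup.centralizer (Q : Set G) ≤ Q :=
    Fus.centralizer_pCore_le_of_solvable hcore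
  obtain ⟨a0, b0, hab, ha0, ha0', hb0, hb0'⟩ := htwo
  haveI : Nontrivial ↥Q := by
    rw [Subgroup.nontrivial_iff_ne_bot]
    intro e
    refine ha0 (Subgroup.mem_bot.1 (e ▸ hCQ (Subgroup.mem_centralizer_iff.2 fun y hy => ?_)))
    rw [e] at hy
    rw [Subgroup.mem_bot.1 hy, one_mul, mul_one]
  set Z := Q ⊓ Subgroup.centralizer (Q : Set G)
  have hZn : Z.Normal := inferInstance
  obtain ⟨z, hzZ, hz1, hzz⟩ : ∃ z ∈ Z, z ≠ 1 ∧ z * z = 1 := by
    haveI := hQp.center_nontrivial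
    have hd : 2 ∣ Nat.card (Subgroup.center ↥Q) := by
      obtain ⟨k, hk⟩ := IsPGroup.iff_card.1 (hQp.to_subgroup (Subgroup.center _))
      have h1 := Finite.one_lt_card (α := Subgroup.center ↥Q)
      rw [hk] at h1 ⊢
      exact dvd_pow_self 2 (fun e => by rw [e] at h1; exact lt_irrefl _ h1)
    obtain ⟨⟨⟨z, hz⟩, hcen⟩, hord⟩ := exists_prime_orderOf_dvd_card' 2 hd
    rw [← Subgroup.orderOf_coe, ← Subgroup.orderOf_coe] at hord
    change orderOf z = 2 at hord
    refine ⟨z, ⟨hz, Subgroup.mem_centralizer_iff.2 fun q hq =>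
      congrArg Subtype.val (Subgroup.mem_center_iff.1 hcen ⟨q, hq⟩)⟩, ?_, ?_⟩
    · intro e; rw [e, orderOf_one] at hord; norm_num at hord
    · rw [← pow_two, ← hord]; exact pow_orderOf_eq_one z
  have hinvZ : ∀ x : G, x * x = 1 → x ∈ Z := by
    intro x hx
    by_cases hx1 : x = 1
    · rw [hx1]; exact one_mem _
    obtain ⟨g, rfl⟩ := isConj_iff.1 (hconj z x hz1 hzz hx1 hx)
    exact hZn.conj_mem z hzZ g
  have hZcomm : ∀ {a b : G}, a ∈ Z → b ∈ Q → Commute a b := fun {a b} ha hb =>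
    (Subgroup.mem_centralizer_iff.1 ha.2 b hb).symm
  let E : Subgroup G :=
    { carrier := {x | x * x = 1}
      one_mem' := one_mul 1
      mul_mem' := fun {a b} (ha : a * a = 1) (hb : b * b = 1) => by
        have hc := (hZcomm (hinvZ a ha) (hinvZ b hb).1).eq
        show a * b * (a * b) = 1
        rw [show a * b * (a * b) = a * (b * a) * b by group, ← hc,
          show a * (a * b) * b = a * a * (b * b) by group, ha, hb, one_mul]
      inv_mem' := fun {a} (ha : a * a = 1) => by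
        show a⁻¹ * a⁻¹ = 1
        rw [← mul_inv_rev, ha, inv_one] }
  haveI hEn : E.Normal := ⟨fun x (hx : x * x = 1) g => by
    show g * x * g⁻¹ * (g * x * g⁻¹) = 1
    rw [show g * x * g⁻¹ * (g * x * g⁻¹) = g * (x * x) * g⁻¹ by group, hx, mul_one, mul_inv_cancel]⟩
  have hEZ : E ≤ Z := fun x hx => hinvZ x hx
  -- the critical subgroup
  haveI : Fact (Nat.Prime 2) := ⟨Nat.prime_two⟩
  obtain ⟨H0, hH0c, hH0comm, hH0sq, hH0C⟩ := Invol.exists_critical hQp
  set H := H0.map Q.subtype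
  haveI := hQn
  haveI := hH0c
  have hHn : H.Normal := inferInstance
  have hHQ : H ≤ Q := Subgroup.map_subtype_le _
  have hHsq : ∀ a ∈ H, a * a ∈ H ∧ ∀ b ∈ H, Commute (a * a) b := by
    rintro _ ⟨a, ha, rfl⟩
    refine ⟨mul_mem (Subgroup.mem_map_of_mem _ ha) (Subgroup.mem_map_of_mem _ ha), ?_⟩
    rintro _ ⟨b, hb, rfl⟩
    have h1 := (hH0sq a ha).2
    rw [pow_two] at h1
    exact congrArg Subtype.val (Subgroup.mem_centralizer_iff.1 h1 b hb).symm
  have hHcomm : ∀ a ∈ H, ∀ b ∈ H, ⁅a, b⁆ ∈ H ∧ ∀ c ∈ H, Commute ⁅a, b⁆ c := by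
    rintro _ ⟨a, ha, rfl⟩ _ ⟨b, hb, rfl⟩
    have h1 := hH0comm (Subgroup.commutator_mem_commutator ha (Subgroup.mem_top b))
    rw [← map_commutatorElement]
    refine ⟨Subgroup.mem_map_of_mem _ h1.1, ?_⟩
    rintro _ ⟨c, hc, rfl⟩
    exact congrArg Subtype.val (Subgroup.mem_centralizer_iff.1 h1.2 c hc).symm
  have hHC : ∀ q ∈ Q, (∀ b ∈ H, Commute q b) → q ∈ H := fun q hq hc =>
    ⟨⟨q, hq⟩, hH0C (Subgroup.mem_centralizer_iff.2 fun b hb =>
      Subtype.ext (hc _ (Subgroup.mem_map_of_mem _ hb)).eq.symm), rfl⟩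
  have hEH : E ≤ H := fun x hx => hHC x (hEZ hx).1 fun b hb => hZcomm (hEZ hx) (hHQ hb)
  -- commutators of elements with central squares are involutions
  have hcE : ∀ a ∈ H, ∀ b ∈ H, Commute (a * a) b → ⁅a, b⁆ ∈ E := by
    intro a ha b hb hab2
    obtain ⟨-, hc⟩ := hHcomm a ha b hb
    show ⁅a, b⁆ * ⁅a, b⁆ = 1
    have e : ⁅a * a, b⁆ = a * ⁅a, b⁆ * a⁻¹ * ⁅a, b⁆ := by simp only [commutatorElement_def]; group
    rw [commutatorElement_eq_one_iff_mul_comm.2 hab2.eq, ← (hc a ha).eq, mul_inv_cancel_right] at e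
    exact e.symm
  let K : Subgroup G :=
    { carrier := {x | x ∈ H ∧ x * x ∈ E}
      one_mem' := ⟨one_mem _, by rw [one_mul]; exact one_mem _⟩
      mul_mem' := fun {a b} ha hb => ⟨mul_mem ha.1 hb.1, by
        obtain ⟨hcH, hc⟩ := hHcomm b hb.1 a ha.1
        have hce := hcE b hb.1 a ha.1 ((hHsq b hb.1).2 a ha.1)
        have e : a * b * (a * b) = a * (⁅b, a⁆ * a * b) * b := by
          simp only [commutatorElement_def]; group
        rw [e, (hc a ha.1).eq, show a * (a * ⁅b, a⁆ * b) * b = a * a * (⁅b, a⁆ * b) * b by group,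
          (hc b hb.1).eq, show a * a * (b * ⁅b, a⁆) * b = a * a * b * (⁅b, a⁆ * b) by group,
          (hc b hb.1).eq, show a * a * b * (b * ⁅b, a⁆) = a * a * (b * b) * ⁅b, a⁆ by group]
        exact mul_mem (mul_mem ha.2 hb.2) hce⟩
      inv_mem' := fun {a} ha => ⟨inv_mem ha.1, by rw [← mul_inv_rev]; exact inv_mem ha.2⟩ }
  have hKn : K.Normal := ⟨fun x hx g => ⟨hHn.conj_mem x hx.1 g, by
    rw [show g * x * g⁻¹ * (g * x * g⁻¹) = g * (x * x) * g⁻¹ by group]
    exact hEn.conj_mem _ hx.2 g⟩⟩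
  have hS : Sq E K :=
    { norm := hKn
      le := fun x hx => ⟨hEH hx, by rw [show x * x = 1 from hx]; exact one_mem _⟩
      ele := fun _ he => he
      cen := fun e he v hv => hZcomm (hEZ he) (hHQ hv.1)
      sq := fun v hv => hv.2
      comm := fun v hv w hw => hcE v hv.1 w hw.1 ((hHsq v hv.1).2 w hw.1)
      inj := fun v _ hv => hv }
  refine sylow_le_pCore hS S (fun q hq => Subgroup.mem_centralizer_iff.2 fun e he =>
    (hZcomm (hEZ he) hq).eq) (fun x hx => hx) (fun a ha b hb ha1 hb1 => hconj a b ha1 ha hb1 hb)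
    ⟨a0, b0, ha0', hb0', hab, ha0, hb0⟩ ?_
  intro g ho hgK
  have hk : ∀ {x : G}, x ∈ Q → x ^ orderOf g = 1 → x = 1 := by
    intro x hx hxg
    obtain ⟨j, hj⟩ := hQp ⟨x, hx⟩
    refine orderOf_eq_one_iff.1 (Nat.eq_one_of_dvd_coprimes
      ((Nat.Coprime.pow_left j (Nat.prime_two.coprime_iff_not_dvd.2 ho.not_two_dvd_nat)))
      (orderOf_dvd_of_pow_eq_one (congrArg Subtype.val hj)) (orderOf_dvd_of_pow_eq_one hxg))
  have hpow : ∀ {v : G}, Commute g ⁅g, v⁆ → ⁅g, v⁆ ^ orderOf g = 1 := by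
    intro v hc
    have h3 : ∀ i : ℕ, g ^ i * v * (g ^ i)⁻¹ = ⁅g, v⁆ ^ i * v := by
      intro i
      induction i with
      | zero => simp
      | succ i ih =>
        have hci := (hc.pow_right i).eq
        calc g ^ (i + 1) * v * (g ^ (i + 1))⁻¹ = g * (g ^ i * v * (g ^ i)⁻¹) * g⁻¹ := by
              rw [pow_succ']; group
          _ = ⁅g, v⁆ ^ i * (g * v * g⁻¹) := by rw [ih, ← mul_assoc g, hci]; group
          _ = ⁅g, v⁆ ^ (i + 1) * v := by
              rw [pow_succ, show g * v * g⁻¹ = ⁅g, v⁆ * v by simp [commutatorElement_def], mul_assoc]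
    have h4 := h3 (orderOf g)
    rw [pow_orderOf_eq_one, one_mul, inv_one, mul_one] at h4
    exact right_eq_mul.1 h4
  -- `g` centralizes the critical subgroup
  have hgH : ∀ n v, v ∈ H → orderOf v = n → Commute g v := by
    intro n
    induction n using Nat.strong_induction_on with
    | _ n ih =>
      intro v hv hn
      by_cases hv1 : v = 1
      · rw [hv1]; exact Commute.one_right g
      obtain ⟨hv2H, hv2c⟩ := hHsq v hv
      have hlt : orderOf (v * v) < n := by
        obtain ⟨j, hj⟩ := hQp ⟨v, hHQ hv⟩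
        obtain ⟨i, -, hi⟩ := (Nat.dvd_prime_pow Nat.prime_two).1
          (orderOf_dvd_of_pow_eq_one (congrArg Subtype.val hj : v ^ 2 ^ j = 1))
        have hi0 : i ≠ 0 := fun e => hv1 (orderOf_eq_one_iff.1 (by rw [hi, e, pow_zero]))
        have h2 : (v * v) ^ (2 ^ (i - 1)) = 1 := by
          rw [← pow_two, ← pow_mul, ← pow_succ', Nat.sub_add_cancel (by omega), ← hi, pow_orderOf_eq_one]
        calc orderOf (v * v) ≤ 2 ^ (i - 1) := Nat.le_of_dvd (Nat.two_pow_pos _)
              (orderOf_dvd_of_pow_eq_one h2)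
          _ < n := by rw [← hn, hi]; exact Nat.pow_lt_pow_right (by norm_num) (by omega)
      have hg2 := ih _ hlt _ hv2H rfl
      have htH : ⁅g, v⁆ ∈ H := by
        rw [commutatorElement_def]; exact mul_mem (hHn.conj_mem v hv g) (inv_mem hv)
      have hv' : g * v * g⁻¹ ∈ H := hHn.conj_mem v hv g
      -- the square of the commutator is an involution
      have ht2 : ⁅g, v⁆ * ⁅g, v⁆ ∈ E := by
        have hsq : g * v * g⁻¹ * (g * v * g⁻¹) = v * v := by
          rw [show g * v * g⁻¹ * (g * v * g⁻¹) = g * (v * v) * g⁻¹ by group, hg2.eq,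
            mul_inv_cancel_right]
        obtain ⟨-, hc⟩ := hHcomm v⁻¹ (inv_mem hv) _ hv'
        have e : ⁅g, v⁆ * ⁅g, v⁆ = g * v * g⁻¹ * (⁅v⁻¹, g * v * g⁻¹⁆ * (g * v * g⁻¹)) * (v * v)⁻¹ := by
          simp only [commutatorElement_def]; group
        rw [e, (hc _ hv').eq, show g * v * g⁻¹ * (g * v * g⁻¹ * ⁅v⁻¹, g * v * g⁻¹⁆) * (v * v)⁻¹ =
            (g * v * g⁻¹ * (g * v * g⁻¹)) * (⁅v⁻¹, g * v * g⁻¹⁆ * (v * v)⁻¹) by group, hsq,
          (hc _ (inv_mem hv2H)).eq, mul_inv_cancel_left]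
        refine hcE _ (inv_mem hv) _ hv' ?_
        rw [← mul_inv_rev]
        exact (hv2c _ hv').inv_left
      have h1 := hk (hHQ htH) (hpow (hgK _ ⟨htH, ht2⟩))
      exact commutatorElement_eq_one_iff_mul_comm.1 h1
  -- and so the whole core
  have hgQ : ∀ q ∈ Q, Commute g q := by
    intro q hq
    have htQ : ⁅g, q⁆ ∈ Q := by
      rw [commutatorElement_def]; exact mul_mem (hQn.conj_mem q hq g) (inv_mem hq)
    have htH : ⁅g, q⁆ ∈ H := hHC _ htQ fun b hb => by
      have h1 : Commute g b := hgH _ b hb rfl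
      have h2 : Commute g (q⁻¹ * b * q) := hgH _ _ (by simpa using hHn.conj_mem b hb q⁻¹) rfl
      have h2' : g⁻¹ * b * g = b := by rw [mul_assoc, ← h1.eq, inv_mul_cancel_left]
      show ⁅g, q⁆ * b = b * ⁅g, q⁆
      calc ⁅g, q⁆ * b = g * q * (g⁻¹ * (q⁻¹ * b * q)) * q⁻¹ := by
            simp only [commutatorElement_def]; group
        _ = g * q * ((q⁻¹ * b * q) * g⁻¹) * q⁻¹ := by rw [h2.inv_left.eq]
        _ = g * b * q * g⁻¹ * q⁻¹ := by group
        _ = b * g * q * g⁻¹ * q⁻¹ := by rw [h1.eq]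
        _ = b * ⁅g, q⁆ := by simp only [commutatorElement_def]; group
    exact commutatorElement_eq_one_iff_mul_comm.1 (hk htQ (hpow (hgH _ _ htH rfl)))
  have hgQ' : g ∈ Q := hCQ (Subgroup.mem_centralizer_iff.2 fun q hq => (hgQ q hq).eq.symm)
  exact hk hgQ' (pow_orderOf_eq_one g)

end Cfsg.Agent.Grp.InvTrans

namespace Cfsg.Agent.Grp.InvTrans

open scoped commutatorElement

variable {G : Type*} [Group G] [Finite G]

/-- An abelian group with automorphisms transitive on involutions is homocyclic. -/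
theorem homocyclic_of_transitive {A : Type*} [CommGroup A] [Finite A] (hA : IsPGroup 2 A)
    (htrans : ∀ x y : A, x ≠ 1 → x ^ 2 = 1 → y ≠ 1 → y ^ 2 = 1 → ∃ φ : A ≃* A, φ x = y) :
    ∃ m r : ℕ, Nonempty (A ≃* (Fin r → Multiplicative (ZMod (2 ^ m)))) := by
  classical
  obtain ⟨ι, hι, n, hn1, ⟨e⟩⟩ := CommGroup.equiv_prod_multiplicative_zmod_of_finite A
  have hk : ∀ i, ∃ k, k ≠ 0 ∧ n i = 2 ^ k := by
    intro i
    haveI : NeZero (n i) := ⟨by have := hn1 i; omega⟩
    have hd : orderOf (Pi.mulSingle i (Multiplicative.ofAdd (1 : ZMod (n i))) :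
        (i : ι) → Multiplicative (ZMod (n i))) = n i := by
      rw [orderOf_piMulSingle, orderOf_ofAdd_eq_addOrderOf, ZMod.addOrderOf_one]
    obtain ⟨k, hk⟩ := hA (e.symm (Pi.mulSingle i (Multiplicative.ofAdd (1 : ZMod (n i)))))
    have h2 : n i ∣ 2 ^ k := by
      rw [← hd, ← MulEquiv.orderOf_eq e.symm]
      exact orderOf_dvd_of_pow_eq_one hk
    obtain ⟨j, -, hj⟩ := (Nat.dvd_prime_pow Nat.prime_two).1 h2
    refine ⟨j, fun h0 => ?_, hj⟩
    have := hn1 i
    rw [hj, h0, pow_zero] at this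
    exact lt_irrefl 1 this
  choose k hk0 hk using hk
  -- the involution in each factor, and its height
  let g : ∀ i, (i : ι) → Multiplicative (ZMod (n i)) := fun i =>
    Pi.mulSingle i (Multiplicative.ofAdd (1 : ZMod (n i)))
  have hg : ∀ i, orderOf (g i) = 2 ^ k i := fun i => by
    rw [orderOf_piMulSingle, orderOf_ofAdd_eq_addOrderOf, ZMod.addOrderOf_one, hk]
  have hle : ∀ i j, k i ≤ k j := by
    intro i j
    set x := e.symm (g i ^ 2 ^ (k i - 1))
    set y := e.symm (g j ^ 2 ^ (k j - 1))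
    have hi : ∀ i, g i ^ 2 ^ (k i - 1) ≠ 1 ∧ (g i ^ 2 ^ (k i - 1)) ^ 2 = 1 := fun i => by
      refine ⟨fun h => ?_, ?_⟩
      · have h1 := orderOf_dvd_of_pow_eq_one h
        rw [hg i] at h1
        have := Nat.pow_dvd_pow_iff_le_right (by norm_num : 1 < 2) |>.1 h1
        have := hk0 i
        omega
      · rw [← pow_mul, ← pow_succ, Nat.sub_add_cancel (Nat.one_le_iff_ne_zero.2 (hk0 i)), ← hg i,
          pow_orderOf_eq_one]
    obtain ⟨φ, hφ⟩ := htrans x y (fun h => (hi i).1 (by simpa [x] using congrArg e h))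
      (by rw [← map_pow, (hi i).2, map_one]) (fun h => (hi j).1 (by simpa [y] using congrArg e h))
      (by rw [← map_pow, (hi j).2, map_one])
    have h1 : e (φ (e.symm (g i))) ^ 2 ^ (k i - 1) = g j ^ 2 ^ (k j - 1) := by
      have := congrArg e hφ
      simp only [x, y, map_pow, MulEquiv.apply_symm_apply] at this
      exact this
    by_contra hlt
    have hc := congrFun h1 j
    rw [Pi.pow_apply, Pi.pow_apply] at hc
    set c := e (φ (e.symm (g i))) j
    have hcard : c ^ 2 ^ k j = 1 := by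
      haveI : NeZero (n j) := ⟨by have := hn1 j; omega⟩
      have h2 := pow_card_eq_one' (x := c)
      have h5 : Nat.card (Multiplicative (ZMod (n j))) = 2 ^ k j := by
        rw [Nat.card_congr Multiplicative.toAdd, Nat.card_zmod, hk]
      rwa [h5] at h2
    have hc1 : c ^ 2 ^ (k i - 1) = 1 := by
      obtain ⟨d, hd⟩ := Nat.exists_eq_add_of_le (show k j ≤ k i - 1 by omega)
      rw [hd, pow_add, pow_mul, hcard, one_pow]
    rw [hc1] at hc
    have h3 : (Multiplicative.ofAdd (1 : ZMod (n j))) ^ 2 ^ (k j - 1) = 1 := by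
      simpa [g] using hc.symm
    have h4 := orderOf_dvd_of_pow_eq_one h3
    rw [orderOf_ofAdd_eq_addOrderOf, ZMod.addOrderOf_one, hk] at h4
    have := Nat.pow_dvd_pow_iff_le_right (by norm_num : 1 < 2) |>.1 h4
    have := hk0 j
    omega
  cases isEmpty_or_nonempty ι with
  | inl h =>
    haveI : Unique ((i : ι) → Multiplicative (ZMod (n i))) := Pi.uniqueOfIsEmpty _
    haveI : Unique (Fin 0 → Multiplicative (ZMod (2 ^ 0))) := Pi.uniqueOfIsEmpty _
    exact ⟨0, 0, ⟨e.trans MulEquiv.ofUnique⟩⟩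
  | inr h =>
    obtain ⟨i0⟩ := h
    have hall : ∀ i, n i = 2 ^ k i0 := fun i => by rw [hk, le_antisymm (hle i i0) (hle i0 i)]
    let e1 : ((i : ι) → Multiplicative (ZMod (n i))) ≃* (ι → Multiplicative (ZMod (2 ^ k i0))) :=
      MulEquiv.piCongrRight fun i => AddEquiv.toMultiplicative (ZMod.ringEquivCongr (hall i)).toAddEquiv
    let e2 : (ι → Multiplicative (ZMod (2 ^ k i0))) ≃*
        (Fin (Fintype.card ι) → Multiplicative (ZMod (2 ^ k i0))) :=
      { toFun := fun f i => f ((Fintype.equivFin ι).symm i)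
        invFun := fun f i => f (Fintype.equivFin ι i)
        left_inv := fun f => funext fun i => by simp
        right_inv := fun f => funext fun i => by simp
        map_mul' := fun _ _ => rfl }
    exact ⟨k i0, Fintype.card ι, ⟨e.trans (e1.trans e2)⟩⟩

end Cfsg.Agent.Grp.InvTrans
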