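import Mathlib

/-! Iterated cores of a subgroup and its image under an involutory automorphism. -/

set_option autoImplicit false

namespace Cfsg.Agent.Grp

variable {G : Type*} [Group G]

/-- The core in `M` of a subgroup `Y`. -/
def iterCoreIn (M Y : Subgroup G) : Subgroup G := (Y.subgroupOf M).normalCore.map M.subtype

theorem coreIn_le_left (M Y : Subgroup G) : iterCoreIn M Y ≤ M := by
  rintro x ⟨y, -, rfl⟩
  exact y.2

theorem coreIn_le_right (M Y : Subgroup G) : iterCoreIn M Y ≤ Y := by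
  rintro x ⟨y, hy, rfl⟩
  exact Subgroup.normalCore_le (Y.subgroupOf M) hy

theorem coreIn_conj {M Y : Subgroup G} {m x : G} (hm : m ∈ M) (hx : x ∈ iterCoreIn M Y) :
    m * x * m⁻¹ ∈ iterCoreIn M Y := by
  obtain ⟨y, hy, rfl⟩ := hx
  exact ⟨⟨m, hm⟩ * y * ⟨m, hm⟩⁻¹, (Subgroup.normalCore_normal _).conj_mem y hy ⟨m, hm⟩, rfl⟩

theorem le_iterCoreIn {M Y X : Subgroup G} (hXM : X ≤ M) (hXY : X ≤ Y)
    (hconj : ∀ m ∈ M, ∀ x ∈ X, m * x * m⁻¹ ∈ X) : X ≤ iterCoreIn M Y := by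
  intro x hx
  refine ⟨⟨x, hXM hx⟩, fun m => ?_, rfl⟩
  exact hXY (hconj m m.2 x hx)

theorem coreIn_map (e : G ≃* G) (M Y : Subgroup G) :
    iterCoreIn (M.map e.toMonoidHom) (Y.map e.toMonoidHom) = (iterCoreIn M Y).map e.toMonoidHom := by
  refine le_antisymm (fun x hx => ?_) (le_iterCoreIn (Subgroup.map_mono (coreIn_le_left M Y))
    (Subgroup.map_mono (coreIn_le_right M Y)) ?_)
  · rw [Subgroup.mem_map_equiv]
    have key : (iterCoreIn (M.map e.toMonoidHom) (Y.map e.toMonoidHom)).map e.symm.toMonoidHom ≤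
        iterCoreIn M Y := by
      refine le_iterCoreIn ?_ ?_ ?_
      · rintro y ⟨z, hz, rfl⟩
        exact Subgroup.mem_map_equiv.1 (coreIn_le_left _ _ hz)
      · rintro y ⟨z, hz, rfl⟩
        exact Subgroup.mem_map_equiv.1 (coreIn_le_right _ _ hz)
      · rintro m hm y ⟨z, hz, rfl⟩
        exact ⟨e m * z * (e m)⁻¹, coreIn_conj ⟨m, hm, rfl⟩ hz, by simp⟩
    exact key ⟨x, hx, rfl⟩
  · rintro m ⟨a, ha, rfl⟩ x ⟨y, hy, rfl⟩
    exact ⟨a * y * a⁻¹, coreIn_conj ha hy, by simp⟩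

/-- The two descending sequences. -/
def iterCore (M₁ M₂ : Subgroup G) : ℕ → Subgroup G × Subgroup G
  | 0 => (M₁, M₂)
  | i + 1 => (iterCoreIn M₁ ((iterCore M₁ M₂ i).1 ⊓ (iterCore M₁ M₂ i).2),
      iterCoreIn M₂ ((iterCore M₁ M₂ i).1 ⊓ (iterCore M₁ M₂ i).2))

theorem iterCore_le_left (M₁ M₂ : Subgroup G) : ∀ i, (iterCore M₁ M₂ i).1 ≤ M₁
  | 0 => le_rfl
  | _ + 1 => coreIn_le_left _ _

theorem iterCore_conj (M₁ M₂ : Subgroup G) {m x : G} (hm : m ∈ M₁) : ∀ i,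
    x ∈ (iterCore M₁ M₂ i).1 → m * x * m⁻¹ ∈ (iterCore M₁ M₂ i).1
  | 0, hx => mul_mem (mul_mem hm hx) (inv_mem hm)
  | _ + 1, hx => coreIn_conj hm hx

theorem iterCore_snd {e : G ≃* G} (he : ∀ x, e (e x) = x) (M : Subgroup G) : ∀ i,
    (iterCore M (M.map e.toMonoidHom) i).2 =
      (iterCore M (M.map e.toMonoidHom) i).1.map e.toMonoidHom
  | 0 => rfl
  | i + 1 => by
    have hes : e.symm = e := MulEquiv.ext fun x => e.injective (by simp [he])
    have h : ((iterCore M (M.map e.toMonoidHom) i).1 ⊓ (iterCore M (M.map e.toMonoidHom) i).2).map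
        e.toMonoidHom =
        (iterCore M (M.map e.toMonoidHom) i).1 ⊓ (iterCore M (M.map e.toMonoidHom) i).2 := by
      rw [iterCore_snd he M i]
      ext x
      simp only [Subgroup.mem_map_equiv, Subgroup.mem_inf, hes, he]
      exact and_comm
    simp only [iterCore]
    conv_lhs => rw [← h]
    exact coreIn_map e M _

end Cfsg.Agent.Grp
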