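import Mathlib

/-! Groups with a small Jordan set (Marggraf; Wielandt 13.5), primitive and quasiprimitive.

The key step is a counting argument: if the action is `r`-transitive, every pattern of weight one on
`r + 1` points is realized by a translate of a set of fewer than half of the points. -/

set_option autoImplicit false

namespace Cfsg.Agent.Grp.JordanSet

open MulAction Equiv Equiv.Perm
open scoped Pointwise

/-! ### Arithmetic -/

theorem descFactorial_lt {a b d : ℕ} (hab : a < b) (hd : 0 < d) (hdb : d ≤ b) :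
    a.descFactorial d < b.descFactorial d := by
  by_cases hda : d ≤ a
  · induction d with
    | zero => omega
    | succ d ih =>
      rw [Nat.descFactorial_succ, Nat.descFactorial_succ]
      rcases Nat.eq_zero_or_pos d with rfl | hd0
      · simpa using hab
      · exact Nat.mul_lt_mul_of_lt_of_lt (by omega) (ih hd0 (by omega) (by omega))
  · rw [Nat.descFactorial_eq_zero_iff_lt.mpr (by omega)]
    exact Nat.pos_of_ne_zero fun h => by
      rw [Nat.descFactorial_eq_zero_iff_lt] at h; omega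

/-- Number of ordered tuples of length `k + l` with `k` prescribed entries in an `m`-set. -/
def cnt (m n k l : ℕ) : ℕ := m.descFactorial k * (n - m).descFactorial l

theorem cnt_step {m n : ℕ} (hmn : m ≤ n) (k l : ℕ) (hkl : k + l ≤ n) :
    cnt m n k (l + 1) + cnt m n (k + 1) l = (n - (k + l)) * cnt m n k l := by
  unfold cnt
  rw [Nat.descFactorial_succ, Nat.descFactorial_succ]
  by_cases hk : k ≤ m
  · by_cases hl : l ≤ n - m
    · have : n - (k + l) = (n - m - l) + (m - k) := by omega
      rw [this]; ring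
    · rw [Nat.descFactorial_eq_zero_iff_lt.mpr (show n - m < l by omega)]; simp
  · rw [Nat.descFactorial_eq_zero_iff_lt.mpr (show m < k by omega)]; simp

theorem cnt_lt {m n k₀ k j l₀ : ℕ} (hm : 2 * m < n) (hk₀ : 1 ≤ k₀) (hk₀m : k₀ ≤ m) (hk : k₀ < k)
    (hj : j ≤ 1) (hl : k₀ + l₀ = k + j) (hl₀ : l₀ ≤ n - m) :
    cnt m n k j < cnt m n k₀ l₀ := by
  unfold cnt
  obtain ⟨d, rfl⟩ : ∃ d, k = k₀ + d := ⟨k - k₀, by omega⟩
  obtain rfl : l₀ = j + d := by omega
  have h1 : m.descFactorial (k₀ + d) = (m - k₀).descFactorial d * m.descFactorial k₀ := by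
    have := Nat.descFactorial_mul_descFactorial (n := m) (k := k₀) (m := k₀ + d) (by omega)
    rw [show k₀ + d - k₀ = d by omega] at this
    exact this.symm
  have h2 : (n - m).descFactorial (j + d)
      = (n - m - j).descFactorial d * (n - m).descFactorial j := by
    have := Nat.descFactorial_mul_descFactorial (n := n - m) (k := j) (m := j + d) (by omega)
    rw [show j + d - j = d by omega] at this
    exact this.symm
  rw [h1, h2]
  have hlt : (m - k₀).descFactorial d < (n - m - j).descFactorial d :=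
    descFactorial_lt (by omega) (by omega) (by omega)
  have hp1 : 0 < m.descFactorial k₀ := Nat.pos_of_ne_zero fun h => by
    rw [Nat.descFactorial_eq_zero_iff_lt] at h; omega
  have hp2 : 0 < (n - m).descFactorial j := Nat.pos_of_ne_zero fun h => by
    rw [Nat.descFactorial_eq_zero_iff_lt] at h; omega
  have := Nat.mul_lt_mul_of_pos_left hlt (Nat.mul_pos hp1 hp2)
  calc _ = m.descFactorial k₀ * (n - m).descFactorial j * (m - k₀).descFactorial d := by ring
    _ < _ := this
    _ = _ := by ring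

/-! ### Patterns -/

variable {G Ω : Type*} [Group G] [MulAction G Ω] [Fintype Ω] [DecidableEq Ω]

theorem card_embedding_pattern {r : ℕ} (Γ : Finset Ω) (K : Finset (Fin r)) :
    Nat.card {y : Fin r ↪ Ω // ∀ i, (y i ∈ Γ ↔ i ∈ K)}
      = cnt Γ.card (Fintype.card Ω) K.card (r - K.card) := by
  classical
  let e : {y : Fin r ↪ Ω // ∀ i, (y i ∈ Γ ↔ i ∈ K)} ≃
      ({i // i ∈ K} ↪ {z // z ∈ Γ}) × ({i // i ∉ K} ↪ {z // z ∉ Γ}) :=
    { toFun := fun y =>
        (⟨fun i => ⟨y.1 i.1, (y.2 i.1).2 i.2⟩,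
          fun a b h => Subtype.ext (y.1.injective (congrArg Subtype.val h))⟩,
         ⟨fun i => ⟨y.1 i.1, fun h => i.2 ((y.2 i.1).1 h)⟩,
          fun a b h => Subtype.ext (y.1.injective (congrArg Subtype.val h))⟩)
      invFun := fun p =>
        ⟨⟨fun i => if h : i ∈ K then (p.1 ⟨i, h⟩).1 else (p.2 ⟨i, h⟩).1, fun a b hab => by
            dsimp only at hab
            by_cases ha : a ∈ K <;> by_cases hb : b ∈ K
            · rw [dif_pos ha, dif_pos hb] at hab
              exact congrArg Subtype.val (p.1.injective (Subtype.ext hab))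
            · rw [dif_pos ha, dif_neg hb] at hab
              exact absurd (hab ▸ (p.1 ⟨a, ha⟩).2) (p.2 ⟨b, hb⟩).2
            · rw [dif_neg ha, dif_pos hb] at hab
              exact absurd (hab ▸ (p.1 ⟨b, hb⟩).2) (p.2 ⟨a, ha⟩).2
            · rw [dif_neg ha, dif_neg hb] at hab
              exact congrArg Subtype.val (p.2.injective (Subtype.ext hab))⟩,
          fun i => by
            change (if h : i ∈ K then (p.1 ⟨i, h⟩).1 else (p.2 ⟨i, h⟩).1) ∈ Γ ↔ i ∈ K
            by_cases h : i ∈ K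
            · rw [dif_pos h]; exact iff_of_true (p.1 ⟨i, h⟩).2 h
            · rw [dif_neg h]; exact iff_of_false (p.2 ⟨i, h⟩).2 h⟩
      left_inv := fun y => by
        refine Subtype.ext (DFunLike.ext _ _ fun i => ?_)
        by_cases h : i ∈ K
        · exact dif_pos h
        · exact dif_neg h
      right_inv := fun p => by
        refine Prod.ext ?_ ?_
        · exact DFunLike.ext _ _ fun i => Subtype.ext (dif_pos i.2)
        · exact DFunLike.ext _ _ fun i => Subtype.ext (dif_neg i.2) }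
  rw [Nat.card_congr e, Nat.card_eq_fintype_card, Fintype.card_prod, Fintype.card_embedding_eq,
    Fintype.card_embedding_eq]
  simp [cnt, Fintype.card_subtype_compl]

variable [Finite G]

/-- In a transitive action the preimages of a predicate are counted by the stabilizer. -/
theorem card_smul_mem {Y : Type*} [Finite Y] [MulAction G Y] [IsPretransitive G Y] (x : Y)
    (P : Y → Prop) :
    Nat.card {g : G // P (g • x)} = Nat.card (stabilizer G x) * Nat.card {y : Y // P y} := by
  classical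
  choose s hs using fun y : Y => exists_smul_eq G x y
  rw [mul_comm, ← Nat.card_prod]
  refine Nat.card_congr
    { toFun := fun g => (⟨g.1 • x, g.2⟩, ⟨(s (g.1 • x))⁻¹ * g.1, by
        rw [mem_stabilizer_iff, mul_smul, inv_smul_eq_iff, hs]⟩)
      invFun := fun p => ⟨s p.1.1 * p.2.1, by
        rw [mul_smul, mem_stabilizer_iff.mp p.2.2, hs]; exact p.1.2⟩
      left_inv := fun g => by simp
      right_inv := fun p => ?_ }
  have : (s p.1.1 * (p.2 : G)) • x = p.1.1 := by
    rw [mul_smul, mem_stabilizer_iff.mp p.2.2, hs]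
  refine Prod.ext (Subtype.ext this) (Subtype.ext ?_)
  simp [this]

/-- The number of group elements sending `x` to a given pattern. -/
noncomputable def wt {r : ℕ} (Γ : Finset Ω) (x : Fin r ↪ Ω) (K : Finset (Fin r)) (G : Type*)
    [Group G] [MulAction G Ω] : ℕ :=
  Nat.card {g : G // ∀ i, (g • x i ∈ Γ ↔ i ∈ K)}

/-- Deviation from the count of a uniform distribution alternates in sign. -/
theorem wt_alternate {r : ℕ} [IsMultiplyPretransitive G Ω r] (hrn : r < Fintype.card Ω)
    (Γ : Finset Ω) (x : Fin (r + 1) ↪ Ω) :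
    ∃ C : ℕ, 0 < C ∧ ∀ K : Finset (Fin (r + 1)),
      ((Fintype.card Ω - r : ℕ) : ℤ) * wt Γ x K G
          - C * cnt Γ.card (Fintype.card Ω) K.card (r + 1 - K.card)
        = (-1) ^ K.card * (((Fintype.card Ω - r : ℕ) : ℤ) * wt Γ x ∅ G
          - C * cnt Γ.card (Fintype.card Ω) 0 (r + 1)) := by
  classical
  set n := Fintype.card Ω
  haveI : Fintype G := Fintype.ofFinite G
  have y₀ : Fin r ↪ Ω := (Fin.castSuccEmb).trans x
  refine ⟨Nat.card (stabilizer G y₀), Nat.card_pos, fun K => ?_⟩
  induction K using Finset.induction with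
  | empty => simp
  | @insert i K hi ih =>
    set K' : Finset (Fin r) := Finset.univ.filter fun j => i.succAbove j ∈ K
    have hK' : K'.map ⟨i.succAbove, Fin.succAbove_right_injective⟩ = K := by
      ext j
      simp only [K', Finset.mem_map, Finset.mem_filter, Finset.mem_univ, true_and,
        Function.Embedding.coeFn_mk]
      constructor
      · rintro ⟨a, ha, rfl⟩; exact ha
      · intro hj
        obtain ⟨a, rfl⟩ := Fin.exists_succAbove_eq (show j ≠ i from fun h => hi (h ▸ hj))
        exact ⟨a, hj, rfl⟩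
    have hk : K'.card = K.card := by rw [← hK', Finset.card_map]
    have hkr : K.card ≤ r := hk ▸ (by simpa using K'.card_le_univ)
    set x' : Fin r ↪ Ω :=
      (⟨i.succAbove, Fin.succAbove_right_injective⟩ : Fin r ↪ Fin (r + 1)).trans x
    have hsum : wt Γ x K G + wt Γ x (insert i K) G
        = Nat.card (stabilizer G y₀) * cnt Γ.card n K.card (r - K.card) := by
      have h1 : Nat.card {g : G // ∀ j, ((g • x') j ∈ Γ ↔ j ∈ K')}
          = Nat.card (stabilizer G y₀) * cnt Γ.card n K.card (r - K.card) := by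
        rw [card_smul_mem x' (fun y => ∀ j, (y j ∈ Γ ↔ j ∈ K')), card_embedding_pattern, hk]
        congr 1
        obtain ⟨g, hg⟩ := exists_smul_eq G y₀ x'
        exact (Nat.card_congr (stabilizerEquivStabilizer hg.symm).toEquiv).symm
      rw [← h1]
      simp only [wt, Nat.card_eq_fintype_card, Fintype.card_subtype]
      rw [← Finset.card_union_of_disjoint]
      · congr 1
        ext g
        simp only [Finset.mem_union, Finset.mem_filter, Finset.mem_univ, true_and,
          Function.Embedding.smul_apply, x', Function.Embedding.trans_apply,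
          Function.Embedding.coeFn_mk, K']
        constructor
        · rintro (h | h) j
          · exact h _
          · rw [h]; simp [Fin.succAbove_ne]
        · intro h
          by_cases hgi : g • x i ∈ Γ
          · refine Or.inr fun j => ?_
            rcases eq_or_ne j i with rfl | hj
            · simpa using hgi
            · obtain ⟨a, rfl⟩ := Fin.exists_succAbove_eq hj
              rw [h a]; simp [hj]
          · refine Or.inl fun j => ?_
            rcases eq_or_ne j i with rfl | hj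
            · simpa [hi] using hgi
            · obtain ⟨a, rfl⟩ := Fin.exists_succAbove_eq hj
              exact h a
      · rw [Finset.disjoint_left]
        intro g hg hg'
        simp only [Finset.mem_filter, Finset.mem_univ, true_and] at hg hg'
        exact hi ((hg i).1 ((hg' i).2 (Finset.mem_insert_self i K)))
    have hcnt := cnt_step (m := Γ.card) (n := n) (by simpa [n] using Γ.card_le_univ) K.card
      (r - K.card) (by omega)
    rw [show K.card + (r - K.card) = r by omega, show r - K.card + 1 = r + 1 - K.card by omega]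
      at hcnt
    rw [Finset.card_insert_of_notMem hi, show r + 1 - (K.card + 1) = r - K.card by omega, pow_succ]
    have hsum' := congrArg (fun t : ℕ => (t : ℤ)) hsum
    have hcnt' := congrArg (fun t : ℕ => (t : ℤ)) hcnt
    push_cast at hsum' hcnt'
    linear_combination ((n - r : ℕ) : ℤ) * hsum'
      - (Nat.card (stabilizer G y₀) : ℤ) * hcnt' - ih

/-- Patterns of weight one, and of weight two when `3 ≤ r`, occur. For `r = 2` an omitted weight two
pattern makes every other weight two pattern omitted. -/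
theorem exists_pattern {r : ℕ} [IsMultiplyPretransitive G Ω r] (Γ : Finset Ω)
    (hΓ : 2 * Γ.card < Fintype.card Ω) (hr : r ≤ Fintype.card Ω - Γ.card) (x : Fin (r + 1) ↪ Ω)
    (K₀ : Finset (Fin (r + 1))) (hK₀ : 1 ≤ K₀.card) (hK₀r : K₀.card < r)
    (hK₀2 : K₀.card ≤ 2) (hK₀m : K₀.card ≤ Γ.card) :
    ∃ g : G, ∀ i, (g • x i ∈ Γ ↔ i ∈ K₀) := by
  classical
  by_contra hne
  have hn := Fintype.card_fin (r + 1) ▸ Fintype.card_le_of_embedding x
  obtain ⟨C, hC, hD⟩ := wt_alternate (G := G) (by omega) Γ x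
  have h0 : wt Γ x K₀ G = 0 := by
    haveI : IsEmpty {g : G // ∀ i, (g • x i ∈ Γ ↔ i ∈ K₀)} :=
      ⟨fun g => hne ⟨g.1, g.2⟩⟩
    exact Nat.card_of_isEmpty
  -- the largest pattern weight of the same parity
  set k := if (r + 1 + K₀.card) % 2 = 0 then r + 1 else r with hk
  have hk1 : k ≤ r + 1 ∧ r ≤ k ∧ (k + K₀.card) % 2 = 0 := by
    rw [hk]; split <;> omega
  obtain ⟨K, -, hKc⟩ := Finset.exists_subset_card_eq
    (show k ≤ (Finset.univ : Finset (Fin (r + 1))).card by simpa using hk1.1)
  have hpar : ((-1 : ℤ)) ^ K.card = (-1) ^ K₀.card := by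
    rw [hKc, neg_one_pow_eq_pow_mod_two, neg_one_pow_eq_pow_mod_two (n := K₀.card)]
    congr 1; omega
  have h1 := hD K
  have h2 := hD K₀
  rw [hpar, ← h2, h0, hKc] at h1
  have hlt := cnt_lt (m := Γ.card) (n := Fintype.card Ω) (k₀ := K₀.card) (k := k) (j := r + 1 - k)
    (l₀ := r + 1 - K₀.card) hΓ hK₀ hK₀m (by omega) (by omega) (by omega) (by omega)
  have hnn : (0 : ℤ) ≤ ((Fintype.card Ω - r : ℕ) : ℤ) * wt Γ x K G := by positivity
  have : (C : ℤ) * cnt Γ.card (Fintype.card Ω) K₀.card (r + 1 - K₀.card)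
      > C * cnt Γ.card (Fintype.card Ω) k (r + 1 - k) := by
    have : ((cnt Γ.card (Fintype.card Ω) k (r + 1 - k) : ℕ) : ℤ)
        < cnt Γ.card (Fintype.card Ω) K₀.card (r + 1 - K₀.card) := by exact_mod_cast hlt
    exact mul_lt_mul_of_pos_left this (by exact_mod_cast hC)
  push_cast at h1
  linarith

theorem pattern_two {r : ℕ} [IsMultiplyPretransitive G Ω r] (Γ : Finset Ω) (hrn : r < Fintype.card Ω)
    (x : Fin (r + 1) ↪ Ω) (K L : Finset (Fin (r + 1))) (hKL : K.card = L.card)
    (hK : ¬ ∃ g : G, ∀ i, (g • x i ∈ Γ ↔ i ∈ K)) : ¬ ∃ g : G, ∀ i, (g • x i ∈ Γ ↔ i ∈ L) := by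
  rintro ⟨g, hg⟩
  obtain ⟨C, -, hD⟩ := wt_alternate (G := G) hrn Γ x
  have h0 : wt Γ x K G = 0 := by
    haveI : IsEmpty {g : G // ∀ i, (g • x i ∈ Γ ↔ i ∈ K)} := ⟨fun g => hK ⟨g.1, g.2⟩⟩
    exact Nat.card_of_isEmpty
  have h1 := hD K
  have h2 := hD L
  rw [← hKL, ← h1, h0] at h2
  haveI : Nonempty {g : G // ∀ i, (g • x i ∈ Γ ↔ i ∈ L)} := ⟨⟨g, hg⟩⟩
  have hpos : 0 < wt Γ x L G := Nat.card_pos
  have hpos2 : (0 : ℤ) < ((Fintype.card Ω - r : ℕ) : ℤ) * wt Γ x L G :=
    mul_pos (by exact_mod_cast Nat.sub_pos_of_lt hrn) (by exact_mod_cast hpos)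
  push_cast at h2
  linarith

/-! ### Jordan sets -/

/-- The pointwise stabilizer of the complement is transitive on `Γ`. -/
def IsJordanSet (G : Type*) [Group G] [MulAction G Ω] (Γ : Finset Ω) : Prop :=
  ∀ a ∈ Γ, ∀ b ∈ Γ, ∃ g : G, (∀ z ∉ Γ, g • z = z) ∧ g • a = b

omit [Fintype Ω] [DecidableEq Ω] [Finite G] in
theorem IsJordanSet.translate {Γ : Finset Ω} (hJ : IsJordanSet G Γ) (g : G) {a b : Ω}
    (ha : g • a ∈ Γ) (hb : g • b ∈ Γ) :
    ∃ h : G, (∀ z, g • z ∉ Γ → h • z = z) ∧ h • a = b := by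
  obtain ⟨j, hj, hjab⟩ := hJ _ ha _ hb
  refine ⟨g⁻¹ * j * g, fun z hz => ?_, ?_⟩
  · rw [mul_smul, mul_smul, hj _ hz, inv_smul_smul]
  · rw [mul_smul, mul_smul, hjab, inv_smul_smul]

variable {Γ : Finset Ω}

omit [DecidableEq Ω] in
/-- Stabilizers of small sets are primitive on the remaining points. -/
theorem isPreprimitive_fixing (hJ : IsJordanSet G Γ) (hΓ1 : 1 < Γ.card)
    (hΓ : 2 * Γ.card < Fintype.card Ω) {s : ℕ} (hs : 1 ≤ s) (hsm : s + 1 ≤ Γ.card)
    [IsMultiplyPretransitive G Ω (s + 1)] (a : Fin s ↪ Ω) :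
    IsPreprimitive (fixingSubgroup G (Set.range a))
      (SubMulAction.ofFixingSubgroup G (Set.range a)) := by
  classical
  set A := Set.range a with hA
  have mkfix : ∀ h : G, (∀ i, h • a i = a i) → h ∈ fixingSubgroup G A := fun h hh => by
    rw [mem_fixingSubgroup_iff]; rintro _ ⟨i, rfl⟩; exact hh i
  haveI htr : IsPretransitive (fixingSubgroup G A) (SubMulAction.ofFixingSubgroup G A) := by
    refine ⟨fun u v => ?_⟩
    have hu : (u : Ω) ∉ Set.range a := u.2
    have hv : (v : Ω) ∉ Set.range a := v.2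
    obtain ⟨h, hh⟩ := exists_smul_eq G
      (⟨Fin.snoc a (u : Ω), Fin.snoc_injective_of_injective a.injective hu⟩ : Fin (s + 1) ↪ Ω)
      ⟨Fin.snoc a (v : Ω), Fin.snoc_injective_of_injective a.injective hv⟩
    refine ⟨⟨h, mkfix h fun i => ?_⟩, Subtype.ext ?_⟩
    · simpa using DFunLike.congr_fun hh i.castSucc
    · simpa using DFunLike.congr_fun hh (Fin.last s)
  refine ⟨fun {B} hB => ?_⟩
  by_contra hnt
  rw [IsTrivialBlock, not_or, Set.not_subsingleton_iff] at hnt
  obtain ⟨⟨e, he, c, hc, hec⟩, hne⟩ := hnt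
  obtain ⟨e', he'⟩ := (Set.ne_univ_iff_exists_notMem B).mp hne
  -- a point outside is reached from a point of the block only by moving the whole block
  have hmove : ∀ h : fixingSubgroup G A, ∀ u ∈ B, h • u ∈ B → ∀ w ∈ B, h • w ∈ B := by
    intro h u hu hhu w hw
    rcases (isBlock_iff_smul_eq_or_disjoint.mp hB) h with h1 | h1
    · exact h1 ▸ Set.smul_mem_smul_set hw
    · exact absurd hhu (Set.disjoint_left.mp h1 (Set.smul_mem_smul_set hu))
  -- translates of `Γ` avoiding the fixed points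
  have trans : ∀ g : G, (∀ i, g • a i ∉ Γ) → ∀ u v : SubMulAction.ofFixingSubgroup G A,
      g • (u : Ω) ∈ Γ → g • (v : Ω) ∈ Γ →
      ∃ h : fixingSubgroup G A, h • u = v ∧
        ∀ w : SubMulAction.ofFixingSubgroup G A, g • (w : Ω) ∉ Γ → h • w = w := by
    intro g hg u v hu hv
    obtain ⟨h, hh, huv⟩ := hJ.translate g hu hv
    exact ⟨⟨h, mkfix h fun i => hh _ (hg i)⟩, Subtype.ext huv, fun w hw => Subtype.ext (hh _ hw)⟩
  let tup : (u v : SubMulAction.ofFixingSubgroup G A) → u ≠ v → (Fin (s + 1 + 1) ↪ Ω) :=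
    fun u v huv => ⟨Fin.snoc (Fin.snoc a (u : Ω)) (v : Ω),
      Fin.snoc_injective_of_injective (Fin.snoc_injective_of_injective a.injective u.2) (by
        rintro ⟨i, hi⟩
        induction i using Fin.lastCases with
        | last => simp only [Fin.snoc_last] at hi; exact huv (Subtype.ext hi)
        | cast j => simp only [Fin.snoc_castSucc] at hi; exact v.2 ⟨j, hi⟩)⟩
  have tup_last : ∀ u v h, tup u v h (Fin.last _) = (v : Ω) := fun u v h => by simp [tup]
  have tup_mid : ∀ u v h, tup u v h (Fin.last s).castSucc = (u : Ω) := fun u v h => by simp [tup]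
  have tup_a : ∀ u v h (i : Fin s), tup u v h i.castSucc.castSucc = a i := fun u v h i => by
    simp [tup]
  have hr : s + 1 ≤ Fintype.card Ω - Γ.card := by omega
  have hne1 : ∀ i : Fin s, i.castSucc.castSucc ≠ Fin.last (s + 1) := fun i => Fin.castSucc_ne_last _
  have hne2 : (Fin.last s).castSucc ≠ Fin.last (s + 1) := Fin.castSucc_ne_last _
  have hne3 : ∀ i : Fin s, i.castSucc.castSucc ≠ (Fin.last s).castSucc := fun i h =>
    Fin.castSucc_ne_last i (Fin.castSucc_injective _ h)
  -- first step: a translate avoiding the fixed points inside the block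
  have hBbig : ∀ g : G, (∀ w ∈ B, g • (w : Ω) ∈ Γ) → False := by
    intro g hg
    obtain ⟨g₁, hg₁⟩ := exists_pattern (G := G) (r := s + 1) Γ hΓ hr (tup c e (Ne.symm hec))
      {Fin.last _} (by simp) (by simp; omega) (by simp) (by rw [Finset.card_singleton]; omega)
    have he1 : g₁ • (e : Ω) ∈ Γ := by simpa [tup_last] using (hg₁ (Fin.last _)).2 (by simp)
    have hc1 : g₁ • (c : Ω) ∉ Γ := fun h => by
      have := (hg₁ (Fin.last s).castSucc).1 (by rw [tup_mid c e (Ne.symm hec)]; exact h)
      exact hne2 (Finset.mem_singleton.mp this)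
    have ha1 : ∀ i, g₁ • a i ∉ Γ := fun i h => by
      have := (hg₁ i.castSucc.castSucc).1 (by rw [tup_a c e (Ne.symm hec)]; exact h)
      exact hne1 i (Finset.mem_singleton.mp this)
    have hsub : ∀ z : Ω, g₁ • z ∈ Γ → ∃ w ∈ B, (w : Ω) = z := by
      intro z hz
      have hzA : z ∉ A := by rintro ⟨i, rfl⟩; exact ha1 i hz
      obtain ⟨h, hh, hfix⟩ := trans g₁ ha1 e ⟨z, hzA⟩ he1 hz
      exact ⟨⟨z, hzA⟩, hh ▸ hmove h c hc ((hfix c hc1).symm ▸ hc) e he, rfl⟩
    let S : Finset Ω := insert (c : Ω) (Γ.image fun z => g₁⁻¹ • z)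
    have hS : S.card = Γ.card + 1 := by
      rw [Finset.card_insert_of_notMem, Finset.card_image_of_injective _ (MulAction.injective _)]
      simp only [Finset.mem_image, not_exists, not_and]
      intro z hz hzc
      exact hc1 (by rw [← hzc, smul_inv_smul]; exact hz)
    have hSle : (S.image fun z => g • z) ⊆ Γ := by
      intro z hz
      simp only [S, Finset.mem_image, Finset.mem_insert] at hz
      obtain ⟨y, rfl | ⟨w, hw, rfl⟩, rfl⟩ := hz
      · exact hg c hc
      · obtain ⟨b, hb, hbz⟩ := hsub (g₁⁻¹ • w) (by rwa [smul_inv_smul])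
        rw [← hbz]; exact hg b hb
    have := Finset.card_le_card hSle
    rw [Finset.card_image_of_injective _ (MulAction.injective g), hS] at this
    omega
  -- second step: no translate avoiding the fixed points meets two blocks
  have hpat : ∀ u ∈ B, ∀ v ∉ B, ∀ g : G,
      (∀ i, g • a i ∉ Γ) → g • (u : Ω) ∈ Γ → g • (v : Ω) ∈ Γ → False := by
    intro u hu v hv g hg hgu hgv
    obtain ⟨h, hh, hfix⟩ := trans g hg u v hgu hgv
    refine hBbig g fun w hw => ?_
    by_contra hgw
    exact hv (hh ▸ hmove h w hw ((hfix w hgw).symm ▸ hw) u hu)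
  rcases Nat.lt_or_ge 1 s with hs2 | hs1
  · have huv : e ≠ e' := fun h => he' (h ▸ he)
    obtain ⟨g, hg⟩ := exists_pattern (G := G) (r := s + 1) Γ hΓ hr (tup e e' huv)
      {(Fin.last s).castSucc, Fin.last _} (by rw [Finset.card_pair hne2]; omega)
      (by rw [Finset.card_pair hne2]; omega) (by rw [Finset.card_pair hne2])
      (by rw [Finset.card_pair hne2]; omega)
    refine hpat e he e' he' g (fun i h => ?_) ?_ ?_
    · have := (hg i.castSucc.castSucc).1 (by rw [tup_a e e' huv]; exact h)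
      simp [hne1 i, hne3 i] at this
    · simpa [tup_mid] using (hg (Fin.last s).castSucc).2 (by simp)
    · simpa [tup_last] using (hg (Fin.last _)).2 (by simp)
  · obtain rfl : s = 1 := by omega
    have key : ∀ u ∈ B, ∀ v ∉ B, ∀ g : G, g • a 0 ∈ Γ →
        (g • (u : Ω) ∈ Γ ↔ g • (v : Ω) ∈ Γ) := by
      intro u hu v hv g hga
      have huv : u ≠ v := fun h => hv (h ▸ hu)
      have hnone : ¬ ∃ g : G, ∀ i, (g • tup u v huv i ∈ Γ ↔ i ∈ ({1, 2} : Finset (Fin 3))) := by
        rintro ⟨g', hg'⟩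
        refine hpat u hu v hv g' (fun i h => ?_) ?_ ?_
        · obtain rfl : i = 0 := Subsingleton.elim _ _
          have := (hg' 0).1 (by rw [show (0 : Fin 3) = (0 : Fin 1).castSucc.castSucc from rfl, tup_a u v huv]; exact h)
          simp at this
        · have := (hg' 1).2 (by simp)
          rwa [show (1 : Fin 3) = (Fin.last 1).castSucc from rfl, tup_mid u v huv] at this
        · have := (hg' 2).2 (by simp)
          rwa [show (2 : Fin 3) = Fin.last 2 from rfl, tup_last u v huv] at this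
      have h01 := pattern_two (G := G) (r := 2) Γ (by omega) (tup u v huv) {1, 2} {0, 1} rfl hnone
      have h02 := pattern_two (G := G) (r := 2) Γ (by omega) (tup u v huv) {1, 2} {0, 2} rfl hnone
      have t0 : tup u v huv 0 = a 0 := by
        rw [show (0 : Fin 3) = (0 : Fin 1).castSucc.castSucc from rfl, tup_a u v huv]
      have t1 : tup u v huv 1 = (u : Ω) := by
        rw [show (1 : Fin 3) = (Fin.last 1).castSucc from rfl, tup_mid u v huv]
      have t2 : tup u v huv 2 = (v : Ω) := by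
        rw [show (2 : Fin 3) = Fin.last 2 from rfl, tup_last u v huv]
      constructor
      · intro h
        by_contra h'
        exact h01 ⟨g, fun i => by fin_cases i <;> simp [t0, t1, t2, hga, h, h']⟩
      · intro h
        by_contra h'
        exact h02 ⟨g, fun i => by fin_cases i <;> simp [t0, t1, t2, hga, h, h']⟩
    obtain ⟨p, hp, q, hq, hpq⟩ := Finset.one_lt_card.mp hΓ1
    haveI : IsMultiplyPretransitive G Ω 2 := inferInstanceAs (IsMultiplyPretransitive G Ω (1 + 1))
    have h2p : ∀ a b c d : Ω, a ≠ b → c ≠ d → ∃ g : G, g • a = c ∧ g • b = d :=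
      fun _ _ _ _ => is_two_pretransitive_iff.mp inferInstance
    obtain ⟨g, hg1, hg2⟩ := h2p (a 0) (e : Ω) p q (fun h => e.2 ⟨0, h⟩) hpq
    have hga : g • a 0 ∈ Γ := hg1 ▸ hp
    have hge : g • (e : Ω) ∈ Γ := hg2 ▸ hq
    have hall : ∀ z : Ω, g • z ∈ Γ := by
      intro z
      by_cases hz : z ∈ A
      · obtain ⟨i, rfl⟩ := hz
        rwa [Subsingleton.elim i 0]
      · have hout : ∀ v ∉ B, g • (v : Ω) ∈ Γ := fun v hv => (key e he v hv g hga).1 hge
        by_cases hzB : (⟨z, hz⟩ : SubMulAction.ofFixingSubgroup G A) ∈ B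
        · exact (key _ hzB e' he' g hga).2 (hout e' he')
        · exact hout _ hzB
    have := Finset.card_le_card (show Finset.univ ⊆ Γ from fun z _ => by
      simpa using hall (g⁻¹ • z))
    rw [Finset.card_univ] at this
    omega

omit [DecidableEq Ω] in
/-- A primitive group with a small Jordan set is highly transitive. -/
theorem isMultiplyPretransitive_of_jordan (hprim : IsPreprimitive G Ω) (hJ : IsJordanSet G Γ)
    (hΓ1 : 1 < Γ.card) (hΓ : 2 * Γ.card < Fintype.card Ω) :
    ∀ r, 1 ≤ r → r ≤ Γ.card + 1 → IsMultiplyPretransitive G Ω r := by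
  classical
  intro r hr1 hr
  induction r with
  | zero => omega
  | succ r ih =>
    rcases Nat.eq_zero_or_pos r with rfl | hr0
    · exact is_one_pretransitive_iff.mpr inferInstance
    obtain ⟨s, rfl⟩ : ∃ s, r = s + 1 := ⟨r - 1, by omega⟩
    haveI := ih (by omega) (by omega)
    refine ⟨fun x y => ?_⟩
    obtain ⟨g, hg⟩ := exists_smul_eq G (Fin.castSuccEmb.trans x) (Fin.castSuccEmb.trans y)
    have hg' : ∀ i : Fin (s + 1), g • x i.castSucc = y i.castSucc := fun i =>
      DFunLike.congr_fun hg i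
    set a : Fin s ↪ Ω := (Fin.castSuccEmb.trans Fin.castSuccEmb).trans y
    set A := Set.range a with hA
    have hprimA : IsPreprimitive (fixingSubgroup G A) (SubMulAction.ofFixingSubgroup G A) := by
      rcases Nat.eq_zero_or_pos s with rfl | hs0
      · rw [hA, Set.range_eq_empty]
        exact isPreprimitive_of_fixingSubgroup_empty_iff.mpr hprim
      · exact isPreprimitive_fixing hJ hΓ1 hΓ hs0 (by omega) a
    -- a translate of `Γ` avoiding `A`
    obtain ⟨g₁, hg₁⟩ : ∃ g₁ : G, ∀ i, g₁ • a i ∉ Γ := by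
      haveI : Nonempty (Fin (s + 1) ↪ {z // z ∉ Γ}) := by
        refine Function.Embedding.nonempty_of_card_le ?_
        rw [Fintype.card_fin, Fintype.card_subtype_compl, Fintype.card_coe]; omega
      obtain ⟨e⟩ := this
      obtain ⟨g₁, hg₁⟩ := exists_smul_eq G (Fin.castSuccEmb.trans y)
        (e.trans ⟨Subtype.val, Subtype.val_injective⟩)
      refine ⟨g₁, fun i => ?_⟩
      have := DFunLike.congr_fun hg₁ i.castSucc
      simp only [Function.Embedding.smul_apply, Function.Embedding.trans_apply] at this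
      exact this ▸ (e i.castSucc).2
    set S : Set (SubMulAction.ofFixingSubgroup G A) := {z | g₁ • (z : Ω) ∉ Γ}
    have hScompl : Sᶜ.ncard = Γ.card := by
      rw [← Set.ncard_coe_finset, ← Set.ncard_image_of_injective Sᶜ
        (f := fun z : SubMulAction.ofFixingSubgroup G A => g₁ • (z : Ω))
        ((MulAction.injective g₁).comp Subtype.val_injective)]
      congr 1
      ext z
      simp only [S, Set.mem_image, Set.mem_compl_iff, Set.mem_setOf_eq, not_not, Finset.mem_coe]
      constructor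
      · rintro ⟨w, hw, rfl⟩; exact hw
      · intro hz
        refine ⟨⟨g₁⁻¹ • z, ?_⟩, by simpa using hz, smul_inv_smul g₁ z⟩
        rintro ⟨i, hi⟩
        exact hg₁ i (by rw [hi, smul_inv_smul]; exact hz)
    have hN : Nat.card (SubMulAction.ofFixingSubgroup G A) + s = Fintype.card Ω := by
      have h1 : Nat.card (SubMulAction.ofFixingSubgroup G A) = Aᶜ.ncard := Nat.card_coe_set_eq _
      have h2 := Set.ncard_add_ncard_compl A
      rw [h1, ← Nat.card_eq_fintype_card, ← h2, hA,
        Set.ncard_range_of_injective a.injective, Nat.card_fin]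
      omega
    have hSc := Set.ncard_add_ncard_compl S
    have h2 : IsMultiplyPretransitive (fixingSubgroup G A)
        (SubMulAction.ofFixingSubgroup G A) 2 := by
      refine hprimA.is_two_pretransitive (s := S) (n := S.ncard - 1) (by omega) (by omega) ⟨?_⟩
      intro u v
      have hu : g₁ • ((u : SubMulAction.ofFixingSubgroup G A) : Ω) ∈ Γ := by
        by_contra h; exact u.2 h
      have hv : g₁ • ((v : SubMulAction.ofFixingSubgroup G A) : Ω) ∈ Γ := by
        by_contra h; exact v.2 h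
      obtain ⟨h, hh, huv⟩ := hJ.translate g₁ hu hv
      refine ⟨⟨⟨h, ?_⟩, ?_⟩, Subtype.ext (Subtype.ext huv)⟩
      · rw [mem_fixingSubgroup_iff]; rintro _ ⟨i, rfl⟩; exact hh _ (hg₁ i)
      · rw [mem_fixingSubgroup_iff]; intro z hz; exact Subtype.ext (hh _ hz)
    -- move the last point, keeping the others
    have hnotA : ∀ z, (∀ i : Fin s, a i ≠ z) → z ∉ A := fun z hz ⟨i, hi⟩ => hz i hi
    have ha' : ∀ i : Fin s, a i = y i.castSucc.castSucc := fun i => rfl
    have hb : y (Fin.last s).castSucc ∉ A := hnotA _ fun i h =>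
      Fin.castSucc_ne_last i (Fin.castSucc_injective _ (y.injective h))
    have hu : g • x (Fin.last _) ∉ A := hnotA _ fun i h => by
      rw [ha' i, ← hg' i.castSucc] at h
      exact Fin.castSucc_ne_last i.castSucc (x.injective (MulAction.injective g h))
    have hv : y (Fin.last (s + 1)) ∉ A := hnotA _ fun i h =>
      Fin.castSucc_ne_last i.castSucc (y.injective h)
    have h2p : ∀ a b c d : SubMulAction.ofFixingSubgroup G A, a ≠ b → c ≠ d →
        ∃ k : fixingSubgroup G A, k • a = c ∧ k • b = d :=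
      fun _ _ _ _ => is_two_pretransitive_iff.mp h2
    obtain ⟨h, h1, h2'⟩ := h2p ⟨_, hb⟩ ⟨_, hu⟩ ⟨_, hb⟩ ⟨_, hv⟩
      (fun e => by
        have e' : y (Fin.last s).castSucc = g • x (Fin.last _) := congrArg Subtype.val e
        rw [← hg' (Fin.last s)] at e'
        exact Fin.castSucc_ne_last _ (x.injective (MulAction.injective g e')))
      (fun e => Fin.castSucc_ne_last _ (y.injective (congrArg Subtype.val e)))
    refine ⟨(h : G) * g, DFunLike.ext _ _ fun i => ?_⟩
    rw [Function.Embedding.smul_apply, mul_smul]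
    induction i using Fin.lastCases with
    | last => exact congrArg Subtype.val h2'
    | cast j =>
      rw [hg']
      induction j using Fin.lastCases with
      | last => exact congrArg Subtype.val h1
      | cast j => exact (mem_fixingSubgroup_iff G).mp h.2 _ ⟨j, rfl⟩

/-- A primitive group with a Jordan set of size below one half of the degree induces all even
permutations. -/
theorem even_of_isPreprimitive (hprim : IsPreprimitive G Ω) (hJ : IsJordanSet G Γ)
    (hΓ1 : 1 < Γ.card) (hΓ : 2 * Γ.card < Fintype.card Ω) (σ : Perm Ω) (hσ : sign σ = 1) :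
    ∃ x : G, (toPerm x : Perm Ω) = σ := by
  classical
  obtain ⟨a, ha, b, hb, hab⟩ := Finset.one_lt_card.mp hΓ1
  obtain ⟨j, hj, hja⟩ := hJ a ha b hb
  obtain ⟨c, hc⟩ : ∃ c, c ∉ Γ := by
    by_contra h; push_neg at h
    have := Finset.card_le_card (show Finset.univ ⊆ Γ from fun z _ => h z)
    rw [Finset.card_univ] at this; omega
  haveI := isMultiplyPretransitive_of_jordan hprim hJ hΓ1 hΓ (Γ.card + 1) (by omega) le_rfl
  set e : Fin (Γ.card + 1) ↪ Ω :=
    ((Finset.equivFinOfCardEq (Finset.card_insert_of_notMem hc)).symm.toEmbedding).trans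
      ⟨Subtype.val, Subtype.val_injective⟩
  have he : ∀ z ∈ insert c Γ, ∃ i, e i = z := fun z hz =>
    ⟨Finset.equivFinOfCardEq (Finset.card_insert_of_notMem hc) ⟨z, hz⟩, by simp [e]⟩
  obtain ⟨g, hg⟩ := exists_smul_eq G e (e.trans (Equiv.swap a c).toEmbedding)
  have hg' : ∀ z ∈ insert c Γ, g • z = Equiv.swap a c z := fun z hz => by
    obtain ⟨i, rfl⟩ := he z hz
    exact DFunLike.congr_fun hg i
  -- `j` maps `insert c Γ` to itself
  have hjmem : ∀ z ∈ insert c Γ, j • z ∈ insert c Γ := fun z hz => by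
    by_contra h
    simp only [Finset.mem_insert, not_or] at h hz
    have := hj _ h.2
    have : j • z = z := MulAction.injective j this
    rw [this] at h
    tauto
  have hconj : (toPerm (g * j * g⁻¹) : Perm Ω)
      = Equiv.swap a c * toPerm j * Equiv.swap a c := by
    ext y
    obtain ⟨z, rfl⟩ : ∃ z, y = g • z := ⟨g⁻¹ • y, (smul_inv_smul g y).symm⟩
    simp only [Perm.mul_apply, MulAction.toPerm_apply, mul_smul, inv_smul_smul]
    by_cases hz : z ∈ insert c Γ
    · rw [hg' _ hz, hg' _ (hjmem z hz), Equiv.swap_apply_self]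
    · simp only [Finset.mem_insert, not_or] at hz
      rw [hj z hz.2]
      have hnotin : Equiv.swap a c (g • z) ∉ Γ := by
        intro h
        have h' := (Finset.mem_insert_of_mem h : _ ∈ insert c Γ)
        have h'' := hg' _ h'
        rw [Equiv.swap_apply_self] at h''
        have := MulAction.injective g h''
        exact hz.2 (this ▸ h)
      rw [hj _ hnotin, Equiv.swap_apply_self]
  have hthree : IsThreeCycle (toPerm (g * j * g⁻¹ * j⁻¹) : Perm Ω) := by
    have hjc : j • c = c := hj c hc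
    have : (toPerm (g * j * g⁻¹ * j⁻¹) : Perm Ω) = Equiv.swap c a * Equiv.swap c b := by
      have h1 : (toPerm j : Perm Ω) * Equiv.swap a c * (toPerm j : Perm Ω)⁻¹ = Equiv.swap b c := by
        rw [← Equiv.swap_apply_apply, MulAction.toPerm_apply, MulAction.toPerm_apply, hja, hjc]
      have h2 : (toPerm (g * j * g⁻¹ * j⁻¹) : Perm Ω)
          = toPerm (g * j * g⁻¹) * (toPerm j : Perm Ω)⁻¹ := by
        ext y; simp [mul_smul, Perm.inv_def]
      rw [h2, hconj, Equiv.swap_comm c a, Equiv.swap_comm c b, ← h1]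
      group
    rw [this]
    exact isThreeCycle_swap_mul_swap_same (fun h => hc (h ▸ ha)) (fun h => hc (h ▸ hb)) hab
  set H : Subgroup (Perm Ω) := (MulAction.toPermHom G Ω).range
  haveI := hprim
  have hH : IsPreprimitive H Ω :=
    IsPreprimitive.of_surjective
      (φ := fun x : G => (⟨toPerm x, ⟨x, rfl⟩⟩ : H))
      (f := ⟨id, fun _ _ => rfl⟩) Function.surjective_id
  have := alternatingGroup_le_of_isPreprimitive_of_isThreeCycle_mem hH hthree ⟨_, rfl⟩
  obtain ⟨x, hx⟩ := this (Equiv.Perm.mem_alternatingGroup.mpr hσ)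
  exact ⟨x, hx⟩

/-! ### Quasiprimitive groups -/

theorem even_of_quasiprimitive_aux (n : ℕ) : ∀ (Ω : Type*) [Fintype Ω] [DecidableEq Ω]
    [MulAction G Ω] [FaithfulSMul G Ω] (Γ : Finset Ω), Fintype.card Ω = n →
    (∀ N : Subgroup G, N.Normal → N ≠ ⊥ → IsPretransitive N Ω) → IsJordanSet G Γ →
    1 < Γ.card → 2 * Γ.card < Fintype.card Ω → ∀ σ : Perm Ω, sign σ = 1 →
    ∃ x : G, (toPerm x : Perm Ω) = σ := by
  induction n using Nat.strong_induction_on with
  | _ n ih =>
  intro Ω _ _ _ _ Γ hn hqp hJ hΓ1 hΓ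
  obtain ⟨a, ha, b, hb, hab⟩ := Finset.one_lt_card.mp hΓ1
  obtain ⟨j₀, hj₀, hj₀a⟩ := hJ a ha b hb
  have hj₀1 : j₀ ≠ 1 := fun h => hab (by simpa [h] using hj₀a)
  have htrans : IsPretransitive G Ω := ⟨fun x y => by
    have := hqp ⊤ inferInstance (fun h => hj₀1 (by simpa [h] using Subgroup.mem_top j₀))
    obtain ⟨g, hg⟩ := MulAction.exists_smul_eq (⊤ : Subgroup G) x y
    exact ⟨g, hg⟩⟩
  by_cases hprim : IsPreprimitive G Ω
  · exact even_of_isPreprimitive hprim hJ hΓ1 hΓ
  exfalso
  obtain ⟨B, hB, hBnt⟩ : ∃ B : Set Ω, IsBlock G B ∧ ¬ IsTrivialBlock B := by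
    by_contra h; push_neg at h; exact hprim ⟨fun {B} hB => h B hB⟩
  rw [IsTrivialBlock, not_or, Set.not_subsingleton_iff] at hBnt
  obtain ⟨⟨u₀, hu₀, u₁, hu₁, hu01⟩, hBne⟩ := hBnt
  classical
  let β := ↥(MulAction.orbit G B)
  haveI : Fintype β := Fintype.ofFinite _
  -- the block of a point
  have hbl' : ∀ z : Ω, ∃ C : β, z ∈ (C : Set Ω) := fun z => by
    obtain ⟨g, rfl⟩ := MulAction.exists_smul_eq G u₀ z
    exact ⟨⟨g • B, g, rfl⟩, Set.smul_mem_smul_set hu₀⟩
  choose bl hbl using hbl'
  have hblu : ∀ (z : Ω) (C : β), z ∈ (C : Set Ω) → bl z = C := by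
    intro z C hz
    obtain ⟨_, g, rfl⟩ := C
    obtain ⟨h, hh⟩ := (bl z).2
    rcases isBlock_iff_smul_eq_or_disjoint.mp hB (g⁻¹ * h) with h1 | h1
    · apply Subtype.ext
      change ((bl z : β) : Set Ω) = g • B
      rw [← show h • B = (bl z : Set Ω) from hh]
      conv_rhs => rw [← h1, smul_smul, mul_inv_cancel_left]
    · exfalso
      have hz' : g⁻¹ • z ∈ (g⁻¹ * h) • B := by
        rw [mul_smul]
        exact Set.smul_mem_smul_set ((show h • B = (bl z : Set Ω) from hh) ▸ hbl z)
      exact Set.disjoint_left.mp h1 hz' (Set.mem_smul_set_iff_inv_smul_mem.mp hz)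
  have hsmul : ∀ (g : G) (z : Ω), g • bl z = bl (g • z) := fun g z =>
    (hblu _ _ (Set.smul_mem_smul_set (hbl z))).symm
  have hsurj : Function.Surjective bl := fun C => by
    obtain ⟨_, g, rfl⟩ := C
    exact ⟨g • u₀, hblu _ _ (Set.smul_mem_smul_set hu₀)⟩
  have hfibre : ∀ C : β, (Finset.univ.filter fun z => bl z = C).card = B.ncard := by
    intro C
    obtain ⟨_, g, rfl⟩ := C
    rw [← Set.ncard_coe_finset, ← Set.ncard_smul_set (a := g) B]
    congr 1
    ext z
    simp only [Finset.coe_filter, Finset.mem_univ, true_and, Set.mem_setOf_eq]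
    exact ⟨fun h => (show (bl z : Set Ω) = g • B from congrArg Subtype.val h) ▸ hbl z, fun h => hblu z ⟨g • B, g, rfl⟩ h⟩
  have hB2 : 2 ≤ B.ncard := (Set.one_lt_ncard B.toFinite).mpr ⟨u₀, hu₀, u₁, hu₁, hu01⟩
  have hcard : Fintype.card Ω = B.ncard * Fintype.card β := by
    rw [← Finset.card_univ, Finset.card_eq_sum_card_fiberwise (f := bl) (t := Finset.univ)
      (fun z _ => Finset.mem_univ _), Finset.sum_congr rfl fun C _ => hfibre C]
    simp [mul_comm]
  haveI hβtrans : IsPretransitive G β := ⟨fun C D => by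
    obtain ⟨z, rfl⟩ := hsurj C; obtain ⟨w, rfl⟩ := hsurj D
    obtain ⟨g, hg⟩ := MulAction.exists_smul_eq G z w
    exact ⟨g, by rw [hsmul, hg]⟩⟩
  -- faithful on blocks
  haveI hfaith : FaithfulSMul G β := by
    have hker : (MulAction.toPermHom G β).ker = ⊥ := by
      by_contra h
      have := hqp _ (MonoidHom.normal_ker _) h
      obtain ⟨w, hw⟩ := (Set.ne_univ_iff_exists_notMem B).mp hBne
      obtain ⟨⟨k, hk⟩, hkw⟩ :=
        MulAction.exists_smul_eq (MulAction.toPermHom G β).ker u₀ w
      have hkC : k • bl u₀ = bl u₀ := DFunLike.congr_fun (MonoidHom.mem_ker.mp hk) (bl u₀)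
      rw [hsmul, show k • u₀ = w from hkw] at hkC
      exact hw (show w ∈ ((⟨B, 1, one_smul _ _⟩ : β) : Set Ω) from
        (hblu u₀ ⟨B, 1, one_smul _ _⟩ hu₀) ▸ hkC ▸ hbl w)
    refine ⟨fun {g h} hgh => ?_⟩
    have : g⁻¹ * h ∈ (MulAction.toPermHom G β).ker := by
      rw [MonoidHom.mem_ker]; ext C; simp [mul_smul, ← hgh C]
    rw [hker, Subgroup.mem_bot, inv_mul_eq_one] at this
    exact this
  -- `Γ` does not lie in a block
  have hone : ∀ C : β, ¬ ∀ z ∈ Γ, bl z = C := by
    intro C hC
    refine hj₀1 (hfaith.eq_of_smul_eq_smul fun D => ?_)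
    rw [one_smul]
    obtain ⟨z, rfl⟩ := hsurj D
    rw [hsmul]
    by_cases hz : z ∈ Γ
    · have : j₀ • z ∈ Γ := by
        by_contra h
        have h2 : j₀ • z = z := MulAction.injective j₀ (hj₀ _ h)
        exact h (h2.symm ▸ hz)
      rw [hC _ hz, hC _ this]
    · rw [hj₀ z hz]
  have hunion : ∀ z w : Ω, z ∈ Γ → bl z = bl w → w ∈ Γ := by
    intro z w hz hzw
    by_contra hw
    refine hone (bl z) fun y hy => ?_
    obtain ⟨g, hg, rfl⟩ := hJ z hz y hy
    rw [← hsmul, hzw, hsmul, hg w hw]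
  set Δ := Γ.image bl
  have hΔout : ∀ z, bl z ∉ Δ → z ∉ Γ := fun z hz h => hz (Finset.mem_image_of_mem _ h)
  have hΓcard : Γ.card = B.ncard * Δ.card := by
    rw [Finset.card_eq_sum_card_image bl Γ, Finset.sum_congr rfl (g := fun _ => B.ncard)]
    · simp [Δ, mul_comm]
    · intro C hC
      rw [← hfibre C]
      congr 1
      ext z
      simp only [Finset.mem_filter, Finset.mem_univ, true_and, and_iff_right_iff_imp]
      intro hz
      obtain ⟨w, hw, rfl⟩ := Finset.mem_image.mp hC
      exact hunion w z hw hz.symm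
  have hΔ1 : 1 < Δ.card := by
    by_contra h
    exact hone (bl a) fun z hz => Finset.card_le_one.mp (not_lt.mp h) _
      (Finset.mem_image_of_mem _ hz) _ (Finset.mem_image_of_mem _ ha)
  have hΔ : 2 * Δ.card < Fintype.card β :=
    Nat.lt_of_mul_lt_mul_left (a := B.ncard) (by rw [← hcard, mul_left_comm, ← hΓcard]; exact hΓ)
  have hJβ : IsJordanSet G Δ := by
    intro C hC D hD
    obtain ⟨z, hz, rfl⟩ := Finset.mem_image.mp hC
    obtain ⟨w, hw, rfl⟩ := Finset.mem_image.mp hD
    obtain ⟨g, hg, rfl⟩ := hJ z hz w hw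
    refine ⟨g, fun E hE => ?_, hsmul g z⟩
    obtain ⟨y, rfl⟩ := hsurj E
    rw [hsmul, hg y (hΔout y hE)]
  have hall := ih (Fintype.card β) (by
      rw [← hn, hcard]
      exact lt_mul_left (Fintype.card_pos_iff.mpr ⟨bl u₀⟩) (by omega)) β Δ rfl
    (fun N hN hN1 => by
      have := hqp N hN hN1
      exact ⟨fun C D => by
        obtain ⟨z, rfl⟩ := hsurj C; obtain ⟨w, rfl⟩ := hsurj D
        obtain ⟨g, hg⟩ := MulAction.exists_smul_eq N z w
        exact ⟨g, by
          change (g : G) • bl z = bl w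
          rw [hsmul, show (g : G) • z = w from hg]⟩⟩) hJβ hΔ1 hΔ
  -- a block `C₀` outside, with two points
  obtain ⟨α₀, hα₀⟩ : ∃ α₀, α₀ ∉ Γ := by
    by_contra h; push_neg at h
    have := Finset.card_le_card (show Finset.univ ⊆ Γ from fun z _ => h z)
    rw [Finset.card_univ] at this; omega
  set C₀ := bl α₀ with hC₀
  have hC₀Δ : C₀ ∉ Δ := fun h => by
    obtain ⟨w, hw, hwe⟩ := Finset.mem_image.mp h
    exact hα₀ (hunion w α₀ hw hwe)
  -- elements fixing the points of `C₀`
  let P : G → Prop := fun g => ∀ z, bl z = C₀ → g • z = z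
  have hPj : ∀ g : G, (∀ z ∉ Γ, g • z = z) → P g := fun g hg z hz =>
    hg z (hΔout z (hz ▸ hC₀Δ))
  have hPmul : ∀ g h, P g → P h → P (g * h) := fun g h hg hh z hz => by
    rw [mul_smul, hh z hz, hg z hz]
  have hPinv : ∀ g, P g → P g⁻¹ := fun g hg z hz => by
    rw [inv_smul_eq_iff, hg z hz]
  have hPconj : ∀ g h, P g → h • C₀ = C₀ → P (h * g * h⁻¹) := fun g h hg hh z hz => by
    have : bl (h⁻¹ • z) = C₀ := by rw [← hsmul, hz, inv_smul_eq_iff, hh]
    rw [mul_smul, mul_smul, hg _ this, smul_inv_smul]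
  -- a three-cycle on blocks fixing the points of `C₀`
  obtain ⟨C, hC, D, hD, hCD⟩ := Finset.one_lt_card.mp hΔ1
  obtain ⟨j, hj, hjCD⟩ := hJβ C hC D hD
  obtain ⟨z, hz, hzC⟩ := Finset.mem_image.mp hC
  obtain ⟨w, hw, hwD⟩ := Finset.mem_image.mp hD
  obtain ⟨j, hjfix, hjz⟩ := hJ z hz w hw
  have hjC : j • C = D := by rw [← hzC, ← hwD, hsmul, hjz]
  have hjE : ∀ E ∉ Δ, j • E = E := fun E hE => by
    obtain ⟨y, rfl⟩ := hsurj E
    rw [hsmul, hjfix y (hΔout y hE)]
  obtain ⟨E, hE, F, hF, hEF⟩ : ∃ E ∈ (insert C₀ Δ)ᶜ, ∃ F ∈ (insert C₀ Δ)ᶜ, E ≠ F := by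
    refine Finset.one_lt_card.mp ?_
    rw [Finset.card_compl, Finset.card_insert_of_notMem hC₀Δ]; omega
  simp only [Finset.mem_compl, Finset.mem_insert, not_or] at hE hF
  have hCE : C ≠ E := fun h => hE.2 (h ▸ hC)
  have hCF : C ≠ F := fun h => hF.2 (h ▸ hC)
  have hDE : D ≠ E := fun h => hE.2 (h ▸ hD)
  have hC0C : C₀ ≠ C := fun h => hC₀Δ (h ▸ hC)
  have hC0D : C₀ ≠ D := fun h => hC₀Δ (h ▸ hD)
  obtain ⟨T, hT⟩ := hall (Equiv.swap C E * Equiv.swap E F) (by
    rw [map_mul, sign_swap hCE, sign_swap hEF]; decide)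
  have hTC₀ : T • C₀ = C₀ := by
    have := DFunLike.congr_fun hT C₀
    simp only [MulAction.toPerm_apply, Perm.mul_apply] at this
    rwa [Equiv.swap_apply_of_ne_of_ne (Ne.symm hE.1) (Ne.symm hF.1),
      Equiv.swap_apply_of_ne_of_ne hC0C (Ne.symm hE.1)] at this
  have hQP : P (j * (T * j⁻¹ * T⁻¹)) :=
    hPmul _ _ (hPj j hjfix) (hPconj _ _ (hPinv _ (hPj j hjfix)) hTC₀)
  have hQ : (toPerm (j * (T * j⁻¹ * T⁻¹)) : Perm β) = Equiv.swap E D * Equiv.swap E C := by
    have h1 : ((MulAction.toPermHom G β) j) * (Equiv.swap C E * Equiv.swap E F)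
        * ((MulAction.toPermHom G β) j)⁻¹ = Equiv.swap D E * Equiv.swap E F := by
      have h2 : ∀ p q : β, (MulAction.toPermHom G β) j * Equiv.swap p q
          * ((MulAction.toPermHom G β) j)⁻¹ = Equiv.swap (j • p) (j • q) := fun p q => by
        rw [← Equiv.swap_apply_apply]; rfl
      calc _ = ((MulAction.toPermHom G β) j * Equiv.swap C E * ((MulAction.toPermHom G β) j)⁻¹)
            * ((MulAction.toPermHom G β) j * Equiv.swap E F
              * ((MulAction.toPermHom G β) j)⁻¹) := by group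
        _ = _ := by rw [h2, h2, hjC, hjE E hE.2, hjE F hF.2]
    have hT' : (MulAction.toPermHom G β) T = Equiv.swap C E * Equiv.swap E F := hT
    change (MulAction.toPermHom G β) (j * (T * j⁻¹ * T⁻¹)) = _
    calc _ = ((MulAction.toPermHom G β) j * (MulAction.toPermHom G β) T
          * ((MulAction.toPermHom G β) j)⁻¹) * ((MulAction.toPermHom G β) T)⁻¹ := by
          simp only [map_mul, map_inv]; group
      _ = _ := by
          rw [hT', h1, mul_inv_rev, Equiv.swap_inv, Equiv.swap_inv, Equiv.swap_comm E D,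
            Equiv.swap_comm E C, mul_assoc, Equiv.swap_mul_self_mul]
  -- all even permutations fixing `C₀` fix its points
  let q : β → Prop := fun X => X ≠ C₀
  let E' : Subtype q := ⟨E, hE.1⟩
  let C' : Subtype q := ⟨C, Ne.symm hC0C⟩
  let D' : Subtype q := ⟨D, Ne.symm hC0D⟩
  let Good : Subgroup (Perm (Subtype q)) :=
    { carrier := {τ | ∃ g : G, (toPerm g : Perm β) = Perm.ofSubtype τ ∧ P g}
      one_mem' := ⟨1, by ext X; simp, fun z _ => one_smul _ z⟩
      mul_mem' := by
        rintro τ₁ τ₂ ⟨g, hg, hgP⟩ ⟨h, hh, hhP⟩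
        refine ⟨g * h, ?_, hPmul g h hgP hhP⟩
        rw [map_mul, ← hg, ← hh]; ext X; simp [mul_smul]
      inv_mem' := by
        rintro τ ⟨g, hg, hgP⟩
        refine ⟨g⁻¹, ?_, hPinv g hgP⟩
        rw [map_inv, ← hg]; ext X; simp [Perm.inv_def] }
  have hc₀ : Equiv.swap E' D' * Equiv.swap E' C' ∈ Good :=
    ⟨_, by rw [hQ, map_mul, ofSubtype_swap_eq, ofSubtype_swap_eq], hQP⟩
  have hclose : Subgroup.closure {τ : Perm (Subtype q) | IsThreeCycle τ} ≤ Good := by
    rw [Subgroup.closure_le]
    intro τ hτ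
    have hc3 : IsThreeCycle (Equiv.swap E' D' * Equiv.swap E' C') :=
      isThreeCycle_swap_mul_swap_same (fun h => hDE (congrArg Subtype.val h).symm)
        (fun h => hCE (congrArg Subtype.val h).symm) (fun h => hCD (congrArg Subtype.val h).symm)
    obtain ⟨π, hπ⟩ := isConj_iff.mp
      ((isConj_iff_cycleType_eq).mpr (hc3.trans hτ.symm :
        (Equiv.swap E' D' * Equiv.swap E' C').cycleType = τ.cycleType))
    have main : ∀ π : Perm (Subtype q), sign π = 1 → ∀ c ∈ Good, π * c * π⁻¹ ∈ Good := by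
      intro π hπs c hc
      obtain ⟨g, hg, hgP⟩ := hc
      obtain ⟨h, hh⟩ := hall (Perm.ofSubtype π) (by rw [sign_ofSubtype, hπs])
      refine ⟨h * g * h⁻¹, ?_, hPconj g h hgP ?_⟩
      · rw [map_mul, map_mul, map_inv, ← hg, ← hh]; ext X; simp [mul_smul, Perm.inv_def]
      · have := DFunLike.congr_fun hh C₀
        rwa [MulAction.toPerm_apply, Perm.ofSubtype_apply_of_not_mem _ (by simp [q])] at this
    rcases Int.units_eq_one_or (sign π) with hs | hs
    · exact hπ ▸ main π hs _ hc₀
    · have hCD' : C' ≠ D' := fun h => hCD (congrArg Subtype.val h)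
      have hs' : sign (π * Equiv.swap C' D') = 1 := by
        rw [map_mul, hs, sign_swap hCD']; decide
      have h2 := main _ hs' _ (Good.inv_mem hc₀)
      have h3 : Equiv.swap C' D' * (Equiv.swap E' D' * Equiv.swap E' C')⁻¹
          * (Equiv.swap C' D')⁻¹ = Equiv.swap E' D' * Equiv.swap E' C' := by
        have hh : ∀ p r, Equiv.swap C' D' * Equiv.swap p r * (Equiv.swap C' D')⁻¹
            = Equiv.swap (Equiv.swap C' D' p) (Equiv.swap C' D' r) :=
          fun p r => (Equiv.swap_apply_apply _ p r).symm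
        have hE'C : E' ≠ C' := fun h => hCE (congrArg Subtype.val h).symm
        have hE'D : E' ≠ D' := fun h => hDE (congrArg Subtype.val h).symm
        rw [mul_inv_rev, Equiv.swap_inv, Equiv.swap_inv]
        calc _ = (Equiv.swap C' D' * Equiv.swap E' C' * (Equiv.swap C' D')⁻¹)
              * (Equiv.swap C' D' * Equiv.swap E' D' * (Equiv.swap C' D')⁻¹) := by group
          _ = _ := by
              rw [hh, hh, Equiv.swap_apply_of_ne_of_ne hE'C hE'D, Equiv.swap_apply_left,
                Equiv.swap_apply_right]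
      rw [show π * Equiv.swap C' D' * (Equiv.swap E' D' * Equiv.swap E' C')⁻¹
          * (π * Equiv.swap C' D')⁻¹ = π * (Equiv.swap C' D'
            * (Equiv.swap E' D' * Equiv.swap E' C')⁻¹ * (Equiv.swap C' D')⁻¹) * π⁻¹ by group,
        h3, hπ] at h2
      exact h2
  -- the even elements are transitive
  let N : Subgroup G := (sign.comp (MulAction.toPermHom G β)).ker
  have hNmem : ∀ g, g ∈ N ↔ sign (toPerm g : Perm β) = 1 := fun g => Iff.rfl
  have hN1 : N ≠ ⊥ := by
    intro h
    have hT1 : T ∈ N := (hNmem T).mpr (by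
      rw [hT, map_mul, sign_swap hCE, sign_swap hEF]; decide)
    rw [h, Subgroup.mem_bot] at hT1
    have := DFunLike.congr_fun hT F
    simp only [hT1, MulAction.toPerm_apply, one_smul, Perm.mul_apply, Equiv.swap_apply_right,
      Equiv.swap_apply_right] at this
    exact hCF this.symm
  haveI := hqp N (MonoidHom.normal_ker _) hN1
  obtain ⟨α₁, hα₁, hne⟩ : ∃ α₁, bl α₁ = C₀ ∧ α₁ ≠ α₀ := by
    obtain ⟨α₁, h1, h2⟩ := Finset.exists_mem_ne (s := Finset.univ.filter fun z => bl z = C₀)
      (by rw [hfibre]; omega) α₀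
    exact ⟨α₁, (Finset.mem_filter.mp h1).2, h2⟩
  obtain ⟨⟨g, hg⟩, hgα⟩ := MulAction.exists_smul_eq N α₀ α₁
  have hgC : g • C₀ = C₀ := by
    rw [hC₀, hsmul, show g • α₀ = α₁ from hgα]; exact hα₁
  have hstab : ∀ X, q ((toPerm g : Perm β) X) ↔ q X := fun X => by
    simp only [q, MulAction.toPerm_apply, ne_eq, not_iff_not]
    constructor
    · intro h; exact MulAction.injective g (h.trans hgC.symm)
    · intro h; rw [h, hgC]
  have hsupp : ∀ X, (toPerm g : Perm β) X ≠ X → q X := fun X hX h => hX (by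
    rw [h, MulAction.toPerm_apply, hgC])
  have hmem : Perm.subtypePerm (toPerm g : Perm β) hstab ∈ Good := by
    refine hclose ?_
    rw [closure_three_cycles_eq_alternating, mem_alternatingGroup,
      sign_subtypePerm _ hstab hsupp]
    exact (hNmem g).mp hg
  obtain ⟨g', hg', hg'P⟩ := hmem
  rw [ofSubtype_subtypePerm hstab hsupp] at hg'
  have : g' = g := FaithfulSMul.eq_of_smul_eq_smul (α := β) fun X => by
    simpa using DFunLike.congr_fun hg' X
  exact hne (by rw [← show g • α₀ = α₁ from hgα]; exact (this ▸ hg'P) α₀ rfl)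

omit [DecidableEq Ω] in
/-- A quasiprimitive group with a Jordan set of size below one half of the degree induces all even
permutations. -/
theorem even_of_quasiprimitive [DecidableEq Ω] [FaithfulSMul G Ω]
    (hqp : ∀ N : Subgroup G, N.Normal → N ≠ ⊥ → IsPretransitive N Ω) (hJ : IsJordanSet G Γ)
    (hΓ1 : 1 < Γ.card) (hΓ : 2 * Γ.card < Fintype.card Ω) (σ : Perm Ω) (hσ : sign σ = 1) :
    ∃ x : G, (toPerm x : Perm Ω) = σ :=
  even_of_quasiprimitive_aux (Fintype.card Ω) Ω Γ rfl hqp hJ hΓ1 hΓ σ hσ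

end Cfsg.Agent.Grp.JordanSet
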