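import Cfsg.Agent.Lib.Grp.LargeExtraImage
import Cfsg.Agent.Lib.Grp.Components
import Cfsg.Agent.Lib.Grp.Frattini
import Cfsg.Prelude.Def_MonsterType

/-!
The global structure of a group with a large extraspecial subgroup.
-/

set_option autoImplicit false
set_option linter.style.haveILetI false
set_option linter.unusedSectionVars false

namespace Cfsg.Agent.Grp.LargeExtraStructure

open Subgroup
open scoped commutatorElement Pointwise
open ExtraCentSimple (mem_zpowers_cases)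

variable {G : Type*} [Group G] [Finite G] {z : G} {Q : Subgroup G}

theorem ext_of_large (hQ : Cfsg.IsLargeExtraspecial Q)
    (hz : (Subgroup.center ↥Q).map Q.subtype = zpowers z) : Spor.ExtraPair.Ext z Q := by
  obtain ⟨hE, hC, hN, -⟩ := hQ
  have hord : orderOf z = 2 := by
    rw [← Nat.card_zpowers, ← hz, Subgroup.card_map_of_injective Subtype.val_injective]; exact hE.2
  have hzz : z * z = 1 := by rw [← pow_two, ← hord, pow_orderOf_eq_one]
  have hmem : ∀ x, x ∈ (Subgroup.center ↥Q).map Q.subtype → x = 1 ∨ x = z := fun x hx =>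
    mem_zpowers_cases hzz (hz ▸ hx)
  have hzZ : z ∈ (Subgroup.center ↥Q).map Q.subtype := hz ▸ mem_zpowers z
  have hzQ : z ∈ Q := map_subtype_le _ hzZ
  obtain ⟨hsq, hcomm⟩ := Fus.extraspecial_two_facts hE
  refine ⟨hzQ, fun e => by rw [e, orderOf_one] at hord; omega, hzz, ?_, ?_, ?_, ?_, ?_, ?_⟩
  · intro q hq
    obtain ⟨c, hc, hce⟩ := hzZ
    rw [← hce]
    exact congrArg Subtype.val (mem_center_iff.1 hc ⟨q, hq⟩)
  · intro x hx y hy
    exact hmem _ ⟨⁅⟨x, hx⟩, ⟨y, hy⟩⁆, hcomm _ _, rfl⟩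
  · intro x hx
    refine hmem _ ⟨⟨x, hx⟩ ^ 2, hsq _, ?_⟩
    simp [pow_two]
  · intro x hx h
    exact hmem x ⟨⟨x, hx⟩, mem_center_iff.2 fun q => Subtype.ext (h q q.2), rfl⟩
  · intro c hc
    have : c ∈ centralizer (Q : Set G) := mem_centralizer_iff.2 hc
    rw [hC] at this
    exact map_subtype_le _ this
  · intro c hc q hq
    refine (mem_normalizer_iff.1 (hN (mem_centralizer_iff.2 fun v hv => ?_)) q).1 hq
    rcases hmem v hv with rfl | rfl
    · rw [one_mul, mul_one]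
    · exact hc.symm

/-- A nonabelian simple group has no Sylow 2-subgroup of order at most two. -/
theorem sylow_two_lt {L : Type*} [Group L] [Finite L] [IsSimpleGroup L] (hna : ¬ IsMulCommutative L)
    (h2L : 2 ∣ Nat.card L) (T : Subgroup L) (hT : ∀ x ∈ T, ∀ y ∈ T, x = 1 ∨ y = 1 ∨ x = y) (P : Sylow 2 L) : ¬ (P : Subgroup L) ≤ T := by
  intro hle
  haveI : Fact (Nat.Prime 2) := ⟨Nat.prime_two⟩
  have hc : Subgroup.normalizer ((P : Subgroup L) : Set L) ≤ centralizer ((P : Subgroup L) : Set L) :=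
    fun n hn => mem_centralizer_iff.2 fun v hv => by
      have hv' : n * v * n⁻¹ ∈ (P : Subgroup L) := (mem_normalizer_iff.1 hn v).1 hv
      rcases hT _ (hle hv') _ (hle hv) with e | e | e
      · rw [conj_eq_one_iff.1 e, one_mul, mul_one]
      · rw [e, one_mul, mul_one]
      · exact (mul_inv_eq_iff_eq_mul.1 e).symm
  have hcomp := MonoidHom.ker_transferSylow_isComplement' P hc
  have hcomm : IsMulCommutative (P : Subgroup L) := ⟨⟨fun a b => Subtype.ext
    (mem_centralizer_iff.1 (hc (le_normalizer b.2)) a a.2)⟩⟩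
  rcases IsSimpleGroup.eq_bot_or_eq_top_of_normal (MonoidHom.transferSylow P hc).ker inferInstance with e | e
  · rw [e, isComplement'_bot_left] at hcomp
    exact hna ⟨⟨fun a b => congrArg Subtype.val (hcomm.is_comm.comm (⟨a, hcomp ▸ mem_top a⟩ : (P : Subgroup L))
      ⟨b, hcomp ▸ mem_top b⟩)⟩⟩
  · refine MonoidHom.not_dvd_card_ker_transferSylow P hc ?_
    rw [e, Subgroup.card_top]
    exact h2L

/-- The common setting. -/
structure Setting (z : G) (Q : Subgroup G) : Prop where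
  ext : Spor.ExtraPair.Ext z Q
  two : IsPGroup 2 Q
  odd : ∀ K : Subgroup G, Odd (Nat.card K) → Q ≤ Subgroup.normalizer (K : Set G) → K = ⊥

theorem Setting.mem_normal (s : Setting z Q) (N : Subgroup G) [N.Normal] (hN : N ≠ ⊥) : z ∈ N := by
  haveI : Fact (Nat.Prime 2) := ⟨Nat.prime_two⟩
  obtain ⟨S, hQS⟩ := s.two.exists_le_sylow
  haveI : Group.IsNilpotent (S : Subgroup G) := S.isPGroup'.isNilpotent
  haveI : (N.subgroupOf (S : Subgroup G)).Normal := inferInstance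
  have hne : N.subgroupOf (S : Subgroup G) ≠ ⊥ := fun e => hN (s.odd N
    (Nat.not_even_iff_odd.1 fun he => by
      obtain ⟨x, hx⟩ := exists_prime_orderOf_dvd_card' (G := N) 2 (even_iff_two_dvd.1 he)
      obtain ⟨S', hxS'⟩ := (IsPGroup.of_card (n := 1) (by
        rw [Nat.card_zpowers, Subgroup.orderOf_coe, hx, pow_one]) : IsPGroup 2 (zpowers (x : G))).exists_le_sylow
      obtain ⟨g, hg⟩ := MulAction.exists_smul_eq G S' S
      have h1 : g * x * g⁻¹ ∈ (S : Subgroup G) := by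
        rw [← hg, Sylow.coe_subgroup_smul]
        exact ⟨x, hxS' (mem_zpowers _), rfl⟩
      have h2 : (⟨g * x * g⁻¹, h1⟩ : (S : Subgroup G)) ∈ N.subgroupOf (S : Subgroup G) :=
        (inferInstance : N.Normal).conj_mem x x.2 g
      rw [e, Subgroup.mem_bot] at h2
      have h3 : (x : G) = 1 := conj_eq_one_iff.1 (congrArg Subtype.val h2)
      rw [show x = 1 from Subtype.ext h3, orderOf_one] at hx
      omega)
    (by rw [Subgroup.normalizer_eq_top]; exact le_top))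
  obtain ⟨x, hx, hx1⟩ := (Subgroup.ne_bot_iff_exists_ne_one).1 (Grp.inf_center_ne_bot _ hne) |>
    fun ⟨⟨x, hx⟩, h⟩ => (⟨x, hx, fun e => h (Subtype.ext e)⟩ : ∃ x, x ∈ N.subgroupOf (S : Subgroup G) ⊓ center (S : Subgroup G) ∧ x ≠ 1)
  have hc : ∀ q ∈ Q, q * (x : G) = (x : G) * q := fun q hq =>
    congrArg Subtype.val (mem_center_iff.1 hx.2 ⟨q, hQS hq⟩)
  rcases s.ext.cen x (s.ext.self x hc) hc with e | e
  · exact absurd (Subtype.ext e) hx1
  · exact e ▸ hx.1

theorem Setting.comp_not_cent (s : Setting z Q) {L : Subgroup G} (hL : Cfsg.IsComponent L)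
    (hLz : L ≤ centralizer ({z} : Set G)) : False := by
  haveI : Fact (Nat.Prime 2) := ⟨Nat.prime_two⟩
  haveI : Group.IsNilpotent Q := s.two.isNilpotent
  have hn : L ≤ Subgroup.normalizer (Q : Set G) := fun l hl => by
    have hlz : l * z = z * l := mem_centralizer_singleton_iff.1 (hLz hl)
    refine mem_normalizer_iff.2 fun q => ⟨fun hq => s.ext.norm l hlz q hq, fun hq => ?_⟩
    simpa [mul_assoc] using s.ext.norm l⁻¹ (show Commute l z from hlz).inv_left.eq _ hq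
  have hc := commutator_eq_bot_iff_le_centralizer.1 (component_centralizes_solvable hL inferInstance hn)
  refine IsComponent.ne_bot hL (eq_bot_of_perfect_of_comm (IsComponent.perfect hL) fun l hl => ?_)
  have h1 := mem_centralizer_iff.1 (hc hl)
  refine mem_centralizer_iff.2 fun m hm => ?_
  rcases s.ext.cen l (s.ext.self l h1) h1 with e | e
  · rw [e, one_mul, mul_one]
  · rw [e]; exact mem_centralizer_singleton_iff.1 (hLz hm)

theorem Setting.gfit_of_comm (s : Setting z Q) (M : Subgroup G) [M.Normal] (hzM : z ∈ M)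
    (hM : IsMulCommutative M) : Cfsg.generalizedFittingSubgroup G = Cfsg.pCore 2 G := by
  haveI : Fact (Nat.Prime 2) := ⟨Nat.prime_two⟩
  have hs : Group.IsSolvable M := isSolvable_of_comm fun a b => hM.is_comm.comm a b
  have hlay : Cfsg.layer G = ⊥ := by
    rw [Cfsg.layer, sSup_eq_bot]
    intro L hL
    exfalso
    exact s.comp_not_cent hL (fun l hl => mem_centralizer_singleton_iff.2
      (mem_centralizer_iff.1 (layer_le_centralizer_solvable M hs (IsComponent.le_layer hL hl)) z hzM).symm)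
  rw [Cfsg.generalizedFittingSubgroup, hlay, bot_sup_eq, fittingSubgroup_eq_iSup_pCore]
  refine le_antisymm (iSup_le fun q => ?_) (le_iSup (fun q : Nat.Primes => Cfsg.pCore (q : ℕ) G) ⟨2, Nat.prime_two⟩)
  by_cases hq : (q : ℕ) = 2
  · rw [hq]
  haveI : Fact (Nat.Prime (q : ℕ)) := ⟨q.2⟩
  haveI := pCore_isNormal (p := (q : ℕ)) (G := G)
  obtain ⟨n, hn⟩ := IsPGroup.iff_card.1 (pCore_isPGroup (p := (q : ℕ)) (G := G))
  rw [s.odd (Cfsg.pCore (q : ℕ) G) (hn ▸ (q.2.odd_of_ne_two hq).pow)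
    (by rw [Subgroup.normalizer_eq_top]; exact le_top)]
  exact bot_le

/-- The conclusion in the case of a nonabelian `M`. -/
theorem Setting.nonabelian (s : Setting z Q) {M : Subgroup G} [hMn : M.Normal] (hzM : z ∈ M)
    (hMmin : ∀ N : Subgroup G, N.Normal → N ≠ ⊥ → M ≤ N) (hM : ¬ IsMulCommutative M) :
    (M = Cfsg.generalizedFittingSubgroup G ∧ IsSimpleGroup ↥M ∧ ¬ IsMulCommutative ↥M) ∨
    (M = Cfsg.generalizedFittingSubgroup G ∧ ∃ (L : Subgroup G) (u : G), u ∈ Q ∧ IsSimpleGroup ↥L ∧ ¬ IsMulCommutative ↥L ∧ L ⊓ (L).map (MulAut.conj u).toMonoidHom = ⊥ ∧ (∀ x ∈ L, ∀ y ∈ (L).map (MulAut.conj u).toMonoidHom, x * y = y * x) ∧ L ⊔ (L).map (MulAut.conj u).toMonoidHom = M ∧ ∃ z₁ ∈ L, z = z₁ * (u * z₁ * u⁻¹) ∧ (∃ R : Sylow 2 ↥L, (R : Subgroup ↥L) = (Subgroup.centralizer ({z₁} : Set G)).subgroupOf L ∧ (frattini ↥(R : Subgroup ↥L)).map ((L.subtype).comp (R : Subgroup ↥L).subtype) ≤ Subgroup.zpowers z₁) ∧ Q ≠ (Cfsg.pCore 2 ↥(Subgroup.centralizer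 ({z} : Set G))).map (Subgroup.centralizer ({z} : Set G)).subtype) := by
  classical
  have h := s.ext
  haveI : Fact (Nat.Prime 2) := ⟨Nat.prime_two⟩
  haveI := fittingSubgroup_isNormal (G := G)
  have hM1 : M ≠ ⊥ := fun e => hM (by
    refine ⟨⟨fun a b => ?_⟩⟩
    have : ∀ c : M, c = 1 := fun c => Subtype.ext (by simpa [e] using c.2)
    rw [this a, this b])
  have hCM : centralizer (M : Set G) = ⊥ := by
    by_contra hne
    have := hMmin _ inferInstance hne
    exact hM ⟨⟨fun a b => Subtype.ext (mem_centralizer_iff.1 (this b.2) a a.2)⟩⟩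
  have hF : Cfsg.fittingSubgroup G = ⊥ := by
    by_contra hne
    haveI := fittingSubgroup_isNilpotent (G := G)
    have hne' : ((center ↥(Cfsg.fittingSubgroup G)).map (Cfsg.fittingSubgroup G).subtype) ≠ ⊥ := by
      rw [Ne, Subgroup.map_eq_bot_iff_of_injective _ Subtype.val_injective]
      intro e
      have hn : (⊤ : Subgroup (Cfsg.fittingSubgroup G)) ≠ ⊥ := fun e' => hne (by
        have := congrArg (Subgroup.map (Cfsg.fittingSubgroup G).subtype) e'
        simpa [← MonoidHom.range_eq_map] using this)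
      exact Grp.inf_center_ne_bot ⊤ hn (by rw [e, inf_bot_eq])
    have := hMmin _ inferInstance hne'
    refine hM ⟨⟨fun a b => ?_⟩⟩
    obtain ⟨c, hc, hce⟩ := this b.2
    obtain ⟨d, -, hde⟩ := this a.2
    refine Subtype.ext ?_
    show (a : G) * b = b * a
    rw [← hce, ← hde]
    exact congrArg Subtype.val (mem_center_iff.1 hc d)
  -- components
  have hcompM : ∀ L : Subgroup G, Cfsg.IsComponent L → L ≤ M := fun L hL => by
    rcases component_le_or_commute hL hMn.isSubnormal with e | e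
    · exact e
    · have := commutator_eq_bot_iff_le_centralizer.1 e
      rw [hCM, le_bot_iff] at this
      exact absurd this (IsComponent.ne_bot hL)
  have hlay : Cfsg.layer G = M := by
    refine le_antisymm (sSup_le hcompM) (hMmin _ inferInstance fun e => ?_)
    have h0 := centralizer_fitting_le_of_layer_eq_bot e
    rw [hF, le_bot_iff] at h0
    have h1 : z ∈ centralizer (((⊥ : Subgroup G)) : Set G) :=
      mem_centralizer_iff.2 fun y hy => by rw [Subgroup.mem_bot.1 hy, one_mul, mul_one]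
    rw [h0, Subgroup.mem_bot] at h1
    exact h.ne h1
  have hgfit : M = Cfsg.generalizedFittingSubgroup G := by
    rw [Cfsg.generalizedFittingSubgroup, hF, sup_bot_eq, hlay]
  have hZ : ∀ K : Subgroup G, Cfsg.IsComponent K → ∀ x ∈ K, x ∈ centralizer (K : Set G) → x = 1 :=
    fun K hK x hx hxc => by
      have := component_centralizer_inf_le_fitting hK (⟨hx, hxc⟩ : x ∈ K ⊓ centralizer (K : Set G))
      rwa [hF, Subgroup.mem_bot] at this
  have hsimple : ∀ K : Subgroup G, Cfsg.IsComponent K → IsSimpleGroup K ∧ ¬ IsMulCommutative K := fun K hK => by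
    have hc : center K = ⊥ := (Subgroup.eq_bot_iff_forall _).2 fun x hx => Subtype.ext
      (hZ K hK x x.2 (mem_centralizer_iff.2 fun y hy => congrArg Subtype.val (mem_center_iff.1 hx ⟨y, hy⟩)))
    haveI := hK.2.2
    have e : (K ⧸ center K) ≃* K := (QuotientGroup.quotientMulEquivOfEq hc).trans QuotientGroup.quotientBot
    haveI : Nontrivial K := (Subgroup.nontrivial_iff_ne_bot K).2 (IsComponent.ne_bot hK)
    exact ⟨e.isSimpleGroup_congr.1 hK.2.2, fun hcm => IsComponent.ne_bot hK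
      (eq_bot_of_perfect_of_comm (IsComponent.perfect hK) fun x hx => mem_centralizer_iff.2 fun y hy =>
        congrArg Subtype.val (hcm.is_comm.comm ⟨y, hy⟩ ⟨x, hx⟩))⟩
  obtain ⟨L₀, hL₀⟩ : ∃ L : Subgroup G, Cfsg.IsComponent L := by
    by_contra hne
    apply hM1
    rw [← hlay, Cfsg.layer, sSup_eq_bot]
    exact fun L hL => absurd ⟨L, hL⟩ hne
  -- choice of a component with a Sylow subgroup centralised by `z`
  obtain ⟨S, hQS⟩ := s.two.exists_le_sylow
  obtain ⟨L, hL, P, hzP⟩ : ∃ L : Subgroup G, Cfsg.IsComponent L ∧ ∃ P : Sylow 2 ↥L, ∀ x : ↥L, x ∈ (P : Subgroup ↥L) →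
      (x : G) * z = z * x := by
    have hzS : ∀ y ∈ (S : Subgroup G), y * z = z * y := by
      haveI : Group.IsNilpotent (S : Subgroup G) := S.isPGroup'.isNilpotent
      have hne : (⊤ : Subgroup (S : Subgroup G)) ≠ ⊥ := fun e => h.ne (by
        have hm : (⟨z, hQS h.mem⟩ : (S : Subgroup G)) ∈ (⊤ : Subgroup (S : Subgroup G)) := mem_top _
        rw [e] at hm
        exact congrArg Subtype.val (Subgroup.mem_bot.1 hm))
      obtain ⟨⟨c, hc⟩, hc1⟩ := (Subgroup.ne_bot_iff_exists_ne_one).1 (Grp.inf_center_ne_bot ⊤ hne)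
      have hcq : ∀ q ∈ Q, q * (c : G) = (c : G) * q := fun q hq =>
        congrArg Subtype.val (mem_center_iff.1 hc.2 ⟨q, hQS hq⟩)
      rcases h.cen c (h.self c hcq) hcq with e | e
      · exact absurd (Subtype.ext (Subtype.ext e)) hc1
      · intro y hy
        rw [← e]
        exact congrArg Subtype.val (mem_center_iff.1 hc.2 ⟨y, hy⟩)
    obtain ⟨P₀⟩ : Nonempty (Sylow 2 ↥L₀) := inferInstance
    obtain ⟨S', hS'⟩ := (P₀.isPGroup'.map L₀.subtype).exists_le_sylow
    obtain ⟨g, hg⟩ := MulAction.exists_smul_eq G S' S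
    obtain ⟨L, hLdef⟩ : ∃ L, L = L₀.map (MulAut.conj g).toMonoidHom := ⟨_, rfl⟩
    let e : ↥L₀ ≃* ↥L := (L₀.equivMapOfInjective (MulAut.conj g).toMonoidHom (MulAut.conj g).injective).trans
      (MulEquiv.subgroupCongr hLdef.symm)
    refine ⟨L, hLdef ▸ IsComponent.map_iso (MulAut.conj g) hL₀, P₀.mapSurjective (f := e.toMonoidHom) e.surjective, ?_⟩
    rintro x hx
    obtain ⟨w, hw, rfl⟩ : x ∈ (P₀ : Subgroup ↥L₀).map e.toMonoidHom := hx
    refine hzS _ ?_
    rw [← hg, Sylow.coe_subgroup_smul]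
    exact ⟨(w : G), hS' ⟨w, hw, rfl⟩, rfl⟩
  have hLM := hcompM L hL
  have hnorm : ∀ K : Subgroup G, Cfsg.IsComponent K → ∀ m ∈ M, ∀ x ∈ K, m * x * m⁻¹ ∈ K := by
    intro K hK m hm
    have hle : M ≤ Subgroup.normalizer (K : Set G) := by
      rw [← hlay]
      refine sSup_le fun K' hK' => ?_
      by_cases e : K' = K
      · exact e ▸ le_normalizer
      · exact (IsComponent.commute hK' hK e).trans (centralizer_le_normalizer _)
    exact fun x hx => (mem_normalizer_iff.1 (hle hm) x).1 hx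
  -- the alternative: a component normalised by `Q`
  by_cases hfix : ∀ q ∈ Q, L.map (MulAut.conj q).toMonoidHom = L
  · left
    have hQL : ∀ q ∈ Q, ∀ x ∈ L, q * x * q⁻¹ ∈ L := fun q hq x hx =>
      (hfix q hq).le ⟨x, hx, rfl⟩
    have hzL : z ∈ L := by
      by_contra hzL
      have hLQ : ∀ x ∈ L, x ∈ Q → x = 1 := fun x hx hxQ => by
        by_contra hx1
        have hcn : ∀ q ∈ Q, q * x = x * q := fun q hq => by
          rcases h.conj_cases hxQ hq with e | ⟨-, e⟩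
          · exact e
          · exfalso
            have := mul_mem (inv_mem hx) (hQL q hq x hx)
            rw [e, inv_mul_cancel_left] at this
            exact hzL this
        rcases h.cen x hxQ hcn with e | e
        · exact hx1 e
        · exact hzL (e ▸ hx)
      have hfree : ∀ x ∈ L, z * x = x * z → x = 1 := fun x hx hxz => by
        refine hLQ x hx (h.self x fun q hq => ?_)
        have h1 : q * x * q⁻¹ * x⁻¹ = 1 := hLQ _ (mul_mem (hQL q hq x hx) (inv_mem hx)) (by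
          rw [show q * x * q⁻¹ * x⁻¹ = q * (x * q⁻¹ * x⁻¹) by group]
          exact mul_mem hq (h.norm x hxz.symm _ (inv_mem hq)))
        exact mul_inv_eq_iff_eq_mul.1 (mul_inv_eq_one.1 h1)
      let φ : L →* L :=
        { toFun := fun x => ⟨z * x * z⁻¹, hQL z h.mem x x.2⟩
          map_one' := Subtype.ext (by simp)
          map_mul' := fun x y => Subtype.ext (by simp [mul_assoc]) }
      have hφ : MonoidHom.FixedPointFree φ := fun x hx =>
        Subtype.ext (hfree x x.2 (mul_inv_eq_iff_eq_mul.1 (congrArg Subtype.val hx)))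
      have h2 : Function.Involutive φ := fun x => Subtype.ext (by
        show z * (z * (x : G) * z⁻¹) * z⁻¹ = x
        rw [inv_eq_of_mul_eq_one_right h.zz]
        calc z * (z * (x : G) * z) * z = (z * z) * x * (z * z) := by group
          _ = x := by rw [h.zz, one_mul, mul_one])
      exact (hsimple L hL).2 ⟨⟨hφ.commute_all_of_involutive h2⟩⟩
    have hML : M = L := by
      refine le_antisymm ?_ hLM
      rw [← hlay]
      refine sSup_le fun K hK => ?_
      by_contra hne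
      exact s.comp_not_cent hK (fun k hk => mem_centralizer_singleton_iff.2
        (mem_centralizer_iff.1 (IsComponent.commute hK hL (fun e => hne e.le) hk) z hzL).symm)
    refine ⟨hgfit, ?_⟩
    rw [hML]
    exact hsimple L hL
  right
  simp only [not_forall] at hfix
  obtain ⟨u, hu, huL⟩ := hfix
  obtain ⟨L', hL'def⟩ : ∃ L', L' = L.map (MulAut.conj u).toMonoidHom := ⟨_, rfl⟩
  rw [← hL'def] at huL
  have hL' : Cfsg.IsComponent L' := hL'def ▸ IsComponent.map_iso (MulAut.conj u) hL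
  have hcom : L ≤ centralizer (L' : Set G) := IsComponent.commute hL hL' fun e => huL e.symm
  have hcomm : ∀ x ∈ L, ∀ y ∈ L', x * y = y * x := fun x hx y hy => (mem_centralizer_iff.1 (hcom hx) y hy).symm
  have hinf : L ⊓ L' = ⊥ := (Subgroup.eq_bot_iff_forall _).2 fun x hx =>
    hZ L hL x hx.1 (mem_centralizer_iff.2 fun y hy => hcomm y hy x hx.2)
  have huz : ∀ x, x * z = z * x → u * x * u⁻¹ * z = z * (u * x * u⁻¹) := fun x hx => by
    have e := h.central u hu
    calc u * x * u⁻¹ * z = u * x * (u⁻¹ * z) := by group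
      _ = u * x * (z * u⁻¹) := by rw [(show Commute u z from e).inv_left.eq]
      _ = u * (z * x) * u⁻¹ := by rw [← hx]; group
      _ = z * (u * x * u⁻¹) := by rw [← mul_assoc, e]; group
  have hmemL' : ∀ x ∈ L, u * x * u⁻¹ ∈ L' := fun x hx => hL'def ▸ ⟨x, hx, rfl⟩
  have hu2L : ∀ y ∈ L', ∃ x ∈ L, y = u * x * u⁻¹ := fun y hy => by
    rw [hL'def] at hy
    obtain ⟨x, hx, rfl⟩ := hy
    exact ⟨x, hx, rfl⟩
  -- the elements of `Q` coming from `C_L(z)`
  have hd : ∀ x ∈ L, x * z = z * x → x * (u * x⁻¹ * u⁻¹) ∈ Q := fun x hx hxz => by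
    rw [show x * (u * x⁻¹ * u⁻¹) = (x * u * x⁻¹) * u⁻¹ by group]
    exact mul_mem (h.norm x hxz u hu) (inv_mem hu)
  have hdne : ∀ x ∈ L, x * (u * x⁻¹ * u⁻¹) = 1 → x = 1 := fun x hx e => by
    have h1 : x ∈ L ⊓ L' := Subgroup.mem_inf.2 ⟨hx, by
      rw [eq_inv_of_mul_eq_one_left e]; exact inv_mem (hmemL' _ (inv_mem hx))⟩
    rwa [hinf, Subgroup.mem_bot] at h1
  -- `C_L(z)` is a nontrivial `2`-group
  obtain ⟨x₀, hx₀, hx₀z, hx₀1⟩ : ∃ x ∈ L, x * z = z * x ∧ x ≠ 1 := by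
    by_contra hne
    have hfree : ∀ x ∈ L, z * x = x * z → x = 1 := fun x hx e => by
      by_contra hx1; exact hne ⟨x, hx, e.symm, hx1⟩
    let φ : L →* L :=
      { toFun := fun x => ⟨z * x * z⁻¹, hnorm L hL z hzM x x.2⟩
        map_one' := Subtype.ext (by simp)
        map_mul' := fun x y => Subtype.ext (by simp [mul_assoc]) }
    have hφ : MonoidHom.FixedPointFree φ := fun x hx =>
      Subtype.ext (hfree x x.2 (mul_inv_eq_iff_eq_mul.1 (congrArg Subtype.val hx)))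
    have h2 : Function.Involutive φ := fun x => Subtype.ext (by
      show z * (z * (x : G) * z⁻¹) * z⁻¹ = x
      rw [inv_eq_of_mul_eq_one_right h.zz]
      calc z * (z * (x : G) * z) * z = (z * z) * x * (z * z) := by group
        _ = x := by rw [h.zz, one_mul, mul_one])
    exact (hsimple L hL).2 ⟨⟨hφ.commute_all_of_involutive h2⟩⟩
  have hd2 : ∀ x ∈ L, x * z = z * x →
      (x * (u * x⁻¹ * u⁻¹)) * (x * (u * x⁻¹ * u⁻¹)) = (x * x) * (u * (x⁻¹ * x⁻¹) * u⁻¹) := fun x hx _ => by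
    have e := hcomm x hx _ (hmemL' _ (inv_mem hx))
    calc (x * (u * x⁻¹ * u⁻¹)) * (x * (u * x⁻¹ * u⁻¹))
        = x * ((u * x⁻¹ * u⁻¹) * x) * (u * x⁻¹ * u⁻¹) := by group
      _ = x * (x * (u * x⁻¹ * u⁻¹)) * (u * x⁻¹ * u⁻¹) := by rw [e]
      _ = _ := by group
  have huniq : ∀ a ∈ L, ∀ b ∈ L', ∀ a' ∈ L, ∀ b' ∈ L', a * b = a' * b' → a = a' ∧ b = b' := by
    intro a ha b hb a' ha' b' hb' e
    have e1 : a'⁻¹ * a = b' * b⁻¹ := by
      calc a'⁻¹ * a = a'⁻¹ * (a * b) * b⁻¹ := by group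
        _ = b' * b⁻¹ := by rw [e]; group
    have h1 : a'⁻¹ * a ∈ L ⊓ L' := Subgroup.mem_inf.2 ⟨mul_mem (inv_mem ha') ha, e1 ▸ mul_mem hb' (inv_mem hb)⟩
    rw [hinf, Subgroup.mem_bot] at h1
    exact ⟨(inv_mul_eq_one.1 h1).symm, by rw [h1] at e1; exact (mul_inv_eq_one.1 e1.symm).symm⟩
  have hTpow : ∀ x ∈ L, x * z = z * x → x ^ 4 = 1 := fun x hx hxz => by
    have hsq := h.sq _ (hd x hx hxz)
    have h4 : ((x * (u * x⁻¹ * u⁻¹)) * (x * (u * x⁻¹ * u⁻¹))) ^ 2 = 1 := by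
      rcases hsq with e | e <;> rw [e]
      · exact one_pow 2
      · rw [pow_two, h.zz]
    rw [hd2 x hx hxz, Commute.mul_pow (hcomm _ (mul_mem hx hx) _ (hmemL' _ (mul_mem (inv_mem hx) (inv_mem hx))))] at h4
    have h5 : (x * x) ^ 2 = 1 := (huniq _ (pow_mem (mul_mem hx hx) 2) _
      (pow_mem (hmemL' _ (mul_mem (inv_mem hx) (inv_mem hx))) 2) 1 (one_mem _) 1 (one_mem _)
      (by rw [h4, one_mul])).1
    rw [← h5, ← pow_two, ← pow_mul]
  have h2L : 2 ∣ Nat.card L := by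
    have h1 : orderOf (⟨x₀, hx₀⟩ : L) ∣ 2 ^ 2 := orderOf_dvd_of_pow_eq_one (Subtype.ext (hTpow x₀ hx₀ hx₀z))
    obtain ⟨i, -, hi⟩ := (Nat.dvd_prime_pow Nat.prime_two).1 h1
    have hi0 : i ≠ 0 := fun e => hx₀1 (congrArg Subtype.val (orderOf_eq_one_iff.1 (by rw [hi, e, pow_zero])))
    exact (dvd_pow_self 2 hi0).trans (hi ▸ orderOf_dvd_natCard _)
  haveI := (hsimple L hL).1
  have hsmall : ∀ (c : G), c ∈ L → ¬ ∀ x ∈ L, x * z = z * x → x = 1 ∨ x = c := fun c hc hall => by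
    refine sylow_two_lt (hsimple L hL).2 h2L ((centralizer ({z} : Set G)).subgroupOf L) ?_ P fun x hx =>
      mem_centralizer_singleton_iff.2 (hzP x hx)
    intro x hx y hy
    rcases hall x x.2 (mem_centralizer_singleton_iff.1 hx) with e | e
    · exact Or.inl (Subtype.ext e)
    rcases hall y y.2 (mem_centralizer_singleton_iff.1 hy) with e' | e'
    · exact Or.inr (Or.inl (Subtype.ext e'))
    · exact Or.inr (Or.inr (Subtype.ext (e.trans e'.symm)))
  -- `Q` permutes the two components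
  have hperm : ∀ v ∈ Q, L.map (MulAut.conj v).toMonoidHom = L ∨ L.map (MulAut.conj v).toMonoidHom = L' := by
    intro v hv
    by_contra hne
    rw [not_or] at hne
    obtain ⟨K, hKdef⟩ : ∃ K, K = L.map (MulAut.conj v).toMonoidHom := ⟨_, rfl⟩
    rw [← hKdef] at hne
    have hK : Cfsg.IsComponent K := hKdef ▸ IsComponent.map_iso (MulAut.conj v) hL
    obtain ⟨K', hK'def⟩ : ∃ K', K' = L'.map (MulAut.conj v).toMonoidHom := ⟨_, rfl⟩
    have hK' : Cfsg.IsComponent K' := hK'def ▸ IsComponent.map_iso (MulAut.conj v) hL'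
    have hne' : K' ≠ K := fun e => huL (Subgroup.map_injective (MulAut.conj v).injective
      (hK'def.symm.trans (e.trans hKdef)))
    have hvK : ∀ x ∈ L, v * x * v⁻¹ ∈ K := fun x hx => hKdef ▸ ⟨x, hx, rfl⟩
    have hcK : ∀ y, (y ∈ L ∨ y ∈ L' ∨ y ∈ K') → y ∈ centralizer (K : Set G) := by
      rintro y (hy | hy | hy)
      · exact IsComponent.commute hL hK (fun e => hne.1 e.symm) hy
      · exact IsComponent.commute hL' hK (fun e => hne.2 e.symm) hy
      · exact IsComponent.commute hK' hK hne' hy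
    have hdc : ∀ x ∈ L, x * (u * x⁻¹ * u⁻¹) ∈ centralizer (K : Set G) := fun x hx =>
      mul_mem (hcK _ (Or.inl hx)) (hcK _ (Or.inr (Or.inl (hmemL' _ (inv_mem hx)))))
    have hv2 : ∀ x ∈ L, v * (u * x⁻¹ * u⁻¹) * v⁻¹ ∈ centralizer (K : Set G) := fun x hx =>
      hcK _ (Or.inr (Or.inr (hK'def ▸ ⟨_, hmemL' _ (inv_mem hx), rfl⟩)))
    have hzc : ∀ x ∈ L, x * z = z * x → x ≠ 1 → z = (x * (u * x⁻¹ * u⁻¹))⁻¹ * (v * x * v⁻¹) * (v * (u * x⁻¹ * u⁻¹) * v⁻¹) := by
      intro x hx hxz hx1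
      rcases h.conj_cases (hd x hx hxz) hv with e | ⟨-, e⟩
      · exfalso
        have e' : v * x * v⁻¹ = (x * (u * x⁻¹ * u⁻¹)) * (v * (u * x⁻¹ * u⁻¹) * v⁻¹)⁻¹ := by
          calc v * x * v⁻¹ = (v * (x * (u * x⁻¹ * u⁻¹))) * v⁻¹ * (v * (u * x⁻¹ * u⁻¹) * v⁻¹)⁻¹ := by group
            _ = _ := by rw [e]; group
        have h1 : v * x * v⁻¹ ∈ centralizer (K : Set G) := e' ▸ mul_mem (hdc x hx) (inv_mem (hv2 x hx))
        exact hx1 (conj_eq_one_iff.1 (hZ K hK _ (hvK x hx) h1))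
      · calc z = (x * (u * x⁻¹ * u⁻¹))⁻¹ * ((x * (u * x⁻¹ * u⁻¹)) * z) := (inv_mul_cancel_left _ _).symm
          _ = (x * (u * x⁻¹ * u⁻¹))⁻¹ * (v * (x * (u * x⁻¹ * u⁻¹)) * v⁻¹) := by rw [e]
          _ = _ := by group
    refine hsmall x₀ hx₀ fun y hy hyz => ?_
    by_cases hy1 : y = 1
    · exact Or.inl hy1
    right
    have e := (hzc y hy hyz hy1).symm.trans (hzc x₀ hx₀ hx₀z hx₀1)
    have h1 : (v * x₀ * v⁻¹)⁻¹ * (v * y * v⁻¹) ∈ centralizer (K : Set G) := by
      have hA := hdc y hy; have hB := hdc x₀ hx₀; have hC := hv2 y hy; have hD := hv2 x₀ hx₀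
      have hkey : ∀ c ∈ centralizer (K : Set G), ∀ k ∈ K, c * k = k * c := fun c hc k hk =>
        (mem_centralizer_iff.1 hc k hk).symm
      have e1 := hkey _ (inv_mem hA) _ (hvK y hy)
      have e2 := hkey _ (inv_mem hB) _ (hvK x₀ hx₀)
      rw [e1, e2] at e
      have e3 : (v * x₀ * v⁻¹)⁻¹ * (v * y * v⁻¹) = ((x₀ * (u * x₀⁻¹ * u⁻¹))⁻¹ * (v * (u * x₀⁻¹ * u⁻¹) * v⁻¹)) *
          ((y * (u * y⁻¹ * u⁻¹))⁻¹ * (v * (u * y⁻¹ * u⁻¹) * v⁻¹))⁻¹ := by
        rw [eq_mul_inv_iff_mul_eq]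
        calc _ = (v * x₀ * v⁻¹)⁻¹ * ((v * y * v⁻¹) * (y * (u * y⁻¹ * u⁻¹))⁻¹ * (v * (u * y⁻¹ * u⁻¹) * v⁻¹)) := by group
          _ = (v * x₀ * v⁻¹)⁻¹ * ((v * x₀ * v⁻¹) * (x₀ * (u * x₀⁻¹ * u⁻¹))⁻¹ * (v * (u * x₀⁻¹ * u⁻¹) * v⁻¹)) := by rw [e]
          _ = _ := by group
      rw [e3]
      exact mul_mem (mul_mem (inv_mem hB) hD) (inv_mem (mul_mem (inv_mem hA) hC))
    have h2 : (v * x₀ * v⁻¹)⁻¹ * (v * y * v⁻¹) ∈ K := mul_mem (inv_mem (hvK x₀ hx₀)) (hvK y hy)
    have h3 := hZ K hK _ h2 h1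
    have h4 : v * (x₀⁻¹ * y) * v⁻¹ = 1 := by rw [← h3]; group
    exact (inv_mul_eq_one.1 (conj_eq_one_iff.1 h4)).symm
  obtain ⟨N, hNdef⟩ : ∃ N, N = L ⊔ L' := ⟨_, rfl⟩
  have hLN : L ≤ N := hNdef ▸ le_sup_left
  have hL'N : L' ≤ N := hNdef ▸ le_sup_right
  have hNmem : ∀ m ∈ N, ∃ a ∈ L, ∃ b ∈ L', m = a * b := fun m hm => by
    rw [hNdef, ← SetLike.mem_coe, Subgroup.coe_mul_of_left_le_normalizer_right _ _
      (hcom.trans (centralizer_le_normalizer _))] at hm
    obtain ⟨a, ha, b, hb, rfl⟩ := Set.mem_mul.1 hm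
    exact ⟨a, ha, b, hb, rfl⟩
  have hvperm : ∀ v ∈ Q, ∀ x ∈ L, v * x * v⁻¹ ∈ N := fun v hv x hx => by
    rcases hperm v hv with e | e
    · exact hLN (e.le ⟨x, hx, rfl⟩)
    · exact hL'N (e.le ⟨x, hx, rfl⟩)
  have hQN : ∀ v ∈ Q, ∀ m ∈ N, v * m * v⁻¹ ∈ N := fun v hv m hm => by
    obtain ⟨a, ha, b, hb, rfl⟩ := hNmem m hm
    obtain ⟨b', hb', rfl⟩ := hu2L b hb
    rw [← conj_mul, show v * (u * b' * u⁻¹) * v⁻¹ = (v * u) * b' * (v * u)⁻¹ by group]
    exact mul_mem (hvperm v hv a ha) (hvperm _ (mul_mem hv hu) b' hb')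
  have hzN : z ∈ N := by
    have hd0 : x₀ * (u * x₀⁻¹ * u⁻¹) ∈ N := mul_mem (hLN hx₀) (hL'N (hmemL' _ (inv_mem hx₀)))
    by_contra hzN
    have hcn : ∀ q ∈ Q, q * (x₀ * (u * x₀⁻¹ * u⁻¹)) = (x₀ * (u * x₀⁻¹ * u⁻¹)) * q := fun q hq => by
      rcases h.conj_cases (hd x₀ hx₀ hx₀z) hq with e | ⟨-, e⟩
      · exact e
      · exfalso
        have := mul_mem (inv_mem hd0) (hQN q hq _ hd0)
        rw [e, inv_mul_cancel_left] at this
        exact hzN this
    rcases h.cen _ (hd x₀ hx₀ hx₀z) hcn with e | e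
    · exact hx₀1 (hdne x₀ hx₀ e)
    · exact hzN (e ▸ hd0)
  have hML : L ⊔ L' = M := by
    refine le_antisymm (sup_le hLM (hcompM L' hL')) ?_
    rw [← hlay]
    refine sSup_le fun K hK => ?_
    by_contra hne
    refine s.comp_not_cent hK fun k hk => ?_
    obtain ⟨a, ha, b, hb, e⟩ := hNmem z hzN
    refine mem_centralizer_singleton_iff.2 ?_
    have h1 := mem_centralizer_iff.1 (IsComponent.commute hK hL (fun e => hne (e.le.trans le_sup_left)) hk) a ha
    have h2 := mem_centralizer_iff.1 (IsComponent.commute hK hL' (fun e => hne (e.le.trans le_sup_right)) hk) b hb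
    rw [e]
    exact ((show Commute a k from h1).mul_left (show Commute b k from h2)).symm.eq
  obtain ⟨z₁, hz₁, z₂, hz₂, hzeq⟩ := hNmem z hzN
  have hz₂eq : z₂ = u * z₁ * u⁻¹ := by
    have e : u * z * u⁻¹ = z := by rw [h.central u hu, mul_inv_cancel_right]
    obtain ⟨b', hb', hb⟩ := hu2L z₂ hz₂
    have hb'' : u * z₂ * u⁻¹ ∈ L := by
      have hmem : u * z₂ * u⁻¹ = (u * u) * b' * (u * u)⁻¹ := by rw [hb]; group
      rcases h.sq u hu with e2 | e2
      · rw [hmem, e2]; simpa using hb'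
      · rw [hmem, e2]; exact hnorm L hL z hzM b' hb'
    have e3 : (u * z₂ * u⁻¹) * (u * z₁ * u⁻¹) = z₁ * z₂ := by
      rw [hcomm _ hb'' _ (hmemL' z₁ hz₁), conj_mul, ← hzeq, e]
    exact (huniq _ hb'' _ (hmemL' z₁ hz₁) _ hz₁ _ hz₂ e3).2.symm
  have hz₁1 : z₁ ≠ 1 := fun e => h.ne (by rw [hzeq, hz₂eq, e]; group)
  have hcent : ∀ x ∈ L, (x * z = z * x ↔ x * z₁ = z₁ * x) := fun x hx => by
    have e := hcomm x hx z₂ hz₂
    constructor
    · intro hxz
      rw [hzeq] at hxz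
      refine mul_right_cancel (b := z₂) ?_
      rw [mul_assoc, hxz, mul_assoc z₁ x z₂, e, ← mul_assoc]
    · intro hxz
      rw [hzeq, ← mul_assoc, hxz, mul_assoc, e, ← mul_assoc]
  have hz₁z : z₁ * z = z * z₁ := (hcent z₁ hz₁).2 rfl
  have hz₁z₁ : z₁ * z₁ = 1 := by
    have e := h.zz
    rw [hzeq] at e
    refine (huniq _ (mul_mem hz₁ hz₁) _ (mul_mem hz₂ hz₂) 1 (one_mem _) 1 (one_mem _) ?_).1
    calc z₁ * z₁ * (z₂ * z₂) = z₁ * (z₁ * z₂) * z₂ := by group
      _ = z₁ * (z₂ * z₁) * z₂ := by rw [hcomm z₁ hz₁ z₂ hz₂]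
      _ = z₁ * z₂ * (z₁ * z₂) := by group
      _ = 1 * 1 := by rw [e, one_mul]
  refine ⟨hgfit, L, u, hu, (hsimple L hL).1, (hsimple L hL).2, hL'def ▸ hinf, hL'def ▸ hcomm, hL'def ▸ hML,
    z₁, hz₁, hz₂eq ▸ hzeq, ?_, ?_⟩
  · obtain ⟨R, hR⟩ : ∃ R, R = (centralizer ({z₁} : Set G)).subgroupOf L := ⟨_, rfl⟩
    have hRmem : ∀ x : L, x ∈ R ↔ (x : G) * z = z * x := fun x => by
      rw [hR, Subgroup.mem_subgroupOf, mem_centralizer_singleton_iff]
      exact (hcent x x.2).symm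
    have hRp : IsPGroup 2 R := fun x => ⟨2, Subtype.ext (Subtype.ext (by
      show ((x : L) : G) ^ 2 ^ 2 = 1
      exact hTpow _ x.1.2 ((hRmem x).1 x.2)))⟩
    have hPR : (P : Subgroup L) ≤ R := fun x hx => (hRmem x).2 (hzP x hx)
    have hPeq := P.is_maximal' hRp hPR
    refine ⟨P, hPeq.symm.trans hR, ?_⟩
    rintro _ ⟨x, hx, rfl⟩
    let w : (P : Subgroup L) := ⟨⟨z₁, hz₁⟩, hPeq.le ((hRmem _).2 hz₁z)⟩
    have hwcen : zpowers w ≤ center (P : Subgroup L) := by
      rw [zpowers_le, mem_center_iff]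
      exact fun y => Subtype.ext (Subtype.ext ((hcent _ y.1.2).1 ((hRmem _).1 (hPeq.ge y.2))))
    haveI : (zpowers w).Normal := ⟨fun a ha g => by
      rw [mem_center_iff.1 (hwcen ha) g, mul_inv_cancel_right]; exact ha⟩
    have hsqw : ∀ y : (P : Subgroup L), y * y ∈ zpowers w := fun y => by
      have hy := y.1.2
      have hyz := (hRmem _).1 (hPeq.ge y.2)
      have hq := h.sq _ (hd _ hy hyz)
      rw [hd2 _ hy hyz] at hq
      have hmem1 := mul_mem hy hy
      have hmem2 := hmemL' _ (mul_mem (inv_mem hy) (inv_mem hy))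
      rcases hq with e | e
      · have := (huniq _ hmem1 _ hmem2 1 (one_mem _) 1 (one_mem _) (by rw [e, one_mul])).1
        rw [show y * y = 1 from Subtype.ext (Subtype.ext this)]
        exact one_mem _
      · have := (huniq _ hmem1 _ hmem2 _ hz₁ _ hz₂ (e.trans hzeq)).1
        rw [show y * y = w from Subtype.ext (Subtype.ext this)]
        exact mem_zpowers w
    have hfr : frattini ((P : Subgroup L) ⧸ zpowers w) = ⊥ := by
      have hsq1 : ∀ a : (P : Subgroup L) ⧸ zpowers w, a * a = 1 := fun a => by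
        obtain ⟨a, rfl⟩ := QuotientGroup.mk'_surjective _ a
        rw [← map_mul]
        exact (QuotientGroup.eq_one_iff _).2 (hsqw a)
      refine Grp.frattini_eq_bot_of_exponent Nat.prime_two (fun a b => ?_) fun a => by rw [pow_two]; exact hsq1 a
      calc a * b = (a * b)⁻¹ := (inv_eq_of_mul_eq_one_right (hsq1 _)).symm
        _ = b⁻¹ * a⁻¹ := mul_inv_rev a b
        _ = b * a := by rw [inv_eq_of_mul_eq_one_right (hsq1 a), inv_eq_of_mul_eq_one_right (hsq1 b)]
    have h2 : frattini (P : Subgroup L) ≤ (frattini ((P : Subgroup L) ⧸ zpowers w)).comap (QuotientGroup.mk' (zpowers w)) :=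
      frattini_le_comap_frattini_of_surjective (QuotientGroup.mk'_surjective _)
    rw [hfr, MonoidHom.comap_bot, QuotientGroup.ker_mk'] at h2
    obtain ⟨k, hk⟩ := h2 hx
    refine ⟨k, ?_⟩
    rw [← hk]
    simp [w]
  · intro hQeq
    have hzC : centralizer ({z} : Set G) ≤ Subgroup.normalizer (M : Set G) := by
      rw [Subgroup.normalizer_eq_top]; exact le_top
    obtain ⟨D, hD⟩ : ∃ D, D = (M ⊓ centralizer ({z} : Set G)).subgroupOf (centralizer ({z} : Set G)) := ⟨_, rfl⟩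
    haveI : D.Normal := by rw [hD, Subgroup.inf_subgroupOf_right]; infer_instance
    have hDp : IsPGroup 2 D := fun m => by
      have hm : ((m : centralizer ({z} : Set G)) : G) ∈ M ⊓ centralizer ({z} : Set G) := by
        have h' := m.2
        simp only [hD, Subgroup.mem_subgroupOf] at h'
        exact h'
      have hmz := mem_centralizer_singleton_iff.1 hm.2
      obtain ⟨a, ha, b, hb, hab⟩ := hNmem _ (show _ ∈ N from hNdef ▸ hML ▸ hm.1)
      obtain ⟨b', hb', rfl⟩ := hu2L b hb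
      have hz1 : a * z₁ = z₁ * a ∧ (u * b' * u⁻¹) * z₂ = z₂ * (u * b' * u⁻¹) := by
        refine huniq _ (mul_mem ha hz₁) _ (mul_mem (hmemL' _ hb') hz₂) _ (mul_mem hz₁ ha) _
          (mul_mem hz₂ (hmemL' _ hb')) ?_
        rw [hab, hzeq] at hmz
        calc a * z₁ * ((u * b' * u⁻¹) * z₂) = a * (z₁ * (u * b' * u⁻¹)) * z₂ := by group
          _ = a * ((u * b' * u⁻¹) * z₁) * z₂ := by rw [hcomm z₁ hz₁ _ (hmemL' _ hb')]
          _ = a * (u * b' * u⁻¹) * (z₁ * z₂) := by group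
          _ = z₁ * z₂ * (a * (u * b' * u⁻¹)) := hmz
          _ = z₁ * (z₂ * a) * (u * b' * u⁻¹) := by group
          _ = z₁ * (a * z₂) * (u * b' * u⁻¹) := by rw [hcomm a ha z₂ hz₂]
          _ = _ := by group
      have hb1 : b' * z₁ = z₁ * b' := by
        have e := hz1.2
        rw [hz₂eq, conj_mul, conj_mul] at e
        exact mul_left_cancel (mul_right_cancel e)
      refine ⟨2, Subtype.ext (Subtype.ext ?_)⟩
      show ((m : centralizer ({z} : Set G)) : G) ^ 2 ^ 2 = 1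
      rw [hab, Commute.mul_pow (hcomm a ha _ (hmemL' _ hb')), conj_pow,
        show (2 : ℕ) ^ 2 = 4 from rfl, hTpow a ha ((hcent a ha).2 hz1.1),
        hTpow b' hb' ((hcent b' hb').2 hb1), one_mul, mul_one, mul_inv_cancel]
    have hTQ : ∀ x ∈ L, x * z = z * x → x ∈ Q := fun x hx hxz => by
      rw [hQeq]
      exact ⟨⟨x, mem_centralizer_singleton_iff.2 hxz⟩, Grp.le_pCore inferInstance hDp
        (by rw [hD, Subgroup.mem_subgroupOf]; exact ⟨hLM hx, mem_centralizer_singleton_iff.2 hxz⟩), rfl⟩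
    have hzL : z ∉ L := fun hzL => hz₁1 (by
      have e := (huniq z hzL 1 (one_mem _) z₁ hz₁ z₂ hz₂ (by rw [mul_one]; exact hzeq)).2
      rw [hz₂eq] at e
      exact conj_eq_one_iff.1 e.symm)
    refine hsmall z₁ hz₁ fun x hx hxz => ?_
    have hz₁Q := hTQ z₁ hz₁ hz₁z
    have hxQ := hTQ x hx hxz
    have hcn : ∀ y ∈ Q, y * z₁ = z₁ * y → y * x = x * y := fun y hy hyz₁ => by
      rcases hperm y hy with e | e
      · rcases h.conj_cases hxQ hy with e' | ⟨-, e'⟩
        · exact e'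
        · exfalso
          have := mul_mem (inv_mem hx) (e.le ⟨x, hx, rfl⟩ : y * x * y⁻¹ ∈ L)
          rw [e', inv_mul_cancel_left] at this
          exact hzL this
      · exfalso
        have h1 : z₁ ∈ L ⊓ L' := ⟨hz₁, by
          have h' : y * z₁ * y⁻¹ ∈ L' := e.le ⟨z₁, hz₁, rfl⟩
          rwa [hyz₁, mul_inv_cancel_right] at h'⟩
        rw [hinf, Subgroup.mem_bot] at h1
        exact hz₁1 h1
    rcases h.centralized_by_hyperplane hz₁Q hxQ hcn with e | e | e | e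
    · exact Or.inl e
    · exact absurd (e ▸ hx) hzL
    · exact Or.inr e
    · exact absurd (by have := mul_mem (inv_mem hz₁) hx; rwa [e, inv_mul_cancel_left] at this) hzL

end Cfsg.Agent.Grp.LargeExtraStructure
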