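import Mathlib
import Cfsg.Prelude.Def_Local
import Cfsg.Agent.Lib.Grp.Components
import Cfsg.Agent.Lib.Grp.Quasisimple
import Cfsg.Agent.Lib.Grp.Subnormal
import Cfsg.Agent.Lib.Grp.Cores
import Cfsg.Agent.Lib.Grp.PComponents
import Cfsg.Agent.Lib.Grp.CoprimeAbelian
import Cfsg.Agent.Lib.Grp.Frattini
import Cfsg.Agent.Lib.Grp.CoreComponentAction

/-!
The preimage of the layer of `N(P)/O_{p'}(N(P))` fixes every component when `O_{p'}(G) = 1`.
-/

set_option autoImplicit false

namespace Cfsg.Agent.Grp.LocalLayerFix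

open Subgroup
open scoped commutatorElement

universe u

variable {p : ℕ} [hp : Fact p.Prime]

/-- The preimage of `E(H/O_{p'}(H))`. -/
def lay (p : ℕ) (H : Type u) [Group H] [(Cfsg.pPrimeCore p H).Normal] : Subgroup H :=
  (Cfsg.layer (H ⧸ Cfsg.pPrimeCore p H)).comap (QuotientGroup.mk' (Cfsg.pPrimeCore p H))

variable {H : Type u} [Group H] [Finite H] [(Cfsg.pPrimeCore p H).Normal]

theorem core_le_lay : Cfsg.pPrimeCore p H ≤ lay p H := fun x hx => by
  rw [lay, mem_comap, show (QuotientGroup.mk' (Cfsg.pPrimeCore p H)) x = 1 from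
    (QuotientGroup.eq_one_iff x).mpr hx]
  exact one_mem _

instance lay_normal : (lay p H).Normal := (inferInstance : (Cfsg.layer _).Normal).comap _

theorem lay_char : (lay p H).Characteristic := by
  refine characteristic_iff_le_comap.mpr fun φ x hx => ?_
  have hcc : (Cfsg.pPrimeCore p H).map φ.toMonoidHom = Cfsg.pPrimeCore p H :=
    characteristic_iff_map_eq.mp instCharPPrimeCore φ
  have h := layer_map_le (QuotientGroup.congr _ _ φ hcc)
    (mem_map_of_mem _ (mem_comap.mp hx))
  exact h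

theorem lay_le_perfect : lay p H ≤ ⁅lay p H, lay p H⁆ ⊔ Cfsg.pPrimeCore p H := by
  intro x hx
  have h1 : (lay p H).map (QuotientGroup.mk' (Cfsg.pPrimeCore p H)) = Cfsg.layer _ :=
    map_comap_eq_self_of_surjective (QuotientGroup.mk'_surjective _) _
  have h2 : (QuotientGroup.mk' (Cfsg.pPrimeCore p H)) x ∈
      (⁅lay p H, lay p H⁆).map (QuotientGroup.mk' (Cfsg.pPrimeCore p H)) := by
    rw [map_commutator, h1, layer_perfect]
    exact mem_comap.mp hx
  rw [← mem_comap, comap_map_eq, QuotientGroup.ker_mk'] at h2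
  exact h2

/-- The preimage of the layer centralizes normal `p`-subgroups. -/
theorem lay_centralizes {Q : Subgroup H} [Q.Normal] (hQ : IsPGroup p Q) :
    lay p H ≤ centralizer (Q : Set H) := by
  intro x hx
  haveI : (Q.map (QuotientGroup.mk' (Cfsg.pPrimeCore p H))).Normal :=
    Subgroup.Normal.map inferInstance _ (QuotientGroup.mk'_surjective _)
  haveI : Group.IsNilpotent (Q.map (QuotientGroup.mk' (Cfsg.pPrimeCore p H))) :=
    (hQ.map (QuotientGroup.mk' (Cfsg.pPrimeCore p H))).isNilpotent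
  have hc := layer_le_centralizer_solvable (Q.map (QuotientGroup.mk' (Cfsg.pPrimeCore p H))) inferInstance
    (mem_comap.mp hx)
  refine mem_centralizer_iff.mpr fun c hcQ => ?_
  have h1 := mem_centralizer_iff.mp hc _ (mem_map_of_mem _ hcQ)
  rw [← map_mul, ← map_mul, QuotientGroup.mk'_eq_mk'] at h1
  obtain ⟨z, hz, e⟩ := h1
  have hzQ : z ∈ Q := by
    have hz' : z = (c * x)⁻¹ * (x * c) := by rw [← e]; group
    rw [hz', show (c * x)⁻¹ * (x * c) = x⁻¹ * c⁻¹ * x * c by group]
    exact Q.mul_mem (by simpa using ‹Q.Normal›.conj_mem _ (Q.inv_mem hcQ) x⁻¹) hcQ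
  have hz1 : z = 1 := by
    rw [← mem_bot, ← inf_eq_bot_of_coprime (H := Cfsg.pPrimeCore p H) (K := Q) (by
      obtain ⟨n, hn⟩ := IsPGroup.iff_card.mp hQ
      rw [hn]
      exact pPrimeCore_coprime.pow_right n)]
    exact ⟨hz, hzQ⟩
  rw [hz1, mul_one] at e
  exact e

/-- The preimage of the layer is generated by its elements of order prime to `p`. -/
theorem lay_le_pPrime : lay p H ≤ closure {x | x ∈ lay p H ∧ (orderOf x).Coprime p} := by
  set K := closure {x | x ∈ lay p H ∧ (orderOf x).Coprime p} with hK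
  haveI hKn : K.Normal := by
    refine ⟨fun x hx g => ?_⟩
    induction hx using closure_induction with
    | mem y hy =>
      refine subset_closure ⟨(lay_normal (p := p) (H := H)).conj_mem y hy.1 g, ?_⟩
      rw [← MulAut.conj_apply, MulEquiv.orderOf_eq]
      exact hy.2
    | one => simp
    | mul a b _ _ ha hb => simpa [mul_assoc] using mul_mem ha hb
    | inv a _ ha => simpa [mul_assoc] using inv_mem ha
  have hOK : Cfsg.pPrimeCore p H ≤ K := fun x hx => subset_closure ⟨core_le_lay hx,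
    pPrimeCore_coprime.coprime_dvd_left ((Cfsg.pPrimeCore p H).orderOf_dvd_natCard hx)⟩
  set B := (lay p H).map (QuotientGroup.mk' K) with hB
  have hBp : IsPGroup p B := by
    rintro ⟨_, x, hx, rfl⟩
    obtain ⟨k, m, hm, hkm⟩ := Nat.exists_eq_pow_mul_and_not_dvd (orderOf_pos x).ne' p hp.out.ne_one
    refine ⟨k, Subtype.ext ?_⟩
    show (QuotientGroup.mk' K) x ^ p ^ k = 1
    rw [← map_pow]
    refine (QuotientGroup.eq_one_iff _).mpr (subset_closure ⟨pow_mem hx _, ?_⟩)
    rw [orderOf_pow, hkm, Nat.gcd_eq_right (dvd_mul_right _ _),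
      Nat.mul_div_cancel_left _ (pow_pos hp.out.pos k)]
    exact (Nat.coprime_comm.mp ((hp.out.coprime_iff_not_dvd).mpr hm))
  have hBperf : ⁅B, B⁆ = B := by
    refine le_antisymm (commutator_le_self _) ?_
    rw [hB, ← map_commutator]
    refine (map_mono lay_le_perfect).trans ?_
    rw [Subgroup.map_sup, show (Cfsg.pPrimeCore p H).map (QuotientGroup.mk' K) = ⊥ from
      (Subgroup.map_eq_bot_iff _).mpr (by rw [QuotientGroup.ker_mk']; exact hOK), sup_bot_eq]
  haveI : Group.IsNilpotent B := hBp.isNilpotent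
  have hBbot := eq_bot_of_perfect_of_solvable hBperf inferInstance
  rw [hB, Subgroup.map_eq_bot_iff, QuotientGroup.ker_mk'] at hBbot
  exact hBbot

/-- A normal subgroup containing the preimage of the layer has the same one. -/
theorem lay_le_map {G : Type u} [Group G] [Finite G] {C : Subgroup G} [C.Normal]
    [(Cfsg.pPrimeCore p ↥C).Normal] [(Cfsg.pPrimeCore p G).Normal] (h : lay p G ≤ C) :
    lay p G ≤ (lay p ↥C).map C.subtype := by
  intro x hx
  refine ⟨⟨x, h hx⟩, ?_, rfl⟩
  set O := Cfsg.pPrimeCore p G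
  set O' := Cfsg.pPrimeCore p ↥C
  have hO' : O' = O.subgroupOf C := by
    refine le_antisymm ?_ ?_
    · intro y hy
      refine mem_subgroupOf.mpr (le_pPrimeCore (N := O'.map C.subtype) ?_ ?_ (mem_map_of_mem _ hy))
      · infer_instance
      · rw [card_map_of_injective C.subtype_injective]; exact pPrimeCore_coprime
    · refine le_pPrimeCore inferInstance ?_
      rw [Nat.card_congr (subgroupOfEquivOfLe (core_le_lay.trans h)).toEquiv]
      exact pPrimeCore_coprime
  let f : ↥C ⧸ O' →* G ⧸ O := QuotientGroup.map O' O C.subtype (by rw [hO']; exact le_refl _)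
  have hf : Function.Injective f := by
    refine (injective_iff_map_eq_one f).mpr fun q hq => ?_
    obtain ⟨y, rfl⟩ := QuotientGroup.mk_surjective q
    rw [QuotientGroup.eq_one_iff, hO']
    exact mem_subgroupOf.mpr ((QuotientGroup.eq_one_iff _).mp hq)
  show (QuotientGroup.mk' O') ⟨x, h hx⟩ ∈ Cfsg.layer _
  have hle : Cfsg.layer (G ⧸ O) ≤ (Cfsg.layer (↥C ⧸ O')).map f := by
    refine sSup_le fun K hK => ?_
    have hKr : K ≤ f.range := by
      refine le_trans ?_ (show (C.map (QuotientGroup.mk' O)) ≤ f.range by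
        rintro _ ⟨y, hy, rfl⟩; exact ⟨QuotientGroup.mk (⟨y, hy⟩ : C), rfl⟩)
      refine le_trans (IsComponent.le_layer hK) ?_
      rw [← map_comap_eq_self_of_surjective (QuotientGroup.mk'_surjective O) (Cfsg.layer (G ⧸ O))]
      exact map_mono h
    have h1 : Cfsg.IsComponent (K.comap f) := by
      have h2 := IsComponent.map_iso (MonoidHom.ofInjective hf).symm (IsComponent.subgroupOf hK hKr)
      convert h2 using 1
      ext q
      rw [mem_map_equiv, MulEquiv.symm_symm]
      exact Iff.rfl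
    calc K = (K.comap f).map f := (map_comap_eq_self hKr).symm
      _ ≤ _ := map_mono (IsComponent.le_layer h1)
  obtain ⟨q, hq, e⟩ := hle (show (QuotientGroup.mk' O) x ∈ Cfsg.layer _ from hx)
  rwa [← hf (show f q = f ((QuotientGroup.mk' O') ⟨x, h hx⟩) from e)]

/-- A perfect group of order divisible by `p` has a `p`-element outside its centre. -/
theorem exists_pElement_not_central {D : Type*} [Group D] [Finite D] (hD : commutator D = ⊤)
    (hd : p ∣ Nat.card D) : ∃ x : D, x ∉ center D ∧ IsPGroup p (zpowers x) := by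
  have hi : p ∣ (center D).index := by
    by_contra hi
    have hker : (MonoidHom.transferCenterPow D).ker = ⊤ := by
      refine top_le_iff.mp ?_
      rw [← hD, commutator_def, commutator_le]
      intro a _ b _
      rw [MonoidHom.mem_ker, map_commutatorElement, commutatorElement_eq_one_iff_mul_comm]
      exact Subtype.ext (mem_center_iff.mp (MonoidHom.transferCenterPow D a).2
        (MonoidHom.transferCenterPow D b : D)).symm
    obtain ⟨x, hx⟩ := exists_prime_orderOf_dvd_card' p hd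
    have h1 : MonoidHom.transferCenterPow D x = 1 := MonoidHom.mem_ker.mp (by rw [hker]; exact mem_top x)
    have h2 := congrArg Subtype.val h1
    simp only [MonoidHom.transferCenterPow_apply, OneMemClass.coe_one] at h2
    exact hi (hx ▸ orderOf_dvd_of_pow_eq_one h2)
  rw [index_eq_card] at hi
  obtain ⟨q, hq⟩ := exists_prime_orderOf_dvd_card' p hi
  obtain ⟨y, rfl⟩ := QuotientGroup.mk'_surjective (center D) q
  obtain ⟨a, -, ha, hay⟩ := exists_pElement_lift (p := p) (QuotientGroup.mk' (center D)) (y := y)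
    (IsPGroup.of_card (n := 1) (by rw [Nat.card_zpowers, hq, pow_one]))
  refine ⟨a, fun hac => ?_, ha⟩
  rw [show (QuotientGroup.mk' (center D)) y = 1 from hay ▸ (QuotientGroup.eq_one_iff a).mpr hac,
    orderOf_one] at hq
  exact hp.out.ne_one hq.symm

variable {G : Type u} [Group G] [Finite G]

theorem main [(Cfsg.pPrimeCore p G).Normal] (hO : Cfsg.pPrimeCore p G = ⊥) (P : Subgroup G) (hP : IsPGroup p P)
    [(Cfsg.pPrimeCore p ↥(normalizer (P : Set G))).Normal] (L : Subgroup G) (hL : Cfsg.IsComponent L) :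
    (lay p ↥(normalizer (P : Set G))).map (normalizer (P : Set G)).subtype ≤ normalizer (L : Set G) := by
  classical
  set N := normalizer (P : Set G) with hN
  set E := Cfsg.layer G with hE
  set Z : Subgroup G := E ⊓ centralizer (E : Set G) with hZ
  haveI hEn : E.Normal := inferInstance
  haveI hZn : Z.Normal := by rw [hZ]; infer_instance
  have hZp : IsPGroup p Z := by
    refine IsPGroup.to_le pCore_isPGroup (layer_center_le_fitting.trans (le_of_eq (fitting_eq_pCore hO)))
  have hPN : P ≤ N := Subgroup.le_normalizer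
  set C : Subgroup G := centralizer (P : Set G) ⊓ centralizer (Z : Set G) with hC
  have hCN : C ≤ N := inf_le_left.trans (fun c hc => by
    refine mem_normalizer_iff.mpr fun y => ?_
    have hy : ∀ y ∈ P, c * y * c⁻¹ = y := fun y hy => by
      rw [← mem_centralizer_iff.mp hc y hy, mul_inv_cancel_right]
    refine ⟨fun h => by rw [hy y h]; exact h, fun h => ?_⟩
    have h' : c⁻¹ * (c * y * c⁻¹) * c = c * y * c⁻¹ := by
      rw [mul_assoc c⁻¹, mem_centralizer_iff.mp hc _ h, inv_mul_cancel_left]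
    have : y = c * y * c⁻¹ := by rw [← h']; group
    rw [this]; exact h)
  have hPcent : centralizer (P : Set G) ≤ N := fun c hc => by
    refine mem_normalizer_iff_map_conj_eq.mpr ?_
    ext y
    constructor
    · rintro ⟨w, hw, rfl⟩
      show c * w * c⁻¹ ∈ P
      rw [← mem_centralizer_iff.mp hc w hw, mul_inv_cancel_right]
      exact hw
    · intro hy
      refine ⟨y, hy, ?_⟩
      show c * y * c⁻¹ = y
      rw [← mem_centralizer_iff.mp hc y hy, mul_inv_cancel_right]
  haveI hCn : (C.subgroupOf N).Normal := by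
    refine ⟨fun c hc g => mem_subgroupOf.mpr ⟨?_, ?_⟩⟩
    · refine mem_centralizer_iff.mpr fun y hy => ?_
      have h1 : ((g : G)⁻¹ * y * g) ∈ P := by
        have := (mem_normalizer_iff.mp (inv_mem g.2) y).mp hy
        simpa using this
      have h2 := mem_centralizer_iff.mp (mem_subgroupOf.mp hc).1 _ h1
      show y * ((g : G) * c * (g : G)⁻¹) = (g : G) * c * (g : G)⁻¹ * y
      calc y * ((g : G) * c * (g : G)⁻¹) = (g : G) * (((g : G)⁻¹ * y * g) * c) * (g : G)⁻¹ := by group
        _ = (g : G) * (c * ((g : G)⁻¹ * y * g)) * (g : G)⁻¹ := by rw [h2]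
        _ = _ := by group
    · refine mem_centralizer_iff.mpr fun y hy => ?_
      have h1 : ((g : G)⁻¹ * y * g) ∈ Z := by simpa using hZn.conj_mem y hy (g : G)⁻¹
      have h2 := mem_centralizer_iff.mp (mem_subgroupOf.mp hc).2 _ h1
      show y * ((g : G) * c * (g : G)⁻¹) = (g : G) * c * (g : G)⁻¹ * y
      calc y * ((g : G) * c * (g : G)⁻¹) = (g : G) * (((g : G)⁻¹ * y * g) * c) * (g : G)⁻¹ := by group
        _ = (g : G) * (c * ((g : G)⁻¹ * y * g)) * (g : G)⁻¹ := by rw [h2]
        _ = _ := by group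
  -- the preimage of the layer lies in `C`
  have hXC : (lay p ↥N).map N.subtype ≤ C := by
    rw [map_le_iff_le_comap]
    have hP' : lay p ↥N ≤ (centralizer (P : Set G)).comap N.subtype := by
      haveI : (P.subgroupOf N).Normal := normal_in_normalizer
      intro x hx
      refine mem_centralizer_iff.mpr fun y hy => ?_
      exact congrArg Subtype.val (mem_centralizer_iff.mp
        (lay_centralizes (Q := P.subgroupOf N) (hP.comap_of_injective _ N.subtype_injective) hx) ⟨y, hPN hy⟩ hy)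
    refine lay_le_pPrime.trans ((closure_le _).mpr ?_)
    rintro x ⟨hx, hxo⟩
    refine ⟨hP' hx, ?_⟩
    have hzx : zpowers (x : G) ≤ centralizer (Z : Set G) := by
      refine thompson_PQ (p := p) P (zpowers (x : G)) hP
        (by rw [Nat.card_zpowers, Subgroup.orderOf_coe]; exact hxo) (fun y hy => ?_) Z hZp
        (le_top.trans (normalizer_eq_top (H := Z)).ge) (le_top.trans (normalizer_eq_top (H := Z)).ge) ?_
      · refine mem_centralizer_iff.mpr fun z hz => ?_
        obtain ⟨i, rfl⟩ := mem_zpowers_iff.mp hz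
        exact ((Commute.zpow_left (show Commute (x : G) y from (mem_centralizer_iff.mp (hP' hx) y hy).symm) i)).eq
      · rintro z ⟨hzZ, hzP⟩
        have hzN : z ∈ N := hPcent hzP
        haveI : ((Z ⊓ centralizer (P : Set G)).subgroupOf N).Normal := by
          refine ⟨fun c hc g => mem_subgroupOf.mpr ⟨hZn.conj_mem _ (mem_subgroupOf.mp hc).1 _, ?_⟩⟩
          refine mem_centralizer_iff.mpr fun y hy => ?_
          have h1 : ((g : G)⁻¹ * y * g) ∈ P := by
            have := (mem_normalizer_iff.mp (inv_mem g.2) y).mp hy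
            simpa using this
          have h2 := mem_centralizer_iff.mp (mem_subgroupOf.mp hc).2 _ h1
          show y * ((g : G) * c * (g : G)⁻¹) = (g : G) * c * (g : G)⁻¹ * y
          calc y * ((g : G) * c * (g : G)⁻¹) = (g : G) * (((g : G)⁻¹ * y * g) * c) * (g : G)⁻¹ := by group
            _ = (g : G) * (c * ((g : G)⁻¹ * y * g)) * (g : G)⁻¹ := by rw [h2]
            _ = _ := by group
        have hq : IsPGroup p ((Z ⊓ centralizer (P : Set G)).subgroupOf N) :=
          (hZp.to_le inf_le_left).comap_of_injective _ N.subtype_injective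
        have h3 : Commute (x : G) z := (congrArg Subtype.val (mem_centralizer_iff.mp
          (lay_centralizes hq hx) ⟨z, hzN⟩ ⟨hzZ, hzP⟩)).symm
        refine mem_centralizer_iff.mpr fun w hw => ?_
        obtain ⟨i, rfl⟩ := mem_zpowers_iff.mp hw
        exact (h3.zpow_left i).eq
    exact hzx (mem_zpowers _)
  -- reduce to `C`
  haveI hOC : (Cfsg.pPrimeCore p ↥C).Normal := pPrimeCore_isNormal
  haveI := lay_char (p := p) (H := ↥C)
  set X : Subgroup G := (lay p ↥C).map C.subtype with hX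
  suffices hmain : X ≤ normalizer (L : Set G) by
    refine le_trans ?_ hmain
    haveI : (Cfsg.pPrimeCore p ↥(C.subgroupOf N)).Normal := pPrimeCore_isNormal
    have h1 := lay_le_map (p := p) (C := C.subgroupOf N) (fun x hx => hXC ⟨x, hx, rfl⟩)
    rintro _ ⟨x, hx, rfl⟩
    obtain ⟨c, hc, rfl⟩ := h1 hx
    let e : ↥(C.subgroupOf N) ≃* ↥C := subgroupOfEquivOfLe hCN
    refine ⟨e c, ?_, rfl⟩
    have hcc : (Cfsg.pPrimeCore p ↥(C.subgroupOf N)).map e.toMonoidHom ≤ Cfsg.pPrimeCore p ↥C :=
      le_pPrimeCore (Subgroup.Normal.map pPrimeCore_isNormal _ e.surjective)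
        (by rw [card_map_of_injective (f := e.toMonoidHom) e.injective]; exact pPrimeCore_coprime)
    have hcc' : (Cfsg.pPrimeCore p ↥(C.subgroupOf N)).map e.toMonoidHom = Cfsg.pPrimeCore p ↥C := by
      refine le_antisymm hcc ?_
      intro y hy
      refine ⟨e.symm y, le_pPrimeCore (Subgroup.Normal.map pPrimeCore_isNormal _ e.symm.surjective)
        (by rw [card_map_of_injective (f := e.symm.toMonoidHom) e.symm.injective]; exact pPrimeCore_coprime)
        (mem_map_of_mem _ hy), e.apply_symm_apply y⟩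
    exact layer_map_le (QuotientGroup.congr _ _ e hcc') (mem_map_of_mem _ (mem_comap.mp hc))
  have hXle : X ≤ C := map_subtype_le _
  have hXP : ∀ x ∈ X, ∀ y ∈ P, y * x = x * y := fun x hx y hy => mem_centralizer_iff.mp (hXle hx).1 y hy
  -- the orbit product
  set D : Subgroup G := ⨆ y : P, L.map (MulAut.conj (y : G)).toMonoidHom with hD
  have hcomp : ∀ y : P, Cfsg.IsComponent (L.map (MulAut.conj (y : G)).toMonoidHom) := fun y =>
    IsComponent.map_iso _ hL
  have hDE : D ≤ E := iSup_le fun y => IsComponent.le_layer (hcomp y)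
  have hLD : L ≤ D := fun x hx => le_iSup (fun y : P => L.map (MulAut.conj (y : G)).toMonoidHom) 1 ⟨x, hx, by simp⟩
  have hmul : ∀ (a b : G) (S : Subgroup G), S.map (MulAut.conj (a * b)).toMonoidHom =
      (S.map (MulAut.conj b).toMonoidHom).map (MulAut.conj a).toMonoidHom := fun a b S => by
    rw [map_map, map_mul]; rfl
  have hmapD : ∀ g : G, D.map (MulAut.conj g).toMonoidHom =
      ⨆ y : P, L.map (MulAut.conj (g * y)).toMonoidHom := by
    intro g
    rw [hD, Subgroup.map_iSup]
    refine iSup_congr fun y => ?_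
    rw [map_map, map_mul]; rfl
  have hnorm : ∀ g : G, D.map (MulAut.conj g).toMonoidHom ≤ D → g ∈ normalizer (D : Set G) := by
    intro g hg
    have h := eq_of_le_of_card_ge hg
      (by rw [card_map_of_injective (f := (MulAut.conj g).toMonoidHom) (MulAut.conj g).injective])
    exact mem_normalizer_iff_map_conj_eq.mpr h
  have hPD : P ≤ normalizer (D : Set G) := by
    intro y hy
    refine hnorm y ?_
    rw [hmapD]
    exact iSup_le fun z => le_iSup (fun y : P => L.map (MulAut.conj (y : G)).toMonoidHom) (⟨y, hy⟩ * z)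
  -- components outside the orbit centralize `D`
  have hout : ∀ K : Subgroup G, Cfsg.IsComponent K →
      (∃ y : P, K = L.map (MulAut.conj (y : G)).toMonoidHom) ∨ K ≤ centralizer (D : Set G) := by
    intro K hK
    by_cases h : ∃ y : P, K = L.map (MulAut.conj (y : G)).toMonoidHom
    · exact Or.inl h
    refine Or.inr (le_centralizer_iff.mp (iSup_le fun y => ?_))
    exact le_centralizer_iff.mp (IsComponent.commute hK (hcomp y) fun e => h ⟨y, e⟩)
  have hEnD : E ≤ normalizer (D : Set G) := by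
    refine sSup_le fun K hK => ?_
    rcases hout K hK with ⟨y, rfl⟩ | h
    · exact le_trans (le_iSup (fun y : P => L.map (MulAut.conj (y : G)).toMonoidHom) y) Subgroup.le_normalizer
    · intro k hk
      refine hnorm k ?_
      rintro _ ⟨d, hd, rfl⟩
      show k * d * k⁻¹ ∈ D
      rw [← mem_centralizer_iff.mp (h hk) d hd, mul_inv_cancel_right]
      exact hd
  have horb : ∀ c ∈ centralizer (P : Set G), c ∈ normalizer (D : Set G) ∨
      D.map (MulAut.conj c).toMonoidHom ≤ centralizer (D : Set G) := by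
    intro c hc
    by_cases h : c ∈ normalizer (D : Set G)
    · exact Or.inl h
    refine Or.inr ?_
    rw [hmapD]
    refine iSup_le fun y => (hout _ (IsComponent.map_iso _ hL)).resolve_left ?_
    rintro ⟨y', e⟩
    apply h
    refine hnorm c ?_
    rw [hmapD]
    refine iSup_le fun z => ?_
    have e2 : c * (z : G) = ((z * y⁻¹ : P) : G) * (c * (y : G)) := by
      have h1 := mem_centralizer_iff.mp hc _ (z * y⁻¹).2
      rw [← mul_assoc, h1, mul_assoc]
      simp
    rw [e2, hmul, e]
    have hk := hPD (z * y⁻¹ : P).2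
    rw [mem_normalizer_iff_map_conj_eq] at hk
    exact le_trans (map_mono (le_iSup (fun y : P => L.map (MulAut.conj (y : G)).toMonoidHom) y')) hk.le
  have hZD : D ⊓ centralizer (D : Set G) ≤ centralizer (E : Set G) := by
    refine le_centralizer_iff.mp (sSup_le fun K hK => ?_)
    rcases hout K hK with ⟨y, rfl⟩ | h
    · refine le_trans (le_iSup (fun y : P => L.map (MulAut.conj (y : G)).toMonoidHom) y) ?_
      exact le_centralizer_iff.mp inf_le_right
    · exact h.trans (centralizer_le inf_le_left)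
  -- a Sylow subgroup of `D P` containing `P`
  set U : Subgroup G := normalizer (D : Set G) with hU
  obtain ⟨T, hT⟩ := (hP.comap_of_injective U.subtype U.subtype_injective).exists_le_sylow
  -- a `p`-element of `D` outside the centre, fixed by `P` modulo the centre
  haveI hDn : (D.subgroupOf U).Normal := normal_in_normalizer
  set A : Subgroup ↥T := ((D ⊓ centralizer (D : Set G)).subgroupOf U).subgroupOf (T : Subgroup ↥U) with hA
  set B : Subgroup ↥T := (D.subgroupOf U).subgroupOf (T : Subgroup ↥U) with hB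
  haveI hZDn : ((D ⊓ centralizer (D : Set G)).subgroupOf U).Normal := by
    refine ⟨fun x hx g => mem_subgroupOf.mpr ⟨hDn.conj_mem x (mem_subgroupOf.mp hx).1 g, ?_⟩⟩
    refine mem_centralizer_iff.mpr fun d hd => ?_
    have h1 : (g : G)⁻¹ * d * g ∈ D := by
      have := (mem_normalizer_iff.mp (inv_mem g.2) d).mp hd
      simpa using this
    have h2 := mem_centralizer_iff.mp (mem_subgroupOf.mp hx).2 _ h1
    show d * ((g : G) * x * (g : G)⁻¹) = (g : G) * x * (g : G)⁻¹ * d
    calc d * ((g : G) * x * (g : G)⁻¹) = (g : G) * (((g : G)⁻¹ * d * g) * x) * (g : G)⁻¹ := by group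
      _ = (g : G) * (x * ((g : G)⁻¹ * d * g)) * (g : G)⁻¹ := by rw [h2]
      _ = _ := by group
  have hBA : ¬ B ≤ A := by
    intro hBA
    haveI : Finite L := inferInstance
    have hpL : p ∣ Nat.card L := by
      by_contra hc
      have h := le_pPrimeCore_of_isSubnormal (p := p) hL.1 ((hp.out.coprime_iff_not_dvd.mpr hc).symm)
      rw [hO, le_bot_iff] at h
      exact IsComponent.ne_bot hL h
    obtain ⟨l, hlc, hlp⟩ := exists_pElement_not_central hL.2.1.commutator_eq_top hpL
    have hlU : ((l : L) : G) ∈ U := Subgroup.le_normalizer (hLD l.2)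
    have hlp' : IsPGroup p (zpowers (⟨((l : L) : G), hlU⟩ : U)) := by
      obtain ⟨k, hk⟩ := hlp ⟨l, mem_zpowers l⟩
      refine IsPGroup.of_card (n := (Nat.card (zpowers (⟨((l : L) : G), hlU⟩ : U))).factorization p) ?_
      obtain ⟨j, -, hj⟩ := (Nat.dvd_prime_pow hp.out).mp (orderOf_dvd_of_pow_eq_one
        (show (⟨((l : L) : G), hlU⟩ : U) ^ p ^ k = 1 from Subtype.ext (congrArg (fun z => ((z : L) : G)) (congrArg Subtype.val hk))))
      rw [Nat.card_zpowers, hj, Nat.factorization_pow, Finsupp.smul_apply, Nat.Prime.factorization_self hp.out]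
      simp
    obtain ⟨T', hT'⟩ := hlp'.exists_le_sylow
    obtain ⟨g, hg⟩ := MulAction.exists_smul_eq U T' T
    have h1 : g * ⟨((l : L) : G), hlU⟩ * g⁻¹ ∈ (T : Subgroup ↥U) := by
      rw [← hg, Sylow.coe_subgroup_smul, pointwise_smul_def]
      exact ⟨_, hT' (mem_zpowers _), rfl⟩
    have h2 : g * ⟨((l : L) : G), hlU⟩ * g⁻¹ ∈ D.subgroupOf U :=
      hDn.conj_mem _ (mem_subgroupOf.mpr (hLD l.2)) g
    have h3 := mem_subgroupOf.mp (mem_subgroupOf.mp (hBA (show (⟨_, h1⟩ : ↥T) ∈ B from mem_subgroupOf.mpr h2)))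
    have h4 := hZDn.conj_mem _ (mem_subgroupOf.mpr h3) g⁻¹
    rw [inv_inv, show g⁻¹ * (g * ⟨((l : L) : G), hlU⟩ * g⁻¹) * g = ⟨((l : L) : G), hlU⟩ by group] at h4
    exact hlc (mem_center_iff.mpr fun m => Subtype.ext
      (mem_centralizer_iff.mp (mem_subgroupOf.mp h4).2 (m : G) (hLD m.2)))
  haveI : A.Normal := hZDn.subgroupOf _
  haveI : B.Normal := hDn.subgroupOf _
  haveI : (B.map (QuotientGroup.mk' A)).Normal := Subgroup.Normal.map inferInstance _ (QuotientGroup.mk'_surjective A)
  haveI : Group.IsNilpotent (↥T ⧸ A) := (T.isPGroup'.to_quotient A).isNilpotent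
  have hne : B.map (QuotientGroup.mk' A) ≠ ⊥ := fun h => hBA (by
    rwa [Subgroup.map_eq_bot_iff, QuotientGroup.ker_mk'] at h)
  obtain ⟨q, hq, hq1⟩ := ((B.map (QuotientGroup.mk' A)) ⊓ center _).bot_or_exists_ne_one.resolve_left
    (inf_center_ne_bot _ hne)
  obtain ⟨⟨b, hbB, rfl⟩, hqc⟩ := hq
  set w : G := ((b : U) : G) with hwdef
  have hwD : w ∈ D := mem_subgroupOf.mp (mem_subgroupOf.mp hbB)
  have hwnc : w ∉ centralizer (D : Set G) := fun h => hq1 ((QuotientGroup.eq_one_iff b).mpr
    (mem_subgroupOf.mpr (mem_subgroupOf.mpr ⟨hwD, h⟩)))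
  have hwU : w ∈ U := Subgroup.le_normalizer hwD
  have hwP : ∀ y ∈ P, y * w * y⁻¹ * w⁻¹ ∈ Z := by
    intro y hy
    let t : ↥T := ⟨⟨y, hPD hy⟩, hT (mem_comap.mpr hy)⟩
    have h1 := mem_center_iff.mp hqc ((QuotientGroup.mk' A) t)
    rw [← map_mul, ← map_mul] at h1
    have h2 : t * b * t⁻¹ * b⁻¹ ∈ A := by
      rw [← QuotientGroup.eq_one_iff]
      show (QuotientGroup.mk' A) (t * b * t⁻¹ * b⁻¹) = 1
      rw [map_mul, map_mul, h1, map_mul, map_inv, map_inv]
      group
    have h3 := mem_subgroupOf.mp (mem_subgroupOf.mp h2)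
    exact ⟨hDE h3.1, hZD h3⟩
  have hword : ∃ k, w ^ p ^ k = 1 := by
    obtain ⟨k, hk⟩ := T.isPGroup' b
    exact ⟨k, congrArg (fun z : ↥T => ((z : U) : G)) hk⟩
  have hwE : w ∈ E := hDE hwD
  -- `w` normalizes `C`, hence `X` and the core
  have hwC : ∀ c ∈ C, w * c * w⁻¹ ∈ C := by
    intro c hc
    refine ⟨mem_centralizer_iff.mpr fun y hy => ?_, mem_centralizer_iff.mpr fun z hz => ?_⟩
    · obtain ⟨z, hz, hze⟩ : ∃ z ∈ Z, y * w = z * w * y := ⟨_, hwP y hy, by group⟩
      have hzc := mem_centralizer_iff.mp hc.2 z hz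
      have hyc := mem_centralizer_iff.mp hc.1 y hy
      have hwi : y * w⁻¹ = w⁻¹ * z⁻¹ * y := by
        calc y * w⁻¹ = w⁻¹ * z⁻¹ * (z * w * y) * w⁻¹ := by group
          _ = w⁻¹ * z⁻¹ * (y * w) * w⁻¹ := by rw [← hze]
          _ = _ := by group
      calc y * (w * c * w⁻¹) = (y * w) * c * w⁻¹ := by group
        _ = z * w * (y * c) * w⁻¹ := by rw [hze]; group
        _ = z * w * c * (y * w⁻¹) := by rw [hyc]; group
        _ = z * (w * c * w⁻¹) * z⁻¹ * y := by rw [hwi]; group
        _ = _ := by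
          have h1 : w⁻¹ * z * w = z := by
            rw [mul_assoc, ← mem_centralizer_iff.mp hz.2 w hwE, inv_mul_cancel_left]
          have h2 : z * (w * c * w⁻¹) = (w * c * w⁻¹) * z := by
            calc z * (w * c * w⁻¹) = w * ((w⁻¹ * z * w) * c) * w⁻¹ := by group
              _ = w * (c * (w⁻¹ * z * w)) * w⁻¹ := by rw [h1, hzc]
              _ = _ := by group
          rw [h2, mul_inv_cancel_right]
    · have h1 : w⁻¹ * z * w = z := by
        rw [mul_assoc, ← mem_centralizer_iff.mp hz.2 w hwE, inv_mul_cancel_left]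
      calc z * (w * c * w⁻¹) = w * ((w⁻¹ * z * w) * c) * w⁻¹ := by group
        _ = w * (c * (w⁻¹ * z * w)) * w⁻¹ := by rw [h1, mem_centralizer_iff.mp hc.2 z hz]
        _ = _ := by group
  have hwN : w ∈ normalizer (C : Set G) := by
    refine mem_normalizer_iff_map_conj_eq.mpr (eq_of_le_of_card_ge ?_ ?_)
    · rintro _ ⟨c, hc, rfl⟩; exact hwC c hc
    · exact le_of_eq (card_map_of_injective (f := (MulAut.conj w).toMonoidHom) (MulAut.conj w).injective).symm
  set O : Subgroup G := (Cfsg.pPrimeCore p ↥C).map C.subtype with hOdef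
  have hconjX : ∀ x ∈ X, w * x * w⁻¹ ∈ X := by
    rintro _ ⟨x, hx, rfl⟩
    exact ⟨_, (characteristic_iff_le_comap.mp (lay_char (p := p) (H := ↥C)) (C.normalizerMonoidHom ⟨w, hwN⟩)) hx, rfl⟩
  have hconjO : ∀ x ∈ O, w * x * w⁻¹ ∈ O := by
    rintro _ ⟨x, hx, rfl⟩
    exact ⟨_, (characteristic_iff_le_comap.mp (instCharPPrimeCore (p := p) (G := ↥C)) (C.normalizerMonoidHom ⟨w, hwN⟩)) hx, rfl⟩
  have hOX : O ≤ X := map_mono core_le_lay
  have hXO : ∀ x ∈ X, ∀ o ∈ O, x * o * x⁻¹ ∈ O := by
    rintro _ ⟨x, -, rfl⟩ _ ⟨o, ho, rfl⟩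
    exact ⟨_, hOC.conj_mem o ho x, rfl⟩
  have hOord : ∀ o ∈ O, (orderOf o).Coprime p := fun o ho => by
    refine Nat.Coprime.coprime_dvd_left (O.orderOf_dvd_natCard ho) ?_
    rw [hOdef, card_map_of_injective C.subtype_injective]
    exact pPrimeCore_coprime
  -- conjugation on `D`
  set f : ↥U →* MulAut ↥D := D.normalizerMonoidHom with hfdef
  have hfker : ∀ g : ↥U, f g = 1 ↔ (g : G) ∈ centralizer (D : Set G) := fun g => by
    rw [← MonoidHom.mem_ker, hfdef, normalizerMonoidHom_ker, mem_subgroupOf]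
  have hkey : ∀ o : ↥U, (o : G) ∈ O → (f o = f ⟨w, hwU⟩ ∨ f o = (f ⟨w, hwU⟩)⁻¹) → False := by
    intro o ho h
    have h1 : (orderOf (f o)).Coprime p :=
      (hOord _ ho).coprime_dvd_left (by rw [Subgroup.orderOf_coe]; exact orderOf_map_dvd f o)
    have h2 : orderOf (f o) = orderOf (f ⟨w, hwU⟩) := by
      rcases h with h | h
      · rw [h]
      · rw [h, orderOf_inv]
    obtain ⟨k, hk⟩ := hword
    have h3 : f ⟨w, hwU⟩ ^ p ^ k = 1 := by
      rw [← map_pow, show (⟨w, hwU⟩ : U) ^ p ^ k = 1 from Subtype.ext hk, map_one]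
    have h4 : orderOf (f ⟨w, hwU⟩) = 1 :=
      Nat.eq_one_of_dvd_coprimes ((h2 ▸ h1).pow_right k) dvd_rfl (orderOf_dvd_of_pow_eq_one h3)
    exact hwnc ((hfker _).mp (orderOf_eq_one_iff.mp h4))
  have hw'c : ∀ c ∈ centralizer (P : Set G), c ∉ U → c * w * c⁻¹ ∈ centralizer (D : Set G) :=
    fun c hc hcU => (horb c hc).resolve_left hcU ⟨w, hwD, rfl⟩
  have hOU : O ≤ U := by
    intro o ho
    by_contra hoU
    have hu : o * w * o⁻¹ * w⁻¹ ∈ O := by
      rw [show o * w * o⁻¹ * w⁻¹ = o * (w * o⁻¹ * w⁻¹) by group]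
      exact O.mul_mem ho (hconjO _ (O.inv_mem ho))
    have hw' := hw'c o (hXle (hOX ho)).1 hoU
    have hw'U : o * w * o⁻¹ ∈ U := hEnD (hEn.conj_mem w hwE o)
    refine hkey (⟨o * w * o⁻¹, hw'U⟩ * (⟨w, hwU⟩)⁻¹) hu (Or.inr ?_)
    rw [map_mul, (hfker _).mpr hw', one_mul, map_inv]
  -- the part inside the layer
  set Y : Subgroup ↥C := lay p ↥C ⊓ E.subgroupOf C with hY
  haveI hYn : Y.Normal := by rw [hY]; infer_instance
  set π := QuotientGroup.mk' (Cfsg.pPrimeCore p ↥C) with hπ
  haveI : (Y.map π).Normal := Subgroup.Normal.map inferInstance _ (QuotientGroup.mk'_surjective _)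
  have hdecomp : ∀ x ∈ lay p ↥C, ∃ y ∈ Y, ∃ c ∈ lay p ↥C, x = y * c ∧
      ∀ v ∈ Y, c * v * c⁻¹ * v⁻¹ ∈ Cfsg.pPrimeCore p ↥C := by
    intro x hx
    have hle : Cfsg.layer (↥C ⧸ Cfsg.pPrimeCore p ↥C) ≤
        Y.map π ⊔ (Cfsg.layer _ ⊓ centralizer ((Y.map π : Subgroup _) : Set (↥C ⧸ Cfsg.pPrimeCore p ↥C))) := by
      refine sSup_le fun K hK => ?_
      rcases component_le_or_commute hK (Subgroup.Normal.isSubnormal (inferInstance : (Y.map π).Normal)) with h | h
      · exact h.trans le_sup_left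
      · exact le_trans (le_inf (IsComponent.le_layer hK) (commutator_eq_bot_iff_le_centralizer.mp h)) le_sup_right
    obtain ⟨a, ⟨y, hy, rfl⟩, b', hb', e⟩ := mem_sup_of_normal_left.mp (hle (show π x ∈ Cfsg.layer _ from hx))
    have hπc : π (y⁻¹ * x) = b' := by rw [map_mul, map_inv, ← e, inv_mul_cancel_left]
    refine ⟨y, hy, y⁻¹ * x, mul_mem (inv_mem hy.1) hx, (mul_inv_cancel_left y x).symm, fun v hv => ?_⟩
    rw [← QuotientGroup.eq_one_iff]
    show π (y⁻¹ * x * v * (y⁻¹ * x)⁻¹ * v⁻¹) = 1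
    rw [map_mul, map_mul, map_mul, map_inv, map_inv, hπc,
      ← mem_centralizer_iff.mp hb'.2 _ (mem_map_of_mem π hv), mul_inv_cancel_right, mul_inv_cancel]
  -- squares fix `D`
  have hsq : ∀ x ∈ lay p ↥C, ((x * x : ↥C) : G) ∈ U := by
    intro x hx
    obtain ⟨y, hy, c, hc, rfl, hcY⟩ := hdecomp x hx
    have hEU : ∀ v : ↥C, v ∈ Y → (v : G) ∈ U := fun v hv => hEnD (mem_subgroupOf.mp hv.2)
    have hcU : ((c * c : ↥C) : G) ∈ U := by
      by_contra hcc
      have hc1 : (c : G) ∉ U := fun h => hcc (mul_mem h h)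
      have hcP : (c : G) ∈ centralizer (P : Set G) := c.2.1
      have hw' := hw'c _ hcP hc1
      have hw'' := hw'c _ (mul_mem hcP hcP) hcc
      set u : G := (c : G) * w * (c : G)⁻¹ * w⁻¹ with hu
      have huX : u ∈ X := by
        rw [hu, show (c : G) * w * (c : G)⁻¹ * w⁻¹ = (c : G) * (w * (c : G)⁻¹ * w⁻¹) by group]
        exact X.mul_mem ⟨c, hc, rfl⟩ (hconjX _ (X.inv_mem ⟨c, hc, rfl⟩))
      have huE : u ∈ E := E.mul_mem (hEn.conj_mem w hwE _) (E.inv_mem hwE)
      obtain ⟨u', hu', hue⟩ := huX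
      have hv := hcY u' ⟨hu', mem_subgroupOf.mpr (show ((u' : ↥C) : G) ∈ E by rw [← subtype_apply, hue]; exact huE)⟩
      have hvO : (c : G) * u * (c : G)⁻¹ * u⁻¹ ∈ O := ⟨_, hv, by simp [← hue]⟩
      have hw'U : (c : G) * w * (c : G)⁻¹ ∈ U := hEnD (hEn.conj_mem w hwE _)
      have hw''U : (c : G) * (c : G) * w * ((c : G) * (c : G))⁻¹ ∈ U := hEnD (hEn.conj_mem w hwE _)
      refine hkey ((⟨_, hw''U⟩ : U) * (⟨_, hw'U⟩ : U)⁻¹ * ⟨w, hwU⟩ * (⟨_, hw'U⟩ : U)⁻¹) ?_ (Or.inl ?_)
      · convert hvO using 1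
        simp only [Subgroup.coe_mul, Subgroup.coe_inv, hu]
        group
      · rw [map_mul, map_mul, map_mul, map_inv, (hfker ⟨_, hw'U⟩).mpr hw', (hfker ⟨_, hw''U⟩).mpr hw'']
        group
    have e : (y * c) * (y * c) = y * (c * y * c⁻¹) * (c * c) := by group
    rw [e, Subgroup.coe_mul, Subgroup.coe_mul]
    exact mul_mem (mul_mem (hEU y hy) (hEU _ (hYn.conj_mem y hy c))) hcU
  have hXU : X ≤ U := by
    rw [hX, map_le_iff_le_comap]
    refine le_trans lay_le_perfect (sup_le (commutator_le.mpr fun a ha b hb => ?_) ?_)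
    · have e : ⁅a, b⁆ = (a * a) * ((a⁻¹ * b) * (a⁻¹ * b)) * ((b⁻¹) * (b⁻¹)) := by
        rw [commutatorElement_def]; group
      rw [mem_comap, e]
      exact U.mul_mem (U.mul_mem (hsq a ha) (hsq _ (mul_mem (inv_mem ha) hb))) (hsq _ (inv_mem hb))
    · exact fun o ho => hOU ⟨o, ho, rfl⟩
  -- elements of order prime to `p` fix `L`
  rw [hX, map_le_iff_le_comap]
  refine le_trans lay_le_pPrime ((closure_le _).mpr ?_)
  rintro x ⟨hx, hxo⟩
  show (x : G) ∈ normalizer (L : Set G)
  have hxP := x.2.1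
  have hxU := hXU ⟨x, hx, rfl⟩
  obtain ⟨y, hy⟩ : ∃ y : P, L.map (MulAut.conj (x : G)).toMonoidHom = L.map (MulAut.conj (y : G)).toMonoidHom := by
    have hK := IsComponent.map_iso (MulAut.conj (x : G)) hL
    refine (hout _ hK).resolve_right fun h => ?_
    have h1 : L.map (MulAut.conj (x : G)).toMonoidHom ≤ D :=
      le_trans (map_mono hLD) (mem_normalizer_iff_map_conj_eq.mp hxU).le
    exact IsComponent.ne_bot hK (eq_bot_of_perfect_of_comm (IsComponent.perfect hK)
      (h.trans (centralizer_le h1)))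
  obtain ⟨k, hk⟩ := hP y
  have hiter : ∀ n : ℕ, L.map (MulAut.conj ((x : G) ^ n)).toMonoidHom = L.map (MulAut.conj ((y : G) ^ n)).toMonoidHom := by
    intro n
    induction n with
    | zero => simp
    | succ n ih =>
      rw [pow_succ', hmul, ih, ← hmul, show (x : G) * (y : G) ^ n = (y : G) ^ n * (x : G) from
        ((mem_centralizer_iff.mp hxP _ (pow_mem y.2 n)).symm), hmul, hy, ← hmul, ← pow_succ]
  have h1 : (x : G) ^ p ^ k ∈ normalizer (L : Set G) := by
    have h := hiter (p ^ k)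
    rw [show (y : G) ^ p ^ k = 1 from congrArg Subtype.val hk] at h
    refine mem_normalizer_iff_map_conj_eq.mpr ?_
    refine h.trans ?_
    ext g; simp
  obtain ⟨m, hm⟩ := exists_pow_eq_self_of_coprime (x := (x : G)) (n := p ^ k)
    (by rw [Subgroup.orderOf_coe]; exact (hxo.pow_right k).symm)
  rw [← hm]
  exact pow_mem h1 m

end Cfsg.Agent.Grp.LocalLayerFix
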