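import Cfsg.Agent.Lib.Grp.MaxClassUniform
import Cfsg.Agent.Lib.Grp.Cores
import Cfsg.Agent.Lib.Grp.Subnormal
import Cfsg.Agent.Lib.Transfer.Alperin
import Cfsg.Agent.Lib.Transfer.Tate

/-!
Groups with a Sylow `p`-subgroup of maximal class: fusion of the elements with small centralizer.
-/

set_option autoImplicit false
set_option linter.unusedSectionVars false
set_option linter.style.haveILetI false

namespace Cfsg.Agent.Grp.Uni

open scoped commutatorElement
open Cfsg.Agent.Fus.MC (lc lc_anti lc_comm lc_step dl dl_mem dl_iter_mem)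

section local_

variable {Q : Type*} [Group Q] [Finite Q] {p n : ℕ} [hp : Fact p.Prime] {x : Q}

theorem Uniform.map (hx : Uniform Q p n x) (e : Q ≃* Q) : Uniform Q p n (e x) := by
  refine ⟨hx.toMaxCl, ?_⟩
  rw [← hx.cent]
  refine (Nat.card_congr (e.toEquiv.subtypeEquiv fun g => ?_)).symm
  rw [Subgroup.mem_centralizer_singleton_iff, Subgroup.mem_centralizer_singleton_iff]
  simp [← map_mul]

theorem lc_one_pow (hx : Uniform Q p n x) : x ^ p ∈ lc Q 1 := by
  have hn := hx.three_le
  have hP : IsPGroup p Q := IsPGroup.of_card hx.card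
  have hidx : (commutator Q).index = p ^ 2 := by
    rw [← Subgroup.top_lowerCentralSeries_one]
    exact lc_index hx.toMaxCl le_rfl (by omega)
  have hne : commutator Q ≠ ⊥ := by
    intro e
    have h := card_lc hx.toMaxCl (k := 1) le_rfl
    rw [lc, Subgroup.top_lowerCentralSeries_one, e, Subgroup.card_bot] at h
    exact absurd h (Nat.one_lt_pow (by omega) hp.out.one_lt).ne
  rw [lc, Subgroup.top_lowerCentralSeries_one]
  exact Transfer.MaxClass.pow_mem_commutator hP hidx hne x

/-- In the maximal subgroup over a uniform element everything outside the derived group is uniform. -/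
theorem mem_lc_one_or_uniform (hx : Uniform Q p n x) {z : Q}
    (hz : z ∈ lc Q 1 ⊔ Subgroup.zpowers x) : z ∈ lc Q 1 ∨ Uniform Q p n z := by
  obtain ⟨c, hc, w, hw, rfl⟩ := Subgroup.mem_sup_of_normal_left.1 hz
  obtain ⟨i, rfl⟩ := Subgroup.mem_zpowers_iff.1 hw
  by_cases hi : (p : ℤ) ∣ i
  · obtain ⟨m, rfl⟩ := hi
    refine Or.inl (mul_mem hc ?_)
    rw [zpow_mul, zpow_natCast]
    exact zpow_mem (lc_one_pow hx) m
  · refine Or.inr ?_
    have hco : IsCoprime (p : ℤ) i :=
      (Nat.prime_iff_prime_int.1 hp.out).coprime_iff_not_dvd.2 hi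
    obtain ⟨a, b, hab⟩ := hco
    have hxi : Uniform Q p n (x ^ i) := by
      refine ⟨hx.toMaxCl, ?_⟩
      rw [← hx.cent]
      congr 2
      ext g
      rw [Subgroup.mem_centralizer_singleton_iff, Subgroup.mem_centralizer_singleton_iff]
      refine ⟨fun h => ?_, fun h => ?_⟩
      · have h1 : Commute g (x ^ i) := h
        have h2 : Commute g (x ^ p) := Subgroup.mem_center_iff.1 (pow_mem_center hx) g
        have e : x = (x ^ p) ^ a * (x ^ i) ^ b := by
          conv_lhs => rw [← zpow_one x, ← hab]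
          rw [← zpow_natCast, ← zpow_mul, ← zpow_mul, ← zpow_add, mul_comm a, mul_comm b]
        rw [e]
        exact ((h2.zpow_right a).mul_right (h1.zpow_right b)).eq
      · exact (Commute.zpow_right h i).eq
    obtain ⟨a', rfl⟩ := exists_comm_eq_top hxi hc
    have e : ⁅a', x ^ i⁆ * x ^ i = MulAut.conj a' (x ^ i) := by
      simp [commutatorElement_def, mul_assoc]
    rw [e]
    exact hxi.map _

/-- A normal subgroup inside the derived group, not central, meets `lc (n - 3)` outside the centre. -/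
theorem exists_mem_deep (hx : Uniform Q p n x) {K : Subgroup Q} [K.Normal] (hK : K ≤ lc Q 1)
    (hKz : ¬ K ≤ lc Q (n - 2)) :
    4 ≤ n ∧ ∃ t ∈ K, t ∈ lc Q (n - 3) ∧ t ∉ lc Q (n - 2) := by
  classical
  obtain ⟨b, hbK, hb⟩ := SetLike.not_le_iff_exists.1 hKz
  have hb1 := hK hbK
  have h4 : 4 ≤ n := by
    by_contra h
    exact hb (lc_anti (by omega) hb1)
  have hex : ∃ j, b ∉ lc Q j := ⟨_, hb⟩
  have hk2 : Nat.find hex ≤ n - 2 := Nat.find_le hb
  have hk1 : 2 ≤ Nat.find hex := by
    by_contra h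
    exact Nat.find_spec hex (lc_anti (by omega) hb1)
  set k := Nat.find hex - 1 with hk
  have hbk : b ∈ lc Q k := not_not.1 (Nat.find_min hex (by omega))
  have hbk' : b ∉ lc Q (k + 1) := by
    rw [show k + 1 = Nat.find hex by omega]
    exact Nat.find_spec hex
  have hKd : ∀ m, (dl x)^[m] b ∈ K := by
    intro m
    induction m with
    | zero => exact hbK
    | succ m ih =>
      rw [Function.iterate_succ_apply']
      exact mul_mem (inv_mem ih) ((inferInstance : K.Normal).conj_mem _ ih x)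
  refine ⟨h4, (dl x)^[n - 3 - k] b, hKd _, ?_, ?_⟩
  · exact lc_anti (by omega) (dl_iter_mem hbk _)
  · have := dl_iter_not_mem hx (by omega) hbk hbk' (n - 3 - k) (by omega)
    rwa [show k + (n - 3 - k) + 1 = n - 2 by omega] at this

/-- A normal subgroup outside the derived group of a group of maximal class contains it. -/
theorem lc_one_le_of_normal (hm : MaxCl Q p n) {K : Subgroup Q} [K.Normal] (hK : ¬ K ≤ lc Q 1)
    : lc Q 1 ≤ K := by
  by_cases htop : K ⊔ lc Q 1 = ⊤
  · haveI : Group.IsNilpotent Q := (IsPGroup.of_card hm.card).isNilpotent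
    rw [frattini_nongenerating (K := K) (top_le_iff.1 (by
      rw [← htop]
      refine sup_le_sup_left ?_ _
      rw [lc, Subgroup.top_lowerCentralSeries_one]
      exact Grp.pGroup_commutator_le_frattini (IsPGroup.of_card hm.card)))]
    exact le_top
  obtain ⟨h, hh, hh'⟩ := SetLike.not_le_iff_exists.1 hK
  obtain ⟨t, ht⟩ : ∃ t, t ∉ K ⊔ lc Q 1 := by
    by_contra hc
    push Not at hc
    exact htop (eq_top_iff.2 fun g _ => hc g)
  have hgen : K ⊔ Subgroup.zpowers t = ⊤ := by
    haveI : Group.IsNilpotent Q := (IsPGroup.of_card hm.card).isNilpotent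
    refine frattini_nongenerating (top_le_iff.1 ?_)
    have hsup : K ⊔ Subgroup.zpowers t ⊔ lc Q 1 = ⊤ := by
      by_contra hne
      have e1 := eq_sup_of_ne_top hm le_sup_right hne
        (Subgroup.mem_sup_left (Subgroup.mem_sup_left hh)) hh'
      exact ht ((sup_le le_sup_right (Subgroup.zpowers_le.2 (Subgroup.mem_sup_left hh)) :
        lc Q 1 ⊔ Subgroup.zpowers h ≤ K ⊔ lc Q 1)
        (e1 ▸ Subgroup.mem_sup_left (Subgroup.mem_sup_right (Subgroup.mem_zpowers t))))
    rw [← hsup]
    refine sup_le_sup_left ?_ _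
    rw [lc, Subgroup.top_lowerCentralSeries_one]
    exact Grp.pGroup_commutator_le_frattini (IsPGroup.of_card hm.card)
  rw [lc, Subgroup.lowerCentralSeries_succ, Subgroup.commutator_le]
  intro a _ b _
  refine (QuotientGroup.eq_one_iff _).1 ?_
  show QuotientGroup.mk' K ⁅a, b⁆ = 1
  have hpw : ∀ g, ∃ i : ℤ, QuotientGroup.mk' K g = QuotientGroup.mk' K t ^ i := fun g => by
    obtain ⟨c, hc, w, ⟨i, rfl⟩, rfl⟩ :=
      Subgroup.mem_sup_of_normal_left.1 (hgen.ge (Subgroup.mem_top g))
    exact ⟨i, by rw [map_mul, map_zpow,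
      show QuotientGroup.mk' K c = 1 from (QuotientGroup.eq_one_iff c).2 hc, one_mul]⟩
  obtain ⟨i, hi⟩ := hpw a
  obtain ⟨j, hj⟩ := hpw b
  rw [map_commutatorElement, hi, hj, commutatorElement_eq_one_iff_mul_comm, ← zpow_add, ← zpow_add,
    add_comm]

end local_

section global

variable {G : Type*} [Group G] [Finite G] {p n : ℕ} [hp : Fact p.Prime] (P : Sylow p G)

/-- If no element of `P` has centralizer with `p`-part `p ^ 2`, a uniform element fuses out. -/
theorem exists_fused (hno : ∀ x ∈ (P : Subgroup G),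
      (Nat.card (Subgroup.centralizer ({x} : Set G))).factorization p ≠ 2)
    {y : ↥(P : Subgroup G)} (hy : Uniform ↥(P : Subgroup G) p n y) :
    ∃ g : G, ∃ h : g⁻¹ * (y : G) * g ∈ (P : Subgroup G),
      ¬ Uniform ↥(P : Subgroup G) p n ⟨_, h⟩ := by
  classical
  set C := Subgroup.centralizer ({(y : G)} : Set G)
  obtain ⟨R⟩ : Nonempty (Sylow p C) := inferInstance
  set R' := (R : Subgroup C).map C.subtype ⊔ Subgroup.zpowers (y : G)
  have hyp : IsPGroup p (Subgroup.zpowers (y : G)) :=
    P.isPGroup'.to_le (Subgroup.zpowers_le.2 y.2)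
  have hRp : IsPGroup p R' := by
    refine IsPGroup.to_sup_of_normal_left' (R.isPGroup'.map _) hyp ?_
    rw [Subgroup.zpowers_le, Subgroup.mem_normalizer_iff]
    intro r
    refine ⟨fun hr => ?_, fun hr => ?_⟩
    · obtain ⟨⟨r', hr'⟩, hr'R, rfl⟩ := hr
      rw [Subgroup.coe_subtype, ← Subgroup.mem_centralizer_singleton_iff.1 hr',
        mul_inv_cancel_right]
      exact ⟨⟨r', hr'⟩, hr'R, rfl⟩
    · obtain ⟨⟨r', hr'⟩, hr'R, e⟩ := hr
      have e1 : r = r' := by
        have : r = (y : G)⁻¹ * (r' * (y : G)) := by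
          rw [show r' = (y : G) * r * (y : G)⁻¹ from e]; group
        rw [this, Subgroup.mem_centralizer_singleton_iff.1 hr', inv_mul_cancel_left]
      exact ⟨⟨r', hr'⟩, hr'R, e1.symm⟩
  have hR'C : R' ≤ C := sup_le (Subgroup.map_subtype_le _)
    (Subgroup.zpowers_le.2 (Subgroup.mem_centralizer_singleton_iff.2 rfl))
  have h2 : p ^ 2 ∣ Nat.card C := by
    have hc : Nat.card (Subgroup.centralizer ({y} : Set ↥(P : Subgroup G))) ∣ Nat.card C := by
      rw [← Subgroup.card_map_of_injective (P : Subgroup G).subtype_injective]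
      refine Subgroup.card_dvd_of_le ?_
      rintro _ ⟨c, hc, rfl⟩
      exact Subgroup.mem_centralizer_singleton_iff.2
        (congrArg Subtype.val (Subgroup.mem_centralizer_singleton_iff.1 hc))
    rwa [hy.cent] at hc
  have h3 : p ^ 3 ≤ Nat.card R' := by
    refine le_trans ?_ (Subgroup.card_le_of_le (le_sup_left : (R : Subgroup C).map C.subtype ≤ R'))
    rw [Subgroup.card_map_of_injective C.subtype_injective, R.card_eq_multiplicity]
    refine Nat.pow_le_pow_right hp.out.pos ?_
    have h5 := (hp.out.pow_dvd_iff_le_factorization Nat.card_pos.ne').1 h2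
    have h6 := hno _ y.2
    change (Nat.card C).factorization p ≠ 2 at h6
    omega
  obtain ⟨S, hS⟩ := hRp.exists_le_sylow
  obtain ⟨g, rfl⟩ := MulAction.exists_smul_eq G P S
  have hin : ∀ r ∈ R', g⁻¹ * r * g ∈ (P : Subgroup G) := fun r hr =>
    (Transfer.mem_smul_sylow P).1 (hS hr)
  refine ⟨g, hin _ (Subgroup.mem_sup_right (Subgroup.mem_zpowers _)), fun hu => ?_⟩
  let f : R' → Subgroup.centralizer ({⟨g⁻¹ * (y : G) * g,
      hin _ (Subgroup.mem_sup_right (Subgroup.mem_zpowers _))⟩} : Set ↥(P : Subgroup G)) :=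
    fun r => ⟨⟨g⁻¹ * (r : G) * g, hin r r.2⟩, Subgroup.mem_centralizer_singleton_iff.2
      (Subtype.ext (by
        simp only [Subgroup.coe_mul]
        have := Subgroup.mem_centralizer_singleton_iff.1 (hR'C r.2)
        calc g⁻¹ * (r : G) * g * (g⁻¹ * (y : G) * g) = g⁻¹ * ((r : G) * y) * g := by group
          _ = g⁻¹ * ((y : G) * r) * g := by rw [this]
          _ = g⁻¹ * (y : G) * g * (g⁻¹ * (r : G) * g) := by group))⟩
  have hf : Function.Injective f := fun a b hab => Subtype.ext (by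
    have := congrArg (fun v => ((v : ↥(P : Subgroup G)) : G)) (congrArg Subtype.val hab)
    simpa [f] using this)
  have := h3.trans (Nat.card_le_card_of_injective f hf)
  rw [hu.cent] at this
  have := (Nat.pow_le_pow_iff_right hp.out.one_lt).1 this
  omega

/-- The first tame step at which a uniform element stops being uniform. -/
theorem exists_step {A : Set G} {g : G} (h : Transfer.AlperinChain P A g) :
    ∀ a ∈ A, (∃ ha : a ∈ (P : Subgroup G), Uniform ↥(P : Subgroup G) p n ⟨a, ha⟩) →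
      (∀ hg : g⁻¹ * a * g ∈ (P : Subgroup G), ¬ Uniform ↥(P : Subgroup G) p n ⟨_, hg⟩) →
      ∃ (Q : Sylow p G) (x : G) (y : ↥(P : Subgroup G)), Transfer.TameStep P Q x ∧
        (y : G) ∈ (Q : Subgroup G) ∧ Uniform ↥(P : Subgroup G) p n y ∧ IsConj a (y : G) ∧
        ∀ hx : x⁻¹ * (y : G) * x ∈ (P : Subgroup G), ¬ Uniform ↥(P : Subgroup G) p n ⟨_, hx⟩ := by
  induction h with
  | nil A =>
    intro a _ ⟨ha, hu⟩ hn'
    exfalso
    exact hn' (by simpa using ha) (by convert hu using 2; simp)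
  | @cons A Q x z hT hA _ ih =>
    intro a haA ⟨ha, hu⟩ hn'
    by_cases hx : ∃ hx : x⁻¹ * a * x ∈ (P : Subgroup G), Uniform ↥(P : Subgroup G) p n ⟨_, hx⟩
    · obtain ⟨Q', x', y, h1, h2, h3, h4, h5⟩ := ih _ ⟨a, haA, rfl⟩ hx (fun hg hu' => hn'
        (by simpa [mul_assoc] using hg) (by convert hu' using 2; simp [mul_assoc]))
      exact ⟨Q', x', y, h1, h2, h3,
        (isConj_iff.2 ⟨x⁻¹, by rw [inv_inv]⟩ : IsConj a (x⁻¹ * a * x)).trans h4, h5⟩
    · exact ⟨Q, x, ⟨a, ha⟩, hT, (hA haA).2, hu, IsConj.refl _, fun h h' => hx ⟨h, h'⟩⟩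

/-- Every uniform element has a conjugate that some element pushes into the derived group. -/
theorem exists_push (hno : ∀ x ∈ (P : Subgroup G),
      (Nat.card (Subgroup.centralizer ({x} : Set G))).factorization p ≠ 2)
    {y₀ : ↥(P : Subgroup G)} (hy₀ : Uniform ↥(P : Subgroup G) p n y₀) :
    ∃ (y z : ↥(P : Subgroup G)) (x : G), Uniform ↥(P : Subgroup G) p n y ∧
      IsConj (y₀ : G) (y : G) ∧ (z : G) = x⁻¹ * (y : G) * x ∧ z ∈ lc ↥(P : Subgroup G) 1 ∧
      x * (y : G) * x⁻¹ ∈ (P : Subgroup G) := by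
  obtain ⟨g, hg, hgn⟩ := exists_fused P hno hy₀
  have hch := Transfer.alperin P {(y₀ : G)} g (Set.singleton_subset_iff.2 y₀.2)
    (by rw [Set.image_singleton]; exact Set.singleton_subset_iff.2 hg)
  obtain ⟨Q, x, y, hT, hyQ, hyu, hconj, hxn⟩ :=
    exists_step P hch _ rfl ⟨y₀.2, hy₀⟩ (fun _ => hgn)
  set D := (P : Subgroup G) ⊓ (Q : Subgroup G)
  have hxD : x ∈ Subgroup.normalizer (D : Set G) := hT.1
  have hyD : (y : G) ∈ D := ⟨y.2, hyQ⟩
  have hzD : x⁻¹ * (y : G) * x ∈ D := by
    have := (Subgroup.mem_normalizer_iff.1 (inv_mem hxD) (y : G)).1 hyD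
    rwa [inv_inv] at this
  have hwD : x * (y : G) * x⁻¹ ∈ D := (Subgroup.mem_normalizer_iff.1 hxD _).1 hyD
  refine ⟨y, ⟨_, hzD.1⟩, x, hyu, hconj, rfl, ?_, hwD.1⟩
  -- the intersection is proper
  have hDne : D.subgroupOf (P : Subgroup G) ≠ ⊤ := by
    intro e
    have hPD : (P : Subgroup G) ≤ D := Subgroup.subgroupOf_eq_top.1 e
    have hD : D = (P : Subgroup G) := le_antisymm inf_le_left hPD
    rw [hD] at hxD
    let σ : ↥(P : Subgroup G) ≃* ↥(P : Subgroup G) :=
      { toFun := fun v => ⟨x⁻¹ * (v : G) * x, by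
          have := (Subgroup.mem_normalizer_iff.1 (inv_mem hxD) (v : G)).1 v.2
          rwa [inv_inv] at this⟩
        invFun := fun v => ⟨x * (v : G) * x⁻¹, (Subgroup.mem_normalizer_iff.1 hxD (v : G)).1 v.2⟩
        left_inv := fun v => Subtype.ext (by simp [mul_assoc])
        right_inv := fun v => Subtype.ext (by simp [mul_assoc])
        map_mul' := fun v w => Subtype.ext (by simp [mul_assoc]) }
    exact hxn hzD.1 (hyu.map σ)
  haveI : Group.IsNilpotent ↥(P : Subgroup G) := P.isPGroup'.isNilpotent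
  have hMne : D.subgroupOf (P : Subgroup G) ⊔ lc ↥(P : Subgroup G) 1 ≠ ⊤ := by
    intro e
    refine hDne (frattini_nongenerating (top_le_iff.1 ?_))
    rw [← e]
    refine sup_le_sup_left ?_ _
    rw [lc, Subgroup.top_lowerCentralSeries_one]
    exact Grp.pGroup_commutator_le_frattini P.isPGroup'
  have hM := eq_sup_of_ne_top hyu.toMaxCl le_sup_right hMne
    (Subgroup.mem_sup_left (show y ∈ D.subgroupOf (P : Subgroup G) from hyD)) (not_mem_lc_one hyu)
  refine (mem_lc_one_or_uniform hyu (hM.le (Subgroup.mem_sup_left ?_))).resolve_right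
    (hxn hzD.1)
  exact hzD

/-- Sylow subgroups of maximal class, no centralizer with `p`-part `p ^ 2`: the group is quasisimple. -/
theorem isQuasisimple_of_no_small_centralizer (hm : MaxCl ↥(P : Subgroup G) p n)
    (hcore : Cfsg.pPrimeCore p G = ⊥)
    (hres : ∀ N : Subgroup G, N.Normal → (N.index).Coprime p → N = ⊤)
    (hno : ∀ x ∈ (P : Subgroup G),
      (Nat.card (Subgroup.centralizer ({x} : Set G))).factorization p ≠ 2) :
    Cfsg.IsQuasisimple G ∧ Nat.card (Subgroup.center G) ≤ p := by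
  classical
  have hn := hm.three_le
  have htopne : (⊥ : Subgroup ↥(P : Subgroup G)) ≠ ⊤ := fun e =>
    center_ne_top hm (eq_top_iff.2 (e ▸ bot_le))
  have hPN : ∀ N : Subgroup G, N.Normal → (P : Subgroup G) ≤ N → N = ⊤ := fun N hN hle =>
    hres N hN (Nat.Coprime.symm (hp.out.coprime_iff_not_dvd.2 fun hd =>
      P.not_dvd_index (hd.trans (Subgroup.index_dvd_of_le hle))))
  -- (a): proper normal subgroups meet `P` inside the derived group
  have hA : ∀ N : Subgroup G, N.Normal → N ≠ ⊤ →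
      N.subgroupOf (P : Subgroup G) ≤ lc ↥(P : Subgroup G) 1 := by
    intro N hN hne
    by_contra hK
    have hKne : N.subgroupOf (P : Subgroup G) ≠ ⊤ := fun e =>
      hne (hPN N hN (Subgroup.subgroupOf_eq_top.1 e))
    have hle := lc_one_le_of_normal hm hK
    obtain ⟨y₀, hy₀, hu⟩ := exists_uniform_outside n hm _ hKne
    obtain ⟨y, z, x, hyu, hconj, hz, hz1, -⟩ := exists_push P hno hu
    obtain ⟨c, hc⟩ := isConj_iff.1 hconj
    have h1 : (z : G) ∈ N := hle hz1
    rw [hz, ← hc] at h1
    have h2 := hN.conj_mem _ (hN.conj_mem _ h1 x) c⁻¹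
    refine hy₀ (show (y₀ : G) ∈ N from ?_)
    simpa [mul_assoc] using h2
  -- (b): they are `p`-groups inside the centre of `P`
  have hB : ∀ N : Subgroup G, N.Normal → N ≠ ⊤ → N ≤ (P : Subgroup G) := by
    intro N hN hne
    refine IsPGroup.le_sylow_of_normal ?_ P
    have hfr : N ⊓ (P : Subgroup G) ≤
        (frattini ↥(P : Subgroup G)).map (P : Subgroup G).subtype := by
      rintro v ⟨hvN, hvP⟩
      refine ⟨⟨v, hvP⟩, Grp.pGroup_commutator_le_frattini P.isPGroup' ?_, rfl⟩
      have := hA N hN hne (show (⟨v, hvP⟩ : ↥(P : Subgroup G)) ∈ N.subgroupOf _ from hvN)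
      rwa [lc, Subgroup.top_lowerCentralSeries_one] at this
    obtain ⟨S, K, hKn, hc⟩ := Transfer.hasNormalPComplement_of_inf_le_frattini P N hfr
    have hKcard : (Nat.card K).Coprime p := by
      refine Nat.Coprime.symm (hp.out.coprime_iff_not_dvd.2 fun hd => S.not_dvd_index ?_)
      rwa [hc.index_eq_card]
    have hK0 : K = ⊥ := by
      rw [eq_bot_iff]
      refine (Grp.le_pPrimeCore hKn hKcard).trans (le_of_eq ?_)
      apply Subgroup.map_injective N.subtype_injective
      rw [Grp.pPrimeCore_map_eq, hcore, bot_inf_eq, Subgroup.map_bot]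
    have hStop : (S : Subgroup N) = ⊤ := Subgroup.isComplement'_bot_left.1 (hK0 ▸ hc)
    have := S.isPGroup'
    rw [hStop] at this
    exact this.of_surjective (⊤ : Subgroup N).subtype fun v => ⟨⟨v, Subgroup.mem_top v⟩, rfl⟩
  have hC : ∀ N : Subgroup G, N.Normal → N ≠ ⊤ →
      N.subgroupOf (P : Subgroup G) ≤ lc ↥(P : Subgroup G) (n - 2) := by
    intro N hN hne
    by_contra hK
    obtain ⟨y₀, -, hu⟩ := exists_uniform_outside n hm _ htopne
    obtain ⟨y, z, x, hyu, -, hz, hz1, hw⟩ := exists_push P hno hu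
    obtain ⟨h4, t, htN, ht, ht'⟩ := exists_mem_deep hu (hA N hN hne) hK
    have htG : (t : G) ∈ N := htN
    have ht'N : x⁻¹ * (t : G) * x ∈ N := by
      have := hN.conj_mem _ htG x⁻¹
      rwa [inv_inv] at this
    set s : ↥(P : Subgroup G) := ⟨x⁻¹ * (t : G) * x, hB N hN hne ht'N⟩
    set w : ↥(P : Subgroup G) := ⟨x * (y : G) * x⁻¹, hw⟩
    have hs1 : s ∈ lc ↥(P : Subgroup G) 1 :=
      hA N hN hne (show s ∈ N.subgroupOf (P : Subgroup G) from ht'N)
    have hcw : Commute ⁅t, w⁆ w := by
      refine (Subgroup.mem_center_iff.1 (lc_two_le_center hm ?_) w).symm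
      exact lc_anti (by omega) (lc_step (y := w) ht)
    have hsy : ⁅s, y⁆ ∈ lc ↥(P : Subgroup G) (n - 2) := by
      rw [← cent_inf_lc hyu le_rfl (by omega)]
      refine ⟨Subgroup.mem_centralizer_singleton_iff.2 (Subtype.ext ?_), ?_⟩
      · have h' : ((⁅t, w⁆ : ↥(P : Subgroup G)) : G) * (w : G) =
            (w : G) * ((⁅t, w⁆ : ↥(P : Subgroup G)) : G) := congrArg Subtype.val hcw.eq
        simp only [s, w, commutatorElement_def, Subgroup.coe_mul, Subgroup.coe_inv] at h' ⊢
        calc _ = x⁻¹ * ((t : G) * (x * y * x⁻¹) * (t : G)⁻¹ * (x * y * x⁻¹)⁻¹ * (x * y * x⁻¹)) * x := by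
              group
          _ = x⁻¹ * ((x * y * x⁻¹) * ((t : G) * (x * y * x⁻¹) * (t : G)⁻¹ * (x * y * x⁻¹)⁻¹)) * x := by
              rw [h']
          _ = _ := by group
      · rw [lc, Subgroup.lowerCentralSeries_succ]
        exact Subgroup.commutator_mem_commutator (Subgroup.mem_top s) (Subgroup.mem_top y)
    have hs : s ∈ lc ↥(P : Subgroup G) (n - 3) := by
      have hind : ∀ j, 1 ≤ j → j ≤ n - 3 → s ∈ lc ↥(P : Subgroup G) j := by
        intro j hj
        induction j, hj using Nat.le_induction with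
        | base => exact fun _ => hs1
        | succ j hj ih =>
          intro hjn
          by_contra hsj
          exact comm_not_mem hyu hj (by omega) (ih (by omega)) hsj (lc_anti (by omega) hsy)
      exact hind _ (by omega) le_rfl
    have hcomm : ⁅s, z⁆ = 1 := by
      have h5 := lc_comm hs hz1
      rw [lc_eq_bot hm (by omega), Subgroup.mem_bot] at h5
      exact h5
    refine comm_not_mem hyu (k := n - 3) (by omega) (by omega) ht
      (by rw [show n - 3 + 1 = n - 2 by omega]; exact ht') ?_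
    have hty : ⁅t, y⁆ = 1 := by
      have h6 := congrArg Subtype.val (commutatorElement_eq_one_iff_mul_comm.1 hcomm)
      simp only [s, Subgroup.coe_mul, hz] at h6
      rw [commutatorElement_eq_one_iff_mul_comm]
      refine Subtype.ext ?_
      simp only [Subgroup.coe_mul]
      calc (t : G) * y = x * (x⁻¹ * t * x * (x⁻¹ * y * x)) * x⁻¹ := by group
        _ = x * (x⁻¹ * y * x * (x⁻¹ * t * x)) * x⁻¹ := by rw [h6]
        _ = (y : G) * t := by group
    rw [hty]
    exact one_mem _
  have hcard : ∀ N : Subgroup G, N.Normal → N ≠ ⊤ → Nat.card N ≤ p := by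
    intro N hN hne
    rw [← Nat.card_congr (Subgroup.subgroupOfEquivOfLe (hB N hN hne)).toEquiv]
    refine (Subgroup.card_le_of_le (hC N hN hne)).trans (le_of_eq ?_)
    rw [card_lc hm (by omega), show n - 1 - (n - 2) = 1 by omega, pow_one]
  have hcent : ∀ N : Subgroup G, N.Normal → N ≠ ⊤ → N ≤ Subgroup.center G := by
    intro N hN hne
    haveI := hN
    have hle : (P : Subgroup G) ≤ Subgroup.centralizer (N : Set G) := by
      intro v hv
      refine Subgroup.mem_centralizer_iff.2 fun u hu => ?_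
      have h1 := lc_two_le_center hm (hC N hN hne
        (show (⟨u, hB N hN hne hu⟩ : ↥(P : Subgroup G)) ∈ N.subgroupOf _ from hu))
      exact (congrArg Subtype.val (Subgroup.mem_center_iff.1 h1 ⟨v, hv⟩)).symm
    have hCt := hPN _ inferInstance hle
    intro u hu
    exact Subgroup.mem_center_iff.2 fun g =>
      (Subgroup.mem_centralizer_iff.1 (hCt.ge (Subgroup.mem_top g)) u hu).symm
  have hperf : commutator G = ⊤ := by
    by_contra hne
    have hle := hB _ inferInstance hne
    have hPn : (P : Subgroup G).Normal := ⟨fun v hv g => by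
      have : g * v * g⁻¹ = ⁅g, v⁆ * v := by simp [commutatorElement_def]
      rw [this]
      exact mul_mem (hle (Subgroup.commutator_mem_commutator (Subgroup.mem_top g)
        (Subgroup.mem_top v))) hv⟩
    have hPtop : (P : Subgroup G) = ⊤ := hPN _ hPn le_rfl
    obtain ⟨y₀, -, hu⟩ := exists_uniform_outside n hm _ htopne
    refine hno _ y₀.2 ?_
    have e : Nat.card (Subgroup.centralizer ({(y₀ : G)} : Set G)) = p ^ 2 := by
      rw [← hu.cent, ← Subgroup.card_map_of_injective (P : Subgroup G).subtype_injective]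
      congr 2
      ext g
      refine ⟨fun hg => ⟨⟨g, hPtop.ge (Subgroup.mem_top g)⟩, Subgroup.mem_centralizer_singleton_iff.2
        (Subtype.ext (Subgroup.mem_centralizer_singleton_iff.1 hg)), rfl⟩, ?_⟩
      rintro ⟨c, hc, rfl⟩
      exact Subgroup.mem_centralizer_singleton_iff.2
        (congrArg Subtype.val (Subgroup.mem_centralizer_singleton_iff.1 hc))
    rw [e, Nat.factorization_pow, Finsupp.smul_apply, hp.out.factorization_self, smul_eq_mul,
      mul_one]
  have hZne : Subgroup.center G ≠ ⊤ := by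
    intro e
    have h1 : commutator G = ⊥ := by
      rw [_root_.commutator_def, eq_bot_iff, Subgroup.commutator_le]
      intro a _ b _
      rw [Subgroup.mem_bot, commutatorElement_eq_one_iff_mul_comm]
      exact (Subgroup.mem_center_iff.1 (e.ge (Subgroup.mem_top a)) b).symm
    rw [hperf] at h1
    refine htopne (eq_top_iff.2 fun v _ => ?_)
    have h2 : (v : G) ∈ (⊥ : Subgroup G) := h1.le (Subgroup.mem_top _)
    exact Subgroup.mem_bot.2 (Subtype.ext (Subgroup.mem_bot.1 h2))
  haveI : Nontrivial (G ⧸ Subgroup.center G) := QuotientGroup.nontrivial_iff.2 hZne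
  refine ⟨⟨⟨hperf⟩, ⟨fun M hM => ?_⟩⟩, hcard _ inferInstance hZne⟩
  by_cases htop : M.comap (QuotientGroup.mk' (Subgroup.center G)) = ⊤
  · refine Or.inr (eq_top_iff.2 fun v _ => ?_)
    obtain ⟨g, rfl⟩ := QuotientGroup.mk'_surjective _ v
    exact Subgroup.mem_comap.1 (htop.ge (Subgroup.mem_top g))
  · refine Or.inl (eq_bot_iff.2 fun v hv => ?_)
    obtain ⟨g, rfl⟩ := QuotientGroup.mk'_surjective _ v
    exact Subgroup.mem_bot.2 ((QuotientGroup.eq_one_iff g).2
      (hcent _ (hM.comap _) htop (Subgroup.mem_comap.2 hv)))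

end global

end Cfsg.Agent.Grp.Uni
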