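import Mathlib
import Cfsg.Prelude.Def_CaseTheorems
import Cfsg.Agent.Lib.Transfer.MaxClass
import Cfsg.Agent.Lib.Transfer.Regular
import Cfsg.Agent.Lib.Grp.ExponentClosed

/-!
Elementary abelian sections of `p`-groups of maximal class.
-/

set_option autoImplicit false

namespace Cfsg.Agent.Grp.MaxClassSection

open scoped commutatorElement

universe u

variable {G : Type u} [Group G]

local notation "γ" => Subgroup.lowerCentralSeries (⊤ : Subgroup G)

theorem lcs_comm_le [Finite G] (i j : ℕ) {l : ℕ} (h : l ≤ i + j + 1) : ⁅γ i, γ j⁆ ≤ γ l :=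
  le_trans (Cfsg.Agent.S4206.result (fun n => (⊤ : Subgroup G).lowerCentralSeries n) (fun n => inferInstance)
    (fun n => Subgroup.lowerCentralSeries_antitone _ (Nat.le_succ n)) ⊤
    (fun n => le_of_eq (Subgroup.lowerCentralSeries_succ _ n).symm) i j)
    (Subgroup.lowerCentralSeries_antitone _ h)

theorem commute_mk [Finite G] {i j l : ℕ} (h : l ≤ i + j + 1) {a b : G} (ha : a ∈ γ i) (hb : b ∈ γ j) :
    Commute (a : G ⧸ γ l) (b : G ⧸ γ l) := by
  rw [← commutatorElement_eq_one_iff_commute]
  have h1 : QuotientGroup.mk' (γ l) ⁅a, b⁆ = 1 :=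
    (QuotientGroup.eq_one_iff _).2 (lcs_comm_le i j h (Subgroup.commutator_mem_commutator ha hb))
  rwa [map_commutatorElement] at h1

theorem isRegular_quotient [Finite G] {p : ℕ} [Fact p.Prime] (hG : IsPGroup p G) (N : Subgroup G) [N.Normal]
    (h : γ (p - 1) ≤ N) : Cfsg.IsRegularPGroup p (G ⧸ N) := by
  refine Grp.isRegularPGroup_of_class_lt (hG.to_quotient N) ?_
  rw [← Subgroup.map_top_of_surjective _ (QuotientGroup.mk'_surjective N),
    ← Subgroup.map_lowerCentralSeries, Subgroup.map_eq_bot_iff, QuotientGroup.ker_mk']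
  exact h

variable [Finite G] {p : ℕ} [hp : Fact p.Prime] {n : ℕ}
variable (hcard : Nat.card G = p ^ n) (hn : 2 ≤ n) (hc : Group.nilpotencyClass G = n - 1)
include hcard hn hc

theorem index_eq {i : ℕ} (h1 : 1 ≤ i) (h2 : i ≤ n - 1) : (γ i).index = p ^ (i + 1) :=
  Transfer.MaxClass.lcs_index hcard hn hc h1 h2

theorem eq_of_between {i : ℕ} (h1 : 1 ≤ i) (h2 : i + 1 ≤ n - 1) {U : Subgroup G} (hU : U ≤ γ i)
    (hlt : γ (i + 1) < U) : U = γ i := by
  obtain ⟨a, -, ha⟩ := (Nat.dvd_prime_pow hp.out).1 (hcard ▸ U.index_dvd_card)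
  have e1 := index_eq hcard hn hc h1 (by omega)
  have e2 := index_eq hcard hn hc (i := i + 1) (by omega) h2
  have d1 : i + 1 ≤ a := by
    rw [← Nat.pow_dvd_pow_iff_le_right hp.out.one_lt, ← e1, ← ha]
    exact Subgroup.index_dvd_of_le hU
  have d2 : a < i + 1 + 1 := by
    by_contra hge
    have h3 := Subgroup.index_strictAnti hlt
    rw [ha, e2] at h3
    exact absurd (Nat.pow_le_pow_right hp.out.pos (not_lt.1 hge)) (not_le.2 h3)
  refine Subgroup.eq_of_le_of_card_ge hU ?_
  have h4 := U.card_mul_index
  rw [← (γ i).card_mul_index, ha, e1, show a = i + 1 by omega] at h4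
  exact (Nat.eq_of_mul_eq_mul_right (pow_pos hp.out.pos _) h4).ge

theorem pow_mem {k : ℕ} (hk2 : 2 ≤ k) (hnk : 2 * k < n) (hpk : k + 2 ≤ p) :
    ∀ m, 1 ≤ m → m ≤ k + 1 → ∀ x : G, x ^ p ∈ γ m := by
  have hG : IsPGroup p G := IsPGroup.of_card hcard
  intro m h1
  induction m, h1 using Nat.le_induction with
  | base =>
    intro _ x
    rw [Subgroup.top_lowerCentralSeries_one]
    refine Transfer.MaxClass.pow_mem_commutator hG
      (Transfer.MaxClass.commutator_index_of_class hcard hn hc) ?_ x
    intro e
    have h := index_eq hcard hn hc le_rfl (show 1 ≤ n - 1 by omega)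
    rw [Subgroup.top_lowerCentralSeries_one, e, Subgroup.index_bot, hcard] at h
    have := Nat.pow_right_injective hp.out.two_le h
    omega
  | succ m hm ih =>
    intro hmk
    have ih := ih (by omega)
    have hreg := isRegular_quotient hG (γ (m + 1)) (Subgroup.lowerCentralSeries_antitone _ (by omega))
    set Ω : Subgroup G := (Transfer.Regular.omegaSub hreg 1).comap (QuotientGroup.mk' (γ (m + 1)))
    have hΩ : ∀ x, x ∈ Ω ↔ x ^ p ∈ γ (m + 1) := fun x => by
      show (x : G ⧸ γ (m + 1)) ^ p ^ 1 = 1 ↔ _
      rw [pow_one, ← QuotientGroup.mk_pow, QuotientGroup.eq_one_iff]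
    set C : Subgroup G := (Subgroup.centralizer
      (((γ m).map (QuotientGroup.mk' (γ (m + 2)))) : Set (G ⧸ γ (m + 2)))).comap
        (QuotientGroup.mk' (γ (m + 2)))
    have hCtop : C ≠ ⊤ := by
      intro e
      have hle : γ (m + 1) ≤ γ (m + 2) := by
        rw [Subgroup.lowerCentralSeries_succ _ m, Subgroup.commutator_le]
        intro a ha b _
        have h3 := Subgroup.mem_centralizer_iff.1 (Subgroup.mem_comap.1 (e ▸ Subgroup.mem_top b : b ∈ C))
          _ (Subgroup.mem_map_of_mem (QuotientGroup.mk' (γ (m + 2))) ha)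
        rw [← QuotientGroup.eq_one_iff]
        show QuotientGroup.mk' (γ (m + 2)) ⁅a, b⁆ = 1
        rw [map_commutatorElement, commutatorElement_eq_one_iff_mul_comm]
        exact h3
      have h4 := Subgroup.index_dvd_of_le hle
      rw [index_eq hcard hn hc (by omega) (show m + 2 ≤ n - 1 by omega),
        index_eq hcard hn hc (by omega) (show m + 1 ≤ n - 1 by omega),
        Nat.pow_dvd_pow_iff_le_right hp.out.one_lt] at h4
      omega
    have hout : ∀ x, x ∉ C → x ∈ Ω := by
      intro x hx
      rw [hΩ]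
      by_contra hno
      refine hx (Subgroup.mem_comap.2 (Subgroup.mem_centralizer_iff.2 ?_))
      have hU : Subgroup.zpowers (x ^ p) ⊔ γ (m + 1) = γ m := by
        refine eq_of_between hcard hn hc hm (by omega)
          (sup_le (Subgroup.zpowers_le.2 (ih x)) (Subgroup.lowerCentralSeries_antitone _ (by omega)))
          (lt_of_le_not_ge le_sup_right fun h => hno (h (Subgroup.mem_sup_left (Subgroup.mem_zpowers _))))
      rintro _ ⟨c, hcm, rfl⟩
      have hle : γ m ≤ (Subgroup.centralizer ({(x : G ⧸ γ (m + 2))} : Set (G ⧸ γ (m + 2)))).comap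
          (QuotientGroup.mk' (γ (m + 2))) := by
        rw [← hU]
        refine sup_le (Subgroup.zpowers_le.2 ?_) fun d hd => ?_
        · exact Subgroup.mem_centralizer_singleton_iff.2 ((Commute.refl x).pow_left p |>.map
            (QuotientGroup.mk' (γ (m + 2)))).eq
        · exact Subgroup.mem_centralizer_singleton_iff.2
            (commute_mk (i := m + 1) (j := 0) (by omega) hd (by simp)).eq
      exact Subgroup.mem_centralizer_singleton_iff.1 (hle hcm)
    obtain ⟨s, -, hs⟩ := SetLike.exists_of_lt (lt_top_iff_ne_top.2 hCtop)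
    intro x
    rw [← hΩ]
    by_cases hx : x ∈ C
    · have := mul_mem (inv_mem (hout s hs)) (hout (s * x) fun h => hs ((C.mul_mem_cancel_right hx).1 h))
      rwa [inv_mul_cancel_left] at this
    · exact hout x hx

omit hcard hn hc in
theorem not_sectional {k : ℕ} (hs : Cfsg.SectionalPRankLE p k G) {H N : Subgroup G} [N.Normal]
    (hNH : N ≤ H) (hcomm : ∀ a ∈ H, ∀ b ∈ H, ⁅a, b⁆ ∈ N) (hexp : ∀ a ∈ H, a ^ p ∈ N)
    (hidx : N.index = p ^ (k + 1) * H.index) : False := by
  have h := hs H (N.subgroupOf H) ⊤ ⟨⟨fun a b => Subtype.ext ?_⟩⟩ ?_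
  · rw [Subgroup.card_top, ← Subgroup.index_eq_card] at h
    change N.relIndex H ≤ p ^ k at h
    rw [← Subgroup.relIndex_mul_index hNH] at hidx
    rw [Nat.eq_of_mul_eq_mul_right (Nat.pos_of_ne_zero H.index_ne_zero_of_finite) hidx,
      Nat.pow_le_pow_iff_right hp.out.one_lt] at h
    omega
  · obtain ⟨a', ha⟩ := QuotientGroup.mk'_surjective (N.subgroupOf H) a.1
    obtain ⟨b', hb⟩ := QuotientGroup.mk'_surjective (N.subgroupOf H) b.1
    show a.1 * b.1 = b.1 * a.1
    rw [← ha, ← hb, ← commutatorElement_eq_one_iff_mul_comm, ← map_commutatorElement,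
      QuotientGroup.mk'_apply, QuotientGroup.eq_one_iff]
    exact hcomm _ a'.2 _ b'.2
  · intro a _
    obtain ⟨a', rfl⟩ := QuotientGroup.mk'_surjective (N.subgroupOf H) a
    rw [← map_pow, QuotientGroup.mk'_apply, QuotientGroup.eq_one_iff]
    exact hexp _ a'.2

theorem le_two_mul {k : ℕ} (hk : 1 ≤ k) (hs : Cfsg.SectionalPRankLE p k G) (hpk : k + 2 ≤ p) :
    n ≤ 2 * k := by
  by_contra hnk
  push Not at hnk
  have hG : IsPGroup p G := IsPGroup.of_card hcard
  rcases (show k = 1 ∨ 2 ≤ k by omega) with rfl | hk2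
  · refine not_sectional (p := p) hs (H := ⊤) (N := commutator G) le_top
      (fun a _ b _ => Subgroup.commutator_mem_commutator (Subgroup.mem_top a) (Subgroup.mem_top b))
      (fun a _ => Transfer.MaxClass.pow_mem_commutator hG
        (Transfer.MaxClass.commutator_index_of_class hcard hn hc) ?_ a) ?_
    · intro e
      have h := Transfer.MaxClass.commutator_index_of_class hcard hn hc
      rw [e, Subgroup.index_bot, hcard] at h
      have := Nat.pow_right_injective hp.out.two_le h
      omega
    · rw [Transfer.MaxClass.commutator_index_of_class hcard hn hc, Subgroup.index_top, mul_one]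
  obtain ⟨j, rfl⟩ : ∃ j, k = j + 2 := ⟨k - 2, by omega⟩
  set l := 2 * (j + 2) with hl
  set N := γ l
  set π := QuotientGroup.mk' N
  set A := (γ (j + 1)).map π
  -- the section is abelian
  have hltA : γ (j + 2) < γ (j + 1) := by
    refine lt_of_le_of_ne (Subgroup.lowerCentralSeries_antitone _ (by omega)) fun e => ?_
    have h := index_eq hcard hn hc (i := j + 1) (by omega) (by omega)
    rw [← e, index_eq hcard hn hc (by omega) (show j + 2 ≤ n - 1 by omega)] at h
    have := Nat.pow_right_injective hp.out.two_le h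
    omega
  obtain ⟨a₀, ha₀, ha₀'⟩ := SetLike.exists_of_lt hltA
  have hgen : Subgroup.zpowers a₀ ⊔ γ (j + 2) = γ (j + 1) :=
    eq_of_between hcard hn hc (by omega) (by omega)
      (sup_le (Subgroup.zpowers_le.2 ha₀) hltA.le)
      (lt_of_le_not_ge le_sup_right fun h => ha₀' (h (Subgroup.mem_sup_left (Subgroup.mem_zpowers _))))
  have hAc : ∀ a ∈ γ (j + 1), ∀ b ∈ γ (j + 1), Commute (π a) (π b) := by
    intro a ha b hb
    have h0 : γ (j + 1) ≤ (Subgroup.centralizer ({π a₀} : Set (G ⧸ N))).comap π := by
      rw [← hgen]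
      refine sup_le (Subgroup.zpowers_le.2 ?_) fun d hd => ?_
      · exact Subgroup.mem_centralizer_singleton_iff.2 rfl
      · exact Subgroup.mem_centralizer_singleton_iff.2 (commute_mk (by omega) hd ha₀).eq
    have h1 : γ (j + 1) ≤ (Subgroup.centralizer ({π a} : Set (G ⧸ N))).comap π := by
      rw [← hgen]
      refine sup_le (Subgroup.zpowers_le.2 ?_) fun d hd => ?_
      · exact Subgroup.mem_centralizer_singleton_iff.2
          (Subgroup.mem_centralizer_singleton_iff.1 (h0 ha)).symm
      · exact Subgroup.mem_centralizer_singleton_iff.2 (commute_mk (by omega) hd ha).eq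
    exact (Subgroup.mem_centralizer_singleton_iff.1 (h1 hb)).symm
  -- the section has exponent p
  have hexp : ∀ a ∈ γ (j + 1), a ^ p ∈ N := by
    intro a ha
    rw [Subgroup.lowerCentralSeries_succ] at ha
    induction ha using Subgroup.closure_induction with
    | mem c hcm =>
      obtain ⟨b, hb, s, -, rfl⟩ := hcm
      -- `s` and `b s b⁻¹` have equal `p`-th powers modulo `N`
      set H : Subgroup G := Subgroup.zpowers s ⊔ γ (j + 1)
      have hsH : s ∈ H := Subgroup.mem_sup_left (Subgroup.mem_zpowers s)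
      have hbc : ⁅b, s⁆ ∈ γ (j + 1) := by
        rw [Subgroup.lowerCentralSeries_succ]
        exact Subgroup.commutator_mem_commutator hb (Subgroup.mem_top s)
      have hH1 : H.lowerCentralSeries 1 ≤ γ (j + 2) := by
        rw [Subgroup.lowerCentralSeries_succ, Subgroup.lowerCentralSeries_zero, Subgroup.commutator_le]
        intro x hx y hy
        rw [← QuotientGroup.eq_one_iff]
        show QuotientGroup.mk' (γ (j + 2)) ⁅x, y⁆ = 1
        rw [map_commutatorElement, commutatorElement_eq_one_iff_mul_comm]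
        have hs0 : H ≤ (Subgroup.centralizer ({(s : G ⧸ γ (j + 2))} : Set (G ⧸ γ (j + 2)))).comap
            (QuotientGroup.mk' (γ (j + 2))) :=
          sup_le (Subgroup.zpowers_le.2 (Subgroup.mem_centralizer_singleton_iff.2 rfl)) fun d hd =>
            Subgroup.mem_centralizer_singleton_iff.2
              (commute_mk (i := j + 1) (j := 0) (by omega) hd (by simp)).eq
        have hy0 : H ≤ (Subgroup.centralizer ({(y : G ⧸ γ (j + 2))} : Set (G ⧸ γ (j + 2)))).comap
            (QuotientGroup.mk' (γ (j + 2))) :=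
          sup_le (Subgroup.zpowers_le.2 (Subgroup.mem_centralizer_singleton_iff.2
            (Subgroup.mem_centralizer_singleton_iff.1 (hs0 hy)).symm)) fun d hd =>
            Subgroup.mem_centralizer_singleton_iff.2
              (commute_mk (i := j + 1) (j := 0) (by omega) hd (by simp)).eq
        exact Subgroup.mem_centralizer_singleton_iff.1 (hy0 hx)
      have hHl : ∀ i, H.lowerCentralSeries (i + 1) ≤ γ (j + 2 + i) := by
        intro i
        induction i with
        | zero => exact hH1
        | succ i ih =>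
          rw [Subgroup.lowerCentralSeries_succ, show j + 2 + (i + 1) = j + 2 + i + 1 from rfl,
            Subgroup.lowerCentralSeries_succ (⊤ : Subgroup G)]
          exact Subgroup.commutator_mono ih le_top
      have hreg : Cfsg.IsRegularPGroup p ↥(H.map π) := by
        refine Grp.isRegularPGroup_of_class_lt ((hG.to_quotient N).to_subgroup _) ?_
        refine (Subgroup.map_eq_bot_iff_of_injective _ (H.map π).subtype_injective).mp ?_
        rw [Subgroup.map_lowerCentralSeries, ← MonoidHom.range_eq_map, Subgroup.range_subtype,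
          ← Subgroup.map_lowerCentralSeries, Subgroup.map_eq_bot_iff, QuotientGroup.ker_mk',
          show p - 1 = p - 2 + 1 by omega]
        exact (hHl _).trans (Subgroup.lowerCentralSeries_antitone _ (by omega))
      have hsH' : π (b * s * b⁻¹) ∈ H.map π := by
        refine Subgroup.mem_map_of_mem π ?_
        rw [show b * s * b⁻¹ = ⁅b, s⁆ * s by rw [commutatorElement_def]; group]
        exact mul_mem (Subgroup.mem_sup_right hbc) hsH
      have hsp : Commute (π b) (π (s ^ p)) := commute_mk (by omega) hb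
        (pow_mem hcard hn hc hk2 hnk hpk (j + 3) (by omega) (by omega) s)
      have hpow : (⟨π (b * s * b⁻¹), hsH'⟩ : ↥(H.map π)) ^ p ^ 1 =
          (⟨π s, Subgroup.mem_map_of_mem π hsH⟩ : ↥(H.map π)) ^ p ^ 1 := by
        apply Subtype.ext
        simp only [pow_one, SubgroupClass.coe_pow]
        rw [← map_pow, ← map_pow, conj_pow, map_mul, map_mul, map_inv, hsp.eq, mul_inv_cancel_right]
      have h5 := (Transfer.Regular.pow_eq_iff hreg _ _ 1).1 hpow
      have h6 := congrArg Subtype.val h5
      simp only [pow_one, SubgroupClass.coe_pow, MulMemClass.coe_mul, InvMemClass.coe_inv,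
        OneMemClass.coe_one] at h6
      rw [← QuotientGroup.eq_one_iff]
      show π (⁅b, s⁆ ^ p) = 1
      rw [map_pow, commutatorElement_def, map_mul, map_inv, h6]
    | one => rw [one_pow]; exact one_mem _
    | mul a b ha hb iha ihb =>
      rw [← QuotientGroup.eq_one_iff] at iha ihb ⊢
      have hab := hAc a (by rwa [Subgroup.lowerCentralSeries_succ]) b
        (by rwa [Subgroup.lowerCentralSeries_succ])
      show π ((a * b) ^ p) = 1
      rw [map_pow, map_mul, hab.mul_pow, ← map_pow, ← map_pow, show π (a ^ p) = 1 from iha,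
        show π (b ^ p) = 1 from ihb, one_mul]
    | inv a _ iha => rw [inv_pow]; exact inv_mem iha
  refine not_sectional (p := p) hs (H := γ (j + 1)) (N := N)
    (Subgroup.lowerCentralSeries_antitone _ (by omega)) (fun a ha b hb => ?_) hexp ?_
  · rw [← QuotientGroup.eq_one_iff]
    show π ⁅a, b⁆ = 1
    rw [map_commutatorElement, commutatorElement_eq_one_iff_mul_comm]
    exact (hAc a ha b hb).eq
  · rw [index_eq hcard hn hc (i := l) (by omega) (by omega),
      index_eq hcard hn hc (i := j + 1) (by omega) (by omega), ← pow_add]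
    congr 1
    omega

end Cfsg.Agent.Grp.MaxClassSection
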