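import Mathlib
import Cfsg.Prelude.Def_Solvable
import Cfsg.Prelude.Def_Transfer
import Cfsg.Agent.Lib.Grp.SymplecticType
import Cfsg.Agent.Lib.Grp.FrobeniusTheorem
import Cfsg.Agent.Lib.Grp.ThompsonComplement
import Cfsg.Agent.Lib.Grp.FpfPrime

/-!
Groups in which the centralizer of every non-central element is maximal.
-/

set_option autoImplicit false
set_option linter.style.haveILetI false
set_option linter.unusedSectionVars false

namespace Cfsg.Agent.Grp.MaxCent

open scoped commutatorElement Pointwise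
open Subgroup

universe u

variable {G : Type u} [Group G]

/-- Every non-central element has a maximal centralizer. -/
def Hyp (G : Type u) [Group G] : Prop :=
  ∀ x : G, x ∉ center G → IsCoatom (centralizer ({x} : Set G))

local notation "f₀" => QuotientGroup.mk' (center G)

theorem centralizer_le_of_mem_zpowers {a x : G} (h : a ∈ zpowers x) :
    centralizer ({x} : Set G) ≤ centralizer {a} := by
  intro g hg
  obtain ⟨i, rfl⟩ := mem_zpowers_iff.mp h
  exact mem_centralizer_singleton_iff.mpr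
    ((show Commute g x from mem_centralizer_singleton_iff.mp hg).zpow_right i).eq

theorem centralizer_ne_top {a : G} (ha : a ∉ center G) : centralizer ({a} : Set G) ≠ ⊤ :=
  fun h => ha (mem_center_iff.mpr fun g => mem_centralizer_singleton_iff.mp (h ▸ mem_top g))

theorem cent_eq (h : Hyp G) {a x : G} (hx : x ∉ center G) (ha : a ∉ center G)
    (hle : centralizer ({x} : Set G) ≤ centralizer {a}) :
    centralizer ({x} : Set G) = centralizer {a} :=
  (((h x hx).le_iff.mp hle).resolve_left (centralizer_ne_top ha)).symm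

theorem cent_eq_of_coprime (h : Hyp G) {a b : G} (ha : a ∉ center G) (hb : b ∉ center G)
    (hc : Commute a b) {m n : ℕ} (hm : a ^ m = 1) (hn : b ^ n = 1) (hmn : m.Coprime n) :
    centralizer ({a} : Set G) = centralizer {b} := by
  have mem : ∀ {a b : G} {m n : ℕ}, Commute a b → a ^ m = 1 → b ^ n = 1 → m.Coprime n →
      a ∈ zpowers (a * b) := by
    intro a b m n hc hm hn hmn
    obtain ⟨x, y, hxy⟩ : IsCoprime (m : ℤ) n := Nat.isCoprime_iff_coprime.mpr hmn
    refine mem_zpowers_iff.mpr ⟨y * n, ?_⟩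
    rw [hc.mul_zpow, mul_comm y, zpow_mul, zpow_mul b, zpow_natCast b n, hn, one_zpow, mul_one,
      ← zpow_mul]
    have h1 : a = a ^ (x * (m : ℤ) + y * n) := by rw [hxy, zpow_one]
    conv_rhs => rw [h1]
    rw [zpow_add, mul_comm x, zpow_mul a (m : ℤ), zpow_natCast, hm, one_zpow, one_mul, mul_comm y]
  have h1 := mem hc hm hn hmn
  have h2 := mem hc.symm hn hm hmn.symm
  rw [← hc.eq] at h2
  have hab : a * b ∉ center G := fun hh => ha ((zpowers_le.mpr hh) h1)
  rw [← cent_eq h hab ha (centralizer_le_of_mem_zpowers h1),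
    ← cent_eq h hab hb (centralizer_le_of_mem_zpowers h2)]

variable [Finite G]

theorem pow_part (x : G) (r : ℕ) :
    (x ^ (orderOf x / r ^ (orderOf x).factorization r)) ^ (r ^ (orderOf x).factorization r) = 1 ∧
      (x ^ r ^ (orderOf x).factorization r) ^ (orderOf x / r ^ (orderOf x).factorization r) = 1 := by
  have h := Nat.ordProj_dvd (orderOf x) r
  constructor <;> rw [← pow_mul]
  · rw [Nat.div_mul_cancel h, pow_orderOf_eq_one]
  · rw [Nat.mul_div_cancel' h, pow_orderOf_eq_one]

/-- If a prime divides the order of `x` modulo a normal subgroup, so it does for a `r`-part. -/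
theorem part_notMem (N : Subgroup G) [N.Normal] (x : G) {r : ℕ} (hr : r.Prime)
    (h : r ∣ orderOf (QuotientGroup.mk' N x)) :
    x ^ (orderOf x / r ^ (orderOf x).factorization r) ∉ N := fun hm => by
  have h1 : QuotientGroup.mk' N (x ^ (orderOf x / r ^ (orderOf x).factorization r)) = 1 :=
    (QuotientGroup.eq_one_iff _).mpr hm
  rw [map_pow] at h1
  exact Nat.not_dvd_ordCompl hr (orderOf_pos x).ne' (h.trans (orderOf_dvd_of_pow_eq_one h1))

/-- The centralizer is abelian or a prime power group modulo the centre. -/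
theorem dichotomy (h : Hyp G) {x : G} (hx : x ∉ center G) :
    (∀ a ∈ centralizer ({x} : Set G), ∀ b ∈ centralizer ({x} : Set G), a * b = b * a) ∨
      ∃ r : ℕ, r.Prime ∧ ∀ y ∈ centralizer ({x} : Set G), ∃ k : ℕ, y ^ r ^ k ∈ center G := by
  have hne : f₀ x ≠ 1 := fun e => hx ((QuotientGroup.eq_one_iff _).mp e)
  obtain ⟨r, hr, hrd⟩ := Nat.exists_prime_and_dvd (fun e => hne (orderOf_eq_one_iff.mp e) :
    orderOf (f₀ x) ≠ 1)
  set a := x ^ (orderOf x / r ^ (orderOf x).factorization r)
  have ha : a ∉ center G := part_notMem _ x hr hrd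
  rw [cent_eq h hx ha (centralizer_le_of_mem_zpowers (pow_mem (mem_zpowers x) _))]
  set M := centralizer ({a} : Set G)
  have har := (pow_part x r).1
  have hcop : ∀ (y : G) (e : ℕ), (r ^ e).Coprime (orderOf y / r ^ (orderOf y).factorization r) :=
    fun y e => ((Nat.coprime_ordCompl hr (orderOf_pos y).ne').pow_left e)
  by_cases hall : ∀ y ∈ M, y ^ r ^ (orderOf y).factorization r ∈ center G
  · exact Or.inr ⟨r, hr, fun y hy => ⟨_, hall y hy⟩⟩
  push Not at hall
  obtain ⟨y, hyM, hy⟩ := hall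
  refine Or.inl ?_
  set b := y ^ r ^ (orderOf y).factorization r
  have hab : Commute a b :=
    ((show Commute y a from mem_centralizer_singleton_iff.mp hyM).symm).pow_right _
  have hMb : M = centralizer ({b} : Set G) :=
    cent_eq_of_coprime h ha hy hab har (pow_part y r).2 (hcop y _)
  have hcen : ∀ w ∈ M, ∀ v ∈ M, Commute w v := by
    intro w hw v hv
    set w1 := w ^ (orderOf w / r ^ (orderOf w).factorization r)
    set w2 := w ^ r ^ (orderOf w).factorization r
    have key : ∀ u ∈ M, (u ∉ center G → centralizer ({u} : Set G) = M) → Commute u v := fun u hu hc => by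
      by_cases huZ : u ∈ center G
      · exact (mem_center_iff.mp huZ v).symm
      · have := hc huZ
        rw [← this] at hv
        exact (show Commute v u from mem_centralizer_singleton_iff.mp hv).symm
    have h1 : Commute w1 v := key w1 (pow_mem hw _) fun hw1 => by
      rw [hMb]
      exact cent_eq_of_coprime h hw1 hy
        (mem_centralizer_singleton_iff.mp (hMb ▸ pow_mem hw _ : w1 ∈ centralizer {b}))
        (pow_part w r).1 (pow_part y r).2 (hcop y _)
    have h2 : Commute w2 v := key w2 (pow_mem hw _) fun hw2 =>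
      (cent_eq_of_coprime h ha hw2
        (show Commute w2 a from mem_centralizer_singleton_iff.mp (pow_mem hw _ : w2 ∈ M)).symm
        har (pow_part w r).2 (hcop w _)).symm
    obtain ⟨i, j, hij⟩ : IsCoprime ((orderOf w / r ^ (orderOf w).factorization r : ℕ) : ℤ)
        ((r ^ (orderOf w).factorization r : ℕ) : ℤ) :=
      Nat.isCoprime_iff_coprime.mpr (hcop w _).symm
    have : w = w1 ^ i * w2 ^ j := by
      have e1 : ∀ (n : ℕ) (k : ℤ), (w ^ n) ^ k = w ^ ((n : ℤ) * k) := fun n k => by
        rw [zpow_mul, zpow_natCast]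
      calc w = w ^ (1 : ℤ) := (zpow_one w).symm
        _ = _ := by rw [e1, e1, ← zpow_add, ← hij]; congr 1; ring
    rw [this]
    exact (h1.zpow_left i).mul_left (h2.zpow_left j)
  exact fun w hw v hv => (hcen w hw v hv).eq

theorem cent_eq_of_comm (h : Hyp G) {x y : G} (hx : x ∉ center G) (hy : y ∉ center G)
    (hab : ∀ a ∈ centralizer ({x} : Set G), ∀ b ∈ centralizer ({x} : Set G), a * b = b * a)
    (hyx : y ∈ centralizer ({x} : Set G)) : centralizer ({x} : Set G) = centralizer {y} :=
  cent_eq h hx hy fun g hg => mem_centralizer_singleton_iff.mpr (hab g hg y hyx)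

theorem commute_of_coprime {m g : G} (hc : ⁅m, g⁆ ∈ center G) {a b : ℕ} (hma : m ^ a ∈ center G)
    (hgb : g ^ b = 1) (hab : a.Coprime b) : Commute m g := by
  have h1 : ⁅m, g⁆ ^ b = 1 := Symplectic.comm_pow_eq_one (mem_center_iff.mp hc g).symm
    (by rw [hgb]; exact Commute.one_left m)
  have h2 : ⁅g, m⁆ ^ a = 1 := Symplectic.comm_pow_eq_one
    (by rw [← commutatorElement_inv]; exact (mem_center_iff.mp (inv_mem hc) m).symm)
    (mem_center_iff.mp hma g).symm
  rw [← commutatorElement_inv, inv_pow, inv_eq_one] at h2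
  rw [← commutatorElement_eq_one_iff_commute]
  exact orderOf_eq_one_iff.mp (Nat.eq_one_of_dvd_coprimes hab.symm (orderOf_dvd_of_pow_eq_one h1)
    (orderOf_dvd_of_pow_eq_one h2))

theorem coatom_index_prime {M : Subgroup G} [M.Normal] (hM : IsCoatom M) : M.index.Prime := by
  have h1 : M.index ≠ 1 := fun e => hM.1 (index_eq_one.mp e)
  obtain ⟨r, hr, hd⟩ := Nat.exists_prime_and_dvd h1
  haveI := Fact.mk hr
  obtain ⟨q, hq⟩ := exists_prime_orderOf_dvd_card' (G := G ⧸ M) r hd
  have htop : (zpowers q).comap (QuotientGroup.mk' M) = ⊤ := by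
    refine hM.2 _ (lt_of_le_not_ge (fun m hm => ?_) fun hle => ?_)
    · rw [mem_comap, show QuotientGroup.mk' M m = 1 from (QuotientGroup.eq_one_iff m).mpr hm]
      exact one_mem _
    · obtain ⟨g, rfl⟩ := QuotientGroup.mk'_surjective M q
      have : g ∈ M := hle (mem_zpowers (QuotientGroup.mk' M g))
      rw [show QuotientGroup.mk' M g = 1 from (QuotientGroup.eq_one_iff g).mpr this, orderOf_one] at hq
      exact hr.ne_one hq.symm
  have h3 := map_comap_eq_self_of_surjective (QuotientGroup.mk'_surjective M) (zpowers q)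
  rw [htop, map_top_of_surjective _ (QuotientGroup.mk'_surjective M)] at h3
  rw [index, ← card_top, h3, Nat.card_zpowers, hq]
  exact hr

omit [Finite G] in
theorem center_le_cent (x : G) : center G ≤ centralizer ({x} : Set G) := fun z hz =>
  mem_centralizer_singleton_iff.mpr (mem_center_iff.mp hz x).symm

omit [Finite G] in
theorem map_cent_mem {x z : G} : f₀ z ∈ (centralizer ({x} : Set G)).map f₀ ↔
    z ∈ centralizer ({x} : Set G) := by
  rw [← mem_comap, comap_map_eq, QuotientGroup.ker_mk', sup_of_le_left (center_le_cent x)]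

/-- The conclusion. -/
def Concl (G : Type u) [Group G] : Prop :=
    (∃ p : ℕ, p.Prime ∧ Cfsg.IsElementaryAbelian p (⊤ : Subgroup (G ⧸ Subgroup.center G))) ∨
    (¬ IsMulCommutative (G ⧸ Subgroup.center G) ∧
      (∀ H : Subgroup (G ⧸ Subgroup.center G), H ≠ ⊤ → IsMulCommutative ↥H) ∧
      ∃ p q a : ℕ, p.Prime ∧ q.Prime ∧ p ≠ q ∧ Nat.card (G ⧸ Subgroup.center G) = p ^ a * q ∧
        ∀ P : Subgroup (G ⧸ Subgroup.center G), Nat.card ↥P = p ^ a → P.Normal)

theorem of_pGroup (h : Hyp G) {p : ℕ} [hp : Fact p.Prime] (hQ : IsPGroup p (G ⧸ center G)) :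
    Concl G := by
  haveI := hQ.isNilpotent
  haveI : Group.IsNilpotent G := Group.of_quotient_center_nilpotent inferInstance
  have key : ∀ x : G, x ∉ center G → ((centralizer ({x} : Set G)).Normal ∧
      (centralizer ({x} : Set G)).index = p) := fun x hx => by
    have hn := Subgroup.NormalizerCondition.normal_of_coatom _ Group.normalizerCondition_of_isNilpotent (h x hx)
    refine ⟨hn, ?_⟩
    have h1 : (centralizer ({x} : Set G)).index ∣ Nat.card (G ⧸ center G) := by
      rw [← index]; exact index_dvd_of_le (center_le_cent x)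
    obtain ⟨k, hk⟩ := IsPGroup.iff_card.mp hQ
    rw [hk] at h1
    exact (Nat.prime_dvd_prime_iff_eq (coatom_index_prime (h x hx)) hp.out).mp
      ((coatom_index_prime (h x hx)).dvd_of_dvd_pow h1)
  refine Or.inl ⟨p, hp.out, ⟨⟨fun a b => Subtype.ext ?_⟩⟩, fun a _ => ?_⟩
  · obtain ⟨a, -⟩ := a
    obtain ⟨b, -⟩ := b
    obtain ⟨a, rfl⟩ := QuotientGroup.mk'_surjective _ a
    obtain ⟨b, rfl⟩ := QuotientGroup.mk'_surjective _ b
    show f₀ a * f₀ b = f₀ b * f₀ a
    rw [← commutatorElement_eq_one_iff_mul_comm, ← map_commutatorElement]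
    refine (QuotientGroup.eq_one_iff _).mpr (mem_center_iff.mpr fun x => ?_)
    by_cases hx : x ∈ center G
    · exact (mem_center_iff.mp hx _).symm
    haveI := (key x hx).1
    set N := centralizer ({x} : Set G)
    haveI : Fact (Nat.card (G ⧸ N)).Prime := ⟨by rw [← index, (key x hx).2]; exact hp.out⟩
    haveI : IsCyclic (G ⧸ N) := isCyclic_of_prime_card rfl
    have : ⁅a, b⁆ ∈ N := by
      rw [← QuotientGroup.eq_one_iff]
      show QuotientGroup.mk' N ⁅a, b⁆ = 1
      rw [map_commutatorElement, commutatorElement_eq_one_iff_mul_comm]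
      exact (IsCyclic.commGroup (α := G ⧸ N)).mul_comm _ _
    exact (mem_centralizer_singleton_iff.mp this).symm
  · obtain ⟨g, rfl⟩ := QuotientGroup.mk'_surjective _ a
    rw [← map_pow]
    refine (QuotientGroup.eq_one_iff _).mpr (mem_center_iff.mpr fun x => ?_)
    by_cases hx : x ∈ center G
    · exact (mem_center_iff.mp hx _).symm
    haveI := (key x hx).1
    have : g ^ p ∈ centralizer ({x} : Set G) := by
      rw [← QuotientGroup.eq_one_iff, QuotientGroup.mk_pow, ← (key x hx).2, index, pow_card_eq_one']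
    exact (mem_centralizer_singleton_iff.mp this).symm

theorem of_normal (h : Hyp G) (hB : ∀ p : ℕ, p.Prime → ¬ IsPGroup p (G ⧸ center G)) {x : G}
    (hx : x ∉ center G) [hMn : (centralizer ({x} : Set G)).Normal] : Concl G := by
  set Z := center G
  set f := QuotientGroup.mk' Z with hf
  set M := centralizer ({x} : Set G) with hM
  have hfs : Function.Surjective f := QuotientGroup.mk'_surjective Z
  set r := M.index with hr_def
  have hr : r.Prime := coatom_index_prime (h x hx)
  haveI := Fact.mk hr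
  obtain ⟨g₀, hg₀⟩ := SetLike.not_le_iff_exists.mp (fun hle => (h x hx).1 (top_le_iff.mp hle) :
    ¬ (⊤ : Subgroup G) ≤ M)
  have hgr : r ∣ orderOf (QuotientGroup.mk' M g₀) := by
    have h1 : orderOf (QuotientGroup.mk' M g₀) ∣ r := by
      rw [hr_def, index]; exact orderOf_dvd_natCard _
    rcases (Nat.dvd_prime hr).mp h1 with e | e
    · exact absurd ((QuotientGroup.eq_one_iff _).mp (orderOf_eq_one_iff.mp e)) hg₀.2
    · rw [e]
  set g := g₀ ^ (orderOf g₀ / r ^ (orderOf g₀).factorization r) with hg_def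
  set e := (orderOf g₀).factorization r
  have hge : g ^ r ^ e = 1 := (pow_part g₀ r).1
  have hgM : g ∉ M := part_notMem M g₀ hr hgr
  have hgZ : g ∉ Z := fun hg => hgM (center_le_cent x hg)
  set M' := centralizer ({g} : Set G) with hM'
  have hgM' : g ∈ M' := mem_centralizer_singleton_iff.mpr rfl
  have hMM' : M ⊔ M' = ⊤ := by
    refine (h x hx).2 _ (lt_of_le_not_ge le_sup_left fun hle => hgM (hle (mem_sup_right hgM')))
  have pow_mem_Z : ∀ {y : G} {a b : ℕ}, y ^ a ∈ Z → y ^ b ∈ Z → a.Coprime b → y ∈ Z := by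
    intro y a b ha hb hab
    obtain ⟨i, j, hij⟩ : IsCoprime (a : ℤ) b := Nat.isCoprime_iff_coprime.mpr hab
    have : y = (y ^ a) ^ i * (y ^ b) ^ j := by
      rw [← zpow_natCast y a, ← zpow_natCast y b, ← zpow_mul, ← zpow_mul, ← zpow_add, mul_comm _ i,
        mul_comm _ j, hij, zpow_one]
    rw [this]
    exact mul_mem (zpow_mem ha i) (zpow_mem hb j)
  have hidx : (M.map f).index = r :=
    index_map_eq M hfs (by rw [QuotientGroup.ker_mk']; exact center_le_cent x)
  haveI hMfn : (M.map f).Normal := hMn.map f hfs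
  have hxM : x ∈ M := mem_centralizer_singleton_iff.mpr rfl
  have hMne : M.map f ≠ ⊥ := fun e' => hx ((QuotientGroup.eq_one_iff x).mp
    (mem_bot.mp (e' ▸ mem_map_of_mem f hxM : f x ∈ (⊥ : Subgroup (G ⧸ Z)))))
  -- the centralizer `M` is abelian or a prime-power group modulo the centre
  obtain ⟨hD, hMnil⟩ : M ⊓ M' ≤ Z ∧ Group.IsNilpotent (M.map f : Subgroup (G ⧸ Z)) := by
    rcases dichotomy h hx with hab | ⟨s, hs, hpow⟩
    · refine ⟨fun y hy => ?_, ?_⟩
      · by_contra hyZ
        have hyM' : y ∈ M' := hy.2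
        refine hgM ?_
        rw [hM, cent_eq_of_comm h hx hyZ hab hy.1]
        exact mem_centralizer_singleton_iff.mpr (mem_centralizer_singleton_iff.mp hyM').symm
      · have hcomm : ∀ a b : (M.map f : Subgroup (G ⧸ Z)), a * b = b * a := by
          rintro ⟨_, a, ha, rfl⟩ ⟨_, b, hb, rfl⟩
          exact Subtype.ext (by show f a * f b = f b * f a; rw [← map_mul, hab a ha b hb, map_mul])
        let _ : CommGroup (M.map f : Subgroup (G ⧸ Z)) :=
          { (inferInstance : Group (M.map f : Subgroup (G ⧸ Z))) with mul_comm := hcomm }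
        infer_instance
    haveI := Fact.mk hs
    have hMs : IsPGroup s (M.map f : Subgroup (G ⧸ Z)) := by
      rintro ⟨_, a, ha, rfl⟩
      obtain ⟨k, hk⟩ := hpow a ha
      exact ⟨k, Subtype.ext (by show f a ^ s ^ k = 1; rw [← map_pow]; exact (QuotientGroup.eq_one_iff _).mpr hk)⟩
    have hsr : s ≠ r := fun e' => hB r hr <| by
      subst e'
      obtain ⟨a, ha⟩ := IsPGroup.iff_card.mp hMs
      exact IsPGroup.of_card (n := a + 1) (by rw [← (M.map f).card_mul_index, ha, hidx, pow_succ])
    refine ⟨fun y hy => ?_, hMs.isNilpotent⟩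
    by_contra hyZ
    haveI hMN : Group.IsNilpotent M := by
      haveI := hMs.isNilpotent
      refine Subgroup.isNilpotent_of_ker_le_center ((f.comp M.subtype).codRestrict (M.map f)
        fun m => mem_map_of_mem f m.2) (fun m hm => mem_center_iff.mpr fun m' => Subtype.ext ?_)
      have : (m : G) ∈ Z := (QuotientGroup.eq_one_iff _).mp (congrArg Subtype.val hm)
      exact mem_center_iff.mp this m'
    set D := M ⊓ M' with hD_def
    have spart : ∀ d ∈ D, d ^ s ^ (orderOf d).factorization s ∈ Z ∧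
        (d ^ (orderOf d / s ^ (orderOf d).factorization s) ∉ Z →
          centralizer ({d ^ (orderOf d / s ^ (orderOf d).factorization s)} : Set G) = M') := by
      intro d hd
      obtain ⟨k, hk⟩ := hpow d hd.1
      refine ⟨?_, fun hd1 => cent_eq_of_coprime h hd1 hgZ
        (mem_centralizer_singleton_iff.mp (pow_mem hd.2 _ : d ^ _ ∈ M'))
        (pow_part d s).1 hge ((Nat.coprime_primes hs hr).mpr hsr |>.pow _ _)⟩
      refine pow_mem_Z (a := orderOf d / s ^ (orderOf d).factorization s) (b := s ^ k) ?_ ?_ ?_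
      · rw [(pow_part d s).2]; exact one_mem _
      · rw [← pow_mul, mul_comm, pow_mul]; exact pow_mem hk _
      · exact ((Nat.coprime_ordCompl hs (orderOf_pos d).ne').pow_left k).symm
    obtain ⟨hy2, hy1⟩ := spart y hy
    have hy1Z : y ^ (orderOf y / s ^ (orderOf y).factorization s) ∉ Z := fun hh =>
      hyZ (pow_mem_Z hh hy2 ((Nat.coprime_ordCompl hs (orderOf_pos y).ne').pow_left _).symm)
    have hM'D : M' ≤ centralizer (D : Set G) := fun m hm => mem_centralizer_iff.mpr fun d hd => by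
      obtain ⟨hd2, hd1⟩ := spart d hd
      have c2 : Commute (d ^ s ^ (orderOf d).factorization s) m := (mem_center_iff.mp hd2 m).symm
      have c1 : Commute (d ^ (orderOf d / s ^ (orderOf d).factorization s)) m := by
        by_cases hdZ : d ^ (orderOf d / s ^ (orderOf d).factorization s) ∈ Z
        · exact (mem_center_iff.mp hdZ m).symm
        · rw [← hd1 hdZ] at hm
          exact (show Commute m _ from mem_centralizer_singleton_iff.mp hm).symm
      obtain ⟨i, j, hij⟩ : IsCoprime ((orderOf d / s ^ (orderOf d).factorization s : ℕ) : ℤ)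
          ((s ^ (orderOf d).factorization s : ℕ) : ℤ) := Nat.isCoprime_iff_coprime.mpr
        ((Nat.coprime_ordCompl hs (orderOf_pos d).ne').pow_left _).symm
      have := ((c1.zpow_left i).mul_left (c2.zpow_left j))
      rw [← zpow_natCast d, ← zpow_natCast d, ← zpow_mul, ← zpow_mul, ← zpow_add,
        mul_comm _ i, mul_comm _ j, hij, zpow_one] at this
      exact this.eq
    have hM'N : M' ≤ normalizer (D : Set G) := fun m hm => mem_normalizer_iff.mpr fun d =>
      and_congr (mem_normalizer_iff.mp ((normalizer_eq_top (H := M)) ▸ mem_top m) d)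
        (mem_normalizer_iff.mp (le_normalizer hm) d)
    haveI hDn : D.Normal := by
      have hlt : D.subgroupOf M < ⊤ := lt_top_iff_ne_top.mpr fun e' => hgM <| by
        have hle : M ≤ M' := fun m hm => (show (⟨m, hm⟩ : M) ∈ D.subgroupOf M by rw [e']; exact mem_top _).2
        rw [hM, cent_eq h hx hgZ (hM ▸ hle)]
        exact hgM'
      obtain ⟨⟨m, hmM⟩, hmN, hmD⟩ := SetLike.exists_of_lt (Group.normalizerCondition_of_isNilpotent _ hlt)
      rw [← normalizer_eq_top_iff]
      refine (h g hgZ).2 _ (lt_of_le_not_ge hM'N fun hle => hmD ⟨hmM, hle ?_⟩)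
      refine mem_normalizer_iff.mpr fun d => ?_
      by_cases hd : d ∈ M
      · exact (mem_normalizer_iff.mp hmN ⟨d, hd⟩)
      · refine iff_of_false (fun hh => hd hh.1) fun hh => hd ?_
        have := hMn.conj_mem _ hh.1 m⁻¹
        simpa [mul_assoc] using this
    haveI hM'n : M'.Normal := by
      have e1 : centralizer (D : Set G) = M' := by
        refine le_antisymm ?_ hM'D
        rw [← hy1 hy1Z]
        exact centralizer_le (Set.singleton_subset_iff.mpr (pow_mem hy _ : y ^ _ ∈ D))
      rw [← e1]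
      exact normal_centralizer
    refine hgZ (mem_center_iff.mpr fun v => ?_)
    suffices hle : M ≤ M' by
      rw [sup_of_le_right hle] at hMM'
      exact (mem_centralizer_singleton_iff.mp (hMM'.symm ▸ mem_top v : v ∈ M'))
    intro m hm
    have hc1 : m * g * m⁻¹ ∈ M' := hM'n.conj_mem g hgM' m
    have hcM : ⁅m, g⁆ ∈ M := by
      rw [commutatorElement_def, mul_assoc, mul_assoc, ← mul_assoc g]
      exact mul_mem hm (hMn.conj_mem _ (inv_mem hm) g)
    have hcp : ⁅m, g⁆ ^ r ^ e = 1 := by
      rw [commutatorElement_def, ((show Commute (m * g * m⁻¹) g from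
        mem_centralizer_singleton_iff.mp hc1).inv_right).mul_pow, conj_pow, inv_pow, hge]
      group
    obtain ⟨k, hk⟩ := hpow _ hcM
    have hcZ : ⁅m, g⁆ ∈ Z := pow_mem_Z (a := s ^ k) (b := r ^ e) hk (by rw [hcp]; exact one_mem _)
      ((Nat.coprime_primes hs hr).mpr hsr |>.pow _ _)
    obtain ⟨k', hk'⟩ := hpow m hm
    exact mem_centralizer_singleton_iff.mpr (commute_of_coprime hcZ hk' hge
      ((Nat.coprime_primes hs hr).mpr hsr |>.pow _ _)).eq
  -- the quotient is a faithful irreducible extension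
  have hinf : M'.map f ⊓ M.map f = ⊥ := by
    rw [eq_bot_iff]
    rintro _ ⟨⟨y, hy, rfl⟩, hyM⟩
    exact mem_bot.mpr ((QuotientGroup.eq_one_iff y).mpr (hD ⟨map_cent_mem.mp hyM, hy⟩))
  have hsup : M'.map f ⊔ M.map f = ⊤ := by
    rw [← Subgroup.map_sup, sup_comm, hMM', map_top_of_surjective f hfs]
  have hcardM' : Nat.card (M'.map f : Subgroup (G ⧸ Z)) = r := by
    have h1 := card_sup_mul_card_inf_normal (H := M'.map f) (N := M.map f)
    rw [hsup, hinf, card_top, card_bot, mul_one, ← (M.map f).card_mul_index, hidx, mul_comm] at h1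
    exact (Nat.eq_of_mul_eq_mul_right Nat.card_pos h1).symm
  have hcoat : ∀ T : Subgroup (G ⧸ Z), M'.map f ≤ T → T = M'.map f ∨ T = ⊤ := by
    intro T hT
    have h1 : M' ≤ T.comap f := map_le_iff_le_comap.mp hT
    rcases (h g hgZ).le_iff.mp h1 with e' | e'
    · exact Or.inr (by rw [← map_comap_eq_self_of_surjective hfs T, e', map_top_of_surjective f hfs])
    · exact Or.inl (by rw [← map_comap_eq_self_of_surjective hfs T, e'])
  have hinv : ∀ T : Subgroup (G ⧸ Z), T ≤ M.map f → M'.map f ≤ normalizer (T : Set (G ⧸ Z)) →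
      T = ⊥ ∨ T = M.map f := by
    intro T hT hN
    rcases hcoat (M'.map f ⊔ T) le_sup_left with e' | e'
    · exact Or.inl (le_bot_iff.mp (hinf ▸ le_inf (le_sup_right.trans e'.le) hT))
    · refine Or.inr (eq_of_le_of_card_ge hT ?_)
      have h1 := Nat.le_of_dvd (Nat.mul_pos Nat.card_pos Nat.card_pos) (card_sup_dvd_mul (H := M'.map f) (N := T) hN)
      rw [e', card_top, ← (M.map f).card_mul_index, hidx, hcardM', mul_comm r] at h1
      exact Nat.le_of_mul_le_mul_right h1 hr.pos
  haveI : Nontrivial (M.map f : Subgroup (G ⧸ Z)) := (nontrivial_iff_ne_bot _).mpr hMne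
  have hcommM : ∀ a ∈ M.map f, ∀ b ∈ M.map f, a * b = b * a := by
    haveI : Group.IsSolvable (M.map f : Subgroup (G ⧸ Z)) := @IsNilpotent.to_isSolvable _ _ hMnil
    have hT : ⁅M.map f, M.map f⁆ = ⊥ := by
      refine (hinv _ (commutator_le_left _ _) ?_).resolve_right fun e' => ?_
      · rw [normalizer_eq_top]; exact le_top
      · have hlt := Group.IsSolvable.commutator_lt_top_of_nontrivial (M.map f : Subgroup (G ⧸ Z))
        refine hlt.ne (map_injective (M.map f).subtype_injective ?_)
        rw [_root_.commutator_def, Subgroup.map_commutator, ← MonoidHom.range_eq_map, range_subtype, e']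
    intro a ha b hb
    exact commutatorElement_eq_one_iff_mul_comm.mp
      (mem_bot.mp (hT ▸ commutator_mem_commutator ha hb : ⁅a, b⁆ ∈ (⊥ : Subgroup (G ⧸ Z))))
  obtain ⟨s, hs, hsd⟩ := Nat.exists_prime_and_dvd
    (fun e' => hMne (card_eq_one.mp e') : Nat.card (M.map f : Subgroup (G ⧸ Z)) ≠ 1)
  haveI := Fact.mk hs
  let T : Subgroup (G ⧸ Z) :=
    { carrier := {y | y ∈ M.map f ∧ y ^ s = 1}
      mul_mem' := fun {a b} ha hb => ⟨mul_mem ha.1 hb.1, by
        rw [(show Commute a b from hcommM a ha.1 b hb.1).mul_pow, ha.2, hb.2, one_mul]⟩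
      one_mem' := ⟨one_mem _, one_pow s⟩
      inv_mem' := fun {a} ha => ⟨inv_mem ha.1, by rw [inv_pow, ha.2, inv_one]⟩ }
  haveI : T.Normal := ⟨fun y hy c => ⟨hMfn.conj_mem y hy.1 c, by
    rw [conj_pow, hy.2, mul_one, mul_inv_cancel]⟩⟩
  have hTM : T = M.map f := by
    refine (hinv T (fun y hy => hy.1) (by rw [normalizer_eq_top]; exact le_top)).resolve_left fun e' => ?_
    obtain ⟨y, hy⟩ := exists_prime_orderOf_dvd_card' s hsd
    have : (y : G ⧸ Z) ∈ T := ⟨y.2, by rw [← SubgroupClass.coe_pow, ← hy, pow_orderOf_eq_one]; rfl⟩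
    rw [e', mem_bot] at this
    rw [show y = 1 from Subtype.ext this, orderOf_one] at hy
    exact hs.ne_one hy.symm
  have hMs : IsPGroup s (M.map f : Subgroup (G ⧸ Z)) := fun y => ⟨1, Subtype.ext (by
    rw [pow_one]
    exact (hTM.symm ▸ y.2 : (y : G ⧸ Z) ∈ T).2)⟩
  obtain ⟨a, ha⟩ := IsPGroup.iff_card.mp hMs
  have hsr : s ≠ r := fun e' => hB r hr <| IsPGroup.of_card (n := a + 1) (by
    rw [← (M.map f).card_mul_index, ha, hidx, e', pow_succ])
  refine Or.inr ⟨fun hc => ?_, fun H hH => ?_, s, r, a, hs, hr, hsr, ?_, fun P hP => ?_⟩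
  · have hxg : ⁅x, g⁆ ∈ Z := by
      rw [← QuotientGroup.eq_one_iff]
      show f ⁅x, g⁆ = 1
      rw [map_commutatorElement, commutatorElement_eq_one_iff_mul_comm]
      exact hc.is_comm.comm _ _
    have hxs : x ^ s ∈ Z := (QuotientGroup.eq_one_iff _).mp (by
      show f (x ^ s) = 1
      rw [map_pow]
      exact (hTM.symm ▸ mem_map_of_mem f hxM : f x ∈ T).2)
    exact hx (hD ⟨hxM, mem_centralizer_singleton_iff.mpr (commute_of_coprime hxg hxs hge
      ((Nat.coprime_primes hs hr).mpr hsr |>.pow_right _)).eq⟩)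
  · by_cases hHM : H ≤ M.map f
    · exact ⟨⟨fun a b => Subtype.ext (hcommM a (hHM a.2) b (hHM b.2))⟩⟩
    have hHtop : H ⊔ M.map f = ⊤ := by
      have h1 := index_dvd_of_le (le_sup_right : M.map f ≤ H ⊔ M.map f)
      rw [hidx] at h1
      rcases (Nat.dvd_prime hr).mp h1 with e' | e'
      · exact index_eq_one.mp e'
      · have h2 := relIndex_mul_index (le_sup_right : M.map f ≤ H ⊔ M.map f)
        rw [e', hidx] at h2
        exact absurd (le_sup_left.trans (relIndex_eq_one.mp
          (Nat.eq_of_mul_eq_mul_right hr.pos (h2.trans (one_mul r).symm)))) hHM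
    haveI : (H ⊓ M.map f).Normal := by
      rw [← normalizer_eq_top_iff, eq_top_iff, ← hHtop]
      refine sup_le (fun c hc => mem_normalizer_iff.mpr fun y => and_congr
        (mem_normalizer_iff.mp (le_normalizer hc) y)
        (mem_normalizer_iff.mp ((normalizer_eq_top (H := M.map f)) ▸ mem_top c) y)) fun c hc => ?_
      have key : ∀ c ∈ M.map f, ∀ y ∈ H ⊓ M.map f, c * y * c⁻¹ ∈ H ⊓ M.map f := fun c hc y hy => by
        rwa [hcommM c hc y hy.2, mul_inv_cancel_right]
      refine mem_normalizer_iff.mpr fun y => ⟨key c hc y, fun hy => ?_⟩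
      have := key c⁻¹ (inv_mem hc) _ hy
      simpa [mul_assoc] using this
    have h1 := card_sup_mul_card_inf_normal (H := H) (N := M.map f)
    rw [hHtop, card_top, ← (M.map f).card_mul_index, hidx] at h1
    rcases hinv (H ⊓ M.map f) inf_le_right (by rw [normalizer_eq_top]; exact le_top) with e' | e'
    · rw [e', card_bot, mul_one, mul_comm] at h1
      haveI : Fact (Nat.card H).Prime :=
        ⟨(Nat.eq_of_mul_eq_mul_right Nat.card_pos h1) ▸ hr⟩
      haveI : IsCyclic H := isCyclic_of_prime_card rfl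
      exact ⟨⟨(IsCyclic.commGroup (α := H)).mul_comm⟩⟩
    · refine absurd ?_ hH
      rw [← hHtop]
      exact (sup_of_le_left (inf_eq_right.mp e')).symm
  · rw [← (M.map f).card_mul_index, ha, hidx]
  · have : P = M.map f := by
      refine eq_of_le_of_card_ge (le_of_coprime_index ?_) (by rw [ha, hP])
      rw [hP, hidx]
      exact ((Nat.coprime_primes hs hr).mpr hsr).pow_left a
    rw [this]; exact hMfn

theorem mb_coatom (h : Hyp G) {y : G} (hy : y ∉ center G) :
    IsCoatom ((centralizer ({y} : Set G)).map f₀) := by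
  have hfs := QuotientGroup.mk'_surjective (center G)
  refine ⟨fun e => (h y hy).1 ?_, fun T hT => ?_⟩
  · rw [eq_top_iff]
    intro v _
    exact map_cent_mem.mp (e ▸ mem_top (f₀ v))
  · rcases (h y hy).le_iff.mp (map_le_iff_le_comap.mp hT.le) with e | e
    · rw [← map_comap_eq_self_of_surjective hfs T, e, map_top_of_surjective _ hfs]
    · exact absurd (by rw [← map_comap_eq_self_of_surjective hfs T, e]) hT.ne'

theorem mb_self_mem (y : G) : f₀ y ∈ (centralizer ({y} : Set G)).map f₀ :=
  mem_map_of_mem _ (mem_centralizer_singleton_iff.mpr rfl)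

/-- An abelian centralizer meets any other one trivially. -/
theorem mb_eq (h : Hyp G) {x y : G} (hx : x ∉ center G) (hy : y ∉ center G)
    (hab : ∀ a ∈ centralizer ({x} : Set G), ∀ b ∈ centralizer ({x} : Set G), a * b = b * a)
    (hne : (centralizer ({x} : Set G)).map f₀ ⊓ (centralizer ({y} : Set G)).map f₀ ≠ ⊥) :
    centralizer ({x} : Set G) = centralizer {y} := by
  obtain ⟨q, ⟨hq1, hq2⟩, hq⟩ : ∃ q ∈ (centralizer ({x} : Set G)).map f₀ ⊓
      (centralizer ({y} : Set G)).map f₀, q ≠ 1 := by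
    by_contra hno
    push Not at hno
    exact hne ((eq_bot_iff_forall _).mpr hno)
  obtain ⟨z, hz, rfl⟩ := hq1
  have hzZ : z ∉ center G := fun e => hq ((QuotientGroup.eq_one_iff z).mpr e)
  have hzy := map_cent_mem.mp hq2
  have hyx : y ∈ centralizer ({x} : Set G) := by
    rw [cent_eq_of_comm h hx hzZ hab hz]
    exact mem_centralizer_singleton_iff.mpr (mem_centralizer_singleton_iff.mp hzy).symm
  exact cent_eq_of_comm h hx hy hab hyx

theorem char_sylow_normal {Q : Type u} [Group Q] [Finite Q] {K : Subgroup Q} [K.Normal]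
    (hK : Group.IsNilpotent K) (hne : K ≠ ⊥) :
    ∃ (p : ℕ) (V : Subgroup Q), p.Prime ∧ IsPGroup p V ∧ V.Normal ∧ V ≠ ⊥ := by
  obtain ⟨p, hp, hpd⟩ := Nat.exists_prime_and_dvd (fun e => hne (card_eq_one.mp e) : Nat.card K ≠ 1)
  haveI := Fact.mk hp
  obtain ⟨P⟩ : Nonempty (Sylow p K) := inferInstance
  have hPn : (P : Subgroup K).Normal := isNilpotent_iff_sylow_normal.mp hK p inferInstance P
  haveI := P.characteristic_of_normal hPn
  exact ⟨p, (P : Subgroup K).map K.subtype, hp, P.2.map _, normal_of_characteristic_map _, fun e =>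
    P.ne_bot_of_dvd_card hpd ((Subgroup.map_eq_bot_iff_of_injective _ K.subtype_injective).mp e)⟩

theorem exists_normal_pSubgroup (h : Hyp G) (hB : ∀ p : ℕ, p.Prime → ¬ IsPGroup p (G ⧸ center G))
    (hnn : ∀ x : G, x ∉ center G → ¬ (centralizer ({x} : Set G)).Normal) :
    ∃ (p : ℕ) (V : Subgroup (G ⧸ center G)), p.Prime ∧ IsPGroup p V ∧ V.Normal ∧ V ≠ ⊥ := by
  have hfs := QuotientGroup.mk'_surjective (center G)
  by_cases hab : ∃ x, x ∉ center G ∧
      ∀ a ∈ centralizer ({x} : Set G), ∀ b ∈ centralizer ({x} : Set G), a * b = b * a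
  · obtain ⟨x, hx, hab⟩ := hab
    set H := (centralizer ({x} : Set G)).map f₀
    have hH1 : H ≠ ⊥ := fun e => hx ((QuotientGroup.eq_one_iff x).mp
      (mem_bot.mp (e ▸ mb_self_mem x)))
    have hF : Cfsg.IsFrobeniusComplement H := by
      refine ⟨hH1, (mb_coatom h hx).1, fun c hc => ?_⟩
      obtain ⟨c, rfl⟩ := hfs c
      by_contra hne
      have hconj : MulAut.conj (f₀ c) • H = (centralizer ({c * x * c⁻¹} : Set G)).map f₀ := by
        ext q
        obtain ⟨v, rfl⟩ := hfs q
        rw [mem_smul_conj, ← map_inv, ← map_mul, ← map_mul, map_cent_mem, map_cent_mem,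
          mem_centralizer_singleton_iff, mem_centralizer_singleton_iff]
        constructor <;> intro e
        · calc v * (c * x * c⁻¹) = c * (c⁻¹ * v * c * x) * c⁻¹ := by group
            _ = c * x * c⁻¹ * v := by rw [e]; group
        · calc c⁻¹ * v * c * x = c⁻¹ * (v * (c * x * c⁻¹)) * c := by group
            _ = x * (c⁻¹ * v * c) := by rw [e]; group
      rw [hconj] at hne
      have hcx : c * x * c⁻¹ ∉ center G := fun e => hx (by
        simpa [mul_assoc] using ((center G).normal_of_characteristic.conj_mem _ e c⁻¹))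
      have heq := mb_eq h hx hcx hab hne
      have hnorm : f₀ c ∈ normalizer (H : Set (G ⧸ center G)) := by
        rw [mem_normalizer_iff_smul, hconj, ← heq]
      refine hc ?_
      have hle : H ≤ normalizer (H : Set (G ⧸ center G)) := le_normalizer
      rcases (mb_coatom h hx).le_iff.mp hle with e | e
      · exfalso
        refine hnn x hx ?_
        have hn : H.Normal := normalizer_eq_top_iff.mp e
        have h2 : H.comap f₀ = centralizer ({x} : Set G) := Subgroup.ext fun v => map_cent_mem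
        rw [← h2]
        exact hn.comap _
      · exact e.le hnorm
    haveI := Fintype.ofFinite (G ⧸ center G)
    obtain ⟨K, -, hKn, hKc, hKnil⟩ := frobenius_kernel_spec hF
    refine char_sylow_normal hKnil fun e => ?_
    subst e
    exact (mb_coatom h hx).1 (Subgroup.isComplement'_bot_left.mp hKc)
  push Not at hab
  have hpp : ∀ x : G, x ∉ center G →
      ∃ r : ℕ, r.Prime ∧ IsPGroup r ((centralizer ({x} : Set G)).map f₀) := by
    intro x hx
    rcases dichotomy h hx with hh | ⟨r, hr, hpow⟩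
    · obtain ⟨a, ha, b, hb, hne⟩ := hab x hx
      exact absurd (hh a ha b hb) hne
    · refine ⟨r, hr, ?_⟩
      rintro ⟨_, a, ha, rfl⟩
      obtain ⟨k, hk⟩ := hpow a ha
      exact ⟨k, Subtype.ext (by show f₀ a ^ r ^ k = 1; rw [← map_pow]; exact (QuotientGroup.eq_one_iff _).mpr hk)⟩
  have hEPPO : ∀ q : G ⧸ center G, q ≠ 1 → ∃ r k : ℕ, r.Prime ∧ q ^ r ^ k = 1 := by
    intro q hq
    obtain ⟨x, rfl⟩ := hfs q
    obtain ⟨r, hr, hrp⟩ := hpp x (fun e => hq ((QuotientGroup.eq_one_iff x).mpr e))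
    obtain ⟨k, hk⟩ := hrp ⟨_, mb_self_mem x⟩
    exact ⟨r, k, hr, congrArg Subtype.val hk⟩
  obtain ⟨p, hp, hp2, hpd⟩ : ∃ p : ℕ, p.Prime ∧ p ≠ 2 ∧ p ∣ Nat.card (G ⧸ center G) := by
    by_contra hno
    push Not at hno
    refine hB 2 Nat.prime_two ?_
    refine IsPGroup.of_card (n := (Nat.card (G ⧸ center G)).primeFactorsList.length) ?_
    refine Nat.eq_prime_pow_of_unique_prime_dvd Nat.card_pos.ne' fun {d} hd hdvd => ?_
    by_contra hd2
    exact hno d hd hd2 hdvd
  haveI := Fact.mk hp
  obtain ⟨y, hy⟩ := exists_prime_orderOf_dvd_card' (G := G ⧸ center G) p hpd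
  obtain ⟨S, hS⟩ := (IsPGroup.of_card (n := 1) (by rw [Nat.card_zpowers, hy, pow_one]) :
    IsPGroup p (zpowers y)).exists_le_sylow
  have hyS : y ∈ (S : Subgroup (G ⧸ center G)) := hS (mem_zpowers y)
  have hy1 : y ≠ 1 := fun e => by rw [e, orderOf_one] at hy; exact hp.ne_one hy.symm
  obtain ⟨x, hxy⟩ := hfs y
  subst hxy
  have hx : x ∉ center G := fun e => hy1 ((QuotientGroup.eq_one_iff x).mpr e)
  obtain ⟨r, hr, hrp⟩ := hpp x hx
  have hrp' : r = p := by
    by_contra hne
    haveI := Fact.mk hr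
    obtain ⟨k, hk⟩ := hrp ⟨_, mb_self_mem x⟩
    have := orderOf_dvd_of_pow_eq_one (congrArg Subtype.val hk : (f₀ x) ^ r ^ k = 1)
    rw [hy] at this
    exact hne (((Nat.prime_dvd_prime_iff_eq hp hr).mp (hp.dvd_of_dvd_pow this)).symm)
  subst hrp'
  obtain ⟨S', hS'⟩ := hrp.exists_le_sylow
  have hS'co : (S' : Subgroup (G ⧸ center G)) = (centralizer ({x} : Set G)).map f₀ := by
    rcases (mb_coatom h hx).le_iff.mp hS' with e | e
    · refine absurd ?_ (hB r hr)
      exact (e ▸ S'.2 : IsPGroup r (⊤ : Subgroup (G ⧸ center G))).of_equiv Subgroup.topEquiv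
    · exact e
  have hS'c : IsCoatom (S' : Subgroup (G ⧸ center G)) := hS'co ▸ mb_coatom h hx
  by_cases hWn : ∃ W : Subgroup (G ⧸ center G), W ≤ S' ∧ W ≠ ⊥ ∧ W.Normal
  · obtain ⟨W, hW, hW1, hW2⟩ := hWn
    exact ⟨r, W, hr, S'.2.to_le hW, hW2, hW1⟩
  push Not at hWn
  have hnorm : ∀ W : Subgroup (G ⧸ center G), W ≤ S' → W ≠ ⊥ →
      normalizer ((S' : Subgroup (G ⧸ center G)) : Set (G ⧸ center G)) ≤ normalizer (W : Set (G ⧸ center G)) →
      Cfsg.HasNormalPComplement r ↥(normalizer (W : Set (G ⧸ center G))) := by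
    intro W hW hW1 hle
    have e : normalizer (W : Set (G ⧸ center G)) = (S' : Subgroup (G ⧸ center G)) := by
      rcases hS'c.le_iff.mp (le_normalizer.trans hle) with e | e
      · exact absurd (normalizer_eq_top_iff.mp e) (hWn W hW hW1)
      · exact e
    rw [e]
    exact hasNormalPComplement_of_nilpotent S'.2.isNilpotent
  haveI hSne : Nontrivial (S' : Subgroup (G ⧸ center G)) := (nontrivial_iff_ne_bot _).mpr fun e =>
    hy1 (mem_bot.mp (e ▸ hS'co.symm ▸ mb_self_mem x : f₀ x ∈ (⊥ : Subgroup (G ⧸ center G))))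
  have hinj : Function.Injective (Subgroup.map (S' : Subgroup (G ⧸ center G)).subtype) :=
    map_injective (Subgroup.subtype_injective _)
  have hcompl : Cfsg.HasNormalPComplement r (G ⧸ center G) := by
    refine hasNormalPComplement_of_thompson hp2 S' (hnorm _ ?_ ?_ ?_) (hnorm _ ?_ ?_ ?_)
    · exact map_subtype_le _
    · intro e
      rw [← Subgroup.map_bot (S' : Subgroup (G ⧸ center G)).subtype] at e
      exact (omegaCenter_isCharPFunctor.1 _ S'.2 hSne) (hinj e)
    · exact le_normalizer_inducedFunctor omegaCenter_isCharPFunctor S'.2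
    · exact map_subtype_le _
    · intro e
      rw [← Subgroup.map_bot (S' : Subgroup (G ⧸ center G)).subtype] at e
      exact (thompsonA_isCharPFunctor.1 _ S'.2 hSne) (hinj e)
    · exact le_normalizer_inducedFunctor thompsonA_isCharPFunctor S'.2
  obtain ⟨P, K, hKn, hKc⟩ := hcompl
  have hKne : K ≠ ⊥ := fun e => by
    subst e
    refine hB r hr ?_
    exact (Subgroup.isComplement'_bot_left.mp hKc ▸ P.2 : IsPGroup r (⊤ : Subgroup (G ⧸ center G))).of_equiv
      Subgroup.topEquiv
  refine char_sylow_normal (isNilpotent_of_fpf (p := r) (b := f₀ x)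
    (by rw [← hy, pow_orderOf_eq_one]) (by rw [normalizer_eq_top]; exact mem_top _) ?_) hKne
  rw [eq_bot_iff]
  rintro k ⟨hkK, hkc⟩
  rw [mem_bot]
  by_contra hk1
  have hcomm : Commute k (f₀ x) := mem_centralizer_singleton_iff.mp hkc
  have hkr : ¬ r ∣ orderOf k := by
    intro hd
    have h1 : orderOf k ∣ Nat.card K := by
      have := orderOf_dvd_natCard (⟨k, hkK⟩ : K)
      rwa [orderOf_mk] at this
    have h2 : (Nat.card K) = (P : Subgroup (G ⧸ center G)).index := hKc.index_eq_card.symm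
    exact P.not_dvd_index (h2 ▸ hd.trans h1)
  have hord : orderOf (k * f₀ x) = orderOf k * r := by
    rw [hcomm.orderOf_mul_eq_mul_orderOf_of_coprime (by
      rw [hy]; exact ((Nat.Prime.coprime_iff_not_dvd hr).mpr hkr).symm), hy]
  obtain ⟨t, j, ht, htj⟩ := hEPPO (k * f₀ x) fun e => by
    rw [e, orderOf_one] at hord
    have := hr.one_lt
    have := orderOf_pos k
    nlinarith
  have hd := orderOf_dvd_of_pow_eq_one htj
  rw [hord] at hd
  have htr : r = t := (Nat.prime_dvd_prime_iff_eq hr ht).mp (hr.dvd_of_dvd_pow ((dvd_mul_left r _).trans hd))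
  subst htr
  exact hk1 (orderOf_eq_one_iff.mp (Nat.Coprime.eq_one_of_dvd
    (((Nat.Prime.coprime_iff_not_dvd hr).mpr hkr).symm.pow_right j) ((dvd_mul_right _ r).trans hd)))

theorem exists_normal_centralizer (h : Hyp G) (hB : ∀ p : ℕ, p.Prime → ¬ IsPGroup p (G ⧸ center G)) :
    ∃ x : G, x ∉ center G ∧ (centralizer ({x} : Set G)).Normal := by
  by_contra hnn
  push Not at hnn
  have hfs := QuotientGroup.mk'_surjective (center G)
  obtain ⟨p, V, hp, hVp, hVn, hVne⟩ := exists_normal_pSubgroup h hB hnn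
  haveI := hVn
  haveI := Fact.mk hp
  have absurd_normal : ∀ x : G, x ∉ center G →
      (∀ a ∈ centralizer ({x} : Set G), ∀ b ∈ centralizer ({x} : Set G), a * b = b * a) →
      ∀ D : Subgroup (G ⧸ center G), D.Normal → D ≤ (centralizer ({x} : Set G)).map f₀ → D ≠ ⊥ → False := by
    intro x hx hab D hDn hDle hD
    obtain ⟨q, hq, hq1⟩ : ∃ q ∈ D, q ≠ 1 := by
      by_contra hno
      push Not at hno
      exact hD ((eq_bot_iff_forall _).mpr hno)
    obtain ⟨d, rfl⟩ := hfs q
    have hdZ : d ∉ center G := fun e => hq1 ((QuotientGroup.eq_one_iff d).mpr e)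
    refine hnn x hx ?_
    haveI := hDn.comap f₀
    have hDM : D.comap f₀ ≤ centralizer ({x} : Set G) := fun v hv => map_cent_mem.mp (hDle hv)
    have : centralizer ({x} : Set G) = centralizer ((D.comap f₀ : Subgroup G) : Set G) := by
      refine le_antisymm (fun v hv => mem_centralizer_iff.mpr fun w hw => hab w (hDM hw) v hv) ?_
      rw [cent_eq_of_comm h hx hdZ hab (hDM hq)]
      exact centralizer_le (Set.singleton_subset_iff.mpr hq)
    rw [this]
    exact normal_centralizer
  -- abelian centralizers meeting `V`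
  have habV : ∀ x : G, x ∉ center G →
      (∀ a ∈ centralizer ({x} : Set G), ∀ b ∈ centralizer ({x} : Set G), a * b = b * a) →
      (centralizer ({x} : Set G)).map f₀ ⊓ V = ⊥ := by
    intro x hx hab
    set H := (centralizer ({x} : Set G)).map f₀
    by_contra hD
    by_cases hVH : V ≤ H
    · exact absurd_normal x hx hab V hVn hVH hVne
    refine absurd_normal x hx hab (H ⊓ V) ?_ inf_le_left hD
    have hlt : (H ⊓ V).subgroupOf V < ⊤ := lt_top_iff_ne_top.mpr fun e => hVH fun v hv =>
      (show (⟨v, hv⟩ : V) ∈ (H ⊓ V).subgroupOf V by rw [e]; exact mem_top _).1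
    haveI := hVp.isNilpotent
    obtain ⟨⟨v, hvV⟩, hvN, hvD⟩ := SetLike.exists_of_lt (Group.normalizerCondition_of_isNilpotent _ hlt)
    rw [← normalizer_eq_top_iff]
    have hHN : H ≤ normalizer ((H ⊓ V : Subgroup (G ⧸ center G)) : Set (G ⧸ center G)) := fun c hc =>
      mem_normalizer_iff.mpr fun y => and_congr (mem_normalizer_iff.mp (le_normalizer hc) y)
        (mem_normalizer_iff.mp ((normalizer_eq_top (H := V)) ▸ mem_top c) y)
    refine (mb_coatom h hx).2 _ (lt_of_le_not_ge hHN fun hle => hvD ⟨hle ?_, hvV⟩)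
    refine mem_normalizer_iff.mpr fun y => ?_
    by_cases hy : y ∈ V
    · exact mem_normalizer_iff.mp hvN ⟨y, hy⟩
    · refine iff_of_false (fun hh => hy hh.2) fun hh => hy ?_
      have := hVn.conj_mem _ hh.2 v⁻¹
      simpa [mul_assoc] using this
  obtain ⟨q, hq, hqp, hqd⟩ : ∃ q : ℕ, q.Prime ∧ q ≠ p ∧ q ∣ Nat.card (G ⧸ center G) := by
    by_contra hno
    push Not at hno
    refine hB p hp (IsPGroup.of_card (n := (Nat.card (G ⧸ center G)).primeFactorsList.length) ?_)
    refine Nat.eq_prime_pow_of_unique_prime_dvd Nat.card_pos.ne' fun {d} hd hdvd => ?_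
    by_contra hd2
    exact hno d hd hd2 hdvd
  haveI := Fact.mk hq
  obtain ⟨b, hb⟩ := exists_prime_orderOf_dvd_card' (G := G ⧸ center G) q hqd
  obtain ⟨x, rfl⟩ := hfs b
  have hx : x ∉ center G := fun e => by
    rw [show f₀ x = 1 from (QuotientGroup.eq_one_iff x).mpr e, orderOf_one] at hb
    exact hq.ne_one hb.symm
  set H := (centralizer ({x} : Set G)).map f₀ with hH
  have hDbot : H ⊓ V = ⊥ ∧ ((∀ a ∈ centralizer ({x} : Set G), ∀ c ∈ centralizer ({x} : Set G), a * c = c * a) ∨
      IsPGroup q H) := by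
    rcases dichotomy h hx with hab | ⟨r, hr, hpow⟩
    · exact ⟨habV x hx hab, Or.inl hab⟩
    haveI := Fact.mk hr
    have hHr : IsPGroup r H := by
      rintro ⟨_, a, ha, rfl⟩
      obtain ⟨k, hk⟩ := hpow a ha
      exact ⟨k, Subtype.ext (by show f₀ a ^ r ^ k = 1; rw [← map_pow]; exact (QuotientGroup.eq_one_iff _).mpr hk)⟩
    have hrq : r = q := by
      obtain ⟨k, hk⟩ := hHr ⟨_, mb_self_mem x⟩
      have := orderOf_dvd_of_pow_eq_one (congrArg Subtype.val hk : (f₀ x) ^ r ^ k = 1)
      rw [hb] at this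
      exact ((Nat.prime_dvd_prime_iff_eq hq hr).mp (hq.dvd_of_dvd_pow this)).symm
    subst hrq
    refine ⟨inf_eq_bot_of_coprime ?_, Or.inr hHr⟩
    obtain ⟨i, hi⟩ := IsPGroup.iff_card.mp hHr
    obtain ⟨j, hj⟩ := IsPGroup.iff_card.mp hVp
    rw [hi, hj]
    exact ((Nat.coprime_primes hr hp).mpr hqp).pow i j
  obtain ⟨v', hv', hv1⟩ : ∃ v ∈ V, v ≠ 1 := by
    by_contra hno
    push Not at hno
    exact hVne ((eq_bot_iff_forall _).mpr hno)
  obtain ⟨v, rfl⟩ := hfs v'
  have hv : v ∉ center G := fun e => hv1 ((QuotientGroup.eq_one_iff v).mpr e)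
  set H' := (centralizer ({v} : Set G)).map f₀ with hH'
  have hHtop : H ⊔ V = ⊤ := (mb_coatom h hx).2 _ (lt_of_le_not_ge le_sup_left fun hle =>
    hVne (le_bot_iff.mp (hDbot.1 ▸ le_inf (le_sup_right.trans hle) le_rfl)))
  rcases dichotomy h hv with hab | ⟨r, hr, hpow⟩
  · exact hv1 (mem_bot.mp (habV v hv hab ▸ ⟨mb_self_mem v, hv'⟩ : f₀ v ∈ (⊥ : Subgroup (G ⧸ center G))))
  haveI := Fact.mk hr
  have hH'r : IsPGroup r H' := by
    rintro ⟨_, a, ha, rfl⟩
    obtain ⟨k, hk⟩ := hpow a ha
    exact ⟨k, Subtype.ext (by show f₀ a ^ r ^ k = 1; rw [← map_pow]; exact (QuotientGroup.eq_one_iff _).mpr hk)⟩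
  have hrp : r = p := by
    obtain ⟨k, hk⟩ := hH'r ⟨_, mb_self_mem v⟩
    obtain ⟨j, hj⟩ := hVp ⟨_, hv'⟩
    by_contra hne
    refine hv1 (orderOf_eq_one_iff.mp (Nat.eq_one_of_dvd_coprimes
      (((Nat.coprime_primes hr hp).mpr hne).pow k j) (orderOf_dvd_of_pow_eq_one (congrArg Subtype.val hk))
      (orderOf_dvd_of_pow_eq_one (congrArg Subtype.val hj))))
  subst hrp
  have hVle : V ≤ H' := by
    rcases (mb_coatom h hv).le_iff.mp (le_sup_left : H' ≤ H' ⊔ V) with e | e
    · refine absurd ?_ (hB r hr)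
      exact (e ▸ hH'r.to_sup_of_normal_right hVp : IsPGroup r (⊤ : Subgroup (G ⧸ center G))).of_equiv
        Subgroup.topEquiv
    · exact le_sup_right.trans e.le
  have hHH' : H ⊓ H' = ⊥ := by
    rcases hDbot.2 with hab | hHq
    · by_contra hne
      exact hv1 (mem_bot.mp (hDbot.1 ▸ ⟨by
        rw [hH, mb_eq h hx hv hab hne]; exact mb_self_mem v, hv'⟩ : f₀ v ∈ (⊥ : Subgroup (G ⧸ center G))))
    · refine inf_eq_bot_of_coprime ?_
      obtain ⟨i, hi⟩ := IsPGroup.iff_card.mp hHq
      obtain ⟨j, hj⟩ := IsPGroup.iff_card.mp hH'r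
      rw [hi, hj]
      exact ((Nat.coprime_primes hq hr).mpr hqp).pow i j
  refine hnn v hv ?_
  have hVH' : H' = V := by
    refine le_antisymm (fun c hc => ?_) hVle
    obtain ⟨a, ha, w, hw, rfl⟩ := mem_sup_of_normal_right.mp (hHtop.symm ▸ mem_top c : c ∈ H ⊔ V)
    have : a ∈ H ⊓ H' := ⟨ha, by simpa [mul_assoc] using mul_mem hc (inv_mem (hVle hw))⟩
    rw [hHH', mem_bot] at this
    rw [this, one_mul]; exact hw
  have h2 : H'.comap f₀ = centralizer ({v} : Set G) := Subgroup.ext fun c => map_cent_mem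
  rw [← h2, hVH']
  exact hVn.comap _

theorem main (h : Hyp G) : Concl G := by
  by_cases hA : ∃ p, p.Prime ∧ IsPGroup p (G ⧸ center G)
  · obtain ⟨p, hp, hQ⟩ := hA
    haveI := Fact.mk hp
    exact of_pGroup h hQ
  push Not at hA
  obtain ⟨x, hx, hn⟩ := exists_normal_centralizer h hA
  exact of_normal h hA hx

end Cfsg.Agent.Grp.MaxCent
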