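import Mathlib
import Cfsg.Prelude.Def_Solvable
import Cfsg.Prelude.Def_Transfer
import Cfsg.Agent.Lib.Grp.MaximalCentralizers
import Cfsg.Agent.Lib.Grp.Cores
import Cfsg.Agent.Lib.Grp.CoprimeAbelian

/-!
Normal subgroups in which the centralizer of every non-central element is maximal in the group.
-/

set_option autoImplicit false
set_option linter.style.haveILetI false
set_option linter.unusedSectionVars false

namespace Cfsg.Agent.Grp.MaxCentN

open scoped commutatorElement Pointwise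
open Subgroup

universe u

variable {G : Type u} [Group G]

/-- Every element of `N` outside the centralizer of `N` has a maximal centralizer. -/
def Hyp (N : Subgroup G) : Prop :=
  ∀ x : G, x ∈ N → x ∉ centralizer (N : Set G) → IsCoatom (centralizer ({x} : Set G))

/-- The centre of `N` inside `G`. -/
abbrev zN (N : Subgroup G) : Subgroup G := N ⊓ centralizer (N : Set G)

variable (N : Subgroup G) [N.Normal]

instance zN_normal : (zN N).Normal := inferInstance

/-- The quotient map by the centre of `N`. -/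
abbrev qf : G →* G ⧸ zN N := QuotientGroup.mk' (zN N)

/-- The image of `N`. -/
abbrev Nb : Subgroup (G ⧸ zN N) := N.map (qf N)

/-- The image of a centralizer. -/
abbrev Mb (x : G) : Subgroup (G ⧸ zN N) := (centralizer ({x} : Set G)).map (qf N)

/-- The image of a centralizer in `N`. -/
abbrev Kb (x : G) : Subgroup (G ⧸ zN N) := Mb N x ⊓ Nb N

/-- All elements of the centralizer in `N` have the same centralizer. -/
def Full (x : G) : Prop :=
  ∀ y ∈ centralizer ({x} : Set G), y ∈ N → y ∉ zN N →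
    centralizer ({y} : Set G) = centralizer {x}

instance Nb_normal : (Nb N).Normal :=
  Subgroup.Normal.map inferInstance _ (QuotientGroup.mk'_surjective _)

variable {N}

theorem qf_eq_one {z : G} : qf N z = 1 ↔ z ∈ zN N := QuotientGroup.eq_one_iff _

theorem qf_surj : Function.Surjective (qf N) := QuotientGroup.mk'_surjective _

theorem notMem_centralizer {x : G} (hx : x ∈ N) (hxZ : x ∉ zN N) :
    x ∉ centralizer (N : Set G) := fun h => hxZ ⟨hx, h⟩

theorem cent_ne_top {x : G} (hx : x ∈ N) (hxZ : x ∉ zN N) :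
    centralizer ({x} : Set G) ≠ ⊤ := fun e => hxZ ⟨hx, mem_centralizer_iff.mpr fun g _ =>
  mem_centralizer_singleton_iff.mp (e ▸ mem_top g)⟩

theorem coat (h : Hyp N) {x : G} (hx : x ∈ N) (hxZ : x ∉ zN N) :
    IsCoatom (centralizer ({x} : Set G)) := h x hx (notMem_centralizer hx hxZ)

theorem cent_eq (h : Hyp N) {a x : G} (hx : x ∈ N) (hxZ : x ∉ zN N) (ha : a ∈ N) (haZ : a ∉ zN N)
    (hle : centralizer ({x} : Set G) ≤ centralizer {a}) :
    centralizer ({x} : Set G) = centralizer {a} :=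
  (((coat h hx hxZ).le_iff.mp hle).resolve_left (cent_ne_top ha haZ)).symm

theorem zN_le {x : G} (hx : x ∈ N) : zN N ≤ centralizer ({x} : Set G) := fun z hz =>
  mem_centralizer_singleton_iff.mpr (mem_centralizer_iff.mp hz.2 x hx).symm

theorem mem_Nb {z : G} : qf N z ∈ Nb N ↔ z ∈ N := by
  rw [← mem_comap, comap_map_eq, QuotientGroup.ker_mk', sup_of_le_left inf_le_left]

theorem mem_Mb {x z : G} (hx : x ∈ N) : qf N z ∈ Mb N x ↔ z ∈ centralizer ({x} : Set G) := by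
  rw [← mem_comap, comap_map_eq, QuotientGroup.ker_mk', sup_of_le_left (zN_le hx)]

theorem mem_Kb {x z : G} (hx : x ∈ N) :
    qf N z ∈ Kb N x ↔ z ∈ centralizer ({x} : Set G) ∧ z ∈ N :=
  and_congr (mem_Mb hx) mem_Nb

theorem self_mem {x : G} (hx : x ∈ N) : qf N x ∈ Kb N x :=
  (mem_Kb hx).mpr ⟨mem_centralizer_singleton_iff.mpr rfl, hx⟩

theorem Kb_ne_bot {x : G} (hx : x ∈ N) (hxZ : x ∉ zN N) : Kb N x ≠ ⊥ := fun e =>
  hxZ (qf_eq_one.mp (mem_bot.mp (e ▸ self_mem hx : qf N x ∈ (⊥ : Subgroup (G ⧸ zN N)))))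

theorem Nb_not_le {x : G} (hx : x ∈ N) (hxZ : x ∉ zN N) : ¬ Nb N ≤ Mb N x := fun hle =>
  hxZ ⟨hx, mem_centralizer_iff.mpr fun n hn => mem_centralizer_singleton_iff.mp
    ((mem_Mb hx).mp (hle (mem_map_of_mem _ hn)))⟩

theorem Mb_le_normalizer (x : G) : Mb N x ≤ normalizer (Kb N x : Set (G ⧸ zN N)) := fun c hc =>
  mem_normalizer_iff.mpr fun y => and_congr (mem_normalizer_iff.mp (le_normalizer hc) y)
    (mem_normalizer_iff.mp ((normalizer_eq_top (H := Nb N)) ▸ mem_top c) y)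

theorem Mb_coatom (h : Hyp N) {x : G} (hx : x ∈ N) (hxZ : x ∉ zN N) : IsCoatom (Mb N x) := by
  refine ⟨fun e => Nb_not_le hx hxZ (e ▸ le_top), fun T hT => ?_⟩
  rcases (coat h hx hxZ).le_iff.mp (map_le_iff_le_comap.mp hT.le) with e | e
  · rw [← map_comap_eq_self_of_surjective qf_surj T, e, map_top_of_surjective _ qf_surj]
  · exact absurd (by rw [← map_comap_eq_self_of_surjective qf_surj T, e]) hT.ne'

theorem mem_Kb_conj {x : G} (hx : x ∈ N) {c : G} {q : G ⧸ zN N} :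
    q ∈ Kb N (c * x * c⁻¹) ↔ (qf N c)⁻¹ * q * qf N c ∈ Kb N x := by
  obtain ⟨v, rfl⟩ := qf_surj (N := N) q
  have hcx : c * x * c⁻¹ ∈ N := (inferInstance : N.Normal).conj_mem x hx c
  rw [← map_inv, ← map_mul, ← map_mul, mem_Kb hcx, mem_Kb hx, mem_centralizer_singleton_iff,
    mem_centralizer_singleton_iff]
  constructor <;> rintro ⟨e, hv⟩
  · refine ⟨?_, by simpa using (inferInstance : N.Normal).conj_mem v hv c⁻¹⟩
    calc c⁻¹ * v * c * x = c⁻¹ * (v * (c * x * c⁻¹)) * c := by group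
      _ = x * (c⁻¹ * v * c) := by rw [e]; group
  · refine ⟨?_, by simpa [mul_assoc] using (inferInstance : N.Normal).conj_mem _ hv c⟩
    calc v * (c * x * c⁻¹) = c * (c⁻¹ * v * c * x) * c⁻¹ := by group
      _ = c * x * c⁻¹ * v := by rw [e]; group

theorem normal_of_fixed {d : G}
    (hd : ∀ g : G, centralizer ({g * d * g⁻¹} : Set G) = centralizer {d}) :
    (centralizer ({d} : Set G)).Normal := ⟨fun w hw g => by
  rw [← hd g, mem_centralizer_singleton_iff]
  calc g * w * g⁻¹ * (g * d * g⁻¹) = g * (w * d) * g⁻¹ := by group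
    _ = g * d * g⁻¹ * (g * w * g⁻¹) := by rw [mem_centralizer_singleton_iff.mp hw]; group⟩

theorem Kb_normal_of (x : G) [(centralizer ({x} : Set G)).Normal] : (Kb N x).Normal := by
  haveI : (Mb N x).Normal := Subgroup.Normal.map inferInstance _ qf_surj
  infer_instance

theorem full_eq (h : Hyp N) {x y : G} (hx : x ∈ N) (hy : y ∈ N) (hyZ : y ∉ zN N) (hf : Full N x)
    (hne : Kb N x ⊓ Kb N y ≠ ⊥) : centralizer ({x} : Set G) = centralizer {y} := by
  obtain ⟨q, ⟨hq1, hq2⟩, hq⟩ : ∃ q ∈ Kb N x ⊓ Kb N y, q ≠ 1 := by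
    by_contra hno
    push Not at hno
    exact hne ((eq_bot_iff_forall _).mpr hno)
  obtain ⟨z, rfl⟩ := qf_surj (N := N) q
  obtain ⟨hz, hzN⟩ := (mem_Kb hx).mp hq1
  have hzy := ((mem_Kb hy).mp hq2).1
  have e := hf z hz hzN (fun e => hq (qf_eq_one.mpr e))
  refine (hf y ?_ hy hyZ).symm
  rw [← e]
  exact mem_centralizer_singleton_iff.mpr (mem_centralizer_singleton_iff.mp hzy).symm

variable [Finite G]

theorem cent_eq_of_coprime (h : Hyp N) {a b : G} (ha : a ∈ N) (haZ : a ∉ zN N) (hb : b ∈ N)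
    (hbZ : b ∉ zN N) (hc : Commute a b) {m n : ℕ} (hm : a ^ m = 1) (hn : b ^ n = 1)
    (hmn : m.Coprime n) : centralizer ({a} : Set G) = centralizer {b} := by
  have mem : ∀ {a b : G} {m n : ℕ}, Commute a b → a ^ m = 1 → b ^ n = 1 → m.Coprime n →
      a ∈ zpowers (a * b) := by
    intro a b m n hc hm hn hmn
    obtain ⟨x, y, hxy⟩ : IsCoprime (m : ℤ) n := Nat.isCoprime_iff_coprime.mpr hmn
    refine mem_zpowers_iff.mpr ⟨y * n, ?_⟩
    rw [hc.mul_zpow, mul_comm y, zpow_mul, zpow_mul b, zpow_natCast b n, hn, one_zpow, mul_one,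
      ← zpow_mul]
    have h1 : a = a ^ (x * (m : ℤ) + y * n) := by rw [hxy, zpow_one]
    conv_rhs => rw [h1]
    rw [zpow_add, mul_comm x, zpow_mul a (m : ℤ), zpow_natCast, hm, one_zpow, one_mul, mul_comm y]
  have h1 := mem hc hm hn hmn
  have h2 := mem hc.symm hn hm hmn.symm
  rw [← hc.eq] at h2
  have hab : a * b ∉ zN N := fun hh => haZ ((zpowers_le.mpr hh) h1)
  rw [← cent_eq h (mul_mem ha hb) hab ha haZ (MaxCent.centralizer_le_of_mem_zpowers h1),
    ← cent_eq h (mul_mem ha hb) hab hb hbZ (MaxCent.centralizer_le_of_mem_zpowers h2)]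

theorem pow_mem_zN {y : G} {a b : ℕ} (ha : y ^ a ∈ zN N) (hb : y ^ b ∈ zN N) (hab : a.Coprime b) :
    y ∈ zN N := by
  obtain ⟨i, j, hij⟩ : IsCoprime (a : ℤ) b := Nat.isCoprime_iff_coprime.mpr hab
  have : y = (y ^ a) ^ i * (y ^ b) ^ j := by
    rw [← zpow_natCast y a, ← zpow_natCast y b, ← zpow_mul, ← zpow_mul, ← zpow_add, mul_comm _ i,
      mul_comm _ j, hij, zpow_one]
  rw [this]
  exact mul_mem (zpow_mem ha i) (zpow_mem hb j)

theorem dichotomy (h : Hyp N) {x : G} (hx : x ∈ N) (hxZ : x ∉ zN N) :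
    Full N x ∨ ∃ r : ℕ, r.Prime ∧ IsPGroup r (Kb N x) := by
  have hne : qf N x ≠ 1 := fun e => hxZ (qf_eq_one.mp e)
  obtain ⟨r, hr, hrd⟩ := Nat.exists_prime_and_dvd (fun e => hne (orderOf_eq_one_iff.mp e) :
    orderOf (qf N x) ≠ 1)
  set a := x ^ (orderOf x / r ^ (orderOf x).factorization r)
  have haZ : a ∉ zN N := MaxCent.part_notMem _ x hr hrd
  have ha : a ∈ N := pow_mem hx _
  have hM := cent_eq h hx hxZ ha haZ
    (MaxCent.centralizer_le_of_mem_zpowers (pow_mem (mem_zpowers x) _))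
  have har := (MaxCent.pow_part x r).1
  have hcop : ∀ (y : G) (e : ℕ), (r ^ e).Coprime (orderOf y / r ^ (orderOf y).factorization r) :=
    fun y e => ((Nat.coprime_ordCompl hr (orderOf_pos y).ne').pow_left e)
  by_cases hall : ∀ y ∈ centralizer ({x} : Set G), y ∈ N →
      y ^ r ^ (orderOf y).factorization r ∈ zN N
  · refine Or.inr ⟨r, hr, ?_⟩
    rintro ⟨q, hq⟩
    obtain ⟨y, rfl⟩ := qf_surj (N := N) q
    obtain ⟨hy, hyN⟩ := (mem_Kb hx).mp hq
    exact ⟨_, Subtype.ext (by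
      show qf N y ^ r ^ (orderOf y).factorization r = 1
      rw [← map_pow]; exact qf_eq_one.mpr (hall y hy hyN))⟩
  push Not at hall
  obtain ⟨y, hyM, hyN, hy⟩ := hall
  refine Or.inl fun w hw hwN hwZ => ?_
  set b := y ^ r ^ (orderOf y).factorization r
  have hbN : b ∈ N := pow_mem hyN _
  rw [hM] at hyM hw
  have hab : Commute a b :=
    ((show Commute y a from mem_centralizer_singleton_iff.mp hyM).symm).pow_right _
  have hMb : centralizer ({a} : Set G) = centralizer ({b} : Set G) :=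
    cent_eq_of_coprime h ha haZ hbN hy hab har (MaxCent.pow_part y r).2 (hcop y _)
  set w1 := w ^ (orderOf w / r ^ (orderOf w).factorization r)
  set w2 := w ^ r ^ (orderOf w).factorization r
  rw [hM]
  by_cases hw1 : w1 ∈ zN N
  · have hw2 : w2 ∉ zN N := fun hw2 => hwZ (pow_mem_zN hw1 hw2 (hcop w _).symm)
    have e := (cent_eq_of_coprime h ha haZ (pow_mem hwN _) hw2
      (show Commute w2 a from mem_centralizer_singleton_iff.mp (pow_mem hw _)).symm
      har (MaxCent.pow_part w r).2 (hcop w _))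
    rw [e]
    exact cent_eq h hwN hwZ (pow_mem hwN _) hw2
      (MaxCent.centralizer_le_of_mem_zpowers (pow_mem (mem_zpowers w) _))
  · have e : centralizer ({w1} : Set G) = centralizer {b} :=
      cent_eq_of_coprime h (pow_mem hwN _) hw1 hbN hy
        (mem_centralizer_singleton_iff.mp (hMb ▸ pow_mem hw _ : w1 ∈ centralizer {b}))
        (MaxCent.pow_part w r).1 (MaxCent.pow_part y r).2 (hcop y _)
    rw [hMb, ← e]
    exact cent_eq h hwN hwZ (pow_mem hwN _) hw1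
      (MaxCent.centralizer_le_of_mem_zpowers (pow_mem (mem_zpowers w) _))

theorem Kb_nilpotent (h : Hyp N) {x : G} (hx : x ∈ N) (hxZ : x ∉ zN N) :
    Group.IsNilpotent (Kb N x) := by
  rcases dichotomy h hx hxZ with hf | ⟨r, hr, hK⟩
  · have hcomm : ∀ a b : Kb N x, a * b = b * a := by
      rintro ⟨a, ha⟩ ⟨b, hb⟩
      obtain ⟨a, rfl⟩ := qf_surj (N := N) a
      obtain ⟨b, rfl⟩ := qf_surj (N := N) b
      obtain ⟨ha, haN⟩ := (mem_Kb hx).mp ha
      obtain ⟨hb, hbN⟩ := (mem_Kb hx).mp hb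
      refine Subtype.ext ?_
      show qf N a * qf N b = qf N b * qf N a
      rw [← map_mul, ← map_mul]
      by_cases hbZ : b ∈ zN N
      · rw [mem_centralizer_iff.mp hbZ.2 a haN]
      · rw [← hf b hb hbN hbZ] at ha
        rw [mem_centralizer_singleton_iff.mp ha]
    let _ : CommGroup (Kb N x) := { (inferInstance : Group (Kb N x)) with mul_comm := hcomm }
    infer_instance
  · haveI := Fact.mk hr
    exact hK.isNilpotent

/-- A nilpotent group on which a normalizing subgroup acts irreducibly is elementary abelian. -/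
theorem irred_elab {X : Type u} [Group X] [Finite X] {A M : Subgroup X}
    (hnil : Group.IsNilpotent A) (hM : M ≤ normalizer (A : Set X))
    (irr : ∀ T : Subgroup X, T ≤ A → M ≤ normalizer (T : Set X) → T = ⊥ ∨ T = A)
    {r : ℕ} (hr : r.Prime) (hd : r ∣ Nat.card A) :
    (∀ a ∈ A, ∀ b ∈ A, a * b = b * a) ∧ ∀ a ∈ A, a ^ r = 1 := by
  haveI := Fact.mk hr
  haveI : Nontrivial A := by
    rw [← Finite.one_lt_card_iff_nontrivial]
    exact hr.one_lt.trans_le (Nat.le_of_dvd Nat.card_pos hd)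
  haveI : Group.IsSolvable A := @IsNilpotent.to_isSolvable _ _ hnil
  have hcomm : ∀ a ∈ A, ∀ b ∈ A, a * b = b * a := by
    have hN : M ≤ normalizer ((⁅A, A⁆ : Subgroup X) : Set X) := fun m hm => by
      rw [mem_normalizer_iff_smul, ← map_conj_eq_smul, Subgroup.map_commutator, map_conj_eq_smul,
        mem_normalizer_iff_smul.mp (hM hm)]
    have hT : ⁅A, A⁆ = ⊥ := by
      refine (irr _ (commutator_le_self A) hN).resolve_right fun e' => ?_
      have hlt := Group.IsSolvable.commutator_lt_top_of_nontrivial A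
      refine hlt.ne (map_injective A.subtype_injective ?_)
      rw [_root_.commutator_def, Subgroup.map_commutator, ← MonoidHom.range_eq_map, range_subtype, e']
    intro a ha b hb
    exact commutatorElement_eq_one_iff_mul_comm.mp
      (mem_bot.mp (hT ▸ commutator_mem_commutator ha hb : ⁅a, b⁆ ∈ (⊥ : Subgroup X)))
  refine ⟨hcomm, ?_⟩
  let T : Subgroup X :=
    { carrier := {y | y ∈ A ∧ y ^ r = 1}
      mul_mem' := fun {a b} ha hb => ⟨mul_mem ha.1 hb.1, by
        rw [(show Commute a b from hcomm a ha.1 b hb.1).mul_pow, ha.2, hb.2, one_mul]⟩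
      one_mem' := ⟨one_mem _, one_pow r⟩
      inv_mem' := fun {a} ha => ⟨inv_mem ha.1, by rw [inv_pow, ha.2, inv_one]⟩ }
  have hTA : T = A := by
    refine (irr T (fun y hy => hy.1) (fun m hm => mem_normalizer_iff.mpr fun y => ?_)).resolve_left
      fun e' => ?_
    · exact and_congr (mem_normalizer_iff.mp (hM hm) y) (by
        rw [conj_pow]
        constructor
        · intro e; rw [e]; group
        · intro e
          calc y ^ r = m⁻¹ * (m * y ^ r * m⁻¹) * m := by group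
            _ = 1 := by rw [e]; group)
    · obtain ⟨y, hy⟩ := exists_prime_orderOf_dvd_card' r hd
      have : (y : X) ∈ T := ⟨y.2, by rw [← SubgroupClass.coe_pow, ← hy, pow_orderOf_eq_one]; rfl⟩
      rw [e', mem_bot] at this
      rw [show y = 1 from Subtype.ext this, orderOf_one] at hy
      exact hr.ne_one hy.symm
  exact fun a ha => (hTA.symm ▸ ha : a ∈ T).2

theorem normal_of_sup {X : Type u} [Group X] {M T : Subgroup X}
    (hN : M ≤ normalizer (T : Set X)) (htop : M ⊔ T = ⊤) : T.Normal :=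
  normalizer_eq_top_iff.mp (top_le_iff.mp (htop ▸ sup_le hN le_normalizer))

theorem mem_of_sup {X : Type u} [Group X] {M T S : Subgroup X} [T.Normal] (hTS : T ≤ S)
    (htop : M ⊔ T = ⊤) {c : X} (hc : c ∈ S) : ∃ a ∈ M ⊓ S, ∃ t ∈ T, c = a * t := by
  obtain ⟨a, ha, t, ht, rfl⟩ := mem_sup_of_normal_right.mp (htop.symm ▸ mem_top c : c ∈ M ⊔ T)
  exact ⟨a, ⟨ha, by simpa [mul_assoc] using mul_mem hc (inv_mem (hTS ht))⟩, t, ht, rfl⟩

/-- Normal subgroups between the centralizer and `N` are trivial. -/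
theorem eq_or_eq (h : Hyp N) {x : G} (hx : x ∈ N) (hxZ : x ∉ zN N) {U : Subgroup (G ⧸ zN N)}
    [U.Normal] (hU : U ≤ Nb N) (hKU : Kb N x ≤ U) : U = Kb N x ∨ U = Nb N := by
  rcases (Mb_coatom h hx hxZ).le_iff.mp (le_sup_left : Mb N x ≤ Mb N x ⊔ U) with e | e
  · refine Or.inr (le_antisymm hU fun c hc => ?_)
    obtain ⟨a, ha, t, ht, rfl⟩ := mem_of_sup hU e hc
    exact mul_mem (hKU ha) ht
  · exact Or.inl (le_antisymm (le_inf (le_sup_right.trans e.le) hU) hKU)

theorem of_pGroup (h : Hyp N) {p : ℕ} [hp : Fact p.Prime] (hQ : IsPGroup p (Nb N)) :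
    (∀ a ∈ Nb N, ∀ b ∈ Nb N, a * b = b * a) ∧ ∀ a ∈ Nb N, a ^ p = 1 := by
  haveI := hQ.isNilpotent
  have key : ∀ x ∈ N, x ∉ zN N →
      (∀ a ∈ Nb N, ∀ b ∈ Nb N, ⁅a, b⁆ ∈ Kb N x) ∧ ∀ a ∈ Nb N, a ^ p ∈ Kb N x := by
    intro x hx hxZ
    have hlt : (Kb N x).subgroupOf (Nb N) < ⊤ := lt_top_iff_ne_top.mpr fun e =>
      Nb_not_le hx hxZ ((Subgroup.subgroupOf_eq_top.mp e).trans inf_le_left)
    obtain ⟨⟨n, hnN⟩, hn, hnK⟩ :=
      SetLike.exists_of_lt (Group.normalizerCondition_of_isNilpotent _ hlt)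
    haveI hKn : (Kb N x).Normal := by
      rw [← normalizer_eq_top_iff]
      refine (Mb_coatom h hx hxZ).2 _ (lt_of_le_not_ge (Mb_le_normalizer x) fun hle => hnK ?_)
      refine ⟨hle (mem_normalizer_iff.mpr fun y => ?_), hnN⟩
      by_cases hy : y ∈ Nb N
      · exact mem_normalizer_iff.mp hn ⟨y, hy⟩
      · refine iff_of_false (fun hh => hy hh.2) fun hh => hy ?_
        have := (Nb_normal N).conj_mem _ hh.2 n⁻¹
        simpa [mul_assoc] using this
    set g := QuotientGroup.mk' (Kb N x)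
    have hgs : Function.Surjective g := QuotientGroup.mk'_surjective _
    have hA : IsPGroup p ((Nb N).map g : Subgroup ((G ⧸ zN N) ⧸ Kb N x)) := hQ.map g
    have hne : (Nb N).map g ≠ ⊥ := fun e => by
      rw [Subgroup.map_eq_bot_iff, QuotientGroup.ker_mk'] at e
      exact Nb_not_le hx hxZ (e.trans inf_le_left)
    have hd : p ∣ Nat.card ((Nb N).map g : Subgroup ((G ⧸ zN N) ⧸ Kb N x)) := by
      obtain ⟨k, hk⟩ := IsPGroup.iff_card.mp hA
      rw [hk]
      refine dvd_pow_self p fun k0 => hne (card_eq_one.mp (by rw [hk, k0, pow_zero]))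
    obtain ⟨hc, he⟩ := irred_elab (M := ⊤) hA.isNilpotent
      (by rw [(normalizer_eq_top_iff).mpr ((Nb_normal N).map g hgs)])
      (fun T hT hN => by
        haveI : T.Normal := normalizer_eq_top_iff.mp (top_le_iff.mp hN)
        have hUle : T.comap g ≤ Nb N := fun u hu => by
          obtain ⟨w, hw, e⟩ := hT hu
          have : w⁻¹ * u ∈ Kb N x := by
            rw [← QuotientGroup.eq_one_iff]
            show g (w⁻¹ * u) = 1
            rw [map_mul, map_inv, e, inv_mul_cancel]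
          simpa using mul_mem hw this.2
        have hKle : Kb N x ≤ T.comap g := fun k hk => by
          rw [mem_comap, show g k = 1 from (QuotientGroup.eq_one_iff k).mpr hk]
          exact one_mem _
        rcases eq_or_eq h hx hxZ hUle hKle with e | e
        · left
          rw [← map_comap_eq_self_of_surjective hgs T, e, Subgroup.map_eq_bot_iff, QuotientGroup.ker_mk']
        · right
          rw [← map_comap_eq_self_of_surjective hgs T, e])
      hp.out hd
    refine ⟨fun a ha b hb => ?_, fun a ha => ?_⟩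
    · rw [← QuotientGroup.eq_one_iff]
      show g ⁅a, b⁆ = 1
      rw [map_commutatorElement, commutatorElement_eq_one_iff_mul_comm]
      exact hc _ (mem_map_of_mem g ha) _ (mem_map_of_mem g hb)
    · rw [← QuotientGroup.eq_one_iff]
      show g (a ^ p) = 1
      rw [map_pow]
      exact he _ (mem_map_of_mem g ha)
  have fin : ∀ z ∈ N, (∀ x ∈ N, x ∉ zN N → qf N z ∈ Kb N x) → qf N z = 1 := fun z hz hz' =>
    qf_eq_one.mpr ⟨hz, mem_centralizer_iff.mpr fun x hx => by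
      by_cases hxZ : x ∈ zN N
      · exact (mem_centralizer_iff.mp hxZ.2 z hz).symm
      · exact (mem_centralizer_singleton_iff.mp ((mem_Kb hx).mp (hz' x hx hxZ)).1).symm⟩
  refine ⟨?_, ?_⟩
  · rintro _ ⟨a, ha, rfl⟩ _ ⟨b, hb, rfl⟩
    rw [← commutatorElement_eq_one_iff_mul_comm, ← map_commutatorElement]
    refine fin _ (mul_mem (mul_mem (mul_mem ha hb) (inv_mem ha)) (inv_mem hb)) fun x hx hxZ => ?_
    rw [map_commutatorElement]
    exact (key x hx hxZ).1 _ (mem_map_of_mem _ ha) _ (mem_map_of_mem _ hb)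
  · rintro _ ⟨a, ha, rfl⟩
    rw [← map_pow]
    refine fin _ (pow_mem ha _) fun x hx hxZ => ?_
    rw [map_pow]
    exact (key x hx hxZ).2 _ (mem_map_of_mem _ ha)

theorem selfnorm (h : Hyp N) {x : G} (hx : x ∈ N) (hxZ : x ∉ zN N) (hnn : ¬ (Kb N x).Normal)
    {n : G ⧸ zN N} (hnN : n ∈ Nb N) (hn : n ∈ normalizer (Kb N x : Set (G ⧸ zN N))) :
    n ∈ Kb N x := by
  rcases (Mb_coatom h hx hxZ).le_iff.mp (Mb_le_normalizer x) with e | e
  · exact absurd (normalizer_eq_top_iff.mp e) hnn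
  · exact ⟨e.le hn, hnN⟩

theorem exists_normal_p (h : Hyp N) (hB : ∀ p : ℕ, p.Prime → ¬ IsPGroup p (Nb N))
    (hnn : ∀ x ∈ N, x ∉ zN N → ¬ (Kb N x).Normal) :
    ∃ (p : ℕ) (V : Subgroup (G ⧸ zN N)), p.Prime ∧ IsPGroup p V ∧ V.Normal ∧ V ≤ Nb N ∧ V ≠ ⊥ := by
  have lift : ∀ (p : ℕ) (V0 : Subgroup (Nb N)), p.Prime → IsPGroup p V0 → V0.Normal → V0 ≠ ⊥ →
      ∃ (p : ℕ) (V : Subgroup (G ⧸ zN N)),
        p.Prime ∧ IsPGroup p V ∧ V.Normal ∧ V ≤ Nb N ∧ V ≠ ⊥ := by
    intro p V0 hp hV hn hne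
    haveI := Fact.mk hp
    exact ⟨p, (Cfsg.pCore p (Nb N)).map (Nb N).subtype, hp, pCore_isPGroup.map _,
      normal_of_characteristic_map _, map_subtype_le _, fun e => hne (le_bot_iff.mp
        ((le_pCore hn hV).trans ((Subgroup.map_eq_bot_iff_of_injective _
          (Nb N).subtype_injective).mp e).le))⟩
  by_cases hfull : ∃ x, x ∈ N ∧ x ∉ zN N ∧ Full N x
  · obtain ⟨x, hx, hxZ, hf⟩ := hfull
    set H := (Kb N x).subgroupOf (Nb N)
    have hF : Cfsg.IsFrobeniusComplement H := by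
      refine ⟨fun e => ?_, fun e => ?_, fun c hc => ?_⟩
      · have : (⟨qf N x, mem_map_of_mem _ hx⟩ : Nb N) ∈ H := self_mem hx
        rw [e, mem_bot] at this
        exact hxZ (qf_eq_one.mp (congrArg Subtype.val this))
      · exact Nb_not_le hx hxZ ((Subgroup.subgroupOf_eq_top.mp e).trans inf_le_left)
      · obtain ⟨_, c, hcN, rfl⟩ := c
        rw [eq_bot_iff]
        rintro ⟨w, hw⟩ ⟨hw1, hw2⟩
        by_contra hne
        rw [mem_bot] at hne
        have hw2' := mem_pointwise_smul_iff_inv_smul_mem.mp hw2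
        have hw3 : w ∈ Kb N (c * x * c⁻¹) := (mem_Kb_conj hx).mpr (by
          rw [← map_inv, MulAut.smul_def, MulAut.conj_apply, inv_inv] at hw2'
          exact hw2')
        have hcx : c * x * c⁻¹ ∈ N := (inferInstance : N.Normal).conj_mem x hx c
        have hcxZ : c * x * c⁻¹ ∉ zN N := fun e => hxZ (by
          simpa [mul_assoc] using (zN_normal N).conj_mem _ e c⁻¹)
        have heq := full_eq h hx hcx hcxZ hf fun e => hne (Subtype.ext
          (mem_bot.mp (e ▸ ⟨hw1, hw3⟩ : w ∈ (⊥ : Subgroup (G ⧸ zN N)))))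
        refine hc ?_
        show qf N c ∈ Kb N x
        refine selfnorm h hx hxZ (hnn x hx hxZ) (mem_map_of_mem _ hcN)
          (mem_normalizer_iff''.mpr fun q => ?_)
        rw [← mem_Kb_conj hx]
        show q ∈ Mb N x ⊓ Nb N ↔ q ∈ Mb N (c * x * c⁻¹) ⊓ Nb N
        rw [Mb, Mb, heq]
    haveI := Fintype.ofFinite (Nb N)
    obtain ⟨K, -, hKn, hKc, hKnil⟩ := frobenius_kernel_spec hF
    obtain ⟨p, V0, hp, hV, hn, hne⟩ := MaxCent.char_sylow_normal hKnil fun e => by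
      subst e
      exact hF.2.1 (Subgroup.isComplement'_bot_left.mp hKc)
    exact lift p V0 hp hV hn hne
  push Not at hfull
  have hpp : ∀ x ∈ N, x ∉ zN N → ∃ r : ℕ, r.Prime ∧ IsPGroup r (Kb N x) := fun x hx hxZ =>
    (dichotomy h hx hxZ).resolve_left (hfull x hx hxZ)
  have hEPPO : ∀ q : Nb N, q ≠ 1 → ∃ r k : ℕ, r.Prime ∧ q ^ r ^ k = 1 := by
    rintro ⟨_, x, hx, rfl⟩ hq
    obtain ⟨r, hr, hrp⟩ := hpp x hx fun e => hq (Subtype.ext (qf_eq_one.mpr e))
    obtain ⟨k, hk⟩ := hrp ⟨_, self_mem hx⟩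
    have hk' : qf N x ^ r ^ k = 1 := congrArg Subtype.val hk
    exact ⟨r, k, hr, Subtype.ext hk'⟩
  obtain ⟨p, hp, hp2, hpd⟩ : ∃ p : ℕ, p.Prime ∧ p ≠ 2 ∧ p ∣ Nat.card (Nb N) := by
    by_contra hno
    push Not at hno
    refine hB 2 Nat.prime_two ?_
    refine IsPGroup.of_card (n := (Nat.card (Nb N)).primeFactorsList.length) ?_
    refine Nat.eq_prime_pow_of_unique_prime_dvd Nat.card_pos.ne' fun {d} hd hdvd => ?_
    by_contra hd2
    exact hno d hd hd2 hdvd
  haveI := Fact.mk hp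
  obtain ⟨⟨y, hyN⟩, hy⟩ := exists_prime_orderOf_dvd_card' (G := Nb N) p hpd
  obtain ⟨x, hx, rfl⟩ := hyN
  replace hy : orderOf (qf N x) = p := (Subgroup.orderOf_mk (qf N x) _).symm.trans hy
  have hxZ : x ∉ zN N := fun e => by
    rw [qf_eq_one.mpr e, orderOf_one] at hy; exact hp.ne_one hy.symm
  obtain ⟨r, hr, hrp⟩ := hpp x hx hxZ
  have hrp' : r = p := by
    obtain ⟨k, hk⟩ := hrp ⟨_, self_mem hx⟩
    have := orderOf_dvd_of_pow_eq_one (congrArg Subtype.val hk : (qf N x) ^ r ^ k = 1)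
    rw [hy] at this
    exact ((Nat.prime_dvd_prime_iff_eq hp hr).mp (hp.dvd_of_dvd_pow this)).symm
  subst hrp'
  set H := (Kb N x).subgroupOf (Nb N) with hH
  have hHp : IsPGroup r H := hrp.of_equiv (Subgroup.subgroupOfEquivOfLe inf_le_right).symm
  obtain ⟨S, hS⟩ := hHp.exists_le_sylow
  have hSH : (S : Subgroup (Nb N)) = H := by
    refine le_antisymm ?_ hS
    by_contra hle
    have hlt : H.subgroupOf (S : Subgroup (Nb N)) < ⊤ := lt_top_iff_ne_top.mpr fun e =>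
      hle (Subgroup.subgroupOf_eq_top.mp e)
    haveI := S.2.isNilpotent
    obtain ⟨⟨⟨c, hcN⟩, hcS⟩, hcn, hcH⟩ :=
      SetLike.exists_of_lt (Group.normalizerCondition_of_isNilpotent _ hlt)
    refine hcH (selfnorm h hx hxZ (hnn x hx hxZ) hcN (mem_normalizer_iff.mpr fun q => ?_))
    constructor
    · intro hq
      exact (mem_normalizer_iff.mp hcn ⟨⟨q, hq.2⟩, hS hq⟩).mp hq
    · intro hq
      have hqN : q ∈ Nb N := by simpa [mul_assoc] using (Nb_normal N).conj_mem _ hq.2 c⁻¹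
      have hqS : (⟨q, hqN⟩ : Nb N) ∈ (S : Subgroup (Nb N)) := by
        have hm : (⟨c, hcN⟩ : Nb N) * ⟨q, hqN⟩ * ⟨c, hcN⟩⁻¹ ∈ (S : Subgroup (Nb N)) := hS hq
        have e : ∀ u v : Nb N, u⁻¹ * (u * v * u⁻¹) * u = v := fun u v => by group
        rw [← e ⟨c, hcN⟩ ⟨q, hqN⟩]
        exact mul_mem (mul_mem (inv_mem hcS) hm) hcS
      exact (mem_normalizer_iff.mp hcn ⟨⟨q, hqN⟩, hqS⟩).mpr hq
  have hSmap : (S : Subgroup (Nb N)).map (Nb N).subtype = Kb N x := by
    rw [hSH, hH, Subgroup.subgroupOf_map_subtype, inf_eq_left.mpr inf_le_right]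
  by_cases hWn : ∃ W : Subgroup (G ⧸ zN N), W ≤ Kb N x ∧ W ≠ ⊥ ∧ W.Normal
  · obtain ⟨W, hW, hW1, hW2⟩ := hWn
    exact ⟨r, W, hr, hrp.to_le hW, hW2, hW.trans inf_le_right, hW1⟩
  push Not at hWn
  haveI hSne : Nontrivial (S : Subgroup (Nb N)) := (nontrivial_iff_ne_bot _).mpr fun e => by
    rw [e, Subgroup.map_bot] at hSmap
    exact Kb_ne_bot hx hxZ hSmap.symm
  have hnorm : ∀ F : ∀ (T : Type u) [Group T], Subgroup T, Cfsg.IsCharPFunctor.{u} r F →
      Cfsg.HasNormalPComplement r ↥(normalizer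
        (Cfsg.inducedFunctor F (S : Subgroup (Nb N)) : Set (Nb N))) := by
    intro F hF
    set W := Cfsg.inducedFunctor F (S : Subgroup (Nb N)) with hW
    have hWS : W ≤ S := map_subtype_le _
    have hW1 : W ≠ ⊥ := fun e => hF.1 _ S.2 hSne
      ((Subgroup.map_eq_bot_iff_of_injective _ (Subgroup.subtype_injective _)).mp e)
    have hWm : W.map (Nb N).subtype = Cfsg.inducedFunctor F (Kb N x) := by
      rw [← hSmap, hW]
      exact (Invol.inducedFunctor_map hF S.2 _ (fun z _ hz => Subtype.ext hz)).symm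
    have hWle : W.map (Nb N).subtype ≤ Kb N x := (map_mono hWS).trans hSmap.le
    have hne : ¬ (W.map (Nb N).subtype).Normal := hWn _ hWle fun e => hW1
      ((Subgroup.map_eq_bot_iff_of_injective _ (Subgroup.subtype_injective _)).mp e)
    have hM : Mb N x ≤ normalizer (W.map (Nb N).subtype : Set (G ⧸ zN N)) := by
      rw [hWm]
      exact (Mb_le_normalizer x).trans (le_normalizer_inducedFunctor hF hrp)
    have e : normalizer (W.map (Nb N).subtype : Set (G ⧸ zN N)) = Mb N x :=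
      ((Mb_coatom h hx hxZ).le_iff.mp hM).resolve_left fun e => hne (normalizer_eq_top_iff.mp e)
    refine hasNormalPComplement_of_nilpotent (S.2.to_le fun c hc => ?_).isNilpotent
    rw [hSH]
    refine ⟨e.le (mem_normalizer_iff.mpr fun q => ?_), c.2⟩
    constructor
    · rintro ⟨w, hw, rfl⟩
      exact ⟨c * w * c⁻¹, (mem_normalizer_iff.mp hc w).mp hw, rfl⟩
    · rintro ⟨w, hw, hwe⟩
      refine ⟨c⁻¹ * w * c, (mem_normalizer_iff.mp hc _).mpr (by simpa [mul_assoc] using hw), ?_⟩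
      simp only [map_mul, map_inv, Subgroup.coe_subtype] at hwe ⊢
      rw [hwe]; group
  have hcompl : Cfsg.HasNormalPComplement r (Nb N) :=
    hasNormalPComplement_of_thompson hp2 S (hnorm _ omegaCenter_isCharPFunctor)
      (hnorm _ thompsonA_isCharPFunctor)
  obtain ⟨P, K, hKn, hKc⟩ := hcompl
  have hKne : K ≠ ⊥ := fun e => by
    subst e
    refine hB r hr ?_
    exact (Subgroup.isComplement'_bot_left.mp hKc ▸ P.2 : IsPGroup r (⊤ : Subgroup (Nb N))).of_equiv
      Subgroup.topEquiv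
  set b : Nb N := ⟨qf N x, mem_map_of_mem _ hx⟩ with hb_def
  have hyb : orderOf b = r := by rw [hb_def, orderOf_mk, hy]
  obtain ⟨q, V0, hq, hV, hn, hne⟩ := MaxCent.char_sylow_normal (isNilpotent_of_fpf (p := r) (b := b)
    (by rw [← hyb, pow_orderOf_eq_one]) (by rw [normalizer_eq_top]; exact mem_top _) (by
      rw [eq_bot_iff]
      rintro k ⟨hkK, hkc⟩
      rw [mem_bot]
      by_contra hk1
      have hcomm : Commute k b := mem_centralizer_singleton_iff.mp hkc
      have hkr : ¬ r ∣ orderOf k := by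
        intro hd
        have h1 : orderOf k ∣ Nat.card K := by
          have := orderOf_dvd_natCard (⟨k, hkK⟩ : K)
          rwa [orderOf_mk] at this
        exact P.not_dvd_index ((hKc.index_eq_card.symm : Nat.card K = _) ▸ hd.trans h1)
      have hord : orderOf (k * b) = orderOf k * r := by
        rw [hcomm.orderOf_mul_eq_mul_orderOf_of_coprime (by
          rw [hyb]; exact ((Nat.Prime.coprime_iff_not_dvd hr).mpr hkr).symm), hyb]
      obtain ⟨t, j, ht, htj⟩ := hEPPO (k * b) fun e => by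
        rw [e, orderOf_one] at hord
        have := hr.one_lt
        have := orderOf_pos k
        nlinarith
      have hd := orderOf_dvd_of_pow_eq_one htj
      rw [hord] at hd
      have htr : r = t :=
        (Nat.prime_dvd_prime_iff_eq hr ht).mp (hr.dvd_of_dvd_pow ((dvd_mul_left r _).trans hd))
      subst htr
      exact hk1 (orderOf_eq_one_iff.mp (Nat.Coprime.eq_one_of_dvd
        (((Nat.Prime.coprime_iff_not_dvd hr).mpr hkr).symm.pow_right j)
        ((dvd_mul_right _ r).trans hd))))) hKne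
  exact lift q V0 hq hV hn hne

theorem exists_normal_Kb (h : Hyp N) (hB : ∀ p : ℕ, p.Prime → ¬ IsPGroup p (Nb N)) :
    ∃ x ∈ N, x ∉ zN N ∧ (Kb N x).Normal := by
  by_contra hnn
  push Not at hnn
  obtain ⟨p, V, hp, hVp, hVn, hVN, hVne⟩ := exists_normal_p h hB hnn
  haveI := hVn
  haveI := Fact.mk hp
  have absurd_normal : ∀ x, x ∈ N → x ∉ zN N → Full N x →
      ∀ D : Subgroup (G ⧸ zN N), D.Normal → D ≤ Kb N x → D ≠ ⊥ → False := by
    intro x hx hxZ hf D hDn hDle hD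
    obtain ⟨q, hq, hq1⟩ : ∃ q ∈ D, q ≠ 1 := by
      by_contra hno
      push Not at hno
      exact hD ((eq_bot_iff_forall _).mpr hno)
    obtain ⟨d, rfl⟩ := qf_surj (N := N) q
    obtain ⟨hd, hdN⟩ := (mem_Kb hx).mp (hDle hq)
    have hdZ : d ∉ zN N := fun e => hq1 (qf_eq_one.mpr e)
    have hed := hf d hd hdN hdZ
    haveI : (centralizer ({d} : Set G)).Normal := normal_of_fixed fun g => by
      have hg : qf N (g * d * g⁻¹) ∈ Kb N x := hDle (by
        rw [map_mul, map_mul, map_inv]; exact hDn.conj_mem _ hq _)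
      obtain ⟨hg1, hg2⟩ := (mem_Kb hx).mp hg
      rw [hed]
      exact hf _ hg1 hg2 fun e => hdZ (by
        simpa [mul_assoc] using (zN_normal N).conj_mem _ e g⁻¹)
    refine hnn x hx hxZ ?_
    haveI : (centralizer ({x} : Set G)).Normal := hed ▸ inferInstance
    exact Kb_normal_of x
  have habV : ∀ x, x ∈ N → x ∉ zN N → Full N x → Kb N x ⊓ V = ⊥ := by
    intro x hx hxZ hf
    by_contra hD
    by_cases hVH : V ≤ Kb N x
    · exact absurd_normal x hx hxZ hf V hVn hVH hVne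
    refine absurd_normal x hx hxZ hf (Kb N x ⊓ V) ?_ inf_le_left hD
    have hlt : (Kb N x ⊓ V).subgroupOf V < ⊤ := lt_top_iff_ne_top.mpr fun e => hVH
      ((Subgroup.subgroupOf_eq_top.mp e).trans inf_le_left)
    haveI := hVp.isNilpotent
    obtain ⟨⟨v, hvV⟩, hvN, hvD⟩ :=
      SetLike.exists_of_lt (Group.normalizerCondition_of_isNilpotent _ hlt)
    rw [← normalizer_eq_top_iff]
    have hHN : Mb N x ≤ normalizer ((Kb N x ⊓ V : Subgroup (G ⧸ zN N)) : Set (G ⧸ zN N)) :=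
      fun c hc => mem_normalizer_iff.mpr fun y =>
        and_congr (mem_normalizer_iff.mp (Mb_le_normalizer x hc) y)
          (mem_normalizer_iff.mp ((normalizer_eq_top (H := V)) ▸ mem_top c) y)
    refine (Mb_coatom h hx hxZ).2 _ (lt_of_le_not_ge hHN fun hle => hvD ⟨⟨hle ?_, hVN hvV⟩, hvV⟩)
    refine mem_normalizer_iff.mpr fun y => ?_
    by_cases hy : y ∈ V
    · exact mem_normalizer_iff.mp hvN ⟨y, hy⟩
    · refine iff_of_false (fun hh => hy hh.2) fun hh => hy ?_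
      have := hVn.conj_mem _ hh.2 v⁻¹
      simpa [mul_assoc] using this
  obtain ⟨q, hq, hqp, hqd⟩ : ∃ q : ℕ, q.Prime ∧ q ≠ p ∧ q ∣ Nat.card (Nb N) := by
    by_contra hno
    push Not at hno
    refine hB p hp (IsPGroup.of_card (n := (Nat.card (Nb N)).primeFactorsList.length) ?_)
    refine Nat.eq_prime_pow_of_unique_prime_dvd Nat.card_pos.ne' fun {d} hd hdvd => ?_
    by_contra hd2
    exact hno d hd hd2 hdvd
  haveI := Fact.mk hq
  obtain ⟨⟨b, hbN⟩, hb⟩ := exists_prime_orderOf_dvd_card' (G := Nb N) q hqd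
  obtain ⟨x, hx, rfl⟩ := hbN
  replace hb : orderOf (qf N x) = q := (Subgroup.orderOf_mk (qf N x) _).symm.trans hb
  have hxZ : x ∉ zN N := fun e => by
    rw [qf_eq_one.mpr e, orderOf_one] at hb; exact hq.ne_one hb.symm
  have hDbot : Kb N x ⊓ V = ⊥ ∧ (Full N x ∨ IsPGroup q (Kb N x)) := by
    rcases dichotomy h hx hxZ with hf | ⟨r, hr, hHr⟩
    · exact ⟨habV x hx hxZ hf, Or.inl hf⟩
    haveI := Fact.mk hr
    have hrq : r = q := by
      obtain ⟨k, hk⟩ := hHr ⟨_, self_mem hx⟩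
      have := orderOf_dvd_of_pow_eq_one (congrArg Subtype.val hk : (qf N x) ^ r ^ k = 1)
      rw [hb] at this
      exact ((Nat.prime_dvd_prime_iff_eq hq hr).mp (hq.dvd_of_dvd_pow this)).symm
    subst hrq
    exact ⟨(IsPGroup.disjoint_of_ne r p hqp _ _ hHr hVp).eq_bot, Or.inr hHr⟩
  obtain ⟨v', hv', hv1⟩ : ∃ v ∈ V, v ≠ 1 := by
    by_contra hno
    push Not at hno
    exact hVne ((eq_bot_iff_forall _).mpr hno)
  obtain ⟨v, hvN, rfl⟩ := hVN hv'
  have hvZ : v ∉ zN N := fun e => hv1 (qf_eq_one.mpr e)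
  have hHtop : Mb N x ⊔ V = ⊤ := (Mb_coatom h hx hxZ).2 _ (lt_of_le_not_ge le_sup_left fun hle =>
    hVne (le_bot_iff.mp (hDbot.1 ▸ le_inf (le_inf (le_sup_right.trans hle) hVN) le_rfl)))
  rcases dichotomy h hvN hvZ with hf | ⟨r, hr, hH'r⟩
  · exact hv1 (mem_bot.mp (habV v hvN hvZ hf ▸ ⟨self_mem hvN, hv'⟩ :
      qf N v ∈ (⊥ : Subgroup (G ⧸ zN N))))
  haveI := Fact.mk hr
  have hrp : r = p := by
    by_contra hne
    exact hv1 (mem_bot.mp ((IsPGroup.disjoint_of_ne r p hne _ _ hH'r hVp).eq_bot ▸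
      ⟨self_mem hvN, hv'⟩ : qf N v ∈ (⊥ : Subgroup (G ⧸ zN N))))
  subst hrp
  have hVle : V ≤ Kb N v := by
    rcases (Mb_coatom h hvN hvZ).le_iff.mp (le_sup_left : Mb N v ≤ Mb N v ⊔ V) with e | e
    · refine absurd ((hH'r.to_sup_of_normal_right hVp).to_le fun c hc => ?_) (hB r hr)
      obtain ⟨a, ha, w, hw, rfl⟩ := mem_of_sup hVN e hc
      exact mul_mem (mem_sup_left ha) (mem_sup_right hw)
    · exact le_inf (le_sup_right.trans e.le) hVN
  have hHH' : Kb N x ⊓ Kb N v = ⊥ := by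
    rcases hDbot.2 with hf | hHq
    · by_contra hne
      have e := full_eq h hx hvN hvZ hf hne
      refine hv1 (mem_bot.mp (hDbot.1 ▸ ⟨?_, hv'⟩ : qf N v ∈ (⊥ : Subgroup (G ⧸ zN N))))
      show qf N v ∈ Kb N x
      have := self_mem (N := N) hvN
      rw [Kb, Mb] at this ⊢
      rwa [e]
    · exact (IsPGroup.disjoint_of_ne q r hqp _ _ hHq hH'r).eq_bot
  refine hnn v hvN hvZ ?_
  have hVH' : Kb N v = V := by
    refine le_antisymm (fun c hc => ?_) hVle
    obtain ⟨a, ha, w, hw, rfl⟩ := mem_of_sup hVN hHtop hc.2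
    have : a ∈ Kb N x ⊓ Kb N v :=
      ⟨ha, by simpa [mul_assoc] using mul_mem hc (inv_mem (hVle hw))⟩
    rw [hHH', mem_bot] at this
    rw [this, one_mul]; exact hw
  rw [hVH']
  exact hVn

theorem commute_of_coprime {m g : G} (hm : m ∈ N) (hg : g ∈ N) (hc : ⁅m, g⁆ ∈ zN N) {a b : ℕ}
    (hma : m ^ a ∈ zN N) (hgb : g ^ b ∈ zN N) (hab : a.Coprime b) : Commute m g := by
  have hcom : ∀ {u z : G}, u ∈ N → z ∈ zN N → Commute u z := fun hu hz =>
    mem_centralizer_iff.mp hz.2 _ hu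
  have h1 : ⁅m, g⁆ ^ b = 1 :=
    Symplectic.comm_pow_eq_one (hcom hg hc).symm (hcom hm hgb).symm
  have h2 : ⁅g, m⁆ ^ a = 1 := Symplectic.comm_pow_eq_one
    (by rw [← commutatorElement_inv]; exact (hcom hm hc).symm.inv_left) (hcom hg hma).symm
  rw [← commutatorElement_inv, inv_pow, inv_eq_one] at h2
  rw [← commutatorElement_eq_one_iff_commute]
  exact orderOf_eq_one_iff.mp (Nat.eq_one_of_dvd_coprimes hab.symm (orderOf_dvd_of_pow_eq_one h1)
    (orderOf_dvd_of_pow_eq_one h2))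

theorem inf_cent_le (h : Hyp N) {x g : G} (hx : x ∈ N) (hxZ : x ∉ zN N)
    [hKn : (Kb N x).Normal] (hg : g ∈ N) (hgx : g ∉ centralizer ({x} : Set G)) {r e : ℕ}
    (hr : r.Prime) (hge : g ^ r ^ e = 1)
    (hcase : Full N x ∨ ∃ s, s.Prime ∧ s ≠ r ∧ IsPGroup s (Kb N x))
    {y : G} (hy : y ∈ N) (hyx : y ∈ centralizer ({x} : Set G))
    (hyg : y ∈ centralizer ({g} : Set G)) : y ∈ zN N := by
  by_contra hyZ
  have hgZ : g ∉ zN N := fun e' => hgx (zN_le hx e')
  rcases hcase with hf | ⟨s, hs, hsr, hKs⟩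
  · refine hgx ?_
    rw [← hf y hyx hy hyZ]
    exact mem_centralizer_singleton_iff.mpr (mem_centralizer_singleton_iff.mp hyg).symm
  haveI := Fact.mk hs
  set M' := centralizer ({g} : Set G) with hM'
  have hgM' : g ∈ M' := mem_centralizer_singleton_iff.mpr rfl
  have hpow : ∀ d ∈ N, d ∈ centralizer ({x} : Set G) → ∃ k : ℕ, d ^ s ^ k ∈ zN N := fun d hdN hd => by
    obtain ⟨k, hk⟩ := hKs ⟨_, (mem_Kb hx).mpr ⟨hd, hdN⟩⟩
    exact ⟨k, qf_eq_one.mp (by rw [map_pow]; exact congrArg Subtype.val hk)⟩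
  have spart : ∀ d ∈ N, d ∈ centralizer ({x} : Set G) → d ∈ M' → d ∉ zN N →
      centralizer ({d} : Set G) = M' := by
    intro d hdN hdx hdg hdZ
    obtain ⟨k, hk⟩ := hpow d hdN hdx
    set d1 := d ^ (orderOf d / s ^ (orderOf d).factorization s)
    have hd1 : d1 ∉ zN N := fun hh => hdZ
      (pow_mem_zN hh hk ((Nat.coprime_ordCompl hs (orderOf_pos d).ne').pow_left k).symm)
    rw [cent_eq h hdN hdZ (pow_mem hdN _) hd1
      (MaxCent.centralizer_le_of_mem_zpowers (pow_mem (mem_zpowers d) _))]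
    exact cent_eq_of_coprime h (pow_mem hdN _) hd1 hg hgZ
      (mem_centralizer_singleton_iff.mp (pow_mem hdg _)) (MaxCent.pow_part d s).1 hge
      ((Nat.coprime_primes hs hr).mpr hsr |>.pow _ _)
  have hyeq := spart y hy hyx hyg hyZ
  set D := Kb N x ⊓ Mb N g with hD
  have hlt : D.subgroupOf (Kb N x) < ⊤ := lt_top_iff_ne_top.mpr fun e' => hgx <| by
    have hxg := (mem_Mb hg).mp ((Subgroup.subgroupOf_eq_top.mp e').trans inf_le_right (self_mem hx))
    exact mem_centralizer_singleton_iff.mpr (mem_centralizer_singleton_iff.mp hxg).symm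
  haveI := hKs.isNilpotent
  obtain ⟨⟨k, hkK⟩, hkn, hkD⟩ :=
    SetLike.exists_of_lt (Group.normalizerCondition_of_isNilpotent _ hlt)
  haveI hDn : D.Normal := by
    have hN : Mb N g ≤ normalizer (D : Set (G ⧸ zN N)) := fun m hm => mem_normalizer_iff.mpr fun d =>
      and_congr (mem_normalizer_iff.mp ((normalizer_eq_top (H := Kb N x)) ▸ mem_top m) d)
        (mem_normalizer_iff.mp (le_normalizer hm) d)
    rw [← normalizer_eq_top_iff]
    refine (Mb_coatom h hg hgZ).2 _ (lt_of_le_not_ge hN fun hle => hkD ⟨hkK, hle ?_⟩)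
    refine mem_normalizer_iff.mpr fun d => ?_
    by_cases hd : d ∈ Kb N x
    · exact mem_normalizer_iff.mp hkn ⟨d, hd⟩
    · refine iff_of_false (fun hh => hd hh.1) fun hh => hd ?_
      have := hKn.conj_mem _ hh.1 k⁻¹
      simpa [mul_assoc] using this
  haveI hM'n : M'.Normal := by
    rw [← hyeq]
    refine normal_of_fixed fun c => ?_
    have hm : qf N (c * y * c⁻¹) ∈ D := by
      rw [map_mul, map_mul, map_inv]
      exact hDn.conj_mem _ ⟨(mem_Kb hx).mpr ⟨hyx, hy⟩, (mem_Mb hg).mpr hyg⟩ _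
    obtain ⟨hc1, hc2⟩ := (mem_Kb hx).mp hm.1
    rw [hyeq]
    exact spart _ hc2 hc1 ((mem_Mb hg).mp hm.2) fun e' => hyZ (by
      simpa [mul_assoc] using (zN_normal N).conj_mem _ e' c⁻¹)
  refine hgx ?_
  have hxM : x ∈ centralizer ({x} : Set G) := mem_centralizer_singleton_iff.mpr rfl
  have hc1 : x * g * x⁻¹ ∈ M' := hM'n.conj_mem g hgM' x
  have hcp : ⁅x, g⁆ ^ r ^ e = 1 := by
    rw [commutatorElement_def, ((show Commute (x * g * x⁻¹) g from
      mem_centralizer_singleton_iff.mp hc1).inv_right).mul_pow, conj_pow, inv_pow, hge]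
    group
  have hcN : ⁅x, g⁆ ∈ N := mul_mem (mul_mem (mul_mem hx hg) (inv_mem hx)) (inv_mem hg)
  have hcK : qf N ⁅x, g⁆ ∈ Kb N x := by
    rw [map_commutatorElement, commutatorElement_def, mul_assoc, mul_assoc, ← mul_assoc (qf N g)]
    exact mul_mem (self_mem hx) (hKn.conj_mem _ (inv_mem (self_mem hx)) _)
  obtain ⟨k', hk'⟩ := hpow _ hcN ((mem_Kb hx).mp hcK).1
  have hcop : ∀ k : ℕ, (s ^ k).Coprime (r ^ e) := fun k => (Nat.coprime_primes hs hr).mpr hsr |>.pow _ _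
  have hcZ : ⁅x, g⁆ ∈ zN N := pow_mem_zN hk' (by rw [hcp]; exact one_mem _) (hcop _)
  obtain ⟨k'', hk''⟩ := hpow x hx hxM
  exact mem_centralizer_singleton_iff.mpr
    (commute_of_coprime hx hg hcZ hk'' (by rw [hge]; exact one_mem _) (hcop _)).eq.symm

/-- The conclusion inside the quotient by the centre of `N`. -/
def Concl (N : Subgroup G) [N.Normal] : Prop :=
  (∃ p : ℕ, p.Prime ∧ (∀ a ∈ Nb N, ∀ b ∈ Nb N, a * b = b * a) ∧ ∀ a ∈ Nb N, a ^ p = 1) ∨
  ∃ (A B : Subgroup (G ⧸ zN N)) (s r : ℕ), s.Prime ∧ r.Prime ∧ s ≠ r ∧ A.Normal ∧ A ≤ Nb N ∧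
    B ≤ Nb N ∧ (∀ a ∈ A, ∀ b ∈ A, a * b = b * a) ∧ (∀ a ∈ A, a ^ s = 1) ∧ Nat.card B = r ∧
    A ≠ ⊥ ∧ (∀ c ∈ Nb N, ∃ b ∈ B, ∃ a ∈ A, c = b * a) ∧
    ∀ b ∈ B, b ≠ 1 → A ⊓ centralizer ({b} : Set (G ⧸ zN N)) = ⊥

theorem of_normal (h : Hyp N) (hB : ∀ p : ℕ, p.Prime → ¬ IsPGroup p (Nb N)) {x : G}
    (hx : x ∈ N) (hxZ : x ∉ zN N) [hKn : (Kb N x).Normal] : Concl N := by
  obtain ⟨r, g, e, hr, hgN, hgx, hge, hcase⟩ : ∃ (r : ℕ) (g : G) (e : ℕ), r.Prime ∧ g ∈ N ∧
      g ∉ centralizer ({x} : Set G) ∧ g ^ r ^ e = 1 ∧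
      (Full N x ∨ ∃ s, s.Prime ∧ s ≠ r ∧ IsPGroup s (Kb N x)) := by
    rcases dichotomy h hx hxZ with hf | ⟨s, hs, hKs⟩
    · obtain ⟨g₀, hg₀N, hg₀⟩ := SetLike.not_le_iff_exists.mp (Nb_not_le hx hxZ)
      obtain ⟨g₀, hg₀N, rfl⟩ := hg₀N
      rw [mem_Mb hx] at hg₀
      set K := (Kb N x).comap (qf N)
      have hg₀K : g₀ ∉ K := fun hh => hg₀ ((mem_Kb hx).mp hh).1
      obtain ⟨r, hr, hrd⟩ := Nat.exists_prime_and_dvd
        (fun e' => hg₀K ((QuotientGroup.eq_one_iff _).mp (orderOf_eq_one_iff.mp e')) :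
          orderOf (QuotientGroup.mk' K g₀) ≠ 1)
      refine ⟨r, _, _, hr, pow_mem hg₀N _, fun hh => ?_, (MaxCent.pow_part g₀ r).1, Or.inl hf⟩
      exact MaxCent.part_notMem K g₀ hr hrd ((mem_Kb hx).mpr ⟨hh, pow_mem hg₀N _⟩)
    · obtain ⟨r, hr, hrs, hrd⟩ : ∃ r : ℕ, r.Prime ∧ r ≠ s ∧ r ∣ Nat.card (Nb N) := by
        by_contra hno
        push Not at hno
        refine hB s hs (IsPGroup.of_card (n := (Nat.card (Nb N)).primeFactorsList.length) ?_)
        refine Nat.eq_prime_pow_of_unique_prime_dvd Nat.card_pos.ne' fun {d} hd hdvd => ?_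
        by_contra hd2
        exact hno d hd hd2 hdvd
      haveI := Fact.mk hr
      haveI := Fact.mk hs
      obtain ⟨⟨b, hbN⟩, hb⟩ := exists_prime_orderOf_dvd_card' (G := Nb N) r hrd
      obtain ⟨g₀, hg₀N, rfl⟩ := hbN
      replace hb : orderOf (qf N g₀) = r := (Subgroup.orderOf_mk (qf N g₀) _).symm.trans hb
      have hgZ := MaxCent.part_notMem (zN N) g₀ hr (by rw [hb] :
        r ∣ orderOf (QuotientGroup.mk' (zN N) g₀))
      refine ⟨r, _, _, hr, pow_mem hg₀N _, fun hh => hgZ ?_, (MaxCent.pow_part g₀ r).1,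
        Or.inr ⟨s, hs, hrs.symm, hKs⟩⟩
      obtain ⟨k, hk⟩ := hKs ⟨_, (mem_Kb hx).mpr ⟨hh, pow_mem hg₀N _⟩⟩
      exact pow_mem_zN (qf_eq_one.mp (by rw [map_pow]; exact congrArg Subtype.val hk))
        (by rw [(MaxCent.pow_part g₀ r).1]; exact one_mem _)
        ((Nat.coprime_primes hs hr).mpr hrs.symm |>.pow _ _)
  haveI := Fact.mk hr
  have hgZ : g ∉ zN N := fun e' => hgx (zN_le hx e')
  set A := Kb N x with hA
  set B := Kb N g with hBdef
  have hAB : A ⊓ B = ⊥ := by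
    rw [eq_bot_iff]
    rintro q ⟨hq1, hq2⟩
    obtain ⟨y, rfl⟩ := qf_surj (N := N) q
    obtain ⟨hy1, hyN⟩ := (mem_Kb hx).mp hq1
    exact mem_bot.mpr (qf_eq_one.mpr (inf_cent_le h hx hxZ hgN hgx hr hge hcase hyN hy1
      ((mem_Kb hgN).mp hq2).1))
  have hAne : A ≠ ⊥ := Kb_ne_bot hx hxZ
  have hgtop : Mb N g ⊔ A = ⊤ := (Mb_coatom h hgN hgZ).2 _ (lt_of_le_not_ge le_sup_left fun hle =>
    hAne (le_bot_iff.mp (hAB ▸ le_inf le_rfl (le_inf (le_sup_right.trans hle) inf_le_right))))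
  have hcov : ∀ c ∈ Nb N, ∃ b ∈ B, ∃ a ∈ A, c = b * a := fun c hc =>
    mem_of_sup inf_le_right hgtop hc
  have irrA : ∀ T : Subgroup (G ⧸ zN N), T ≤ A → Mb N g ≤ normalizer (T : Set (G ⧸ zN N)) →
      T = ⊥ ∨ T = A := by
    intro T hT hN
    rcases (Mb_coatom h hgN hgZ).le_iff.mp (le_sup_left : Mb N g ≤ Mb N g ⊔ T) with e' | e'
    · haveI := normal_of_sup hN e'
      refine Or.inr (le_antisymm hT fun a ha => ?_)
      obtain ⟨m, hm, t, ht, rfl⟩ := mem_of_sup hT e' ha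
      have : m ∈ A ⊓ B := ⟨hm.2, hm.1, hm.2.2⟩
      rw [hAB, mem_bot] at this
      rw [this, one_mul]; exact ht
    · exact Or.inl (le_bot_iff.mp (hAB ▸ le_inf hT
        (le_inf (le_sup_right.trans e'.le) (hT.trans inf_le_right))))
  have irrB : ∀ T : Subgroup (G ⧸ zN N), T ≤ B → Mb N g ≤ normalizer (T : Set (G ⧸ zN N)) →
      T = ⊥ ∨ T = B := by
    intro T hT hN
    have hN' : Mb N g ≤ normalizer ((T ⊔ A : Subgroup (G ⧸ zN N)) : Set (G ⧸ zN N)) := fun m hm => by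
      rw [mem_normalizer_iff_smul, Subgroup.smul_sup, mem_normalizer_iff_smul.mp (hN hm),
        mem_normalizer_iff_smul.mp ((normalizer_eq_top (H := A)).symm ▸ mem_top m)]
    haveI : (T ⊔ A).Normal := normal_of_sup hN' (top_le_iff.mp (hgtop ▸ sup_le_sup_left le_sup_right _))
    have hTA : T ⊔ A ≤ Nb N := sup_le (hT.trans inf_le_right) inf_le_right
    rcases eq_or_eq h hx hxZ hTA le_sup_right with e' | e'
    · exact Or.inl (le_bot_iff.mp (hAB ▸ le_inf (le_sup_left.trans e'.le) hT))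
    · refine Or.inr (le_antisymm hT fun b hb => ?_)
      obtain ⟨t, ht, a, ha, rfl⟩ := mem_sup_of_normal_right.mp (e'.symm ▸ hb.2 : b ∈ T ⊔ A)
      have : a ∈ A ⊓ B := ⟨ha, by simpa [mul_assoc] using mul_mem (inv_mem (hT ht)) hb⟩
      rw [hAB, mem_bot] at this
      rw [this, mul_one]; exact ht
  have hrB : r ∣ Nat.card B := by
    have h1 := orderOf_dvd_natCard (⟨qf N g, self_mem hgN⟩ : B)
    rw [orderOf_mk] at h1
    obtain ⟨i, -, hi⟩ := (Nat.dvd_prime_pow hr).mp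
      (orderOf_dvd_of_pow_eq_one (by rw [← map_pow, hge, map_one]) : orderOf (qf N g) ∣ r ^ e)
    refine dvd_trans ?_ h1
    rw [hi]
    exact dvd_pow_self r fun i0 => hgZ (qf_eq_one.mp (orderOf_eq_one_iff.mp (by
      rw [hi, i0, pow_zero])))
  obtain ⟨hBc, hBr⟩ := irred_elab (Kb_nilpotent h hgN hgZ) (Mb_le_normalizer g) irrB hr hrB
  obtain ⟨s, hs, hsd⟩ := Nat.exists_prime_and_dvd
    (fun e' => hAne (card_eq_one.mp e') : Nat.card A ≠ 1)
  haveI := Fact.mk hs
  obtain ⟨hAc, hAs⟩ := irred_elab (Kb_nilpotent h hx hxZ)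
    (M := Mb N g) (by rw [normalizer_eq_top]; exact le_top) irrA hs hsd
  have hAp : IsPGroup s A := fun a => ⟨1, Subtype.ext (by rw [pow_one]; exact hAs a a.2)⟩
  have hBp : IsPGroup r B := fun a => ⟨1, Subtype.ext (by rw [pow_one]; exact hBr a a.2)⟩
  have hsr : s ≠ r := fun e' => by
    subst e'
    refine hB s hs ((hBp.to_sup_of_normal_right hAp).to_le fun c hc => ?_)
    obtain ⟨b, hb, a, ha, rfl⟩ := hcov c hc
    exact mul_mem (mem_sup_left hb) (mem_sup_right ha)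
  have hfpf : ∀ b ∈ B, b ≠ 1 → A ⊓ centralizer ({b} : Set (G ⧸ zN N)) = ⊥ := by
    intro b hbB hb1
    rw [eq_bot_iff]
    rintro q ⟨hqA, hqc⟩
    obtain ⟨a₀, rfl⟩ := qf_surj (N := N) q
    obtain ⟨b₀, rfl⟩ := qf_surj (N := N) b
    obtain ⟨ha, haN⟩ := (mem_Kb hx).mp hqA
    obtain ⟨-, hbN⟩ := (mem_Kb hgN).mp hbB
    have hord : orderOf (qf N b₀) = r := orderOf_eq_prime (hBr _ hbB) hb1
    set n := orderOf b₀ / r ^ (orderOf b₀).factorization r
    have hb1Z : b₀ ^ n ∉ zN N := MaxCent.part_notMem (zN N) b₀ hr (by rw [hord] :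
      r ∣ orderOf (QuotientGroup.mk' (zN N) b₀))
    have hbx : b₀ ^ n ∉ centralizer ({x} : Set G) := fun hh => hb1Z (qf_eq_one.mp (mem_bot.mp
      (hAB ▸ ⟨(mem_Kb hx).mpr ⟨hh, pow_mem hbN _⟩, by rw [map_pow]; exact pow_mem hbB _⟩ :
        qf N (b₀ ^ n) ∈ (⊥ : Subgroup (G ⧸ zN N)))))
    have hcm : Commute a₀ (b₀ ^ n) := commute_of_coprime haN (pow_mem hbN _)
      (qf_eq_one.mp (by
        rw [map_commutatorElement, commutatorElement_eq_one_iff_commute, map_pow]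
        exact (show Commute (qf N a₀) (qf N b₀) from
          mem_centralizer_singleton_iff.mp hqc).pow_right _))
      (qf_eq_one.mp (by rw [map_pow]; exact hAs _ hqA))
      (by rw [(MaxCent.pow_part b₀ r).1]; exact one_mem _)
      ((Nat.coprime_primes hs hr).mpr hsr |>.pow_right _)
    exact mem_bot.mpr (qf_eq_one.mpr (inf_cent_le h hx hxZ (pow_mem hbN _) hbx hr
      (MaxCent.pow_part b₀ r).1 hcase haN ha (mem_centralizer_singleton_iff.mpr hcm.eq)))
  haveI : IsMulCommutative B := ⟨⟨fun a b => Subtype.ext (hBc a a.2 b b.2)⟩⟩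
  have hcyc : IsCyclic B := by
    by_contra hnc
    refine hAne ?_
    rw [← generated_by_centralizers B A hnc (by rw [normalizer_eq_top]; exact le_top) (by
      obtain ⟨i, hi⟩ := IsPGroup.iff_card.mp hBp
      obtain ⟨j, hj⟩ := IsPGroup.iff_card.mp hAp
      rw [hi, hj]
      exact ((Nat.coprime_primes hr hs).mpr hsr.symm).pow i j)]
    exact iSup_eq_bot.mpr fun b => iSup_eq_bot.mpr fun hb => hfpf b hb.1 hb.2
  have hBcard : Nat.card B = r := by
    obtain ⟨b, hb⟩ := IsCyclic.exists_ofOrder_eq_natCard (α := B)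
    have h1 : orderOf b ∣ r := orderOf_dvd_of_pow_eq_one (Subtype.ext (hBr b b.2))
    rcases (Nat.dvd_prime hr).mp h1 with e' | e'
    · rw [hb] at e'
      rw [e'] at hrB
      exact absurd hrB hr.not_dvd_one
    · rw [← hb, e']
  exact Or.inr ⟨A, B, s, r, hs, hr, hsr, hKn, inf_le_right, inf_le_right, hAc, hAs, hBcard, hAne,
    hcov, hfpf⟩

theorem concl (h : Hyp N) : Concl N := by
  by_cases hA : ∃ p, p.Prime ∧ IsPGroup p (Nb N)
  · obtain ⟨p, hp, hQ⟩ := hA
    haveI := Fact.mk hp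
    exact Or.inl ⟨p, hp, of_pGroup h hQ⟩
  push Not at hA
  obtain ⟨x, hx, hxZ, hn⟩ := exists_normal_Kb h hA
  exact of_normal h hA hx hxZ

/-- A prime order subgroup acting fixed-point-freely on an elementary abelian normal complement. -/
theorem frobenius_of_fpf {X : Type u} [Group X] [Finite X] {A B : Subgroup X} [hAn : A.Normal]
    {s r : ℕ} (hs : s.Prime) (hr : r.Prime) (hsr : s ≠ r) (hAc : ∀ a ∈ A, ∀ b ∈ A, a * b = b * a)
    (hAs : ∀ a ∈ A, a ^ s = 1) (hBr : Nat.card B = r) (hAne : A ≠ ⊥)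
    (hcov : ∀ c : X, ∃ b ∈ B, ∃ a ∈ A, c = b * a)
    (hfpf : ∀ b ∈ B, b ≠ 1 → A ⊓ centralizer ({b} : Set X) = ⊥) :
    ∃ (Q K : Subgroup X) (p : ℕ), p.Prime ∧ Cfsg.IsFrobeniusComplement Q ∧ (Nat.card ↥Q).Prime ∧
      K.Normal ∧ (K : Set X) = Cfsg.frobeniusKernel Q ∧ Cfsg.IsElementaryAbelian p K := by
  haveI := Fact.mk hs
  haveI := Fact.mk hr
  have hAp : IsPGroup s A := fun a => ⟨1, Subtype.ext (by rw [pow_one]; exact hAs a a.2)⟩
  have hBp : IsPGroup r B := IsPGroup.of_card (n := 1) (by rw [hBr, pow_one])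
  have hAB : A ⊓ B = ⊥ := (IsPGroup.disjoint_of_ne s r hsr _ _ hAp hBp).eq_bot
  have hsup : B ⊔ A = ⊤ := top_le_iff.mp fun c _ => by
    obtain ⟨b, hb, a, ha, rfl⟩ := hcov c
    exact mul_mem (mem_sup_left hb) (mem_sup_right ha)
  have hindex : A.index = r := by
    have h1 := card_sup_mul_card_inf_normal (H := B) (N := A)
    rw [hsup, inf_comm, hAB, card_top, card_bot, mul_one, hBr, ← A.card_mul_index, mul_comm r] at h1
    exact Nat.eq_of_mul_eq_mul_left Nat.card_pos h1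
  have hF : Cfsg.IsFrobeniusComplement B := by
    refine ⟨fun e => hr.ne_one (hBr ▸ by rw [e, card_bot]), fun e => hAne ?_, fun c hc => ?_⟩
    · rw [e, inf_top_eq] at hAB; exact hAB
    rw [eq_bot_iff]
    rintro w ⟨hw1, hw2⟩
    rw [mem_bot]
    by_contra hne
    refine hc ?_
    obtain ⟨b, hb, a, ha, rfl⟩ := hcov c
    have hw3 : (b * a)⁻¹ * w * (b * a) ∈ B := by
      have h := mem_pointwise_smul_iff_inv_smul_mem.mp hw2
      rw [← map_inv, MulAut.smul_def, MulAut.conj_apply, inv_inv] at h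
      exact h
    set u := b⁻¹ * w * b with hu
    have huB : u ∈ B := mul_mem (mul_mem (inv_mem hb) hw1) hb
    have hu1 : u ≠ 1 := fun e => hne (by
      calc w = b * u * b⁻¹ := by rw [hu]; group
        _ = 1 := by rw [e]; group)
    have hau : a⁻¹ * u * a ∈ B := by
      have : (b * a)⁻¹ * w * (b * a) = a⁻¹ * u * a := by rw [hu]; group
      rwa [← this]
    have hA1 : a⁻¹ * u * a * u⁻¹ ∈ A := by
      rw [mul_assoc, mul_assoc]
      exact mul_mem (inv_mem ha) (by rw [← mul_assoc]; exact hAn.conj_mem a ha u)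
    have hB1 : a⁻¹ * u * a * u⁻¹ ∈ B := mul_mem hau (inv_mem huB)
    have hc1 : a⁻¹ * u * a * u⁻¹ ∈ A ⊓ B := ⟨hA1, hB1⟩
    rw [hAB, mem_bot] at hc1
    have : a ∈ A ⊓ centralizer ({u} : Set X) := ⟨ha, mem_centralizer_singleton_iff.mpr (by
      calc a * u = a * (a⁻¹ * u * a * u⁻¹) * u := by rw [hc1]; group
        _ = u * a := by group)⟩
    rw [hfpf u huB hu1, mem_bot] at this
    rw [this, mul_one]
    exact hb
  haveI := Fintype.ofFinite X
  obtain ⟨K, hK, hKn, hKc, -⟩ := frobenius_kernel_spec hF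
  have hKA : K = A := by
    have hKcard : Nat.card K = Nat.card A := by
      have h1 := hKc.card_mul_card
      rw [hBr, ← A.card_mul_index, hindex] at h1
      exact Nat.eq_of_mul_eq_mul_right hr.pos h1
    refine eq_of_le_of_card_ge (le_of_coprime_index ?_) hKcard.ge
    obtain ⟨k, hk⟩ := IsPGroup.iff_card.mp hAp
    rw [hKcard, hk, hindex]
    exact ((Nat.coprime_primes hs hr).mpr hsr).pow_left k
  exact ⟨B, K, s, hs, hF, hBr ▸ hr, hKn, hK, hKA ▸ ⟨⟨⟨fun a b => Subtype.ext (hAc a a.2 b b.2)⟩⟩, hAs⟩⟩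

theorem main (h : Hyp N) :
    (∃ p : ℕ, p.Prime ∧ Cfsg.IsElementaryAbelian p (⊤ : Subgroup (↥N ⧸ Subgroup.center ↥N))) ∨
    (∃ (Q K : Subgroup (↥N ⧸ Subgroup.center ↥N)) (p : ℕ), p.Prime ∧ Cfsg.IsFrobeniusComplement Q ∧
      (Nat.card ↥Q).Prime ∧ K.Normal ∧ (K : Set (↥N ⧸ Subgroup.center ↥N)) = Cfsg.frobeniusKernel Q ∧
      Cfsg.IsElementaryAbelian p K) := by
  let ψ : ↥N ⧸ center ↥N →* G ⧸ zN N := QuotientGroup.lift (center ↥N) ((qf N).comp N.subtype)
    fun n hn => qf_eq_one.mpr ⟨n.2, mem_centralizer_iff.mpr fun m hm =>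
      congrArg Subtype.val (mem_center_iff.mp hn ⟨m, hm⟩)⟩
  have hinj : Function.Injective ψ := by
    rw [injective_iff_map_eq_one]
    intro q hq
    obtain ⟨n, rfl⟩ := QuotientGroup.mk_surjective q
    have hn : (n : G) ∈ zN N := qf_eq_one.mp hq
    exact (QuotientGroup.eq_one_iff n).mpr (mem_center_iff.mpr fun m =>
      Subtype.ext (mem_centralizer_iff.mp hn.2 m m.2))
  have hrange : ψ.range = Nb N := by
    ext q
    constructor
    · rintro ⟨c, rfl⟩
      obtain ⟨n, rfl⟩ := QuotientGroup.mk_surjective c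
      exact ⟨n, n.2, rfl⟩
    · rintro ⟨n, hn, rfl⟩
      exact ⟨QuotientGroup.mk ⟨n, hn⟩, rfl⟩
  have hmem : ∀ c, ψ c ∈ Nb N := fun c => hrange ▸ ⟨c, rfl⟩
  rcases concl h with ⟨p, hp, hc, he⟩ | ⟨A, B, s, r, hs, hr, hsr, hAn, hAN, hBN, hAc, hAs, hBr,
    hAne, hcov, hfpf⟩
  · exact Or.inl ⟨p, hp, ⟨⟨fun a b => Subtype.ext (hinj (by
      rw [Subgroup.coe_mul, Subgroup.coe_mul, map_mul, map_mul]
      exact hc _ (hmem _) _ (hmem _)))⟩⟩,
      fun a _ => hinj (by rw [map_pow, map_one]; exact he _ (hmem _))⟩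
  · haveI := hAn
    refine Or.inr (frobenius_of_fpf (A := A.comap ψ) (B := B.comap ψ) hs hr hsr
      (fun a ha b hb => hinj (by rw [map_mul, map_mul]; exact hAc _ ha _ hb))
      (fun a ha => hinj (by rw [map_pow, map_one]; exact hAs _ ha)) ?_ ?_ ?_ ?_)
    · rw [← hBr, ← card_map_of_injective (K := B.comap ψ) (f := ψ) hinj, map_comap_eq, hrange,
        inf_eq_right.mpr hBN]
    · intro e
      refine hAne ?_
      rw [← inf_eq_right.mpr hAN, ← hrange, ← map_comap_eq, e, Subgroup.map_bot]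
    · intro c
      obtain ⟨b, hb, a, ha, e⟩ := hcov _ (hmem c)
      obtain ⟨b', rfl⟩ : b ∈ ψ.range := hrange ▸ hBN hb
      obtain ⟨a', rfl⟩ : a ∈ ψ.range := hrange ▸ hAN ha
      exact ⟨b', hb, a', ha, hinj (by rw [map_mul]; exact e)⟩
    · intro b hb hb1
      rw [eq_bot_iff]
      rintro a ⟨ha, hac⟩
      rw [mem_bot]
      refine hinj ?_
      rw [map_one]
      exact mem_bot.mp (hfpf (ψ b) hb (fun e => hb1 (hinj (by rw [e, map_one]))) ▸
        ⟨ha, mem_centralizer_singleton_iff.mpr (by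
          rw [← map_mul, ← map_mul, mem_centralizer_singleton_iff.mp hac])⟩ :
        ψ a ∈ (⊥ : Subgroup (G ⧸ zN N)))

end Cfsg.Agent.Grp.MaxCentN
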