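import Mathlib
import Cfsg.Prelude.Def_LocalStructure
import Cfsg.Prelude.Def_Transfer
import Cfsg.Agent.Lib.Grp.Solvable
import Cfsg.Agent.Lib.Grp.Coprime

/-!
Groups with a minimal normal subgroup of prime index; minimal non-`p`-closed groups.
-/

namespace Cfsg.Agent.Grp.MinPClosed

open scoped Pointwise
open Subgroup

variable {G : Type*} [Group G] [Finite G] {p : ℕ} [hp : Fact p.Prime]

theorem le_normalizer_of_closed {H M : Subgroup G} (hH : Cfsg.IsPClosed p H) (hMH : M ≤ H) (hM : IsPGroup p M)
    (hidx : ¬ p ∣ M.relIndex H) : H ≤ Subgroup.normalizer (M : Set G) :=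
  (Subgroup.normal_subgroupOf_iff_le_normalizer hMH).mp (hH ((hM.comap_subtype (K := H)).toSylow hidx))

theorem isPClosed_of_isPGroup {H : Type*} [Group H] (h : IsPGroup p H) : Cfsg.IsPClosed p H := fun P => by
  have h1 : IsPGroup p (⊤ : Subgroup H) := h.to_subgroup ⊤
  rw [← P.3 h1 le_top]
  infer_instance

theorem isPClosed_of_not_dvd {H : Type*} [Group H] [Finite H] (h : ¬ p ∣ Nat.card H) : Cfsg.IsPClosed p H :=
  fun P => by
    have h2 : (P : Subgroup H) = ⊥ := by
      obtain ⟨k, hk⟩ := IsPGroup.iff_card.mp P.isPGroup'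
      rcases k with _ | k
      · exact Subgroup.card_eq_one.mp (by rw [hk, pow_zero])
      · exact absurd (((dvd_pow_self p k.succ_ne_zero).trans hk.symm.dvd).trans (Subgroup.card_subgroup_dvd_card _)) h
    rw [h2]; infer_instance

theorem eq_bot_or_top_inf {A : Subgroup G} [A.Normal] (hidx : A.index = p) {H : Subgroup G} (hH : ¬ H ≤ A) :
    H ⊔ A = ⊤ := by
  rw [← Subgroup.index_eq_one]
  have h1 : (H ⊔ A).index ∣ p := by rw [← hidx]; exact Subgroup.index_dvd_of_le le_sup_right
  refine ((Nat.dvd_prime hp.out).mp h1).resolve_right fun h => hH ?_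
  have h2 := Subgroup.relIndex_mul_index (le_sup_right : A ≤ H ⊔ A)
  rw [h, hidx] at h2
  have h3 : A.relIndex (H ⊔ A) = 1 := Nat.eq_of_mul_eq_mul_right hp.out.pos (by rw [h2, one_mul])
  exact le_sup_left.trans (Subgroup.relIndex_eq_one.mp h3)

section Index

variable {q : ℕ} {A : Subgroup G} [hAn : A.Normal]

theorem subgroup_card (hA : Cfsg.IsElementaryAbelian q A) (hidx : A.index = p)
    (hmin : ∀ B : Subgroup G, B.Normal → B ≤ A → B = ⊥ ∨ B = A) {H : Subgroup G} (hH : H ≠ ⊤)
    (hHA : ¬ H ≤ A) : Nat.card H = p := by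
  have hsup := eq_bot_or_top_inf hidx hHA
  have hab := hA.1
  have hn : (H ⊓ A).Normal := by
    rw [← Subgroup.normalizer_eq_top_iff, eq_top_iff, ← hsup]
    refine sup_le (fun h hh => ?_) (fun a ha => ?_)
    · rw [mem_normalizer_iff_smul, Subgroup.smul_inf, conj_smul_eq_self_of_mem hh,
        mem_normalizer_iff_smul.mp (by rw [Subgroup.normalizer_eq_top]; trivial)]
    · refine Subgroup.centralizer_le_normalizer _ (Subgroup.mem_centralizer_iff.mpr fun b hb => ?_)
      exact congrArg Subtype.val (mul_comm' (⟨b, hb.2⟩ : A) ⟨a, ha⟩)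
  rcases hmin _ hn inf_le_right with h | h
  · have e := card_sup_mul_card_inf_normal (H := H) (N := A)
    rw [hsup, h, Subgroup.card_bot, mul_one, Subgroup.card_top, ← A.card_mul_index, hidx, mul_comm (Nat.card H)] at e
    exact (Nat.eq_of_mul_eq_mul_left Nat.card_pos e).symm
  · refine absurd ?_ hH
    rw [← hsup, sup_eq_left.mpr (h ▸ inf_le_left)]

theorem structure_of_index (hq : q.Prime) (hpq : q ≠ p) (hna : ¬ IsMulCommutative G)
    (hA : Cfsg.IsElementaryAbelian q A) (hidx : A.index = p)
    (hmin : ∀ B : Subgroup G, B.Normal → B ≤ A → B = ⊥ ∨ B = A) :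
    Nat.card A = q ^ orderOf (q : ZMod p) ∧ ¬ Cfsg.IsPClosed p G ∧
      (∀ H : Subgroup G, H ≠ ⊤ → Cfsg.IsPClosed p H) ∧
      ∀ (N : Subgroup G) [N.Normal], N ≠ ⊥ → Cfsg.IsPClosed p (G ⧸ N) := by
  have hab := hA.1
  have hqA : IsPGroup q A := fun a => ⟨1, by simpa using Subtype.ext (hA.2 a a.2)⟩
  have := Fact.mk hq
  obtain ⟨n, hn⟩ := IsPGroup.iff_card.mp hqA
  have hpA : ¬ p ∣ Nat.card A := fun h => hpq ((Nat.prime_dvd_prime_iff_eq hp.out hq).mp
    (hp.out.dvd_of_dvd_pow (hn ▸ h))).symm
  have hG : Nat.card G = Nat.card A * p := by rw [← A.card_mul_index, hidx]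
  have hpG : p ∣ Nat.card G := ⟨_, by rw [hG, mul_comm]⟩
  obtain ⟨x, hx⟩ := exists_prime_orderOf_dvd_card' (G := G) p hpG
  have hxA : x ∉ A := fun h => hpA (hx ▸ Subgroup.orderOf_dvd_natCard A h)
  set P := Subgroup.zpowers x
  have hPA : ¬ P ≤ A := fun h => hxA (h (Subgroup.mem_zpowers x))
  have hsup := eq_bot_or_top_inf hidx hPA
  have hcomm : ¬ P ≤ Subgroup.centralizer (A : Set G) := by
    intro hc
    refine hna ⟨⟨fun a b => ?_⟩⟩
    have key : ∀ g : G, g ∈ Subgroup.center G := by
      intro g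
      have h1 : P ⊔ A ≤ Subgroup.center G := by
        refine sup_le ?_ ?_
        · rw [← Subgroup.centralizer_univ, ← Subgroup.coe_top, ← hsup, Subgroup.le_centralizer_iff]
          refine sup_le ?_ (Subgroup.le_centralizer_iff.mp hc)
          exact Subgroup.le_centralizer P
        · rw [← Subgroup.centralizer_univ, ← Subgroup.coe_top, ← hsup, Subgroup.le_centralizer_iff]
          exact sup_le hc (Subgroup.le_centralizer A)
      exact h1 (hsup ▸ Subgroup.mem_top g)
    exact (Subgroup.mem_center_iff.mp (key b) a)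
  have hnot : ¬ (P : Subgroup G).Normal := by
    intro hPn
    refine hcomm ?_
    have hinf : P ⊓ A = ⊥ := inf_eq_bot_of_coprime (by
      rw [Nat.card_zpowers, hx]; exact (hp.out.coprime_iff_not_dvd.mpr hpA))
    intro y hy
    exact Subgroup.mem_centralizer_iff.mpr fun a ha =>
      (Subgroup.commute_of_normal_of_disjoint P A hPn hAn (disjoint_iff.mpr hinf) y a hy ha).eq.symm
  have hPp : IsPGroup p P := IsPGroup.of_card (n := 1) (by rw [Nat.card_zpowers, hx, pow_one])
  have hPi : P.index = Nat.card A := by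
    refine Nat.eq_of_mul_eq_mul_left (Nat.card_pos (α := P)) ?_
    rw [P.card_mul_index, hG, Nat.card_zpowers, hx, mul_comm]
  set S := hPp.toSylow (hPi ▸ hpA)
  have hSP : (S : Subgroup G) = P := rfl
  have hncl : ¬ Cfsg.IsPClosed p G := fun h => hnot (hSP ▸ h S)
  have hcard : Nat.card A = q ^ orderOf (q : ZMod p) := by
    have hN : Subgroup.normalizer (P : Set G) = P := by
      refine (Subgroup.eq_of_le_of_card_ge Subgroup.le_normalizer ?_).symm
      rw [subgroup_card hA hidx hmin (fun h => hnot (Subgroup.normalizer_eq_top_iff.mp h))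
        (fun h => hPA (Subgroup.le_normalizer.trans h)), Nat.card_zpowers, hx]
    have hcount : (Nat.card A : ZMod p) = 1 := by
      have h1 := card_sylow_modEq_one p G
      rw [Sylow.card_eq_index_normalizer S, show Subgroup.normalizer (S : Set G) = P from hN, hPi] at h1
      simpa using (ZMod.natCast_eq_natCast_iff _ _ p).mpr h1
    set e := orderOf (q : ZMod p)
    have hen : e ∣ n := orderOf_dvd_of_pow_eq_one (by rw [← Nat.cast_pow, ← hn, hcount])
    have hA1 : A ≠ ⊥ := by
      intro h
      subst h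
      exact hcomm fun y _ => Subgroup.mem_centralizer_iff.mpr fun a ha => by
        rw [Subgroup.coe_bot, Set.mem_singleton_iff] at ha
        subst ha; simp
    -- the endomorphism ring generated by `x`
    let _ : CommGroup A := { (inferInstance : Group A) with mul_comm := mul_comm' }
    let T : AddMonoid.End (Additive A) := MonoidHom.toAdditive (MulAut.conjNormal (H := A) x).toMonoidHom
    let φ : Polynomial ℤ →+* AddMonoid.End (Additive A) := (Polynomial.aeval T).toRingHom
    have hφX : φ Polynomial.X = T := Polynomial.aeval_X T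
    have hTapp : ∀ a : Additive A, ((Additive.toMul (T a) : A) : G) = x * (Additive.toMul a : A) * x⁻¹ :=
      fun a => MulAut.conjNormal_apply x _
    have hTS : ∀ S : AddSubgroup (Additive A), (∀ a ∈ S, T a ∈ S) → S = ⊥ ∨ S = ⊤ := by
      intro W hW
      set B := (AddSubgroup.toSubgroup' W).map A.subtype
      have hBn : B.Normal := by
        rw [← Subgroup.normalizer_eq_top_iff, eq_top_iff, ← hsup]
        refine sup_le (Subgroup.zpowers_le.mpr ?_) (fun a ha => ?_)
        · rw [mem_normalizer_iff_smul]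
          refine Subgroup.eq_of_le_of_card_ge ?_ (card_conj_smul x B).ge
          intro y hy
          rw [mem_smul_conj] at hy
          obtain ⟨b, hb, hbe⟩ := hy
          refine ⟨Additive.toMul (T (Additive.ofMul b)), hW _ hb, ?_⟩
          show ((Additive.toMul (T (Additive.ofMul b)) : A) : G) = y
          rw [hTapp]
          simp only [Subgroup.coe_subtype] at hbe
          simp only [toMul_ofMul, hbe]
          group
        · refine Subgroup.centralizer_le_normalizer _ (Subgroup.mem_centralizer_iff.mpr fun b hb => ?_)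
          obtain ⟨b, -, rfl⟩ := hb
          exact congrArg Subtype.val (mul_comm' b ⟨a, ha⟩)
      rcases hmin B hBn (Subgroup.map_subtype_le _) with h | h
      · left
        rw [Subgroup.map_eq_bot_iff_of_injective _ A.subtype_injective] at h
        rw [eq_bot_iff]
        intro a ha
        have h2 : Additive.toMul a ∈ AddSubgroup.toSubgroup' W := ha
        rw [h, Subgroup.mem_bot] at h2
        exact h2
      · right
        rw [eq_top_iff]
        intro a _
        have h2 : ((Additive.toMul a : A) : G) ∈ B := by rw [h]; exact (Additive.toMul a).2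
        obtain ⟨b, hb, hbe⟩ := h2
        have e : Additive.toMul a = b := Subtype.ext hbe.symm
        show Additive.toMul a ∈ AddSubgroup.toSubgroup' W
        rw [e]
        exact hb
    let R := φ.range
    have hRc : ∀ f ∈ R, ∀ g ∈ R, f * g = g * f := by
      rintro _ ⟨P, rfl⟩ _ ⟨Q, rfl⟩
      rw [← map_mul, ← map_mul, mul_comm]
    let _ : CommRing R := { (inferInstance : Ring R) with mul_comm := fun a b => Subtype.ext (hRc _ a.2 _ b.2) }
    have hTR : T ∈ R := ⟨Polynomial.X, hφX⟩
    obtain ⟨⟨a₀, ha₀⟩, ha₀1⟩ := Subgroup.ne_bot_iff_exists_ne_one.mp hA1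
    set a : Additive A := Additive.ofMul ⟨a₀, ha₀⟩
    have hinj : ∀ f ∈ R, f ≠ 0 → ∀ b, f b = 0 → b = 0 := by
      intro f hf hf0 b hb
      rcases hTS f.ker (fun c hc => by
        show f (T c) = 0
        have := DFunLike.congr_fun (hRc f hf T hTR) c
        show (f * T) c = 0
        rw [this]
        show T (f c) = 0
        rw [show f c = 0 from hc, map_zero]) with h | h
      · have : b ∈ f.ker := hb
        rwa [h, AddSubgroup.mem_bot] at this
      · refine absurd (DFunLike.ext _ _ fun c => ?_) hf0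
        have h2 : c ∈ f.ker := by rw [h]; trivial
        exact h2
    have : Finite (AddMonoid.End (Additive A)) := DFunLike.finite _
    have : Nontrivial R := ⟨0, 1, fun h => ha₀1 (congrArg Additive.toMul
      ((DFunLike.congr_fun (congrArg Subtype.val h) a).symm : a = 0))⟩
    have : NoZeroDivisors R := ⟨fun {f g} h => by
      by_cases hf : (f : AddMonoid.End (Additive A)) = 0
      · exact Or.inl (Subtype.ext hf)
      · refine Or.inr (Subtype.ext (AddMonoidHom.ext fun b => hinj f f.2 hf _ ?_))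
        exact DFunLike.congr_fun (congrArg Subtype.val h) b⟩
    have : IsDomain R := NoZeroDivisors.to_isDomain R
    have hsurj : ∀ b : Additive A, ∃ f : R, (f : AddMonoid.End (Additive A)) a = b := by
      let ev : R →+ Additive A :=
        { toFun := fun f => (f : AddMonoid.End (Additive A)) a
          map_zero' := rfl
          map_add' := fun _ _ => rfl }
      have h := (hTS ev.range ?_).resolve_left ?_
      · intro b
        have : b ∈ ev.range := by rw [h]; trivial
        exact this
      · rintro _ ⟨f, rfl⟩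
        exact ⟨⟨T, hTR⟩ * f, rfl⟩
      · intro h
        have : a ∈ ev.range := ⟨1, rfl⟩
        rw [h, AddSubgroup.mem_bot] at this
        exact ha₀1 (congrArg Additive.toMul this)
    have hqR : (q : R) = 0 := by
      refine Subtype.ext (AddMonoidHom.ext fun b => ?_)
      have h1 : (q • (1 : R) : R) = (q : R) := nsmul_one q
      rw [← h1]
      show (q • (1 : AddMonoid.End (Additive A))) b = 0
      show q • b = 0
      exact congrArg Additive.ofMul (Subtype.ext (hA.2 _ (Additive.toMul b).2) : (Additive.toMul b) ^ q = 1)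
    have : CharP R q := (CharP.charP_iff_prime_eq_zero hq).mpr hqR
    have hqe : q ^ e % p = 1 := by
      have h1 : ((q ^ e : ℕ) : ZMod p) = ((1 : ℕ) : ZMod p) := by
        rw [Nat.cast_pow, Nat.cast_one]; exact pow_orderOf_eq_one _
      rw [ZMod.natCast_eq_natCast_iff'] at h1
      rwa [Nat.one_mod_eq_one.mpr hp.out.one_lt.ne'] at h1
    have hTp : T ^ p = 1 := by
      have h1 : ∀ (k : ℕ) (b : Additive A), ((Additive.toMul ((T ^ k) b) : A) : G) = x ^ k * (Additive.toMul b : A) * (x ^ k)⁻¹ := by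
        intro k
        induction k with
        | zero => intro b; simp
        | succ k ih =>
          intro b
          rw [pow_succ']
          show ((Additive.toMul (T ((T ^ k) b)) : A) : G) = _
          rw [hTapp, ih, pow_succ']
          group
      refine DFunLike.ext (T ^ p) 1 fun b => Additive.toMul.injective (Subtype.ext ?_)
      rw [h1, ← hx, pow_orderOf_eq_one]
      simp
    let φ' : Polynomial ℤ →+* R := φ.rangeRestrict
    have hfrob : (iterateFrobenius R q e).comp φ' = φ' := by
      refine Polynomial.ringHom_ext (fun k => ?_) ?_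
      · simp [φ']
      · rw [RingHom.comp_apply, iterateFrobenius_def]
        refine Subtype.ext ?_
        show (φ Polynomial.X) ^ (q ^ e) = φ Polynomial.X
        rw [hφX, ← Nat.div_add_mod (q ^ e) p, hqe, pow_add, pow_mul, hTp, one_pow, one_mul, pow_one]
    have hfix : ∀ r : R, r ^ (q ^ e) = r := by
      intro r
      obtain ⟨P, rfl⟩ := φ.rangeRestrict_surjective r
      have h1 := RingHom.congr_fun hfrob P
      rwa [RingHom.comp_apply, iterateFrobenius_def] at h1
    have := Fintype.ofFinite R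
    have hqe1 : 1 < q ^ e := Nat.one_lt_pow (by
      intro h
      have h' : orderOf (q : ZMod p) = 0 := h
      have hq0 : (q : ZMod p) ≠ 0 := fun h0 => hpq
        ((Nat.prime_dvd_prime_iff_eq hp.out hq).mp ((CharP.cast_eq_zero_iff (ZMod p) p q).mp h0)).symm
      rw [orderOf_eq_zero_iff'] at h'
      exact h' (p - 1) (Nat.sub_pos_of_lt hp.out.one_lt) (ZMod.pow_card_sub_one_eq_one hq0)) hq.one_lt
    have hle : Nat.card R ≤ q ^ e := by
      have hdeg : (Polynomial.X ^ q ^ e - Polynomial.X : Polynomial R).natDegree = q ^ e := by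
        rw [Polynomial.natDegree_sub_eq_left_of_natDegree_lt] <;> simp [hqe1]
      have hne : (Polynomial.X ^ q ^ e - Polynomial.X : Polynomial R) ≠ 0 := fun h => by
        rw [h, Polynomial.natDegree_zero] at hdeg; omega
      rw [Nat.card_eq_fintype_card, ← hdeg]
      refine Polynomial.card_le_degree_of_subset_roots (Z := Finset.univ) ?_
      intro r _
      rw [Polynomial.mem_roots hne, Polynomial.IsRoot.def,
        Polynomial.eval_sub, Polynomial.eval_pow, Polynomial.eval_X, hfix, sub_self]
    have hle2 : Nat.card A ≤ Nat.card R := Nat.card_le_card_of_surjective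
      (fun f : R => Additive.toMul ((f : AddMonoid.End (Additive A)) a)) (fun b => by
        obtain ⟨f, hf⟩ := hsurj (Additive.ofMul b)
        exact ⟨f, by simp [hf]⟩)
    have hn0 : 0 < n := by
      rcases Nat.eq_zero_or_pos n with h | h
      · rw [h, pow_zero] at hn; exact absurd (Subgroup.card_eq_one.mp hn) hA1
      · exact h
    have hnle : n ≤ e := (Nat.pow_le_pow_iff_right hq.one_lt).mp (hn ▸ hle2.trans hle)
    rw [hn, le_antisymm hnle (Nat.le_of_dvd hn0 hen)]
  refine ⟨hcard, hncl, fun H hH => ?_, fun N _ hN => ?_⟩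
  · by_cases hHA : H ≤ A
    · exact isPClosed_of_not_dvd fun h => hpA (h.trans (Subgroup.card_dvd_of_le hHA))
    · exact isPClosed_of_isPGroup (IsPGroup.of_card (n := 1) (by rw [pow_one]; exact subgroup_card hA hidx hmin hH hHA))
  · rcases hmin (N ⊓ A) inferInstance inf_le_right with h | h
    · exfalso
      have hNA : ¬ N ≤ A := fun h' => hN (by rwa [inf_eq_left.mpr h'] at h)
      have hNc : N ≤ Subgroup.centralizer (A : Set G) := fun y hy => Subgroup.mem_centralizer_iff.mpr fun a ha =>
        (Subgroup.commute_of_normal_of_disjoint N A ‹_› hAn (disjoint_iff.mpr h) y a hy ha).eq.symm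
      refine hcomm ((le_top.trans (eq_bot_or_top_inf hidx hNA).ge).trans (sup_le hNc ?_))
      exact Subgroup.le_centralizer A
    · refine isPClosed_of_isPGroup ?_
      have hdvd : Nat.card (G ⧸ N) ∣ p := by
        rw [← Subgroup.index_eq_card, ← hidx]
        exact Subgroup.index_dvd_of_le (h ▸ inf_le_left)
      rcases (Nat.dvd_prime hp.out).mp hdvd with h2 | h2
      · exact IsPGroup.of_card (n := 0) (by rw [h2, pow_zero])
      · exact IsPGroup.of_card (n := 1) (by rw [h2, pow_one])

end Index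

theorem structure_of_minimal (hnc : ¬ Cfsg.IsPClosed p G) (hsub : ∀ H : Subgroup G, H ≠ ⊤ → Cfsg.IsPClosed p H)
    (hquo : ∀ (N : Subgroup G) [N.Normal], N ≠ ⊥ → Cfsg.IsPClosed p (G ⧸ N)) (hns : ¬ IsSimpleGroup G) :
    ∃ q : ℕ, q.Prime ∧ q ≠ p ∧ Nat.card G = p * q ^ orderOf (q : ZMod p) ∧
      ∃ A : Subgroup G, A.Normal ∧ Nat.card ↥A = q ^ orderOf (q : ZMod p) ∧ Cfsg.IsElementaryAbelian q A ∧
        ∀ B : Subgroup G, B.Normal → B ≤ A → B = ⊥ ∨ B = A := by
  have P : Sylow p G := default
  have hPn : ¬ (P : Subgroup G).Normal := fun h => hnc fun Q => by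
    have := P.characteristic_of_normal h
    obtain ⟨g, hg⟩ := MulAction.exists_smul_eq G P Q
    rw [← hg, Sylow.coe_subgroup_smul, mem_normalizer_iff_smul.mp (by rw [Subgroup.normalizer_eq_top]; trivial)]
    exact h
  have : Nontrivial G := by
    by_contra h
    rw [not_nontrivial_iff_subsingleton] at h
    exact hPn ⟨fun y hy g => by rwa [Subsingleton.elim (g * y * g⁻¹) y]⟩
  obtain ⟨N, hNn, hN1, hNt⟩ : ∃ N : Subgroup G, N.Normal ∧ N ≠ ⊥ ∧ N ≠ ⊤ := by
    by_contra h
    push Not at h
    exact hns { eq_bot_or_eq_top_of_normal := fun N hN => (em (N = ⊥)).imp id (h N hN) }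
  obtain ⟨A, hAn, hA1, hAN, hmin⟩ := exists_minimal_normal_le hN1
  have hAt : A ≠ ⊤ := fun h => hNt (top_le_iff.mp (h ▸ hAN))
  have htop : ∀ (B : Subgroup G), B.Normal → B ≠ ⊥ → (P : Subgroup G) ⊔ B = ⊤ := by
    intro B hB hB1
    by_contra hne
    refine hPn ?_
    have hn : ((P : Subgroup G) ⊔ B).Normal := by
      have h1 := hquo B hB1 (P.mapSurjective (QuotientGroup.mk'_surjective B))
      have h2 := h1.comap (QuotientGroup.mk' B)
      rwa [Sylow.coe_mapSurjective, Subgroup.comap_map_eq, QuotientGroup.ker_mk'] at h2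
    have hle : (P : Subgroup G) ⊔ B ≤ Subgroup.normalizer ((P : Subgroup G) : Set G) :=
      le_normalizer_of_closed (hsub _ hne) le_sup_left P.isPGroup' fun h =>
        P.not_dvd_index (h.trans ⟨_, (Subgroup.relIndex_mul_index le_sup_left).symm⟩)
    have h4 := Sylow.normalizer_sup_eq_top (N := (P : Subgroup G) ⊔ B) (P.subtype le_sup_left)
    rw [Sylow.coe_subtype, Subgroup.map_subgroupOf_eq_of_le le_sup_left, sup_eq_left.mpr hle] at h4
    exact Subgroup.normalizer_eq_top_iff.mp h4
  have hnoPgrp : ∀ B : Subgroup G, B.Normal → IsPGroup p B → B = ⊥ := by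
    intro B hB hBp
    by_contra h
    have hle : B ≤ (P : Subgroup G) := hBp.le_sylow_of_normal P
    have h2 := htop B hB h
    rw [sup_eq_left.mpr hle] at h2
    exact hPn (h2 ▸ inferInstance)
  have hpA : ¬ p ∣ Nat.card A := by
    intro hd
    have S : Sylow p A := default
    have := S.characteristic_of_normal (hsub A hAt S)
    have h1 := hnoPgrp _ (normal_of_characteristic_map (S : Subgroup A)) (S.isPGroup'.map _)
    rw [Subgroup.map_eq_bot_iff_of_injective _ A.subtype_injective] at h1
    have h2 := S.not_dvd_index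
    rw [h1, Subgroup.index_bot] at h2
    exact h2 hd
  obtain ⟨k, hk⟩ := IsPGroup.iff_card.mp P.isPGroup'
  have hcopP : (Nat.card (P : Subgroup G)).Coprime (Nat.card A) := by
    rw [hk]; exact (hp.out.coprime_iff_not_dvd.mpr hpA).pow_left k
  have hPnorm : (P : Subgroup G) ≤ Subgroup.normalizer (A : Set G) := by rw [Subgroup.normalizer_eq_top]; exact le_top
  have hG : Nat.card G = Nat.card (P : Subgroup G) * Nat.card A := by
    rw [← card_sup_coprime hPnorm hcopP, htop A hAn hA1, Subgroup.card_top]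
  have hcent : ∀ M : Subgroup G, M ≤ (P : Subgroup G) → ∀ Q : Subgroup G, Q ≤ A →
      M ≤ Subgroup.normalizer (Q : Set G) → Nat.card M * Nat.card Q < Nat.card G →
      Q ≤ Subgroup.centralizer (M : Set G) := by
    intro M hM Q hQ hMQ hlt
    have hc : (Nat.card M).Coprime (Nat.card Q) :=
      (hcopP.coprime_dvd_left (Subgroup.card_dvd_of_le hM)).coprime_dvd_right (Subgroup.card_dvd_of_le hQ)
    have hne : M ⊔ Q ≠ ⊤ := fun h => hlt.ne (by rw [← card_sup_coprime hMQ hc, h, Subgroup.card_top])
    have hrel : ¬ p ∣ M.relIndex (M ⊔ Q) := fun h => hpA (by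
      have h2 := card_mul_relIndex (le_sup_left : M ≤ M ⊔ Q)
      rw [card_sup_coprime hMQ hc] at h2
      rw [Nat.eq_of_mul_eq_mul_left Nat.card_pos h2] at h
      exact h.trans (Subgroup.card_dvd_of_le hQ))
    have hle := le_normalizer_of_closed (hsub _ hne) le_sup_left (P.isPGroup'.to_le hM) hrel
    intro a ha
    refine Subgroup.mem_centralizer_iff.mpr fun m hm => ?_
    have h1 : m * a * m⁻¹ * a⁻¹ ∈ M ⊓ Q := ⟨by
        have h3 := M.mul_mem hm ((Subgroup.mem_normalizer_iff.mp (hle (Subgroup.mem_sup_right ha)) m⁻¹).mp (M.inv_mem hm))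
        simpa [mul_assoc] using h3,
      Q.mul_mem ((Subgroup.mem_normalizer_iff.mp (hMQ hm) a).mp ha) (Q.inv_mem ha)⟩
    rw [inf_eq_bot_of_coprime hc, Subgroup.mem_bot, mul_inv_eq_one, mul_inv_eq_iff_eq_mul] at h1
    exact h1
  have hnorm : ∀ M : Subgroup G, M ≤ (P : Subgroup G) → (P : Subgroup G) ≤ Subgroup.normalizer (M : Set G) →
      A ≤ Subgroup.centralizer (M : Set G) → M.Normal := by
    intro M _ h1 h2
    rw [← Subgroup.normalizer_eq_top_iff, eq_top_iff, ← htop A hAn hA1]
    exact sup_le h1 (h2.trans (Subgroup.centralizer_le_normalizer _))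
  have hsolP : Group.IsSolvable (P : Subgroup G) := by
    have := P.isPGroup'.isNilpotent
    infer_instance
  obtain ⟨q, hq, hqA⟩ : ∃ q : ℕ, q.Prime ∧ IsPGroup q A := by
    by_contra hcon
    push Not at hcon
    refine hPn (hnorm _ le_rfl Subgroup.le_normalizer ?_)
    refine (le_of_forall_sylow (inf_le_left : A ⊓ _ ≤ A) fun q hq => ?_).trans inf_le_right
    obtain ⟨Q, hQ, hPQ⟩ := exists_invariant_sylow (P : Subgroup G) A hPnorm hcopP (Or.inl hsolP) q
    refine ⟨Q, hQ, le_inf hQ.1 (hcent _ le_rfl Q hQ.1 hPQ ?_)⟩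
    rw [hG]
    refine Nat.mul_lt_mul_of_pos_left (lt_of_le_of_ne (Subgroup.card_le_of_le hQ.1) fun h => ?_) Nat.card_pos
    exact hcon q hq.out ((Subgroup.eq_of_le_of_card_ge hQ.1 h.ge) ▸ hQ.2.1)
  have := Fact.mk hq
  have hqp : q ≠ p := by
    intro h
    subst h
    obtain ⟨j, hj⟩ := IsPGroup.iff_card.mp hqA
    rcases j with _ | j
    · exact hA1 (Subgroup.card_eq_one.mp (by rw [hj, pow_zero]))
    · exact hpA (hj ▸ dvd_pow_self q j.succ_ne_zero)
  have hel : Cfsg.IsElementaryAbelian q A := by
    obtain ⟨hab, r, hr, hpow⟩ := minimal_normal_solvable (by have := hqA.isNilpotent; infer_instance) hA1 hmin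
    refine ⟨hab, fun a ha => ?_⟩
    obtain ⟨⟨b, hb⟩, hb1⟩ := Subgroup.ne_bot_iff_exists_ne_one.mp hA1
    obtain ⟨j, hj⟩ := IsPGroup.iff_card.mp hqA
    have hob : orderOf b = r := (Nat.dvd_prime hr).mp (orderOf_dvd_of_pow_eq_one (hpow b hb)) |>.resolve_left
      fun h => hb1 (Subtype.ext (orderOf_eq_one_iff.mp h))
    have hrq : r = q := (Nat.prime_dvd_prime_iff_eq hr hq).mp
      (hr.dvd_of_dvd_pow (hj ▸ hob ▸ Subgroup.orderOf_dvd_natCard A hb))
    exact hrq ▸ hpow a ha
  rcases k with _ | k
  · refine absurd ?_ hPn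
    rw [pow_zero] at hk
    rw [Subgroup.card_eq_one.mp hk]
    infer_instance
  obtain ⟨M₀, hM₀⟩ := Sylow.exists_subgroup_card_pow_prime (G := (P : Subgroup G)) p (n := k)
    (by rw [hk]; exact pow_dvd_pow p (Nat.le_succ k))
  have hM₀i : M₀.index = p := by
    refine Nat.eq_of_mul_eq_mul_left (Nat.card_pos (α := M₀)) ?_
    rw [M₀.card_mul_index, hM₀, hk, pow_succ]
  have hM₀n : M₀.Normal := Subgroup.normal_of_index_eq_minFac_card (by
    rw [hM₀i, hk, Nat.Prime.pow_minFac hp.out k.succ_ne_zero])
  set M := M₀.map (P : Subgroup G).subtype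
  have hMP : M ≤ (P : Subgroup G) := Subgroup.map_subtype_le _
  have hMc : Nat.card M = p ^ k := by
    rw [Subgroup.card_map_of_injective (Subgroup.subtype_injective _), hM₀]
  have hM1 : M = ⊥ := by
    refine hnoPgrp M (hnorm M hMP ?_ (hcent M hMP A le_rfl (hMP.trans hPnorm) ?_)) (P.isPGroup'.to_le hMP)
    · intro y hy
      refine Subgroup.le_normalizer_map (P : Subgroup G).subtype ⟨⟨y, hy⟩, ?_, rfl⟩
      rw [Subgroup.normalizer_eq_top]; trivial
    · rw [hG, hMc, hk, pow_succ]
      exact Nat.mul_lt_mul_of_pos_right (lt_mul_of_one_lt_right (pow_pos hp.out.pos k) hp.out.one_lt) Nat.card_pos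
  have hk0 : p ^ k = 1 := by rw [← hMc, hM1, Subgroup.card_bot]
  have hidx : A.index = p := by
    refine Nat.eq_of_mul_eq_mul_left (Nat.card_pos (α := A)) ?_
    rw [A.card_mul_index, hG, hk, pow_succ, hk0, one_mul, mul_comm]
  have hna : ¬ IsMulCommutative G := fun h => hPn inferInstance
  obtain ⟨hc, -⟩ := structure_of_index hq hqp hna hel hidx hmin
  exact ⟨q, hq, hqp, by rw [hG, hk, pow_succ, hk0, one_mul, hc], A, hAn, hc, hel, hmin⟩

theorem isPClosed_of_omega {H : Type*} [Group H] (hex : ∀ x : H, (∃ k : ℕ, x ^ p ^ k = 1) → x ^ p = 1)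
    (K : Subgroup H) (hK : (K : Set H) = {g : H | g ^ p = 1}) : Cfsg.IsPClosed p H := by
  intro S
  have hKp : IsPGroup p K := fun g => ⟨1, Subtype.ext (by
    have h : (g : H) ∈ {g : H | g ^ p = 1} := hK ▸ g.2
    rw [pow_one]; exact h)⟩
  have hle : (S : Subgroup H) ≤ K := fun x hx => by
    obtain ⟨k, hk⟩ := S.isPGroup' ⟨x, hx⟩
    show x ∈ (K : Set H)
    rw [hK]
    exact hex x ⟨k, by simpa using congrArg Subtype.val hk⟩
  rw [← S.3 hKp hle]
  refine ⟨fun x hx g => ?_⟩
  show g * x * g⁻¹ ∈ (K : Set H)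
  have h1 : x ∈ (K : Set H) := hx
  rw [hK] at h1 ⊢
  show (g * x * g⁻¹) ^ p = 1
  rw [conj_pow, show x ^ p = 1 from h1, mul_one, mul_inv_cancel]

end Cfsg.Agent.Grp.MinPClosed
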