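import Mathlib
import Cfsg.Prelude.Def_Transfer
import Cfsg.Agent.Lib.Grp.Basic

/-!
# Abelian Sylow subgroups in groups with a nilpotent minimal cover
-/

set_option autoImplicit false

namespace Cfsg.Agent.Grp.NilpotentCover

variable {G : Type*} [Group G] [Finite G] {p : ℕ} [Fact p.Prime]

/-- The cover hypothesis. -/
def NilCover (𝓐 : Finset (Subgroup G)) : Prop :=
  ((∀ A ∈ 𝓐, A ≠ ⊤) ∧ (∀ g : G, ∃ A ∈ 𝓐, g ∈ A)) ∧
    (∀ 𝓑 : Finset (Subgroup G), (∀ A ∈ 𝓑, A ≠ ⊤) ∧ (∀ g : G, ∃ A ∈ 𝓑, g ∈ A) → 𝓐.card ≤ 𝓑.card) ∧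
    (∀ A ∈ 𝓐, Group.IsNilpotent ↥A)

theorem eq_of_le_common {𝓐 : Finset (Subgroup G)} (h : NilCover 𝓐) {A B M : Subgroup G} (hA : A ∈ 𝓐)
    (hB : B ∈ 𝓐) (hM : M ≠ ⊤) (hAM : A ≤ M) (hBM : B ≤ M) : A = B := by
  classical
  by_contra hne
  have := h.2.1 (insert M ((𝓐.erase A).erase B)) ⟨?_, ?_⟩
  · have h1 := Finset.card_insert_le M ((𝓐.erase A).erase B)
    rw [Finset.card_erase_of_mem (Finset.mem_erase.mpr ⟨Ne.symm hne, hB⟩), Finset.card_erase_of_mem hA] at h1
    have h2 : 1 < 𝓐.card := Finset.one_lt_card.mpr ⟨A, hA, B, hB, hne⟩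
    omega
  · intro C hC
    rcases Finset.mem_insert.mp hC with rfl | hC
    · exact hM
    · exact h.1.1 C (Finset.mem_of_mem_erase (Finset.mem_of_mem_erase hC))
  · intro g
    obtain ⟨C, hC, hg⟩ := h.1.2 g
    by_cases hCA : C = A
    · exact ⟨M, Finset.mem_insert_self _ _, hAM (hCA ▸ hg)⟩
    by_cases hCB : C = B
    · exact ⟨M, Finset.mem_insert_self _ _, hBM (hCB ▸ hg)⟩
    exact ⟨C, Finset.mem_insert_of_mem (Finset.mem_erase.mpr ⟨hCB, Finset.mem_erase.mpr ⟨hCA, hC⟩⟩), hg⟩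

/-- The Sylow subgroups are abelian. -/
theorem sylow_comm (P : Sylow p G) (hab : IsMulCommutative ↥(P : Subgroup G)) {R : Subgroup G} (hR : IsPGroup p R)
    {a b : G} (ha : a ∈ R) (hb : b ∈ R) : a * b = b * a := by
  obtain ⟨Q, hQ⟩ := hR.exists_le_sylow
  obtain ⟨g, rfl⟩ := MulAction.exists_smul_eq G Q P
  have ha' : MulAut.conj g a ∈ ((g • Q : Sylow p G) : Subgroup G) := by
    rw [Sylow.smul_def, Sylow.pointwise_smul_def]; exact ⟨a, hQ ha, rfl⟩
  have hb' : MulAut.conj g b ∈ ((g • Q : Sylow p G) : Subgroup G) := by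
    rw [Sylow.smul_def, Sylow.pointwise_smul_def]; exact ⟨b, hQ hb, rfl⟩
  have e := congrArg Subtype.val (hab.is_comm.comm ⟨_, ha'⟩ ⟨_, hb'⟩)
  refine (MulAut.conj g).injective ?_
  rw [map_mul, map_mul]
  exact e

/-- A `p`-element of a nilpotent subgroup is central in it. -/
theorem commute_of_mem (P : Sylow p G) (hab : IsMulCommutative ↥(P : Subgroup G)) {A : Subgroup G}
    (hA : Group.IsNilpotent A) {z : G} (hzA : z ∈ A) (hzp : IsPGroup p (Subgroup.zpowers z)) :
    A ≤ Subgroup.centralizer {z} := by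
  have hn : ∀ (q : ℕ) (_ : Fact q.Prime) (Q : Sylow q A), (Q : Subgroup A).Normal :=
    ((Group.isNilpotent_of_finite_tfae (G := A)).out 0 3).mp hA
  set C : Subgroup A := Subgroup.centralizer {(⟨z, hzA⟩ : A)}
  suffices C = ⊤ from fun a ha => by
    have h1 : (⟨a, ha⟩ : A) ∈ C := this.symm ▸ Subgroup.mem_top _
    rw [Subgroup.mem_centralizer_singleton_iff] at h1 ⊢
    exact congrArg Subtype.val h1
  rw [← Subgroup.index_eq_one, ← not_ne_iff]
  intro hne
  obtain ⟨q, hq, hqd⟩ := Nat.exists_prime_and_dvd hne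
  haveI := Fact.mk hq
  obtain ⟨Q⟩ := (inferInstance : Nonempty (Sylow q A))
  have hzp' : IsPGroup p (Subgroup.zpowers (⟨z, hzA⟩ : A)) := by
    intro ⟨x, k, hk⟩
    obtain ⟨j, hj⟩ := hzp ⟨(x : G), k, by rw [← hk]; rfl⟩
    refine ⟨j, Subtype.ext (Subtype.ext ?_)⟩
    simpa using congrArg Subtype.val hj
  obtain ⟨S, hS⟩ := hzp'.exists_le_sylow
  have hSn := hn p ‹_› S
  have hzS : (⟨z, hzA⟩ : A) ∈ S := hS (Subgroup.mem_zpowers _)
  have hQC : (Q : Subgroup A) ≤ C := by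
    intro a ha
    rw [Subgroup.mem_centralizer_singleton_iff]
    by_cases hqp : q = p
    · subst hqp
      have : Subsingleton (Sylow q A) := (Sylow.unique_of_normal S hSn).instSubsingleton
      rw [Subsingleton.elim Q S] at ha
      exact Subtype.ext (sylow_comm P hab (S.2.map A.subtype) ⟨a, ha, rfl⟩ ⟨_, hzS, rfl⟩)
    · have hQn := hn q ‹_› Q
      exact (Subgroup.commute_of_normal_of_disjoint _ _ hQn hSn (Q.2.disjoint_of_ne q p hqp _ _ S.2) a ⟨z, hzA⟩ ha hzS).eq
  exact Q.not_dvd_index (hqd.trans (Subgroup.index_dvd_of_le hQC))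

theorem eq_of_common {𝓐 : Finset (Subgroup G)} (h : NilCover 𝓐) (hZ : Subgroup.center G = ⊥) (P : Sylow p G)
    (hab : IsMulCommutative ↥(P : Subgroup G)) {A B : Subgroup G} (hA : A ∈ 𝓐) (hB : B ∈ 𝓐) {z : G}
    (hzA : z ∈ A) (hzB : z ∈ B) (hz1 : z ≠ 1) (hzp : IsPGroup p (Subgroup.zpowers z)) : A = B := by
  refine eq_of_le_common h hA hB ?_ (commute_of_mem P hab (h.2.2 A hA) hzA hzp) (commute_of_mem P hab (h.2.2 B hB) hzB hzp)
  intro htop
  refine hz1 (Subgroup.mem_bot.mp (hZ ▸ ?_))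
  rw [Subgroup.mem_center_iff]
  intro g
  exact Subgroup.mem_centralizer_singleton_iff.mp (htop ▸ Subgroup.mem_top g)

/-- An abelian Sylow subgroup is elementary abelian of order above `p` or lies in a member. -/
theorem exists_member {𝓐 : Finset (Subgroup G)} (h : NilCover 𝓐) (hZ : Subgroup.center G = ⊥) (P : Sylow p G)
    (hab : IsMulCommutative ↥(P : Subgroup G)) (hP : (P : Subgroup G) ≠ ⊥)
    (hne : ¬ (Cfsg.IsElementaryAbelian p (P : Subgroup G) ∧ p < Nat.card ↥(P : Subgroup G))) :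
    ∃ A ∈ 𝓐, (P : Subgroup G) ≤ A := by
  have hp : p.Prime := Fact.out
  have hpg : ∀ x ∈ (P : Subgroup G), IsPGroup p (Subgroup.zpowers x) := fun x hx =>
    P.2.to_le (Subgroup.zpowers_le.mpr hx)
  by_cases hexp : ∀ x ∈ (P : Subgroup G), x ^ p = 1
  · have hEA : Cfsg.IsElementaryAbelian p (P : Subgroup G) :=
      ⟨hab, hexp⟩
    obtain ⟨k, hk⟩ := IsPGroup.iff_card.mp P.2
    have hk1 : k ≠ 0 := fun h0 => hP (Subgroup.card_eq_one.mp (by rw [hk, h0, pow_zero]))
    have hcard : Nat.card ↥(P : Subgroup G) = p :=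
      le_antisymm (not_lt.mp fun hlt => hne ⟨hEA, hlt⟩) (by rw [hk]; exact Nat.le_self_pow hk1 p)
    obtain ⟨x, hx, hx1⟩ : ∃ x ∈ (P : Subgroup G), x ≠ 1 := by
      by_contra hno
      push Not at hno
      exact hP ((Subgroup.eq_bot_iff_forall _).mpr hno)
    obtain ⟨A, hA, hxA⟩ := h.1.2 x
    refine ⟨A, hA, ?_⟩
    rw [← Subgroup.eq_of_le_of_card_ge (Subgroup.zpowers_le.mpr hx) (by
      rw [hcard, Nat.card_zpowers]
      rcases (Nat.dvd_prime hp).mp (orderOf_dvd_of_pow_eq_one (hexp x hx)) with h1 | h1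
      · exact absurd (orderOf_eq_one_iff.mp h1) hx1
      · exact h1.ge)]
    exact Subgroup.zpowers_le.mpr hxA
  · push Not at hexp
    obtain ⟨x, hx, hxp⟩ := hexp
    obtain ⟨A, hA, hxA⟩ := h.1.2 x
    refine ⟨A, hA, ?_⟩
    have key : ∀ y ∈ (P : Subgroup G), y ^ p = 1 → y ∈ A := by
      intro y hy hy1
      obtain ⟨C, hC, hxyC⟩ := h.1.2 (x * y)
      have h1 : (x * y) ^ p = x ^ p := by
        rw [Commute.mul_pow (congrArg Subtype.val (hab.is_comm.comm ⟨x, hx⟩ ⟨y, hy⟩)), hy1, mul_one]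
      have hCA : C = A := eq_of_common h hZ P hab hC hA (h1 ▸ pow_mem hxyC p) (pow_mem hxA p) hxp (hpg _ (pow_mem hx p))
      rw [hCA] at hxyC
      simpa using A.mul_mem (A.inv_mem hxA) hxyC
    intro w hw
    by_cases hw1 : w = 1
    · rw [hw1]; exact one_mem A
    obtain ⟨k, hk⟩ := IsPGroup.iff_orderOf.mp P.2 ⟨w, hw⟩
    rw [← Subgroup.orderOf_coe] at hk
    rcases k with _ | k
    · exact absurd (orderOf_eq_one_iff.mp (by rw [hk, pow_zero])) hw1
    obtain ⟨C, hC, hwC⟩ := h.1.2 w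
    have h0 : orderOf w = p ^ (k + 1) := hk
    have hy1 : (w ^ p ^ k) ^ p = 1 := by rw [← pow_mul, ← pow_succ, ← h0, pow_orderOf_eq_one]
    have hy0 : w ^ p ^ k ≠ 1 := fun e => by
      have := orderOf_dvd_of_pow_eq_one e
      rw [h0] at this
      exact absurd (Nat.le_of_dvd (pow_pos hp.pos _) this) (not_le.mpr (Nat.pow_lt_pow_right hp.one_lt k.lt_succ_self))
    exact eq_of_common h hZ P hab hC hA (pow_mem hwC _) (key _ (pow_mem hw _) hy1) hy0 (hpg _ (pow_mem hw _)) ▸ hwC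

theorem ne_bot_of_not_normal (P : Sylow p G) (hnn : ¬ (P : Subgroup G).Normal) : (P : Subgroup G) ≠ ⊥ :=
  fun e => hnn (e ▸ inferInstance)

theorem mem_of_normalize (P : Sylow p G) {R : Subgroup G} (hR : IsPGroup p R)
    (hRN : R ≤ Subgroup.normalizer ((P : Subgroup G) : Set G)) : R ≤ (P : Subgroup G) := by
  rw [← P.is_maximal' (hR.to_sup_of_normal_right' P.2 hRN) le_sup_right]
  exact le_sup_left

/-- The structure around a member containing the Sylow subgroup. -/
theorem member_spec {𝓐 : Finset (Subgroup G)} (h : NilCover 𝓐) (hZ : Subgroup.center G = ⊥) (P : Sylow p G)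
    (hab : IsMulCommutative ↥(P : Subgroup G)) (hnn : ¬ (P : Subgroup G).Normal)
    (hne : ¬ (Cfsg.IsElementaryAbelian p (P : Subgroup G) ∧ p < Nat.card ↥(P : Subgroup G))) :
    ∃ A ∈ 𝓐, (P : Subgroup G) ≤ A ∧ ¬ p ∣ ((P : Subgroup G).subgroupOf A).index ∧
      IsCoatom (Subgroup.normalizer ((P : Subgroup G) : Set G)) ∧
      (∀ g : G, g ∉ Subgroup.normalizer ((P : Subgroup G) : Set G) →
        ¬ p ∣ Nat.card ↥(Subgroup.normalizer ((P : Subgroup G) : Set G) ⊓
          (Subgroup.normalizer ((P : Subgroup G) : Set G)).map (MulAut.conj g).toMonoidHom)) ∧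
      Subgroup.centralizer ((P : Subgroup G) : Set G) = A ∧
      (∀ M : Subgroup G, IsCoatom M → A ≤ M → M = Subgroup.normalizer ((P : Subgroup G) : Set G)) := by
  have hp : p.Prime := Fact.out
  have hP0 : (P : Subgroup G) ≠ ⊥ := ne_bot_of_not_normal P hnn
  have hpg : ∀ x ∈ (P : Subgroup G), IsPGroup p (Subgroup.zpowers x) := fun x hx =>
    P.2.to_le (Subgroup.zpowers_le.mpr hx)
  obtain ⟨z, hz, hz1⟩ : ∃ z ∈ (P : Subgroup G), z ≠ 1 := by
    by_contra hno
    push Not at hno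
    exact hP0 ((Subgroup.eq_bot_iff_forall _).mpr hno)
  obtain ⟨A, hA, hPA⟩ := exists_member h hZ P hab hP0 hne
  set N := Subgroup.normalizer ((P : Subgroup G) : Set G)
  -- centraliser
  have hCA : Subgroup.centralizer ((P : Subgroup G) : Set G) = A := by
    refine le_antisymm (fun c hc => ?_) (fun a ha => Subgroup.mem_centralizer_iff.mpr fun u hu => ?_)
    · have hcz : Commute c z := (Subgroup.mem_centralizer_iff.mp hc z hz).symm
      set a := (orderOf c).factorization p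
      set m := orderOf c / p ^ a with hm
      have hmc : m.Coprime p :=
        ((Nat.Prime.coprime_iff_not_dvd hp).mpr (Nat.not_dvd_ordCompl hp (orderOf_pos c).ne')).symm
      have hcm : c ^ m ∈ (P : Subgroup G) := by
        refine mem_of_normalize P ?_ ?_ (Subgroup.mem_zpowers _)
        · refine fun ⟨x, k, hk⟩ => ⟨a, Subtype.ext ?_⟩
          show x ^ p ^ a = 1
          rw [← hk, ← zpow_natCast, ← zpow_mul, mul_comm, zpow_mul, zpow_natCast, ← pow_mul, hm,
            Nat.div_mul_cancel (Nat.ordProj_dvd _ _), pow_orderOf_eq_one, one_zpow]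
        · exact Subgroup.zpowers_le.mpr (Subgroup.centralizer_le_normalizer _ (pow_mem hc m))
      by_cases h1 : c ^ m = 1
      · obtain ⟨B, hB, hczB⟩ := h.1.2 (c * z)
        have h2 : (c * z) ^ m = z ^ m := by rw [hcz.mul_pow, h1, one_mul]
        have hzm : z ^ m ≠ 1 := by
          intro e
          obtain ⟨k, hk⟩ := IsPGroup.iff_orderOf.mp P.2 ⟨z, hz⟩
          rw [← Subgroup.orderOf_coe] at hk
          have h3 := orderOf_dvd_of_pow_eq_one e
          rw [show orderOf z = p ^ k from hk] at h3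
          have h4 : p ^ k = 1 := Nat.Coprime.eq_one_of_dvd (hmc.symm.pow_left k) h3
          exact hz1 (orderOf_eq_one_iff.mp (hk.trans h4))
        rw [eq_of_common h hZ P hab hB hA (h2 ▸ pow_mem hczB m) (pow_mem (hPA hz) m) hzm (hpg _ (pow_mem hz m))] at hczB
        simpa using A.mul_mem hczB (A.inv_mem (hPA hz))
      · obtain ⟨B, hB, hcB⟩ := h.1.2 c
        rw [eq_of_common h hZ P hab hB hA (pow_mem hcB m) (hPA hcm) h1 (hpg _ hcm)] at hcB
        exact hcB
    · exact (Subgroup.mem_centralizer_singleton_iff.mp (commute_of_mem P hab (h.2.2 A hA) (hPA hu) (hpg u hu) ha)).symm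
  have hAP : ∀ R : Subgroup G, IsPGroup p R → R ≤ A → R ≤ (P : Subgroup G) := fun R hR hRA =>
    mem_of_normalize P hR ((hRA.trans hCA.ge).trans (Subgroup.centralizer_le_normalizer _))
  -- members containing conjugates
  have hconj : ∀ g : G, ∃ D ∈ 𝓐, (P : Subgroup G).map (MulAut.conj g).toMonoidHom ≤ D ∧
      D ≤ A.map (MulAut.conj g).toMonoidHom := by
    intro g
    have hgP : ((g • P : Sylow p G) : Subgroup G) = (P : Subgroup G).map (MulAut.conj g).toMonoidHom := by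
      rw [Sylow.smul_def, Sylow.pointwise_smul_def]; rfl
    have hinj : Function.Injective (MulAut.conj g).toMonoidHom := (MulAut.conj g).injective
    obtain ⟨D, hD, hgD⟩ := exists_member h hZ (g • P)
      ⟨⟨fun a b => Subtype.ext (sylow_comm P hab (g • P : Sylow p G).2 a.2 b.2)⟩⟩
      (by rw [hgP, Ne, Subgroup.map_eq_bot_iff_of_injective _ hinj]; exact hP0)
      (fun ⟨⟨_, h2⟩, h3⟩ => hne ⟨⟨hab,
        fun a ha => hinj (by rw [map_pow, map_one]; exact h2 _ (hgP ▸ ⟨a, ha, rfl⟩))⟩,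
        by rw [hgP, Subgroup.card_map_of_injective hinj] at h3; exact h3⟩)
    rw [hgP] at hgD
    refine ⟨D, hD, hgD, fun d hd => ?_⟩
    have h1 : (MulAut.conj g).symm d ∈ Subgroup.centralizer ((P : Subgroup G) : Set G) := by
      refine Subgroup.mem_centralizer_iff.mpr fun u hu => (MulAut.conj g).injective ?_
      rw [map_mul, map_mul, MulEquiv.apply_symm_apply]
      have hu' : MulAut.conj g u ∈ ((g • P : Sylow p G) : Subgroup G) := hgP ▸ ⟨u, hu, rfl⟩
      exact (Subgroup.mem_centralizer_singleton_iff.mp (commute_of_mem P hab (h.2.2 D hD) (hgD ⟨u, hu, rfl⟩)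
        ((g • P : Sylow p G).2.to_le (Subgroup.zpowers_le.mpr hu')) hd)).symm
    exact ⟨_, hCA ▸ h1, (MulAut.conj g).apply_symm_apply d⟩
  have hmem : ∀ g : G, (P : Subgroup G).map (MulAut.conj g).toMonoidHom ≤ A → g ∈ N := by
    intro g hg
    have h1 := Subgroup.eq_of_le_of_card_ge (hAP _ (P.2.map _) hg)
      (by rw [Subgroup.card_map_of_injective (MulAut.conj g).injective])
    exact mem_normalizer_of_map_eq.mpr h1
  have hNt : N ≠ ⊤ := fun e => hnn (Subgroup.normalizer_eq_top_iff.mp e)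
  have huniq : ∀ M : Subgroup G, IsCoatom M → A ≤ M → M = N := by
    intro M hM hAM
    have hMN : M ≤ N := fun g hg => by
      obtain ⟨D, hD, hgD, hDA⟩ := hconj g
      refine hmem g ?_
      rw [eq_of_le_common h hA hD hM.1 hAM (hDA.trans ?_)]
      · exact hgD
      · rintro _ ⟨a, ha, rfl⟩
        exact M.mul_mem (M.mul_mem hg (hAM ha)) (M.inv_mem hg)
    rcases hMN.lt_or_eq with h1 | h1
    · exact absurd (hM.2 N h1) hNt
    · exact h1
  refine ⟨A, hA, hPA, ?_, ?_, ?_, hCA, huniq⟩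
  · intro hd
    refine P.not_dvd_index (hd.trans ?_)
    rw [← Subgroup.relIndex]
    exact Dvd.intro _ (Subgroup.relIndex_mul_index hPA)
  · obtain ⟨M, hM, hAM⟩ := (eq_top_or_exists_le_coatom A).resolve_left (h.1.1 A hA)
    exact huniq M hM hAM ▸ hM
  · intro g hg hd
    obtain ⟨⟨y, hy1, hy2⟩, hy⟩ := exists_prime_orderOf_dvd_card' p hd
    rw [← Subgroup.orderOf_coe] at hy
    obtain ⟨w, hw, hwy⟩ := hy2
    have hyp : IsPGroup p (Subgroup.zpowers y) := IsPGroup.of_card (n := 1) (by rw [Nat.card_zpowers, pow_one]; exact hy)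
    have hyP : y ∈ (P : Subgroup G) := mem_of_normalize P hyp (Subgroup.zpowers_le.mpr hy1) (Subgroup.mem_zpowers y)
    have hwP : w ∈ (P : Subgroup G) := by
      refine mem_of_normalize P ?_ (Subgroup.zpowers_le.mpr hw) (Subgroup.mem_zpowers w)
      refine IsPGroup.of_card (n := 1) ?_
      rw [Nat.card_zpowers, pow_one, ← orderOf_injective (MulAut.conj g).toMonoidHom (MulAut.conj g).injective w, hwy]
      exact hy
    obtain ⟨D, hD, hgD, -⟩ := hconj g
    have hy0 : y ≠ 1 := fun e => hp.one_lt.ne (by rw [← hy]; show _ = orderOf y; rw [e, orderOf_one])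
    have hDA : D = A := eq_of_common h hZ P hab hD hA (hgD ⟨w, hwP, hwy⟩) (hPA hyP) hy0 hyp
    exact hg (hmem g (hDA ▸ hgD))

end Cfsg.Agent.Grp.NilpotentCover
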