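import Mathlib
import Cfsg.Agent.Lib.Grp.NilpotentCover
import Cfsg.Agent.Lib.Grp.FpfDual

/-!
Groups between `PSL` and `PGL` have no nilpotent minimal cover.

For `n ≥ 3` two regular unipotent elements with the same fixed line would lie in one member.  For
`n = 2` either a split torus element forces a member inside a Borel subgroup, or the point stabilizers
and the centralizers of irreducible elements of odd prime order give a smaller cover.
-/

set_option autoImplicit false
set_option linter.unusedSectionVars false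
set_option linter.style.haveILetI false

open Matrix
open scoped commutatorElement

namespace Cfsg.Agent.Grp.NilpotentCoverPGL

variable {n : ℕ} {F : Type*} [Field F] [Fintype F]

local notation "GLn" => GL (Fin n) F
local notation "πn" => QuotientGroup.mk' (Subgroup.center (GL (Fin n) F))

/-- The preimage in `GL` of a subgroup of a subgroup of `PGL`. -/
def pre (G : Subgroup (GLn ⧸ Subgroup.center GLn)) (A : Subgroup G) : Subgroup GLn :=
  (A.map G.subtype).comap πn

theorem pre_nilpotent (G : Subgroup (GLn ⧸ Subgroup.center GLn)) {A : Subgroup G}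
    (hA : Group.IsNilpotent A) : Group.IsNilpotent (pre G A) := by
  haveI := hA
  haveI : Group.IsNilpotent ↥(A.map G.subtype) :=
    Group.nilpotent_of_surjective _ (G.subtype.subgroupMap_surjective A)
  refine Subgroup.isNilpotent_of_ker_le_center ((πn).subgroupComap (A.map G.subtype)) fun a ha => ?_
  have h1 : πn (a : GLn) = 1 := congrArg Subtype.val (MonoidHom.mem_ker.1 ha)
  exact Subgroup.mem_center_iff.2 fun b =>
    Subtype.ext (Subgroup.mem_center_iff.1 ((QuotientGroup.eq_one_iff _).1 h1) b)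

/-- The stabilizer of the line through `v`. -/
def line (v : Fin n → F) : Subgroup GLn where
  carrier := {h | ∃ a : F, a ≠ 0 ∧ (h : Matrix (Fin n) (Fin n) F) *ᵥ v = a • v}
  one_mem' := ⟨1, one_ne_zero, by simp⟩
  mul_mem' := by
    rintro g h ⟨a, ha, hg⟩ ⟨b, hb, hh⟩
    refine ⟨b * a, mul_ne_zero hb ha, ?_⟩
    rw [Units.val_mul, ← mulVec_mulVec, hh, mulVec_smul, hg, smul_smul]
  inv_mem' := by
    rintro g ⟨a, ha, hg⟩
    refine ⟨a⁻¹, inv_ne_zero ha, ?_⟩
    have h := congrArg (fun w => ((g⁻¹ : GLn) : Matrix (Fin n) (Fin n) F) *ᵥ w) hg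
    simp only [mulVec_mulVec, ← Units.val_mul, inv_mul_cancel, Units.val_one, one_mulVec,
      mulVec_smul] at h
    conv_rhs => rw [h, smul_smul, inv_mul_cancel₀ ha, one_smul]

theorem center_scalar {z : GLn} (hz : z ∈ Subgroup.center GLn) :
    ∃ a : F, (z : Matrix (Fin n) (Fin n) F) = Matrix.scalar (Fin n) a := by
  obtain ⟨a, ha⟩ := Matrix.GeneralLinearGroup.mem_center_iff_val_mem_range_scalar.1 hz
  exact ⟨a, ha.symm⟩

theorem center_le_line {v : Fin n → F} (hv : v ≠ 0) : Subgroup.center GLn ≤ line v := by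
  intro z hz
  obtain ⟨a, ha⟩ := center_scalar hz
  have e : (z : Matrix (Fin n) (Fin n) F) *ᵥ v = a • v := by
    rw [ha, Matrix.scalar_apply, ← Matrix.smul_one_eq_diagonal, smul_mulVec, one_mulVec]
  refine ⟨a, fun h0 => hv ?_, e⟩
  have h := congrArg (fun w => ((z⁻¹ : GLn) : Matrix (Fin n) (Fin n) F) *ᵥ w) e
  simpa [h0, mulVec_mulVec, ← Units.val_mul] using h

theorem center_le_centralizer (e : GLn) : Subgroup.center GLn ≤ Subgroup.centralizer {e} :=
  fun _ hz => Subgroup.mem_centralizer_singleton_iff.2 (Subgroup.mem_center_iff.1 hz e).symm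

/-- A subgroup of `GL` containing the scalars, inside a subgroup of `PGL`. -/
def down (G : Subgroup (GLn ⧸ Subgroup.center GLn)) (H : Subgroup GLn) : Subgroup G :=
  (H.map πn).subgroupOf G

theorem mem_down {G : Subgroup (GLn ⧸ Subgroup.center GLn)} {H : Subgroup GLn}
    (hH : Subgroup.center GLn ≤ H) {h : GLn} {g : G}
    (e : πn h = (g : GLn ⧸ Subgroup.center GLn)) : g ∈ down G H ↔ h ∈ H := by
  constructor
  · rintro ⟨k, hk, ek⟩
    have := mul_mem hk (hH (QuotientGroup.eq.1 (ek.trans e.symm)))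
    simpa using this
  · exact fun hh => ⟨h, hh, e⟩

theorem le_down {G : Subgroup (GLn ⧸ Subgroup.center GLn)} {H : Subgroup GLn}
    (hH : Subgroup.center GLn ≤ H) {A : Subgroup G} (h : pre G A ≤ H) : A ≤ down G H := by
  intro g hg
  obtain ⟨k, hk⟩ := QuotientGroup.mk'_surjective _ (g : GLn ⧸ Subgroup.center GLn)
  exact (mem_down hH hk).2 (h ⟨g, hg, hk.symm⟩)

theorem exists_member {G : Subgroup (GLn ⧸ Subgroup.center GLn)}
    (hG : ((Matrix.SpecialLinearGroup.toGL :
      Matrix.SpecialLinearGroup (Fin n) F →* GLn).range).map πn ≤ G)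
    {𝓐 : Finset (Subgroup G)} (h : NilpotentCover.NilCover 𝓐) (s : Matrix.SpecialLinearGroup (Fin n) F) :
    ∃ A ∈ 𝓐, Matrix.SpecialLinearGroup.toGL s ∈ pre G A := by
  obtain ⟨A, hA, hsA⟩ := h.1.2 ⟨πn (Matrix.SpecialLinearGroup.toGL s),
    hG (Subgroup.mem_map_of_mem _ ⟨s, rfl⟩)⟩
  exact ⟨A, hA, _, hsA, rfl⟩

theorem down_line_ne_top {G : Subgroup (GLn ⧸ Subgroup.center GLn)}
    (hG : ((Matrix.SpecialLinearGroup.toGL :
      Matrix.SpecialLinearGroup (Fin n) F →* GLn).range).map πn ≤ G)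
    (hn : 2 ≤ n) {v : Fin n → F} (hv : v ≠ 0) : down G (line v) ≠ ⊤ := by
  obtain ⟨i, hi⟩ := Function.ne_iff.1 hv
  haveI : Nontrivial (Fin n) := Fin.nontrivial_iff_two_le.2 hn
  obtain ⟨j, hji⟩ := exists_ne i
  intro htop
  let s : Matrix.SpecialLinearGroup (Fin n) F :=
    ⟨Matrix.transvection j i (1 : F), Matrix.det_transvection_of_ne j i hji 1⟩
  have h1 : Matrix.SpecialLinearGroup.toGL s ∈ line v :=
    (mem_down (center_le_line hv) (h := Matrix.SpecialLinearGroup.toGL s)
      (g := (⟨_, hG (Subgroup.mem_map_of_mem _ ⟨s, rfl⟩)⟩ : G)) rfl).1 (htop.ge (Subgroup.mem_top _))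
  obtain ⟨a, -, ha⟩ := h1
  have h2 : v + Matrix.single j i (1 : F) *ᵥ v = a • v := by
    rw [← ha]
    show _ = (Matrix.transvection j i (1 : F)) *ᵥ v
    rw [Matrix.transvection, add_mulVec, one_mulVec]
  have h3 := congrFun h2 i
  have h4 := congrFun h2 j
  simp [Matrix.single_mulVec, Function.update_self, Function.update_of_ne (Ne.symm hji)] at h3 h4
  have ha1 : a = 1 := mul_right_cancel₀ hi (by rw [one_mul]; exact h3.symm)
  rw [ha1, one_mul, add_eq_left] at h4
  exact hi h4

section unipotent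

variable (p : ℕ) [hp : Fact p.Prime] [CharP F p]

/-- The number of vectors is divisible by the characteristic. -/
theorem dvd_card_vec (hn : 1 ≤ n) : p ∣ Nat.card (Fin n → F) := by
  obtain ⟨m, -, hm⟩ := FiniteField.card F p
  rw [Nat.card_eq_fintype_card, Fintype.card_fun, Fintype.card_fin, hm, ← pow_mul]
  exact dvd_pow_self p (Nat.mul_ne_zero m.pos.ne' (by omega))

theorem exists_fixed_vec (hn : 1 ≤ n) {R : Subgroup GLn} (hR : IsPGroup p R) :
    ∃ w : Fin n → F, w ≠ 0 ∧ ∀ r ∈ R, (r : Matrix (Fin n) (Fin n) F) *ᵥ w = w := by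
  letI : MulAction R (Fin n → F) :=
    { smul := fun r v => ((r : GLn) : Matrix (Fin n) (Fin n) F) *ᵥ v
      one_smul := fun v => one_mulVec v
      mul_smul := fun a b v => (mulVec_mulVec v _ _).symm }
  obtain ⟨w, hw, hne⟩ := hR.exists_fixed_point_of_prime_dvd_card_of_fixed_point (Fin n → F)
    (dvd_card_vec p hn) (a := 0) (fun r => mulVec_zero _)
  exact ⟨w, hne.symm, fun r hr => hw ⟨r, hr⟩⟩

theorem exists_fixed_covec (hn : 1 ≤ n) {R : Subgroup GLn} (hR : IsPGroup p R) :
    ∃ w : Fin n → F, w ≠ 0 ∧ ∀ r ∈ R, w ᵥ* (r : Matrix (Fin n) (Fin n) F) = w := by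
  letI : MulAction R (Fin n → F) :=
    { smul := fun r v => v ᵥ* (((r : GLn)⁻¹ : GLn) : Matrix (Fin n) (Fin n) F)
      one_smul := fun v => by
        show v ᵥ* ((((1 : R) : GLn)⁻¹ : GLn) : Matrix (Fin n) (Fin n) F) = v
        simp
      mul_smul := fun a b v => by
        show v ᵥ* ((((a * b : R) : GLn)⁻¹ : GLn) : Matrix (Fin n) (Fin n) F) = _
        rw [Subgroup.coe_mul, _root_.mul_inv_rev, Units.val_mul, ← vecMul_vecMul]
        rfl }
  obtain ⟨w, hw, hne⟩ := hR.exists_fixed_point_of_prime_dvd_card_of_fixed_point (Fin n → F)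
    (dvd_card_vec p hn) (a := 0) (fun r => zero_vecMul _)
  refine ⟨w, hne.symm, fun r hr => ?_⟩
  have h1 : w ᵥ* (((r⁻¹)⁻¹ : GLn) : Matrix (Fin n) (Fin n) F) = w := hw ⟨r⁻¹, inv_mem hr⟩
  rwa [inv_inv] at h1

/-- `1 + N` for `N` nilpotent of degree `n` is a `p`-element of determinant one. -/
theorem det_one_add {N : Matrix (Fin n) (Fin n) F} (hN : N ^ n = 0) :
    (1 + N) ^ p ^ n = 1 ∧ (1 + N).det = 1 := by
  have h0 : (1 + N) ^ p ^ n = 1 := by
    rcases Nat.eq_zero_or_pos n with rfl | hn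
    · exact Subsingleton.elim _ _
    haveI : Nonempty (Fin n) := ⟨⟨0, hn⟩⟩
    rw [add_pow_char_pow_of_commute (p := p) (n := n) (Commute.one_left N), one_pow,
      pow_eq_zero_of_le (Nat.lt_pow_self hp.out.one_lt).le hN, add_zero]
  refine ⟨h0, ?_⟩
  have h1 : (1 + N).det ^ p ^ n = 1 ^ p ^ n := by rw [← det_pow, h0, det_one, one_pow]
  exact iterateFrobenius_inj F p n (by rwa [iterateFrobenius_def, iterateFrobenius_def])

/-- The fixed line of a unipotent element of a nilpotent group is invariant. -/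
theorem member_le_line (hn : 1 ≤ n) {P : Subgroup GLn} (hP : Group.IsNilpotent P) {u : GLn}
    (hu : u ∈ P) {k : ℕ} (huk : u ^ p ^ k = 1) {v : Fin n → F}
    (hfix : ∀ x, (u : Matrix (Fin n) (Fin n) F) *ᵥ x = x → ∃ a : F, x = a • v) :
    P ≤ line v ∧ ∃ R : Subgroup GLn, IsPGroup p R ∧
      ∀ w ∈ P, ∀ l : ℕ, w ^ p ^ l = 1 → w ∈ R := by
  haveI := hP
  obtain ⟨S⟩ : Nonempty (Sylow p P) := inferInstance
  have hn' : ∀ (q : ℕ) (_ : Fact q.Prime) (Q : Sylow q P), (Q : Subgroup P).Normal :=
    ((Group.isNilpotent_of_finite_tfae (G := P)).out 0 3).mp hP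
  have hSn : (S : Subgroup P).Normal := hn' p ‹_› S
  set R := (S : Subgroup P).map P.subtype
  have hR : IsPGroup p R := S.isPGroup'.map _
  have hmem : ∀ w ∈ P, ∀ l : ℕ, w ^ p ^ l = 1 → w ∈ R := by
    intro w hw l hl
    have hz : IsPGroup p (Subgroup.zpowers (⟨w, hw⟩ : P)) := by
      rintro ⟨x, i, rfl⟩
      exact ⟨l, Subtype.ext (Subtype.ext (by
        simp only [SubmonoidClass.coe_pow, SubgroupClass.coe_zpow, OneMemClass.coe_one]
        rw [← zpow_natCast, ← _root_.zpow_mul, mul_comm, _root_.zpow_mul, zpow_natCast, hl, _root_.one_zpow]))⟩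
    obtain ⟨T, hT⟩ := hz.exists_le_sylow
    haveI : Subsingleton (Sylow p P) := (Sylow.unique_of_normal S hSn).instSubsingleton
    rw [Subsingleton.elim T S] at hT
    exact ⟨⟨w, hw⟩, hT (Subgroup.mem_zpowers _), rfl⟩
  refine ⟨?_, R, hR, hmem⟩
  obtain ⟨w, hw0, hw⟩ := exists_fixed_vec p hn hR
  intro a ha
  have hua : a⁻¹ * u * a ∈ R := by
    obtain ⟨x, hx, e⟩ := hmem u hu k huk
    refine ⟨⟨a, ha⟩⁻¹ * x * ⟨a, ha⟩, ?_, ?_⟩
    · have := hSn.conj_mem x hx (⟨a, ha⟩ : P)⁻¹
      rwa [inv_inv] at this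
    · simp only [Subgroup.coe_subtype, Subgroup.coe_mul, Subgroup.coe_inv]
      rw [← e]
      rfl
  obtain ⟨c, hc⟩ := hfix w (hw u (hmem u hu k huk))
  have hc0 : c ≠ 0 := fun h => hw0 (by rw [hc, h, zero_smul])
  have hv : v = c⁻¹ • w := by rw [hc, smul_smul, inv_mul_cancel₀ hc0, one_smul]
  obtain ⟨b, hb⟩ := hfix ((a : Matrix (Fin n) (Fin n) F) *ᵥ w) (by
    have h1 := hw _ hua
    rw [mulVec_mulVec, ← Units.val_mul, show u * a = a * (a⁻¹ * u * a) by group, Units.val_mul,
      ← mulVec_mulVec, h1])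
  refine ⟨c⁻¹ * b, mul_ne_zero (inv_ne_zero hc0) fun hb0 => hw0 ?_, ?_⟩
  · rw [hb0, zero_smul] at hb
    have h2 := congrArg (fun x => ((a⁻¹ : GLn) : Matrix (Fin n) (Fin n) F) *ᵥ x) hb
    simpa [mulVec_mulVec, ← Units.val_mul] using h2
  · nth_rewrite 1 [hv]
    rw [mulVec_smul, hb, smul_smul]

end unipotent

section ge_three

/-- A permuted nilpotent Jordan block. -/
def nil (σ : Equiv.Perm (Fin n)) : Matrix (Fin n) (Fin n) F :=
  Matrix.of fun i j => if (σ j : ℕ) = (σ i : ℕ) + 1 then 1 else 0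

theorem nil_pow (σ : Equiv.Perm (Fin n)) : ∀ (k : ℕ) (i j : Fin n), (σ j : ℕ) ≠ (σ i : ℕ) + k →
    ((nil σ : Matrix (Fin n) (Fin n) F) ^ k) i j = 0 := by
  intro k
  induction k with
  | zero =>
    intro i j h
    rw [pow_zero, one_apply, if_neg]
    rintro rfl
    exact h (by simp)
  | succ k ih =>
    intro i j h
    rw [pow_succ, mul_apply]
    refine Finset.sum_eq_zero fun l _ => ?_
    by_cases hl : (σ l : ℕ) = (σ i : ℕ) + k
    · rw [nil, Matrix.of_apply, if_neg (by omega), mul_zero]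
    · rw [ih i l hl, zero_mul]

theorem nil_pow_n (σ : Equiv.Perm (Fin n)) : (nil σ : Matrix (Fin n) (Fin n) F) ^ n = 0 := by
  ext i j
  exact nil_pow σ n i j (by have := (σ j).2; omega)

theorem nil_mulVec (σ : Equiv.Perm (Fin n)) (v : Fin n → F) (h : nil σ *ᵥ v = 0) (j : Fin n)
    (hj : (σ j : ℕ) ≠ 0) : v j = 0 := by
  have hlt : (σ j : ℕ) - 1 < n := by have := (σ j).2; omega
  have h1 := congrFun h (σ.symm ⟨(σ j : ℕ) - 1, hlt⟩)
  rw [Pi.zero_apply, mulVec, dotProduct, Finset.sum_eq_single j] at h1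
  · simpa [nil, show (σ j : ℕ) - 1 + 1 = (σ j : ℕ) by omega] using h1
  · intro l _ hl
    rw [nil, Matrix.of_apply, if_neg, zero_mul]
    intro e
    rw [Equiv.apply_symm_apply] at e
    exact hl (σ.injective (Fin.ext (by simp only at e; omega)))
  · intro h'
    exact absurd (Finset.mem_univ j) h'

theorem nil_vecMul (σ : Equiv.Perm (Fin n)) (v : Fin n → F) (h : v ᵥ* nil σ = 0) (i : Fin n)
    (hi : (σ i : ℕ) + 1 < n) : v i = 0 := by
  have h1 := congrFun h (σ.symm ⟨(σ i : ℕ) + 1, hi⟩)
  rw [Pi.zero_apply, vecMul, dotProduct, Finset.sum_eq_single i] at h1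
  · simpa [nil] using h1
  · intro l _ hl
    rw [nil, Matrix.of_apply, if_neg, mul_zero]
    intro e
    rw [Equiv.apply_symm_apply] at e
    exact hl (σ.injective (Fin.ext (by simp only at e; omega)))
  · intro h'
    exact absurd (Finset.mem_univ i) h'

theorem false_of_three_le (hn : 3 ≤ n) (G : Subgroup (GLn ⧸ Subgroup.center GLn))
    (hG : ((Matrix.SpecialLinearGroup.toGL :
      Matrix.SpecialLinearGroup (Fin n) F →* GLn).range).map πn ≤ G)
    {𝓐 : Finset (Subgroup G)} (h : NilpotentCover.NilCover 𝓐) : False := by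
  classical
  obtain ⟨p, hchar⟩ := CharP.exists F
  haveI := hchar
  haveI : Fact p.Prime := ⟨CharP.char_is_prime F p⟩
  let J : Equiv.Perm (Fin n) → Matrix.SpecialLinearGroup (Fin n) F := fun σ =>
    ⟨1 + nil σ, (det_one_add p (nil_pow_n σ)).2⟩
  have hJp : ∀ σ, Matrix.SpecialLinearGroup.toGL (J σ) ^ p ^ n = 1 := fun σ => by
    refine Units.ext ?_
    rw [Units.val_pow_eq_pow_val, Units.val_one]
    exact (det_one_add p (nil_pow_n σ)).1
  set i0 : Fin n := ⟨0, by omega⟩
  set i1 : Fin n := ⟨1, by omega⟩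
  set il : Fin n := ⟨n - 1, by omega⟩
  set e0 : Fin n → F := Pi.single i0 1
  have he0 : e0 ≠ 0 := by
    intro e
    have := congrFun e i0
    simp [e0] at this
  have hfix : ∀ σ : Equiv.Perm (Fin n), σ i0 = i0 → ∀ x,
      (Matrix.SpecialLinearGroup.toGL (J σ) : Matrix (Fin n) (Fin n) F) *ᵥ x = x →
        ∃ a : F, x = a • e0 := by
    intro σ hσ x hx
    change (1 + nil σ) *ᵥ x = x at hx
    rw [add_mulVec, one_mulVec, add_eq_left] at hx
    refine ⟨x i0, funext fun j => ?_⟩
    by_cases hj : j = i0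
    · simp [hj, e0]
    · rw [nil_mulVec σ x hx j fun e => hj (σ.injective (by rw [hσ]; exact Fin.ext e))]
      simp [e0, hj]
  set τ : Equiv.Perm (Fin n) := Equiv.swap i1 il
  have hτ : τ i0 = i0 := Equiv.swap_apply_of_ne_of_ne
    (by simp [i0, i1, Fin.ext_iff]) (by simp [i0, il, Fin.ext_iff]; omega)
  obtain ⟨A, hA, hxA⟩ := exists_member hG h (J 1)
  obtain ⟨B, hB, hyB⟩ := exists_member hG h (J τ)
  obtain ⟨hA1, R, hR, hRm⟩ := member_le_line p (by omega) (pre_nilpotent G (h.2.2 A hA)) hxA (hJp 1)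
    (hfix 1 rfl)
  obtain ⟨hB1, -⟩ := member_le_line p (by omega) (pre_nilpotent G (h.2.2 B hB)) hyB (hJp τ) (hfix τ hτ)
  have hAB : A = B := NilpotentCover.eq_of_le_common h hA hB (down_line_ne_top hG (by omega) he0)
    (le_down (center_le_line he0) hA1) (le_down (center_le_line he0) hB1)
  subst hAB
  obtain ⟨w, hw0, hw⟩ := exists_fixed_covec p (by omega) hR
  have h1 := hw _ (hRm _ hxA n (hJp 1))
  have h2 := hw _ (hRm _ hyB n (hJp τ))
  change w ᵥ* (1 + nil 1) = w at h1
  change w ᵥ* (1 + nil τ) = w at h2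
  rw [vecMul_add, vecMul_one, add_eq_left] at h1 h2
  refine hw0 (funext fun i => ?_)
  by_cases hi : (i : ℕ) + 1 < n
  · exact nil_vecMul 1 w h1 i hi
  · have hil : i = il := Fin.ext (by have := i.2; simp [il]; omega)
    refine nil_vecMul τ w h2 i ?_
    rw [hil, Equiv.swap_apply_right]
    simp [i1]; omega

end ge_three


section two

/-- A matrix without eigenvector. -/
def NoEig (M : Matrix (Fin 2) (Fin 2) F) : Prop := ∀ v, v ≠ 0 → ∀ a : F, M *ᵥ v ≠ a • v

theorem mulVec_zero' (M : Matrix (Fin 2) (Fin 2) F) (v : Fin 2 → F) :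
    (M *ᵥ v) 0 = M 0 0 * v 0 + M 0 1 * v 1 := by
  simp [mulVec, dotProduct, Fin.sum_univ_two]

theorem mulVec_one' (M : Matrix (Fin 2) (Fin 2) F) (v : Fin 2 → F) :
    (M *ᵥ v) 1 = M 1 0 * v 0 + M 1 1 * v 1 := by
  simp [mulVec, dotProduct, Fin.sum_univ_two]

theorem exists_smul_of_cross {v w : Fin 2 → F} (hv : v ≠ 0) (h : v 0 * w 1 = v 1 * w 0) :
    ∃ a : F, w = a • v := by
  by_cases h0 : v 0 = 0
  · have h1 : v 1 ≠ 0 := fun h1 => hv (funext fun i => by fin_cases i <;> assumption)
    refine ⟨w 1 / v 1, funext fun i => ?_⟩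
    fin_cases i
    · rw [h0, zero_mul, eq_comm, mul_eq_zero] at h
      simp [h0, h.resolve_left h1]
    · simp [h1]
  · refine ⟨w 0 / v 0, funext fun i => ?_⟩
    fin_cases i
    · simp [h0]
    · simp only [Fin.mk_one, Pi.smul_apply, smul_eq_mul]
      field_simp
      linear_combination h

/-- The commutant of a nonscalar matrix. -/
theorem exists_eq_of_commute {h M : Matrix (Fin 2) (Fin 2) F} (hh : ∀ a : F, h ≠ a • 1)
    (hc : M * h = h * M) : ∃ α β : F, M = α • 1 + β • h := by
  obtain ⟨v, hv⟩ : ∃ v : Fin 2 → F, v 0 * (h *ᵥ v) 1 ≠ v 1 * (h *ᵥ v) 0 := by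
    by_contra hno
    push Not at hno
    have a := hno ![1, 0]
    have b := hno ![0, 1]
    have c := hno ![1, 1]
    simp [mulVec_zero', mulVec_one'] at a b c
    refine hh (h 0 0) ?_
    ext i j
    fin_cases i <;> fin_cases j <;> simp
    · exact b.symm
    · exact a
    · linear_combination c - a - b
  have hD : v 0 * (h *ᵥ v) 1 - v 1 * (h *ᵥ v) 0 ≠ 0 := sub_ne_zero.2 hv
  set w := h *ᵥ v with hw
  set D := v 0 * w 1 - v 1 * w 0 with hDdef
  set u := M *ᵥ v with hu
  set α := (u 0 * w 1 - u 1 * w 0) / D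
  set β := (v 0 * u 1 - v 1 * u 0) / D
  refine ⟨α, β, ?_⟩
  set M' := M - (α • 1 + β • h) with hM'
  have hc' : M' * h = h * M' := by
    simp [hM', sub_mul, mul_sub, add_mul, mul_add, hc]
  have h1 : M' *ᵥ v = 0 := by
    rw [hM', sub_mulVec, add_mulVec, smul_mulVec, smul_mulVec, one_mulVec, ← hw, ← hu]
    have hα : α * (v 0 * w 1 - v 1 * w 0) = u 0 * w 1 - u 1 * w 0 := div_mul_cancel₀ _ hD
    have hβ : β * (v 0 * w 1 - v 1 * w 0) = v 0 * u 1 - v 1 * u 0 := div_mul_cancel₀ _ hD
    funext i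
    refine mul_right_cancel₀ (b := v 0 * w 1 - v 1 * w 0) hD ?_
    simp only [Pi.sub_apply, Pi.add_apply, Pi.smul_apply, smul_eq_mul, Pi.zero_apply]
    fin_cases i <;> simp only [Fin.zero_eta, Fin.mk_one]
    · linear_combination -(v 0) * hα - w 0 * hβ
    · linear_combination -(v 1) * hα - w 1 * hβ
  have h2 : M' *ᵥ w = 0 := by rw [hw, mulVec_mulVec, hc', ← mulVec_mulVec, h1, mulVec_zero]
  have a0 := congrFun h1 0
  have a1 := congrFun h1 1
  have b0 := congrFun h2 0
  have b1 := congrFun h2 1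
  rw [mulVec_zero'] at a0 b0
  rw [mulVec_one'] at a1 b1
  simp only [Pi.zero_apply] at a0 a1 b0 b1
  have k : ∀ x y : F, x * v 0 + y * v 1 = 0 → x * w 0 + y * w 1 = 0 → x = 0 ∧ y = 0 := by
    intro x y e1 e2
    refine ⟨?_, ?_⟩ <;> refine mul_right_cancel₀ hD ?_
    · linear_combination w 1 * e1 - v 1 * e2
    · linear_combination v 0 * e2 - w 0 * e1
  refine sub_eq_zero.1 (?_ : M' = 0)
  ext i j
  fin_cases i <;> fin_cases j
  · exact (k _ _ a0 b0).1
  · exact (k _ _ a0 b0).2
  · exact (k _ _ a1 b1).1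
  · exact (k _ _ a1 b1).2

theorem smul_one_add_eq_zero {e : Matrix (Fin 2) (Fin 2) F} (he : ∀ a : F, e ≠ a • 1) {u w : F}
    (h : u • 1 + w • e = 0) : u = 0 ∧ w = 0 := by
  by_cases hw : w = 0
  · subst hw
    have := congrFun (congrFun h 0) 0
    simp at this
    exact ⟨this, rfl⟩
  · refine absurd ?_ (he (-u / w))
    have := congrArg (fun X => w⁻¹ • X) (eq_neg_of_add_eq_zero_right h)
    simp only [smul_smul, inv_mul_cancel₀ hw, one_smul, smul_neg] at this
    rw [this, neg_div, div_eq_inv_mul, neg_smul]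

theorem cayley (M : Matrix (Fin 2) (Fin 2) F) (h : M.det = 1) :
    M * M - M.trace • M + 1 = 0 := by
  rw [Matrix.det_fin_two] at h
  ext i j
  fin_cases i <;> fin_cases j <;> simp [Matrix.mul_apply, Fin.sum_univ_two, Matrix.trace_fin_two] <;>
    linear_combination (norm := ring_nf) 0 * h
  all_goals linear_combination (norm := ring_nf) -h

/-- An element of a nilpotent group inverting an element of odd order kills it. -/
theorem eq_one_of_inverts {X : Type*} [Group X] {P : Subgroup X} (hP : Group.IsNilpotent P) {a e : X}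
    (ha : a ∈ P) (he : e ∈ P) {m : ℕ} (hm : Odd m) (hem : e ^ m = 1) (h : a * e = e⁻¹ * a) :
    e = 1 := by
  obtain ⟨k, hk⟩ := (Subgroup.isNilpotent_iff_lowerCentralSeries _).1 hP
  have key : ∀ i : ℕ, e ^ 2 ^ i ∈ P.lowerCentralSeries i := by
    intro i
    induction i with
    | zero => simpa using he
    | succ i ih =>
      have h1 : SemiconjBy a (e ^ 2 ^ i) (e⁻¹ ^ 2 ^ i) := SemiconjBy.pow_right h _
      have h2 : ⁅e ^ 2 ^ i, a⁆ ∈ P.lowerCentralSeries (i + 1) := by
        rw [Subgroup.lowerCentralSeries_succ]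
        exact Subgroup.commutator_mem_commutator ih ha
      have h3 : a * (e ^ 2 ^ i)⁻¹ = e ^ 2 ^ i * a := by
        have := h1.inv_right.eq
        rwa [inv_pow, inv_inv] at this
      rw [commutatorElement_def, mul_assoc (e ^ 2 ^ i), h3, ← mul_assoc, mul_inv_cancel_right,
        ← pow_add, ← two_mul, ← pow_succ'] at h2
      exact h2
  have h4 : orderOf e ∣ 2 ^ k := orderOf_dvd_of_pow_eq_one (by simpa [hk] using key k)
  have h5 : Nat.Coprime (orderOf e) (2 ^ k) :=
    ((Nat.coprime_two_right.2 hm).pow_right k).coprime_dvd_left (orderOf_dvd_of_pow_eq_one hem)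
  exact orderOf_eq_one_iff.1 (h5.eq_one_of_dvd h4)

variable {G : Subgroup (GL (Fin 2) F ⧸ Subgroup.center (GL (Fin 2) F))}

/-- An element of odd order with distinct eigenvalues is central in a nilpotent member. -/
theorem member_comm {A : Subgroup G} (hA : Group.IsNilpotent A) {e : GL (Fin 2) F}
    (he : e ∈ pre G A) {r : ℕ} (hr : Odd r) (her : e ^ r = 1)
    (hdet : (e : Matrix (Fin 2) (Fin 2) F).det = 1)
    (ht : (e : Matrix (Fin 2) (Fin 2) F).trace ^ 2 ≠ 4) :
    pre G A ≤ Subgroup.centralizer {e} := by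
  set E : Matrix (Fin 2) (Fin 2) F := (e : Matrix (Fin 2) (Fin 2) F) with hE
  have hns : ∀ a : F, E ≠ a • 1 := by
    intro a ha
    rw [ha] at hdet ht
    simp [Matrix.det_fin_two, Matrix.trace_fin_two] at hdet ht
    rcases hdet with rfl | rfl <;> exact ht (by ring)
  haveI := hA
  obtain ⟨x, hxA, hx⟩ := he
  have hx1 : x ≠ 1 := by
    rintro rfl
    obtain ⟨a, ha⟩ := center_scalar ((QuotientGroup.eq_one_iff e).1 hx.symm)
    exact hns a (by rw [hE, ha, Matrix.scalar_apply, Matrix.smul_one_eq_diagonal])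
  haveI : Nontrivial A := ⟨⟨⟨x, hxA⟩, 1, fun h => hx1 (congrArg Subtype.val h)⟩⟩
  obtain ⟨z, hz, hz1⟩ := (Subgroup.ne_bot_iff_exists_ne_one.1
    (Group.IsNilpotent.center_ne_bot (G := A))) |> fun ⟨⟨z, hz⟩, h1⟩ =>
      (⟨z, hz, fun h => h1 (Subtype.ext h)⟩ : ∃ z, z ∈ Subgroup.center A ∧ z ≠ 1)
  obtain ⟨zh, hzh⟩ := QuotientGroup.mk'_surjective (Subgroup.center (GL (Fin 2) F))
    ((z : G) : GL (Fin 2) F ⧸ Subgroup.center (GL (Fin 2) F))
  set Z : Matrix (Fin 2) (Fin 2) F := (zh : Matrix (Fin 2) (Fin 2) F) with hZ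
  have comm : ∀ a ∈ pre G A, ∃ c : F, (a : Matrix (Fin 2) (Fin 2) F) * Z = c • (Z * (a : Matrix (Fin 2) (Fin 2) F)) := by
    rintro a ⟨y, hy, hy'⟩
    have h1 := Subgroup.mem_center_iff.1 hz ⟨y, hy⟩
    have h2 : y.1 * (z : G).1 = (z : G).1 * y.1 := congrArg (fun t : A => (t : G).1) h1
    rw [← hzh, show y.1 = _ from hy'] at h2
    have h2' : QuotientGroup.mk' (Subgroup.center (GL (Fin 2) F)) ((zh * a)⁻¹ * (a * zh)) = 1 := by
      rw [map_mul, map_inv, map_mul, map_mul]
      exact inv_mul_eq_one.2 h2.symm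
    obtain ⟨c, hc⟩ := center_scalar ((QuotientGroup.eq_one_iff _).1 h2')
    refine ⟨c, ?_⟩
    have h3 : a * zh = zh * a * ((zh * a)⁻¹ * (a * zh)) := by group
    have h4 := congrArg Units.val h3
    rw [Units.val_mul (zh * a), hc, Matrix.scalar_apply, ← Matrix.smul_one_eq_diagonal, Matrix.mul_smul,
      mul_one, Units.val_mul, Units.val_mul] at h4
    exact h4
  have hdZ : Z.det ≠ 0 := by
    rw [hZ, ← Matrix.GeneralLinearGroup.val_det_apply]
    exact Units.ne_zero _
  obtain ⟨c, hc⟩ := comm e ⟨x, hxA, hx⟩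
  have hpow : ∀ k : ℕ, E ^ k * Z = c ^ k • (Z * E ^ k) := by
    intro k
    induction k with
    | zero => simp
    | succ k ih =>
      rw [pow_succ', mul_assoc, ih, Matrix.mul_smul, ← mul_assoc, hE, hc, Matrix.smul_mul, mul_assoc,
        smul_smul, pow_succ]
  have hc2 : c ^ 2 = 1 := by
    have := congrArg Matrix.det hc
    rw [Matrix.det_mul, Matrix.det_smul, Matrix.det_mul, hdet, Fintype.card_fin, one_mul, mul_one] at this
    exact mul_right_cancel₀ hdZ (by rw [← this, one_mul])
  have hcr : c ^ r = 1 := by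
    have := hpow r
    rw [hE, ← Units.val_pow_eq_pow_val, her, Units.val_one, one_mul, mul_one] at this
    have h' : (1 - c ^ r) • Z = 0 := by rw [sub_smul, one_smul, ← this, sub_self]
    rcases smul_eq_zero.1 h' with h'' | h''
    · exact (sub_eq_zero.1 h'').symm
    · exact absurd (by rw [h'', Matrix.det_zero]) hdZ
  have hc1 : c = 1 := by
    obtain ⟨l, rfl⟩ := hr
    rwa [pow_succ, pow_mul, hc2, one_pow, one_mul] at hcr
  rw [hc1, one_smul] at hc
  obtain ⟨α, β, hab⟩ := exists_eq_of_commute hns hc.symm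
  have hβ : β ≠ 0 := by
    rintro rfl
    refine hz1 (Subtype.ext (Subtype.ext ?_))
    rw [← hzh]
    refine (QuotientGroup.eq_one_iff zh).2 (Matrix.GeneralLinearGroup.mem_center_iff_val_mem_range_scalar.2 ⟨α, ?_⟩)
    rw [← hZ, hab, zero_smul, add_zero, Matrix.scalar_apply, Matrix.smul_one_eq_diagonal]
  intro a ha
  obtain ⟨d, hd⟩ := comm a ha
  set M : Matrix (Fin 2) (Fin 2) F := (a : Matrix (Fin 2) (Fin 2) F) with hM
  set γ := (d * α - α) / β with hγ
  have hX : M * E = (γ • 1 + d • E) * M := by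
    rw [hab, mul_add, add_mul, smul_add, Matrix.mul_smul, Matrix.mul_smul, Matrix.smul_mul,
      Matrix.smul_mul, mul_one, one_mul] at hd
    have h2 : β • (M * E) = β • ((γ • 1 + d • E) * M) := by
      rw [add_mul, Matrix.smul_mul, Matrix.smul_mul, one_mul, smul_add, smul_smul, smul_smul, hγ,
        mul_div_cancel₀ _ hβ, sub_smul]
      rw [eq_comm, ← sub_eq_zero] at hd ⊢
      rw [← hd]
      module
    exact smul_right_injective _ hβ h2
  set X := γ • (1 : Matrix (Fin 2) (Fin 2) F) + d • E with hXdef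
  set t := E.trace
  have hXq : (X * X - t • X + 1) * M = 0 := by
    have h0 : M * (E * E - t • E + 1) = 0 := by rw [cayley E hdet, mul_zero]
    rw [mul_add, mul_sub, Matrix.mul_smul, ← mul_assoc, hX, mul_assoc, hX, ← mul_assoc, mul_one] at h0
    rw [add_mul, sub_mul, Matrix.smul_mul, one_mul]
    exact h0
  have hXq' : X * X - t • X + 1 = 0 := by
    have := congrArg (fun Y => Y * ((a⁻¹ : GL (Fin 2) F) : Matrix (Fin 2) (Fin 2) F)) hXq
    simpa [hM, mul_assoc, ← Units.val_mul] using this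
  have heq : (γ * γ - t * γ + 1 - d * d) • (1 : Matrix (Fin 2) (Fin 2) F) +
      (2 * γ * d + d * d * t - t * d) • E = 0 := by
    have hEE : E * E = t • E - 1 := by
      rw [← sub_eq_zero, ← cayley E hdet]
      abel
    rw [← hXq', hXdef]
    simp only [mul_add, add_mul, Matrix.smul_mul, Matrix.mul_smul, one_mul, mul_one, hEE, smul_add,
      smul_sub, smul_smul]
    module
  obtain ⟨e1, e2⟩ := smul_one_add_eq_zero hns heq
  have hd0 : d ≠ 0 := by
    rintro rfl
    rw [zero_smul] at hd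
    have := congrArg Matrix.det hd
    rw [Matrix.det_mul, Matrix.det_zero] at this
    rcases mul_eq_zero.1 this with h | h
    · exact Units.ne_zero (Matrix.GeneralLinearGroup.det a) h
    · exact hdZ h
  have e3 : 2 * γ + d * t - t = 0 := mul_left_cancel₀ hd0 (by linear_combination e2)
  have hd2 : (d - 1) * (d + 1) = 0 := by
    refine (mul_eq_zero.1 (show (t ^ 2 - 4) * ((d - 1) * (d + 1)) = 0 by
      linear_combination 4 * e1 - (2 * γ - d * t - t) * e3)).resolve_left (sub_ne_zero.2 ht)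
  have hg : γ * (γ - t) = 0 := by linear_combination e1 + hd2
  have hcases : X = E ∨ X = t • 1 - E := by
    rw [hXdef]
    rcases mul_eq_zero.1 hg with h | h
    · rcases mul_eq_zero.1 hd2 with h' | h'
      · left; rw [h, sub_eq_zero.1 h']; simp
      · have h2t : t = -t := by linear_combination (2 : F) * h + t * h' - e3
        rcases eq_or_ne (t : F) 0 with h0 | h0
        · right; rw [h, h0, eq_neg_of_add_eq_zero_left h']; simp
        · left
          have : (1 : F) = -1 := mul_left_cancel₀ h0 (by rw [mul_one, mul_neg, mul_one]; exact h2t)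
          rw [h, eq_neg_of_add_eq_zero_left h', ← this]; simp
    · rcases mul_eq_zero.1 hd2 with h' | h'
      · have h2t : t = -t := by linear_combination e3 - (2 : F) * h - t * h'
        rcases eq_or_ne (t : F) 0 with h0 | h0
        · left; rw [sub_eq_zero.1 h, h0, sub_eq_zero.1 h']; simp
        · right
          have : (1 : F) = -1 := mul_left_cancel₀ h0 (by rw [mul_one, mul_neg, mul_one]; exact h2t)
          rw [sub_eq_zero.1 h, sub_eq_zero.1 h', sub_eq_add_neg, ← neg_one_smul F E, ← this]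
      · right; rw [sub_eq_zero.1 h, eq_neg_of_add_eq_zero_left h', neg_one_smul, sub_eq_add_neg]
  rw [Subgroup.mem_centralizer_singleton_iff]
  rcases hcases with h | h
  · rw [h] at hX
    exact Units.ext hX
  · have hinv : a * e = e⁻¹ * a := by
      have h1 : E * X = 1 := by
        rw [h, mul_sub, Matrix.mul_smul, mul_one, ← sub_eq_zero, ← neg_eq_zero, ← cayley E hdet]
        abel
      refine (eq_inv_mul_iff_mul_eq).2 (Units.ext ?_)
      rw [Units.val_mul, Units.val_mul, ← hE, ← hM, hX, ← mul_assoc, h1, one_mul]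
    have := eq_one_of_inverts (pre_nilpotent G hA) ha ⟨x, hxA, hx⟩ hr her hinv
    exact absurd (by rw [hE, this, Units.val_one, one_smul]) (hns 1)

/-- The transvection with fixed vector `v`. -/
def tv (v : Fin 2 → F) : Matrix (Fin 2) (Fin 2) F :=
  !![-(v 0 * v 1), v 0 * v 0; -(v 1 * v 1), v 0 * v 1]

theorem tv_sq (v : Fin 2 → F) : tv v ^ 2 = 0 := by
  rw [pow_two]
  ext i j
  fin_cases i <;> fin_cases j <;> simp [tv, Matrix.mul_apply, Fin.sum_univ_two] <;> ring

theorem tv_mulVec (v x : Fin 2 → F) : tv v *ᵥ x = (v 0 * x 1 - v 1 * x 0) • v := by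
  funext i
  fin_cases i <;> simp [tv, mulVec_zero', mulVec_one'] <;> ring

theorem tv_fix {v x : Fin 2 → F} (hv : v ≠ 0) (h : tv v *ᵥ x = 0) : ∃ a : F, x = a • v := by
  rw [tv_mulVec, smul_eq_zero] at h
  exact exists_smul_of_cross hv (sub_eq_zero.1 (h.resolve_right hv))

theorem eig_of_commute {v : Fin 2 → F} (hv : v ≠ 0) {M : Matrix (Fin 2) (Fin 2) F}
    (h : M * (1 + tv v) = (1 + tv v) * M) : ∃ a : F, M *ᵥ v = a • v := by
  refine tv_fix hv ?_
  have h' : M * tv v = tv v * M := by simpa [mul_add, add_mul] using h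
  rw [mulVec_mulVec, ← h', ← mulVec_mulVec, tv_mulVec, mul_comm (v 0), sub_self, zero_smul,
    mulVec_zero]

theorem eig_tv {v w : Fin 2 → F} (hv : v ≠ 0) (hw : w ≠ 0) {a : F} (h : (1 + tv v) *ᵥ w = a • w) :
    ∃ b : F, b ≠ 0 ∧ w = b • v := by
  rw [add_mulVec, one_mulVec, tv_mulVec] at h
  suffices v 0 * w 1 - v 1 * w 0 = 0 by
    obtain ⟨b, hb⟩ := exists_smul_of_cross hv (sub_eq_zero.1 this)
    exact ⟨b, fun h0 => hw (by rw [hb, h0, zero_smul]), hb⟩
  by_contra hD
  have h0 := congrFun h 0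
  have h1 := congrFun h 1
  simp only [Pi.add_apply, Pi.smul_apply, smul_eq_mul] at h0 h1
  have : (v 0 * w 1 - v 1 * w 0) * (v 0 * w 1 - v 1 * w 0) = 0 := by
    linear_combination w 1 * h0 - w 0 * h1
  exact hD (mul_self_eq_zero.1 this)

theorem noEig_trace {e : Matrix (Fin 2) (Fin 2) F} (hdet : e.det = 1) (hno : NoEig e) :
    e.trace ^ 2 ≠ 4 := by
  intro h
  obtain ⟨c, hc, hc2⟩ : ∃ c : F, 2 * c = e.trace ∧ c * c = 1 := by
    by_cases h2 : (2 : F) = 0
    · have ht : e.trace = 0 :=
        pow_eq_zero_iff (two_ne_zero) |>.1 (h.trans (by linear_combination (2 : F) * h2))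
      exact ⟨1, by rw [ht, mul_one, h2], one_mul 1⟩
    · refine ⟨e.trace / 2, by field_simp, ?_⟩
      field_simp
      linear_combination h
  have hz : (e - c • 1).det = 0 := by
    rw [Matrix.det_fin_two] at hdet ⊢
    rw [Matrix.trace_fin_two] at hc
    simp
    linear_combination hdet + c * hc - hc2
  obtain ⟨v, hv, hev⟩ := Matrix.exists_mulVec_eq_zero_iff.2 hz
  rw [sub_mulVec, smul_mulVec, one_mulVec, sub_eq_zero] at hev
  exact hno v hv c hev

/-- A transvection as an element of the special linear group. -/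
def tvS (p : ℕ) [Fact p.Prime] [CharP F p] (v : Fin 2 → F) : Matrix.SpecialLinearGroup (Fin 2) F :=
  ⟨1 + tv v, (det_one_add p (tv_sq v)).2⟩

theorem tvS_member (p : ℕ) [Fact p.Prime] [CharP F p] {𝓐 : Finset (Subgroup G)}
    (hG : ((Matrix.SpecialLinearGroup.toGL : Matrix.SpecialLinearGroup (Fin 2) F →*
      GL (Fin 2) F).range).map (QuotientGroup.mk' (Subgroup.center (GL (Fin 2) F))) ≤ G)
    (h : NilpotentCover.NilCover 𝓐) {v : Fin 2 → F} (hv : v ≠ 0) :
    ∃ A ∈ 𝓐, Matrix.SpecialLinearGroup.toGL (tvS p v) ∈ pre G A ∧ pre G A ≤ line v := by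
  obtain ⟨A, hA, hxA⟩ := exists_member hG h (tvS p v)
  refine ⟨A, hA, hxA, (member_le_line p one_le_two (pre_nilpotent G (h.2.2 A hA)) hxA (k := 2) ?_ ?_).1⟩
  · refine Units.ext ?_
    rw [Units.val_pow_eq_pow_val, Units.val_one]
    exact (det_one_add p (tv_sq v)).1
  · intro x hx
    change (1 + tv v) *ᵥ x = x at hx
    rw [add_mulVec, one_mulVec, add_eq_left] at hx
    exact tv_fix hv hx

theorem false_of_two (hq : 4 ≤ Fintype.card F)
    (hG : ((Matrix.SpecialLinearGroup.toGL : Matrix.SpecialLinearGroup (Fin 2) F →*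
      GL (Fin 2) F).range).map (QuotientGroup.mk' (Subgroup.center (GL (Fin 2) F))) ≤ G)
    {𝓐 : Finset (Subgroup G)} (h : NilpotentCover.NilCover 𝓐) : False := by
  classical
  obtain ⟨p, hchar⟩ := CharP.exists F
  haveI := hchar
  haveI hp : Fact p.Prime := ⟨CharP.char_is_prime F p⟩
  set q := Fintype.card F with hqdef
  have hunits : Fintype.card Fˣ = q - 1 := Fintype.card_units F
  set v0 : Fin 2 → F := ![1, 0] with hv0d
  have hv0 : v0 ≠ 0 := fun e => by simpa [v0] using congrFun e 0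
  by_cases hex : ∃ r : ℕ, r.Prime ∧ Odd r ∧ r ∣ q - 1
  · -- a split torus element
    obtain ⟨r, hr, hro, hrd⟩ := hex
    haveI := Fact.mk hr
    obtain ⟨c, hc⟩ := exists_prime_orderOf_dvd_card (G := Fˣ) r (hunits ▸ hrd)
    have hcc : (c : F) ≠ ((c⁻¹ : Fˣ) : F) := by
      intro e
      have h2 : c ^ 2 = 1 := by rw [pow_two]; exact eq_inv_iff_mul_eq_one.1 (Units.ext e)
      have hd := orderOf_dvd_of_pow_eq_one h2
      rw [hc] at hd
      obtain ⟨l, hl⟩ := hro
      have := Nat.le_of_dvd two_pos hd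
      have := hr.two_le
      omega
    let d : Matrix.SpecialLinearGroup (Fin 2) F :=
      ⟨!![(c : F), 0; 0, ((c⁻¹ : Fˣ) : F)], by simp [Matrix.det_fin_two]⟩
    obtain ⟨B, hB, hdB⟩ := exists_member hG h d
    have hcomm := member_comm (h.2.2 B hB) hdB hro (r := r) (by
      rw [← map_pow, ← map_one Matrix.SpecialLinearGroup.toGL]
      congr 1
      refine Subtype.ext ?_
      rw [Matrix.SpecialLinearGroup.coe_pow, Matrix.SpecialLinearGroup.coe_one]
      have hdiag : (!![(c : F), 0; 0, ((c⁻¹ : Fˣ) : F)]) = Matrix.diagonal ![(c : F), ((c⁻¹ : Fˣ) : F)] := by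
        ext i j; fin_cases i <;> fin_cases j <;> simp
      show (!![(c : F), 0; 0, ((c⁻¹ : Fˣ) : F)]) ^ r = 1
      rw [hdiag, Matrix.diagonal_pow, ← Matrix.diagonal_one]
      congr 1
      funext i
      have hc1 : c ^ r = 1 := hc ▸ pow_orderOf_eq_one c
      fin_cases i
      · simp [← Units.val_pow_eq_pow_val, hc1]
      · simp only [Fin.mk_one, Pi.pow_apply, Matrix.cons_val_one]
        rw [Matrix.cons_val_fin_one, ← Units.val_pow_eq_pow_val, inv_pow, hc1, inv_one, Units.val_one])
      d.2 (by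
        show Matrix.trace !![(c : F), 0; 0, ((c⁻¹ : Fˣ) : F)] ^ 2 ≠ 4
        rw [Matrix.trace_fin_two]
        intro e
        refine hcc (sub_eq_zero.1 (mul_self_eq_zero.1 ?_))
        have hm : (c : F) * ((c⁻¹ : Fˣ) : F) = 1 := Units.mul_inv c
        simp [-Units.val_inv_eq_inv_val] at e
        linear_combination e - 4 * hm)
    have hBl : pre G B ≤ line v0 := by
      intro a ha
      have h1 := congrArg Units.val (Subgroup.mem_centralizer_singleton_iff.1 (hcomm ha))
      change (a : Matrix (Fin 2) (Fin 2) F) * !![(c : F), 0; 0, ((c⁻¹ : Fˣ) : F)] =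
        !![(c : F), 0; 0, ((c⁻¹ : Fˣ) : F)] * (a : Matrix (Fin 2) (Fin 2) F) at h1
      have h2 := congrFun (congrFun h1 1) 0
      simp [Matrix.mul_apply, Fin.sum_univ_two] at h2
      have h10 : (a : Matrix (Fin 2) (Fin 2) F) 1 0 = 0 := by
        by_contra hne
        refine hcc (mul_left_cancel₀ hne ?_)
        rw [h2, mul_comm]
        simp
      refine ⟨(a : Matrix (Fin 2) (Fin 2) F) 0 0, fun h00 => ?_, ?_⟩
      · apply Units.ne_zero (Matrix.GeneralLinearGroup.det a)
        rw [Matrix.GeneralLinearGroup.val_det_apply, Matrix.det_fin_two, h00, h10]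
        ring
      · funext i
        fin_cases i <;> simp [v0, mulVec_zero', mulVec_one', h10]
    obtain ⟨A, hA, htA, hAl⟩ := tvS_member p hG h hv0
    obtain rfl := NilpotentCover.eq_of_le_common h hA hB (down_line_ne_top hG le_rfl hv0)
      (le_down (center_le_line hv0) hAl) (le_down (center_le_line hv0) hBl)
    have h1 := congrArg Units.val (Subgroup.mem_centralizer_singleton_iff.1 (hcomm htA))
    change (1 + tv v0) * !![(c : F), 0; 0, ((c⁻¹ : Fˣ) : F)] =
      !![(c : F), 0; 0, ((c⁻¹ : Fˣ) : F)] * (1 + tv v0) at h1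
    have h2 := congrFun (congrFun h1 0) 1
    simp [Matrix.mul_apply, Fin.sum_univ_two, tv, v0] at h2
    exact hcc (by simp [h2])
  -- `q ≡ 1 (mod 4)`
  obtain ⟨m, hmp, hm⟩ := FiniteField.card F p
  have hodd_prime : ∀ k : ℕ, 1 < k → Odd k → ∃ r : ℕ, r.Prime ∧ Odd r ∧ r ∣ k := fun k h1 h2 => by
    obtain ⟨r, hr, hrk⟩ := Nat.exists_prime_and_dvd (by omega : k ≠ 1)
    exact ⟨r, hr, h2.of_dvd_nat hrk, hrk⟩
  have hq4 : q % 4 = 1 := by
    by_contra hne
    apply hex
    rcases Nat.even_or_odd q with ⟨l, hl⟩ | ⟨l, hl⟩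
    · exact hodd_prime (q - 1) (by omega) ⟨l - 1, by omega⟩
    · have hl2 : l % 2 = 1 := by omega
      obtain ⟨r, hr, hro, hrd⟩ := hodd_prime l (by omega) (Nat.odd_iff.2 hl2)
      exact ⟨r, hr, hro, hrd.trans ⟨2, by omega⟩⟩
  obtain ⟨r, hr, hro, hrd⟩ := hodd_prime ((q + 1) / 2) (by omega) (Nat.odd_iff.2 (by omega))
  haveI := Fact.mk hr
  have hrq1 : r ∣ q + 1 := hrd.trans ⟨2, by omega⟩
  have hrcop : Nat.Coprime r (q - 1) := by
    refine (Nat.Prime.coprime_iff_not_dvd hr).2 fun hd => ?_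
    obtain ⟨l, hl⟩ := hro
    have h2 : r ∣ 2 := by
      have := Nat.dvd_sub hrq1 hd
      rwa [show q + 1 - (q - 1) = 2 by omega] at this
    have := Nat.le_of_dvd two_pos h2
    have := hr.two_le
    omega
  have hpodd : Odd p := by
    rcases hp.out.eq_two_or_odd' with rfl | h'
    · have : 2 ∣ q := by rw [hqdef, hm]; exact dvd_pow_self 2 m.pos.ne'
      omega
    · exact h'
  let I := {v : Fin 2 → F // v ≠ 0} ⊕
    {s : Matrix.SpecialLinearGroup (Fin 2) F // s ^ r = 1 ∧ NoEig (s : Matrix (Fin 2) (Fin 2) F)}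
  let K : I → Subgroup G := fun i => i.elim (fun v => down G (line v.1))
    (fun s => down G (Subgroup.centralizer {Matrix.SpecialLinearGroup.toGL s.1}))
  haveI : Finite I := inferInstance
  haveI : Fintype I := Fintype.ofFinite I
  let W : I → Matrix.SpecialLinearGroup (Fin 2) F := fun i => i.elim (fun v => tvS p v.1) (fun s => s.1)
  have hmem : ∀ i, ∃ A ∈ 𝓐, Matrix.SpecialLinearGroup.toGL (W i) ∈ pre G A ∧ A ≤ K i := by
    rintro (⟨v, hv⟩ | ⟨s, hs, hno⟩)
    · obtain ⟨A, hA, h1, h2⟩ := tvS_member p hG h hv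
      exact ⟨A, hA, h1, le_down (center_le_line hv) h2⟩
    · obtain ⟨A, hA, h1⟩ := exists_member hG h s
      refine ⟨A, hA, h1, le_down (center_le_centralizer _) (member_comm (h.2.2 A hA) h1 hro ?_ s.2
        (noEig_trace s.2 hno))⟩
      rw [← map_pow, hs, map_one]
  choose f hfA hfW hfK using hmem
  -- membership of the witnesses
  have hin : ∀ i j, f i = f j → Matrix.SpecialLinearGroup.toGL (W i) ∈ (match j with
      | .inl v => line v.1
      | .inr s => Subgroup.centralizer {Matrix.SpecialLinearGroup.toGL s.1}) := by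
    intro i j hij
    have h1 : Matrix.SpecialLinearGroup.toGL (W i) ∈ pre G (f j) := hij ▸ hfW i
    obtain ⟨g, hg, hge⟩ := h1
    rcases j with v | s
    · exact (mem_down (center_le_line v.2) hge.symm).1 (hfK _ hg)
    · exact (mem_down (center_le_centralizer _) hge.symm).1 (hfK _ hg)
  have hmix : ∀ v s, f (.inl v) ≠ f (.inr s) := by
    intro v s hij
    have h1 := congrArg Units.val (Subgroup.mem_centralizer_singleton_iff.1 (hin (.inl v) (.inr s) hij))
    obtain ⟨a, ha⟩ := eig_of_commute v.2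
      (M := (s.1 : Matrix (Fin 2) (Fin 2) F)) h1.symm
    exact s.2.2 v.1 v.2 a ha
  have hKf : ∀ i j, f i = f j → K i = K j := by
    rintro (v | s) (w | s') hij
    · obtain ⟨a, ha0, ha⟩ := hin (.inl v) (.inl w) hij
      obtain ⟨b, hb0, hb⟩ := eig_tv v.2 w.2 ha
      have : line v.1 = line w.1 := by
        ext g
        constructor <;> rintro ⟨x, hx0, hx⟩ <;> refine ⟨x, hx0, ?_⟩
        · rw [hb, mulVec_smul, hx, smul_comm]
        · rw [hb, mulVec_smul, smul_comm] at hx
          exact smul_right_injective _ hb0 hx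
      simp only [K, Sum.elim_inl, this]
    · exact absurd hij (hmix v s')
    · exact absurd hij.symm (hmix w s)
    · have h1 := congrArg Units.val (Subgroup.mem_centralizer_singleton_iff.1 (hin (.inr s) (.inr s') hij))
      have ns : ∀ (t : {s : Matrix.SpecialLinearGroup (Fin 2) F // s ^ r = 1 ∧
          NoEig (s : Matrix (Fin 2) (Fin 2) F)}) (a : F), (t.1 : Matrix (Fin 2) (Fin 2) F) ≠ a • 1 := by
        intro t a e
        exact t.2.2 v0 hv0 a (by rw [e, smul_mulVec, one_mulVec])
      have key : ∀ t t' : {s : Matrix.SpecialLinearGroup (Fin 2) F // s ^ r = 1 ∧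
          NoEig (s : Matrix (Fin 2) (Fin 2) F)},
          (t.1 : Matrix (Fin 2) (Fin 2) F) * t'.1 = (t'.1 : Matrix (Fin 2) (Fin 2) F) * t.1 →
          Subgroup.centralizer {Matrix.SpecialLinearGroup.toGL t'.1} ≤
            Subgroup.centralizer {Matrix.SpecialLinearGroup.toGL t.1} := by
        intro t t' e g hg
        obtain ⟨α, β, hab⟩ := exists_eq_of_commute (ns t') e
        rw [Subgroup.mem_centralizer_singleton_iff] at hg ⊢
        refine Units.ext ?_
        have h2 := congrArg Units.val hg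
        change (g : Matrix (Fin 2) (Fin 2) F) * t'.1 = (t'.1 : Matrix (Fin 2) (Fin 2) F) * g at h2
        show (g : Matrix (Fin 2) (Fin 2) F) * t.1 = (t.1 : Matrix (Fin 2) (Fin 2) F) * g
        rw [hab]
        simp [mul_add, add_mul, h2]
      have e : (s.1 : Matrix (Fin 2) (Fin 2) F) * s'.1 = (s'.1 : Matrix (Fin 2) (Fin 2) F) * s.1 := by
        simpa [W] using h1
      simp only [K, Sum.elim_inr, le_antisymm (key s' s e.symm) (key s s' e)]
  -- the new cover
  let 𝓑 : Finset (Subgroup G) := Finset.univ.image K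
  have hcov : (∀ A ∈ 𝓑, A ≠ ⊤) ∧ ∀ g : G, ∃ A ∈ 𝓑, g ∈ A := by
    refine ⟨fun A hA => ?_, fun g => ?_⟩
    · obtain ⟨i, -, rfl⟩ := Finset.mem_image.1 hA
      rcases i with v | s
      · exact down_line_ne_top hG le_rfl v.2
      · intro htop
        have h1 : Matrix.SpecialLinearGroup.toGL (tvS p v0) ∈
            Subgroup.centralizer {Matrix.SpecialLinearGroup.toGL s.1} :=
          (mem_down (center_le_centralizer _)
            (g := (⟨_, hG (Subgroup.mem_map_of_mem _ ⟨tvS p v0, rfl⟩)⟩ : G)) rfl).1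
            (htop.ge (Subgroup.mem_top _))
        have h2 := congrArg Units.val (Subgroup.mem_centralizer_singleton_iff.1 h1)
        obtain ⟨a, ha⟩ := eig_of_commute hv0
          (M := (s.1 : Matrix (Fin 2) (Fin 2) F)) h2.symm
        exact s.2.2 v0 hv0 a ha
    · obtain ⟨k, hk⟩ := QuotientGroup.mk'_surjective _ (g : GL (Fin 2) F ⧸ Subgroup.center (GL (Fin 2) F))
      by_cases hk' : NoEig (k : Matrix (Fin 2) (Fin 2) F)
      · have hns : ∀ a : F, (k : Matrix (Fin 2) (Fin 2) F) ≠ a • 1 := fun a e =>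
          hk' v0 hv0 a (by rw [e, smul_mulVec, one_mulVec])
        have hinv : ∀ x : {x : F × F // x ≠ 0},
            (x.1.1 • (1 : Matrix (Fin 2) (Fin 2) F) + x.1.2 • (k : Matrix (Fin 2) (Fin 2) F)).det ≠ 0 := by
          rintro ⟨⟨α, β⟩, hne⟩ h0
          obtain ⟨v, hv, hv'⟩ := Matrix.exists_mulVec_eq_zero_iff.2 h0
          rw [add_mulVec, smul_mulVec, smul_mulVec, one_mulVec] at hv'
          by_cases hβ : β = 0
          · subst hβ
            simp only [zero_smul, add_zero, smul_eq_zero] at hv'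
            exact hne (by simp [hv'.resolve_right hv])
          · refine hk' v hv (-α / β) ?_
            rw [add_eq_zero_iff_eq_neg'] at hv'
            have := congrArg (fun y => β⁻¹ • y) hv'
            simp only [smul_smul, inv_mul_cancel₀ hβ, one_smul, smul_neg] at this
            rw [this, neg_div, div_eq_inv_mul, neg_smul]
        let C := Subgroup.centralizer ({k} : Set (GL (Fin 2) F))
        let φ : {x : F × F // x ≠ 0} → C := fun x =>
          ⟨Matrix.GeneralLinearGroup.mkOfDetNeZero _ (hinv x), by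
            rw [Subgroup.mem_centralizer_singleton_iff]
            exact Units.ext (by simp [Matrix.GeneralLinearGroup.mkOfDetNeZero, add_mul, mul_add])⟩
        have hφ : Function.Bijective φ := by
          constructor
          · rintro ⟨⟨a, b⟩, h₁⟩ ⟨⟨a', b'⟩, h₂⟩ e
            have e' : a • (1 : Matrix (Fin 2) (Fin 2) F) + b • (k : Matrix (Fin 2) (Fin 2) F) =
                a' • 1 + b' • (k : Matrix (Fin 2) (Fin 2) F) :=
              congrArg (fun y : C => ((y : GL (Fin 2) F) : Matrix (Fin 2) (Fin 2) F)) e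
            obtain ⟨h1, h2⟩ := smul_one_add_eq_zero hns (u := a - a') (w := b - b') (by
              rw [show (a - a') • (1 : Matrix (Fin 2) (Fin 2) F) + (b - b') • (k : Matrix (Fin 2) (Fin 2) F) =
                  (a • 1 + b • (k : Matrix (Fin 2) (Fin 2) F)) - (a' • 1 + b' • (k : Matrix (Fin 2) (Fin 2) F)) by
                module, e', sub_self])
            simp [sub_eq_zero.1 h1, sub_eq_zero.1 h2]
          · rintro ⟨y, hy⟩
            obtain ⟨α, β, hab⟩ := exists_eq_of_commute hns
              (congrArg Units.val (Subgroup.mem_centralizer_singleton_iff.1 hy))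
            refine ⟨⟨(α, β), fun e => ?_⟩, Subtype.ext (Units.ext hab.symm)⟩
            apply Units.ne_zero (Matrix.GeneralLinearGroup.det y)
            simp only [Prod.mk_eq_zero] at e
            rw [Matrix.GeneralLinearGroup.val_det_apply, hab, e.1, e.2]
            simp
        have hC : r ∣ Nat.card C := by
          rw [← Nat.card_eq_of_bijective φ hφ, Nat.card_eq_fintype_card, Fintype.card_subtype_compl,
            Fintype.card_prod, Fintype.card_subtype_eq, ← hqdef,
            show q * q - 1 = (q + 1) * (q - 1) from Nat.mul_self_sub_mul_self_eq q 1 ▸ rfl]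
          exact hrq1.mul_right _
        obtain ⟨⟨e, heC⟩, he⟩ := exists_prime_orderOf_dvd_card' (G := C) r hC
        rw [Subgroup.orderOf_mk] at he
        have her : e ^ r = 1 := he ▸ pow_orderOf_eq_one e
        have hunit : ∀ u : Fˣ, u ^ r = 1 → u = 1 := fun u hu => by
          have h1 : orderOf u ∣ Nat.gcd r (q - 1) :=
            Nat.dvd_gcd (orderOf_dvd_of_pow_eq_one hu) (hunits ▸ orderOf_dvd_card)
          rwa [hrcop, Nat.dvd_one, orderOf_eq_one_iff] at h1
        have hdet : (e : Matrix (Fin 2) (Fin 2) F).det = 1 := by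
          have h1 := hunit (Matrix.GeneralLinearGroup.det e) (by rw [← map_pow, her, map_one])
          rw [← Matrix.GeneralLinearGroup.val_det_apply, h1, Units.val_one]
        have hke := congrArg Units.val (Subgroup.mem_centralizer_singleton_iff.1 heC)
        simp only [Units.val_mul] at hke
        have hno : NoEig (e : Matrix (Fin 2) (Fin 2) F) := by
          intro v hv a hev
          obtain ⟨α, β, hab⟩ := exists_eq_of_commute hns hke
          have hb : β = 0 := by
            by_contra hβ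
            refine hk' v hv ((a - α) / β) ?_
            rw [hab, add_mulVec, smul_mulVec, smul_mulVec, one_mulVec] at hev
            have := congrArg (fun y => β⁻¹ • y) (eq_sub_of_add_eq' hev)
            simp only [smul_smul, inv_mul_cancel₀ hβ, one_smul, ← sub_smul] at this
            rw [this, div_eq_inv_mul]
          rw [hb, zero_smul, add_zero] at hab
          have hα : α ^ r = 1 := by
            have := congrArg Units.val her
            rw [Units.val_pow_eq_pow_val, hab, Units.val_one, smul_pow, one_pow] at this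
            simpa using congrFun (congrFun this 0) 0
          have hα1 : α = 1 := congrArg Units.val (hunit (Units.mk0 α fun h0 => by
            rw [h0, zero_pow hr.ne_zero] at hα; exact zero_ne_one hα) (Units.ext hα))
          rw [hα1, one_smul] at hab
          have : e = 1 := Units.ext hab
          rw [this, orderOf_one] at he
          exact hr.ne_one he.symm
        let s : Matrix.SpecialLinearGroup (Fin 2) F := ⟨(e : Matrix (Fin 2) (Fin 2) F), hdet⟩
        have hse : Matrix.SpecialLinearGroup.toGL s = e := Units.ext rfl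
        have hs : s ^ r = 1 := Subtype.ext (by
          rw [Matrix.SpecialLinearGroup.coe_pow, Matrix.SpecialLinearGroup.coe_one]
          show (e : Matrix (Fin 2) (Fin 2) F) ^ r = 1
          rw [← Units.val_pow_eq_pow_val, her, Units.val_one])
        refine ⟨K (.inr ⟨s, hs, hno⟩), Finset.mem_image_of_mem _ (Finset.mem_univ _), ?_⟩
        refine (mem_down (center_le_centralizer _) hk).2 ?_
        rw [hse, Subgroup.mem_centralizer_singleton_iff]
        exact Units.ext hke.symm
      · simp only [NoEig, ne_eq, not_forall, not_not] at hk'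
        obtain ⟨v, hv, a, ha⟩ := hk'
        refine ⟨K (.inl ⟨v, hv⟩), Finset.mem_image_of_mem _ (Finset.mem_univ _),
          (mem_down (center_le_line hv) hk).2 ⟨a, fun h0 => hv ?_, ha⟩⟩
        have := congrArg (fun y => ((k⁻¹ : GL (Fin 2) F) : Matrix (Fin 2) (Fin 2) F) *ᵥ y) ha
        rwa [h0, zero_smul, mulVec_zero, mulVec_mulVec, ← Units.val_mul, inv_mul_cancel, Units.val_one,
          one_mulVec] at this
  -- a member outside the image of `f`
  obtain ⟨i, hi⟩ : ∃ i : Fˣ, orderOf i = 4 := by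
    obtain ⟨u, hu⟩ := IsCyclic.exists_ofOrder_eq_natCard (α := Fˣ)
    rw [Nat.card_eq_fintype_card, hunits] at hu
    refine ⟨u ^ (orderOf u / 4), orderOf_pow_orderOf_div ?_ ?_⟩ <;> omega
  have hi2 : (i : F) * i = -1 := by
    have h4 : (i : F) ^ 4 = 1 := by
      rw [← Units.val_pow_eq_pow_val, ← hi, pow_orderOf_eq_one, Units.val_one]
    have h2 : (i : F) ^ 2 ≠ 1 := by
      rw [← Units.val_pow_eq_pow_val, ne_eq, Units.val_eq_one]
      exact pow_ne_one_of_lt_orderOf two_ne_zero (by omega)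
    have := mul_eq_zero.1 (show ((i : F) * i - 1) * ((i : F) * i + 1) = 0 by linear_combination h4)
    exact eq_neg_of_add_eq_zero_left (this.resolve_left fun e => h2 (by linear_combination e))
  have h20 : (2 : F) ≠ 0 := fun e => by
    have h2 : p ∣ 2 := (CharP.cast_eq_zero_iff F p 2).1 (by exact_mod_cast e)
    rw [(Nat.prime_dvd_prime_iff_eq hp.out Nat.prime_two).1 h2] at hpodd
    exact absurd hpodd (by decide)
  let d : Matrix.SpecialLinearGroup (Fin 2) F :=
    ⟨!![(i : F), 0; 0, -(i : F)], by rw [Matrix.det_fin_two]; simp [hi2]⟩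
  obtain ⟨D, hD, hdD⟩ := exists_member hG h d
  have hDf : ∀ j, f j ≠ D := by
    intro j hj
    have hdj : Matrix.SpecialLinearGroup.toGL d ∈ pre G (f j) := hj ▸ hdD
    obtain ⟨g, hg, hge⟩ := hdj
    rcases j with ⟨v, hv⟩ | ⟨s, hs, hno⟩
    · obtain ⟨a, ha0, ha⟩ := (mem_down (center_le_line hv) hge.symm).1 (hfK _ hg)
      have h0 := congrFun ha 0
      have h1 := congrFun ha 1
      change ((!![(i : F), 0; 0, -(i : F)]) *ᵥ v) 0 = _ at h0
      change ((!![(i : F), 0; 0, -(i : F)]) *ᵥ v) 1 = _ at h1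
      simp [mulVec_zero', mulVec_one'] at h0 h1
      have hv01 : v 0 * v 1 = 0 := by
        rcases h0 with h0 | h0
        · refine (mul_eq_zero.1 (show (2 * (i : F)) * (v 0 * v 1) = 0 by
            linear_combination (v 0 * v 1) * h0 - v 0 * h1)).resolve_left ?_
          exact mul_ne_zero h20 i.ne_zero
        · rw [h0, zero_mul]
      have hanti : (!![(i : F), 0; 0, -(i : F)]) * tv v = -(tv v * !![(i : F), 0; 0, -(i : F)]) := by
        ext x y
        fin_cases x <;> fin_cases y <;>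
          simp [tv, Matrix.mul_apply, Fin.sum_univ_two, hv01] <;> ring
      have htI : Matrix.SpecialLinearGroup.toGL (tvS p v) ∈ pre G D := hj ▸ hfW (.inl ⟨v, hv⟩)
      have hinv : Matrix.SpecialLinearGroup.toGL d * Matrix.SpecialLinearGroup.toGL (tvS p v) =
          (Matrix.SpecialLinearGroup.toGL (tvS p v))⁻¹ * Matrix.SpecialLinearGroup.toGL d := by
        refine eq_inv_mul_iff_mul_eq.2 (Units.ext ?_)
        show (1 + tv v) * ((!![(i : F), 0; 0, -(i : F)]) * (1 + tv v)) = !![(i : F), 0; 0, -(i : F)]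
        rw [mul_add, hanti, mul_one, mul_add, add_mul, add_mul, one_mul, one_mul, ← mul_neg, ← mul_assoc,
          mul_neg, mul_neg, ← pow_two, tv_sq, zero_mul]
        abel
      have hpw : Matrix.SpecialLinearGroup.toGL (tvS p v) ^ p ^ 2 = 1 := by
        refine Units.ext ?_
        rw [Units.val_pow_eq_pow_val, Units.val_one]
        exact (det_one_add p (tv_sq v)).1
      have ht1 := eq_one_of_inverts (pre_nilpotent G (h.2.2 D hD)) hdD htI hpodd.pow hpw hinv
      have h2 : (1 : Matrix (Fin 2) (Fin 2) F) + tv v = 1 := congrArg Units.val ht1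
      rw [add_eq_left] at h2
      have h01 := congrFun (congrFun h2 0) 1
      have h10 := congrFun (congrFun h2 1) 0
      simp [tv] at h01 h10
      exact hv (funext fun x => by fin_cases x <;> assumption)
    · have h1 := congrArg Units.val (Subgroup.mem_centralizer_singleton_iff.1
        ((mem_down (center_le_centralizer _) hge.symm).1 (hfK _ hg)))
      have h2 : (!![(i : F), 0; 0, -(i : F)]) * (s : Matrix (Fin 2) (Fin 2) F) =
          (s : Matrix (Fin 2) (Fin 2) F) * !![(i : F), 0; 0, -(i : F)] := h1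
      have h3 := congrFun (congrFun h2 1) 0
      simp [Matrix.mul_apply, Fin.sum_univ_two] at h3
      have h10 : (s : Matrix (Fin 2) (Fin 2) F) 1 0 = 0 := by
        refine (mul_eq_zero.1 (show (2 * (i : F)) * (s : Matrix (Fin 2) (Fin 2) F) 1 0 = 0 by
          linear_combination -h3)).resolve_left ?_
        exact mul_ne_zero h20 i.ne_zero
      refine hno v0 hv0 ((s : Matrix (Fin 2) (Fin 2) F) 0 0) ?_
      funext x
      fin_cases x <;> simp [v0, mulVec_zero', mulVec_one', h10]
  let g : Subgroup G → Subgroup G := fun A => if hA : ∃ i, f i = A then K hA.choose else ⊤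
  have hsub : 𝓑 ⊆ (Finset.univ.image f).image g := by
    intro B hB
    obtain ⟨j, -, rfl⟩ := Finset.mem_image.1 hB
    refine Finset.mem_image.2 ⟨f j, Finset.mem_image_of_mem _ (Finset.mem_univ _), ?_⟩
    have hA : ∃ i, f i = f j := ⟨j, rfl⟩
    simp only [g, dif_pos hA]
    exact hKf _ _ hA.choose_spec
  have h3 : (Finset.univ.image f) ⊂ 𝓐 := by
    refine (Finset.ssubset_iff_of_subset (fun A hA => ?_)).2 ⟨D, hD, fun hm' => ?_⟩
    · obtain ⟨j, -, rfl⟩ := Finset.mem_image.1 hA; exact hfA j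
    · obtain ⟨j, -, hj⟩ := Finset.mem_image.1 hm'; exact hDf j hj
  have := h.2.1 𝓑 hcov
  have := Finset.card_le_card hsub
  have := (Finset.card_image_le (s := Finset.univ.image f) (f := g))
  have := Finset.card_lt_card h3
  omega

end two

end Cfsg.Agent.Grp.NilpotentCoverPGL
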