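import Mathlib
import Cfsg.Agent.Lib.Transfer.TypeP

/-!
Permutation groups without nilpotent minimal covers.
-/

set_option autoImplicit false
set_option linter.unusedSectionVars false
set_option maxRecDepth 100000

open scoped Classical

namespace Cfsg.Agent.Grp.NilpotentCoverPerm

variable {G : Type*} [Group G] [Finite G]

/-- Counting the members meeting a set of elements. -/
theorem card_le_mul (𝓐 : Finset (Subgroup G)) (hcov : ∀ g : G, ∃ A ∈ 𝓐, g ∈ A) (T : Finset G) (m : ℕ)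
    (hm : ∀ A ∈ 𝓐, (T.filter (· ∈ A)).card ≤ m) :
    T.card ≤ (𝓐.filter fun A => ∃ t ∈ T, t ∈ A).card * m := by
  have hsub : T ⊆ (𝓐.filter fun A => ∃ t ∈ T, t ∈ A).biUnion fun A => T.filter (· ∈ A) := by
    intro t ht
    obtain ⟨A, hA, htA⟩ := hcov t
    exact Finset.mem_biUnion.2 ⟨A, Finset.mem_filter.2 ⟨hA, t, ht, htA⟩,
      Finset.mem_filter.2 ⟨ht, htA⟩⟩
  exact (Finset.card_le_card hsub).trans
    (Finset.card_biUnion_le_card_mul _ _ m fun A hA => hm A (Finset.mem_filter.1 hA).1)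

/-- In a nilpotent subgroup the `p`-elements lie in one normal Sylow subgroup. -/
theorem exists_pSubgroup {A : Subgroup G} (hA : Group.IsNilpotent A) (p : ℕ) [Fact p.Prime] :
    ∃ P : Subgroup G, P ≤ A ∧ IsPGroup p P ∧ (∀ x ∈ A, (∃ k, x ^ p ^ k = 1) → x ∈ P) ∧
      ∀ a ∈ A, ∀ x ∈ P, a * x * a⁻¹ ∈ P := by
  obtain ⟨P⟩ := (inferInstance : Nonempty (Sylow p A))
  haveI := hA
  haveI hn : (P : Subgroup A).Normal := inferInstance
  refine ⟨(P : Subgroup A).map A.subtype, Subgroup.map_subtype_le _, P.2.map _, fun x hx ⟨k, hk⟩ => ?_,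
    fun a ha x hx => ?_⟩
  · have hz : IsPGroup p (Subgroup.zpowers (⟨x, hx⟩ : A)) := by
      rintro ⟨y, i, rfl⟩
      refine ⟨k, Subtype.ext (Subtype.ext ?_)⟩
      show (x ^ i) ^ p ^ k = 1
      rw [← zpow_natCast, ← zpow_mul, mul_comm, zpow_mul, zpow_natCast, hk, one_zpow]
    haveI := P.unique_of_normal hn
    obtain ⟨Q, hQ⟩ := hz.exists_le_sylow
    exact ⟨⟨x, hx⟩, Subsingleton.elim Q P ▸ hQ (Subgroup.mem_zpowers _), rfl⟩
  · obtain ⟨x', hx', rfl⟩ := hx
    exact ⟨⟨a, ha⟩ * x' * ⟨a, ha⟩⁻¹, hn.conj_mem x' hx' _, rfl⟩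

theorem mem_zpowers_of_order {A : Subgroup G} (hA : Group.IsNilpotent A) {p : ℕ} [hp : Fact p.Prime]
    (hp2 : ¬ p ^ 2 ∣ Nat.card G) {x : G} (hx : orderOf x = p) (hxA : x ∈ A) :
    (∀ y ∈ A, orderOf y = p → y ∈ Subgroup.zpowers x) ∧
      ∀ a ∈ A, a * x * a⁻¹ ∈ Subgroup.zpowers x := by
  obtain ⟨P, hPA, hPp, hmem, hconj⟩ := exists_pSubgroup hA p
  have hxP : x ∈ P := hmem x hxA ⟨1, by rw [pow_one, ← hx, pow_orderOf_eq_one]⟩
  have hP : Subgroup.zpowers x = P := by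
    refine Subgroup.eq_of_le_of_card_ge (Subgroup.zpowers_le.2 hxP) ?_
    rw [Nat.card_zpowers, hx]
    obtain ⟨k, hk⟩ := hPp.exists_card_eq
    rw [hk]
    calc p ^ k ≤ p ^ 1 := Nat.pow_le_pow_right hp.out.pos (by
          by_contra hlt
          exact hp2 ((pow_dvd_pow p (by omega : 2 ≤ k)).trans (hk ▸ Subgroup.card_subgroup_dvd_card P)))
      _ = p := pow_one p
  rw [hP]
  exact ⟨fun y hy hyo => hmem y hy ⟨1, by rw [pow_one, ← hyo, pow_orderOf_eq_one]⟩,
    fun a ha => hconj a ha x hxP⟩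

theorem card_order_le {A : Subgroup G} (hA : Group.IsNilpotent A) {p : ℕ} [hp : Fact p.Prime]
    (hp2 : ¬ p ^ 2 ∣ Nat.card G) (T : Finset G) (hT : ∀ t ∈ T, orderOf t = p) :
    (T.filter (· ∈ A)).card ≤ p - 1 := by
  haveI := Fintype.ofFinite G
  rcases (T.filter (· ∈ A)).eq_empty_or_nonempty with h | ⟨x, hx⟩
  · simp [h]
  rw [Finset.mem_filter] at hx
  have hsub : T.filter (· ∈ A) ⊆ (Subgroup.zpowers x : Set G).toFinset.erase 1 := by
    intro y hy
    rw [Finset.mem_filter] at hy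
    refine Finset.mem_erase.2 ⟨fun e => ?_, Set.mem_toFinset.2
      ((mem_zpowers_of_order hA hp2 (hT x hx.1) hx.2).1 y hy.2 (hT y hy.1))⟩
    have := hT y hy.1
    rw [e, orderOf_one] at this
    exact hp.out.one_lt.ne this
  refine (Finset.card_le_card hsub).trans (le_of_eq ?_)
  rw [Finset.card_erase_of_mem (Set.mem_toFinset.2 (Subgroup.one_mem _)), Set.toFinset_card,
    ← Nat.card_eq_fintype_card]
  show Nat.card (Subgroup.zpowers x) - 1 = _
  rw [Nat.card_zpowers, hT x hx.1]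

/-- Elements with incompatible orders avoid the same nilpotent subgroup. -/
theorem not_both {A : Subgroup G} (hA : Group.IsNilpotent A) {x y : G} (hx : x ∈ A) (hy : y ∈ A)
    (hcop : (orderOf x).Coprime (orderOf y)) (hno : ∀ g : G, orderOf g ≠ orderOf x * orderOf y) :
    False :=
  hno _ ((show Commute x y from
    Transfer.TypeP.commute_of_coprime_orderOf hA hx hy hcop).orderOf_mul_eq_mul_orderOf_of_coprime hcop)

/-- The replacement argument. -/
theorem no_cover (𝓐 : Finset (Subgroup G))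
    (h : ((∀ A ∈ 𝓐, A ≠ ⊤) ∧ (∀ g : G, ∃ A ∈ 𝓐, g ∈ A)) ∧
      (∀ 𝓑 : Finset (Subgroup G), (∀ A ∈ 𝓑, A ≠ ⊤) ∧ (∀ g : G, ∃ A ∈ 𝓑, g ∈ A) → 𝓐.card ≤ 𝓑.card) ∧
      (∀ A ∈ 𝓐, Group.IsNilpotent ↥A)) (Good : G → Prop) (T : Finset G) (m : ℕ)
    (hm : ∀ A : Subgroup G, Group.IsNilpotent A → (T.filter (· ∈ A)).card ≤ m)
    (hsep : ∀ A : Subgroup G, Group.IsNilpotent A → ∀ t ∈ T, t ∈ A → ∀ g ∈ A, ¬ Good g)
    (𝒮 : Finset (Subgroup G)) (hS : ∀ S ∈ 𝒮, S ≠ ⊤) (hSc : ∀ g, ¬ Good g → ∃ S ∈ 𝒮, g ∈ S)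
    (hlt : 𝒮.card * m < T.card) : False := by
  obtain ⟨⟨hne, hcov⟩, hmin, hnil⟩ := h
  set g₁ := 𝓐.filter fun A => ∃ g, g ∈ A ∧ Good g
  set g₂ := 𝓐.filter fun A => ∃ t ∈ T, t ∈ A
  have hdis : Disjoint g₁ g₂ := by
    rw [Finset.disjoint_left]
    intro A h1 h2
    obtain ⟨hA, g, hg, hgg⟩ := Finset.mem_filter.1 h1
    obtain ⟨-, t, ht, htA⟩ := Finset.mem_filter.1 h2
    exact hsep A (hnil A hA) t ht htA g hg hgg
  have hle := hmin (g₁ ∪ 𝒮) ⟨fun A hA => ?_, fun g => ?_⟩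
  · have h1 : T.card ≤ g₂.card * m := card_le_mul 𝓐 hcov T m fun A hA => hm A (hnil A hA)
    have h2 : g₁.card + g₂.card ≤ 𝓐.card := by
      rw [← Finset.card_union_of_disjoint hdis]
      exact Finset.card_le_card (Finset.union_subset (Finset.filter_subset _ _) (Finset.filter_subset _ _))
    have h3 : g₂.card ≤ 𝒮.card := by have := Finset.card_union_le g₁ 𝒮; omega
    have := Nat.mul_le_mul_right m h3
    omega
  · rcases Finset.mem_union.1 hA with hA | hA
    exacts [hne A (Finset.mem_filter.1 hA).1, hS A hA]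
  · by_cases hg : Good g
    · obtain ⟨A, hA, hgA⟩ := hcov g
      exact ⟨A, Finset.mem_union_left _ (Finset.mem_filter.2 ⟨hA, g, hgA, hg⟩), hgA⟩
    · obtain ⟨A, hA, hgA⟩ := hSc g hg
      exact ⟨A, Finset.mem_union_right _ hA, hgA⟩

section Perm

variable {n : ℕ} (ι : G →* Equiv.Perm (Fin n))

/-- The stabilizer of a set of points. -/
def setStab (s : Finset (Fin n)) : Subgroup G where
  carrier := {g | ∀ i, ι g i ∈ s ↔ i ∈ s}
  one_mem' i := by simp
  mul_mem' {a b} ha hb i := by rw [map_mul, Equiv.Perm.mul_apply, ha, hb]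
  inv_mem' {a} ha i := by
    have h := ha ((ι a)⁻¹ i)
    rw [Equiv.Perm.coe_inv, Equiv.apply_symm_apply] at h
    rw [map_inv, Equiv.Perm.coe_inv]
    exact h.symm

theorem mem_setStab {g : G} {s : Finset (Fin n)} (h : ∀ i ∈ s, ι g i ∈ s) : g ∈ setStab ι s := by
  have himg : s.image (ι g) = s := Finset.eq_of_subset_of_card_le
    (fun x hx => by obtain ⟨i, hi, rfl⟩ := Finset.mem_image.1 hx; exact h i hi)
    (by rw [Finset.card_image_of_injective _ (ι g).injective])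
  intro i
  refine ⟨fun hi => ?_, h i⟩
  rw [← himg] at hi
  obtain ⟨j, hj, hji⟩ := Finset.mem_image.1 hi
  rwa [← (ι g).injective hji]

theorem setStab_ne_top (htr : ∀ i j, ∃ g, ι g i = j) {s : Finset (Fin n)} (hs : s.Nonempty)
    (hs' : s ≠ Finset.univ) : setStab ι s ≠ ⊤ := by
  intro e
  obtain ⟨i, hi⟩ := hs
  obtain ⟨j, -, hj⟩ := Finset.exists_of_ssubset (Finset.ssubset_univ_iff.2 hs')
  obtain ⟨g, hg⟩ := htr i j
  have := (show g ∈ setStab ι s from e ▸ Subgroup.mem_top g) i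
  rw [hg] at this
  exact hj (this.2 hi)

theorem no_cover_perm (hι : Function.Injective ι) (htr : ∀ i j, ∃ g, ι g i = j) (hn : 0 < n)
    (𝓐 : Finset (Subgroup G))
    (h : ((∀ A ∈ 𝓐, A ≠ ⊤) ∧ (∀ g : G, ∃ A ∈ 𝓐, g ∈ A)) ∧
      (∀ 𝓑 : Finset (Subgroup G), (∀ A ∈ 𝓑, A ≠ ⊤) ∧ (∀ g : G, ∃ A ∈ 𝓑, g ∈ A) → 𝓐.card ≤ 𝓑.card) ∧
      (∀ A ∈ 𝓐, Group.IsNilpotent ↥A)) (p : ℕ) [hp : Fact p.Prime] (hpn : p < n)
    (hp2 : ¬ p ^ 2 ∣ Nat.card G) (T : Finset G) (hT : ∀ t ∈ T, (ι t).cycleType = {p})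
    (hlt : 2 ^ (n - 1) * (p - 1) < T.card) : False := by
  have hord : ∀ t ∈ T, orderOf t = p := fun t ht => by
    rw [← orderOf_injective ι hι t, ← Equiv.Perm.lcm_cycleType, hT t ht, Multiset.lcm_singleton,
      normalize_eq]
  set z : Fin n := ⟨0, hn⟩
  refine no_cover 𝓐 h
    (fun g => ¬ ∃ s : Finset (Fin n), s.Nonempty ∧ s ≠ Finset.univ ∧ ∀ i ∈ s, ι g i ∈ s)
    T (p - 1) (fun A hA => card_order_le hA hp2 T hord) ?_
    ((((Finset.univ.erase z).powerset.image fun s => insert z s).filter (· ≠ Finset.univ)).image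
      (setStab ι)) ?_ ?_ ?_
  · intro A hA t ht htA g hg hgood
    refine hgood ⟨(ι t).support, ?_, ?_, fun i hi => ?_⟩
    · rw [Finset.nonempty_iff_ne_empty, Ne, Equiv.Perm.support_eq_empty_iff, ← map_one ι, hι.eq_iff]
      intro e
      have := hord t ht
      rw [e, orderOf_one] at this
      exact hp.out.one_lt.ne this
    · intro e
      have := Equiv.Perm.sum_cycleType (ι t)
      rw [hT t ht, Multiset.sum_singleton, e, Finset.card_univ, Fintype.card_fin] at this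
      omega
    · obtain ⟨k, hk⟩ := Subgroup.mem_zpowers_iff.1 ((mem_zpowers_of_order hA hp2 (hord t ht) htA).2 g hg)
      rw [Equiv.Perm.mem_support] at hi ⊢
      intro hfix
      apply hi
      have h1 : (ι t ^ k) (ι g i) = ι g i := Equiv.Perm.zpow_apply_eq_self_of_apply_eq_self hfix k
      rw [← map_zpow, hk, map_mul, map_mul, map_inv, Equiv.Perm.mul_apply, Equiv.Perm.mul_apply,
        Equiv.Perm.coe_inv, Equiv.symm_apply_apply] at h1
      exact (ι g).injective h1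
  · intro S hS
    obtain ⟨s, hs, rfl⟩ := Finset.mem_image.1 hS
    obtain ⟨hs1, hs2⟩ := Finset.mem_filter.1 hs
    obtain ⟨s', -, rfl⟩ := Finset.mem_image.1 hs1
    exact setStab_ne_top ι htr (Finset.insert_nonempty _ _) hs2
  · intro g hg
    obtain ⟨s, hs1, hs2, hs3⟩ := not_not.1 hg
    have hgs := mem_setStab ι hs3
    obtain ⟨u, hzu, hu1, hgu⟩ : ∃ u : Finset (Fin n), z ∈ u ∧ u ≠ Finset.univ ∧ g ∈ setStab ι u := by
      by_cases hz : z ∈ s
      · exact ⟨s, hz, hs2, hgs⟩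
      · exact ⟨sᶜ, Finset.mem_compl.2 hz, by simpa using hs1.ne_empty,
          fun i => by simp [hgs i]⟩
    refine ⟨_, Finset.mem_image.2 ⟨u, Finset.mem_filter.2 ⟨Finset.mem_image.2
      ⟨u.erase z, Finset.mem_powerset.2 (Finset.erase_subset_erase _ (Finset.subset_univ _)),
        Finset.insert_erase hzu⟩, hu1⟩, rfl⟩, hgu⟩
  · refine lt_of_le_of_lt (Nat.mul_le_mul_right _ ?_) hlt
    refine Finset.card_image_le.trans ((Finset.card_filter_le _ _).trans
      (Finset.card_image_le.trans ?_))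
    simp

end Perm

theorem arith (k : ℕ) : ∀ n, n = k + 10 → 2 ^ (n - 1) * ((n - 1) / 2).factorial < (n - 2).factorial := by
  induction k using Nat.strong_induction_on with
  | _ k ih =>
    intro n hn
    match k, hn with
    | 0, hn => subst hn; decide
    | 1, hn => subst hn; decide
    | k + 2, hn =>
      subst hn
      have h := ih k (by omega) _ rfl
      rw [show k + 2 + 10 - 1 = (k + 10 - 1) + 2 by omega, show k + 2 + 10 - 2 = (k + 10 - 2) + 2 by omega,
        show ((k + 10 - 1) + 2) / 2 = (k + 10 - 1) / 2 + 1 by omega, pow_add, Nat.factorial_succ,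
        Nat.factorial_succ (_ + 1), Nat.factorial_succ (k + 10 - 2)]
      set P := 2 ^ (k + 10 - 1)
      set F := ((k + 10 - 1) / 2).factorial
      set D := (k + 10 - 2).factorial
      have h1 : 4 * ((k + 10 - 1) / 2 + 1) ≤ (k + 10 - 2 + 1 + 1) * (k + 10 - 2 + 1) :=
        Nat.mul_le_mul (by omega) (by omega)
      calc P * 2 ^ 2 * (((k + 10 - 1) / 2 + 1) * F) = (4 * ((k + 10 - 1) / 2 + 1)) * (P * F) := by ring
        _ < (4 * ((k + 10 - 1) / 2 + 1)) * D := by gcongr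
        _ ≤ ((k + 10 - 2 + 1 + 1) * (k + 10 - 2 + 1)) * D := Nat.mul_le_mul_right _ h1
        _ = _ := by ring

theorem arith' {n : ℕ} (hn : 6 ≤ n) : ∃ p : ℕ, p.Prime ∧ p ≠ 2 ∧ n < 2 * p ∧ p < n ∧
    2 ^ (n - 1) * (p - 1) * ((n - p).factorial * p) < n.factorial := by
  rcases lt_or_ge n 10 with h | h
  · interval_cases n
    · exact ⟨5, by decide⟩
    · exact ⟨5, by decide⟩
    · exact ⟨7, by decide⟩
    · exact ⟨7, by decide⟩
  · obtain ⟨p, hp, h1, h2⟩ := Nat.exists_prime_lt_and_le_two_mul (n / 2) (by omega)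
    have hp2 : p ≠ 2 := by omega
    have hpn : p < n := by
      rcases (show p ≤ n by omega).lt_or_eq with h' | h'
      · exact h'
      · exfalso
        rcases hp.eq_two_or_odd with h3 | h3 <;> omega
    refine ⟨p, hp, hp2, by omega, hpn, ?_⟩
    have ha := arith (n - 10) n (by omega)
    have hf : (n - p).factorial ≤ ((n - 1) / 2).factorial := Nat.factorial_le (by omega)
    have hn' : n.factorial = n * (n - 1) * (n - 2).factorial := by
      obtain ⟨j, rfl⟩ : ∃ j, n = j + 2 := ⟨n - 2, by omega⟩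
      simp only [Nat.add_sub_cancel, show j + 2 - 1 = j + 1 by omega, Nat.factorial_succ]
      ring
    rw [hn']
    calc 2 ^ (n - 1) * (p - 1) * ((n - p).factorial * p)
        = (p * (p - 1)) * (2 ^ (n - 1) * (n - p).factorial) := by ring
      _ ≤ (n * (n - 1)) * (2 ^ (n - 1) * ((n - 1) / 2).factorial) :=
          Nat.mul_le_mul (Nat.mul_le_mul hpn.le (by omega)) (Nat.mul_le_mul_left _ hf)
      _ < (n * (n - 1)) * (n - 2).factorial :=
          mul_lt_mul_of_pos_left ha (Nat.mul_pos (by omega) (by omega))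

theorem not_sq_dvd {n p : ℕ} (hp : p.Prime) (hn : n < 2 * p) : ¬ p ^ 2 ∣ n.factorial := by
  intro h
  have h2 : n < p ^ 2 := by nlinarith [hp.two_le]
  rw [hp.pow_dvd_factorial_iff (show Nat.log p n < 2 from by
    rcases Nat.eq_zero_or_pos n with rfl | hn0
    · simp
    · exact (Nat.log_lt_iff_lt_pow hp.one_lt hn0.ne').2 h2)] at h
  simp only [Nat.Ico_succ_singleton, Finset.sum_singleton, pow_one] at h
  have : n / p ≤ 1 := Nat.lt_succ_iff.1 ((Nat.div_lt_iff_lt_mul hp.pos).2 (by omega))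
  omega

theorem perm_large {n : ℕ} (hn : 6 ≤ n) (𝓐 : Finset (Subgroup (Equiv.Perm (Fin n))))
    (h : ((∀ A ∈ 𝓐, A ≠ ⊤) ∧ (∀ g : Equiv.Perm (Fin n), ∃ A ∈ 𝓐, g ∈ A)) ∧
      (∀ 𝓑 : Finset (Subgroup (Equiv.Perm (Fin n))), (∀ A ∈ 𝓑, A ≠ ⊤) ∧
        (∀ g : Equiv.Perm (Fin n), ∃ A ∈ 𝓑, g ∈ A) → 𝓐.card ≤ 𝓑.card) ∧
      (∀ A ∈ 𝓐, Group.IsNilpotent ↥A)) : False := by
  obtain ⟨p, hp, hp2, hnp, hpn, hlt⟩ := arith' hn
  haveI := Fact.mk hp
  refine no_cover_perm (MonoidHom.id _) Function.injective_id (fun i j => ⟨Equiv.swap i j, by simp⟩)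
    (by omega) 𝓐 h p hpn ?_ (Finset.univ.filter fun g => g.cycleType = {p})
    (fun t ht => (Finset.mem_filter.1 ht).2) ?_
  · rw [Nat.card_eq_fintype_card, Fintype.card_perm, Fintype.card_fin]
    exact not_sq_dvd hp hnp
  · have hc := Equiv.Perm.card_of_cycleType_mul_eq (α := Fin n) ({p} : Multiset ℕ)
    rw [if_pos ⟨by simpa using hpn.le, by simpa using hp.two_le⟩] at hc
    simp only [Multiset.sum_singleton, Multiset.prod_singleton, Fintype.card_fin,
      Multiset.toFinset_singleton, Finset.prod_singleton, Multiset.count_singleton_self,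
      Nat.factorial_one, mul_one] at hc
    rw [← hc] at hlt
    exact Nat.lt_of_mul_lt_mul_right hlt

theorem alternating_large {n : ℕ} (hn : 6 ≤ n) (𝓐 : Finset (Subgroup (alternatingGroup (Fin n))))
    (h : ((∀ A ∈ 𝓐, A ≠ ⊤) ∧ (∀ g : alternatingGroup (Fin n), ∃ A ∈ 𝓐, g ∈ A)) ∧
      (∀ 𝓑 : Finset (Subgroup (alternatingGroup (Fin n))), (∀ A ∈ 𝓑, A ≠ ⊤) ∧
        (∀ g : alternatingGroup (Fin n), ∃ A ∈ 𝓑, g ∈ A) → 𝓐.card ≤ 𝓑.card) ∧
      (∀ A ∈ 𝓐, Group.IsNilpotent ↥A)) : False := by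
  obtain ⟨p, hp, hp2, hnp, hpn, hlt⟩ := arith' hn
  haveI := Fact.mk hp
  refine no_cover_perm (alternatingGroup (Fin n)).subtype Subtype.val_injective ?_ (by omega) 𝓐 h p hpn
    ?_ (Finset.univ.filter fun g : alternatingGroup (Fin n) => (g : Equiv.Perm (Fin n)).cycleType = {p})
    (fun t ht => (Finset.mem_filter.1 ht).2) ?_
  · intro i j
    obtain ⟨a, -, ha⟩ := Finset.exists_mem_notMem_of_card_lt_card
      (show ({i, j} : Finset (Fin n)).card < (Finset.univ : Finset (Fin n)).card from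
        lt_of_le_of_lt Finset.card_le_two (by simp; omega))
    simp only [Finset.mem_insert, Finset.mem_singleton, not_or] at ha
    rcases eq_or_ne i j with rfl | hij
    · exact ⟨1, by simp⟩
    refine ⟨⟨Equiv.swap i a * Equiv.swap i j, ?_⟩, ?_⟩
    · rw [Equiv.Perm.mem_alternatingGroup, map_mul, Equiv.Perm.sign_swap hij,
        Equiv.Perm.sign_swap (Ne.symm ha.1)]
      rfl
    · show (Equiv.swap i a * Equiv.swap i j) i = j
      rw [Equiv.Perm.mul_apply, Equiv.swap_apply_left, Equiv.swap_apply_of_ne_of_ne hij.symm (Ne.symm ha.2)]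
  · intro hd
    refine not_sq_dvd hp hnp (hd.trans ?_)
    have := Subgroup.card_subgroup_dvd_card (alternatingGroup (Fin n))
    rwa [Nat.card_eq_fintype_card (α := Equiv.Perm (Fin n)), Fintype.card_perm, Fintype.card_fin] at this
  · have hc := AlternatingGroup.card_of_cycleType_mul_eq (α := Fin n) ({p} : Multiset ℕ)
    rw [if_pos ⟨⟨by simpa using hpn.le, by simpa using hp.two_le⟩, by
      simpa [parity_simps] using hp.odd_of_ne_two hp2⟩] at hc
    simp only [Multiset.sum_singleton, Multiset.prod_singleton, Fintype.card_fin,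
      Multiset.toFinset_singleton, Finset.prod_singleton, Multiset.count_singleton_self,
      Nat.factorial_one, mul_one] at hc
    rw [← hc] at hlt
    exact Nat.lt_of_mul_lt_mul_right hlt

theorem card_two_le {A : Subgroup (Equiv.Perm (Fin 5))} (hA : Group.IsNilpotent A)
    (T : Finset (Equiv.Perm (Fin 5))) (hT : ∀ t ∈ T, t ≠ 1 ∧ t ^ 4 = 1) :
    (T.filter (· ∈ A)).card ≤ 7 := by
  haveI : Fact (Nat.Prime 2) := ⟨Nat.prime_two⟩
  obtain ⟨P, -, hPp, hmem, -⟩ := exists_pSubgroup hA 2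
  have hsub : T.filter (· ∈ A) ⊆ (P : Set (Equiv.Perm (Fin 5))).toFinset.erase 1 := by
    intro y hy
    rw [Finset.mem_filter] at hy
    exact Finset.mem_erase.2 ⟨(hT y hy.1).1, Set.mem_toFinset.2 (hmem y hy.2 ⟨2, (hT y hy.1).2⟩)⟩
  refine (Finset.card_le_card hsub).trans ?_
  rw [Finset.card_erase_of_mem (Set.mem_toFinset.2 P.one_mem), Set.toFinset_card,
    ← Nat.card_eq_fintype_card]
  show Nat.card P - 1 ≤ 7
  obtain ⟨k, hk⟩ := hPp.exists_card_eq
  have hd : 2 ^ k ∣ 120 := by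
    have := Subgroup.card_subgroup_dvd_card P
    rw [hk, Nat.card_eq_fintype_card, Fintype.card_perm, Fintype.card_fin] at this
    exact this
  have hk3 : k ≤ 3 := by
    by_contra hk3
    exact absurd ((pow_dvd_pow 2 (by omega : 4 ≤ k)).trans hd) (by decide)
  rw [hk]
  have := Nat.pow_le_pow_right two_pos hk3
  omega

theorem alternating_five (𝓐 : Finset (Subgroup (alternatingGroup (Fin 5))))
    (h : ((∀ A ∈ 𝓐, A ≠ ⊤) ∧ (∀ g : alternatingGroup (Fin 5), ∃ A ∈ 𝓐, g ∈ A)) ∧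
      (∀ 𝓑 : Finset (Subgroup (alternatingGroup (Fin 5))), (∀ A ∈ 𝓑, A ≠ ⊤) ∧
        (∀ g : alternatingGroup (Fin 5), ∃ A ∈ 𝓑, g ∈ A) → 𝓐.card ≤ 𝓑.card) ∧
      (∀ A ∈ 𝓐, Group.IsNilpotent ↥A)) : False := by
  haveI : Fact (Nat.Prime 3) := ⟨by norm_num⟩
  haveI : Fact (Nat.Prime 5) := ⟨by norm_num⟩
  have hcard : Nat.card (alternatingGroup (Fin 5)) = 60 := by
    rw [Nat.card_eq_fintype_card]; decide +kernel
  have hdec : ∀ g : alternatingGroup (Fin 5), (g ^ 5 = 1 ∧ g ≠ 1) ∨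
      ∃ i, (g : Equiv.Perm (Fin 5)) i = i := by decide +kernel
  have hord : ∀ g : alternatingGroup (Fin 5), g ^ 6 = 1 ∨ g ^ 5 = 1 := by decide +kernel
  set T := Finset.univ.filter fun g : alternatingGroup (Fin 5) => g ^ 3 = 1 ∧ g ≠ 1
  have hT : ∀ t ∈ T, orderOf t = 3 := fun t ht =>
    orderOf_eq_prime (Finset.mem_filter.1 ht).2.1 (Finset.mem_filter.1 ht).2.2
  refine no_cover 𝓐 h (fun g => g ^ 5 = 1 ∧ g ≠ 1) T 2
    (fun A hA => card_order_le (p := 3) hA (by rw [hcard]; decide) T hT) ?_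
    ((Finset.univ : Finset (Fin 5)).image fun i => setStab (alternatingGroup (Fin 5)).subtype {i}) ?_ ?_ ?_
  · intro A hA t ht htA g hg hgood
    have hgo := orderOf_eq_prime hgood.1 hgood.2
    refine not_both hA htA hg (by rw [hT t ht, hgo]; decide) fun x hx => ?_
    rw [hT t ht, hgo] at hx
    rcases hord x with e | e <;>
      · have := orderOf_dvd_of_pow_eq_one e
        rw [hx] at this
        revert this
        decide
  · intro S hS
    obtain ⟨i, -, rfl⟩ := Finset.mem_image.1 hS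
    refine setStab_ne_top _ ?_ (Finset.singleton_nonempty i) ?_
    · show ∀ i j : Fin 5, ∃ g : alternatingGroup (Fin 5), (g : Equiv.Perm (Fin 5)) i = j
      decide +kernel
    · intro e
      have := congrArg Finset.card e
      simp at this
  · intro g hg
    obtain ⟨i, hi⟩ := (hdec g).resolve_left hg
    exact ⟨_, Finset.mem_image.2 ⟨i, Finset.mem_univ i, rfl⟩, mem_setStab _ (by simpa using hi)⟩
  · have : T.card = 20 := by simp only [T]; decide +kernel
    rw [this]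
    calc _ ≤ 5 * 2 := Nat.mul_le_mul_right _ (Finset.card_image_le.trans (by simp))
      _ < 20 := by norm_num

theorem perm_five (𝓐 : Finset (Subgroup (Equiv.Perm (Fin 5))))
    (h : ((∀ A ∈ 𝓐, A ≠ ⊤) ∧ (∀ g : Equiv.Perm (Fin 5), ∃ A ∈ 𝓐, g ∈ A)) ∧
      (∀ 𝓑 : Finset (Subgroup (Equiv.Perm (Fin 5))), (∀ A ∈ 𝓑, A ≠ ⊤) ∧
        (∀ g : Equiv.Perm (Fin 5), ∃ A ∈ 𝓑, g ∈ A) → 𝓐.card ≤ 𝓑.card) ∧
      (∀ A ∈ 𝓐, Group.IsNilpotent ↥A)) : False := by
  haveI : Fact (Nat.Prime 3) := ⟨by norm_num⟩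
  haveI : Fact (Nat.Prime 5) := ⟨by norm_num⟩
  obtain ⟨⟨hne, hcov⟩, hmin, hnil⟩ := h
  have hcard : Nat.card (Equiv.Perm (Fin 5)) = 120 := by
    rw [Nat.card_eq_fintype_card, Fintype.card_perm, Fintype.card_fin]; rfl
  have hord : ∀ g : Equiv.Perm (Fin 5), g ^ 6 = 1 ∨ g ^ 5 = 1 ∨ g ^ 4 = 1 := by decide +kernel
  set T5 := Finset.univ.filter fun g : Equiv.Perm (Fin 5) => g ^ 5 = 1 ∧ g ≠ 1
  set T3 := Finset.univ.filter fun g : Equiv.Perm (Fin 5) => g ^ 3 = 1 ∧ g ≠ 1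
  set T4 := Finset.univ.filter fun g : Equiv.Perm (Fin 5) => g ^ 4 = 1 ∧ g ^ 2 ≠ 1
  have h5 : ∀ t ∈ T5, orderOf t = 5 := fun t ht =>
    orderOf_eq_prime (Finset.mem_filter.1 ht).2.1 (Finset.mem_filter.1 ht).2.2
  have h3 : ∀ t ∈ T3, orderOf t = 3 := fun t ht =>
    orderOf_eq_prime (Finset.mem_filter.1 ht).2.1 (Finset.mem_filter.1 ht).2.2
  have h4 : ∀ t ∈ T4, orderOf t = 4 := fun t ht => by
    haveI : Fact (Nat.Prime 2) := ⟨Nat.prime_two⟩
    exact orderOf_eq_prime_pow (p := 2) (n := 1) (by simpa using (Finset.mem_filter.1 ht).2.2)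
      (Finset.mem_filter.1 ht).2.1
  have c5 := card_le_mul 𝓐 hcov T5 4 fun A hA =>
    card_order_le (p := 5) (hnil A hA) (by rw [hcard]; decide) T5 h5
  have c3 := card_le_mul 𝓐 hcov T3 2 fun A hA =>
    card_order_le (p := 3) (hnil A hA) (by rw [hcard]; decide) T3 h3
  have c4 := card_le_mul 𝓐 hcov T4 7 fun A hA => card_two_le (hnil A hA) T4 fun t ht =>
    ⟨fun e => (Finset.mem_filter.1 ht).2.2 (by rw [e, one_pow]), (Finset.mem_filter.1 ht).2.1⟩
  set g5 := 𝓐.filter fun A => ∃ t ∈ T5, t ∈ A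
  set g3 := 𝓐.filter fun A => ∃ t ∈ T3, t ∈ A
  set g4 := 𝓐.filter fun A => ∃ t ∈ T4, t ∈ A
  have dis : ∀ (T U : Finset (Equiv.Perm (Fin 5))) (a b : ℕ), (∀ t ∈ T, orderOf t = a) →
      (∀ t ∈ U, orderOf t = b) → a.Coprime b → ¬ a * b ∣ 6 → ¬ a * b ∣ 5 → ¬ a * b ∣ 4 →
      Disjoint (𝓐.filter fun A => ∃ t ∈ T, t ∈ A) (𝓐.filter fun A => ∃ t ∈ U, t ∈ A) := by
    intro T U a b hT hU hab n6 n5 n4
    rw [Finset.disjoint_left]
    intro A hA hA'
    obtain ⟨hA, t, ht, htA⟩ := Finset.mem_filter.1 hA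
    obtain ⟨-, u, hu, huA⟩ := Finset.mem_filter.1 hA'
    refine not_both (hnil A hA) htA huA (by rwa [hT t ht, hU u hu]) fun x hx => ?_
    rw [hT t ht, hU u hu] at hx
    rcases hord x with e | e | e <;> have := orderOf_dvd_of_pow_eq_one e <;> rw [hx] at this
    exacts [n6 this, n5 this, n4 this]
  have d53 : Disjoint g5 g3 := dis T5 T3 5 3 h5 h3 (by decide) (by decide) (by decide) (by decide)
  have d54 : Disjoint g5 g4 := dis T5 T4 5 4 h5 h4 (by decide) (by decide) (by decide) (by decide)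
  have d34 : Disjoint g3 g4 := dis T3 T4 3 4 h3 h4 (by decide) (by decide) (by decide) (by decide)
  have hlow : g5.card + g3.card + g4.card ≤ 𝓐.card := by
    rw [← Finset.card_union_of_disjoint d53,
      ← Finset.card_union_of_disjoint (Finset.disjoint_union_left.2 ⟨d54, d34⟩)]
    exact Finset.card_le_card (Finset.union_subset (Finset.union_subset (Finset.filter_subset _ _)
      (Finset.filter_subset _ _)) (Finset.filter_subset _ _))
  have e5 : T5.card = 24 := by simp only [T5]; decide +kernel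
  have e3 : T3.card = 20 := by simp only [T3]; decide +kernel
  have e4 : T4.card = 30 := by simp only [T4]; decide +kernel
  rw [e5] at c5
  rw [e3] at c3
  rw [e4] at c4
  set fam := (((Finset.univ : Finset (Fin 5)).powersetCard 1 ∪ (Finset.univ : Finset (Fin 5)).powersetCard 2).image
    (setStab (MonoidHom.id (Equiv.Perm (Fin 5))))) with hfam
  have hle := hmin (insert (alternatingGroup (Fin 5)) fam) ⟨fun A hA => ?_, fun g => ?_⟩
  · have h1 := Finset.card_insert_le (alternatingGroup (Fin 5)) fam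
    have h2 : fam.card ≤ 15 := Finset.card_image_le.trans ((Finset.card_union_le _ _).trans
      (by simp only [Finset.card_powersetCard, Finset.card_univ, Fintype.card_fin]; decide))
    omega
  · rcases Finset.mem_insert.1 hA with rfl | hA
    · intro e
      have : Equiv.swap (0 : Fin 5) 1 ∈ alternatingGroup (Fin 5) := e ▸ Subgroup.mem_top _
      rw [Equiv.Perm.mem_alternatingGroup] at this
      revert this
      decide
    · obtain ⟨s, hs, rfl⟩ := Finset.mem_image.1 hA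
      simp only [Finset.mem_union, Finset.mem_powersetCard] at hs
      refine setStab_ne_top _ (fun i j => ⟨Equiv.swap i j, by simp⟩) ?_ ?_
      · rw [← Finset.card_pos]; omega
      · intro e
        rw [e, Finset.card_univ, Fintype.card_fin] at hs
        omega
  · have hdec : ∀ g : Equiv.Perm (Fin 5), Equiv.Perm.sign g = 1 ∨ (∃ i, g i = i) ∨
        ∃ i j, i ≠ j ∧ g i = j ∧ g j = i := by decide +kernel
    rcases hdec g with hg | ⟨i, hi⟩ | ⟨i, j, hij, h1, h2⟩
    · exact ⟨_, Finset.mem_insert_self _ _, Equiv.Perm.mem_alternatingGroup.2 hg⟩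
    · refine ⟨_, Finset.mem_insert_of_mem (Finset.mem_image.2 ⟨{i}, Finset.mem_union_left _
        (Finset.mem_powersetCard.2 ⟨Finset.subset_univ _, Finset.card_singleton i⟩), rfl⟩),
        mem_setStab _ (by simpa using hi)⟩
    · refine ⟨_, Finset.mem_insert_of_mem (Finset.mem_image.2 ⟨{i, j}, Finset.mem_union_right _
        (Finset.mem_powersetCard.2 ⟨Finset.subset_univ _, Finset.card_pair hij⟩), rfl⟩),
        mem_setStab _ (by simp [h1, h2])⟩

theorem perm_four (𝓐 : Finset (Subgroup (Equiv.Perm (Fin 4))))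
    (h : ((∀ A ∈ 𝓐, A ≠ ⊤) ∧ (∀ g : Equiv.Perm (Fin 4), ∃ A ∈ 𝓐, g ∈ A)) ∧
      (∀ 𝓑 : Finset (Subgroup (Equiv.Perm (Fin 4))), (∀ A ∈ 𝓑, A ≠ ⊤) ∧
        (∀ g : Equiv.Perm (Fin 4), ∃ A ∈ 𝓑, g ∈ A) → 𝓐.card ≤ 𝓑.card) ∧
      (∀ A ∈ 𝓐, Group.IsNilpotent ↥A)) : False := by
  haveI : Fact (Nat.Prime 3) := ⟨by norm_num⟩
  obtain ⟨⟨hne, hcov⟩, hmin, hnil⟩ := h
  have hord : ∀ g : Equiv.Perm (Fin 4), g ^ 4 = 1 ∨ g ^ 3 = 1 := by decide +kernel
  set T3 := Finset.univ.filter fun g : Equiv.Perm (Fin 4) => g ^ 3 = 1 ∧ g ≠ 1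
  have h3 : ∀ t ∈ T3, orderOf t = 3 := fun t ht =>
    orderOf_eq_prime (Finset.mem_filter.1 ht).2.1 (Finset.mem_filter.1 ht).2.2
  have c3 := card_le_mul 𝓐 hcov T3 2 fun A hA => card_order_le (p := 3) (hnil A hA) (by
    rw [Nat.card_eq_fintype_card, Fintype.card_perm, Fintype.card_fin]; decide) T3 h3
  have e3 : T3.card = 8 := by simp only [T3]; decide +kernel
  rw [e3] at c3
  set c := finRotate 4 with hcdef
  have hc : orderOf c = 4 := by
    haveI : Fact (Nat.Prime 2) := ⟨Nat.prime_two⟩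
    exact orderOf_eq_prime_pow (p := 2) (n := 1) (by rw [hcdef]; decide +kernel) (by rw [hcdef]; decide +kernel)
  obtain ⟨A0, hA0, hcA0⟩ := hcov c
  have hA0' : A0 ∉ 𝓐.filter fun A => ∃ t ∈ T3, t ∈ A := by
    intro hm
    obtain ⟨-, t, ht, htA⟩ := Finset.mem_filter.1 hm
    refine not_both (hnil A0 hA0) htA hcA0 (by rw [h3 t ht, hc]; decide) fun x hx => ?_
    rw [h3 t ht, hc] at hx
    rcases hord x with e | e <;>
      · have := orderOf_dvd_of_pow_eq_one e
        rw [hx] at this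
        revert this
        decide
  have hlow : (𝓐.filter fun A => ∃ t ∈ T3, t ∈ A).card + 1 ≤ 𝓐.card := by
    rw [← Finset.card_insert_of_notMem hA0']
    exact Finset.card_le_card (Finset.insert_subset hA0 (Finset.filter_subset _ _))
  let inv : Finset (Equiv.Perm (Fin 4)) := {Equiv.swap 0 1 * Equiv.swap 2 3,
    Equiv.swap 0 2 * Equiv.swap 1 3, Equiv.swap 0 3 * Equiv.swap 1 2}
  have hle := hmin (insert (alternatingGroup (Fin 4))
    (inv.image fun t => Subgroup.centralizer ({t} : Set (Equiv.Perm (Fin 4))))) ⟨fun A hA => ?_, fun g => ?_⟩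
  · have h1 := Finset.card_insert_le (alternatingGroup (Fin 4))
      (inv.image fun t => Subgroup.centralizer ({t} : Set (Equiv.Perm (Fin 4))))
    have h2 : (inv.image fun t => Subgroup.centralizer ({t} : Set (Equiv.Perm (Fin 4)))).card ≤ 3 :=
      Finset.card_image_le.trans Finset.card_le_three
    omega
  · rcases Finset.mem_insert.1 hA with rfl | hA
    · intro e
      have : Equiv.swap (0 : Fin 4) 1 ∈ alternatingGroup (Fin 4) := e ▸ Subgroup.mem_top _
      rw [Equiv.Perm.mem_alternatingGroup] at this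
      revert this
      decide
    · obtain ⟨t, ht, rfl⟩ := Finset.mem_image.1 hA
      intro e
      have hk : ∀ t ∈ inv, ∃ g : Equiv.Perm (Fin 4), t * g ≠ g * t := by simp only [inv]; decide +kernel
      obtain ⟨g, hg⟩ := hk t ht
      exact hg (Subgroup.mem_centralizer_singleton_iff.1 (e ▸ Subgroup.mem_top g)).symm
  · have hdec : ∀ g : Equiv.Perm (Fin 4), Equiv.Perm.sign g = 1 ∨ ∃ t ∈ inv, t * g = g * t := by
      simp only [inv]; decide +kernel
    rcases hdec g with hg | ⟨t, ht, htg⟩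
    · exact ⟨_, Finset.mem_insert_self _ _, Equiv.Perm.mem_alternatingGroup.2 hg⟩
    · exact ⟨_, Finset.mem_insert_of_mem (Finset.mem_image.2 ⟨t, ht, rfl⟩),
        Subgroup.mem_centralizer_singleton_iff.2 htg.symm⟩

end Cfsg.Agent.Grp.NilpotentCoverPerm
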