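import Mathlib
import Cfsg.Agent.Lib.Grp.Coprime
import Cfsg.Agent.Lib.Grp.FpfDual
import Cfsg.Agent.Lib.Transfer.Fusion
import Cfsg.Agent.Lib.Transfer.Alperin

/-!
A finite group with a maximal subgroup that is nilpotent of class at most two is soluble.
-/

set_option autoImplicit false

namespace Cfsg.Agent.Grp

open Subgroup
open scoped Pointwise
open scoped commutatorElement

universe u

variable {G : Type u} [Group G] [Finite G]

/-- In the core-free case every prime of the maximal subgroup has a normal complement. -/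
theorem hasNormalPComplement_of_nilpotent_maximal {M : Subgroup G} (hmax : IsCoatom M)
    (hnil : Group.IsNilpotent M) (h2 : ⁅⁅M, M⁆, M⁆ = ⊥)
    (hcore : ∀ N : Subgroup G, N.Normal → N ≤ M → N = ⊥) {p : ℕ} [hp : Fact p.Prime]
    (hpM : p ∣ Nat.card M) : Cfsg.HasNormalPComplement p G := by
  classical
  have hMne : M ≠ ⊥ := fun e => hp.out.not_dvd_one (by rwa [e, Subgroup.card_bot] at hpM)
  have hnorm : ∀ X : Subgroup G, X ≤ M → X ≠ ⊥ → M ≤ normalizer (X : Set G) →
      normalizer (X : Set G) = M := by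
    intro X hX hX1 hMX
    rcases hmax.le_iff.mp hMX with h | h
    · exfalso
      exact hX1 (hcore X (Subgroup.normalizer_eq_top_iff.mp h) hX)
    · exact h
  have hMn : normalizer (M : Set G) = M := hnorm M le_rfl hMne Subgroup.le_normalizer
  obtain ⟨X, hX⟩ := exists_isSylowIn p M
  obtain ⟨XS, hXS⟩ := isSylowIn_iff.mp hX
  have hXMn : M ≤ normalizer (X : Set G) := by
    have hn : (XS : Subgroup M).Normal := isNilpotent_iff_sylow_normal.mp hnil p inferInstance XS
    refine invariant_iff.mp fun b hb x hx => ?_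
    rw [← hXS] at hx ⊢
    obtain ⟨x', hx', rfl⟩ := hx
    exact ⟨⟨b, hb⟩ * x' * ⟨b, hb⟩⁻¹, hn.conj_mem x' hx' ⟨b, hb⟩, rfl⟩
  have hX1 : X ≠ ⊥ := fun e => by
    have h := hX.card
    rw [e, Subgroup.card_bot] at h
    have h' := hp.out.factorization_pos_of_dvd Nat.card_pos.ne' hpM
    exact absurd h.symm (Nat.one_lt_pow h'.ne' hp.out.one_lt).ne'
  have hXN : normalizer (X : Set G) = M := hnorm X hX.1 hX1 hXMn
  -- every `p`-subgroup of `M` lies in `X`
  have hpsub : ∀ U : Subgroup G, U ≤ M → IsPGroup p U → U ≤ X := by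
    intro U hUM hU
    have hs : IsPGroup p ↥(U ⊔ X) := hU.to_sup_of_normal_right' hX.2.1 (hUM.trans hXMn)
    exact le_sup_left.trans (hX.eq_of_le le_sup_right (sup_le hUM hX.1) hs).ge
  obtain ⟨P, hP⟩ := hX.2.1.exists_le_sylow
  have hPX : (P : Subgroup G) = X := by
    by_contra hne
    have hlt : X < (P : Subgroup G) := lt_of_le_of_ne hP (Ne.symm hne)
    have h := Transfer.lt_inf_normalizer P hlt
    rw [hXN] at h
    exact absurd (hpsub _ inf_le_right (P.isPGroup'.to_le inf_le_left)) (not_le_of_gt h)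
  -- the centralizer of an element of `X` meets `X` in a Sylow subgroup
  have hcomm : ∀ x ∈ X, ∀ a ∈ M, ∀ b ∈ M, ⁅a, b⁆ ∈ centralizer ({x} : Set G) := by
    intro x hx a ha b hb
    rw [Subgroup.mem_centralizer_singleton_iff]
    have h1 : ⁅⁅a, b⁆, x⁆ ∈ ⁅⁅M, M⁆, M⁆ :=
      Subgroup.commutator_mem_commutator (Subgroup.commutator_mem_commutator ha hb) (hX.1 hx)
    rw [h2, Subgroup.mem_bot, commutatorElement_eq_one_iff_mul_comm] at h1
    exact h1
  have hCn : ∀ x ∈ X, x ≠ 1 → normalizer ((X ⊓ centralizer ({x} : Set G) : Subgroup G) : Set G) = M := by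
    intro x hx hx1
    refine hnorm _ (inf_le_left.trans hX.1) (fun e => hx1 ?_) (invariant_iff.mp fun b hb c hc => ?_)
    · have hm : x ∈ X ⊓ centralizer ({x} : Set G) :=
        ⟨hx, Subgroup.mem_centralizer_singleton_iff.mpr rfl⟩
      rwa [e, Subgroup.mem_bot] at hm
    · refine ⟨mem_conj_normalizer (hXMn hb) hc.1, ?_⟩
      rw [show b * c * b⁻¹ = ⁅b, c⁆ * c by rw [commutatorElement_def]; group]
      exact Subgroup.mul_mem _ (hcomm x hx b hb c (hX.1 hc.1)) hc.2
  have hSyl : ∀ x ∈ X, x ≠ 1 →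
      IsSylowIn p (X ⊓ centralizer ({x} : Set G)) (centralizer ({x} : Set G)) := by
    intro x hx hx1
    set C := X ⊓ centralizer ({x} : Set G) with hC
    have hCp : IsPGroup p C := hX.2.1.to_le inf_le_left
    obtain ⟨T, hT, hCT⟩ : ∃ T, IsSylowIn p T (centralizer ({x} : Set G)) ∧ C ≤ T := by
      obtain ⟨S, hS⟩ := (hCp.comap_subtype (K := centralizer ({x} : Set G))).exists_le_sylow
      exact ⟨_, isSylowIn_iff.mpr ⟨S, rfl⟩, fun c hc => ⟨⟨c, hc.2⟩, hS hc, rfl⟩⟩
    suffices T = C from this ▸ hT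
    by_contra hne
    have hlt : C.subgroupOf T < ⊤ := lt_top_iff_ne_top.2 fun he =>
      hne (le_antisymm (Subgroup.subgroupOf_eq_top.1 he) hCT)
    have h3 := Group.normalizerCondition_of_isNilpotent (h := hT.2.1.isNilpotent) _ hlt
    rw [← Subgroup.subgroupOf_normalizer_eq hCT] at h3
    obtain ⟨t, ht, htC⟩ := SetLike.exists_of_lt h3
    have htM : (t : G) ∈ M := hCn x hx hx1 ▸ ht
    have htX : (t : G) ∈ X := hpsub (T ⊓ M) inf_le_right (hT.2.1.to_le inf_le_left) ⟨t.2, htM⟩
    exact htC (show (t : G) ∈ C from ⟨htX, hT.1 t.2⟩)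
  have hMXC : M ≤ (M ⊓ centralizer (X : Set G)) ⊔ X := by
    refine le_of_forall_sylow (sup_le inf_le_left hX.1) fun q hq => ?_
    obtain ⟨Y, hY⟩ := exists_isSylowIn q M
    refine ⟨Y, hY, ?_⟩
    by_cases hqp : q = p
    · subst hqp
      exact (hpsub Y hY.1 hY.2.1).trans le_sup_right
    · refine le_trans (b := M ⊓ centralizer (X : Set G)) (fun y hy => ⟨hY.1 hy, Subgroup.mem_centralizer_iff.mpr fun x hx => ?_⟩) le_sup_left
      obtain ⟨i, hi⟩ := hY.2.1 ⟨y, hy⟩
      obtain ⟨j, hj⟩ := hX.2.1 ⟨x, hx⟩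
      exact (congrArg Subtype.val (commute_of_nilpotent_coprime hnil hqp
        (x := (⟨y, hY.1 hy⟩ : M)) (y := (⟨x, hX.1 hx⟩ : M)) (i := i) (j := j)
        (Subtype.ext (by simpa using congrArg Subtype.val hi))
        (Subtype.ext (by simpa using congrArg Subtype.val hj)))).symm
  refine Transfer.hasNormalPComplement_of_control P fun x hx y hy ⟨g, hg⟩ => ?_
  rw [hPX] at hx hy ⊢
  by_cases hx1 : x = 1
  · subst hx1
    exact ⟨1, Subgroup.one_mem _, by rw [← hg]; simp⟩
  have hy1 : y ≠ 1 := fun e => hx1 (by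
    rw [e, mul_inv_eq_one, mul_eq_left] at hg
    exact hg)
  have hgC : MulAut.conj g • centralizer ({x} : Set G) = centralizer ({y} : Set G) := by
    ext a
    rw [mem_smul_conj, Subgroup.mem_centralizer_singleton_iff, Subgroup.mem_centralizer_singleton_iff, ← hg]
    constructor
    · intro h
      calc a * (g * x * g⁻¹) = g * (g⁻¹ * a * g * x) * g⁻¹ := by group
        _ = g * (x * (g⁻¹ * a * g)) * g⁻¹ := by rw [h]
        _ = _ := by group
    · intro h
      calc g⁻¹ * a * g * x = g⁻¹ * (a * (g * x * g⁻¹)) * g := by group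
        _ = g⁻¹ * (g * x * g⁻¹ * a) * g := by rw [h]
        _ = _ := by group
  have hgS : IsSylowIn p (MulAut.conj g • (X ⊓ centralizer ({x} : Set G))) (centralizer ({y} : Set G)) := by
    rw [← hgC]
    refine ⟨Subgroup.pointwise_smul_le_pointwise_smul_iff.mpr inf_le_right, (hX.2.1.to_le inf_le_left).map _, ?_⟩
    rw [relIndex_smul]
    exact (hSyl x hx hx1).2.2
  obtain ⟨c, hc, hcg⟩ := hgS.conj (hSyl y hy hy1)
  rw [conj_smul_conj_smul] at hcg
  have hle : MulAut.conj (c * g) • M ≤ M := by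
    intro a ha
    rw [← hCn y hy hy1, mem_normalizer_iff_smul]
    rw [mem_smul_conj] at ha
    have hn := mem_normalizer_iff_smul.mp ((hCn x hx hx1).ge ha)
    rw [← hcg, conj_smul_conj_smul]
    conv_rhs => rw [← hn, conj_smul_conj_smul]
    congr 2
    group
  have hcgM : c * g ∈ M := by
    rw [← hMn, mem_normalizer_iff_smul]
    exact Subgroup.eq_of_le_of_card_ge hle (Subgroup.card_map_of_injective (MulAut.conj (c * g)).injective).ge
  have hmem := hMXC hcgM
  rw [← SetLike.mem_coe, Subgroup.coe_mul_of_right_le_normalizer_left _ _ ?_] at hmem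
  · obtain ⟨d, hd, z, hz, hdz⟩ := hmem
    refine ⟨z, hz, ?_⟩
    have hcy : c * y * c⁻¹ = y := by
      rw [mul_inv_eq_iff_eq_mul]
      exact Subgroup.mem_centralizer_singleton_iff.mp hc
    have h1 : d * (z * x * z⁻¹) * d⁻¹ = y := by
      have hdz : d * z = c * g := hdz
      calc d * (z * x * z⁻¹) * d⁻¹ = (d * z) * x * (d * z)⁻¹ := by group
        _ = c * (g * x * g⁻¹) * c⁻¹ := by rw [hdz]; group
        _ = y := by rw [hg, hcy]
    have h4 : z * x * z⁻¹ ∈ X := X.mul_mem (X.mul_mem hz hx) (X.inv_mem hz)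
    rw [← h1, ← (Subgroup.mem_centralizer_iff.mp hd.2 _ h4), mul_inv_cancel_right]
  · refine invariant_iff.mp fun b hb a ha => ⟨M.mul_mem (M.mul_mem (hX.1 hb) ha.1) (M.inv_mem (hX.1 hb)),
      Subgroup.mem_centralizer_iff.mpr fun x hx => ?_⟩
    have hbx : b⁻¹ * x * b ∈ X := X.mul_mem (X.mul_mem (X.inv_mem hb) hx) hb
    have := Subgroup.mem_centralizer_iff.mp ha.2 _ hbx
    calc x * (b * a * b⁻¹) = b * ((b⁻¹ * x * b) * a) * b⁻¹ := by group
      _ = b * (a * (b⁻¹ * x * b)) * b⁻¹ := by rw [this]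
      _ = _ := by group

/-- The core-free case. -/
theorem isSolvable_of_nilpotent_maximal_coreFree {M : Subgroup G} (hmax : IsCoatom M)
    (hnil : Group.IsNilpotent M) (h2 : ⁅⁅M, M⁆, M⁆ = ⊥)
    (hcore : ∀ N : Subgroup G, N.Normal → N ≤ M → N = ⊥) : Group.IsSolvable G := by
  classical
  set S : Set G := {g | (orderOf g).Coprime (Nat.card M)} with hS
  set L := Subgroup.closure S with hL
  have hLn : L.Normal := by
    refine ⟨fun n hn g => ?_⟩
    have hle : L.map (MulAut.conj g).toMonoidHom ≤ L := by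
      rw [hL, MonoidHom.map_closure]
      refine Subgroup.closure_mono ?_
      rintro _ ⟨a, ha, rfl⟩
      show (orderOf (MulAut.conj g a)).Coprime _
      rw [MulEquiv.orderOf_eq]
      exact ha
    exact hle ⟨n, hn, rfl⟩
  have hLc : ∀ p : ℕ, p.Prime → p ∣ Nat.card M → ¬ p ∣ Nat.card L := by
    intro p hp hpM
    haveI := Fact.mk hp
    obtain ⟨P, N, hN, hc⟩ := hasNormalPComplement_of_nilpotent_maximal hmax hnil h2 hcore hpM
    have hidx : N.index = Nat.card P := hc.symm.index_eq_card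
    obtain ⟨n, hn⟩ := P.isPGroup'.exists_card_eq
    have hnd : ¬ p ∣ Nat.card N := by
      intro hd
      have e := hc.card_mul
      rw [← Subgroup.card_mul_index (P : Subgroup G), mul_comm] at e
      exact P.not_dvd_index ((Nat.eq_of_mul_eq_mul_left Nat.card_pos e) ▸ hd)
    intro hd
    refine hnd (hd.trans (Subgroup.card_dvd_of_le ?_))
    rw [hL, Subgroup.closure_le]
    intro g hg
    rw [SetLike.mem_coe, ← QuotientGroup.eq_one_iff, ← orderOf_eq_one_iff]
    refine Nat.eq_one_of_dvd_coprimes ((hg.coprime_dvd_right hpM).pow_right n)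
      (orderOf_map_dvd (QuotientGroup.mk' N) g) ?_
    rw [← hn, ← hidx, Subgroup.index_eq_card]
    exact orderOf_dvd_natCard _
  have hcop : (Nat.card M).Coprime (Nat.card L) := Nat.coprime_of_dvd fun p hp h1 h3 => hLc p hp h1 h3
  have hLM : ¬ L ≤ M := by
    intro h
    have hL1 : L = ⊥ := hcore L hLn h
    refine hmax.1 (top_le_iff.mp (le_of_forall_sylow le_top fun q hq => ?_))
    obtain ⟨Y, hY⟩ := exists_isSylowIn q (⊤ : Subgroup G)
    by_cases hqM : q ∣ Nat.card M
    · obtain ⟨Z, hZ⟩ := exists_isSylowIn q M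
      obtain ⟨P, N, hN, hc⟩ := hasNormalPComplement_of_nilpotent_maximal hmax hnil h2 hcore hqM
      obtain ⟨T, hT⟩ := hZ.2.1.exists_le_sylow
      have hTM : (T : Subgroup G) = Z := by
        by_contra hne
        have h4 := Transfer.lt_inf_normalizer T (lt_of_le_of_ne hT (Ne.symm hne))
        have hZn : (M : Subgroup G) ≤ normalizer (Z : Set G) := by
          obtain ⟨ZS, hZS⟩ := isSylowIn_iff.mp hZ
          have hn : (ZS : Subgroup M).Normal := isNilpotent_iff_sylow_normal.mp hnil q inferInstance ZS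
          refine invariant_iff.mp fun b hb x hx => ?_
          rw [← hZS] at hx ⊢
          obtain ⟨x', hx', rfl⟩ := hx
          exact ⟨⟨b, hb⟩ * x' * ⟨b, hb⟩⁻¹, hn.conj_mem x' hx' ⟨b, hb⟩, rfl⟩
        rcases hmax.le_iff.mp hZn with h5 | h5
        · have := hcore Z (Subgroup.normalizer_eq_top_iff.mp h5) hZ.1
          have h6 := hZ.card
          rw [this, Subgroup.card_bot] at h6
          have h' := hq.out.factorization_pos_of_dvd Nat.card_pos.ne' hqM
          exact absurd h6.symm (Nat.one_lt_pow h'.ne' hq.out.one_lt).ne'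
        · rw [h5] at h4
          exact hne (le_antisymm ((hZ.eq_of_le h4.le inf_le_right (T.isPGroup'.to_le inf_le_left)) ▸ h4).false.elim hT)
      refine ⟨T, ⟨le_top, T.isPGroup', ?_⟩, hTM ▸ hZ.1⟩
      rw [Subgroup.relIndex_top_right]
      exact T.not_dvd_index
    · refine ⟨Y, hY, fun y hy => ?_⟩
      obtain ⟨i, hi⟩ := hY.2.1 ⟨y, hy⟩
      have hyL : y ∈ L := Subgroup.subset_closure (show (orderOf y).Coprime (Nat.card M) from
        Nat.Coprime.coprime_dvd_left (orderOf_dvd_of_pow_eq_one (congrArg Subtype.val hi))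
          ((hq.out.coprime_iff_not_dvd.mpr hqM).pow_left i))
      rw [hL1, Subgroup.mem_bot] at hyL
      rw [hyL]; exact M.one_mem
  obtain ⟨q, hq, hqL⟩ := Nat.exists_prime_and_dvd (fun e => hLM ((Subgroup.card_eq_one.mp e) ▸ bot_le) : Nat.card L ≠ 1)
  haveI := Fact.mk hq
  haveI : Group.IsNilpotent M := hnil
  have hMLn : M ≤ normalizer (L : Set G) := by rw [Subgroup.normalizer_eq_top]; exact le_top
  obtain ⟨Q, hQ, hQn⟩ := exists_invariant_sylow M L hMLn hcop (Or.inl inferInstance) q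
  have hQ1 : ¬ Q ≤ M := by
    intro h
    have h1 : Nat.card Q = 1 := Nat.eq_one_of_dvd_coprimes hcop (Subgroup.card_dvd_of_le h) (Subgroup.card_dvd_of_le hQ.1)
    rw [hQ.card] at h1
    exact absurd h1 (Nat.one_lt_pow (hq.factorization_pos_of_dvd Nat.card_pos.ne' hqL).ne' hq.one_lt).ne'
  have htop : M ⊔ Q = ⊤ := hmax.2 _ (lt_of_le_not_ge le_sup_left fun h => hQ1 (le_sup_right.trans h))
  have hLQ : L ≤ Q := by
    intro l hl
    have hm : l ∈ ((M ⊔ Q : Subgroup G) : Set G) := by rw [htop]; trivial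
    rw [Subgroup.coe_mul_of_left_le_normalizer_right _ _ hQn] at hm
    obtain ⟨a, ha, b, hb, rfl⟩ := hm
    have haL : a ∈ L := by simpa using L.mul_mem hl (L.inv_mem (hQ.1 hb))
    have : a ∈ M ⊓ L := ⟨ha, haL⟩
    rw [Subgroup.inf_eq_bot_of_coprime hcop, Subgroup.mem_bot] at this
    show a * b ∈ Q
    rw [this, one_mul]; exact hb
  haveI : Group.IsNilpotent L := (hQ.2.1.to_le hLQ).isNilpotent
  haveI : Group.IsSolvable L := inferInstance
  have hsup : M ⊔ L = ⊤ := hmax.2 _ (lt_of_le_not_ge le_sup_left fun h => hLM (le_sup_right.trans h))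
  let f : ↥M →* G ⧸ L := (QuotientGroup.mk' L).comp M.subtype
  have hf : Function.Surjective f := by
    intro y
    obtain ⟨g, rfl⟩ := QuotientGroup.mk'_surjective L y
    have hm : g ∈ ((M ⊔ L : Subgroup G) : Set G) := by rw [hsup]; trivial
    rw [Subgroup.coe_mul_of_left_le_normalizer_right _ _ hMLn] at hm
    obtain ⟨a, ha, b, hb, rfl⟩ := hm
    refine ⟨⟨a, ha⟩, ?_⟩
    show QuotientGroup.mk' L a = _
    rw [map_mul, show QuotientGroup.mk' L b = 1 from (QuotientGroup.eq_one_iff b).mpr hb, mul_one]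
  haveI : Group.IsSolvable (G ⧸ L) := Group.isSolvable_of_surjective hf
  exact Group.isSolvable_of_ker_le_range L.subtype (QuotientGroup.mk' L) (by simp)

/-- A finite group with a nilpotent maximal subgroup of class at most two is soluble. -/
theorem isSolvable_of_nilpotent_maximal (H : Type u) [Group H] [Finite H] (M : Subgroup H) (hmax : IsCoatom M)
    (hnil : Group.IsNilpotent M) (h2 : ⁅⁅M, M⁆, M⁆ = ⊥) : Group.IsSolvable H := by
  by_cases hcore : ∀ N : Subgroup H, N.Normal → N ≤ M → N = ⊥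
  · exact isSolvable_of_nilpotent_maximal_coreFree hmax hnil h2 hcore
  · have hC : M.normalCore ≠ ⊥ := fun e => hcore fun N hN hle =>
      le_bot_iff.mp (e ▸ (Subgroup.normal_le_normalCore.mpr hle))
    set C := M.normalCore
    set f := QuotientGroup.mk' C
    have hfs : Function.Surjective f := QuotientGroup.mk'_surjective C
    have hle : C ≤ M := Subgroup.normalCore_le M
    have hker : f.ker ≤ M := by rw [QuotientGroup.ker_mk']; exact hle
    have hmax' : IsCoatom (M.map f) := by
      have hcm : (M.map f).comap f = M := by rw [Subgroup.comap_map_eq, sup_eq_left.mpr hker]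
      refine ⟨fun e => hmax.1 (by rw [← hcm, e, Subgroup.comap_top]), fun K hK => ?_⟩
      have hlt' : M < K.comap f := by
        conv_lhs => rw [← hcm]
        exact (Subgroup.comap_lt_comap_of_surjective hfs).mpr hK
      rw [← Subgroup.map_comap_eq_self_of_surjective hfs K, hmax.2 _ hlt', Subgroup.map_top_of_surjective f hfs]
    have hnil' : Group.IsNilpotent ↥(M.map f) :=
      Group.nilpotent_of_surjective (f.subgroupMap M) (f.subgroupMap_surjective M)
    have h2' : ⁅⁅M.map f, M.map f⁆, M.map f⁆ = ⊥ := by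
      rw [← Subgroup.map_commutator, ← Subgroup.map_commutator, h2, Subgroup.map_bot]
    have hlt : Nat.card (H ⧸ C) < Nat.card H := by
      rw [← Subgroup.index_eq_card]
      have := C.card_mul_index
      have h1 : 1 < Nat.card C := (Subgroup.one_lt_card_iff_ne_bot C).mpr hC
      nlinarith [Nat.pos_of_ne_zero (C.index_ne_zero_of_finite)]
    haveI := isSolvable_of_nilpotent_maximal (H ⧸ C) (M.map f) hmax' hnil' h2'
    haveI : Group.IsNilpotent ↥C := by
      haveI := hnil
      exact Group.nilpotent_of_mulEquiv (Subgroup.subgroupOfEquivOfLe hle)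
    exact Group.isSolvable_of_ker_le_range C.subtype f (by simp [f])
termination_by Nat.card H
decreasing_by exact hlt

end Cfsg.Agent.Grp
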