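import Mathlib.Combinatorics.SimpleGraph.Diam

/-! Diameter two criterion. -/

set_option autoImplicit false

namespace Cfsg.Agent.OddGraph

theorem diam_two {V : Type*} (G : SimpleGraph V)
    (hmid : ∀ x y : V, x ≠ y → ¬ G.Adj x y → ∃ z, G.Adj x z ∧ G.Adj z y)
    (hfar : ∃ x y : V, x ≠ y ∧ ¬ G.Adj x y) : G.Connected ∧ G.diam = 2 := by
  have hle : ∀ x y : V, ∃ p : G.Walk x y, p.length ≤ 2 := fun x y => by
    by_cases hxy : x = y
    · subst hxy
      exact ⟨SimpleGraph.Walk.nil, by simp⟩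
    by_cases ha : G.Adj x y
    · exact ⟨ha.toWalk, by simp⟩
    · obtain ⟨z, h1, h2⟩ := hmid x y hxy ha
      exact ⟨SimpleGraph.Walk.cons h1 h2.toWalk, by simp⟩
  obtain ⟨a, b, hab, hn⟩ := hfar
  haveI : Nonempty V := ⟨a⟩
  have hcon : G.Connected := ⟨fun x y => (hle x y).choose.reachable⟩
  have hed : G.ediam ≤ 2 := SimpleGraph.ediam_le_of_edist_le fun x y => by
    obtain ⟨p, hp⟩ := hle x y
    exact le_trans (SimpleGraph.edist_le p) (by exact_mod_cast hp)
  refine ⟨hcon, le_antisymm ?_ ?_⟩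
  · calc G.diam = G.ediam.toNat := rfl
      _ ≤ (2 : ℕ∞).toNat := ENat.toNat_le_toNat hed (by simp)
      _ = 2 := rfl
  · exact le_trans ((hcon a b).one_lt_dist_of_ne_of_not_adj hab hn)
      (SimpleGraph.dist_le_diam (ne_top_of_le_ne_top (by simp) hed))

end Cfsg.Agent.OddGraph
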