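import Cfsg.Agent.Lib.Grp.Coprime

/-!
# Odd groups acting on a group of exponent two modulo a subgroup

If a group of odd order acts on `R` and `R` has exponent two modulo an invariant normal subgroup `N`, then the commutator
subgroup together with `N` meets the fixed points only inside `N`: the product over the group kills it.
-/

set_option autoImplicit false

namespace Cfsg.Agent.Grp

open Subgroup
open scoped commutatorElement
open scoped Pointwise

variable {G : Type*} [Group G] [Finite G]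

/-- A fixed element of `N [R, A]` lies in `N`. -/
theorem fixed_mem_of_mem_commutator_sup {A R N : Subgroup G} (hA : Odd (Nat.card A))
    (hAR : ∀ t ∈ A, ∀ g ∈ R, t * g * t⁻¹ ∈ R) (hNR : N ≤ R) (hRN : ∀ g ∈ R, ∀ n ∈ N, g * n * g⁻¹ ∈ N)
    (hAN : ∀ t ∈ A, ∀ n ∈ N, t * n * t⁻¹ ∈ N) (hsq : ∀ g ∈ R, g * g ∈ N) {x : G} (hx : x ∈ N ⊔ ⁅R, A⁆)
    (hxR : x ∈ R) (hfix : ∀ t ∈ A, Commute t x) : x ∈ N := by
  classical
  obtain ⟨N', hN'⟩ : ∃ N' : Subgroup R, N' = N.subgroupOf R := ⟨_, rfl⟩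
  haveI : N'.Normal := ⟨fun n hn g => by
    rw [hN', mem_subgroupOf] at hn ⊢
    exact hRN g g.2 n hn⟩
  have hmem : ∀ r : R, (QuotientGroup.mk r : R ⧸ N') = 1 ↔ (r : G) ∈ N := fun r => by
    rw [QuotientGroup.eq_one_iff, hN', mem_subgroupOf]
  have hexp : ∀ z : R ⧸ N', z * z = 1 := by
    intro z
    induction z using QuotientGroup.induction_on with
    | _ r => exact (hmem (r * r)).2 (hsq r r.2)
  letI : CommGroup (R ⧸ N') :=
    { (inferInstance : Group (R ⧸ N')) with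
      mul_comm := fun a b => by
        have ha : ∀ z : R ⧸ N', z⁻¹ = z := fun z => inv_eq_of_mul_eq_one_right (hexp z)
        rw [← ha (a * b), mul_inv_rev, ha a, ha b] }
  haveI := Fintype.ofFinite A
  let c : A → R →* R := fun t =>
    { toFun := fun g => ⟨(t : G) * g * (t : G)⁻¹, hAR t t.2 g g.2⟩
      map_one' := Subtype.ext (by simp)
      map_mul' := fun g h => Subtype.ext (by simp only [Subgroup.coe_mul]; group) }
  let ν : R →* R ⧸ N' :=
    { toFun := fun g => ∏ t : A, QuotientGroup.mk' N' (c t g)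
      map_one' := by simp
      map_mul' := fun g h => by simp only [map_mul, Finset.prod_mul_distrib] }
  obtain ⟨M, hM⟩ : ∃ M : Subgroup G, M = ν.ker.map R.subtype := ⟨_, rfl⟩
  have hle : N ⊔ ⁅R, A⁆ ≤ M := by
    refine sup_le (fun n hn => hM ▸ ⟨⟨n, hNR hn⟩, ?_, rfl⟩) ((Subgroup.commutator_le).2 fun g hg s hs => ?_)
    · refine MonoidHom.mem_ker.2 (Finset.prod_eq_one fun t _ => ?_)
      exact (hmem _).2 (hAN t t.2 n hn)
    have hs' : s * g⁻¹ * s⁻¹ ∈ R := hAR s hs _ (inv_mem hg)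
    have hcs : ⁅g, s⁆ = g * (s * g⁻¹ * s⁻¹) := by rw [commutatorElement_def]; group
    have key : ∀ r : R, ν (c ⟨s, hs⟩ r) = ν r := fun r => by
      show ∏ t : A, QuotientGroup.mk' N' (c t (c ⟨s, hs⟩ r)) = ∏ t : A, QuotientGroup.mk' N' (c t r)
      rw [← Equiv.prod_comp (Equiv.mulRight (⟨s, hs⟩ : A)) fun t => QuotientGroup.mk' N' (c t r)]
      refine Finset.prod_congr rfl fun t _ => congrArg _ (Subtype.ext ?_)
      simp only [c, MonoidHom.coe_mk, OneHom.coe_mk, Equiv.coe_mulRight, Subgroup.coe_mul]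
      group
    refine hM ▸ ⟨⟨g, hg⟩ * c ⟨s, hs⟩ ⟨g⁻¹, inv_mem hg⟩, MonoidHom.mem_ker.2 ?_, hcs.symm⟩
    rw [map_mul, key, ← map_mul, show (⟨g, hg⟩ : R) * ⟨g⁻¹, inv_mem hg⟩ = 1 from Subtype.ext (mul_inv_cancel g),
      map_one]
  obtain ⟨r, hr, hrx⟩ := hM ▸ hle hx
  have hrx' : (r : G) = x := hrx
  have h1 : ∀ t : A, c t r = r := fun t => Subtype.ext (by
    show (t : G) * r * (t : G)⁻¹ = r
    rw [hrx', (hfix t t.2).eq, mul_inv_cancel_right])
  have h2 : ν r = 1 := MonoidHom.mem_ker.1 hr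
  change ∏ t : A, QuotientGroup.mk' N' (c t r) = 1 at h2
  simp only [h1, Finset.prod_const, Finset.card_univ, ← Nat.card_eq_fintype_card] at h2
  obtain ⟨m, hm⟩ := hA
  rw [hm, pow_succ, pow_mul, pow_two, hexp, one_pow, one_mul] at h2
  exact hrx' ▸ (hmem r).1 h2

end Cfsg.Agent.Grp
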