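import Cfsg.Prelude.Def_HallClasses
import Cfsg.Agent.Lib.Grp.PiSeparableDPi

/-!
The class `C_π` is closed under extensions, granted that of two groups of coprime orders one is solvable.
-/

set_option autoImplicit false

namespace Cfsg.Agent.Grp.PiSep

open scoped Pointwise
open Subgroup

universe u

variable {π : Set ℕ} {G : Type u} [Group G] [Finite G]

theorem hall_card_eq {K L : Subgroup G} (hK : Cfsg.IsPiHall π K) (hL : Cfsg.IsPiHall π L) :
    Nat.card K = Nat.card L := by
  have key : ∀ {K L : Subgroup G}, Cfsg.IsPiHall π K → Cfsg.IsPiHall π L → Nat.card K ∣ Nat.card L := by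
    intro K L hK hL
    refine (coprime_of hK.1 hL.2).dvd_of_dvd_mul_right ?_
    rw [L.card_mul_index]
    exact K.card_subgroup_dvd_card
  exact Nat.dvd_antisymm (key hK hL) (key hL hK)

theorem hall_eq_of_le {K L : Subgroup G} (hK : Cfsg.IsPiHall π K) (hL : Cfsg.IsPiHall π L) (h : K ≤ L) : K = L :=
  Subgroup.eq_of_le_of_card_ge h (hall_card_eq hK hL).ge

theorem hall_equiv {P : Type u} [Group P] (e : G ≃* P) {K : Subgroup G} (hK : Cfsg.IsPiHall π K) :
    Cfsg.IsPiHall π (K.map e.toMonoidHom) :=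
  ⟨fun q hq h => hK.1 q hq (by rwa [Subgroup.card_map_of_injective e.injective] at h),
    fun q hq hπ h => hK.2 q hq hπ (h.trans (Subgroup.index_map_dvd K e.surjective))⟩

theorem cPi_equiv {P : Type u} [Group P] [Finite P] (e : G ≃* P) (h : Cfsg.IsCPiGroup π P) :
    Cfsg.IsCPiGroup π G := by
  obtain ⟨⟨K, hK⟩, hc⟩ := h
  refine ⟨⟨_, hall_equiv e.symm hK⟩, fun A B hA hB => ?_⟩
  obtain ⟨g, hg⟩ := hc _ _ (hall_equiv e hA) (hall_equiv e hB)
  refine ⟨e.symm g, Subgroup.map_injective (f := e.toMonoidHom) e.injective ?_⟩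
  rw [hg, Subgroup.map_map, Subgroup.map_map]
  congr 1
  ext x
  simp

theorem card_split (K N : Subgroup G) [N.Normal] :
    Nat.card K = Nat.card (N.subgroupOf K) * Nat.card (K.map (QuotientGroup.mk' N)) := by
  have hker : ((QuotientGroup.mk' N).comp K.subtype).ker = N.subgroupOf K := by
    ext x
    rw [MonoidHom.mem_ker, Subgroup.mem_subgroupOf, MonoidHom.comp_apply, QuotientGroup.mk'_apply,
      QuotientGroup.eq_one_iff]
    rfl
  have h := Subgroup.index_ker ((QuotientGroup.mk' N).comp K.subtype)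
  rw [MonoidHom.range_comp, Subgroup.range_subtype, hker] at h
  rw [← h, Subgroup.card_mul_index]

theorem index_eq {K X : Subgroup G} {m : ℕ} (h : Nat.card X = Nat.card K * m) : K.index = m * X.index :=
  Nat.eq_of_mul_eq_mul_left Nat.card_pos (by rw [K.card_mul_index, ← mul_assoc, ← h, X.card_mul_index])

/-- Lifting through a normal `π'`-subgroup. -/
theorem cPi_free (hsolv : ∀ (N H : Subgroup G), (Nat.card N).Coprime (Nat.card H) →
      Group.IsSolvable N ∨ Group.IsSolvable H)
    (N : Subgroup G) [N.Normal] (hN : PiFree π (Nat.card N)) (hQ : Cfsg.IsCPiGroup π (G ⧸ N)) :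
    Cfsg.IsCPiGroup π G := by
  obtain ⟨⟨L, hL⟩, hc⟩ := hQ
  have hnorm : ∀ V : Subgroup G, V ≤ Subgroup.normalizer (N : Set G) := fun V => by
    rw [Subgroup.normalizer_eq_top]; exact le_top
  refine ⟨?_, fun A B hA hB => ?_⟩
  · set X := L.comap (QuotientGroup.mk' N) with hX
    have hNX : N ≤ X := fun x hx => by
      rw [hX, Subgroup.mem_comap, QuotientGroup.mk'_apply, (QuotientGroup.eq_one_iff x).2 hx]
      exact one_mem _
    have hcX : Nat.card X = Nat.card N * Nat.card L := card_comap L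
    have hcN : Nat.card (N.subgroupOf X) = Nat.card N :=
      Nat.card_congr (Subgroup.subgroupOfEquivOfLe hNX).toEquiv
    have hidx : (N.subgroupOf X).index = Nat.card L := by
      have := (N.subgroupOf X).card_mul_index
      rw [hcN, hcX] at this
      exact Nat.eq_of_mul_eq_mul_left Nat.card_pos this
    obtain ⟨H, hH⟩ := Subgroup.exists_right_complement'_of_coprime (N := N.subgroupOf X)
      (by rw [hcN, hidx]; exact (coprime_of hL.1 hN).symm)
    have hcH : Nat.card (H.map X.subtype) = Nat.card L := by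
      have := hH.card_mul_card
      rw [hcN, hcX] at this
      rw [Subgroup.card_map_of_injective X.subtype_injective]
      exact Nat.eq_of_mul_eq_mul_left Nat.card_pos this
    refine ⟨H.map X.subtype, fun q hq h => hL.1 q hq (hcH ▸ h), ?_⟩
    rw [index_eq (X := X) (m := Nat.card N) (by rw [hcH, hcX, mul_comm]),
      show X.index = L.index from Subgroup.index_comap_of_surjective L (QuotientGroup.mk'_surjective N)]
    exact PiFree.mul hN hL.2
  · obtain ⟨gb, hg⟩ := hc _ _ (map_hall (N := N) hA) (map_hall (N := N) hB)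
    obtain ⟨g, rfl⟩ := QuotientGroup.mk'_surjective N gb
    rw [map_conj_eq_smul, conj_smul_map] at hg
    have hA' : Cfsg.IsPiHall π (MulAut.conj g • A) := hall_conj hA g
    have hle : B ≤ N ⊔ MulAut.conj g • A := by
      rw [sup_comm, ← comap_map_eq']
      exact fun x hx => hg ▸ ⟨x, hx, rfl⟩
    obtain ⟨n, -, hn⟩ := exists_conj_of_le_sup (hnorm _) hle (hall_card_eq hB hA') (coprime_of hA'.1 hN).symm
      (hsolv N _ (coprime_of hA'.1 hN).symm)
    refine ⟨n * g, ?_⟩
    rw [map_conj_eq_smul, ← hn, conj_smul_conj_smul]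

/-- Lifting through a normal `π`-subgroup. -/
theorem cPi_pi (N : Subgroup G) [N.Normal] (hN : PiNum π (Nat.card N)) (hQ : Cfsg.IsCPiGroup π (G ⧸ N)) :
    Cfsg.IsCPiGroup π G := by
  obtain ⟨⟨L, hL⟩, hc⟩ := hQ
  have hlift : ∀ L : Subgroup (G ⧸ N), Cfsg.IsPiHall π L → Cfsg.IsPiHall π (L.comap (QuotientGroup.mk' N)) :=
    fun L hL => ⟨by rw [card_comap]; exact PiNum.mul hN hL.1,
      by rw [Subgroup.index_comap_of_surjective L (QuotientGroup.mk'_surjective N)]; exact hL.2⟩
  refine ⟨⟨_, hlift L hL⟩, fun A B hA hB => ?_⟩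
  have habs : ∀ A : Subgroup G, Cfsg.IsPiHall π A → (A.map (QuotientGroup.mk' N)).comap (QuotientGroup.mk' N) = A :=
    fun A hA => (hall_eq_of_le hA (hlift _ (map_hall hA)) (Subgroup.le_comap_map _ _)).symm
  obtain ⟨gb, hg⟩ := hc _ _ (map_hall (N := N) hA) (map_hall (N := N) hB)
  obtain ⟨g, rfl⟩ := QuotientGroup.mk'_surjective N gb
  refine ⟨g, ?_⟩
  rw [map_conj_eq_smul, conj_smul_map] at hg
  rw [map_conj_eq_smul, ← habs B hB, hg, habs _ (hall_conj hA g)]

/-- Extensions. -/
theorem cPi_extension (hsolv : ∀ (A B : Type u) [Group A] [Group B] [Finite A] [Finite B],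
      (Nat.card A).Coprime (Nat.card B) → Group.IsSolvable A ∨ Group.IsSolvable B)
    (A : Subgroup G) [A.Normal] (hA : Cfsg.IsCPiGroup π A) (hQ : Cfsg.IsCPiGroup π (G ⧸ A)) :
    Cfsg.IsCPiGroup π G := by
  obtain ⟨⟨H₀, hH₀⟩, hcA⟩ := hA
  set H := H₀.map A.subtype with hH
  have hcH : Nat.card H = Nat.card H₀ := Subgroup.card_map_of_injective A.subtype_injective
  have hHA : H ≤ A := Subgroup.map_subtype_le _
  set N : Subgroup G := Subgroup.normalizer (H : Set G) with hNdef
  have key : ∀ X : Subgroup G, X ≤ A → Cfsg.IsPiHall π (X.subgroupOf A) →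
      ∃ a ∈ A, MulAut.conj a • X = H := by
    intro X hX hXh
    obtain ⟨a, ha⟩ := hcA _ _ hXh hH₀
    refine ⟨a, a.2, ?_⟩
    have h2 := congrArg (Subgroup.map A.subtype) ha
    rw [map_conj_eq_smul, ← conj_smul_map, Subgroup.map_subgroupOf_eq_of_le hX] at h2
    exact h2.symm
  have hfr : ∀ g : G, ∃ a ∈ A, a * g ∈ N := by
    intro g
    have hX : MulAut.conj g • H ≤ A := by
      rw [← mem_normalizer_iff_smul.mp (show g ∈ Subgroup.normalizer (A : Set G) by
        rw [Subgroup.normalizer_eq_top]; trivial)]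
      exact Subgroup.pointwise_smul_le_pointwise_smul_iff.2 hHA
    have hc : Nat.card ↥((MulAut.conj g • H).subgroupOf A) = Nat.card H₀ := by
      rw [Nat.card_congr (Subgroup.subgroupOfEquivOfLe hX).toEquiv, card_conj_smul, hcH]
    obtain ⟨a, ha, e⟩ := key _ hX ⟨fun q hq h => hH₀.1 q hq (hc ▸ h), by
      rw [index_eq (X := H₀) (m := 1) (by rw [hc, mul_one]), one_mul]; exact hH₀.2⟩
    exact ⟨a, ha, mem_normalizer_iff_smul.2 (by rw [← conj_smul_conj_smul]; exact e)⟩
  haveI hH'n : (H.subgroupOf N).Normal := Subgroup.normal_in_normalizer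
  set B := A.subgroupOf N with hB
  set H' := H.subgroupOf N with hH'
  have hH'B : H' ≤ B := fun x hx => hHA hx
  have hcH' : Nat.card H' = Nat.card H₀ := by
    rw [hH', Nat.card_congr (Subgroup.subgroupOfEquivOfLe (Subgroup.le_normalizer (H := H))).toEquiv, hcH]
  let f : N →* G ⧸ A := (QuotientGroup.mk' A).comp N.subtype
  have hfsurj : Function.Surjective f := fun x => by
    obtain ⟨g, rfl⟩ := QuotientGroup.mk'_surjective A x
    obtain ⟨a, ha, hag⟩ := hfr g
    refine ⟨⟨a * g, hag⟩, ?_⟩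
    show QuotientGroup.mk' A (a * g) = _
    rw [map_mul, QuotientGroup.mk'_apply A a, (QuotientGroup.eq_one_iff a).2 ha, one_mul]
  have hker : f.ker = B := by
    ext x
    rw [MonoidHom.mem_ker, hB, Subgroup.mem_subgroupOf]
    exact QuotientGroup.eq_one_iff _
  have hNB : Cfsg.IsCPiGroup π (↥N ⧸ B) :=
    cPi_equiv ((QuotientGroup.quotientMulEquivOfEq hker.symm).trans
      (QuotientGroup.quotientKerEquivOfSurjective f hfsurj)) hQ
  set B' := B.map (QuotientGroup.mk' H') with hB'
  have hcB : Nat.card B = Nat.card H₀ * Nat.card B' := by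
    have := card_comap (N := H') B'
    rwa [hB', comap_map_eq', sup_eq_left.2 hH'B, hcH'] at this
  have hcA' : Nat.card A = Nat.card B * N.index := by
    have h1 : Nat.card N = Nat.card B * Nat.card (G ⧸ A) := by
      rw [← B.card_mul_index, ← Nat.card_congr (QuotientGroup.quotientKerEquivOfSurjective f hfsurj).toEquiv,
        ← Subgroup.index_eq_card, hker]
    refine Nat.eq_of_mul_eq_mul_right (Nat.card_pos (α := G ⧸ A)) ?_
    rw [← Subgroup.index_eq_card A, A.card_mul_index, ← N.card_mul_index, h1, ← Subgroup.index_eq_card A]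
    ring
  have hidx0 : H₀.index = Nat.card B' * N.index := by
    refine Nat.eq_of_mul_eq_mul_left (Nat.card_pos (α := H₀)) ?_
    rw [H₀.card_mul_index, hcA', hcB, mul_assoc]
  have hfreeB : PiFree π (Nat.card B') := fun q hq hπ h => hH₀.2 q hq hπ (hidx0 ▸ h.mul_right _)
  have hfreeN : PiFree π N.index := fun q hq hπ h => hH₀.2 q hq hπ (hidx0 ▸ h.mul_left _)
  haveI : B'.Normal := Subgroup.Normal.map inferInstance _ (QuotientGroup.mk'_surjective _)
  have hQN : Cfsg.IsCPiGroup π (↥N ⧸ H') :=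
    cPi_free (fun X Y => hsolv X Y) B' hfreeB
      (cPi_equiv (QuotientGroup.quotientQuotientEquivQuotient H' B hH'B) hNB)
  obtain ⟨⟨L, hL⟩, hcN⟩ := cPi_pi H' (by rw [hcH']; exact hH₀.1) hQN
  have hcL : Nat.card (L.map N.subtype) = Nat.card L := Subgroup.card_map_of_injective N.subtype_injective
  refine ⟨⟨L.map N.subtype, fun q hq h => hL.1 q hq (hcL ▸ h), ?_⟩, ?_⟩
  · rw [Subgroup.index_map_subtype]
    exact PiFree.mul hL.2 hfreeN
  have push : ∀ K : Subgroup G, Cfsg.IsPiHall π K →
      ∃ a : G, MulAut.conj a • K ≤ N := by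
    intro K hK
    have hc := card_split K A
    set r := (K.subgroupOf A).index with hr
    have e1 : Nat.card A = Nat.card (A.subgroupOf K) * r := by
      rw [← (K.subgroupOf A).card_mul_index]
      congr 1
      rw [← Subgroup.card_map_of_injective (K := K.subgroupOf A) A.subtype_injective,
        ← Subgroup.card_map_of_injective (K := A.subgroupOf K) K.subtype_injective,
        Subgroup.subgroupOf_map_subtype, Subgroup.subgroupOf_map_subtype, inf_comm]
    have e2 : K.index = r * (K.map (QuotientGroup.mk' A)).index := by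
      refine Nat.eq_of_mul_eq_mul_left (Nat.card_pos (α := K)) ?_
      rw [K.card_mul_index, ← A.card_mul_index, Subgroup.index_eq_card A,
        ← (K.map (QuotientGroup.mk' A)).card_mul_index, e1, hc]
      ring
    have hsub : Cfsg.IsPiHall π ((K ⊓ A).subgroupOf A) := by
      rw [Subgroup.inf_subgroupOf_right]
      refine ⟨fun q hq h => hK.1 q hq (h.trans ?_), fun q hq hπ h => hK.2 q hq hπ (e2 ▸ h.mul_right _)⟩
      rw [← Subgroup.card_map_of_injective (K := K.subgroupOf A) A.subtype_injective, Subgroup.subgroupOf_map_subtype]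
      exact Subgroup.card_dvd_of_le inf_le_left
    obtain ⟨a, ha, e⟩ := key _ inf_le_right hsub
    refine ⟨a, fun x hx => mem_normalizer_iff_smul.2 ?_⟩
    have hAa : MulAut.conj a • A = A := conj_smul_eq_self_of_mem ha
    rw [← e, Subgroup.smul_inf, hAa, Subgroup.smul_inf, conj_smul_eq_self_of_mem hx,
      mem_normalizer_iff_smul.mp (show x ∈ Subgroup.normalizer (A : Set G) by
        rw [Subgroup.normalizer_eq_top]; trivial)]
  intro K₁ K₂ hK₁ hK₂
  obtain ⟨a, ha⟩ := push K₁ hK₁
  obtain ⟨b, hb⟩ := push K₂ hK₂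
  have sub : ∀ K : Subgroup G, Cfsg.IsPiHall π K → K ≤ N → Cfsg.IsPiHall π (K.subgroupOf N) := fun K hK hle =>
    ⟨fun q hq h => hK.1 q hq (by rwa [Nat.card_congr (Subgroup.subgroupOfEquivOfLe hle).toEquiv] at h),
      fun q hq hπ h => hK.2 q hq hπ ((Subgroup.relIndex_mul_index hle) ▸ h.mul_right _)⟩
  obtain ⟨g, hg⟩ := hcN _ _ (sub _ (hall_conj hK₁ a) ha) (sub _ (hall_conj hK₂ b) hb)
  have h2 := congrArg (Subgroup.map N.subtype) hg
  rw [map_conj_eq_smul, ← conj_smul_map, Subgroup.map_subgroupOf_eq_of_le hb,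
    Subgroup.map_subgroupOf_eq_of_le ha, conj_smul_conj_smul] at h2
  refine ⟨b⁻¹ * ((g : G) * a), ?_⟩
  rw [map_conj_eq_smul, ← conj_smul_conj_smul b⁻¹]
  rw [show N.subtype g = (g : G) from rfl] at h2
  rw [← h2, conj_smul_conj_smul, inv_mul_cancel, map_one, one_smul]

/-- The statement, from the odd order hypothesis. -/
theorem cPi (hodd : ∀ (K : Type u) [Group K] [Finite K], Odd (Nat.card K) → Group.IsSolvable K)
    (A : Subgroup G) [A.Normal] (hA : Cfsg.IsCPiGroup π A) (hQ : Cfsg.IsCPiGroup π (G ⧸ A)) :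
    Cfsg.IsCPiGroup π G :=
  cPi_extension (fun A B _ _ _ _ hcop => by
    rcases Nat.even_or_odd (Nat.card A) with hA | hA
    · rcases Nat.even_or_odd (Nat.card B) with hB | hB
      · exact absurd (Nat.eq_one_of_dvd_coprimes hcop hA.two_dvd hB.two_dvd) (by norm_num)
      · exact Or.inr (hodd B hB)
    · exact Or.inl (hodd A hA)) A hA hQ

end Cfsg.Agent.Grp.PiSep
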