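import Mathlib
import Cfsg.Agent.Lib.Grp.HallSystem
import Cfsg.Agent.Lib.Grp.PSolvable
import Cfsg.Agent.Lib.Grp.Coprime

/-!
Groups whose elements of `π`-order form a subgroup.
-/

namespace Cfsg.Agent.Grp.PiEl

open scoped Pointwise
open Subgroup

universe u

variable {G : Type u} [Group G] {π : Set ℕ}

/-- All prime divisors of the order lie in the set. -/
def PiElem (π : Set ℕ) (x : G) : Prop := ∀ p : ℕ, p.Prime → p ∣ orderOf x → p ∈ π

/-- The `π`-elements form a subgroup. -/
def PiClosed (π : Set ℕ) (G : Type u) [Group G] : Prop :=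
  ∃ K : Subgroup G, ∀ x : G, x ∈ K ↔ PiElem π x

/-- A `π`-element normalizing a `π'`-subgroup centralizes it. -/
def Central (π : Set ℕ) (G : Type u) [Group G] : Prop :=
  ∀ (x : G) (Q : Subgroup G), PiElem π x → (∀ p : ℕ, p.Prime → p ∣ Nat.card Q → p ∉ π) →
    x ∈ Subgroup.normalizer (Q : Set G) → x ∈ Subgroup.centralizer (Q : Set G)

theorem PiElem.map {H : Type*} [Group H] {x : G} (hx : PiElem π x) (f : G →* H) : PiElem π (f x) :=
  fun p hp h => hx p hp (h.trans (orderOf_map_dvd f x))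

theorem piElem_map_iff {H : Type*} [Group H] (f : G →* H) (hf : Function.Injective f) (x : G) :
    PiElem π (f x) ↔ PiElem π x := by
  unfold PiElem; rw [orderOf_injective f hf]

theorem piElem_of_map [Finite G] {H : Type*} [Group H] (f : G →* H) (hker : ∀ l ∈ f.ker, PiElem π l) {x : G}
    (h : PiElem π (f x)) : PiElem π x := by
  intro p hp hd
  have h1 : x ^ orderOf (f x) ∈ f.ker := by rw [MonoidHom.mem_ker, map_pow, pow_orderOf_eq_one]
  have h2 : orderOf x ∣ orderOf (f x) * orderOf (x ^ orderOf (f x)) :=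
    orderOf_dvd_of_pow_eq_one (by rw [pow_mul, pow_orderOf_eq_one])
  exact (hp.dvd_mul.mp (hd.trans h2)).elim (h p hp) (hker _ h1 p hp)

theorem card_pi_of_forall [Finite G] {H : Subgroup G} (h : ∀ x ∈ H, PiElem π x) {p : ℕ} (hp : p.Prime)
    (hd : p ∣ Nat.card H) : p ∈ π := by
  have := Fact.mk hp
  obtain ⟨x, hx⟩ := exists_prime_orderOf_dvd_card' (G := H) p hd
  exact h x x.2 p hp (by rw [Subgroup.orderOf_coe, hx])

theorem central_of_normalizer_centralizer [Finite G] (hhom : ∀ H : Subgroup G, H ≠ ⊥ →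
    (∀ p : ℕ, p.Prime → p ∣ Nat.card ↥H → p ∉ π) →
    ∀ p : ℕ, p.Prime → p ∣ (Subgroup.centralizer (H : Set G)).relIndex (Subgroup.normalizer (H : Set G)) → p ∉ π) :
    Central π G := by
  intro x Q hx hQ hxN
  by_cases hQ1 : Q = ⊥
  · refine Subgroup.mem_centralizer_iff.mpr fun b hb => ?_
    rw [hQ1, Subgroup.coe_bot, Set.mem_singleton_iff] at hb
    subst hb; simp
  refine HallSys.mem_of_coprime_relIndex ?_ hxN
    (Nat.coprime_of_dvd fun p hp h1 h2 => hhom Q hQ1 hQ p hp h2 (hx p hp h1))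
  intro a ha
  have key : ∀ a ∈ Subgroup.normalizer (Q : Set G), ∀ y ∈ Subgroup.centralizer (Q : Set G),
      a * y * a⁻¹ ∈ Subgroup.centralizer (Q : Set G) := by
    intro a ha y hy
    refine Subgroup.mem_centralizer_iff.mpr fun u hu => ?_
    have hu' : a⁻¹ * u * a ∈ Q := (Subgroup.mem_normalizer_iff''.mp ha u).mp hu
    have hc := Subgroup.mem_centralizer_iff.mp hy _ hu'
    calc u * (a * y * a⁻¹) = a * (a⁻¹ * u * a * y) * a⁻¹ := by group
      _ = a * (y * (a⁻¹ * u * a)) * a⁻¹ := by rw [hc]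
      _ = a * y * a⁻¹ * u := by group
  exact Subgroup.mem_normalizer_iff.mpr fun y =>
    ⟨key a ha y, fun hy => by simpa [mul_assoc] using key a⁻¹ (inv_mem ha) _ hy⟩

theorem Central.of_injective {H : Type u} [Group H] (h : Central π G) (f : H →* G) (hf : Function.Injective f) :
    Central π H := by
  intro x Q hx hQ hxN
  have h1 := h (f x) (Q.map f) ((piElem_map_iff f hf x).mpr hx)
    (fun p hp hd => hQ p hp (hd.trans (Subgroup.card_map_of_injective hf).dvd))
    (Subgroup.le_normalizer_map f (Subgroup.mem_map_of_mem f hxN))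
  refine Subgroup.mem_centralizer_iff.mpr fun u hu => hf ?_
  rw [map_mul, map_mul]
  exact Subgroup.mem_centralizer_iff.mp h1 _ (Subgroup.mem_map_of_mem f hu)

theorem piClosed_of_mulEquiv {H : Type u} [Group H] (e : H ≃* G) (h : PiClosed π H) : PiClosed π G := by
  obtain ⟨K, hK⟩ := h
  refine ⟨K.comap e.symm.toMonoidHom, fun x => ?_⟩
  rw [Subgroup.mem_comap, hK, piElem_map_iff _ e.symm.injective]

theorem extension [Finite G] (hcen : Central π G) (K : Subgroup G) [K.Normal] (hK : PiClosed π K)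
    (hQ : PiClosed π (G ⧸ K)) : PiClosed π G := by
  obtain ⟨L₀, hL₀⟩ := hK
  obtain ⟨L₁, hL₁⟩ := hQ
  set L := L₀.map K.subtype
  have hLmem : ∀ x, x ∈ L ↔ x ∈ K ∧ PiElem π x := by
    intro x
    constructor
    · rintro ⟨y, hy, rfl⟩
      exact ⟨y.2, (piElem_map_iff _ K.subtype_injective y).mpr ((hL₀ y).mp hy)⟩
    · rintro ⟨h1, h2⟩
      exact ⟨⟨x, h1⟩, (hL₀ _).mpr ((piElem_map_iff _ K.subtype_injective ⟨x, h1⟩).mp h2), rfl⟩
  have hLn : L.Normal := ⟨fun x hx g => (hLmem _).mpr ⟨Subgroup.Normal.conj_mem inferInstance x ((hLmem x).mp hx).1 g,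
    (piElem_map_iff (MulAut.conj g).toMonoidHom (MulAut.conj g).injective x).mpr ((hLmem x).mp hx).2⟩⟩
  set f := QuotientGroup.mk' L
  have hker : ∀ l ∈ f.ker, PiElem π l := fun l hl => by
    rw [QuotientGroup.ker_mk'] at hl; exact ((hLmem l).mp hl).2
  set K' := K.map f
  have hK'n : K'.Normal := Subgroup.Normal.map inferInstance f (QuotientGroup.mk'_surjective L)
  have hK'π : ∀ p : ℕ, p.Prime → p ∣ Nat.card K' → p ∉ π := by
    intro p hp hd hπ
    have := Fact.mk hp
    obtain ⟨⟨y, hy⟩, hyo⟩ := exists_prime_orderOf_dvd_card' (G := K') p hd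
    obtain ⟨k, hk, rfl⟩ := hy
    replace hyo : orderOf (f k) = p := by rw [← hyo]; exact Subgroup.orderOf_coe (⟨f k, ⟨k, hk, rfl⟩⟩ : K')
    have h1 : PiElem π k := piElem_of_map f hker fun q hq h => by
      rw [hyo, Nat.prime_dvd_prime_iff_eq hq hp] at h; exact h ▸ hπ
    have h2 : f k = 1 := (QuotientGroup.eq_one_iff k).mpr ((hLmem k).mpr ⟨hk, h1⟩)
    rw [h2, orderOf_one] at hyo
    exact hp.one_lt.ne hyo
  have cent : ∀ x : G, PiElem π x → ∀ k ∈ K', f x * k = k * f x := by
    intro x hx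
    have hcop : (Nat.card (Subgroup.zpowers (f x))).Coprime (Nat.card K') :=
      Nat.coprime_of_dvd fun p hp h1 h2 =>
        hK'π p hp h2 (hx.map f p hp (by rwa [Nat.card_zpowers] at h1))
    suffices h : K' ≤ K' ⊓ Subgroup.centralizer {f x} from fun k hk =>
      Subgroup.mem_centralizer_iff.mp (h hk).2 (f x) rfl
    refine le_of_forall_sylow inf_le_left fun q hq => ?_
    obtain ⟨Q', hQ', hQ'x⟩ := exists_invariant_sylow (Subgroup.zpowers (f x)) K'
      (by rw [Subgroup.normalizer_eq_top]; exact le_top) hcop (Or.inl inferInstance) q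
    refine ⟨Q', hQ', le_inf hQ'.1 ?_⟩
    by_cases hQ'1 : Q' = ⊥
    · rw [hQ'1]; exact bot_le
    set R := Q'.comap f
    obtain ⟨Q, hQ⟩ := exists_isSylowIn q R
    have hRmap : R.map f = Q' := Subgroup.map_comap_eq_self_of_surjective (QuotientGroup.mk'_surjective L) _
    have hQmap : Q.map f = Q' := by
      refine IsSylowIn.eq_of_le (K := Q') ⟨hRmap ▸ Subgroup.map_mono hQ.1, hQ.2.1.map _, fun h => hQ.2.2 ?_⟩
        (hRmap ▸ Subgroup.map_mono hQ.1) le_rfl hQ'.2.1
      rw [← hRmap] at h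
      exact h.trans (relIndex_map_dvd f hQ.1)
    have hqπ : q ∉ π := by
      refine hK'π q hq.out (dvd_trans ?_ (Subgroup.card_dvd_of_le hQ'.1))
      obtain ⟨k, hk⟩ := IsPGroup.iff_card.mp hQ'.2.1
      rcases k with _ | k
      · exact absurd (Subgroup.card_eq_one.mp (by rw [hk, pow_zero])) hQ'1
      · rw [hk]; exact dvd_pow_self q k.succ_ne_zero
    have hxR : x ∈ Subgroup.normalizer (R : Set G) :=
      Subgroup.le_normalizer_comap f (hQ'x (Subgroup.mem_zpowers (f x)))
    obtain ⟨r, hr, hrx⟩ := (hQ.smul (mem_normalizer_iff_smul.mp hxR)).conj hQ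
    obtain ⟨y, hy, hye⟩ : f r ∈ Q.map f := hQmap ▸ hr
    set n := y⁻¹ * r * x
    have hn : PiElem π n := by
      refine piElem_of_map f hker ?_
      rw [map_mul, map_mul, map_inv, hye, inv_mul_cancel, one_mul]
      exact hx.map f
    have hnN : n ∈ Subgroup.normalizer (Q : Set G) := by
      show y⁻¹ * r * x ∈ _
      rw [mul_assoc]
      refine mul_mem (inv_mem (Subgroup.le_normalizer hy)) (mem_normalizer_iff_smul.mpr ?_)
      rw [map_mul, mul_smul, hrx]
    have hnC := hcen n Q hn (fun p hp hd => by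
      obtain ⟨k, hk⟩ := IsPGroup.iff_card.mp hQ.2.1
      rw [hk] at hd
      exact (Nat.prime_dvd_prime_iff_eq hp hq.out).mp (hp.dvd_of_dvd_pow hd) ▸ hqπ) hnN
    rw [← hQmap]
    rintro _ ⟨z, hz, rfl⟩
    refine Subgroup.mem_centralizer_iff.mpr fun w hw => ?_
    rw [Set.mem_singleton_iff] at hw
    subst hw
    have h1 : f (z * n) = f (n * z) := congrArg f (Subgroup.mem_centralizer_iff.mp hnC z hz)
    have h2 : f n = f x := by rw [map_mul, map_mul, map_inv, hye, inv_mul_cancel, one_mul]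
    rw [map_mul f z n, map_mul f n z, h2] at h1
    exact h1.symm
  set E := L₁.comap (QuotientGroup.mk' K)
  set E' := E.map f
  have hLK : L ≤ K := fun x hx => ((hLmem x).mp hx).1
  have hK'E' : K' ≤ E' := Subgroup.map_mono (QuotientGroup.le_comap_mk' K L₁)
  have hidx : K'.relIndex E' = Nat.card L₁ := by
    have h1 : (K'.comap f).relIndex E = K'.relIndex E' := Subgroup.relIndex_comap K' f E
    rw [Subgroup.comap_map_eq_self (by rw [QuotientGroup.ker_mk']; exact hLK)] at h1
    have h2 := Subgroup.relIndex_comap ⊥ (QuotientGroup.mk' K) E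
    rw [MonoidHom.comap_bot, QuotientGroup.ker_mk',
      Subgroup.map_comap_eq_self_of_surjective (QuotientGroup.mk'_surjective K), Subgroup.relIndex_bot_left] at h2
    exact h1.symm.trans h2
  have hL₁π : ∀ p : ℕ, p.Prime → p ∣ Nat.card L₁ → p ∈ π := fun p hp hd =>
    card_pi_of_forall (fun x hx => (hL₁ x).mp hx) hp hd
  have hZ : (K'.subgroupOf E').Normal := hK'n.subgroupOf E'
  have hcopE : (Nat.card (K'.subgroupOf E')).Coprime (K'.subgroupOf E').index := by
    refine Nat.coprime_of_dvd fun p hp h1 h2 => hK'π p hp ?_ (hL₁π p hp ?_)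
    · exact h1.trans (Nat.card_congr (Subgroup.subgroupOfEquivOfLe hK'E').toEquiv).dvd
    · exact h2.trans hidx.dvd
  obtain ⟨H₀, hH₀⟩ := Subgroup.exists_right_complement'_of_coprime hcopE
  set H := H₀.map E'.subtype
  have hHE : H ≤ E' := Subgroup.map_subtype_le _
  have hHπ : ∀ h ∈ H, PiElem π h := fun h hh p hp hd => hL₁π p hp (by
    rw [← hidx]
    have h1 := hd.trans (Subgroup.orderOf_dvd_natCard H hh)
    rwa [Subgroup.card_map_of_injective E'.subtype_injective, ← hH₀.symm.index_eq_card] at h1)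
  have hEH : E' ≤ Subgroup.normalizer (H : Set (G ⧸ L)) := by
    have hsup : K' ⊔ H = E' := by
      have h := congrArg (Subgroup.map E'.subtype) hH₀.sup_eq_top
      rwa [Subgroup.map_sup, Subgroup.map_subgroupOf_eq_of_le hK'E', ← MonoidHom.range_eq_map,
        Subgroup.range_subtype] at h
    rw [← hsup]
    refine sup_le (fun k hk => Subgroup.centralizer_le_normalizer _ ?_) Subgroup.le_normalizer
    refine Subgroup.mem_centralizer_iff.mpr fun h hh => ?_
    obtain ⟨g, rfl⟩ := QuotientGroup.mk'_surjective L h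
    exact cent g (piElem_of_map f hker (hHπ _ hh)) k hk
  refine ⟨H.comap f, fun x => ⟨fun hx => piElem_of_map f hker (hHπ _ hx), fun hx => ?_⟩⟩
  rw [Subgroup.mem_comap]
  refine HallSys.mem_of_coprime_relIndex hEH (Subgroup.mem_map_of_mem f ((hL₁ _).mpr (hx.map _)))
    (Nat.coprime_of_dvd fun p hp h1 h2 => hK'π p hp ?_ (hx.map f p hp h1))
  have h3 := h2.trans (show H.relIndex E' = H₀.index by
    conv_lhs => rw [← Subgroup.map_subgroupOf_eq_of_le hHE]
    rw [Subgroup.relIndex, Subgroup.subgroupOf, Subgroup.comap_map_eq_self_of_injective E'.subtype_injective,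
      Subgroup.subgroupOf, Subgroup.comap_map_eq_self_of_injective E'.subtype_injective]).dvd
  rw [hH₀.index_eq_card] at h3
  exact h3.trans (Nat.card_congr (Subgroup.subgroupOfEquivOfLe hK'E').toEquiv).dvd

end Cfsg.Agent.Grp.PiEl
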