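import Mathlib
import Cfsg.Agent.Lib.Grp.Basic
import Cfsg.Agent.Lib.Grp.FpfPrime
import Cfsg.Agent.Lib.Invol.RankOne
import Cfsg.Agent.S0144

/-!
Groups in which every element outside a normal nonsolvable subgroup `N` has prime power order:
the quotient by `N` is solvable.
-/

set_option autoImplicit false

namespace Cfsg.Agent.Grp.PrimePowOut

open scoped Pointwise
open Subgroup

universe u

variable {G : Type u} [Group G]

/-- An abelian `t`-subgroup of `N` normalized by a supplement `H` of `N` and centralized by `H ⊓ N`. -/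
def Core (N : Subgroup G) (t : ℕ) : Prop :=
  t.Prime ∧ ∃ H W : Subgroup G, H ⊔ N = ⊤ ∧ W ≤ N ∧ W ≠ ⊥ ∧ IsMulCommutative W ∧
    H ≤ Subgroup.normalizer (W : Set G) ∧ IsPGroup t W ∧ H ⊓ N ≤ Subgroup.centralizer (W : Set G)

variable {N : Subgroup G}

theorem eq_one_of_commute (h : ∀ x : G, x ∉ N → IsPrimePow (orderOf x)) {x w : G} (hx : x ∉ N)
    (hw : w ∈ N) (hxw : Commute x w) (hcop : (orderOf x).Coprime (orderOf w)) : w = 1 := by
  have hxwN : x * w ∉ N := fun hh => hx ((N.mul_mem_cancel_right hw).mp hh)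
  have hpp := h _ hxwN
  rw [hxw.orderOf_mul_eq_mul_orderOf_of_coprime hcop] at hpp
  obtain ⟨p, -, hu⟩ := isPrimePow_iff_unique_prime_dvd.mp hpp
  by_contra hw1
  obtain ⟨q, hq, hqw⟩ := Nat.exists_prime_and_dvd (mt orderOf_eq_one_iff.mp hw1)
  have hx1 : orderOf x ≠ 1 := fun h1 => hx (by rw [orderOf_eq_one_iff.mp h1]; exact one_mem N)
  obtain ⟨r, hr, hrx⟩ := Nat.exists_prime_and_dvd hx1
  have : q = r := (hu q ⟨hq, hqw.mul_left _⟩).trans (hu r ⟨hr, hrx.mul_right _⟩).symm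
  subst this
  exact hq.not_dvd_one (hcop ▸ Nat.dvd_gcd hrx hqw)

theorem isPow_of_not_mem (h : ∀ x : G, x ∉ N → IsPrimePow (orderOf x)) {x : G} (hx : x ∉ N) {s : ℕ}
    (hs : s.Prime) (hxs : x ^ s ∈ N) : ∃ a, orderOf x = s ^ a := by
  obtain ⟨p, k, hp, hk, e⟩ := h x hx
  rw [← Nat.prime_iff] at hp
  refine ⟨k, ?_⟩
  suffices p = s by rw [← e, this]
  by_contra hne
  have hcop : (orderOf x).Coprime s := e ▸ ((Nat.coprime_primes hp hs).mpr hne).pow_left k
  obtain ⟨m, hm⟩ := exists_pow_eq_self_of_coprime hcop.symm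
  exact hx (hm ▸ pow_mem hxs m)

variable [Finite G] [N.Normal]

theorem exists_lift (h : ∀ x : G, x ∉ N → IsPrimePow (orderOf x)) {H : Subgroup G} (hH : H ⊔ N = ⊤)
    {s : ℕ} (hs : s.Prime) {z : G ⧸ N} (hz : orderOf z = s) :
    ∃ x ∈ H, (x : G ⧸ N) = z ∧ x ∉ N ∧ x ^ s ∈ N ∧ ∃ a, orderOf x = s ^ a := by
  obtain ⟨g, rfl⟩ := QuotientGroup.mk_surjective z
  obtain ⟨x, hx, n, hn, rfl⟩ := Subgroup.mem_sup_of_normal_right.mp (hH ▸ Subgroup.mem_top g)
  have e : ((x * n : G) : G ⧸ N) = x := QuotientGroup.eq.mpr (by simpa using inv_mem hn)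
  rw [e] at hz
  have hxN : x ∉ N := fun hh => hs.ne_one (by
    rw [← hz, (QuotientGroup.eq_one_iff x).mpr hh, orderOf_one])
  have hxs : x ^ s ∈ N := by
    rw [← QuotientGroup.eq_one_iff, QuotientGroup.mk_pow, ← hz, pow_orderOf_eq_one]
  exact ⟨x, hx, e.symm, hxN, hxs, isPow_of_not_mem h hxN hs hxs⟩

theorem coprime_orderOf {W : Subgroup G} {t s a : ℕ} (ht : t.Prime) (hs : s.Prime) (hst : s ≠ t)
    (hW : IsPGroup t W) {x : G} (hx : orderOf x = s ^ a) {w : G} (hw : w ∈ W) :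
    (orderOf x).Coprime (orderOf w) := by
  have := Fact.mk ht
  obtain ⟨k, hk⟩ := IsPGroup.iff_orderOf.mp hW ⟨w, hw⟩
  rw [Subgroup.orderOf_mk] at hk
  rw [hx, hk]
  exact ((Nat.coprime_primes hs ht).mpr hst).pow _ _

/-- Fixed-point-freeness of the elements outside `N`. -/
theorem fixed_eq_one (h : ∀ x : G, x ∉ N → IsPrimePow (orderOf x)) {W : Subgroup G} (hWN : W ≤ N)
    {t s a : ℕ} (ht : t.Prime) (hs : s.Prime) (hst : s ≠ t) (hW : IsPGroup t W) {x : G} (hxN : x ∉ N)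
    (hx : orderOf x = s ^ a) {w : G} (hw : w ∈ W) (hfix : x * w * x⁻¹ = w) : w = 1 :=
  eq_one_of_commute h hxN (hWN hw) (mul_inv_eq_iff_eq_mul.mp hfix) (coprime_orderOf ht hs hst hW hx hw)

theorem even_false (h : ∀ x : G, x ∉ N → IsPrimePow (orderOf x)) {t : ℕ} (hC : Core N t) (ht2 : t ≠ 2)
    (h2 : 2 ∣ N.index) {s : ℕ} (hs : s.Prime) (hsd : s ∣ N.index) (hs2 : s ≠ 2) (hst : s ≠ t) :
    False := by
  obtain ⟨ht, H, W, hH, hWN, hW1, hWc, hHW, hWp, hK⟩ := hC
  have hx := exists_prime_orderOf_dvd_card' (G := G ⧸ N) 2 (hp := ⟨Nat.prime_two⟩)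
    (by rwa [← Subgroup.index_eq_card])
  obtain ⟨zx, hzx⟩ := hx
  have := Fact.mk hs
  obtain ⟨zy, hzy⟩ := exists_prime_orderOf_dvd_card' (G := G ⧸ N) s (by rwa [← Subgroup.index_eq_card])
  obtain ⟨x, hxH, -, hxN, hxs, a, hxa⟩ := exists_lift h hH Nat.prime_two hzx
  obtain ⟨y, hyH, -, hyN, hys, b, hyb⟩ := exists_lift h hH hs hzy
  let φ : H →* MulAut W := (W.normalizerMonoidHom).comp (Subgroup.inclusion hHW)
  have happ : ∀ (g : H) (w : W), (φ g w : G) = g * w * (g : G)⁻¹ := fun g w => rfl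
  have hker : ∀ g : H, (g : G) ∈ N → φ g = 1 := fun g hg => MulEquiv.ext fun w => Subtype.ext (by
    rw [happ, MulAut.one_apply, ← Subgroup.mem_centralizer_iff.mp (hK ⟨g.2, hg⟩) w w.2,
      mul_inv_cancel_right])
  obtain ⟨w₀, hw₀, hw₀1⟩ := W.bot_or_exists_ne_one.resolve_left hW1
  have hne : ∀ (g : G) (hg : g ∈ H) (q c : ℕ), g ∉ N → q.Prime → q ≠ t → orderOf g = q ^ c →
      φ ⟨g, hg⟩ ≠ 1 := fun g hg q c hgN hq hqt hgc e => hw₀1 (fixed_eq_one h hWN ht hq hqt hWp hgN hgc hw₀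
        (by simpa [happ] using congrArg (fun f : MulAut W => (f ⟨w₀, hw₀⟩ : G)) e))
  set X : H := ⟨x, hxH⟩
  set Y : H := ⟨y, hyH⟩
  have hX : orderOf (φ X) = 2 := by
    have := Fact.mk Nat.prime_two
    exact orderOf_eq_prime (by rw [← map_pow]; exact hker (X ^ 2) hxs)
      (hne x hxH 2 a hxN Nat.prime_two (Ne.symm ht2) hxa)
  have hY : orderOf (φ Y) = s :=
    orderOf_eq_prime (by rw [← map_pow]; exact hker (Y ^ s) hys) (hne y hyH s b hyN hs hst hyb)
  have hinv : ∀ w : W, φ X w = w⁻¹ := by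
    intro w
    have hXX : φ X (φ X w) = w := by
      rw [← MulAut.mul_apply, ← sq, ← hX, pow_orderOf_eq_one, MulAut.one_apply]
    have hfix : φ X (w * φ X w) = w * φ X w := by rw [map_mul, hXX, mul_comm']
    have := fixed_eq_one h hWN ht Nat.prime_two (Ne.symm ht2) hWp hxN hxa (w * φ X w).2
      (by simpa [happ] using congrArg Subtype.val hfix)
    exact eq_inv_of_mul_eq_one_right (Subtype.ext this)
  have hcomm : Commute (φ X) (φ Y) := MulEquiv.ext fun w => by
    rw [MulAut.mul_apply, MulAut.mul_apply, hinv, hinv, map_inv]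
  have hord : orderOf (φ (X * Y)) = 2 * s := by
    rw [map_mul, hcomm.orderOf_mul_eq_mul_orderOf_of_coprime, hX, hY]
    rw [hX, hY]
    exact (Nat.coprime_primes Nat.prime_two hs).mpr (Ne.symm hs2)
  have hXY : x * y ∉ N := fun hh => by
    have := hker (X * Y) hh
    rw [this, orderOf_one] at hord
    omega
  obtain ⟨p, -, hu⟩ := isPrimePow_iff_unique_prime_dvd.mp (h _ hXY)
  have hdvd : 2 * s ∣ orderOf (x * y) := by
    rw [← hord]
    exact (orderOf_map_dvd φ _).trans (by rw [← Subgroup.orderOf_coe]; rfl)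
  exact hs2 ((hu s ⟨hs, (dvd_mul_left s 2).trans hdvd⟩).trans
    (hu 2 ⟨Nat.prime_two, (dvd_mul_right 2 s).trans hdvd⟩).symm)

theorem isCyclic_sylow (h : ∀ x : G, x ∉ N → IsPrimePow (orderOf x)) {t : ℕ} (hC : Core N t) {q : ℕ}
    [hq : Fact q.Prime] (hqt : q ≠ t) (hq2 : q ≠ 2) (Q : Sylow q (G ⧸ N)) :
    IsCyclic (Q : Subgroup (G ⧸ N)) := by
  by_contra hnc
  obtain ⟨ht, H, W, hH, hWN, hW1, hWc, hHW, hWp, hK⟩ := hC
  have : Nontrivial Q := by
    by_contra hn
    rw [not_nontrivial_iff_subsingleton] at hn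
    exact hnc isCyclic_of_subsingleton
  have := Q.isPGroup'.center_nontrivial
  obtain ⟨z, hz⟩ : ∃ z : Subgroup.center Q, orderOf z = q := by
    obtain ⟨n, hn⟩ := IsPGroup.iff_card.mp (Q.isPGroup'.to_subgroup (Subgroup.center Q))
    refine exists_prime_orderOf_dvd_card' q (hn ▸ dvd_pow_self q fun h0 => ?_)
    rw [h0, pow_zero, Nat.card_eq_one_iff_unique] at hn
    exact not_subsingleton _ hn.1
  have hz' : orderOf (z : Q) = q := by rw [Subgroup.orderOf_coe, hz]
  have hzq : (z : Q) ^ q = 1 := orderOf_dvd_iff_pow_eq_one.mp hz'.dvd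
  obtain ⟨y, hy, hyz⟩ : ∃ y : Q, y ^ q = 1 ∧ y ∉ Subgroup.zpowers (z : Q) := by
    by_contra hno
    push Not at hno
    exact hnc (Invol.isCyclic_of_pow_eq_one_mem Q.isPGroup' hq2 z.2
      hzq hno)
  have hy1 : y ≠ 1 := fun e => hyz (e ▸ one_mem _)
  obtain ⟨x₁, hx₁H, e₁, -, -, -⟩ := exists_lift h hH hq.out (z := ((z : Q) : G ⧸ N))
    (by rw [Subgroup.orderOf_coe, hz'])
  obtain ⟨x₂, hx₂H, e₂, -, -, -⟩ := exists_lift h hH hq.out (z := (y : G ⧸ N))
    (by rw [Subgroup.orderOf_coe]; exact orderOf_eq_prime hy hy1)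
  let φ : H →* MulAut W := (W.normalizerMonoidHom).comp (Subgroup.inclusion hHW)
  have happ : ∀ (g : H) (w : W), (φ g w : G) = g * w * (g : G)⁻¹ := fun g w => rfl
  have hmod : ∀ g : H, (QuotientGroup.mk (g : G) : G ⧸ N) = 1 → φ g = 1 := fun g hg =>
    MulEquiv.ext fun w => Subtype.ext (by
      rw [happ, MulAut.one_apply, ← Subgroup.mem_centralizer_iff.mp
        (hK ⟨g.2, (QuotientGroup.eq_one_iff _).mp hg⟩) w w.2, mul_inv_cancel_right])
  set A : H := ⟨x₁, hx₁H⟩
  set B : H := ⟨x₂, hx₂H⟩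
  let μ : H →* G ⧸ N := (QuotientGroup.mk' N).comp H.subtype
  have eA : μ A = (Q : Subgroup (G ⧸ N)).subtype (z : Q) := e₁
  have eB : μ B = (Q : Subgroup (G ⧸ N)).subtype y := e₂
  have hzy : Commute (z : Q) y := (Subgroup.mem_center_iff.mp z.2 y).symm
  have hcomm : Commute (φ A) (φ B) := by
    have := hmod (A * B * (B * A)⁻¹) (show μ (A * B * (B * A)⁻¹) = 1 by
      rw [map_mul, map_inv, map_mul, map_mul, eA, eB, ← map_mul, ← map_mul, hzy.eq, mul_inv_cancel])
    rw [map_mul, map_inv, mul_inv_eq_one, map_mul, map_mul] at this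
    exact this
  have hfpf : ∀ i j : ℕ, (z : Q) ^ i * y ^ j ≠ 1 → ∀ w : W, (φ A ^ i * φ B ^ j) w = w → w = 1 := by
    intro i j hne w hw
    have hg : ((A ^ i * B ^ j : H) : G) ∉ N := fun hh => hne (Subtype.ext (by
      have : μ (A ^ i * B ^ j) = 1 := (QuotientGroup.eq_one_iff _).mpr hh
      rw [map_mul, map_pow, map_pow, eA, eB, ← map_pow, ← map_pow, ← map_mul] at this
      exact this))
    obtain ⟨c, hc⟩ := isPow_of_not_mem h hg hq.out (by
      rw [← QuotientGroup.eq_one_iff]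
      show μ ((A ^ i * B ^ j) ^ q) = 1
      rw [map_pow, map_mul, map_pow, map_pow, eA, eB, ← map_pow, ← map_pow, ← map_mul, ← map_pow,
        (hzy.pow_pow i j).mul_pow, pow_right_comm, hzq, one_pow,
        pow_right_comm y, hy, one_pow, one_mul, map_one])
    refine Subtype.ext (fixed_eq_one h hWN ht hq.out hqt hWp hg hc w.2 ?_)
    rw [← map_pow, ← map_pow, ← map_mul] at hw
    exact (happ _ w).symm.trans (congrArg Subtype.val hw)
  open scoped IsMulCommutative in
  have hN : ∀ f : MulAut W, f ^ q = 1 → (∀ w : W, f w = w → w = 1) →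
      ∀ w : W, ∏ i ∈ Finset.range q, (f ^ i) w = 1 := by
    intro f hf hfix w
    apply hfix
    rw [map_prod]
    have h1 : ∀ i, f ((f ^ i) w) = (f ^ (i + 1)) w := fun i => by rw [pow_succ', MulAut.mul_apply]
    simp only [h1]
    have a1 := Finset.prod_range_succ (fun i => (f ^ i) w) q
    have a2 := Finset.prod_range_succ' (fun i => (f ^ i) w) q
    rw [a1, hf, pow_zero] at a2
    exact (mul_right_cancel a2).symm
  have hAq : φ A ^ q = 1 := by
    rw [← map_pow]
    refine hmod _ (show μ (A ^ q) = 1 from ?_)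
    rw [map_pow, eA, ← map_pow, hzq, map_one]
  have hBq : φ B ^ q = 1 := by
    rw [← map_pow]
    refine hmod _ (show μ (B ^ q) = 1 from ?_)
    rw [map_pow, eB, ← map_pow, hy, map_one]
  have hzi : ∀ i : ℕ, 0 < i → i < q → (z : Q) ^ i ≠ 1 := fun i hi hiq e =>
    absurd (hz' ▸ Nat.le_of_dvd hi (orderOf_dvd_of_pow_eq_one e)) (by omega)
  obtain ⟨w₀, hw₀, hw₀1⟩ := W.bot_or_exists_ne_one.resolve_left hW1
  open scoped IsMulCommutative in
  have key : (⟨w₀, hw₀⟩ : W) ^ q = 1 := by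
    have hR : ∀ j ∈ Finset.range q, ∏ i ∈ Finset.range q, ((φ A ^ j * φ B) ^ i) ⟨w₀, hw₀⟩ = 1 := by
      intro j _
      refine hN _ (by rw [(hcomm.pow_left j).mul_pow, ← pow_mul, mul_comm, pow_mul, hAq, one_pow, hBq, one_mul])
        (fun w hw => hfpf j 1 (fun e => hyz ?_) w (by rwa [pow_one])) _
      rw [pow_one] at e
      rw [show y = ((z : Q) ^ j)⁻¹ from eq_inv_of_mul_eq_one_right e]
      exact inv_mem (pow_mem (Subgroup.mem_zpowers _) j)
    have hA1 := hN (φ A) hAq fun w hw => hfpf 1 0 (by simpa using hzi 1 one_pos hq.out.one_lt) w (by simpa using hw)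
    have hsum := Finset.prod_eq_one hR
    rw [Finset.prod_comm] at hsum
    simp only [(hcomm.pow_left _).mul_pow, ← pow_mul, MulAut.mul_apply] at hsum
    obtain ⟨n, hn⟩ : ∃ n, q = n + 1 := ⟨q - 1, (Nat.sub_add_cancel hq.out.one_le).symm⟩
    rw [hn, Finset.prod_range_succ'] at hsum
    rw [Finset.prod_eq_one] at hsum
    · simpa [hn, Finset.prod_const] using hsum
    intro i hi
    rw [← hn]
    have hAi : (φ A ^ (i + 1)) ^ q = 1 := by rw [← pow_mul, mul_comm, pow_mul, hAq, one_pow]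
    have := hN (φ A ^ (i + 1)) hAi (fun w hw => hfpf (i + 1) 0
      (by simpa using hzi (i + 1) (by omega) (by have := Finset.mem_range.mp hi; omega)) w
      (by simpa using hw)) ((φ B ^ (i + 1)) ⟨w₀, hw₀⟩)
    simp only [← pow_mul] at this
    simpa [mul_comm] using this
  have := Fact.mk ht
  obtain ⟨k, hk⟩ := IsPGroup.iff_orderOf.mp hWp ⟨w₀, hw₀⟩
  have hd := orderOf_dvd_of_pow_eq_one key
  rw [hk] at hd
  rcases (Nat.dvd_prime hq.out).mp hd with e | e
  · rw [e, orderOf_eq_one_iff] at hk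
    exact hw₀1 (congrArg Subtype.val hk)
  · rcases Nat.eq_zero_or_pos k with rfl | hk0
    · exact hq.out.ne_one (by simpa using e.symm)
    · exact hqt (((Nat.prime_dvd_prime_iff_eq ht hq.out).mp (e ▸ dvd_pow_self t hk0.ne')).symm)

theorem nontrivial_sylow {K : Type*} [Group K] [Finite K] {p : ℕ} [hp : Fact p.Prime] (P : Sylow p K)
    (h : p ∣ Nat.card K) : Nontrivial P :=
  P.isPGroup'.nontrivial_iff_card.mpr
    ⟨_, hp.out.factorization_pos_of_dvd Nat.card_pos.ne' h, Sylow.card_eq_multiplicity P⟩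

theorem core_of_center {H : Subgroup G} (hH : H ⊔ N = ⊤) (hK : Group.IsNilpotent (H ⊓ N : Subgroup G))
    {t : ℕ} (ht : t.Prime) (hdvd : t ∣ Nat.card (H ⊓ N : Subgroup G)) : Core N t := by
  set K := H ⊓ N
  have := Fact.mk ht
  let W : Subgroup G :=
    { carrier := {z | (z ∈ K ∧ z ∈ Subgroup.centralizer (K : Set G)) ∧ ∃ k : ℕ, z ^ t ^ k = 1}
      one_mem' := ⟨⟨one_mem _, one_mem _⟩, 0, one_pow _⟩
      mul_mem' := by
        rintro a b ⟨ha, i, hi⟩ ⟨hb, j, hj⟩
        refine ⟨⟨mul_mem ha.1 hb.1, mul_mem ha.2 hb.2⟩, i + j, ?_⟩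
        have hc : Commute a b := Subgroup.mem_centralizer_iff.mp hb.2 a ha.1
        rw [hc.mul_pow, pow_add, pow_mul, hi, one_pow, one_mul, mul_comm, pow_mul, hj, one_pow]
      inv_mem' := fun {a} ⟨ha, i, hi⟩ => ⟨⟨K.inv_mem ha.1, Subgroup.inv_mem _ ha.2⟩, i, by rw [inv_pow, hi, inv_one]⟩ }
  refine ⟨ht, H, W, hH, fun z hz => hz.1.1.2, ?_, ?_, ?_, ?_, ?_⟩
  · obtain ⟨P⟩ : Nonempty (Sylow t K) := inferInstance
    have : Nontrivial P := nontrivial_sylow P hdvd
    have := P.isPGroup'.center_nontrivial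
    obtain ⟨z, hz⟩ := exists_ne (1 : Subgroup.center P)
    have hPn : (P : Subgroup K).Normal := isNilpotent_iff_sylow_normal.mp hK t inferInstance P
    obtain ⟨k, hk⟩ := P.isPGroup' z
    have hk' : ((z : P) : K) ^ t ^ k = 1 := congrArg Subtype.val hk
    have hle : (⊤ : Subgroup K) ≤ Subgroup.centralizer {((z : P) : K)} := by
      refine le_of_forall_sylow le_top fun r hr => ?_
      by_cases hrp : r = t
      · subst hrp
        refine ⟨P, ⟨le_top, P.isPGroup', ?_⟩, fun x hx => Subgroup.mem_centralizer_singleton_iff.mpr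
          (congrArg Subtype.val (Subgroup.mem_center_iff.mp z.2 ⟨x, hx⟩))⟩
        rw [Subgroup.relIndex_top_right]; exact P.not_dvd_index
      · obtain ⟨R, hR⟩ := exists_isSylowIn r (⊤ : Subgroup K)
        refine ⟨R, hR, fun x hx => Subgroup.mem_centralizer_singleton_iff.mpr ?_⟩
        obtain ⟨i, hi⟩ := hR.2.1 ⟨x, hx⟩
        exact (commute_of_nilpotent_coprime hK (Ne.symm hrp) hk' (congrArg Subtype.val hi)).symm
    intro hbot
    apply hz
    have hmem : (((z : P) : K) : G) ∈ W := by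
      refine ⟨⟨((z : P) : K).2, Subgroup.mem_centralizer_iff.mpr fun x hx => ?_⟩, k, ?_⟩
      · exact congrArg Subtype.val (Subgroup.mem_centralizer_singleton_iff.mp (hle (Subgroup.mem_top ⟨x, hx⟩)))
      · simpa using congrArg Subtype.val hk'
    rw [hbot, Subgroup.mem_bot] at hmem
    exact Subtype.ext (Subtype.ext (Subtype.ext hmem))
  · exact ⟨⟨fun a b => Subtype.ext (Subgroup.mem_centralizer_iff.mp b.2.1.2 a a.2.1.1)⟩⟩
  · intro g hg
    have hgK : ∀ k ∈ K, g * k * g⁻¹ ∈ K ∧ g⁻¹ * k * g ∈ K := fun k hk =>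
      ⟨⟨mul_mem (mul_mem hg hk.1) (H.inv_mem hg), Subgroup.Normal.conj_mem inferInstance k hk.2 g⟩,
        ⟨mul_mem (mul_mem (H.inv_mem hg) hk.1) hg, Subgroup.Normal.conj_mem' inferInstance k hk.2 g⟩⟩
    have hmem : ∀ g', (g' = g ∨ g' = g⁻¹) → ∀ z ∈ W, g' * z * g'⁻¹ ∈ W := by
      rintro g' hg' z ⟨⟨hzK, hzC⟩, k, hk⟩
      have hg'K : ∀ k ∈ K, g' * k * g'⁻¹ ∈ K ∧ g'⁻¹ * k * g' ∈ K := by
        rcases hg' with rfl | rfl
        · exact hgK
        · intro k hk; simpa using (hgK k hk).symm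
      refine ⟨⟨(hg'K z hzK).1, Subgroup.mem_centralizer_iff.mpr fun x hx => ?_⟩, k, by rw [conj_pow, hk]; group⟩
      have := Subgroup.mem_centralizer_iff.mp hzC _ (hg'K x hx).2
      calc x * (g' * z * g'⁻¹) = g' * ((g'⁻¹ * x * g') * z) * g'⁻¹ := by group
        _ = g' * (z * (g'⁻¹ * x * g')) * g'⁻¹ := by rw [this]
        _ = g' * z * g'⁻¹ * x := by group
    refine Subgroup.mem_normalizer_iff.mpr fun z => ⟨hmem g (Or.inl rfl) z, fun hh => ?_⟩
    simpa [mul_assoc] using hmem g⁻¹ (Or.inr rfl) _ hh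
  · exact fun ⟨z, hz, k, hk⟩ => ⟨k, Subtype.ext hk⟩
  · exact fun k hk => Subgroup.mem_centralizer_iff.mpr fun z hz =>
      (Subgroup.mem_centralizer_iff.mp hz.1.2 k hk).symm

/-- The averaging lemma: a coset of elements of order `s` without fixed points forces `K` to act
trivially. -/
theorem centralizes_of_fpf_coset {W K : Subgroup G} [IsMulCommutative W] {y : G} {s : ℕ}
    (hs : s.Prime) (hyW : y ∈ Subgroup.normalizer (W : Set G))
    (hKW : K ≤ Subgroup.normalizer (W : Set G)) (hyK : y ∈ Subgroup.normalizer (K : Set G))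
    (hcop : (Nat.card K).Coprime (Nat.card W))
    (hord : ∀ k ∈ K, orderOf (k * y) = s)
    (hfix : ∀ k ∈ K, ∀ w ∈ W, (k * y) * w * (k * y)⁻¹ = w → w = 1) :
    K ≤ Subgroup.centralizer (W : Set G) := by
  classical
  have : Fintype K := Fintype.ofFinite K
  let ψ : Subgroup.normalizer (W : Set G) →* MulAut W := W.normalizerMonoidHom
  have happ : ∀ g (w : W), (ψ g w : G) = g * w * (g : G)⁻¹ := fun g w => rfl
  let Y : Subgroup.normalizer (W : Set G) := ⟨y, hyW⟩
  let ι : K →* Subgroup.normalizer (W : Set G) := Subgroup.inclusion hKW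
  open scoped IsMulCommutative in
  have hN : ∀ (k : K) (w : W), ∏ i ∈ Finset.range s, ψ ((ι k * Y) ^ i) w = 1 := by
    intro k w
    have hf : ψ (ι k * Y) (∏ i ∈ Finset.range s, ψ ((ι k * Y) ^ i) w) =
        ∏ i ∈ Finset.range s, ψ ((ι k * Y) ^ i) w := by
      rw [map_prod]
      simp only [← MulAut.mul_apply, ← map_mul, ← pow_succ']
      have a1 := Finset.prod_range_succ (fun i => ψ ((ι k * Y) ^ i) w) s
      have a2 := Finset.prod_range_succ' (fun i => ψ ((ι k * Y) ^ i) w) s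
      have e : (ι k * Y) ^ s = 1 := Subtype.ext (by
        rw [SubgroupClass.coe_pow]; exact hord k k.2 ▸ pow_orderOf_eq_one _)
      rw [a1, e, pow_zero] at a2
      exact (mul_right_cancel a2).symm
    exact Subtype.ext (hfix k k.2 _ (SetLike.coe_mem _) (by exact (happ (ι k * Y) _).symm.trans (congrArg Subtype.val hf)))
  open scoped IsMulCommutative in
  have key : ∀ w : W, (∏ k : K, ψ (ι k) w) = w ^ Nat.card K := by
    intro w
    obtain ⟨n, hn⟩ : ∃ n, s = n + 1 := ⟨s - 1, (Nat.sub_add_cancel hs.one_le).symm⟩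
    have hsum : ∏ i ∈ Finset.range s, ∏ k : K, ψ ((ι k * Y) ^ i) w = 1 := by
      rw [Finset.prod_comm]; exact Finset.prod_eq_one fun k _ => hN k w
    have hre : ∀ i ∈ Finset.range n, ∏ k : K, ψ ((ι k * Y) ^ (i + 1)) w =
        ∏ k : K, ψ (ι k) (ψ (Y ^ (i + 1)) w) := by
      intro i hi
      have hcop' : (i + 1).Coprime s := (hs.coprime_iff_not_dvd.mpr fun hd => by
        have := Nat.le_of_dvd (by omega) hd
        have := Finset.mem_range.mp hi
        omega).symm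
      have hmem : ∀ (j : ℕ) (k : K), ((k : G) * y) ^ j * (y ^ j)⁻¹ ∈ K := by
        intro j k
        induction j with
        | zero => simp
        | succ j ih =>
          have : ((k : G) * y) ^ (j + 1) * (y ^ (j + 1))⁻¹ =
              k * (y * (((k : G) * y) ^ j * (y ^ j)⁻¹) * y⁻¹) := by
            rw [pow_succ', pow_succ']; group
          rw [this]
          exact mul_mem k.2 ((Subgroup.mem_normalizer_iff.mp hyK _).mp ih)
      let f : K → K := fun k => ⟨_, hmem (i + 1) k⟩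
      have hf : Function.Injective f := by
        intro a b hab
        have e : ((a : G) * y) ^ (i + 1) = ((b : G) * y) ^ (i + 1) :=
          mul_right_cancel (congrArg Subtype.val hab)
        obtain ⟨m, hm⟩ := exists_pow_eq_self_of_coprime (x := (a : G) * y) (n := i + 1) (by rw [hord a a.2]; exact hcop')
        obtain ⟨m', hm'⟩ := exists_pow_eq_self_of_coprime (x := (b : G) * y) (n := i + 1) (by rw [hord b b.2]; exact hcop')
        have : ((a : G) * y) = (b : G) * y := by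
          calc (a : G) * y = (((a : G) * y) ^ (i + 1)) ^ m := hm.symm
            _ = (((b : G) * y) ^ (i + 1)) ^ m := by rw [e]
            _ = ((((b : G) * y) ^ (i + 1)) ^ m') ^ ((i + 1) * m) := by rw [hm', pow_mul]
            _ = ((((a : G) * y) ^ (i + 1)) ^ m') ^ ((i + 1) * m) := by rw [e]
            _ = ((((a : G) * y) ^ (i + 1)) ^ m) ^ ((i + 1) * m') := by
              simp only [← pow_mul]; congr 1; ring
            _ = (((a : G) * y) ^ (i + 1)) ^ m' := by rw [hm, ← pow_mul]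
            _ = (((b : G) * y) ^ (i + 1)) ^ m' := by rw [e]
            _ = (b : G) * y := hm'
        exact Subtype.ext (mul_right_cancel this)
      refine Fintype.prod_equiv (Equiv.ofBijective f (Finite.injective_iff_bijective.mp hf)) _ _ fun k => ?_
      rw [← MulAut.mul_apply, ← map_mul]
      congr 2
      exact Subtype.ext (by simp [f, ι, Y, Equiv.ofBijective])
    rw [hn, Finset.prod_range_succ', Finset.prod_congr rfl hre, Finset.prod_comm] at hsum
    simp only [← map_prod, pow_zero, map_one, MulAut.one_apply, Finset.prod_const, Finset.card_univ,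
      ← Nat.card_eq_fintype_card] at hsum
    have h1 := hN 1 w
    rw [hn, Finset.prod_range_succ', map_one, one_mul, pow_zero, map_one, MulAut.one_apply] at h1
    rw [eq_inv_of_mul_eq_one_left h1] at hsum
    simp only [map_inv, Finset.prod_inv_distrib] at hsum
    exact inv_mul_eq_one.mp hsum
  intro a ha
  rw [Subgroup.mem_centralizer_iff]
  intro w hw
  obtain ⟨c, hc⟩ := exists_pow_eq_self_of_coprime (x := (⟨w, hw⟩ : W))
    (hcop.coprime_dvd_right (orderOf_dvd_natCard _))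
  open scoped IsMulCommutative in
  have hfixK : ∀ v : W, ψ (ι ⟨a, ha⟩) (v ^ Nat.card K) = v ^ Nat.card K := by
    intro v
    rw [← key, map_prod]
    simp only [← MulAut.mul_apply, ← map_mul]
    exact Fintype.prod_equiv (Equiv.mulLeft (⟨a, ha⟩ : K)) _ _ fun _ => rfl
  have e1 : ψ (ι ⟨a, ha⟩) ⟨w, hw⟩ = ⟨w, hw⟩ := by
    conv_lhs => rw [← hc, map_pow, hfixK, hc]
  exact (mul_inv_eq_iff_eq_mul.mp (congrArg Subtype.val e1)).symm

theorem exists_supplement (N R : Subgroup G) [N.Normal] (hR : R ⊔ N = ⊤) :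
    ∃ H ≤ R, H ⊔ N = ⊤ ∧ Group.IsNilpotent (H ⊓ N : Subgroup G) := by
  obtain ⟨H, ⟨hHR, hH⟩, hmin⟩ := Set.Finite.exists_minimal (Set.toFinite {H : Subgroup G | H ≤ R ∧ H ⊔ N = ⊤})
    ⟨R, le_rfl, hR⟩
  refine ⟨H, hHR, hH, ?_⟩
  have hle : (H ⊓ N).subgroupOf H ≤ frattini H := by
    refine le_iInf fun M => le_iInf fun hM => ?_
    by_contra hnot
    have hsup : M ⊔ (H ⊓ N).subgroupOf H = ⊤ := hM.2 _ (left_lt_sup.mpr hnot)
    have h1 := congrArg (Subgroup.map H.subtype) hsup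
    rw [Subgroup.map_sup, ← MonoidHom.range_eq_map, Subgroup.range_subtype,
      Subgroup.subgroupOf_map_subtype, inf_eq_left.mpr inf_le_left] at h1
    have h2 : M.map H.subtype ⊔ N = ⊤ := by
      refine top_le_iff.mp (hH.ge.trans (sup_le ?_ le_sup_right))
      exact h1.ge.trans (sup_le le_sup_left (inf_le_right.trans le_sup_right))
    have h3 := hmin ⟨(Subgroup.map_subtype_le M).trans hHR, h2⟩ (Subgroup.map_subtype_le M)
    refine hM.1 (eq_top_iff.mpr fun x _ => ?_)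
    obtain ⟨m, hm, e⟩ := h3 x.2
    exact Subtype.ext e ▸ hm
  have := frattini_nilpotent (G := H)
  have := isNilpotent_of_le hle this
  exact Group.nilpotent_of_mulEquiv (Subgroup.subgroupOfEquivOfLe inf_le_left)

theorem core_or_two (h : ∀ x : G, x ∉ N → IsPrimePow (orderOf x))
    (h3 : ∀ a b : ℕ, a.Prime → b.Prime → ∃ s, s.Prime ∧ s ∣ N.index ∧ s ≠ a ∧ s ≠ b)
    {r : ℕ} (hr : r.Prime) (hrN : r ∣ Nat.card N) :
    Core N r ∨ ∃ t₁ t₂, t₁ ≠ t₂ ∧ Core N t₁ ∧ Core N t₂ := by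
  have := Fact.mk hr
  obtain ⟨R⟩ : Nonempty (Sylow r N) := inferInstance
  obtain ⟨H, hHR, hH, hKn⟩ := exists_supplement N _ (R.normalizer_sup_eq_top)
  set K := H ⊓ N
  by_cases hrK : r ∣ Nat.card K
  · exact Or.inl (core_of_center hH hKn hr hrK)
  by_cases htwo : ∃ t₁ t₂ : ℕ, t₁ ≠ t₂ ∧ t₁.Prime ∧ t₂.Prime ∧ t₁ ∣ Nat.card K ∧ t₂ ∣ Nat.card K
  · obtain ⟨t₁, t₂, hne, h1, h2, d1, d2⟩ := htwo
    exact Or.inr ⟨t₁, t₂, hne, core_of_center hH hKn h1 d1, core_of_center hH hKn h2 d2⟩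
  push Not at htwo
  obtain ⟨s, hs, hsd, hsr, hsK⟩ : ∃ s, s.Prime ∧ s ∣ N.index ∧ s ≠ r ∧ ¬ s ∣ Nat.card K := by
    by_cases hK1 : Nat.card K = 1
    · obtain ⟨s, hs, hsd, hsr, -⟩ := h3 r r hr hr
      exact ⟨s, hs, hsd, hsr, fun hd => hs.not_dvd_one (hK1 ▸ hd)⟩
    · obtain ⟨t, ht, htK⟩ := Nat.exists_prime_and_dvd hK1
      obtain ⟨s, hs, hsd, hsr, hst⟩ := h3 r t hr ht
      exact ⟨s, hs, hsd, hsr, fun hd => htwo s t hst hs ht hd htK⟩
  have := Fact.mk hs
  obtain ⟨zy, hzy⟩ := exists_prime_orderOf_dvd_card' (G := G ⧸ N) s (by rwa [← Subgroup.index_eq_card])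
  obtain ⟨y, hyH, -, hyN, hys, -⟩ := exists_lift h hH hs hzy
  set RG := (R : Subgroup N).map N.subtype
  set W := RG ⊓ Subgroup.centralizer (RG : Set G)
  have hWN : W ≤ N := inf_le_left.trans (Subgroup.map_subtype_le _)
  have hWc : IsMulCommutative W :=
    ⟨⟨fun a b => Subtype.ext (Subgroup.mem_centralizer_iff.mp b.2.2 a a.2.1)⟩⟩
  have hRp : IsPGroup r RG := R.isPGroup'.map _
  have hHW : H ≤ Subgroup.normalizer (W : Set G) := fun g hg => by
    have hgR : MulAut.conj g • RG = RG := mem_normalizer_iff_smul.mp (hHR hg)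
    refine mem_normalizer_iff_smul.mpr ?_
    simp only [W]
    rw [Subgroup.smul_inf, hgR]
    congr 1
    ext x
    rw [mem_smul_conj]
    simp only [Subgroup.mem_centralizer_iff, SetLike.mem_coe]
    constructor
    · intro hx z hz
      have hz' : g⁻¹ * z * g ∈ RG := mem_smul_conj.mp (hgR.symm ▸ hz)
      have := hx _ hz'
      calc z * x = g * ((g⁻¹ * z * g) * (g⁻¹ * x * g)) * g⁻¹ := by group
        _ = g * ((g⁻¹ * x * g) * (g⁻¹ * z * g)) * g⁻¹ := by rw [this]
        _ = x * z := by group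
    · intro hx z hz
      have hz' : g * z * g⁻¹ ∈ RG := hgR ▸ mem_smul_conj.mpr (by simpa [mul_assoc] using hz)
      have := hx _ hz'
      calc z * (g⁻¹ * x * g) = g⁻¹ * ((g * z * g⁻¹) * x) * g := by group
        _ = g⁻¹ * (x * (g * z * g⁻¹)) * g := by rw [this]
        _ = g⁻¹ * x * g * z := by group
  have hW1 : W ≠ ⊥ := by
    have : Nontrivial R := nontrivial_sylow R hrN
    have := R.isPGroup'.center_nontrivial
    obtain ⟨z, hz⟩ := exists_ne (1 : Subgroup.center R)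
    intro hbot
    have hmem : (((z : R) : N) : G) ∈ W :=
      ⟨⟨_, (z : R).2, rfl⟩, Subgroup.mem_centralizer_iff.mpr (by
        rintro _ ⟨x, hx, rfl⟩
        exact congrArg (fun q : R => ((q : N) : G)) (Subgroup.mem_center_iff.mp z.2 ⟨x, hx⟩))⟩
    rw [hbot, Subgroup.mem_bot] at hmem
    exact hz (Subtype.ext (Subtype.ext (Subtype.ext hmem)))
  have hWp : IsPGroup r W := hRp.to_le inf_le_left
  refine Or.inl ⟨hr, H, W, hH, hWN, hW1, hWc, hHW, hWp, ?_⟩
  have hcop : (Nat.card K).Coprime (Nat.card W) := by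
    obtain ⟨n, hn⟩ := IsPGroup.iff_card.mp hWp
    rw [hn]
    exact ((hr.coprime_iff_not_dvd.mpr hrK).symm).pow_right n
  have hkyN : ∀ k ∈ K, k * y ∉ N := fun k hk hh => hyN ((N.mul_mem_cancel_left hk.2).mp hh)
  have hord : ∀ k ∈ K, orderOf (k * y) = s := by
    intro k hk
    have hpow : (k * y) ^ s ∈ N := by
      rw [← QuotientGroup.eq_one_iff, QuotientGroup.mk_pow, QuotientGroup.mk_mul,
        (QuotientGroup.eq_one_iff k).mpr hk.2, one_mul, ← QuotientGroup.mk_pow, QuotientGroup.eq_one_iff]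
      exact hys
    obtain ⟨a, ha⟩ := isPow_of_not_mem h (hkyN k hk) hs hpow
    have hK' : (k * y) ^ s ∈ K := ⟨pow_mem (mul_mem hk.1 hyH) s, hpow⟩
    refine orderOf_eq_prime ?_ fun e => hkyN k hk (e ▸ one_mem N)
    have hd : orderOf ((k * y) ^ s) ∣ s ^ a := ha ▸ orderOf_pow_dvd s
    have hd2 : orderOf ((k * y) ^ s) ∣ Nat.card K := by
      have := orderOf_dvd_natCard (⟨_, hK'⟩ : K)
      rwa [Subgroup.orderOf_mk] at this
    exact orderOf_eq_one_iff.mp (Nat.eq_one_of_dvd_coprimes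
      ((hs.coprime_iff_not_dvd.mpr hsK).pow_left a) hd hd2)
  refine centralizes_of_fpf_coset hs (hHW hyH) ((inf_le_left).trans hHW) ?_ hcop hord fun k hk w hw e => ?_
  · refine Subgroup.mem_normalizer_iff.mpr fun z => ?_
    simp only [K, Subgroup.mem_inf]
    exact and_congr ⟨fun hz => mul_mem (mul_mem hyH hz) (inv_mem hyH),
      fun hz => by simpa [mul_assoc] using mul_mem (mul_mem (inv_mem hyH) hz) hyH⟩
      ⟨fun hz => Subgroup.Normal.conj_mem inferInstance z hz y, fun hz => by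
        simpa [mul_assoc] using Subgroup.Normal.conj_mem' inferInstance _ hz y⟩
  · exact fixed_eq_one h hWN hr hs hsr hWp (hkyN k hk) (a := 1) (by rw [hord k hk, pow_one]) hw e

theorem isSolvable_quotient (hns : ¬ Group.IsSolvable N)
    (h : ∀ x : G, x ∉ N → IsPrimePow (orderOf x)) : Group.IsSolvable (G ⧸ N) := by
  by_contra hX
  have h3 : ∀ a b : ℕ, a.Prime → b.Prime → ∃ s, s.Prime ∧ s ∣ N.index ∧ s ≠ a ∧ s ≠ b := by
    intro a b ha hb
    by_contra hno
    push Not at hno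
    refine hX (Cfsg.Agent.S0144.result a b (N.index.factorization a)
      (if a = b then 0 else N.index.factorization b) ha hb ?_)
    rw [← Subgroup.index_eq_card]
    have hn := N.index_ne_zero_of_finite
    refine Nat.eq_of_factorization_eq hn (Nat.mul_ne_zero (pow_ne_zero _ ha.ne_zero) (pow_ne_zero _ hb.ne_zero)) fun p => ?_
    rw [Nat.factorization_mul (pow_ne_zero _ ha.ne_zero) (pow_ne_zero _ hb.ne_zero), Finsupp.add_apply,
      ha.factorization_pow, hb.factorization_pow, Finsupp.single_apply, Finsupp.single_apply]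
    by_cases hp : p ∈ N.index.primeFactors
    · obtain ⟨hp1, hp2, -⟩ := Nat.mem_primeFactors.mp hp
      by_cases hpa : p = a
      · subst hpa; by_cases hab : p = b <;> simp [hab, eq_comm]
        exact fun e => absurd e.symm hab
      · have := hno p hp1 hp2 hpa
        subst this
        simp [Ne.symm hpa]
    · have h0 : N.index.factorization p = 0 := by
        rwa [← Finsupp.notMem_support_iff, Nat.support_factorization]
      rw [h0]
      by_cases hpa : a = p
      · subst hpa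
        by_cases hab : a = b <;> simp [hab, h0, eq_comm] at *
        simp [h0]
      · by_cases hpb : b = p
        · subst hpb
          simp [hpa, h0]
        · simp [hpa, hpb]
  obtain ⟨r₁, r₂, hne, hr₁, hr₂, d₁, d₂⟩ : ∃ r₁ r₂ : ℕ, r₁ ≠ r₂ ∧ r₁.Prime ∧ r₂.Prime ∧
      r₁ ∣ Nat.card N ∧ r₂ ∣ Nat.card N := by
    have hN1 : Nat.card N ≠ 1 := fun e => hns (by
      have := (Nat.card_eq_one_iff_unique.mp e).1
      exact Group.isSolvable_of_comm fun _ _ => Subsingleton.elim _ _)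
    obtain ⟨r₁, hr₁, d₁⟩ := Nat.exists_prime_and_dvd hN1
    by_contra hno
    push Not at hno
    have hpow := Nat.eq_prime_pow_of_unique_prime_dvd Nat.card_pos.ne'
      (fun {d} hd hdd => by by_contra hne; exact hno d r₁ hne hd hr₁ hdd d₁)
    have := Fact.mk hr₁
    exact hns (Cfsg.Agent.S0144.result r₁ r₁ (Nat.card N).primeFactorsList.length 0 hr₁ hr₁ (by rw [pow_zero, mul_one]; exact hpow))
  obtain ⟨t₁, t₂, ht, hC₁, hC₂⟩ : ∃ t₁ t₂, t₁ ≠ t₂ ∧ Core N t₁ ∧ Core N t₂ := by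
    rcases core_or_two h h3 hr₁ d₁ with c₁ | c
    · rcases core_or_two h h3 hr₂ d₂ with c₂ | c
      · exact ⟨r₁, r₂, hne, c₁, c₂⟩
      · exact c
    · exact c
  have hodd : ¬ 2 ∣ N.index := by
    intro h2
    obtain ⟨t, hC, ht2⟩ : ∃ t, Core N t ∧ t ≠ 2 := by
      by_cases e : t₁ = 2
      · exact ⟨t₂, hC₂, fun e' => ht (e.trans e'.symm)⟩
      · exact ⟨t₁, hC₁, e⟩
    obtain ⟨s, hs, hsd, hs2, hst⟩ := h3 2 t Nat.prime_two hC.1
    exact even_false h hC ht2 h2 hs hsd hs2 hst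
  apply hX
  have : IsZGroup (G ⧸ N) := ⟨fun q hq Q => by
    have := Fact.mk hq
    by_cases hqd : q ∣ N.index
    · have hq2 : q ≠ 2 := fun e => hodd (e ▸ hqd)
      by_cases e : q = t₁
      · exact isCyclic_sylow h hC₂ (fun e' => ht (e.symm.trans e')) hq2 Q
      · exact isCyclic_sylow h hC₁ e hq2 Q
    · have hQ : (Q : Subgroup (G ⧸ N)) = ⊥ := by
        rw [← Subgroup.card_eq_one, Sylow.card_eq_multiplicity, ← Subgroup.index_eq_card,
          Nat.factorization_eq_zero_of_not_dvd hqd, pow_zero]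
      rw [hQ]
      exact isCyclic_of_subsingleton⟩
  infer_instance

end Cfsg.Agent.Grp.PrimePowOut
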