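import Mathlib
import Cfsg.Agent.Lib.Char.Integral
import Cfsg.Agent.Lib.Grp.Wielandt.Main
import Cfsg.Agent.Lib.Grp.Basic

/-!
A group with a subgroup of prime power index that has a cyclic normal subgroup with cyclic 2-power
factor is soluble.
-/

set_option autoImplicit false
set_option linter.style.haveILetI false

namespace Cfsg.Agent.Grp.PrimePowerIndex

universe u

/-- A cyclic normal subgroup with cyclic factor of order a power of two. -/
def IsCyclicTwo (H : Type*) [Group H] : Prop :=
  ∃ (C : Subgroup H) (_ : C.Normal), IsCyclic C ∧ IsCyclic (H ⧸ C) ∧ ∃ r : ℕ, Nat.card (H ⧸ C) = 2 ^ r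

theorem IsCyclicTwo.of_injective {H K : Type*} [Group H] [Group K] [Finite K] (hK : IsCyclicTwo K) (f : H →* K)
    (hf : Function.Injective f) : IsCyclicTwo H := by
  obtain ⟨C, hn, hc, hq, r, hr⟩ := hK
  have hn' : (C.comap f).Normal := hn.comap f
  let g : H →* K ⧸ C := (QuotientGroup.mk' C).comp f
  have hker : g.ker = C.comap f := by
    show ((QuotientGroup.mk' C).comp f).ker = _
    rw [← MonoidHom.comap_ker, QuotientGroup.ker_mk']
  let e : H ⧸ C.comap f ≃* g.range := (QuotientGroup.quotientMulEquivOfEq hker.symm).trans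
    (QuotientGroup.quotientKerEquivRange g)
  refine ⟨C.comap f, hn', ?_, ?_, ?_⟩
  · exact isCyclic_of_injective (f.subgroupComap C) fun a b hab => Subtype.ext (hf (congrArg Subtype.val hab))
  · haveI : IsCyclic g.range := inferInstance
    exact isCyclic_of_injective e.toMonoidHom e.injective
  · rw [Nat.card_congr e.toEquiv]
    obtain ⟨i, -, hi⟩ := (Nat.dvd_prime_pow Nat.prime_two).mp (hr ▸ g.range.card_subgroup_dvd_card)
    exact ⟨i, hi⟩

theorem IsCyclicTwo.of_surjective {H K : Type*} [Group H] [Group K] [Finite H] (hH : IsCyclicTwo H) (f : H →* K)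
    (hf : Function.Surjective f) : IsCyclicTwo K := by
  obtain ⟨C, hn, hc, hq, r, hr⟩ := hH
  haveI hn' : (C.map f).Normal := hn.map f hf
  let g : H ⧸ C →* K ⧸ C.map f := QuotientGroup.map C (C.map f) f (Subgroup.le_comap_map f C)
  have hg : Function.Surjective g := by
    intro y
    obtain ⟨x, rfl⟩ := QuotientGroup.mk_surjective y
    obtain ⟨x, rfl⟩ := hf x
    exact ⟨QuotientGroup.mk x, rfl⟩
  refine ⟨C.map f, hn', isCyclic_of_surjective (f.subgroupMap C) (f.subgroupMap_surjective C),
    isCyclic_of_surjective g hg, ?_⟩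
  obtain ⟨i, -, hi⟩ := (Nat.dvd_prime_pow Nat.prime_two).mp (hr ▸ Subgroup.card_dvd_of_surjective g hg)
  exact ⟨i, hi⟩

/-- The simple case. -/
theorem simple_case {G : Type u} [Group G] [Finite G] [IsSimpleGroup G] (A : Subgroup G) {p s : ℕ} (hp : p.Prime)
    (hA : A.index = p ^ s) (h : IsCyclicTwo A) : Group.IsSolvable G := by
  classical
  haveI := Fact.mk hp
  by_cases hpr : (Nat.card G).Prime
  · haveI := Fact.mk hpr
    exact @IsNilpotent.to_isSolvable _ _ (IsPGroup.of_card (pow_one (Nat.card G)).symm).isNilpotent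
  have hburn : ∀ z : G, z ≠ 1 → (∀ a ∈ A, a * z = z * a) → False := by
    intro z hz hza
    have hle : A ≤ Subgroup.centralizer ({z} : Set G) := fun a ha =>
      Subgroup.mem_centralizer_singleton_iff.mpr (hza a ha)
    obtain ⟨i, -, hi⟩ := (Nat.dvd_prime_pow hp).mp (hA ▸ Subgroup.index_dvd_of_le hle)
    exact hpr (Cfsg.Agent.Char.simple_prime_pow_class p i hp z hz hi)
  obtain ⟨C, hn, hc, hq, r, hr⟩ := h
  have hcardA : Nat.card A = Nat.card C * 2 ^ r := by
    rw [← hr, ← Subgroup.index_eq_card, Subgroup.card_mul_index]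
  have hcard : Nat.card G = Nat.card C * 2 ^ r * p ^ s := by rw [← hcardA, ← hA, Subgroup.card_mul_index]
  haveI := hc
  haveI : Fact (Nat.Prime 2) := ⟨Nat.prime_two⟩
  have hodd : ¬ 2 ∣ Nat.card C := by
    intro h2
    obtain ⟨z, hz⟩ := exists_prime_orderOf_dvd_card' (G := C) 2 h2
    refine hburn ((z : A) : G) (fun e => ?_) fun a ha => ?_
    · rw [show z = 1 from Subtype.ext (Subtype.ext e), orderOf_one] at hz
      omega
    · have hmem : (⟨a, ha⟩ : A) * (z : A) * (⟨a, ha⟩ : A)⁻¹ ∈ C := hn.conj_mem _ z.2 _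
      have ho : orderOf (⟨_, hmem⟩ : C) = 2 := by
        rw [← Subgroup.orderOf_coe, ← MulEquiv.orderOf_eq (MulAut.conj (⟨a, ha⟩ : A)⁻¹)]
        simp [mul_assoc, hz]
      letI := Fintype.ofFinite C
      have h1 := IsCyclic.card_orderOf_eq_totient (α := C) (d := 2) (by
        rw [← Nat.card_eq_fintype_card]; exact h2)
      rw [Nat.totient_two, Finset.card_eq_one] at h1
      obtain ⟨u, hu⟩ := h1
      have e1 : z = u := Finset.mem_singleton.mp (hu ▸ Finset.mem_filter.mpr ⟨Finset.mem_univ _, hz⟩)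
      have e2 : (⟨_, hmem⟩ : C) = u := Finset.mem_singleton.mp (hu ▸ Finset.mem_filter.mpr ⟨Finset.mem_univ _, ho⟩)
      exact mul_inv_eq_iff_eq_mul.mp (congrArg (fun t : C => ((t : A) : G)) (e2.trans e1.symm))
  by_cases hp2 : p = 2
  · subst hp2
    obtain P : Sylow 2 G := Classical.arbitrary _
    let C' : Subgroup G := C.map A.subtype
    have hC' : Nat.card C' = Nat.card C := Subgroup.card_map_of_injective A.subtype_injective
    have hP : Nat.card (P : Subgroup G) = 2 ^ (r + s) := by
      rw [Sylow.card_eq_multiplicity, hcard, mul_assoc, ← pow_add,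
        Nat.factorization_mul Nat.card_pos.ne' (pow_ne_zero _ two_ne_zero), Finsupp.add_apply,
        Nat.factorization_eq_zero_of_not_dvd hodd, Nat.Prime.factorization_pow Nat.prime_two, Finsupp.single_eq_same,
        zero_add]
    have hcop : (Nat.card C').Coprime (Nat.card (P : Subgroup G)) := by
      rw [hC', hP]; exact ((Nat.prime_two.coprime_iff_not_dvd.mpr hodd).pow_left (r + s)).symm
    have hcompl : Subgroup.IsComplement' C' (P : Subgroup G) :=
      Subgroup.isComplement'_of_coprime (by rw [hC', hP, hcard, mul_assoc, pow_add]) hcop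
    haveI : IsCyclic C' := isCyclic_of_surjective (A.subtype.subgroupMap C) (A.subtype.subgroupMap_surjective C)
    refine Wielandt.isSolvable (A := C') (B := (P : Subgroup G)) ?_ P.isPGroup'.isNilpotent hcop fun g => ?_
    · letI : CommGroup C' := IsCyclic.commGroup
      infer_instance
    · obtain ⟨⟨a, b⟩, hab⟩ := hcompl.2 g
      exact ⟨a, a.2, b, b.2, hab.symm⟩
  by_cases hr0 : r = 0
  · subst hr0
    have hCtop : C = ⊤ := Subgroup.eq_top_of_card_eq C (by rw [hcardA, pow_zero, mul_one])
    by_cases hAb : A = ⊥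
    · have : IsPGroup p G := IsPGroup.of_card (n := s) (by
        rw [← hA, hAb, Subgroup.index_bot])
      exact @IsNilpotent.to_isSolvable _ _ this.isNilpotent
    obtain ⟨z, hz, hz1⟩ := (Subgroup.bot_or_exists_ne_one A).resolve_left hAb
    refine (hburn z hz1 fun a ha => ?_).elim
    have h1 := (IsCyclic.commGroup (α := C)).mul_comm ⟨⟨a, ha⟩, hCtop ▸ Subgroup.mem_top _⟩
      ⟨⟨z, hz⟩, hCtop ▸ Subgroup.mem_top _⟩
    exact congrArg (fun t : C => ((t : A) : G)) h1
  -- a cyclic Sylow 2-subgroup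
  obtain S : Sylow 2 A := Classical.arbitrary _
  have hf : ∀ n : ℕ, Nat.card C * 2 ^ n ≠ 0 := fun n => mul_ne_zero Nat.card_pos.ne' (pow_ne_zero _ two_ne_zero)
  have hS : Nat.card (S : Subgroup A) = 2 ^ r := by
    rw [Sylow.card_eq_multiplicity, hcardA, Nat.factorization_mul Nat.card_pos.ne' (pow_ne_zero _ two_ne_zero),
      Finsupp.add_apply, Nat.factorization_eq_zero_of_not_dvd hodd, Nat.Prime.factorization_pow Nat.prime_two,
      Finsupp.single_eq_same, zero_add]
  have hScyc : IsCyclic (S : Subgroup A) := by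
    refine isCyclic_of_injective ((QuotientGroup.mk' C).comp (S : Subgroup A).subtype)
      ((injective_iff_map_eq_one _).mpr fun x hx => ?_)
    have hxC : (x : A) ∈ C := (QuotientGroup.eq_one_iff _).mp hx
    refine Subtype.ext ?_
    have h1 : (x : A) ∈ C ⊓ (S : Subgroup A) := ⟨hxC, x.2⟩
    rwa [inf_eq_bot_of_coprime (by rw [hS]; exact ((Nat.prime_two.coprime_iff_not_dvd.mpr hodd).pow_left r).symm),
      Subgroup.mem_bot] at h1
  let S' : Subgroup G := (S : Subgroup A).map A.subtype
  have hS' : Nat.card S' = 2 ^ r := (Subgroup.card_map_of_injective A.subtype_injective).trans hS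
  have hidx : ¬ 2 ∣ S'.index := by
    have h1 := S'.card_mul_index
    rw [hS', hcard, mul_comm (Nat.card C), mul_assoc] at h1
    rw [Nat.eq_of_mul_eq_mul_left (pow_pos two_pos r) h1]
    intro h2
    rcases (Nat.Prime.dvd_mul Nat.prime_two).mp h2 with h3 | h3
    · exact hodd h3
    · exact hp2 ((Nat.prime_dvd_prime_iff_eq Nat.prime_two hp).mp (Nat.prime_two.dvd_of_dvd_pow h3)).symm
  let P : Sylow 2 G := (IsPGroup.of_card hS' : IsPGroup 2 S').toSylow hidx
  have hPc : IsCyclic (P : Subgroup G) :=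
    isCyclic_of_surjective (A.subtype.subgroupMap (S : Subgroup A)) (A.subtype.subgroupMap_surjective _)
  have hPcard : Nat.card (P : Subgroup G) = 2 ^ r := hS'
  have hmin : (Nat.card G).minFac = 2 := (Nat.minFac_eq_two_iff _).mpr (by
    rw [hcard]; exact dvd_mul_of_dvd_left (dvd_mul_of_dvd_right (dvd_pow_self 2 hr0) _) _)
  have hcomp := IsCyclic.isComplement' hmin hPc
  set K := (MonoidHom.transferSylow P (hPc.normalizer_le_centralizer hmin)).ker
  rcases (inferInstance : K.Normal).eq_bot_or_eq_top with hK | hK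
  · have hPtop : (P : Subgroup G) = ⊤ := Subgroup.isComplement'_bot_left.mp (hK ▸ hcomp)
    have : IsPGroup 2 G := IsPGroup.of_card (n := r) (by rw [← hPcard, hPtop, Subgroup.card_top])
    exact @IsNilpotent.to_isSolvable _ _ this.isNilpotent
  · rw [hK, Subgroup.isComplement'_top_left] at hcomp
    rw [hcomp, Subgroup.card_bot] at hPcard
    exact absurd hPcard.symm (Nat.one_lt_pow hr0 one_lt_two).ne'

theorem isSolvable_aux : ∀ (n : ℕ) (G : Type u) [Group G] [Finite G] (A : Subgroup G) (p s : ℕ), Nat.card G = n →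
    p.Prime → A.index = p ^ s → IsCyclicTwo A → Group.IsSolvable G := by
  intro n
  induction n using Nat.strong_induction_on with
  | _ n ih =>
  intro G _ _ A p s hn hp hA h
  classical
  rcases subsingleton_or_nontrivial G with hs | hnt
  · exact Group.isSolvable_of_comm fun a b => Subsingleton.elim _ _
  by_cases hsimple : ∀ N : Subgroup G, N.Normal → N = ⊥ ∨ N = ⊤
  · haveI : IsSimpleGroup G := ⟨hsimple⟩
    exact simple_case A hp hA h
  push Not at hsimple
  obtain ⟨N, hN, hN1, hN2⟩ := hsimple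
  haveI := hN
  have hlt1 : Nat.card N < n := by
    rw [← hn]
    exact lt_of_le_of_ne (Nat.le_of_dvd Nat.card_pos N.card_subgroup_dvd_card)
      fun e => hN2 (Subgroup.eq_top_of_card_eq N e)
  have hlt2 : Nat.card (G ⧸ N) < n := hn ▸ card_quotient_lt hN1
  have hdvd : (A.subgroupOf N).index ∣ A.index := by
    have h1 := card_sup_mul_card_inf_normal (H := A) (N := N)
    rw [← card_mul_relIndex (le_sup_left : A ≤ A ⊔ N), ← card_mul_relIndex (inf_le_right : A ⊓ N ≤ N),
      Subgroup.inf_relIndex_right] at h1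
    have h2 : A.relIndex (A ⊔ N) = A.relIndex N := Nat.eq_of_mul_eq_mul_left
      (Nat.mul_pos (Nat.card_pos (α := A)) (Nat.card_pos (α := ↥(A ⊓ N)))) (by linear_combination h1)
    exact ⟨(A ⊔ N).index, by
      show A.index = A.relIndex N * _
      rw [← h2, Subgroup.relIndex_mul_index le_sup_left]⟩
  have hsN : Group.IsSolvable N := by
    obtain ⟨i, -, hi⟩ := (Nat.dvd_prime_pow hp).mp (hA ▸ hdvd)
    let f : ↥(A.subgroupOf N) →* A := MonoidHom.mk' (fun x => ⟨((x : N) : G), x.2⟩) fun _ _ => rfl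
    exact ih _ hlt1 N (A.subgroupOf N) p i rfl hp hi (h.of_injective f fun x y hxy =>
      Subtype.ext (Subtype.ext (congrArg (fun t : A => (t : G)) hxy)))
  have hsQ : Group.IsSolvable (G ⧸ N) := by
    obtain ⟨i, -, hi⟩ := (Nat.dvd_prime_pow hp).mp
      (hA ▸ Subgroup.index_map_dvd A (QuotientGroup.mk'_surjective N))
    exact ih _ hlt2 (G ⧸ N) (A.map (QuotientGroup.mk' N)) p i rfl hp hi
      (h.of_surjective ((QuotientGroup.mk' N).subgroupMap A) ((QuotientGroup.mk' N).subgroupMap_surjective A))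
  exact Group.isSolvable_of_ker_le_range N.subtype (QuotientGroup.mk' N) (by simp)

end Cfsg.Agent.Grp.PrimePowerIndex
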