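import Mathlib
import Cfsg.Prelude.Def_Local
import Cfsg.Agent.Lib.Grp.Components

/-!
Bender's theorem: a primitive pair whose generalized Fitting subgroups lie in both members has
characteristic `p`.
-/

set_option autoImplicit false

namespace Cfsg.Agent.Grp

open Subgroup

universe u

section InGroup

variable {X : Type u} [Group X] [Finite X]

theorem fitting_le_pCore_sup (p : ℕ) [Fact p.Prime] :
    Cfsg.fittingSubgroup X ≤
      Cfsg.pCore p X ⊔ ⨆ r : {r : Nat.Primes // (r : ℕ) ≠ p}, Cfsg.pCore ((r : Nat.Primes) : ℕ) X := by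
  rw [fittingSubgroup_eq_iSup_pCore]
  refine iSup_le fun r => ?_
  by_cases h : (r : ℕ) = p
  · rw [h]; exact le_sup_left
  · exact le_trans (le_iSup (fun r : {r : Nat.Primes // (r : ℕ) ≠ p} =>
      Cfsg.pCore ((r : Nat.Primes) : ℕ) X) ⟨r, h⟩) le_sup_right

/-- In a group with self-centralizing Fitting subgroup, a `p`-element centralizing all `O_r`
(`r ≠ p`) centralizes every `p'`-subgroup centralizing `O_p`. -/
theorem pElement_centralizes (hFit : centralizer (Cfsg.fittingSubgroup X : Set X) ≤ Cfsg.fittingSubgroup X)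
    {p : ℕ} [hp : Fact p.Prime] {Q : Subgroup X} (hQ : (Nat.card Q).Coprime p)
    (hQP : Q ≤ centralizer (Cfsg.pCore p X : Set X)) {k : X} {e : ℕ} (hk : k ^ p ^ e = 1)
    (hkR : ∀ r : ℕ, r.Prime → r ≠ p → k ∈ centralizer (Cfsg.pCore r X : Set X)) :
    ∀ d ∈ Q, k * d = d * k := by
  intro d hd
  have hPn : (Cfsg.pCore p X).Normal := pCore_isNormal
  let D : Subgroup X := ⨆ r : {r : Nat.Primes // (r : ℕ) ≠ p}, Cfsg.pCore ((r : Nat.Primes) : ℕ) X
  let K : Subgroup X := ⨅ r : {r : Nat.Primes // (r : ℕ) ≠ p},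
    centralizer (Cfsg.pCore ((r : Nat.Primes) : ℕ) X : Set X)
  have hKn : K.Normal := Subgroup.normal_iInf_normal fun r => by
    have := pCore_isNormal (p := ((r : Nat.Primes) : ℕ)) (G := X)
    infer_instance
  have hKD : K ≤ centralizer (D : Set X) := Subgroup.le_centralizer_iff.mpr <| iSup_le fun r =>
    Subgroup.le_centralizer_iff.mp (iInf_le _ r)
  have hkK : k ∈ K := Subgroup.mem_iInf.mpr fun r => hkR _ r.1.2 r.2
  set c := k * d * k⁻¹ * d⁻¹ with hc
  have hcK : c ∈ K := by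
    have h := hKn.conj_mem _ (K.inv_mem hkK) d
    rw [show c = k * (d * k⁻¹ * d⁻¹) by rw [hc]; group]
    exact K.mul_mem hkK h
  have hJn : (centralizer (Cfsg.pCore p X : Set X)).Normal := inferInstance
  have hcJ : c ∈ centralizer (Cfsg.pCore p X : Set X) :=
    Subgroup.mul_mem _ (hJn.conj_mem d (hQP hd) k) (Subgroup.inv_mem _ (hQP hd))
  have hcF : c ∈ centralizer (Cfsg.fittingSubgroup X : Set X) := by
    have hle : Cfsg.fittingSubgroup X ≤ centralizer {c} := by
      refine (fitting_le_pCore_sup p).trans (sup_le ?_ ?_)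
      · intro z hz
        rw [Subgroup.mem_centralizer_singleton_iff]
        exact Subgroup.mem_centralizer_iff.mp hcJ z hz
      · intro z hz
        rw [Subgroup.mem_centralizer_singleton_iff]
        exact Subgroup.mem_centralizer_iff.mp (hKD hcK) z hz
    exact Subgroup.mem_centralizer_iff.mpr fun z hz =>
      Subgroup.mem_centralizer_singleton_iff.mp (hle hz)
  obtain ⟨a, ha, b, hb, hab⟩ := Subgroup.mem_sup_of_normal_right.mp
    (fitting_le_pCore_sup p (hFit hcF) : c ∈ Cfsg.pCore p X ⊔ D)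
  have hDp : D ≤ Cfsg.pPrimeCore p X := iSup_le fun r => le_pPrimeCore pCore_isNormal (by
    haveI := Fact.mk r.1.2
    obtain ⟨m, hm⟩ := (pCore_isPGroup (p := ((r : Nat.Primes) : ℕ)) (G := X)).exists_card_eq
    rw [hm]
    exact ((Nat.coprime_primes r.1.2 hp.out).mpr r.2).pow_left m)
  have hNn : (Cfsg.pPrimeCore p X).Normal := pPrimeCore_isNormal
  have hdisj : Disjoint (Cfsg.pCore p X) (Cfsg.pPrimeCore p X) := by
    rw [disjoint_iff]
    obtain ⟨m, hm⟩ := (pCore_isPGroup (p := p) (G := X)).exists_card_eq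
    exact inf_eq_bot_of_coprime (by rw [hm]; exact (pPrimeCore_coprime (p := p) (G := X)).symm.pow_left m)
  have hcomm_ab : Commute a b :=
    Subgroup.commute_of_normal_of_disjoint _ _ hPn hNn hdisj a b ha (hDp hb)
  have hcomm_ad : Commute a d := Subgroup.mem_centralizer_iff.mp (hQP hd) a ha
  set N := Nat.card (Cfsg.pPrimeCore p X) with hN
  set q := Nat.card Q
  have hbd : (b * d) ^ (q * N) = 1 := by
    set π := QuotientGroup.mk' (Cfsg.pPrimeCore p X)
    have h1 : π ((b * d) ^ q) = 1 := by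
      rw [map_pow, map_mul, show π b = 1 from (QuotientGroup.eq_one_iff _).mpr (hDp hb), one_mul,
        ← map_pow, show d ^ q = 1 from (Q.orderOf_dvd_natCard hd |> orderOf_dvd_iff_pow_eq_one.mp),
        map_one]
    rw [pow_mul]
    exact orderOf_dvd_iff_pow_eq_one.mp
      ((Cfsg.pPrimeCore p X).orderOf_dvd_natCard ((QuotientGroup.eq_one_iff _).mp h1))
  have hkd : k * d * k⁻¹ = a * (b * d) := by
    rw [← mul_assoc, hab, hc]; group
  have ha1 : a = 1 := by
    have hcop : (q * N).Coprime p := hQ.mul_left (pPrimeCore_coprime (p := p) (G := X))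
    have hd1 : d ^ (q * N) = 1 := by
      rw [pow_mul, show d ^ q = 1 from (Q.orderOf_dvd_natCard hd |> orderOf_dvd_iff_pow_eq_one.mp), one_pow]
    have h1 : (k * d * k⁻¹) ^ (q * N) = 1 := by rw [conj_pow, hd1, mul_one, mul_inv_cancel]
    rw [hkd, (hcomm_ab.mul_right hcomm_ad).mul_pow, hbd, mul_one] at h1
    obtain ⟨m, hm⟩ := (pCore_isPGroup (p := p) (G := X)).exists_card_eq
    have h2 : orderOf a ∣ p ^ m := hm ▸ (Cfsg.pCore p X).orderOf_dvd_natCard ha
    have h3 := Nat.dvd_gcd (orderOf_dvd_of_pow_eq_one h1) h2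
    rw [(hcop.pow_right m)] at h3
    exact orderOf_eq_one_iff.mp (Nat.dvd_one.mp h3)
  rw [ha1, one_mul] at hkd
  have hkb : k * b = b * k := (Subgroup.mem_centralizer_iff.mp (hKD hkK) b hb).symm
  have hiter : ∀ j : ℕ, k ^ j * d * (k ^ j)⁻¹ = b ^ j * d := by
    intro j
    induction j with
    | zero => simp
    | succ j IH =>
      have h : k * b ^ j * k⁻¹ = b ^ j := by
        rw [(show Commute k b from hkb).pow_right j |>.eq, mul_inv_cancel_right]
      rw [pow_succ' k j]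
      calc k * k ^ j * d * (k * k ^ j)⁻¹ = k * (k ^ j * d * (k ^ j)⁻¹) * k⁻¹ := by group
        _ = (k * b ^ j * k⁻¹) * (k * d * k⁻¹) := by rw [IH]; group
        _ = b ^ (j + 1) * d := by rw [h, hkd, pow_succ]; group
  have hb1 : b = 1 := by
    have h := hiter (p ^ e)
    rw [hk, one_mul, inv_one, mul_one] at h
    have h1 : b ^ p ^ e = 1 := mul_eq_right.mp h.symm
    have h3 := Nat.dvd_gcd ((Cfsg.pPrimeCore p X).orderOf_dvd_natCard (hDp hb))
      (orderOf_dvd_of_pow_eq_one h1)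
    rw [((pPrimeCore_coprime (p := p) (G := X)).pow_right e)] at h3
    exact orderOf_eq_one_iff.mp (Nat.dvd_one.mp h3)
  rw [hb1, one_mul] at hkd
  exact mul_inv_eq_iff_eq_mul.mp hkd

/-- A subgroup containing `F*(X)` has the layer of `X` as its layer. -/
theorem layer_eq_of_gfitting_le {H : Subgroup X} (h : Cfsg.generalizedFittingSubgroup X ≤ H) :
    (Cfsg.layer ↥H).map H.subtype = Cfsg.layer X := by
  have hEH : Cfsg.layer X ≤ H := le_sup_left.trans h
  refine le_antisymm ?_ (sSup_le fun L hL => ?_)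
  · rw [Cfsg.layer, Subgroup.map_le_iff_le_comap]
    refine sSup_le fun K hK => ?_
    by_contra hnot
    have hFn : ((Cfsg.fittingSubgroup X).subgroupOf H).Normal := by
      have := fittingSubgroup_isNormal (G := X); infer_instance
    have hFnil : Group.IsNilpotent ↥((Cfsg.fittingSubgroup X).subgroupOf H) :=
      (Group.isNilpotent_congr (Subgroup.subgroupOfEquivOfLe (le_sup_right.trans h))).mpr
        fittingSubgroup_isNilpotent
    have h1 : K.map H.subtype ≤ centralizer (Cfsg.fittingSubgroup X : Set X) := by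
      rintro x ⟨k, hk, rfl⟩
      rw [Subgroup.mem_centralizer_iff]
      intro f hf
      have hc := Subgroup.commutator_eq_bot_iff_le_centralizer.mp
        (component_centralizes_solvable hK (H := (Cfsg.fittingSubgroup X).subgroupOf H) inferInstance
          (le_top.trans (Subgroup.normalizer_eq_top (H := (Cfsg.fittingSubgroup X).subgroupOf H)).ge))
      exact congrArg Subtype.val (Subgroup.mem_centralizer_iff.mp (hc hk) ⟨f, h (mem_sup_right hf)⟩
        (mem_subgroupOf.mpr hf))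
    have h2 : K.map H.subtype ≤ centralizer (Cfsg.layer X : Set X) := by
      refine Subgroup.le_centralizer_iff.mp (sSup_le fun L hL => ?_)
      have hL' := IsComponent.subgroupOf hL ((IsComponent.le_layer hL).trans hEH)
      intro l hl
      rw [Subgroup.mem_centralizer_iff]
      rintro x ⟨k, hk, rfl⟩
      rcases eq_or_ne K (L.subgroupOf H) with heq | hne
      · exfalso
        refine hnot ?_
        rw [heq, ← Subgroup.map_le_iff_le_comap]
        exact le_trans (Subgroup.map_comap_le _ _) (le_sSup hL)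
      · have hc := IsComponent.commute hK hL' hne
        exact (congrArg Subtype.val (Subgroup.mem_centralizer_iff.mp (hc hk)
          ⟨l, (IsComponent.le_layer hL).trans hEH hl⟩ (mem_subgroupOf.mpr hl))).symm
    have h3 : K.map H.subtype ≤ centralizer (Cfsg.generalizedFittingSubgroup X : Set X) := by
      rw [Subgroup.le_centralizer_iff, Cfsg.generalizedFittingSubgroup]
      exact sup_le (Subgroup.le_centralizer_iff.mp h2) (Subgroup.le_centralizer_iff.mp h1)
    have h4 : ⁅K.map H.subtype, K.map H.subtype⁆ = K.map H.subtype := by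
      rw [← Subgroup.map_commutator, IsComponent.perfect hK]
    have h5 := eq_bot_of_perfect_of_comm h4
      (h1.trans (Subgroup.centralizer_le (SetLike.coe_subset_coe.mpr (h3.trans centralizer_gfitting_le_fitting))))
    rw [Subgroup.map_eq_bot_iff, Subgroup.ker_subtype, le_bot_iff] at h5
    exact IsComponent.ne_bot hK h5
  · refine le_trans ?_ (Subgroup.map_mono (IsComponent.le_layer
      (IsComponent.subgroupOf hL ((IsComponent.le_layer hL).trans hEH))))
    rw [Subgroup.subgroupOf_map_subtype]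
    exact le_inf le_rfl ((IsComponent.le_layer hL).trans hEH)

end InGroup

variable {G : Type u} [Group G] [Finite G]

/-- `O_r(M)` as a subgroup of the ambient group. -/
abbrev coreIn (r : ℕ) (M : Subgroup G) : Subgroup G := (Cfsg.pCore r ↥M).map M.subtype

/-- `p`-elements of `M` centralizing all `O_r(M)` with `r ≠ p`. -/
def coreGens (p : ℕ) (M : Subgroup G) : Set G :=
  {g | g ∈ M ∧ (∃ e, g ^ p ^ e = 1) ∧ ∀ r : ℕ, r.Prime → r ≠ p → g ∈ centralizer (coreIn r M : Set G)}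

theorem coreIn_normalized (r : ℕ) (M : Subgroup G) : M ≤ normalizer (coreIn r M : Set G) := by
  have h : ∀ g ∈ M, ∀ x ∈ coreIn r M, g * x * g⁻¹ ∈ coreIn r M := by
    rintro g hg x ⟨y, hy, rfl⟩
    exact ⟨_, (pCore_isNormal (p := r) (G := ↥M)).conj_mem y hy ⟨g, hg⟩, rfl⟩
  intro g hg
  rw [mem_normalizer_iff]
  refine fun x => ⟨h g hg x, fun hx => ?_⟩
  have h2 := h g⁻¹ (M.inv_mem hg) _ hx
  simpa [mul_assoc] using h2

theorem coreIn_card_coprime {r p : ℕ} (hr : r.Prime) (hp : p.Prime) (h : r ≠ p) (M : Subgroup G) :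
    (Nat.card (coreIn r M)).Coprime p := by
  haveI := Fact.mk hr
  obtain ⟨m, hm⟩ := (pCore_isPGroup (p := r) (G := ↥M)).exists_card_eq
  rw [coreIn, Subgroup.card_map_of_injective M.subtype_injective, hm]
  exact ((Nat.coprime_primes hr hp).mpr h).pow_left m

/-- The two cores commute. -/
theorem coreIn_commute {r p : ℕ} (hr : r.Prime) (hp : p.Prime) (h : r ≠ p) {A B : Subgroup G}
    (hAB : coreIn r A ≤ B) (hBA : coreIn p B ≤ A) :
    ∀ x ∈ coreIn p B, ∀ y ∈ coreIn r A, x * y = y * x := by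
  intro x hx y hy
  have h1 : x * y * x⁻¹ * y⁻¹ ∈ coreIn r A :=
    Subgroup.mul_mem _ ((mem_normalizer_iff.mp (coreIn_normalized r A (hBA hx)) y).mp hy)
      (Subgroup.inv_mem _ hy)
  have h2 : x * y * x⁻¹ * y⁻¹ ∈ coreIn p B := by
    rw [show x * y * x⁻¹ * y⁻¹ = x * (y * x⁻¹ * y⁻¹) by group]
    exact Subgroup.mul_mem _ hx ((mem_normalizer_iff.mp (coreIn_normalized p B (hAB hy)) _).mp
      (Subgroup.inv_mem _ hx))
  have hbot : coreIn r A ⊓ coreIn p B = ⊥ := by
    haveI := Fact.mk hp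
    obtain ⟨m, hm⟩ := (pCore_isPGroup (p := p) (G := ↥B)).exists_card_eq
    refine inf_eq_bot_of_coprime ?_
    rw [coreIn, coreIn, Subgroup.card_map_of_injective B.subtype_injective, hm]
    exact (coreIn_card_coprime hr hp h A).pow_right m
  have h3 : x * y * x⁻¹ * y⁻¹ ∈ coreIn r A ⊓ coreIn p B := ⟨h1, h2⟩
  rw [hbot, Subgroup.mem_bot] at h3
  exact mul_inv_eq_iff_eq_mul.mp (mul_inv_eq_one.mp h3)

theorem coreGens_centralize {A B : Subgroup G}
    (hB : centralizer (Cfsg.fittingSubgroup ↥B : Set ↥B) ≤ Cfsg.fittingSubgroup ↥B)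
    {p r : ℕ} (hp : p.Prime) (hr : r.Prime) (h : r ≠ p)
    (hAB : coreIn r A ≤ B) (hBA : coreIn p B ≤ A) {g : G} (hg : g ∈ coreGens p B) :
    g ∈ centralizer (coreIn r A : Set G) := by
  haveI := Fact.mk hp
  obtain ⟨hgB, ⟨e, he⟩, hgc⟩ := hg
  rw [Subgroup.mem_centralizer_iff]
  intro d hd
  have hQ : (Nat.card ↥((coreIn r A).subgroupOf B)).Coprime p := by
    rw [Nat.card_congr (Subgroup.subgroupOfEquivOfLe hAB).toEquiv]
    exact coreIn_card_coprime hr hp h A
  have := pElement_centralizes hB hQ (k := (⟨g, hgB⟩ : ↥B)) (e := e) ?_ (Subtype.ext (by simpa using he))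
    ?_ ⟨d, hAB hd⟩ (mem_subgroupOf.mpr hd)
  · exact (congrArg Subtype.val this).symm
  · intro y hy
    rw [Subgroup.mem_centralizer_iff]
    intro x hx
    exact Subtype.ext (coreIn_commute hr hp h hAB hBA x ⟨x, hx, rfl⟩ y (mem_subgroupOf.mp hy))
  · intro s hs hsp
    rw [Subgroup.mem_centralizer_iff]
    intro x hx
    exact Subtype.ext (Subgroup.mem_centralizer_iff.mp (hgc s hs hsp) x ⟨x, hx, rfl⟩)

theorem coreGens_conj {p : ℕ} {M : Subgroup G} {m g : G} (hm : m ∈ M) (hg : g ∈ coreGens p M) :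
    m * g * m⁻¹ ∈ coreGens p M := by
  obtain ⟨hgM, ⟨e, he⟩, hgc⟩ := hg
  refine ⟨M.mul_mem (M.mul_mem hm hgM) (M.inv_mem hm), ⟨e, by rw [conj_pow, he, mul_one, mul_inv_cancel]⟩, ?_⟩
  intro r hr hrp
  rw [Subgroup.mem_centralizer_iff]
  intro x hx
  have hx' : m⁻¹ * x * m ∈ coreIn r M := by
    have := (mem_normalizer_iff.mp (coreIn_normalized r M (M.inv_mem hm)) x).mp hx
    simpa using this
  have h := Subgroup.mem_centralizer_iff.mp (hgc r hr hrp) _ hx'
  calc x * (m * g * m⁻¹) = m * ((m⁻¹ * x * m) * g) * m⁻¹ := by group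
    _ = m * (g * (m⁻¹ * x * m)) * m⁻¹ := by rw [h]
    _ = m * g * m⁻¹ * x := by group

/-- Bender's theorem for primitive pairs. -/
theorem primitive_pair_characteristic (M₁ M₂ : Subgroup G) (hne : M₁ ≠ M₂)
    (hP : ∀ A : Subgroup G, A ≠ ⊥ → A ≤ M₁ ⊓ M₂ →
      (M₁ ≤ normalizer (A : Set G) → M₂ ⊓ normalizer (A : Set G) = M₁ ⊓ M₂) ∧
      (M₂ ≤ normalizer (A : Set G) → M₁ ⊓ normalizer (A : Set G) = M₁ ⊓ M₂))
    (h₁ : (Cfsg.generalizedFittingSubgroup ↥M₁).map M₁.subtype ≤ M₂)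
    (h₂ : (Cfsg.generalizedFittingSubgroup ↥M₂).map M₂.subtype ≤ M₁) :
    ∃ p : ℕ, p.Prime ∧
      Cfsg.generalizedFittingSubgroup ↥M₁ = Cfsg.pCore p ↥M₁ ∧
      Cfsg.generalizedFittingSubgroup ↥M₂ = Cfsg.pCore p ↥M₂ := by
  have hboth : ∀ A : Subgroup G, A ≤ M₁ ⊓ M₂ → M₁ ≤ normalizer (A : Set G) →
      M₂ ≤ normalizer (A : Set G) → A = ⊥ := by
    intro A hA ha hb
    by_contra hA1
    have e1 := (hP A hA1 hA).1 ha
    have e2 := (hP A hA1 hA).2 hb
    rw [inf_eq_left.mpr hb] at e1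
    rw [inf_eq_left.mpr ha] at e2
    exact hne (le_antisymm (e2.le.trans inf_le_right) (e1.le.trans inf_le_left))
  -- the layers vanish
  have hEle : ∀ M : Subgroup G, M ≤ normalizer ((Cfsg.layer ↥M).map M.subtype : Set G) := by
    intro M
    have h : ∀ g ∈ M, ∀ x ∈ (Cfsg.layer ↥M).map M.subtype, g * x * g⁻¹ ∈ (Cfsg.layer ↥M).map M.subtype := by
      rintro g hg x ⟨y, hy, rfl⟩
      exact ⟨_, (inferInstance : (Cfsg.layer ↥M).Normal).conj_mem y hy ⟨g, hg⟩, rfl⟩
    intro g hg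
    rw [mem_normalizer_iff]
    refine fun x => ⟨h g hg x, fun hx => ?_⟩
    have h2 := h g⁻¹ (M.inv_mem hg) _ hx
    simpa [mul_assoc] using h2
  have hlay : ∀ A : Subgroup G, M₁ ⊓ M₂ ≤ A →
      (Cfsg.generalizedFittingSubgroup ↥A).map A.subtype ≤ M₁ ⊓ M₂ →
      (Cfsg.layer ↥A).map A.subtype = (Cfsg.layer ↥(M₁ ⊓ M₂ : Subgroup G)).map (M₁ ⊓ M₂).subtype := by
    intro A hle hA
    have h := layer_eq_of_gfitting_le (X := ↥A) (H := (M₁ ⊓ M₂).subgroupOf A)
      (fun x hx => mem_subgroupOf.mpr (hA ⟨x, hx, rfl⟩))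
    let e := (Subgroup.subgroupOfEquivOfLe hle)
    have he : (Cfsg.layer ↥((M₁ ⊓ M₂).subgroupOf A)).map e.toMonoidHom = Cfsg.layer ↥(M₁ ⊓ M₂ : Subgroup G) := by
      refine le_antisymm (layer_map_le e) ?_
      intro x hx
      refine ⟨e.symm x, layer_map_le e.symm ⟨x, hx, rfl⟩, e.apply_symm_apply x⟩
    rw [← h, ← he, Subgroup.map_map, Subgroup.map_map]
    rfl
  have hE12 : (Cfsg.layer ↥M₁).map M₁.subtype = (Cfsg.layer ↥M₂).map M₂.subtype :=
    (hlay M₁ inf_le_left (le_inf (Subgroup.map_subtype_le _) h₁)).trans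
      (hlay M₂ inf_le_right (le_inf h₂ (Subgroup.map_subtype_le _))).symm
  have hEbot : (Cfsg.layer ↥M₁).map M₁.subtype = ⊥ := by
    refine hboth _ (le_inf (Subgroup.map_subtype_le _) ?_) (hEle M₁) (hE12 ▸ hEle M₂)
    rw [hE12]; exact Subgroup.map_subtype_le _
  have hE1 : Cfsg.layer ↥M₁ = ⊥ := by
    rwa [Subgroup.map_eq_bot_iff, Subgroup.ker_subtype, le_bot_iff] at hEbot
  have hE2 : Cfsg.layer ↥M₂ = ⊥ := by
    rw [hE12] at hEbot
    rwa [Subgroup.map_eq_bot_iff, Subgroup.ker_subtype, le_bot_iff] at hEbot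
  have hC1 := centralizer_fitting_le_of_layer_eq_bot hE1
  have hC2 := centralizer_fitting_le_of_layer_eq_bot hE2
  have hgf1 : Cfsg.generalizedFittingSubgroup ↥M₁ = Cfsg.fittingSubgroup ↥M₁ := by
    rw [Cfsg.generalizedFittingSubgroup, hE1, bot_sup_eq]
  have hgf2 : Cfsg.generalizedFittingSubgroup ↥M₂ = Cfsg.fittingSubgroup ↥M₂ := by
    rw [Cfsg.generalizedFittingSubgroup, hE2, bot_sup_eq]
  rw [hgf1] at h₁
  rw [hgf2] at h₂
  have hcore : ∀ (M : Subgroup G) (r : ℕ), r.Prime →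
      coreIn r M ≤ (Cfsg.fittingSubgroup ↥M).map M.subtype := fun M r hr => by
    haveI := Fact.mk hr
    exact Subgroup.map_mono pCore_le_fittingSubgroup
  have hin1 : ∀ r : ℕ, r.Prime → coreIn r M₁ ≤ M₂ := fun r hr => (hcore M₁ r hr).trans h₁
  have hin2 : ∀ r : ℕ, r.Prime → coreIn r M₂ ≤ M₁ := fun r hr => (hcore M₂ r hr).trans h₂
  have hex : ∀ M : Subgroup G, M ≠ ⊥ →
      centralizer (Cfsg.fittingSubgroup ↥M : Set ↥M) ≤ Cfsg.fittingSubgroup ↥M →
      ∃ r : ℕ, r.Prime ∧ coreIn r M ≠ ⊥ := by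
    intro M hM hC
    by_contra hall
    push Not at hall
    have hF : Cfsg.fittingSubgroup ↥M = ⊥ := by
      rw [fittingSubgroup_eq_iSup_pCore, iSup_eq_bot]
      intro r
      have h := hall r r.2
      rwa [coreIn, Subgroup.map_eq_bot_iff, Subgroup.ker_subtype, le_bot_iff] at h
    rw [hF] at hC
    refine hM ((Subgroup.eq_bot_iff_forall _).mpr fun x hx => ?_)
    have h := hC (x := (⟨x, hx⟩ : ↥M)) (by
      rw [Subgroup.mem_centralizer_iff]; intro y hy
      rw [SetLike.mem_coe, Subgroup.mem_bot] at hy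
      rw [hy, one_mul, mul_one])
    exact congrArg Subtype.val (Subgroup.mem_bot.mp h)
  have hcenbot : ∀ M : Subgroup G, M = ⊥ → (Cfsg.fittingSubgroup ↥M).map M.subtype = ⊥ := fun M h =>
    le_bot_iff.mp (h ▸ Subgroup.map_subtype_le _)
  have hne1 : M₁ ≠ ⊥ := by
    intro h
    refine hne (h.trans (Eq.symm ?_))
    by_contra h2
    obtain ⟨r, hr, hr1⟩ := hex M₂ h2 hC2
    exact hr1 (le_bot_iff.mp (h ▸ hin2 r hr))
  have hne2 : M₂ ≠ ⊥ := by
    intro h
    refine hne (Eq.trans ?_ h.symm)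
    by_contra h2
    obtain ⟨r, hr, hr1⟩ := hex M₁ h2 hC1
    exact hr1 (le_bot_iff.mp (h ▸ hin1 r hr))
  obtain ⟨q0, hq0, hq0ne⟩ := hex M₁ hne1 hC1
  obtain ⟨p0, hp0, hp0ne⟩ := hex M₂ hne2 hC2
  by_cases hsame : (∀ r : ℕ, r.Prime → r ≠ p0 → coreIn r M₁ = ⊥) ∧
      ∀ r : ℕ, r.Prime → r ≠ p0 → coreIn r M₂ = ⊥
  · have heq : ∀ M : Subgroup G, (∀ r : ℕ, r.Prime → r ≠ p0 → coreIn r M = ⊥) →
        Cfsg.fittingSubgroup ↥M = Cfsg.pCore p0 ↥M := by
      intro M hM
      haveI := Fact.mk hp0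
      refine le_antisymm ((fitting_le_pCore_sup p0).trans (sup_le le_rfl (iSup_le fun r => ?_)))
        pCore_le_fittingSubgroup
      have h := hM _ r.1.2 r.2
      rw [coreIn, Subgroup.map_eq_bot_iff, Subgroup.ker_subtype, le_bot_iff] at h
      rw [h]; exact bot_le
    exact ⟨p0, hp0, hgf1.trans (heq M₁ hsame.1), hgf2.trans (heq M₂ hsame.2)⟩
  exfalso
  -- choose distinct primes
  obtain ⟨p, q, hp, hq, hqp, hpne, hqne⟩ : ∃ p q : ℕ, p.Prime ∧ q.Prime ∧ q ≠ p ∧
      coreIn p M₂ ≠ ⊥ ∧ coreIn q M₁ ≠ ⊥ := by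
    by_cases hqp : q0 = p0
    · subst hqp
      rw [not_and_or] at hsame
      rcases hsame with h | h <;> push Not at h <;> obtain ⟨r, hr, hrp, hrne⟩ := h
      · exact ⟨q0, r, hp0, hr, hrp, hp0ne, hrne⟩
      · exact ⟨r, q0, hr, hq0, fun e => hrp e.symm, hrne, hq0ne⟩
    · exact ⟨p0, q0, hp0, hq0, hqp, hp0ne, hq0ne⟩
  haveI := Fact.mk hp
  by_cases hS : ∀ r : ℕ, r.Prime → r ≠ p → coreIn r M₂ = ⊥
  · -- `F(M₂)` is a `p`-group centralized by `O_q(M₁)`
    refine hqne ((Subgroup.eq_bot_iff_forall _).mpr fun y hy => ?_)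
    have hy2 : y ∈ M₂ := hin1 q hq hy
    have hyC : (⟨y, hy2⟩ : ↥M₂) ∈ centralizer (Cfsg.fittingSubgroup ↥M₂ : Set ↥M₂) := by
      have hle : Cfsg.fittingSubgroup ↥M₂ ≤ centralizer {(⟨y, hy2⟩ : ↥M₂)} := by
        refine (fitting_le_pCore_sup p).trans (sup_le ?_ (iSup_le fun r => ?_))
        · intro z hz
          rw [Subgroup.mem_centralizer_singleton_iff]
          exact Subtype.ext (coreIn_commute hq hp hqp (hin1 q hq) (hin2 p hp) _ ⟨z, hz, rfl⟩ y hy)
        · have h := hS _ r.1.2 r.2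
          rw [coreIn, Subgroup.map_eq_bot_iff, Subgroup.ker_subtype, le_bot_iff] at h
          rw [h]; exact bot_le
      exact Subgroup.mem_centralizer_iff.mpr fun z hz =>
        Subgroup.mem_centralizer_singleton_iff.mp (hle hz)
    have h5 := (fitting_le_pCore_sup p) (hC2 hyC)
    have hDbot : (⨆ r : {r : Nat.Primes // (r : ℕ) ≠ p}, Cfsg.pCore ((r : Nat.Primes) : ℕ) ↥M₂) = ⊥ := by
      rw [iSup_eq_bot]; intro r
      have h := hS _ r.1.2 r.2
      rwa [coreIn, Subgroup.map_eq_bot_iff, Subgroup.ker_subtype, le_bot_iff] at h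
    rw [hDbot, sup_bot_eq] at h5
    have h6 : y ∈ coreIn q M₁ ⊓ coreIn p M₂ := ⟨hy, ⟨_, h5, rfl⟩⟩
    obtain ⟨m, hm⟩ := (pCore_isPGroup (p := p) (G := ↥M₂)).exists_card_eq
    rw [inf_eq_bot_of_coprime (by
      rw [coreIn, coreIn, Subgroup.card_map_of_injective M₂.subtype_injective, hm]
      exact (coreIn_card_coprime hq hp hqp M₁).pow_right m)] at h6
    exact Subgroup.mem_bot.mp h6
  push Not at hS
  obtain ⟨s, hs, hsp, hsne⟩ := hS
  have hN1 : ∀ g ∈ M₂, g ∈ normalizer (coreIn q M₁ : Set G) → g ∈ M₁ := fun g hg hn =>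
    (((hP _ hqne (le_inf (Subgroup.map_subtype_le _) (hin1 q hq))).1 (coreIn_normalized q M₁)).le ⟨hg, hn⟩).1
  have hN2 : ∀ g ∈ M₁, g ∈ normalizer (coreIn s M₂ : Set G) → g ∈ M₂ := fun g hg hn =>
    (((hP _ hsne (le_inf (hin2 s hs) (Subgroup.map_subtype_le _))).2 (coreIn_normalized s M₂)).le ⟨hg, hn⟩).2
  have hsub21 : coreGens p M₂ ⊆ coreGens p M₁ := by
    intro g hg
    have hall : ∀ r : ℕ, r.Prime → r ≠ p → g ∈ centralizer (coreIn r M₁ : Set G) := fun r hr hrp =>
      coreGens_centralize hC2 hp hr hrp (hin1 r hr) (hin2 p hp) hg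
    exact ⟨hN1 g hg.1 (Subgroup.centralizer_le_normalizer _ (hall q hq hqp)), hg.2.1, hall⟩
  have hsub12 : coreGens p M₁ ⊆ coreGens p M₂ := by
    intro g hg
    have hall : ∀ r : ℕ, r.Prime → r ≠ p → g ∈ centralizer (coreIn r M₂ : Set G) := fun r hr hrp =>
      coreGens_centralize hC1 hp hr hrp (hin2 r hr) (hin1 p hp) hg
    exact ⟨hN2 g hg.1 (Subgroup.centralizer_le_normalizer _ (hall s hs hsp)), hg.2.1, hall⟩
  have hgeq : coreGens p M₁ = coreGens p M₂ := hsub12.antisymm hsub21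
  have hnormK : ∀ M : Subgroup G, M ≤ normalizer (Subgroup.closure (coreGens p M) : Set G) := by
    intro M
    have h : ∀ g ∈ M, ∀ x ∈ Subgroup.closure (coreGens p M), g * x * g⁻¹ ∈ Subgroup.closure (coreGens p M) := by
      intro g hg x hx
      have hle : Subgroup.closure (coreGens p M) ≤
          (Subgroup.closure (coreGens p M)).comap (MulAut.conj g).toMonoidHom :=
        (Subgroup.closure_le _).mpr fun y hy => Subgroup.subset_closure (coreGens_conj hg hy)
      exact hle hx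
    intro g hg
    rw [mem_normalizer_iff]
    refine fun x => ⟨h g hg x, fun hx => ?_⟩
    have h2 := h g⁻¹ (M.inv_mem hg) _ hx
    simpa [mul_assoc] using h2
  have hK0 := hboth (Subgroup.closure (coreGens p M₂))
    (le_inf ((Subgroup.closure_le _).mpr fun g hg => (hsub21 hg).1)
      ((Subgroup.closure_le _).mpr fun g hg => hg.1))
    (hgeq ▸ hnormK M₁) (hnormK M₂)
  refine hpne ((Subgroup.eq_bot_iff_forall _).mpr fun x hx => ?_)
  have hxg : x ∈ coreGens p M₂ := by
    obtain ⟨y, hy, rfl⟩ := hx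
    obtain ⟨m, hm⟩ := (pCore_isPGroup (p := p) (G := ↥M₂)).exists_card_eq
    refine ⟨y.2, ⟨m, ?_⟩, fun r hr hrp => ?_⟩
    · have h := (Cfsg.pCore p ↥M₂).orderOf_dvd_natCard hy
      rw [hm] at h
      have h2 : y ^ p ^ m = 1 := orderOf_dvd_iff_pow_eq_one.mp h
      simpa using congrArg Subtype.val h2
    · rw [Subgroup.mem_centralizer_iff]
      rintro z ⟨w, hw, rfl⟩
      have hd : (Nat.card (Cfsg.pCore p ↥M₂)).Coprime (Nat.card (Cfsg.pCore r ↥M₂)) := by
        haveI := Fact.mk hr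
        obtain ⟨n, hn⟩ := (pCore_isPGroup (p := r) (G := ↥M₂)).exists_card_eq
        rw [hm, hn]; exact Nat.coprime_pow_primes m n hp hr fun e => hrp e.symm
      have := pCore_isNormal (p := p) (G := ↥M₂)
      have := pCore_isNormal (p := r) (G := ↥M₂)
      exact congrArg Subtype.val (Subgroup.mem_centralizer_iff.mp (commute_of_coprime_normal hd hy) w hw)
  exact Subgroup.mem_bot.mp (hK0 ▸ Subgroup.subset_closure hxg)

end Cfsg.Agent.Grp
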