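import Mathlib
import Cfsg.Prelude.Def_LocalEven
import Cfsg.Agent.Lib.Grp.PrimitivePair
import Cfsg.Agent.Lib.Grp.SignalizerTransitive

/-!
Existence of a primitive pair of characteristic `p` when no maximal `p`-local subgroup is strongly
`p`-embedded.
-/

set_option autoImplicit false

namespace Cfsg.Agent.Grp

open Subgroup

variable {G : Type*} [Group G]

/-- A `p`-local subgroup, written as a normalizer. -/
def IsLoc (p : ℕ) (M : Subgroup G) : Prop :=
  ∃ T : Subgroup G, IsPGroup p T ∧ T ≠ ⊥ ∧ M = normalizer (T : Set G)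

/-- A maximal `p`-local subgroup. -/
def IsMaxLoc (p : ℕ) (M : Subgroup G) : Prop :=
  IsLoc p M ∧ ∀ L : Subgroup G, IsLoc p L → M ≤ L → L = M

theorem coreIn_isPGroup [Finite G] {p : ℕ} [Fact p.Prime] (M : Subgroup G) :
    IsPGroup p ↥((Cfsg.pCore p ↥M).map M.subtype) :=
  pCore_isPGroup.map _

theorem le_coreIn [Finite G] {p : ℕ} [Fact p.Prime] {M P : Subgroup G} (hP : IsPGroup p P) (hPM : P ≤ M)
    (hn : M ≤ normalizer (P : Set G)) : P ≤ (Cfsg.pCore p ↥M).map M.subtype := by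
  have : (P.subgroupOf M).Normal := (Subgroup.normal_subgroupOf_iff_le_normalizer hPM).mpr hn
  intro x hx
  exact ⟨⟨x, hPM hx⟩, le_pCore this (hP.comap_of_injective M.subtype M.subtype_injective) hx, rfl⟩

theorem exists_maxLoc_ge [Finite G] {p : ℕ} {L : Subgroup G} (h : IsLoc p L) :
    ∃ M, IsMaxLoc p M ∧ L ≤ M := by
  obtain ⟨M, ⟨hM, hLM⟩, hmax⟩ := (Set.toFinite {M : Subgroup G | IsLoc p M ∧ L ≤ M}).exists_maximal ⟨L, h, le_rfl⟩
  exact ⟨M, ⟨hM, fun N hN hMN => le_antisymm (hmax ⟨hN, hLM.trans hMN⟩ hMN) hMN⟩, hLM⟩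

theorem loc_map_conj {p : ℕ} {M : Subgroup G} (h : IsLoc p M) (g : G) :
    IsLoc p (M.map (MulAut.conj g).toMonoidHom) := by
  obtain ⟨T, hT, hT1, rfl⟩ := h
  exact ⟨T.map (MulAut.conj g).toMonoidHom, hT.map _,
    fun e => hT1 ((Subgroup.map_eq_bot_iff_of_injective _ (MulAut.conj g).injective).mp e),
    Subgroup.map_equiv_normalizer_eq T (MulAut.conj g)⟩

theorem maxLoc_map_conj {p : ℕ} {M : Subgroup G} (h : IsMaxLoc p M) (g : G) :
    IsMaxLoc p (M.map (MulAut.conj g).toMonoidHom) := by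
  refine ⟨loc_map_conj h.1 g, fun L hL hle => ?_⟩
  have h2 : L.map (MulAut.conj g⁻¹).toMonoidHom = M := by
    refine h.2 _ (loc_map_conj hL g⁻¹) fun x hx => ⟨g * x * g⁻¹, hle ⟨x, hx, rfl⟩, by simp [mul_assoc]⟩
  rw [← h2, Subgroup.map_map]
  have e : ((MulAut.conj g).toMonoidHom.comp (MulAut.conj g⁻¹).toMonoidHom) = MonoidHom.id G := by
    ext x; simp [mul_assoc]
  rw [e, Subgroup.map_id]

theorem maxLoc_facts [Finite G] {p : ℕ} [Fact p.Prime] (hloc : Cfsg.IsOfLocalCharacteristic p G)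
    {M : Subgroup G} (hM : IsMaxLoc p M) :
    (Cfsg.pCore p ↥M).map M.subtype ≠ ⊥ ∧
      centralizer (Cfsg.pCore p ↥M : Set ↥M) ≤ Cfsg.pCore p ↥M ∧
      ∀ A : Subgroup G, A ≠ ⊥ → A ≤ M → M ≤ normalizer (A : Set G) → normalizer (A : Set G) ≤ M := by
  obtain ⟨T, hT, hT1, hMT⟩ := hM.1
  have hne : (Cfsg.pCore p ↥M).map M.subtype ≠ ⊥ := fun e => hT1 (le_bot_iff.mp
    (e ▸ le_coreIn hT (hMT.symm ▸ Subgroup.le_normalizer) hMT.le))
  have hC : centralizer (Cfsg.pCore p ↥M : Set ↥M) ≤ Cfsg.pCore p ↥M := by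
    subst hMT; exact hloc.2 T hT hT1
  refine ⟨hne, hC, fun A hA hAM hMA => ?_⟩
  set A0 := (Cfsg.pCore p ↥A).map A.subtype with hA0
  have hA0p : IsPGroup p A0 := coreIn_isPGroup A
  have hA0ne : A0 ≠ ⊥ := by
    intro e
    have hAn : (A.subgroupOf M).Normal := (Subgroup.normal_subgroupOf_iff_le_normalizer hAM).mpr hMA
    have hPn := pCore_isNormal (p := p) (G := ↥M)
    have hbot : A.subgroupOf M ⊓ Cfsg.pCore p ↥M = ⊥ := by
      rw [eq_bot_iff]
      rintro x ⟨hxA, hxP⟩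
      have hQ : IsPGroup p ↥(A ⊓ (Cfsg.pCore p ↥M).map M.subtype : Subgroup G) :=
        (coreIn_isPGroup M).to_le inf_le_right
      have hQn : A ≤ normalizer ((A ⊓ (Cfsg.pCore p ↥M).map M.subtype : Subgroup G) : Set G) := by
        intro a ha
        rw [mem_normalizer_iff]
        intro y
        have hiff := mem_normalizer_iff.mp (coreIn_normalized p M (hAM ha)) y
        constructor
        · exact fun hy => ⟨A.mul_mem (A.mul_mem ha hy.1) (A.inv_mem ha), hiff.mp hy.2⟩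
        · intro hy
          refine ⟨?_, hiff.mpr hy.2⟩
          have := A.mul_mem (A.mul_mem (A.inv_mem ha) hy.1) ha
          simpa [mul_assoc] using this
      have hxA0 := le_coreIn hQ inf_le_left hQn ⟨mem_subgroupOf.mp hxA, ⟨x, hxP, rfl⟩⟩
      rw [← hA0, e, Subgroup.mem_bot] at hxA0
      exact Subgroup.mem_bot.mpr (Subtype.ext hxA0)
    have hle : A.subgroupOf M ≤ Cfsg.pCore p ↥M := le_trans
      (Subgroup.commutator_eq_bot_iff_le_centralizer.mp
        (Subgroup.commutator_eq_bot_of_disjoint (disjoint_iff.mpr hbot))) hC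
    rw [inf_eq_left.mpr hle, Subgroup.subgroupOf_eq_bot, disjoint_iff, inf_eq_left.mpr hAM] at hbot
    exact hA hbot
  have h1 : normalizer (A : Set G) ≤ normalizer (A0 : Set G) := by
    have hc : ∀ g ∈ normalizer (A : Set G), A0.map (MulAut.conj g).toMonoidHom ≤ A0 := by
      intro g hg
      refine le_coreIn (hA0p.map _) ?_ ?_
      · rintro _ ⟨x, ⟨y, -, rfl⟩, rfl⟩
        exact (mem_normalizer_iff.mp hg _).mp y.2
      · intro a ha
        rw [← Subgroup.map_equiv_normalizer_eq A0 (MulAut.conj g)]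
        refine ⟨g⁻¹ * a * g, coreIn_normalized p A ?_, by simp [mul_assoc]⟩
        have := (mem_normalizer_iff.mp ((normalizer (A : Set G)).inv_mem hg) a).mp ha
        simpa using this
    intro g hg
    rw [mem_normalizer_iff]
    refine fun x => ⟨fun hx => hc g hg ⟨x, hx, rfl⟩, fun hx => ?_⟩
    have := hc g⁻¹ ((normalizer (A : Set G)).inv_mem hg) ⟨_, hx, rfl⟩
    simpa [mul_assoc] using this
  exact h1.trans (hM.2 _ ⟨A0, hA0p, hA0ne, rfl⟩ (hMA.trans h1)).le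

theorem primitive_pair_or_strongly_embedded [Finite G] {p : ℕ} [hp : Fact p.Prime]
    (hloc : Cfsg.IsOfLocalCharacteristic p G) (hOp : Cfsg.pCore p G = ⊥) :
    (∃ M₁ M₂ : Subgroup G, M₁ ≠ M₂ ∧
      (∀ A : Subgroup G, A ≠ ⊥ → A ≤ M₁ ⊓ M₂ →
        (M₁ ≤ normalizer (A : Set G) → M₂ ⊓ normalizer (A : Set G) = M₁ ⊓ M₂) ∧
        (M₂ ≤ normalizer (A : Set G) → M₁ ⊓ normalizer (A : Set G) = M₁ ⊓ M₂)) ∧
      centralizer (Cfsg.pCore p ↥M₁ : Set ↥M₁) ≤ Cfsg.pCore p ↥M₁ ∧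
      centralizer (Cfsg.pCore p ↥M₂ : Set ↥M₂) ≤ Cfsg.pCore p ↥M₂ ∧
      (Cfsg.pCore p ↥M₁).map M₁.subtype ⊔ (Cfsg.pCore p ↥M₂).map M₂.subtype ≤ M₁ ⊓ M₂) ∨
    (∀ M : Subgroup G, IsMaxLoc p M → M ≠ ⊤ ∧ p ∣ Nat.card M ∧
      ∀ g : G, g ∉ M → ¬ p ∣ Nat.card ↥(M ⊓ M.map (MulAut.conj g).toMonoidHom)) := by
  classical
  have htop : ∀ M : Subgroup G, IsMaxLoc p M → M ≠ ⊤ ∧ p ∣ Nat.card M := by
    intro M hM
    obtain ⟨T, hT, hT1, hMT⟩ := hM.1
    refine ⟨fun e => ?_, ?_⟩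
    · rw [e, eq_comm, Subgroup.normalizer_eq_top_iff] at hMT
      exact hT1 (le_bot_iff.mp (hOp ▸ le_pCore hMT hT))
    · obtain ⟨n, hn0, hn⟩ := hT.nontrivial_iff_card.mp ((Subgroup.nontrivial_iff_ne_bot T).mpr hT1)
      exact ((dvd_pow_self p hn0.ne').trans hn.symm.dvd).trans
        (Subgroup.card_dvd_of_le (hMT.symm ▸ Subgroup.le_normalizer))
  have hself : ∀ M : Subgroup G, IsMaxLoc p M → ∀ g : G, M.map (MulAut.conj g).toMonoidHom = M → g ∈ M := by
    intro M hM g hg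
    obtain ⟨hne, -, hback⟩ := maxLoc_facts hloc hM
    refine hback _ hne (Subgroup.map_subtype_le _) (coreIn_normalized p M) ?_
    have hc : ∀ x : G, M.map (MulAut.conj x).toMonoidHom = M →
        ((Cfsg.pCore p ↥M).map M.subtype).map (MulAut.conj x).toMonoidHom ≤ (Cfsg.pCore p ↥M).map M.subtype := by
      intro x hx
      refine le_coreIn ((coreIn_isPGroup M).map _) ((Subgroup.map_mono (Subgroup.map_subtype_le _)).trans hx.le) ?_
      calc M = M.map (MulAut.conj x).toMonoidHom := hx.symm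
        _ ≤ (normalizer ((Cfsg.pCore p ↥M).map M.subtype : Set G)).map (MulAut.conj x).toMonoidHom :=
            Subgroup.map_mono (coreIn_normalized p M)
        _ = _ := Subgroup.map_equiv_normalizer_eq _ _
    have hginv : M.map (MulAut.conj g⁻¹).toMonoidHom = M := by
      conv_lhs => rw [← hg]
      rw [Subgroup.map_map]
      convert Subgroup.map_id M using 2
      ext x; simp [mul_assoc]
    rw [mem_normalizer_iff]
    refine fun x => ⟨fun hx => hc g hg ⟨x, hx, rfl⟩, fun hx => ?_⟩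
    have := hc g⁻¹ hginv ⟨_, hx, rfl⟩
    simpa [mul_assoc] using this
  by_cases hall : ∀ M : Subgroup G, IsMaxLoc p M → ∀ g : G, g ∉ M →
      ¬ p ∣ Nat.card ↥(M ⊓ M.map (MulAut.conj g).toMonoidHom)
  · exact Or.inr fun M hM => ⟨(htop M hM).1, (htop M hM).2, hall M hM⟩
  left
  push Not at hall
  obtain ⟨M0, hM0, g, hg, hdvd⟩ := hall
  let S : Set (Subgroup G) := {R | IsPGroup p R ∧ ∃ M L, IsMaxLoc p M ∧ IsMaxLoc p L ∧ M ≠ L ∧ R ≤ M ⊓ L}
  obtain ⟨⟨x, hxm⟩, hxo⟩ := exists_prime_orderOf_dvd_card' p hdvd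
  have hxz : IsPGroup p ↥(zpowers x) := IsPGroup.of_card (n := 1) (by
    rw [Nat.card_zpowers, pow_one, ← hxo, Subgroup.orderOf_mk])
  have hS0 : zpowers x ∈ S := ⟨hxz, M0, M0.map (MulAut.conj g).toMonoidHom, hM0, maxLoc_map_conj hM0 g,
    fun e => hg (hself M0 hM0 g e.symm), zpowers_le.mpr hxm⟩
  obtain ⟨R, ⟨hRp, M, L, hM, hL, hML, hRle⟩, hRmax⟩ :=
    Set.exists_max_image S (fun R => Nat.card R) (Set.toFinite S) ⟨_, hS0⟩
  have hR1 : R ≠ ⊥ := by
    intro e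
    have h1 := hRmax _ hS0
    simp only [e, Subgroup.card_bot, Nat.card_zpowers] at h1
    rw [Subgroup.orderOf_mk] at hxo
    rw [hxo] at h1
    exact absurd h1 (not_le.mpr hp.out.one_lt)
  obtain ⟨H, hH, hRH⟩ := exists_maxLoc_ge (p := p) ⟨R, hRp, hR1, rfl⟩
  have hgrow : ∀ X : Subgroup G, IsMaxLoc p X → R ≤ X →
      (∀ P : Subgroup G, IsPGroup p P → P ≤ X → R ≤ P → P = R) ∨ H = X := by
    intro X hX hRX
    by_contra hcon
    push Not at hcon
    obtain ⟨⟨P, hP, hPX, hRP, hPR⟩, hHX⟩ := hcon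
    have hlt := lt_inf_normalizer hP.isNilpotent (lt_of_le_of_ne hRP (Ne.symm hPR))
    have hmem : P ⊓ normalizer (R : Set G) ∈ S := ⟨hP.to_le inf_le_left, X, H, hX, hH, Ne.symm hHX,
      le_inf (inf_le_left.trans hPX) (inf_le_right.trans hRH)⟩
    have h1 := hRmax _ hmem
    have h2 : Nat.card R < Nat.card ↥(P ⊓ normalizer (R : Set G) : Subgroup G) := by
      rw [SetLike.lt_iff_le_and_exists] at hlt
      obtain ⟨hle, y, hy, hyR⟩ := hlt
      exact lt_of_le_of_ne (Subgroup.card_le_of_le hle) fun e =>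
        hyR ((Subgroup.eq_of_le_of_card_ge hle e.ge).symm ▸ hy)
    omega
  obtain ⟨M, L, hM, hL, hML, hRle, hmaxM⟩ : ∃ M L, IsMaxLoc p M ∧ IsMaxLoc p L ∧ M ≠ L ∧ R ≤ M ⊓ L ∧
      ∀ P : Subgroup G, IsPGroup p P → P ≤ M → R ≤ P → P = R := by
    rcases hgrow M hM (hRle.trans inf_le_left) with h | h
    · exact ⟨M, L, hM, hL, hML, hRle, h⟩
    rcases hgrow L hL (hRle.trans inf_le_right) with h2 | h2
    · exact ⟨L, M, hL, hM, hML.symm, hRle.trans (inf_comm M L).le, h2⟩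
    · exact absurd (h.symm.trans h2) hML
  have hcoreR : ∀ X : Subgroup G, R ≤ X → (∀ P : Subgroup G, IsPGroup p P → P ≤ X → R ≤ P → P = R) →
      (Cfsg.pCore p ↥X).map X.subtype ≤ R := by
    intro X hRX hX
    have h := hX _ (hRp.to_sup_of_normal_right' (coreIn_isPGroup X) (hRX.trans (coreIn_normalized p X)))
      (sup_le hRX (Subgroup.map_subtype_le _)) le_sup_left
    exact le_sup_right.trans h.le
  obtain ⟨L', hL', hML', hRL', hmaxL⟩ : ∃ L', IsMaxLoc p L' ∧ M ≠ L' ∧ R ≤ L' ∧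
      ∀ P : Subgroup G, IsPGroup p P → P ≤ L' → R ≤ P → P = R := by
    by_cases hsyl : ∀ P : Subgroup G, IsPGroup p P → R ≤ P → P = R
    · exact ⟨L, hL, hML, hRle.trans inf_le_right, fun P hP _ hRP => hsyl P hP hRP⟩
    push Not at hsyl
    obtain ⟨P, hP, hRP, hPR⟩ := hsyl
    have hlt := lt_inf_normalizer hP.isNilpotent (lt_of_le_of_ne hRP (Ne.symm hPR))
    rw [SetLike.lt_iff_le_and_exists] at hlt
    obtain ⟨hle, y, hy, hyR⟩ := hlt
    have hyM : y ∉ M := by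
      intro hyM
      have h := hmaxM ((P ⊓ normalizer (R : Set G)) ⊓ M) (hP.to_le (inf_le_left.trans inf_le_left))
        inf_le_right (le_inf hle (hRle.trans inf_le_left))
      exact hyR (h.le ⟨hy, hyM⟩)
    have hfix : ∀ z ∈ R, y⁻¹ * z * y ∈ R := fun z hz => by
      have := (mem_normalizer_iff.mp ((normalizer (R : Set G)).inv_mem hy.2) z).mp hz
      simpa using this
    refine ⟨M.map (MulAut.conj y).toMonoidHom, maxLoc_map_conj hM y,
      fun e => hyM (hself M hM y e.symm), fun z hz => ⟨y⁻¹ * z * y, hRle.trans inf_le_left (hfix z hz), by simp [mul_assoc]⟩, ?_⟩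
    intro Q hQ hQX hRQ
    have h := hmaxM (Q.map (MulAut.conj y⁻¹).toMonoidHom) (hQ.map _) ?_ ?_
    · refine le_antisymm (fun z hz => ?_) hRQ
      have hz' := h.le ⟨z, hz, rfl⟩
      have h2 := (mem_normalizer_iff.mp hy.2 _).mp hz'
      simpa [mul_assoc] using h2
    · rintro _ ⟨z, hz, rfl⟩
      obtain ⟨m, hm, rfl⟩ := hQX hz
      simpa [mul_assoc] using hm
    · exact fun z hz => ⟨y * z * y⁻¹, hRQ ((mem_normalizer_iff.mp hy.2 z).mp hz), by simp [mul_assoc]⟩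
  obtain ⟨-, hCM, hbackM⟩ := maxLoc_facts hloc hM
  obtain ⟨-, hCL, hbackL⟩ := maxLoc_facts hloc hL'
  refine ⟨M, L', hML', fun A hA hle => ⟨fun h => ?_, fun h => ?_⟩, hCM, hCL, ?_⟩
  · have e : normalizer (A : Set G) = M := le_antisymm (hbackM A hA (hle.trans inf_le_left) h) h
    rw [e, inf_comm]
  · have e : normalizer (A : Set G) = L' := le_antisymm (hbackL A hA (hle.trans inf_le_right) h) h
    rw [e]
  · exact sup_le ((hcoreR M (hRle.trans inf_le_left) hmaxM).trans (le_inf (hRle.trans inf_le_left) hRL'))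
      ((hcoreR L' hRL' hmaxL).trans (le_inf (hRle.trans inf_le_left) hRL'))

end Cfsg.Agent.Grp
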