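import Mathlib
import Cfsg.Agent.Lib.Invol.KInfCubic
import Cfsg.Agent.Lib.Invol.PStableTransport
import Cfsg.Agent.Lib.Invol.KInfWeak
import Cfsg.Agent.Lib.Invol.QdFusion
import Cfsg.Agent.Lib.Grp.SL2Section
import Cfsg.Agent.Lib.Grp.QdNotStable

/-!
K-infinity of any `p`-subgroup containing `O_p` is normal in a constrained stable group, so groups with
abelian Sylow 2-subgroups form no primitive pair of characteristic `p`.
-/

set_option autoImplicit false
set_option linter.style.haveILetI false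

open scoped commutatorElement

namespace Cfsg.Agent.Grp.PairK

open Cfsg.Agent.Invol Cfsg.Agent.Invol.KInf

universe u

variable {p : ℕ} [hp : Fact p.Prime]

section cubic

variable {G : Type u} [Group G] [Finite G]

/-- If a K-infinity subgroup is not normal there is an element outside `T` acting cubically, which
moreover has a quadratic nontrivial chief factor when `C(T) ≤ T`. -/
theorem exists_cubic_element
    (S : Subgroup G) (hS : IsPGroup p S) (hTS : Cfsg.pCore p G ≤ S) (A : Subgroup G) [A.Normal] (hAT : A ≤ Cfsg.pCore p G)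
    (hA2 : ⁅A, A⁆ ≤ zen A) (hTA : ⁅Cfsg.pCore p G, A⁆ ≤ zen A)
    (hC : Cfsg.pCore p G ⊓ Subgroup.centralizer (A : Set G) ≤ A)
    (hK : ¬ (Cfsg.inducedFunctor Cfsg.kInfLower S).Normal ∨
      ¬ (Cfsg.inducedFunctor Cfsg.kInfUpper S).Normal) :
    ∃ g ∈ (S : Subgroup G), g ∉ Cfsg.pCore p G ∧ IsCubicOn A g ∧
      (Subgroup.centralizer (Cfsg.pCore p G : Set G) ≤ Cfsg.pCore p G →
        ∃ U V : Subgroup G, Cfsg.IsChiefFactor U V ∧ U ≤ A ∧
          ⁅⁅U, Subgroup.zpowers g⁆, Subgroup.zpowers g⁆ ≤ V ∧ ¬ ⁅U, Subgroup.zpowers g⁆ ≤ V) := by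
  set T := Cfsg.pCore p G with hT
  haveI hTn : T.Normal := Grp.pCore_isNormal
  haveI hzn : (zen A).Normal := zen_normal A
  have hnt : ∀ g, g ∉ T → Subgroup.centralizer (T : Set G) ≤ T →
      (∀ U V : Subgroup G, Cfsg.IsChiefFactor U V → U ≤ A →
        ⁅⁅U, Subgroup.zpowers g⁆, Subgroup.zpowers g⁆ ≤ V) →
      ∃ U V : Subgroup G, Cfsg.IsChiefFactor U V ∧ U ≤ A ∧
        ⁅⁅U, Subgroup.zpowers g⁆, Subgroup.zpowers g⁆ ≤ V ∧ ¬ ⁅U, Subgroup.zpowers g⁆ ≤ V := by
    intro g hg hCT hq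
    by_contra hcon
    push Not at hcon
    exact hg (stab_le_pCore hAT (zen_le A) hTA hC hCT
      (commutator_zpowers_le_iff.mp fun U V hUV hUA => hcon U V hUV hUA (hq U V hUV hUA)))
  by_cases hquad : ∃ g ∈ (S : Subgroup G), g ∉ T ∧ IsQuadOn A g
  · obtain ⟨g, hgS, hgT, hgq⟩ := hquad
    exact ⟨g, hgS, hgT, hgq.cubic, fun hCT => hnt g hgT hCT fun U V hUV hUA =>
      iterCommutator_chief_le (n := 2) (m := 2) hgq.1 hgq.2 le_rfl hUV hUA⟩
  push Not at hquad
  set σ := (S : Subgroup G).subtype with hσ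
  have hσi : Function.Injective σ := Subgroup.subtype_injective _
  set A₁ := A.subgroupOf (S : Subgroup G) with hA₁
  set T₁ := T.subgroupOf (S : Subgroup G) with hT₁
  have hA₁m : A₁.map σ = A := Subgroup.map_subgroupOf_eq_of_le (hAT.trans hTS)
  have hT₁m : T₁.map σ = T := Subgroup.map_subgroupOf_eq_of_le hTS
  have hAc : A₁ ∈ Cfsg.classTwoSubgroups (S : Subgroup G) := by
    refine (map_classTwo hσi A₁).mp ?_
    rw [hA₁m]; exact hA2.trans (zen_le_centralizer A)
  have hTA₁ : ⁅T₁, A₁⁆ ≤ zen A₁ := by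
    rw [← Subgroup.map_le_map_iff_of_injective hσi, Subgroup.map_commutator, map_zen hσi, hA₁m, hT₁m]
    exact hTA
  have hq₁ : ∀ g, IsQuadOn A₁ g → g ∈ T₁ := fun g hg => by
    by_contra hgT
    exact hquad g g.2 hgT (by rw [← hA₁m]; exact (map_isQuadOn hσi A₁ g).mpr hg)
  obtain ⟨n, hn⟩ : ∃ n, ¬ Cfsg.kSeqEven (S : Subgroup G) n ≤ T₁ := by
    by_contra hall
    push Not at hall
    set f := Subgroup.inclusion hTS with hf
    have hr : f.range = T₁ := Subgroup.inclusion_range hTS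
    obtain ⟨h1, h2⟩ := map_kInf (f := f) (Subgroup.inclusion_injective hTS) fun n => by
      rw [hr]; exact ⟨hall n, (odd_le_of_quad hAc hTA₁ hq₁ n).2⟩
    have key : ∀ W : ∀ (Q : Type u) [Group Q], Subgroup Q, Cfsg.IsCharPFunctor.{u} p W →
        (W T).map f = W (S : Subgroup G) → (Cfsg.inducedFunctor W S).Normal := by
      intro W hW he
      have h3 : Cfsg.inducedFunctor W (S : Subgroup G) = Cfsg.inducedFunctor W T := by
        show (W (S : Subgroup G)).map σ = (W T).map T.subtype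
        rw [← he, Subgroup.map_map]; rfl
      rw [h3]
      refine Subgroup.normalizer_eq_top_iff.mp (top_le_iff.mp ?_)
      refine le_trans ?_ (normalizer_le_normalizer_inducedFunctor hW (hS.to_le hTS))
      rw [Subgroup.normalizer_eq_top_iff.mpr hTn]
    rcases hK with hK | hK
    · exact hK (key _ (isCharPFunctor_kInfLower p) h1)
    · exact hK (key _ (isCharPFunctor_kInfUpper p) h2)
  classical
  have hex : ∃ n, ¬ Cfsg.kSeqEven (S : Subgroup G) n ≤ T₁ := ⟨n, hn⟩
  obtain ⟨n, hn, hnmin⟩ : ∃ n, ¬ Cfsg.kSeqEven (S : Subgroup G) n ≤ T₁ ∧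
      ∀ m < n, Cfsg.kSeqEven (S : Subgroup G) m ≤ T₁ :=
    ⟨Nat.find hex, Nat.find_spec hex, fun m hm => not_not.mp (Nat.find_min hex hm)⟩
  have hAR : A₁ ≤ Cfsg.kSeqOdd (S : Subgroup G) n := by
    cases n with
    | zero => exact le_top
    | succ n => exact le_sSup (mem_upper hAc hTA₁ (hnmin n (Nat.lt_succ_self n)))
  obtain ⟨B₁, hB₁, hB₁T⟩ : ∃ B₁ ∈ Cfsg.kLowerStarFamily (Cfsg.kSeqOdd (S : Subgroup G) n),
      ¬ B₁ ≤ T₁ := by
    by_contra hall
    push Not at hall
    exact hn (sSup_le hall)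
  obtain ⟨b, hb, hbT⟩ := SetLike.not_le_iff_exists.mp hB₁T
  set B := B₁.map σ with hB
  have hcub : IsCubicOn A (b : G) := by
    rw [← hA₁m]; exact (map_isCubicOn hσi A₁ b).mpr (isCubicOn_of_mem_lower hAR hB₁ hb)
  refine ⟨b, b.2, hbT, hcub, fun hCT => ?_⟩
  have hA'z : ⁅A, A⁆ ≤ A := hA2.trans (zen_le A)
  by_cases hst : (b : G) ∈ stab ⁅A, A⁆
  swap
  · simp only [mem_stab] at hst
    push Not at hst
    obtain ⟨U, V, hUV, hUA', u, hu, huV⟩ := hst
    refine ⟨U, V, hUV, hUA'.trans hA'z, ?_, fun h => huV ?_⟩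
    · exact ((Subgroup.commutator_mono (Subgroup.commutator_mono (hUA'.trans hA2) le_rfl) le_rfl).trans
        hcub.2.le).trans bot_le
    · rw [← commutatorElement_def]
      exact h (by
        rw [Subgroup.commutator_comm]
        exact Subgroup.commutator_mem_commutator (Subgroup.mem_zpowers _) hu)
  refine hnt _ hbT hCT (quad_of_lower_member (B := B) (Grp.pCore_isPGroup.to_le hAT) hA2 ?_ ?_ ?_ ?_
    ⟨b, hb, rfl⟩ hst)
  · rw [hB, ← hA₁m]; exact (map_le_normalizer hσi A₁ B₁).mpr (hAR.trans hB₁.2.1)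
  · exact (map_classTwo hσi B₁).mpr hB₁.1
  · refine le_trans (Subgroup.commutator_mono ?_ le_rfl) hTA
    rw [hB, ← map_zen hσi, ← hT₁m]
    refine Subgroup.map_mono fun z hz => hq₁ z ?_
    have hzz : Subgroup.zpowers z ≤ zen B₁ := Subgroup.zpowers_le.mpr hz
    have hAB₁ : ⁅A₁, Subgroup.zpowers z⁆ ≤ B₁ :=
      (Subgroup.commutator_mono le_rfl (hzz.trans (zen_le B₁))).trans
        (commutator_le_right_of_le_normalizer (hAR.trans hB₁.2.1))
    have h0 : ⁅⁅A₁, Subgroup.zpowers z⁆, Subgroup.zpowers z⁆ = ⊥ :=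
      le_bot_iff.mp ((Subgroup.commutator_mono hAB₁ hzz).trans
        ((Subgroup.commutator_comm _ _).trans_le (zen_commutator B₁).le))
    exact ⟨h0.trans_le bot_le, le_bot_iff.mp ((Subgroup.commutator_mono
      (Subgroup.commutator_mono (zen_le A₁) le_rfl) le_rfl).trans h0.le)⟩
  · intro C hCA hC2 hBC hc1 hc2
    obtain ⟨C, rfl⟩ : ∃ C₁ : Subgroup (S : Subgroup G), C₁.map σ = C :=
      ⟨C.subgroupOf _, Subgroup.map_subgroupOf_eq_of_le (hCA.trans (hAT.trans hTS))⟩
    rw [hB, ← map_zen hσi, ← Subgroup.map_commutator, ← Subgroup.map_commutator,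
      Subgroup.map_eq_bot_iff_of_injective _ hσi] at hc2
    rw [hB, ← Subgroup.map_commutator, ← Subgroup.map_commutator,
      Subgroup.map_eq_bot_iff_of_injective _ hσi] at hc1
    rw [hB, ← map_zen hσi, ← Subgroup.map_commutator, Subgroup.map_le_map_iff_of_injective hσi]
    exact hB₁.2.2 C ((map_classTwo hσi C).mp hC2)
      (le_trans ((Subgroup.map_le_map_iff_of_injective hσi).mp (hA₁m.symm ▸ hCA)) hAR)
      ((map_le_normalizer hσi B₁ C).mp hBC) hc1 hc2


end cubic

/-- In a group all of whose sections are p-stable both K-infinity subgroups are normal in the constrained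
sections. -/
theorem kInf_normal_of_stable_le {G : Type u} [Group G] [Finite G]
    (hst : ∀ (K R : Subgroup G) [(R.subgroupOf K).Normal],
      Cfsg.IsNormalizerPStable p (↥K ⧸ R.subgroupOf K))
    {X : Type u} [Group X] [Finite X] (hX : IsSectionOf X G)
    (hC : Subgroup.centralizer (Cfsg.pCore p X : Set X) ≤ Cfsg.pCore p X) (S : Subgroup X) (hS : IsPGroup p S) (hTS : Cfsg.pCore p X ≤ S) :
    (Cfsg.inducedFunctor Cfsg.kInfLower S).Normal ∧
      (Cfsg.inducedFunctor Cfsg.kInfUpper S).Normal := by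
  haveI hTn : (Cfsg.pCore p X).Normal := Grp.pCore_isNormal
  by_contra hcon
  obtain ⟨A, hAn, hAT, hTA, hA2, hA⟩ := exists_critical_normal (Grp.pCore_isPGroup (p := p) (G := X))
  haveI := hAn
  obtain ⟨g, -, -, -, hq⟩ := exists_cubic_element S hS hTS A hAT hA2 hTA hA (not_and_or.mp hcon)
  obtain ⟨U, V, hUV, hUA, hUq, hUn⟩ := hq hC
  obtain ⟨hlt, hUnorm, hVn, hmin⟩ := hUV
  set π := QuotientGroup.mk' V with hπ
  have hs : Function.Surjective π := QuotientGroup.mk'_surjective V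
  haveI : (U.map π).Normal := hUnorm.map _ hs
  obtain ⟨K, R, hR, ⟨e⟩⟩ := ((IsSectionOf.of_surjective π hs).trans hX).exists_quotient
  refine not_isNormalizerPStable_of_quadratic (V := U.map π) (g := π g)
    ((Grp.pCore_isPGroup.to_le (hUA.trans hAT)).map π) (fun N hN hNU => ?_) ?_ ?_
    (isNormalizerPStable_of_mulEquiv e.symm (hst K R))
  · have hUc : (U.map π).comap π = U :=
      Subgroup.comap_map_eq_self (by rw [hπ, QuotientGroup.ker_mk']; exact hlt.le)
    rcases hmin (N.comap π) (hN.comap π) (fun y hy => by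
        show π y ∈ N
        rw [show π y = 1 from (QuotientGroup.eq_one_iff y).mpr hy]; exact one_mem _)
      ((Subgroup.comap_mono hNU).trans hUc.le) with h | h
    · left
      rw [← Subgroup.map_comap_eq_self_of_surjective hs N, h, Subgroup.map_eq_bot_iff, hπ,
        QuotientGroup.ker_mk']
    · right; rw [← Subgroup.map_comap_eq_self_of_surjective hs N, h]
  · rw [← MonoidHom.map_zpowers, ← Subgroup.map_commutator, ← Subgroup.map_commutator,
      Subgroup.map_eq_bot_iff, hπ, QuotientGroup.ker_mk']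
    exact hUq
  · intro hc
    refine hUn ?_
    rw [← QuotientGroup.ker_mk' V, ← hπ, ← Subgroup.map_eq_bot_iff, Subgroup.map_commutator,
      Subgroup.commutator_eq_bot_iff_le_centralizer, Subgroup.le_centralizer_iff, MonoidHom.map_zpowers,
      Subgroup.zpowers_le]
    exact hc


/-- A group with abelian Sylow 2-subgroups involves no `Qd(p)`. -/
theorem free_of_abelian {X : Type u} [Group X] [Finite X] (hp2 : p ≠ 2)
    (hab : ∀ T : Sylow 2 X, IsMulCommutative (T : Subgroup X)) : ¬ Cfsg.Involves ↥(Cfsg.qd p) X := by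
  rintro ⟨K, R, _, ⟨e⟩⟩
  obtain ⟨T⟩ : Nonempty (Sylow 2 X) := inferInstance
  exact Grp.Quad.sylow_two_not_comm hp2 ((Fus.qdBlock p).comp (e.toMonoidHom.comp (QuotientGroup.mk' _)))
    (Fus.qdBlock_surjective.comp (e.surjective.comp (QuotientGroup.mk'_surjective _))) T (hab T)

/-- The common normal subgroup. -/
theorem kInf_normalized {G : Type u} [Group G] [Finite G] (hp2 : p ≠ 2) (M : Subgroup G)
    (hab : ∀ T : Sylow 2 M, IsMulCommutative (T : Subgroup M))
    (hc : Subgroup.centralizer (Cfsg.pCore p M : Set M) ≤ Cfsg.pCore p M) {S : Subgroup G}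
    (hS : IsPGroup p S) (hSM : S ≤ M) (hQS : (Cfsg.pCore p M).map M.subtype ≤ S) :
    M ≤ Subgroup.normalizer (((Cfsg.kInfLower S).map S.subtype : Subgroup G) : Set G) := by
  have hfree := free_of_abelian (p := p) hp2 hab
  have hst : ∀ (K R : Subgroup M) [(R.subgroupOf K).Normal],
      Cfsg.IsNormalizerPStable p (↥K ⧸ R.subgroupOf K) := fun K R _ =>
    Grp.Quad.isNormalizerPStable_of_free hp2 fun h => hfree
      ((Invol.isSectionOf_of_involves h).trans ((Invol.IsSectionOf.of_surjective _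
        (QuotientGroup.mk'_surjective _)).trans (Invol.IsSectionOf.of_subgroup K))).involves
  set S' := S.subgroupOf M
  set e : S' ≃* S := Subgroup.subgroupOfEquivOfLe hSM
  obtain ⟨hn, -⟩ := kInf_normal_of_stable_le hst
    (Invol.IsSectionOf.of_surjective (MonoidHom.id M) Function.surjective_id) hc S'
    hS.comap_subtype (fun x hx => hQS ⟨x, hx, rfl⟩)
  have he : (Cfsg.kInfLower S).map S.subtype =
      (Cfsg.inducedFunctor Cfsg.kInfLower S').map M.subtype := by
    rw [← (map_kInf_equiv e).1]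
    show _ = ((Cfsg.kInfLower S').map S'.subtype).map M.subtype
    rw [Subgroup.map_map, Subgroup.map_map]
    rfl
  rw [he]
  have h1 := Subgroup.le_normalizer_map (H := (Cfsg.inducedFunctor Cfsg.kInfLower S' : Subgroup M)) M.subtype
  rw [Subgroup.normalizer_eq_top_iff.mpr hn, ← MonoidHom.range_eq_map, Subgroup.range_subtype] at h1
  exact h1

theorem not_abelian {G : Type u} [Group G] [Finite G] (M₁ M₂ : Subgroup G) (hne : M₁ ≠ M₂)
    (hP : ∀ A : Subgroup G, A ≠ ⊥ → A ≤ M₁ ⊓ M₂ →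
      (M₁ ≤ Subgroup.normalizer (A : Set G) → M₂ ⊓ Subgroup.normalizer (A : Set G) = M₁ ⊓ M₂) ∧
      (M₂ ≤ Subgroup.normalizer (A : Set G) → M₁ ⊓ Subgroup.normalizer (A : Set G) = M₁ ⊓ M₂))
    (hc₁ : Subgroup.centralizer (Cfsg.pCore p ↥M₁ : Set ↥M₁) ≤ Cfsg.pCore p ↥M₁)
    (hc₂ : Subgroup.centralizer (Cfsg.pCore p ↥M₂ : Set ↥M₂) ≤ Cfsg.pCore p ↥M₂)
    (hO : (Cfsg.pCore p ↥M₁).map M₁.subtype ⊔ (Cfsg.pCore p ↥M₂).map M₂.subtype ≤ M₁ ⊓ M₂)
    (hab₁ : ∀ T : Sylow 2 M₁, IsMulCommutative (T : Subgroup M₁))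
    (hab₂ : ∀ T : Sylow 2 M₂, IsMulCommutative (T : Subgroup M₂)) : False := by
  have finish : ∀ A : Subgroup G, A ≠ ⊥ → A ≤ M₁ ⊓ M₂ → M₁ ≤ Subgroup.normalizer (A : Set G) →
      M₂ ≤ Subgroup.normalizer (A : Set G) → False := fun A hA hle h1 h2 => hne (le_antisymm
    (by have := (hP A hA hle).2 h2; rw [inf_eq_left.2 h1] at this; exact inf_eq_left.1 this.symm)
    (by have := (hP A hA hle).1 h1; rw [inf_eq_left.2 h2] at this; exact inf_eq_right.1 this.symm))
  set Q1 := (Cfsg.pCore p ↥M₁).map M₁.subtype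
  set Q2 := (Cfsg.pCore p ↥M₂).map M₂.subtype
  have hQne : Q1 ≠ ⊥ ∨ Q2 ≠ ⊥ := by
    by_contra hno
    push Not at hno
    have triv : ∀ M : Subgroup G, Subgroup.centralizer (Cfsg.pCore p M : Set M) ≤ Cfsg.pCore p M →
        (Cfsg.pCore p M).map M.subtype = ⊥ → M = ⊥ := by
      intro M hc h
      have h' := (Subgroup.map_eq_bot_iff_of_injective _ M.subtype_injective).1 h
      rw [h', Subgroup.coe_bot] at hc
      rw [eq_bot_iff]
      intro x hx
      have := hc (show (⟨x, hx⟩ : M) ∈ Subgroup.centralizer {1} from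
        Subgroup.mem_centralizer_singleton_iff.2 (by rw [mul_one, one_mul]))
      simpa using this
    exact hne ((triv M₁ hc₁ hno.1).trans (triv M₂ hc₂ hno.2).symm)
  have h1 : Q1 ≤ M₁ ⊓ M₂ := le_sup_left.trans hO
  have h2 : Q2 ≤ M₁ ⊓ M₂ := le_sup_right.trans hO
  have hp1 : IsPGroup p Q1 := Grp.pCore_isPGroup.map _
  have hp2' : IsPGroup p Q2 := Grp.pCore_isPGroup.map _
  have hn2 : M₂ ≤ Subgroup.normalizer (Q2 : Set G) := by
    have h := Subgroup.le_normalizer_map (H := Cfsg.pCore p M₂) M₂.subtype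
    haveI : (Cfsg.pCore p M₂).Normal := Grp.pCore_isNormal
    rwa [Subgroup.normalizer_eq_top_iff.mpr this, ← MonoidHom.range_eq_map, Subgroup.range_subtype] at h
  set S := Q1 ⊔ Q2
  have hS : IsPGroup p S := hp1.to_sup_of_normal_right' hp2' ((h1.trans inf_le_right).trans hn2)
  have hS1 : S ≤ M₁ ⊓ M₂ := sup_le h1 h2
  by_cases hp2 : p = 2
  · subst hp2
    have big : ∀ M : Subgroup G, (∀ T : Sylow 2 M, IsMulCommutative (T : Subgroup M)) →
        Subgroup.centralizer (Cfsg.pCore 2 M : Set M) ≤ Cfsg.pCore 2 M → ∀ R : Subgroup G,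
        IsPGroup 2 R → R ≤ M → R ≤ (Cfsg.pCore 2 M).map M.subtype := by
      intro M hab hc R hR hRM r hr
      obtain ⟨T, hT⟩ := (hR.comap_subtype (K := M)).exists_le_sylow
      refine ⟨⟨r, hRM hr⟩, hc (Subgroup.mem_centralizer_iff.2 fun q hq => ?_), rfl⟩
      haveI := hab T
      exact setLike_mul_comm (s := (T : Subgroup M)) (Grp.pCore_le_sylow T hq) (hT hr)
    have e12 : Q1 = Q2 := le_antisymm (big M₂ hab₂ hc₂ Q1 hp1 (h1.trans inf_le_right))
      (big M₁ hab₁ hc₁ Q2 hp2' (h2.trans inf_le_left))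
    refine finish Q2 (by rcases hQne with h | h; exacts [e12 ▸ h, h]) h2 ?_ hn2
    rw [← e12]
    have h := Subgroup.le_normalizer_map (H := Cfsg.pCore 2 M₁) M₁.subtype
    haveI : (Cfsg.pCore 2 M₁).Normal := Grp.pCore_isNormal
    rwa [Subgroup.normalizer_eq_top_iff.mpr this, ← MonoidHom.range_eq_map, Subgroup.range_subtype] at h
  refine finish ((Cfsg.kInfLower S).map S.subtype) ?_ ((Subgroup.map_subtype_le _).trans hS1)
    (kInf_normalized hp2 M₁ hab₁ hc₁ hS (hS1.trans inf_le_left) le_sup_left)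
    (kInf_normalized hp2 M₂ hab₂ hc₂ hS (hS1.trans inf_le_right) le_sup_right)
  intro e
  haveI : Nontrivial S := (Subgroup.nontrivial_iff_ne_bot _).2 fun h => by
    rcases hQne with h' | h'
    · exact h' (le_bot_iff.1 (h ▸ le_sup_left))
    · exact h' (le_bot_iff.1 (h ▸ le_sup_right))
  haveI := hS.center_nontrivial
  refine (Subgroup.nontrivial_iff_ne_bot _).1 (inferInstance : Nontrivial (Subgroup.center S)) ?_
  rw [eq_bot_iff, ← (Subgroup.map_eq_bot_iff_of_injective _ S.subtype_injective).1 e]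
  exact KInf.center_le_kInf.1

end Cfsg.Agent.Grp.PairK
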