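import Mathlib
import Cfsg.Agent.Lib.Grp.Components

/-!
Primitive maximal-type subgroups: a primitive subgroup meeting the generalized Fitting subgroup of
a normal subgroup forces a trivial Fitting subgroup.
-/

set_option autoImplicit false

namespace Cfsg.Agent.Grp

open Subgroup

universe u

theorem primitive_meets_gfitting {G : Type u} [Group G] [Finite G] (M : Subgroup G) (hM : M ≠ ⊤)
    (hprim : ∀ K : Subgroup G, K ≤ M → M ≤ normalizer (K : Set G) → K ≠ ⊥ →
      normalizer (K : Set G) = M)
    (N : Subgroup G) [hN : N.Normal]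
    (hMF : M ⊓ (Cfsg.generalizedFittingSubgroup ↥N).map N.subtype ≠ ⊥) :
    Cfsg.fittingSubgroup G = ⊥ ∧
      (Cfsg.generalizedFittingSubgroup ↥N).map N.subtype = Cfsg.generalizedFittingSubgroup G ∧
      Cfsg.generalizedFittingSubgroup G = Cfsg.layer G ∧
      ∀ K : Subgroup G, K.Normal → K ≠ ⊥ →
        (∀ K' : Subgroup G, K'.Normal → K' ≤ K → K' = ⊥ ∨ K' = K) → K ≤ N := by
  have hFn := fittingSubgroup_isNormal (G := G)
  have hGn : (Cfsg.generalizedFittingSubgroup G).Normal := by
    rw [Cfsg.generalizedFittingSubgroup]; infer_instance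
  rw [← gfitting_inf_normal N] at hMF ⊢
  set K := M ⊓ (Cfsg.generalizedFittingSubgroup G ⊓ N) with hKdef
  have hnoG : ∀ R : Subgroup G, R.Normal → R ≤ M → R = ⊥ := by
    intro R hR hRM
    by_contra hne
    have h := hprim R hRM (by rw [Subgroup.normalizer_eq_top]; exact le_top) hne
    rw [Subgroup.normalizer_eq_top] at h
    exact hM h.symm
  have hnorm : ∀ X : Subgroup G, X.Normal → M ≤ normalizer ((M ⊓ X : Subgroup G) : Set G) := by
    intro X hX m hm
    rw [mem_normalizer_iff]
    intro x
    constructor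
    · exact fun hx => ⟨M.mul_mem (M.mul_mem hm hx.1) (M.inv_mem hm), hX.conj_mem x hx.2 m⟩
    · intro hx
      have h1 := M.mul_mem (M.mul_mem (M.inv_mem hm) hx.1) hm
      have h2 := hX.conj_mem _ hx.2 m⁻¹
      exact ⟨by simpa [mul_assoc] using h1, by simpa [mul_assoc] using h2⟩
  have hKN : normalizer (K : Set G) = M := hprim K inf_le_left (hnorm _ inferInstance) hMF
  -- the Fitting subgroup meets M trivially
  have hMFit : M ⊓ Cfsg.fittingSubgroup G = ⊥ := by
    by_contra hne
    set F := Cfsg.fittingSubgroup G with hF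
    set D := M ⊓ F with hD
    have hDN : normalizer (D : Set G) = M := hprim D inf_le_left (hnorm F hFn) hne
    have hnil : Group.IsNilpotent ↥F := fittingSubgroup_isNilpotent
    have hnc := Group.normalizerCondition_of_isNilpotent (G := ↥F)
    rcases eq_or_ne (D.subgroupOf F) ⊤ with h | h
    · rw [Subgroup.subgroupOf_eq_top] at h
      exact hne (le_bot_iff.mp (inf_le_right.trans (hnoG F hFn (h.trans inf_le_left)).le))
    · obtain ⟨x, hx, hxD⟩ := SetLike.exists_of_lt (hnc _ (lt_top_iff_ne_top.mpr h))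
      refine hxD (mem_subgroupOf.mpr ⟨?_, x.2⟩)
      rw [← hDN]
      show (x : G) ∈ normalizer (D : Set G)
      rw [mem_normalizer_iff]
      intro y
      have hiff := mem_normalizer_iff.mp hx
      constructor
      · intro hy; exact (hiff ⟨y, hy.2⟩).mp hy
      · intro hy
        have hyF : y ∈ F := by simpa [mul_assoc] using hFn.conj_mem _ hy.2 (x : G)⁻¹
        exact (hiff ⟨y, hyF⟩).mpr hy
  have hEF := layer_le_centralizer_fitting (G := G)
  have hFit : Cfsg.fittingSubgroup G = ⊥ := by
    by_contra hne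
    set F := Cfsg.fittingSubgroup G with hF
    have hnil : Group.IsNilpotent ↥F := fittingSubgroup_isNilpotent
    have : Nontrivial ↥F := (Subgroup.nontrivial_iff_ne_bot F).mpr hne
    have : Nontrivial ↥(Subgroup.center ↥F) := (Subgroup.nontrivial_iff_ne_bot _).mpr (Group.IsNilpotent.center_ne_bot _)
    obtain ⟨⟨z, hz⟩, hz1⟩ := exists_ne (1 : ↥(Subgroup.center ↥F))
    have hzc : ∀ f ∈ F, f * (z : G) = (z : G) * f := fun f hf =>
      congrArg Subtype.val (Subgroup.mem_center_iff.mp hz ⟨f, hf⟩)
    have hzG : Cfsg.generalizedFittingSubgroup G ≤ centralizer {(z : G)} := by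
      refine sup_le (fun e he => ?_) (fun f hf => ?_)
      · rw [Subgroup.mem_centralizer_singleton_iff]
        exact (Subgroup.mem_centralizer_iff.mp (hEF he) z z.2).symm
      · rw [Subgroup.mem_centralizer_singleton_iff]; exact hzc f hf
    have hzK : (z : G) ∈ centralizer (K : Set G) := Subgroup.mem_centralizer_iff.mpr fun y hy =>
      Subgroup.mem_centralizer_singleton_iff.mp (hzG hy.2.1)
    have hzM : (z : G) ∈ M := hKN ▸ (Subgroup.centralizer_le_normalizer _ hzK)
    have : (z : G) ∈ M ⊓ F := ⟨hzM, z.2⟩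
    rw [hMFit, Subgroup.mem_bot] at this
    exact hz1 (Subtype.ext (Subtype.ext this))
  have hgf : Cfsg.generalizedFittingSubgroup G = Cfsg.layer G := by
    rw [Cfsg.generalizedFittingSubgroup, hFit, sup_bot_eq]
  -- all components lie in N
  have hcomp : ∀ L : Subgroup G, Cfsg.IsComponent L → L ≤ N := by
    by_contra hex
    push Not at hex
    obtain ⟨L0, hL0, hL0N⟩ := hex
    let S : Set (Subgroup G) := {L | Cfsg.IsComponent L ∧ ¬ L ≤ N}
    have hRM : sSup S ≤ M := sSup_le fun L hL => by
      rw [← hKN]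
      refine le_trans ?_ (Subgroup.centralizer_le_normalizer _)
      have h := (component_le_or_commute hL.1 hN.isSubnormal).resolve_left hL.2
      exact (Subgroup.commutator_eq_bot_iff_le_centralizer.mp h).trans
        (Subgroup.centralizer_le (fun y hy => hy.2.2))
    have hRn : (sSup S).Normal := by
      refine ⟨fun x hx g => ?_⟩
      have hle : sSup S ≤ (sSup S).comap (MulAut.conj g).toMonoidHom := by
        refine sSup_le fun L hL => ?_
        rw [← Subgroup.map_le_iff_le_comap]
        refine le_sSup ⟨IsComponent.conj hL.1 g, fun hle => hL.2 fun y hy => ?_⟩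
        have h2 := hN.conj_mem _ (hle ⟨y, hy, rfl⟩) g⁻¹
        simpa [mul_assoc] using h2
      exact hle hx
    exact IsComponent.ne_bot hL0 (le_bot_iff.mp
      ((hnoG _ hRn hRM) ▸ le_sSup (show L0 ∈ S from ⟨hL0, hL0N⟩)))
  have hEN : Cfsg.layer G ≤ N := sSup_le fun L hL => hcomp L hL
  refine ⟨hFit, inf_eq_left.mpr (hgf ▸ hEN), hgf, fun R hR hR1 hmin => ?_⟩
  rcases hmin (R ⊓ Cfsg.layer G) inferInstance inf_le_left with h | h
  · exfalso
    have hc : R ≤ centralizer (Cfsg.generalizedFittingSubgroup G : Set G) := by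
      rw [hgf, ← Subgroup.commutator_eq_bot_iff_le_centralizer, ← le_bot_iff, ← h]
      exact le_inf (Subgroup.commutator_le_left _ _) (Subgroup.commutator_le_right _ _)
    exact hR1 (le_bot_iff.mp (hFit ▸ hc.trans centralizer_gfitting_le_fitting))
  · exact (inf_eq_left.mp h).trans hEN

end Cfsg.Agent.Grp
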