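import Mathlib
import Cfsg.Agent.Lib.Fus.QdGroup
import Cfsg.Agent.Lib.Grp.SL2Basic
import Cfsg.Agent.Lib.Grp.DerivedLengthPerm

/-!
`Qd(p)` acts faithfully by even permutations on `p²` points, and is not involved in an alternating
group of smaller degree, whose `p`-subgroups are abelian.
-/

set_option autoImplicit false

namespace Cfsg.Agent.Grp.QdAlt

open scoped commutatorElement
open Subgroup Cfsg.Agent.Fus Cfsg.Agent.Grp.SL2

variable {p : ℕ} [hp : Fact p.Prime]

local notation "SL2" => Matrix.SpecialLinearGroup (Fin 2) (ZMod p)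
local notation "F2" => Multiplicative (Fin 2 → ZMod p)

theorem perm_commute {α : Type*} [Finite α] (h : Nat.card α < p ^ 2) (P : Subgroup (Equiv.Perm α))
    (hP : IsPGroup p P) {x y : Equiv.Perm α} (hx : x ∈ P) (hy : y ∈ P) : Commute x y := by
  have hl : Nat.log p (Nat.card α) ≤ 1 := by
    have := Nat.log_lt_of_lt_pow' two_ne_zero h
    omega
  have h1 : derivedSeries P 1 = ⊥ :=
    le_bot_iff.mp ((derivedSeries_antitone P hl).trans (DerivedLength.perm_upper P hP).le)
  have hxy : ⁅(⟨x, hx⟩ : P), (⟨y, hy⟩ : P)⁆ = 1 := by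
    rw [← Subgroup.mem_bot, ← h1, derivedSeries_succ, derivedSeries_zero]
    exact Subgroup.commutator_mem_commutator (mem_top _) (mem_top _)
  exact congrArg Subtype.val (commutatorElement_eq_one_iff_mul_comm.mp hxy)

theorem exists_noncommuting :
    ∃ U : Subgroup (qd p), IsPGroup p U ∧ ∃ x ∈ U, ∃ y ∈ U, ¬ Commute x y := by
  refine ⟨(zpowers (up (1 : ZMod p))).comap (qdBlock p), ?_,
    qdLift p (up 1), ?_, qdTrans p (Multiplicative.ofAdd ![0, 1]), ?_, fun hc => ?_⟩
  · refine IsPGroup.comap_of_ker_isPGroup ?_ (qdBlock p) ?_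
    · rintro ⟨x, k, rfl⟩
      refine ⟨1, Subtype.ext ?_⟩
      show (up (1 : ZMod p) ^ k) ^ (p ^ 1) = 1
      rw [pow_one, ← zpow_natCast, ← zpow_mul, mul_comm, zpow_mul, zpow_natCast, up_pow,
        ZMod.natCast_self, zero_mul, up_zero, one_zpow]
    · rw [show (qdBlock p).ker = (qdTrans p).range from Subgroup.ext fun _ => mem_ker_qdBlock]
      exact (isPGroup_vec p).of_surjective _ (qdTrans p).rangeRestrict_surjective
  · rw [mem_comap, qdBlock_lift]; exact mem_zpowers _
  · rw [mem_comap, qdBlock_trans]; exact one_mem _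
  · have h := qdTrans_conj (qdLift p (up (1 : ZMod p))) (Multiplicative.ofAdd ![0, 1])
    rw [hc.eq, mul_inv_cancel_right, qdBlock_lift] at h
    have := congrFun (congrArg Multiplicative.toAdd (qdTrans_injective h)) 0
    simp [matAct, up] at this

theorem not_involves {n : ℕ} (h : n < p ^ 2) :
    ¬ Involves ↥(qd p) ↥(alternatingGroup (Fin n)) := by
  rintro ⟨K, R, hR, ⟨e⟩⟩
  let f : K →* qd p := e.toMonoidHom.comp (QuotientGroup.mk' (R.subgroupOf K))
  have hf : Function.Surjective f := e.surjective.comp (QuotientGroup.mk'_surjective _)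
  obtain ⟨U, hU, x, hx, y, hy, hxy⟩ := exists_noncommuting (p := p)
  obtain ⟨P⟩ : Nonempty (Sylow p K) := inferInstance
  obtain ⟨Q, hQ⟩ := hU.exists_le_sylow
  obtain ⟨g, hg⟩ := MulAction.exists_smul_eq (qd p) (P.mapSurjective hf) Q
  refine hxy ?_
  have hgQ : ∀ z ∈ U, ∃ a ∈ (P : Subgroup K), z = g * f a * g⁻¹ := by
    intro z hz
    have := hQ hz
    rw [← hg, Sylow.coe_subgroup_smul] at this
    obtain ⟨w, hw, rfl⟩ := this
    obtain ⟨a, ha, rfl⟩ := hw
    exact ⟨a, ha, rfl⟩
  obtain ⟨a, ha, rfl⟩ := hgQ x hx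
  obtain ⟨b, hb, rfl⟩ := hgQ y hy
  have hab : Commute a b := by
    have := perm_commute (p := p) (by simpa using h)
      (((P : Subgroup K).map K.subtype).map (alternatingGroup (Fin n)).subtype)
      ((P.2.map _).map _) (mem_map_of_mem _ (mem_map_of_mem _ ha))
      (mem_map_of_mem _ (mem_map_of_mem _ hb))
    exact Subtype.ext (Subtype.ext this.eq)
  exact ((hab.map f).map (MulAut.conj g).toMonoidHom)

theorem units_int_eq_one (hodd : p ≠ 2) {G : Type*} [Monoid G] (s : G →* ℤˣ) {x : G}
    (hx : x ^ p = 1) : s x = 1 := by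
  have h := congrArg s hx
  rw [map_pow, map_one, Int.units_pow_eq_pow_mod_two,
    Nat.odd_iff.mp (hp.out.odd_of_ne_two hodd), pow_one] at h
  exact h

theorem sl2_units_int (hodd : p ≠ 2) (s : SL2 →* ℤˣ) (g : SL2) : s g = 1 := by
  have hup : ∀ t : ZMod p, s (up t) = 1 := fun t => units_int_eq_one hodd s (by
    rw [up_pow, ZMod.natCast_self, zero_mul, up_zero])
  have hlow : ∀ t : ZMod p, s (low t) = 1 := fun t => units_int_eq_one hodd s (by
    rw [low_pow, ZMod.natCast_self, zero_mul, low_zero])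
  have key : ∀ g : SL2, g.1 1 0 ≠ 0 → s g = 1 := by
    intro g hc
    have hd := det_eq g
    have e : g = up ((g.1 0 0 - 1) / g.1 1 0) * low (g.1 1 0) * up ((g.1 1 1 - 1) / g.1 1 0) := by
      apply Subtype.ext
      rw [Matrix.SpecialLinearGroup.coe_mul, Matrix.SpecialLinearGroup.coe_mul]
      ext i j
      fin_cases i <;> fin_cases j <;>
        simp [up, low, Matrix.mul_apply, Fin.sum_univ_two] <;> field_simp <;>
        first | ring1 | linear_combination -hd
    rw [e, map_mul, map_mul, hup, hlow, hup]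
    rfl
  by_cases hc : g.1 1 0 = 0
  · have hd := det_eq g
    have := key (low 1 * g) (by
      rw [Matrix.SpecialLinearGroup.coe_mul]
      simp [low, Matrix.mul_apply, Fin.sum_univ_two, hc]
      intro ha
      rw [ha, hc] at hd
      simp at hd)
    rwa [map_mul, hlow, one_mul] at this
  · exact key g hc

theorem qd_units_int (hodd : p ≠ 2) (s : qd p →* ℤˣ) (x : qd p) : s x = 1 := by
  rw [qd_decomp x, map_mul, units_int_eq_one hodd s, one_mul]
  · exact sl2_units_int hodd (s.comp (qdLift p)) _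
  · rw [← map_pow]
    convert map_one (qdTrans p)
    apply Multiplicative.toAdd.injective
    ext i
    simp

theorem exists_embedding (hodd : p ≠ 2) {n : ℕ} (h : p ^ 2 ≤ n) :
    ∃ H : Subgroup (alternatingGroup (Fin n)), Nonempty (↥H ≃* ↥(qd p)) := by
  let L : Subgroup (qd p) := (qdLift p).range
  let m : F2 → qd p ⧸ L := fun v => QuotientGroup.mk (qdTrans p v)
  have hmem : ∀ v, qdTrans p v ∈ L → v = 1 := by
    rintro v ⟨g, hg⟩
    have h1 : g = 1 := by
      have := congrArg (qdBlock p) hg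
      rwa [qdBlock_lift, qdBlock_trans] at this
    rw [h1, map_one] at hg
    exact qdTrans_injective (hg.symm.trans (map_one _).symm)
  have hm : Function.Bijective m := by
    refine ⟨fun v w hvw => ?_, fun c => ?_⟩
    · have := hmem (v⁻¹ * w) (by rw [map_mul, map_inv]; exact QuotientGroup.eq.mp hvw)
      exact inv_mul_eq_one.mp this
    · obtain ⟨x, rfl⟩ := QuotientGroup.mk_surjective c
      refine ⟨Multiplicative.ofAdd ![x.1.1 0 2, x.1.1 1 2], QuotientGroup.eq.mpr ?_⟩
      conv => arg 2; arg 2; rw [qd_decomp x]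
      rw [inv_mul_cancel_left]
      exact ⟨_, rfl⟩
  have hcard : Nat.card (qd p ⧸ L) = p ^ 2 := by
    rw [← Nat.card_congr (Equiv.ofBijective m hm)]
    simp [Nat.card_eq_fintype_card]
  have hact : Function.Injective (MulAction.toPermHom (qd p) (qd p ⧸ L)) := by
    rw [injective_iff_map_eq_one]
    intro k hk
    have hfix : ∀ v, (QuotientGroup.mk (k * qdTrans p v) : qd p ⧸ L) = m v := fun v =>
      DFunLike.congr_fun hk (m v)
    obtain ⟨g, hg⟩ : k ∈ L := by
      have := QuotientGroup.eq.mp (hfix 1)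
      rw [map_one, mul_one, mul_one] at this
      exact inv_mem_iff.mp this
    suffices g = 1 by rw [← hg, this, map_one]
    refine eq_of_matAct_eq fun v => ?_
    rw [matAct_one]
    have h1 : (qdTrans p (matAct g v))⁻¹ * qdTrans p v ∈ L := by
      have h2 : qdLift p g * qdTrans p v = qdTrans p (matAct g v) * qdLift p g := by
        have := qdTrans_conj (qdLift p g) v
        rw [qdBlock_lift] at this
        rw [← this, inv_mul_cancel_right]
      have := QuotientGroup.eq.mp (hfix v)
      rw [← hg, h2, mul_inv_rev, mul_assoc] at this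
      exact (L.mul_mem_cancel_left (inv_mem ⟨g, rfl⟩)).mp this
    rw [← map_inv, ← map_mul] at h1
    exact (inv_mul_eq_one.mp (hmem _ h1))
  obtain ⟨em⟩ : Nonempty (qd p ⧸ L ↪ Fin n) :=
    ⟨((Finite.equivFinOfCardEq hcard).toEmbedding).trans (Fin.castLEEmb h)⟩
  let φ : qd p →* Equiv.Perm (Fin n) :=
    (Equiv.Perm.viaEmbeddingHom em).comp (MulAction.toPermHom (qd p) (qd p ⧸ L))
  have hφ : Function.Injective φ := (Equiv.Perm.viaEmbeddingHom_injective em).comp hact
  let ψ : qd p →* alternatingGroup (Fin n) :=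
    φ.codRestrict _ fun x => Equiv.Perm.mem_alternatingGroup.mpr
      (qd_units_int hodd (Equiv.Perm.sign.comp φ) x)
  have hψ : Function.Injective ψ := fun a b hab => hφ (congrArg Subtype.val hab)
  exact ⟨ψ.range, ⟨(MonoidHom.ofInjective hψ).symm⟩⟩

theorem main (hodd : p ≠ 2) (n : ℕ) :
    ((∃ H : Subgroup (alternatingGroup (Fin n)), Nonempty (↥H ≃* ↥(qd p))) ↔ p ^ 2 ≤ n) ∧
      (n < p ^ 2 → ¬ Involves ↥(qd p) ↥(alternatingGroup (Fin n))) := by
  refine ⟨⟨?_, exists_embedding hodd⟩, not_involves⟩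
  rintro ⟨H, ⟨e⟩⟩
  by_contra hn
  refine not_involves (not_le.mp hn) ⟨H, ⊥, inferInstance, ?_⟩
  exact ⟨((QuotientGroup.quotientMulEquivOfEq (Subgroup.bot_subgroupOf H)).trans
    QuotientGroup.quotientBot).trans e⟩

end Cfsg.Agent.Grp.QdAlt
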