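import Mathlib
import Cfsg.Agent.Lib.Grp.Cores
import Cfsg.Prelude.Def_Solvable

/-!
# A group with a normal rank one group of characteristic `p`, `p ≥ 5`

If `H` has a normal subgroup `R` of rank one shape with `H / R` a `p`-group and trivial
`p`-core, then the centre of the normalizer of a Sylow `p`-subgroup of `H` has trivial intersection
with that Sylow subgroup.
-/

set_option autoImplicit false
set_option linter.unusedSectionVars false

namespace Cfsg.Agent.RankOneCentral

open Subgroup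
open scoped commutatorElement

/-- A rank one group in characteristic `p` with a distinguished torus element of order dividing
`p - 1` without fixed points on the unipotent group. -/
structure Data (p : ℕ) (M : Type*) [Group M] where
  U : Subgroup M
  B : Subgroup M
  le : U ≤ B
  isP : IsPGroup p U
  ne : U ≠ ⊥
  index : B.index = Nat.card U + 1
  norm : ∀ b ∈ B, ∀ u ∈ U, b * u * b⁻¹ ∈ U
  cop : ¬ p ∣ U.relIndex B
  cyc : ∃ g₀ ∈ B, ∀ x ∈ B, ∃ i : ℕ, x * (g₀ ^ i)⁻¹ ∈ U
  b₀ : M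
  hb₀ : b₀ ∈ B
  hpow : b₀ ^ (p - 1) ∈ U
  reg : ∀ u ∈ U, u ≠ 1 → ∀ g : M, g⁻¹ * u * g ∈ B → g ∈ B
  free : ∀ b ∈ B, b * b₀⁻¹ ∈ U → ∀ u ∈ U, Commute b u → u = 1
  perfect : commutator M = ⊤

namespace Data

variable {p : ℕ} {M : Type*} [Group M] [Finite M] (D : Data p M)

theorem two_le_card : 2 ≤ Nat.card D.U := by
  rcases Nat.lt_or_ge 1 (Nat.card D.U) with h | h
  · omega
  · exact absurd (Subgroup.eq_bot_of_card_le _ h) D.ne

theorem B_ne_top : D.B ≠ ⊤ := by
  intro h
  have h1 := D.index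
  rw [h, Subgroup.index_top] at h1
  have := D.two_le_card
  omega

theorem eq_one_of_mem_conj {u g : M} (hu : u ∈ D.U) (hg : g ∉ D.B) (h : g⁻¹ * u * g ∈ D.B) :
    u = 1 := by
  by_contra h1
  exact hg (D.reg u hu h1 g h)

theorem exists_notMem : ∃ g : M, g ∉ D.B := by
  by_contra h
  push Not at h
  exact D.B_ne_top (eq_top_iff.2 fun x _ => h x)

theorem center_le (z : M) (hz : z ∈ Subgroup.center M) : z ∈ D.B := by
  obtain ⟨u, hu1⟩ := (Subgroup.ne_bot_iff_exists_ne_one.1 D.ne)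
  refine D.reg _ u.2 (by simpa using hu1) z ?_
  rw [mul_assoc, Subgroup.mem_center_iff.1 hz, inv_mul_cancel_left]
  exact D.le u.2

theorem inf_center {z : M} (hzU : z ∈ D.U) (hz : z ∈ Subgroup.center M) : z = 1 := by
  obtain ⟨g, hg⟩ := D.exists_notMem
  refine D.eq_one_of_mem_conj hzU hg ?_
  rw [mul_assoc, ← Subgroup.mem_center_iff.1 hz, inv_mul_cancel_left]
  exact D.le hzU

/-- The unipotent group is transitive on the points other than its own. -/
theorem cover {g x : M} (hg : g ∉ D.B) (hx : x ∉ D.B) :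
    ∃ u ∈ D.U, (u * g)⁻¹ * x ∈ D.B := by
  classical
  let f : Option D.U → M ⧸ D.B := fun o => Option.elim o (QuotientGroup.mk 1) fun u =>
    QuotientGroup.mk ((u : M) * g)
  have hinj : Function.Injective f := by
    rintro (_ | u) (_ | v) h
    · rfl
    · exfalso
      have h1 := QuotientGroup.eq.1 h
      rw [inv_one, one_mul] at h1
      exact hg (by simpa using D.B.mul_mem (D.B.inv_mem (D.le v.2)) h1)
    · exfalso
      have h1 := QuotientGroup.eq.1 h
      rw [mul_one, mul_inv_rev] at h1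
      have h2 := D.B.inv_mem (D.B.mul_mem h1 (D.le u.2))
      exact hg (by simpa using h2)
    · have h1 : ((u : M) * g)⁻¹ * ((v : M) * g) ∈ D.B := QuotientGroup.eq.1 h
      rw [show ((u : M) * g)⁻¹ * ((v : M) * g) = g⁻¹ * ((u : M)⁻¹ * v) * g by group] at h1
      have h2 := D.eq_one_of_mem_conj (D.U.mul_mem (D.U.inv_mem u.2) v.2) hg h1
      exact congrArg some (Subtype.ext (inv_mul_eq_one.1 h2))
  haveI : Fintype (Option D.U) := Fintype.ofFinite _
  have hcard : Nat.card (M ⧸ D.B) ≤ Nat.card (Option D.U) := by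
    rw [← Subgroup.index_eq_card, D.index, Finite.card_option]
  obtain ⟨o, ho⟩ := (hinj.bijective_of_nat_card_le hcard).2 (QuotientGroup.mk x)
  cases o with
  | none =>
    have h1 := QuotientGroup.eq.1 ho
    exact absurd (by simpa using h1) hx
  | some u => exact ⟨u, u.2, QuotientGroup.eq.1 ho⟩

theorem mem_B_of_normalizes {g : M} (h : ∀ u ∈ D.U, g⁻¹ * u * g ∈ D.U) : g ∈ D.B := by
  obtain ⟨u, hu1⟩ := Subgroup.ne_bot_iff_exists_ne_one.1 D.ne
  exact D.reg u u.2 (by simpa using hu1) g (D.le (h u u.2))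

theorem not_dvd_index [hp : Fact p.Prime] : ¬ p ∣ D.U.index := by
  rw [← Subgroup.relIndex_mul_index D.le, hp.out.dvd_mul]
  rintro (h | h)
  · exact D.cop h
  · obtain ⟨k, hk⟩ := IsPGroup.iff_card.1 D.isP
    rw [D.index, hk] at h
    have hk0 : k ≠ 0 := by
      rintro rfl
      have := D.two_le_card
      rw [hk] at this
      simp at this
    exact hp.out.not_dvd_one ((Nat.dvd_add_right (dvd_pow_self p hk0)).1 h)

/-- The data pass to a quotient by a central subgroup. -/
noncomputable def map {R : Type*} [Group R] [Finite R] (f : M →* R) (hf : Function.Surjective f)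
    (hker : f.ker ≤ Subgroup.center M) : Data p R where
  U := D.U.map f
  B := D.B.map f
  le := Subgroup.map_mono D.le
  isP := D.isP.map f
  ne := by
    obtain ⟨u, hu1⟩ := Subgroup.ne_bot_iff_exists_ne_one.1 D.ne
    intro h
    have h1 : f u = 1 := Subgroup.mem_bot.1 (h ▸ Subgroup.mem_map_of_mem f u.2)
    exact hu1 (Subtype.ext (D.inf_center u.2 (hker h1)))
  index := by
    rw [Subgroup.index_map_eq D.B hf fun x hx => D.center_le x (hker hx), D.index]
    refine congrArg (· + 1) (Nat.card_congr (Equiv.ofBijective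
      (fun u : D.U => (⟨f u, Subgroup.mem_map_of_mem f u.2⟩ : D.U.map f)) ⟨?_, ?_⟩))
    · intro u v h
      have h1 : f u = f v := congrArg Subtype.val h
      have h2 : (u : M)⁻¹ * v ∈ f.ker := by simp [MonoidHom.mem_ker, h1]
      exact Subtype.ext (inv_mul_eq_one.1 (D.inf_center (D.U.mul_mem (D.U.inv_mem u.2) v.2) (hker h2)))
    · rintro ⟨_, u, hu, rfl⟩
      exact ⟨⟨u, hu⟩, rfl⟩
  norm := by
    rintro _ ⟨b, hb, rfl⟩ _ ⟨u, hu, rfl⟩
    exact ⟨_, D.norm b hb u hu, by simp⟩
  cop := fun h => D.cop (h.trans (by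
    rw [Subgroup.relIndex_map_map, sup_eq_left.2 (show f.ker ≤ D.B from fun x hx => D.center_le x (hker hx))]
    exact Subgroup.relIndex_dvd_of_le_left D.B le_sup_left))
  cyc := by
    obtain ⟨g₀, hg₀, h⟩ := D.cyc
    refine ⟨f g₀, Subgroup.mem_map_of_mem f hg₀, ?_⟩
    rintro _ ⟨x, hx, rfl⟩
    obtain ⟨i, hi⟩ := h x hx
    exact ⟨i, _, hi, by simp⟩
  b₀ := f D.b₀
  hb₀ := Subgroup.mem_map_of_mem f D.hb₀
  hpow := ⟨_, D.hpow, map_pow f _ _⟩
  reg := by
    rintro _ ⟨u, hu, rfl⟩ hu1 g hg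
    obtain ⟨g, rfl⟩ := hf g
    obtain ⟨b, hb, hbe⟩ := hg
    have h1 : b⁻¹ * (g⁻¹ * u * g) ∈ f.ker := by simp [MonoidHom.mem_ker, hbe] <;> group
    have h2 : g⁻¹ * u * g ∈ D.B := by
      simpa using D.B.mul_mem hb (D.center_le _ (hker h1))
    exact Subgroup.mem_map_of_mem f (D.reg u hu (fun h => hu1 (by rw [h, map_one])) g h2)
  free := by
    rintro _ ⟨b, hb, rfl⟩ ⟨u', hu', hu'e⟩ _ ⟨u, hu, rfl⟩ hcomm
    obtain ⟨z, hz, rfl⟩ : ∃ z ∈ f.ker, b = u' * D.b₀ * z := by
      refine ⟨D.b₀⁻¹ * u'⁻¹ * b, ?_, by group⟩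
      simp [MonoidHom.mem_ker, hu'e, mul_assoc]
    have hzc := hker hz
    have hk : (u' * D.b₀) * u * (u' * D.b₀)⁻¹ * u⁻¹ ∈ f.ker := by
      have h1 : f (u' * D.b₀) * f u = f u * f (u' * D.b₀) := by
        have := hcomm.eq
        rwa [map_mul f _ z, (MonoidHom.mem_ker).1 hz, mul_one] at this
      simp only [MonoidHom.mem_ker, map_mul, map_inv] at h1 ⊢
      rw [h1]; group
    have hb' : u' * D.b₀ ∈ D.B := D.B.mul_mem (D.le hu') D.hb₀
    have h2 := D.inf_center (D.U.mul_mem (D.norm _ hb' u hu) (D.U.inv_mem hu)) (hker hk)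
    have h3 : Commute (u' * D.b₀) u := mul_inv_eq_iff_eq_mul.1 (mul_inv_eq_one.1 h2)
    rw [D.free _ hb' (by simpa [mul_assoc] using hu') u hu h3, map_one]
  perfect := by
    rw [← Subgroup.map_top_of_surjective f hf, ← D.perfect]
    simp [_root_.commutator_def, Subgroup.map_commutator, Subgroup.map_top_of_surjective f hf]

end Data

/-- The main result. -/
theorem eq_one_of_central {p : ℕ} [hp : Fact p.Prime] {H : Type*} [Group H] [Finite H] (R : Subgroup H)
    [R.Normal] (hq : IsPGroup p (H ⧸ R)) (hcore : Cfsg.pCore p H = ⊥) (D : Data p R)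
    (S : Sylow p H) (w : H) (hw : w ∈ (S : Subgroup H))
    (hcen : ∀ x ∈ Subgroup.normalizer ((S : Subgroup H) : Set H), x * w = w * x) : w = 1 := by
  classical
  -- move the Sylow subgroup over the unipotent group
  obtain ⟨S₀, hS₀⟩ := (D.isP.map R.subtype).exists_le_sylow
  obtain ⟨a, ha⟩ := MulAction.exists_smul_eq H S S₀
  suffices h : a * w * a⁻¹ = 1 by simpa using h
  generalize hv : a * w * a⁻¹ = v
  have hvS : v ∈ (S₀ : Subgroup H) := by
    rw [← hv, ← ha, Sylow.coe_subgroup_smul]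
    exact ⟨w, hw, rfl⟩
  have hcen' : ∀ x ∈ Subgroup.normalizer ((S₀ : Subgroup H) : Set H), x * v = v * x := by
    intro x hx
    have h1 : a⁻¹ * x * a ∈ Subgroup.normalizer ((S : Subgroup H) : Set H) := by
      rw [← ha, Sylow.coe_subgroup_smul] at hx
      rw [Subgroup.mem_normalizer_iff] at hx ⊢
      intro y
      have := hx (a * y * a⁻¹)
      simp only [Subgroup.mem_pointwise_smul_iff_inv_smul_mem, MulAut.smul_def, map_inv,
        MulAut.conj_inv_apply] at this
      simpa [mul_assoc] using this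
    have h2 := congrArg (fun y => a * y * a⁻¹) (hcen _ h1)
    simpa [← hv, mul_assoc] using h2
  clear hcen hw ha hv
  -- the trace of the Sylow subgroup
  have hUS : ∀ u : R, u ∈ D.U → (u : H) ∈ (S₀ : Subgroup H) := fun u hu =>
    hS₀ (Subgroup.mem_map_of_mem R.subtype hu)
  have hUeq : ∀ r : R, (r : H) ∈ (S₀ : Subgroup H) → r ∈ D.U := by
    intro r hr
    have h1 : IsPGroup p ((S₀ : Subgroup H).comap R.subtype) :=
      S₀.2.comap_of_injective _ R.subtype_injective
    have h2 := (D.isP.toSylow D.not_dvd_index).3 h1 (fun u hu => hUS u hu)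
    have h3 : r ∈ (S₀ : Subgroup H).comap R.subtype := hr
    rw [h2] at h3
    exact h3
  -- the action of the elements of the Sylow subgroup
  let φ : H → MulAut R := fun s => MulAut.conjNormal s
  have hφU : ∀ s ∈ (S₀ : Subgroup H), ∀ u ∈ D.U, φ s u ∈ D.U := fun s hs u hu =>
    hUeq _ (by
      simpa [φ, MulAut.conjNormal_apply] using
        mul_mem (mul_mem hs (hUS u hu)) (inv_mem hs))
  have hφUi : ∀ s ∈ (S₀ : Subgroup H), ∀ u, φ s u ∈ D.U → u ∈ D.U := by
    intro s hs u hu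
    have h1 := hφU s⁻¹ (inv_mem hs) _ hu
    simpa [φ, map_inv] using h1
  have hφB : ∀ s ∈ (S₀ : Subgroup H), ∀ b ∈ D.B, φ s b ∈ D.B := by
    intro s hs b hb
    refine D.mem_B_of_normalizes fun u hu => ?_
    have hi : φ s⁻¹ u ∈ D.U := hφU s⁻¹ (inv_mem hs) u hu
    have h1 := hφU s hs _ (D.norm b⁻¹ (inv_mem hb) _ hi)
    simpa [φ, map_inv] using h1
  -- every element of the Sylow subgroup fixes the coset of the torus element
  let N : Subgroup D.B := D.U.subgroupOf D.B
  haveI hN : N.Normal := ⟨fun n hn g => by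
    simpa [N, Subgroup.mem_subgroupOf] using D.norm g g.2 n hn⟩
  haveI : IsCyclic (D.B ⧸ N) := by
    obtain ⟨g₀, hg₀, hgen⟩ := D.cyc
    refine ⟨⟨QuotientGroup.mk ⟨g₀, hg₀⟩, fun x => ?_⟩⟩
    induction x using QuotientGroup.induction_on with
    | H x =>
      obtain ⟨i, hi⟩ := hgen x x.2
      refine ⟨i, ?_⟩
      show (QuotientGroup.mk ⟨g₀, hg₀⟩ : D.B ⧸ N) ^ (i : ℤ) = QuotientGroup.mk x
      rw [zpow_natCast, ← QuotientGroup.mk_pow, eq_comm, ← mul_inv_eq_one, ← QuotientGroup.mk_inv,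
        ← QuotientGroup.mk_mul, QuotientGroup.eq_one_iff]
      simpa [N, Subgroup.mem_subgroupOf] using hi
  have hfix : ∀ s ∈ (S₀ : Subgroup H), φ s D.b₀ * D.b₀⁻¹ ∈ D.U := by
    intro s hs
    have hstep : ∀ t ∈ (S₀ : Subgroup H), φ t D.b₀ * D.b₀⁻¹ ∈ D.U →
        ∀ m : ℕ, φ (t ^ m) D.b₀ * D.b₀⁻¹ ∈ D.U := by
      intro t ht h m
      induction m with
      | zero => simp [φ]
      | succ m ih =>
        have h1 := mul_mem (hφU t ht _ ih) h
        simpa [φ, pow_succ', map_mul, mul_assoc] using h1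
    haveI : Fintype (D.B ⧸ N) := Fintype.ofFinite _
    let f : Fin p → D.B ⧸ N := fun j =>
      QuotientGroup.mk ⟨φ (s ^ (j : ℕ)) D.b₀, hφB _ (pow_mem hs _) _ D.hb₀⟩
    have hmem : ∀ j ∈ (Finset.univ : Finset (Fin p)),
        f j ∈ (Finset.univ.filter fun x : D.B ⧸ N => x ^ (p - 1) = 1) := by
      intro j _
      simp only [Finset.mem_filter, Finset.mem_univ, true_and, f, ← QuotientGroup.mk_pow,
        QuotientGroup.eq_one_iff, N, Subgroup.mem_subgroupOf]
      simpa [← map_pow] using hφU _ (pow_mem hs _) _ D.hpow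
    have hp1 : 0 < p - 1 := by have := hp.out.two_le; omega
    have hlt : (Finset.univ.filter fun x : D.B ⧸ N => x ^ (p - 1) = 1).card <
        (Finset.univ : Finset (Fin p)).card := by
      rw [Finset.card_univ, Fintype.card_fin]
      exact lt_of_le_of_lt (IsCyclic.card_pow_eq_one_le hp1) (by omega)
    obtain ⟨i, -, j, -, hne, hij⟩ := Finset.exists_ne_map_eq_of_card_lt_of_maps_to hlt hmem
    wlog hlti : (i : ℕ) < j generalizing i j
    · exact this j i hne.symm hij.symm (lt_of_le_of_ne (not_lt.1 hlti) fun h => hne (Fin.ext h.symm))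
    have h0 : φ (s ^ (j : ℕ)) D.b₀ * (φ (s ^ (i : ℕ)) D.b₀)⁻¹ ∈ D.U := by
      have h1 : (QuotientGroup.mk ⟨φ (s ^ (j : ℕ)) D.b₀, hφB _ (pow_mem hs _) _ D.hb₀⟩ : D.B ⧸ N) *
          (QuotientGroup.mk ⟨φ (s ^ (i : ℕ)) D.b₀, hφB _ (pow_mem hs _) _ D.hb₀⟩ : D.B ⧸ N)⁻¹ = 1 :=
        mul_inv_eq_one.2 hij.symm
      rw [← QuotientGroup.mk_inv, ← QuotientGroup.mk_mul, QuotientGroup.eq_one_iff] at h1
      simpa [N, Subgroup.mem_subgroupOf] using h1
    have hd : φ (s ^ ((j : ℕ) - i)) D.b₀ * D.b₀⁻¹ ∈ D.U := by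
      refine hφUi _ (pow_mem hs (i : ℕ)) _ ?_
      have e : (j : ℕ) = i + (j - i) := by omega
      rw [e, pow_add] at h0
      simpa [φ, map_mul] using h0
    obtain ⟨k, hk⟩ := IsPGroup.iff_orderOf.1 S₀.2 ⟨s, hs⟩
    rw [Subgroup.orderOf_mk] at hk
    obtain ⟨m, hm⟩ := exists_pow_eq_self_of_coprime (n := (j : ℕ) - i) (x := s) (by
      rw [hk]
      refine Nat.Coprime.pow_right k (Nat.Coprime.symm ((hp.out.coprime_iff_not_dvd).2 ?_))
      intro hdvd
      have := Nat.le_of_dvd (by omega) hdvd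
      have := j.2
      omega)
    have := hstep _ (pow_mem hs _) hd m
    rwa [hm] at this
  -- the torus element fixing two points
  obtain ⟨g, hg⟩ := D.exists_notMem
  have hbg : D.b₀ * g ∉ D.B := fun h => hg (by simpa using D.B.mul_mem (D.B.inv_mem D.hb₀) h)
  obtain ⟨u₁, hu₁, hu₁g⟩ := D.cover hg hbg
  generalize hb : u₁⁻¹ * D.b₀ = b
  have hbB : b ∈ D.B := hb ▸ D.B.mul_mem (D.B.inv_mem (D.le hu₁)) D.hb₀
  have hbU : b * D.b₀⁻¹ ∈ D.U := by rw [← hb]; simpa using hu₁
  have hbgB : g⁻¹ * b * g ∈ D.B := by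
    rw [← hb]; simpa [mul_assoc] using hu₁g
  -- it normalises the Sylow subgroup
  have hbN : (b : H) ∈ Subgroup.normalizer ((S₀ : Subgroup H) : Set H) := by
    have key : ∀ s ∈ (S₀ : Subgroup H), (b : H) * s * (b : H)⁻¹ ∈ (S₀ : Subgroup H) := by
      intro s hs
      have h1 : φ s b * b⁻¹ ∈ D.U := by
        have h2 := D.U.mul_mem (D.U.mul_mem (hφU s hs _ hbU) (hfix s hs)) (D.U.inv_mem hbU)
        simpa [map_mul, map_inv, mul_assoc] using h2
      have h3 := mul_mem (inv_mem (hUS _ h1)) hs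
      simpa [φ, MulAut.conjNormal_apply, mul_assoc] using h3
    refine Subgroup.mem_normalizer_iff.2 fun y => ⟨key y, fun hy => ?_⟩
    have hmap : (S₀ : Subgroup H).map (MulAut.conj (b : H)).toMonoidHom = (S₀ : Subgroup H) := by
      refine Subgroup.eq_of_le_of_card_ge ?_
        (Subgroup.card_map_of_injective (MulAut.conj (b : H)).injective).ge
      rintro _ ⟨s, hs, rfl⟩
      simpa using key s hs
    rw [← hmap] at hy
    obtain ⟨s, hs, hse⟩ := hy
    simp at hse
    exact hse ▸ hs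
  -- `v` fixes every point
  have hαU : ∀ u ∈ D.U, φ v u = u := by
    intro u hu
    refine Subtype.ext ?_
    simp [φ, MulAut.conjNormal_apply,
      ← hcen' _ (Subgroup.le_normalizer (hUS u hu))]
  have hαb : φ v b = b := Subtype.ext (by simp [φ, MulAut.conjNormal_apply, ← hcen' _ hbN])
  have hαg : g⁻¹ * φ v g ∈ D.B := by
    have hg' : φ v g ∉ D.B := fun h => hg (by
      have := hφB v⁻¹ (inv_mem hvS) _ h
      simpa [φ, map_inv] using this)
    obtain ⟨u, hu, hug⟩ := D.cover hg hg'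
    suffices u = 1 by simpa [this] using hug
    refine D.free b hbB hbU u hu ?_
    have h1 : (φ v g)⁻¹ * b * φ v g ∈ D.B := by
      have := hφB v hvS _ hbgB
      simpa [map_mul, map_inv, hαb] using this
    have h2 : g⁻¹ * (u⁻¹ * b * u) * g ∈ D.B := by
      have := D.B.mul_mem (D.B.mul_mem hug h1) (D.B.inv_mem hug)
      simpa [mul_assoc] using this
    have h3 : b⁻¹ * (u⁻¹ * b * u) ∈ D.U := by
      have := D.U.mul_mem (D.norm b⁻¹ (inv_mem hbB) _ (D.U.inv_mem hu)) hu
      simpa [mul_assoc] using this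
    have h4 : g⁻¹ * (b⁻¹ * (u⁻¹ * b * u)) * g ∈ D.B := by
      have := D.B.mul_mem (D.B.inv_mem hbgB) h2
      simpa [mul_assoc] using this
    have h5 := D.eq_one_of_mem_conj h3 hg h4
    rw [inv_mul_eq_one, mul_assoc, eq_inv_mul_iff_mul_eq] at h5
    exact h5.symm
  have hαall : ∀ x : R, x⁻¹ * φ v x ∈ D.B := by
    intro x
    by_cases hx : x ∈ D.B
    · exact D.B.mul_mem (D.B.inv_mem hx) (hφB v hvS x hx)
    · obtain ⟨u, hu, hux⟩ := D.cover hg hx
      obtain ⟨c, hc, rfl⟩ : ∃ c ∈ D.B, x = u * g * c := ⟨_, hux, by group⟩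
      have := D.B.mul_mem (D.B.mul_mem (D.B.inv_mem hc) hαg) (hφB v hvS c hc)
      simpa [map_mul, hαU u hu, mul_assoc] using this
  -- `v` centralises an opposite unipotent group
  have hαV : ∀ u ∈ D.U, φ v (g * u * g⁻¹) = g * u * g⁻¹ := by
    intro u hu
    have hc : g⁻¹ * φ v g ∈ D.B := hαg
    have h1 : φ v (g * u * g⁻¹) = g * ((g⁻¹ * φ v g) * u * (g⁻¹ * φ v g)⁻¹) * g⁻¹ := by
      simp [map_mul, map_inv, hαU u hu, mul_assoc]
    rw [h1]
    generalize hu'' : (g⁻¹ * φ v g) * u * (g⁻¹ * φ v g)⁻¹ = u'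
    rw [hu''] at h1
    have hu' : u' ∈ D.U := hu'' ▸ D.norm _ hc u hu
    have h2 : g * (u⁻¹ * u') * g⁻¹ ∈ D.B := by
      have := hαall (g * u * g⁻¹)
      rw [h1] at this
      simpa [mul_assoc] using this
    have h3 : g⁻¹ ∉ D.B := fun h => hg (by simpa using D.B.inv_mem h)
    have h4 := D.eq_one_of_mem_conj (D.U.mul_mem (D.U.inv_mem hu) hu') h3 (by simpa using h2)
    rw [inv_mul_eq_one] at h4
    rw [h4]
  -- hence `v` centralises the normal closure of the unipotent group, which is everything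
  let K : Subgroup R := Subgroup.normalClosure (D.U : Set R)
  have hKfix : ∀ x ∈ K, φ v x = x := by
    let Fx : Subgroup R := (φ v).toMonoidHom.eqLocus (MonoidHom.id R)
    have : K ≤ Fx := by
      refine (Subgroup.closure_le _).2 fun y hy => ?_
      obtain ⟨u, hu, hcj⟩ := Group.mem_conjugatesOfSet_iff.1 hy
      obtain ⟨x, rfl⟩ := isConj_iff.1 hcj
      show φ v (x * u * x⁻¹) = x * u * x⁻¹
      by_cases hx : x ∈ D.B
      · exact hαU _ (D.norm x hx u hu)
      · obtain ⟨u', hu', hux⟩ := D.cover hg hx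
        obtain ⟨c, hc, rfl⟩ : ∃ c ∈ D.B, x = u' * g * c := ⟨_, hux, by group⟩
        have h1 := hαV _ (D.norm c hc u hu)
        rw [show u' * g * c * u * (u' * g * c)⁻¹ = u' * (g * (c * u * c⁻¹) * g⁻¹) * u'⁻¹ by group,
          map_mul, map_mul, h1, map_inv, hαU u' hu']
    exact fun x hx => this hx
  have hKtop : K = ⊤ := by
    have hUK : D.U ≤ K := Subgroup.subset_normalClosure
    haveI : K.Normal := Subgroup.normalClosure_normal
    obtain ⟨g₀, hg₀, hgen⟩ := D.cyc
    -- Frattini argument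
    have hfr : ∀ x : R, ∃ i : ℕ, x * (g₀ ^ i)⁻¹ ∈ K := by
      intro x
      let P := D.isP.toSylow D.not_dvd_index
      have hfr := Sylow.normalizer_sup_eq_top' (P := P) (N := K) hUK
      have hxm : x ∈ Subgroup.normalizer ((P : Subgroup R) : Set R) ⊔ K := by
        erw [hfr]; exact Subgroup.mem_top x
      obtain ⟨b', hb', k, hk, rfl⟩ := Subgroup.mem_sup_of_normal_right.1 hxm
      have hb'B : b' ∈ D.B := D.mem_B_of_normalizes fun u hu => by
        have := (Subgroup.mem_normalizer_iff.1 (inv_mem hb') u).1 hu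
        simpa [P] using this
      obtain ⟨i, hi⟩ := hgen b' hb'B
      refine ⟨i, ?_⟩
      have h1 := K.mul_mem (hUK hi) (Subgroup.Normal.conj_mem inferInstance k hk (g₀ ^ i))
      simpa [mul_assoc] using h1
    rw [eq_top_iff, ← D.perfect, commutator_eq_closure, Subgroup.closure_le]
    rintro _ ⟨x, y, rfl⟩
    obtain ⟨i, hi⟩ := hfr x
    obtain ⟨j, hj⟩ := hfr y
    rw [SetLike.mem_coe, ← QuotientGroup.eq_one_iff]
    have hx : (x : R ⧸ K) = (g₀ : R ⧸ K) ^ i := by
      rw [← QuotientGroup.mk_pow, ← mul_inv_eq_one, ← QuotientGroup.mk_inv, ← QuotientGroup.mk_mul,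
        QuotientGroup.eq_one_iff]
      exact hi
    have hy : (y : R ⧸ K) = (g₀ : R ⧸ K) ^ j := by
      rw [← QuotientGroup.mk_pow, ← mul_inv_eq_one, ← QuotientGroup.mk_inv, ← QuotientGroup.mk_mul,
        QuotientGroup.eq_one_iff]
      exact hj
    change ((⁅x, y⁆ : R) : R ⧸ K) = 1
    rw [← QuotientGroup.mk'_apply, map_commutatorElement, QuotientGroup.mk'_apply,
      QuotientGroup.mk'_apply, hx, hy, commutatorElement_eq_one_iff_mul_comm]
    exact (Commute.pow_pow_self _ i j).eq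
  have hvC : v ∈ Subgroup.centralizer (R : Set H) := by
    refine Subgroup.mem_centralizer_iff.2 fun y hy => ?_
    have h1 := congrArg Subtype.val (hKfix ⟨y, hy⟩ (hKtop ▸ Subgroup.mem_top _))
    simp only [φ, MulAut.conjNormal_apply] at h1
    exact (mul_inv_eq_iff_eq_mul.1 h1).symm
  -- the centraliser is nilpotent
  let C : Subgroup H := Subgroup.centralizer (R : Set H)
  have hker : ((QuotientGroup.mk' R).comp C.subtype).ker ≤ Subgroup.center C := by
    intro c hc
    have hcR : (c : H) ∈ R := (QuotientGroup.eq_one_iff _).1 hc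
    exact Subgroup.mem_center_iff.2 fun d => Subtype.ext
      ((Subgroup.mem_centralizer_iff.1 d.2 _ hcR).symm)
  haveI : Group.IsNilpotent (H ⧸ R) := hq.isNilpotent
  haveI hnil : Group.IsNilpotent C := by
    haveI : Group.IsNilpotent ((QuotientGroup.mk' R).comp C.subtype).range :=
      Subgroup.isNilpotent _
    exact Subgroup.isNilpotent_of_ker_le_center ((QuotientGroup.mk' R).comp C.subtype).rangeRestrict
      (by rwa [MonoidHom.ker_rangeRestrict])
  haveI hCn : C.Normal := inferInstance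
  obtain ⟨P⟩ : Nonempty (Sylow p C) := inferInstance
  haveI hPn : (P : Subgroup C).Normal :=
    P.normal_of_normalizerCondition Group.normalizerCondition_of_isNilpotent
  haveI : (P : Subgroup C).Characteristic := P.characteristic_of_normal hPn
  have hP1 : (P : Subgroup C).map C.subtype ≤ Cfsg.pCore p H :=
    Grp.le_pCore (ConjAct.normal_of_characteristic_of_normal) (P.2.map _)
  rw [hcore, le_bot_iff] at hP1
  have hvP : (⟨v, hvC⟩ : C) ∈ (P : Subgroup C) := by
    have hpg : IsPGroup p (Subgroup.zpowers (⟨v, hvC⟩ : C)) := by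
      refine (S₀.2.comap_of_injective C.subtype C.subtype_injective).to_le ?_
      exact Subgroup.zpowers_le.2 hvS
    obtain ⟨Q, hQ⟩ := hpg.exists_le_sylow
    haveI := Sylow.unique_of_normal P hPn
    rw [Subsingleton.elim P Q]
    exact hQ (Subgroup.mem_zpowers _)
  have := (Subgroup.mem_bot.1 (hP1 ▸ Subgroup.mem_map_of_mem C.subtype hvP))
  simpa using this

end Cfsg.Agent.RankOneCentral
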