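import Mathlib
import Cfsg.Agent.S3736
import Cfsg.Agent.S0094
import Cfsg.Prelude.Def_CaseTheorems

/-!
Fixed-point-free 3-elements on 2-groups of rank at most two: squaring maps have non-trivial zeros.
-/

set_option autoImplicit false
set_option linter.style.haveILetI false
set_option linter.unusedSectionVars false

namespace Cfsg.Agent.Grp.RankTwoFPF

open Subgroup
open scoped commutatorElement

universe u

variable {Q : Type u} [Group Q] [Finite Q]

/-- A sum of a `±1`-valued multiplicative function vanishes or has all summands `1`. -/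
theorem dvd_sum_mult {V : Type*} [Group V] [Fintype V] (h : V → ℤ)
    (hm : ∀ a b, h (a * b) = h a * h b) (h1 : h 1 = 1) : (Fintype.card V : ℤ) ∣ ∑ v, h v := by
  by_cases hall : ∀ v, h v = 1
  · simp [hall]
  push Not at hall
  obtain ⟨a, ha⟩ := hall
  have h2 : h a * ∑ v, h v = ∑ v, h v := by
    rw [Finset.mul_sum]
    exact Fintype.sum_equiv (Equiv.mulLeft a) _ _ fun v => (hm a v).symm
  have h3 : (h a - 1) * ∑ v, h v = 0 := by linear_combination h2
  rw [(mul_eq_zero.mp h3).resolve_left (sub_ne_zero.mpr ha)]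
  exact dvd_zero _

/-- The Gauss sum of a quadratic `±1`-valued function has square divisible by the group order. -/
theorem card_dvd_sq_sum {V : Type*} [Group V] [Fintype V] (ε : V → ℤ) (hε : ∀ v, ε v * ε v = 1)
    (hm : ∀ a b w, ε (a * b * w) * (ε (a * b) * ε w) =
      ε (a * w) * (ε a * ε w) * (ε (b * w) * (ε b * ε w))) :
    (Fintype.card V : ℤ) ∣ (∑ v, ε v) * ∑ v, ε v := by
  have h1 : (∑ v, ε v) * ∑ v, ε v = ∑ w, ε w * ∑ v, ε (v * w) * (ε v * ε w) := by
    calc (∑ v, ε v) * ∑ v, ε v = ∑ v, ε v * ∑ w, ε w := Finset.sum_mul _ _ _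
      _ = ∑ v, ∑ w, ε v * ε (v * w) := Finset.sum_congr rfl fun v _ => by
          rw [Finset.mul_sum]
          exact (Fintype.sum_equiv (Equiv.mulLeft v) _ _ fun w => rfl).symm
      _ = ∑ w, ∑ v, ε v * ε (v * w) := Finset.sum_comm
      _ = _ := Finset.sum_congr rfl fun w _ => by
          rw [Finset.mul_sum]
          exact Finset.sum_congr rfl fun v _ => by
            have := hε w
            linear_combination (-(ε v * ε (v * w))) * this
  rw [h1]
  refine Finset.dvd_sum fun w _ => dvd_mul_of_dvd_right (dvd_sum_mult _ (fun a b => hm a b w) ?_) _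
  rw [one_mul]
  have := hε w
  have h2 := hm 1 1 w
  rw [one_mul, one_mul] at h2
  have h3 := hε 1
  linear_combination h2 + (ε 1 * ε 1) * (ε w * ε w + 1) * this + h3

theorem eight_dvd {S : ℤ} (h : (32 : ℤ) ∣ S * S) : (8 : ℤ) ∣ S := by
  have h1 : ((S * S : ℤ) : ZMod 32) = 0 := (ZMod.intCast_zmod_eq_zero_iff_dvd _ 32).mpr h
  rw [Int.cast_mul] at h1
  have key : ∀ x : ZMod 32, x * x = 0 → x * 4 = 0 := by decide
  have h2 : ((S * 4 : ℤ) : ZMod 32) = 0 := by
    rw [Int.cast_mul]; exact key _ h1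
  have h3 := (ZMod.intCast_zmod_eq_zero_iff_dvd _ 32).mp h2
  omega

/-- The squaring map into a central four-group has a zero outside it. -/
theorem exists_involution (Z : Subgroup Q) (hZc : Z ≤ center Q) (hsq : ∀ x : Q, x ^ 2 ∈ Z)
    (hcomm : commutator Q ≤ Z) (he : ∀ z ∈ Z, z ^ 2 = 1) (hcard : Nat.card Z = 4)
    (h32 : 32 ∣ Z.index) : ∃ x : Q, x ∉ Z ∧ x ^ 2 = 1 := by
  classical
  by_contra hno
  push Not at hno
  haveI hZn : Z.Normal := ⟨fun z hz g => by
    rw [mem_center_iff.mp (hZc hz) g, mul_inv_cancel_right]; exact hz⟩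
  haveI := Fintype.ofFinite (Q ⧸ Z)
  haveI := Fintype.ofFinite Z
  have hz2 : ∀ z : Z, z * z = 1 := fun z => Subtype.ext (by rw [coe_mul, ← pow_two]; exact he z z.2)
  let q : Q ⧸ Z → Z := fun v => ⟨v.out ^ 2, hsq _⟩
  have hq : ∀ x : Q, (q (x : Q ⧸ Z) : Q) = x ^ 2 := by
    intro x
    obtain ⟨z, hz⟩ := QuotientGroup.mk_out_eq_mul Z x
    show (x : Q ⧸ Z).out ^ 2 = _
    rw [hz, Commute.mul_pow (mem_center_iff.mp (hZc z.2) x), he z z.2, mul_one]
  let c : Q → Q → Z := fun x y => ⟨⁅x⁻¹, y⁆, hcomm (commutator_mem_commutator (mem_top _) (mem_top _))⟩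
  have hmul : ∀ x y : Q, q ((x : Q ⧸ Z) * (y : Q ⧸ Z)) = q (x : Q ⧸ Z) * q (y : Q ⧸ Z) * c x y := by
    intro x y
    apply Subtype.ext
    rw [← QuotientGroup.mk_mul, coe_mul, coe_mul, hq, hq, hq]
    show (x * y) ^ 2 = x ^ 2 * y ^ 2 * ⁅x⁻¹, y⁆
    rw [mul_assoc (x ^ 2), mem_center_iff.mp (hZc (c x y).2) (y ^ 2)]
    show _ = x ^ 2 * (⁅x⁻¹, y⁆ * y ^ 2)
    simp [commutatorElement_def, pow_two, mul_assoc]
  have hc : ∀ x x' y : Q, c (x * x') y = c x y * c x' y := by
    intro x x' y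
    apply Subtype.ext
    rw [coe_mul]
    show ⁅(x * x')⁻¹, y⁆ = ⁅x⁻¹, y⁆ * ⁅x'⁻¹, y⁆
    have h := mem_center_iff.mp (hZc (c x y).2) x'⁻¹
    replace h : x'⁻¹ * ⁅x⁻¹, y⁆ = ⁅x⁻¹, y⁆ * x'⁻¹ := h
    have e : ⁅(x * x')⁻¹, y⁆ = x'⁻¹ * ⁅x⁻¹, y⁆ * y * x' * y⁻¹ := by
      simp [commutatorElement_def, mul_assoc]
    rw [e, h]
    simp [commutatorElement_def, mul_assoc]
  let χ : Z → Z → ℤ := fun a z => if z = 1 ∨ z = a then 1 else -1
  have hfour : (Finset.univ : Finset Z).card = 4 := by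
    rw [Finset.card_univ, ← Nat.card_eq_fintype_card, hcard]
  have hχ : ∀ a : Z, a ≠ 1 → ∀ z w, χ a (z * w) = χ a z * χ a w := by
    intro a ha z w
    have hidx : (zpowers a).index = 2 := by
      have ho : orderOf a = 2 := orderOf_eq_prime (by rw [pow_two]; exact hz2 a) ha
      have := (zpowers a).card_mul_index
      rw [Nat.card_zpowers, ho, hcard] at this
      omega
    have hmem : ∀ z : Z, z ∈ zpowers a ↔ z = 1 ∨ z = a := by
      intro z
      refine ⟨fun h => ?_, ?_⟩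
      · obtain ⟨n, rfl⟩ := (isOfFinOrder_of_finite a).mem_powers_iff_mem_zpowers.mpr h
        obtain ⟨m, rfl | rfl⟩ := Nat.even_or_odd' n
        · left; simp [pow_mul, pow_two, hz2]
        · right; simp [pow_succ, pow_mul, hz2]
      · rintro (rfl | rfl)
        · exact one_mem _
        · exact mem_zpowers _
    simp only [χ, ← hmem]
    have := mul_mem_iff_of_index_two (a := z) (b := w) hidx
    by_cases h1 : z ∈ zpowers a <;> by_cases h2 : w ∈ zpowers a <;> simp [h1, h2, this]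
  have hχsq : ∀ a z : Z, χ a z * χ a z = 1 := by intro a z; simp only [χ]; split <;> simp
  have hsum : ∀ z : Z, 1 + ∑ a ∈ Finset.univ.erase (1 : Z), χ a z = if z = 1 then 4 else 0 := by
    intro z
    by_cases hz : z = 1
    · simp [χ, hz, Finset.card_erase_of_mem, hfour]
    have hmem : z ∈ Finset.univ.erase (1 : Z) := Finset.mem_erase.mpr ⟨hz, Finset.mem_univ _⟩
    rw [if_neg hz, ← Finset.add_sum_erase _ _ hmem,
      Finset.sum_congr rfl (g := fun _ => (-1 : ℤ)) fun a ha => by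
        have : z ≠ a := fun e => (Finset.mem_erase.mp ha).1 e.symm
        simp [χ, hz, this]]
    simp [χ, Finset.card_erase_of_mem hmem, Finset.card_erase_of_mem, hfour]
  have hN : (32 : ℤ) ∣ (Fintype.card (Q ⧸ Z) : ℤ) := by
    rw [← Nat.card_eq_fintype_card, ← Subgroup.index_eq_card]
    exact_mod_cast Int.natCast_dvd_natCast.mpr h32
  have h8 : ∀ a ∈ Finset.univ.erase (1 : Z), (8 : ℤ) ∣ ∑ v, χ a (q v) := by
    intro a ha
    have ha1 := (Finset.mem_erase.mp ha).1
    refine eight_dvd (hN.trans (card_dvd_sq_sum (fun v => χ a (q v)) (fun v => hχsq _ _) ?_))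
    intro u v w
    obtain ⟨x, rfl⟩ := QuotientGroup.mk_surjective u
    obtain ⟨x', rfl⟩ := QuotientGroup.mk_surjective v
    obtain ⟨y, rfl⟩ := QuotientGroup.mk_surjective w
    rw [hmul x y, hmul x' y, ← QuotientGroup.mk_mul, hmul (x * x') y, hc]
    simp only [hχ a ha1]
    have h1 := hχsq a (q ((x * x' : Q) : Q ⧸ Z))
    have h2 := hχsq a (q (x : Q ⧸ Z))
    have h3 := hχsq a (q (x' : Q ⧸ Z))
    have h4 := hχsq a (q (y : Q ⧸ Z))
    linear_combination (χ a (c x y) * χ a (c x' y)) * (h1 * (χ a (q (y : Q ⧸ Z)) * χ a (q (y : Q ⧸ Z)))) +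
      (χ a (c x y) * χ a (c x' y)) * h4 -
      (χ a (c x y) * χ a (c x' y)) * ((χ a (q (x' : Q ⧸ Z)) * χ a (q (x' : Q ⧸ Z))) *
        (χ a (q (y : Q ⧸ Z)) * χ a (q (y : Q ⧸ Z))) *
        (χ a (q (y : Q ⧸ Z)) * χ a (q (y : Q ⧸ Z))) * h2 +
        (χ a (q (y : Q ⧸ Z)) * χ a (q (y : Q ⧸ Z))) * (χ a (q (y : Q ⧸ Z)) * χ a (q (y : Q ⧸ Z))) * h3 +
        (χ a (q (y : Q ⧸ Z)) * χ a (q (y : Q ⧸ Z)) + 1) * h4)
  have hzero : ∀ v : Q ⧸ Z, q v = 1 ↔ v = 1 := by
    intro v
    obtain ⟨x, rfl⟩ := QuotientGroup.mk_surjective v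
    rw [Subtype.ext_iff, hq, coe_one, QuotientGroup.eq_one_iff]
    exact ⟨fun h => by_contra fun hx => hno x hx h, he x⟩
  have htot : (4 : ℤ) = Fintype.card (Q ⧸ Z) + ∑ a ∈ Finset.univ.erase (1 : Z), ∑ v, χ a (q v) := by
    rw [Finset.sum_comm]
    have : ∀ v, (if v = (1 : Q ⧸ Z) then (4 : ℤ) else 0) = 1 + ∑ a ∈ Finset.univ.erase (1 : Z), χ a (q v) :=
      fun v => by rw [hsum]; simp [hzero]
    have h2 := Finset.sum_congr (s₁ := (Finset.univ : Finset (Q ⧸ Z))) rfl fun v _ => this v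
    rw [Finset.sum_add_distrib, Finset.sum_ite_eq'] at h2
    simpa using h2
  have := dvd_add (dvd_trans (by norm_num : (8 : ℤ) ∣ 32) hN) (Finset.dvd_sum h8)
  rw [← htot] at this
  omega

/-- `S3738`. -/
theorem main {X : Type u} [Group X] [Finite X] (d : X) (n : ℕ) (hn : 2 ≤ n) (hd : orderOf d = 3 ^ n)
    (P : Subgroup X) (hP : IsPGroup 2 P) (hdP : d ∈ normalizer (P : Set X))
    (hfaith : zpowers d ⊓ centralizer (P : Set X) = ⊥) (hfpf : P ⊓ centralizer {d} = ⊥)
    (hrank : ∀ V : Subgroup X, V ≤ P → IsMulCommutative V → Cfsg.PRankLE 2 2 V) : False := by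
  classical
  set e := 3 ^ (n - 1) with hedef
  have he3 : e * 3 = 3 ^ n := by rw [← pow_succ]; congr 1; omega
  set A := zpowers (d ^ e) with hAdef
  have hAd : A ≤ zpowers d := zpowers_le.mpr (Subgroup.pow_mem _ (mem_zpowers d) _)
  have hc1 : d ^ e ≠ 1 := fun h => by
    have := Nat.le_of_dvd (by positivity) (hd ▸ orderOf_dvd_of_pow_eq_one h : 3 ^ n ∣ e)
    have : 0 < e := by positivity
    omega
  have hnt : ⁅P, A⁆ ≠ ⊥ := fun h => hc1 (by
    rw [commutator_comm, commutator_eq_bot_iff_le_centralizer] at h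
    have : d ^ e ∈ zpowers d ⊓ centralizer (P : Set X) :=
      ⟨hAd (mem_zpowers _), h (mem_zpowers _)⟩
    rwa [hfaith, mem_bot] at this)
  obtain ⟨P0, ⟨hP0P, hdP0, hP0nt⟩, hP0min⟩ := (Set.toFinite
    {U : Subgroup X | U ≤ P ∧ d ∈ normalizer (U : Set X) ∧ ⁅U, A⁆ ≠ ⊥}).exists_minimal ⟨P, le_rfl, hdP, hnt⟩
  have hP0 : IsPGroup 2 P0 := hP.to_le hP0P
  have hAcard : Nat.card A = 3 := by
    haveI : Fact (Nat.Prime 3) := ⟨by norm_num⟩
    rw [hAdef, Nat.card_zpowers]
    exact orderOf_eq_prime (by rw [← pow_mul, he3, ← hd, pow_orderOf_eq_one]) hc1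
  obtain ⟨hPA, hstruct, hirr, -⟩ := Cfsg.Agent.S3736.result (p := 2) (zpowers d) A P0 hP0
    (zpowers_le.mpr hdP0) hAd (fun b hb => by
      rw [mem_normalizer_iff]
      intro h
      obtain ⟨i, rfl⟩ := mem_zpowers_iff.mp hb
      constructor <;> intro hh
      · obtain ⟨j, rfl⟩ := mem_zpowers_iff.mp hh
        rw [← zpow_natCast, ← zpow_mul, ← zpow_add, ← zpow_neg, ← zpow_add,
          show i + (e : ℤ) * j + -i = (e : ℤ) * j by ring, zpow_mul, zpow_natCast]
        exact zpow_mem (mem_zpowers _) _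
      · obtain ⟨j, hj⟩ := mem_zpowers_iff.mp hh
        have : h = (d ^ e) ^ j := by
          rw [show h = (d ^ i)⁻¹ * (d ^ i * h * (d ^ i)⁻¹) * d ^ i by group, ← hj, ← zpow_natCast,
            ← zpow_mul, ← zpow_neg, ← zpow_add, ← zpow_add]
          congr 1; ring
        rw [this]; exact zpow_mem (mem_zpowers _) _)
    (by rw [hAcard]; norm_num) hP0nt (fun U hU hB => by
      by_contra h
      exact hU.not_ge (hP0min ⟨hU.le.trans hP0P, hB (mem_zpowers d), h⟩ hU.le))
  set Φ := frattini P0 with hΦdef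
  haveI : Nontrivial P0 := by
    rw [nontrivial_iff_ne_bot]
    intro h; exact hP0nt (by rw [h, commutator_bot_left])
  have hΦtop : Φ ≠ ⊤ := by
    intro h
    obtain ⟨M, hM, -⟩ := (eq_top_or_exists_le_coatom (⊥ : Subgroup P0)).resolve_left bot_ne_top
    exact hM.1 (top_le_iff.mp (h ▸ frattini_le_coatom hM))
  -- the action on `P0 ⧸ Φ`
  set π := QuotientGroup.mk' Φ
  let bar : MulAut P0 →* MulAut (P0 ⧸ Φ) :=
    { toFun := fun f => QuotientGroup.congr Φ Φ f (characteristic_iff_map_eq.mp inferInstance f)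
      map_one' := by
        apply MulEquiv.ext; intro v; obtain ⟨x, rfl⟩ := QuotientGroup.mk_surjective v; rfl
      map_mul' := fun f g => by
        apply MulEquiv.ext; intro v; obtain ⟨x, rfl⟩ := QuotientGroup.mk_surjective v; rfl }
  set dN : normalizer (P0 : Set X) := ⟨d, hdP0⟩
  set α : MulAut P0 := P0.normalizerMonoidHom dN with hαdef
  set β : MulAut (P0 ⧸ Φ) := bar α with hβdef
  have hα : ∀ (k : ℕ) (x : P0), ((α ^ k) x : X) = d ^ k * x * (d ^ k)⁻¹ := by
    intro k x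
    rw [hαdef, ← map_pow]
    show ((dN ^ k : normalizer (P0 : Set X)) : X) * _ * _ = _
    simp [dN]
  have hβπ : ∀ (k : ℕ) (x : P0), (β ^ k) (π x) = π ((α ^ k) x) := fun k x => by
    rw [hβdef, ← map_pow]; rfl
  let F : Subgroup (P0 ⧸ Φ) :=
    { carrier := {v | (β ^ e) v = v}
      mul_mem' := fun {a b} (ha : (β ^ e) a = a) (hb : (β ^ e) b = b) => show (β ^ e) (a * b) = a * b by
        rw [map_mul, ha, hb]
      one_mem' := map_one _
      inv_mem' := fun {a} (ha : (β ^ e) a = a) => show (β ^ e) a⁻¹ = a⁻¹ by rw [map_inv, ha] }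
  have hFinv : (F.comap π).map α.toMonoidHom = F.comap π := by
    refine eq_of_le_of_card_ge ?_ (card_map_of_injective α.injective).ge
    rintro _ ⟨x, hx, rfl⟩
    show (β ^ e) (π (α x)) = π (α x)
    have h1 : π (α x) = β (π x) := by rw [← pow_one β, hβπ, pow_one]
    rw [h1, ← MulAut.mul_apply, ← pow_succ, pow_succ', MulAut.mul_apply]
    exact congrArg β hx
  have hUn : zpowers d ≤ normalizer (((F.comap π).map P0.subtype : Subgroup X) : Set X) := by
    rw [zpowers_le]
    refine Cfsg.Agent.Grp.mem_normalizer_of_map_eq.mpr ?_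
    conv_rhs => rw [← hFinv]
    rw [Subgroup.map_map, Subgroup.map_map]
    congr 1
  have hΦF : Φ.map P0.subtype ≤ (F.comap π).map P0.subtype := map_mono fun x hx => by
    have hx1 : π x = 1 := (QuotientGroup.eq_one_iff x).mpr hx
    show (β ^ e) (π x) = π x
    rw [hx1, map_one]
  have hfree : ∀ v : P0 ⧸ Φ, (β ^ e) v = v → v = 1 := by
    intro v hv
    obtain ⟨x, rfl⟩ := QuotientGroup.mk_surjective v
    rcases hirr _ hΦF (map_subtype_le _) hUn with h | h
    · have := (map_injective P0.subtype_injective h).le (show x ∈ F.comap π from hv)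
      exact (QuotientGroup.eq_one_iff x).mpr this
    exfalso
    have hFtop : F.comap π = ⊤ := map_injective P0.subtype_injective
      (h.trans (by rw [← MonoidHom.range_eq_map, range_subtype]))
    have hlt : Φ.map P0.subtype < P0 := by
      refine lt_of_le_of_ne (map_subtype_le _) fun h2 => hΦtop (map_injective P0.subtype_injective ?_)
      rw [h2, ← MonoidHom.range_eq_map, range_subtype]
    refine hlt.not_ge (hPA.ge.trans (Subgroup.commutator_le.mpr fun x hx a ha => ?_))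
    have hk : ∃ k : ℕ, a = d ^ (e * k) := by
      obtain ⟨k, rfl⟩ := (isOfFinOrder_of_finite (d ^ e)).mem_powers_iff_mem_zpowers.mpr ha
      exact ⟨k, by simp [pow_mul]⟩
    obtain ⟨k, rfl⟩ := hk
    have hfix : ∀ k : ℕ, ∀ y : P0, (β ^ (e * k)) (π y) = π y := by
      intro k y
      induction k with
      | zero => simp
      | succ k ih =>
        rw [mul_add_one, pow_add, MulAut.mul_apply,
          show (β ^ e) (π y) = π y from (hFtop.ge (mem_top y) : y ∈ F.comap π), ih]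
    refine ⟨⟨x, hx⟩ * (α ^ (e * k)) ⟨x, hx⟩⁻¹, ?_, ?_⟩
    · apply (QuotientGroup.eq_one_iff _).mp
      show π _ = 1
      rw [map_mul]; simp only [map_inv]; rw [← hβπ, hfix, mul_inv_cancel]
    · show ((⟨x, hx⟩ * (α ^ (e * k)) ⟨x, hx⟩⁻¹ : P0) : X) = _
      rw [coe_mul, hα, commutatorElement_def]
      simp [mul_assoc]
  -- free action, so the quotient is large
  have hβord : β ^ (3 ^ n) = 1 := by
    have hdN : dN ^ (3 ^ n) = 1 := Subtype.ext (by rw [coe_pow, ← hd]; exact pow_orderOf_eq_one d)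
    rw [hβdef, hαdef, ← map_pow, ← map_pow, hdN, map_one, map_one]
  have hV1 : ∃ v : P0 ⧸ Φ, v ≠ 1 := by
    by_contra h
    push Not at h
    exact hΦtop (eq_top_iff.mpr fun x _ => (QuotientGroup.eq_one_iff x).mp (h x))
  have hoβ : orderOf β = 3 ^ n := by
    haveI : Fact (Nat.Prime 3) := ⟨by norm_num⟩
    rw [show n = n - 1 + 1 by omega]
    refine orderOf_eq_prime_pow (fun h => ?_) (by rw [show n - 1 + 1 = n by omega]; exact hβord)
    obtain ⟨v, hv⟩ := hV1
    exact hv (hfree v (by rw [hedef, h]; rfl))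
  let Y := {v : P0 ⧸ Φ // v ≠ 1}
  letI : MulAction (zpowers β) Y :=
    { smul := fun g v => ⟨(g : MulAut (P0 ⧸ Φ)) v.1, fun h => v.2 ((map_eq_one_iff _ (g : MulAut (P0 ⧸ Φ)).injective).mp h)⟩
      one_smul := fun v => rfl
      mul_smul := fun g h v => rfl }
  have hstab : ∀ v : Y, MulAction.stabilizer (zpowers β) v = ⊥ := by
    intro v
    by_contra hne
    haveI : Fact (Nat.Prime 3) := ⟨by norm_num⟩
    have hcardS : 3 ∣ Nat.card (MulAction.stabilizer (zpowers β) v) := by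
      have hd3 := card_subgroup_dvd_card (MulAction.stabilizer (zpowers β) v)
      rw [Nat.card_zpowers, hoβ] at hd3
      obtain ⟨i, -, hi⟩ := (Nat.dvd_prime_pow (by norm_num : Nat.Prime 3)).mp hd3
      rw [hi]
      refine dvd_pow_self 3 fun i0 => hne (card_eq_one.mp (by rw [hi, i0, pow_zero]))
    obtain ⟨g, hg⟩ := exists_prime_orderOf_dvd_card' 3 hcardS
    have hgv : ((g : zpowers β) : MulAut (P0 ⧸ Φ)) v.1 = v.1 := congrArg Subtype.val g.2
    obtain ⟨k, hk⟩ := (isOfFinOrder_of_finite β).mem_powers_iff_mem_zpowers.mpr (g : zpowers β).2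
    replace hk : β ^ k = ((g : zpowers β) : MulAut (P0 ⧸ Φ)) := hk
    have ho : orderOf (β ^ k) = 3 := by rw [hk, orderOf_coe, orderOf_coe, hg]
    have h3k : 3 ^ n ∣ k * 3 := by
      rw [← hoβ, orderOf_dvd_iff_pow_eq_one, pow_mul, ← ho, pow_orderOf_eq_one]
    rw [← he3, mul_comm k 3, mul_comm e 3] at h3k
    obtain ⟨j, rfl⟩ := Nat.dvd_of_mul_dvd_mul_left (by norm_num) h3k
    have hj : ¬ 3 ∣ j := by
      rintro ⟨i, rfl⟩
      rw [show e * (3 * i) = e * 3 * i by ring, he3, pow_mul, ← hoβ, pow_orderOf_eq_one, one_pow, orderOf_one] at ho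
      norm_num at ho
    refine v.2 (hfree v.1 ?_)
    have hfix : ∀ i : ℕ, ((β ^ (e * j)) ^ i) v.1 = v.1 := by
      intro i
      induction i with
      | zero => simp
      | succ i ih =>
        rw [pow_succ, MulAut.mul_apply, show (β ^ (e * j)) v.1 = v.1 by rw [hk]; exact hgv, ih]
    rcases (by omega : j % 3 = 1 ∨ j % 3 = 2) with hj3 | hj3
    · have := hfix 1
      rwa [pow_one, ← Nat.div_add_mod j 3, hj3, mul_add, ← mul_assoc, he3, pow_add, pow_mul, hβord, one_pow,
        one_mul, mul_one] at this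
    · have := hfix 2
      rwa [← Nat.div_add_mod j 3, hj3, mul_add, ← mul_assoc, he3, pow_add, pow_mul, hβord, one_pow,
        one_mul, ← pow_mul, show e * 2 * 2 = e * 3 + e by ring, he3, pow_add, hβord, one_mul] at this
  have hcardY : 3 ^ n ∣ Nat.card (P0 ⧸ Φ) - 1 := by
    haveI := Fintype.ofFinite (P0 ⧸ Φ)
    have hY : Nat.card Y = Nat.card (P0 ⧸ Φ) - 1 := by
      rw [Nat.card_eq_fintype_card, Nat.card_eq_fintype_card, Fintype.card_subtype_compl,
        Fintype.card_subtype_eq]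
    rw [← hY, Nat.card_congr (MulAction.selfEquivOrbitsQuotientProd hstab), Nat.card_prod,
      Nat.card_zpowers, hoβ]
    exact dvd_mul_left _ _
  obtain ⟨m, hm⟩ := IsPGroup.iff_card.mp (hP0.to_quotient Φ)
  have h9 : 9 ∣ 2 ^ m - 1 := by
    refine dvd_trans ?_ (hm ▸ hcardY)
    exact (pow_dvd_pow 3 hn : 3 ^ 2 ∣ 3 ^ n)
  have hm5 : 5 ≤ m := by
    by_contra hm5
    obtain ⟨v, hv⟩ := hV1
    have h1 : 1 < 2 ^ m := by
      rw [← hm]
      haveI : Nontrivial (P0 ⧸ Φ) := ⟨⟨v, 1, hv⟩⟩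
      exact Finite.one_lt_card
    interval_cases m <;> omega
  have hidx : Φ.index = 2 ^ m := by rw [← hm]; exact (Subgroup.index_eq_card Φ)
  have h32 : 32 ∣ Φ.index := by rw [hidx]; exact (pow_dvd_pow 2 hm5 : 2 ^ 5 ∣ 2 ^ m)
  have rank4 : ∀ E : Subgroup P0, (∀ x ∈ E, x ^ 2 = 1) → Nat.card E ≤ 4 := by
    intro E hE
    have hE' : ∀ x : E.map P0.subtype, x ^ 2 = 1 := by
      rintro ⟨_, y, hy, rfl⟩
      exact Subtype.ext (by simpa using congrArg Subtype.val (hE y hy))
    haveI hab : IsMulCommutative (E.map P0.subtype) := ⟨⟨fun a b => by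
      have ha := hE' a; have hb := hE' b; have hab := hE' (a * b)
      rw [pow_two] at ha hb hab
      rw [eq_inv_of_mul_eq_one_left hab, mul_inv_rev, ← eq_inv_of_mul_eq_one_left ha,
        ← eq_inv_of_mul_eq_one_left hb]⟩⟩
    have := hrank (E.map P0.subtype) ((map_subtype_le E).trans hP0P) hab ⊤
      ⟨⟨fun a b => Subtype.ext (hab.is_comm.comm a.1 b.1)⟩⟩ (fun a _ => hE' a)
    rw [card_top, card_map_of_injective P0.subtype_injective] at this
    norm_num at this
    exact this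
  rcases hstruct with hel | ⟨-, hΦZ, hcZ⟩
  · have := rank4 ⊤ (fun x _ => Subtype.ext (by simpa using hel.2 x x.2))
    rw [card_top, ← Φ.card_mul_index] at this
    have h2 : 0 < Nat.card Φ := Nat.card_pos
    have h3 := Nat.le_of_dvd (by rw [hidx]; positivity) h32
    nlinarith
  have hspec : Cfsg.IsSpecial 2 P0 := ⟨hP0, hΦZ, hcZ⟩
  have hz2 : ∀ z ∈ center P0, z ^ 2 = 1 := fun z hz => Cfsg.Agent.S0094.result hspec z hz
  have hz4 := rank4 _ hz2
  have hZ4 : Nat.card (center P0) = 4 := by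
    haveI : Fact (Nat.Prime 2) := ⟨Nat.prime_two⟩
    obtain ⟨z, hz⟩ := IsPGroup.iff_card.mp (hP0.to_subgroup (center P0))
    have hne1 : Nat.card (center P0) ≠ 1 := fun h1 => by
      haveI := hP0.center_nontrivial
      exact (nontrivial_iff_ne_bot _).mp inferInstance (card_eq_one.mp h1)
    have hne2 : Nat.card (center P0) ≠ 2 := fun h2 => by
      obtain ⟨⟨w, hw⟩, hw1⟩ : ∃ w : center P0, w ≠ 1 := by
        haveI := hP0.center_nontrivial
        exact exists_ne 1
      have hw1' : w ≠ 1 := fun h => hw1 (Subtype.ext h)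
      have hαw : α w = w := by
        have hmem : α w ∈ center P0 :=
          (characteristic_iff_map_eq.mp inferInstance α).le ⟨w, hw, rfl⟩
        by_contra hne
        have h3 : ({1, ⟨w, hw⟩, ⟨α w, hmem⟩} : Finset (center P0)).card = 3 := by
          have : α w ≠ 1 := fun h => hw1' ((map_eq_one_iff _ α.injective).mp h)
          simp [Subtype.ext_iff, hw1', Ne.symm hw1', Ne.symm hne, this, Ne.symm this]
        haveI := Fintype.ofFinite (center P0)
        have := Finset.card_le_univ ({1, ⟨w, hw⟩, ⟨α w, hmem⟩} : Finset (center P0))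
        rw [h3, ← Nat.card_eq_fintype_card, h2] at this
        omega
      have hwx : (w : X) ∈ P ⊓ centralizer {d} := by
        refine ⟨hP0P w.2, mem_centralizer_iff.mpr fun g hg => ?_⟩
        rw [Set.mem_singleton_iff] at hg
        subst hg
        have := congrArg Subtype.val hαw
        rw [← pow_one α, hα, pow_one] at this
        exact mul_inv_eq_iff_eq_mul.mp this
      rw [hfpf, mem_bot] at hwx
      exact hw1' (Subtype.ext hwx)
    have hz3 : z < 3 := by
      by_contra h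
      have := Nat.pow_le_pow_right two_pos (not_lt.mp h)
      omega
    interval_cases z <;> omega
  rw [hΦdef, hΦZ] at h32
  obtain ⟨x, hxZ, hx2⟩ := exists_involution (center P0) le_rfl
    (fun x => hΦZ ▸ Cfsg.Agent.Grp.pGroup_pow_mem_frattini hP0 x) hcZ.le hz2 hZ4 h32
  have hE : ∀ y ∈ center P0 ⊔ zpowers x, y ^ 2 = 1 := by
    intro y hy
    obtain ⟨z, hz, w, hw, rfl⟩ := mem_sup_of_normal_left.mp hy
    obtain ⟨i, rfl⟩ := mem_zpowers_iff.mp hw
    rw [Commute.mul_pow (mem_center_iff.mp hz _).symm, hz2 z hz, one_mul, ← zpow_natCast, zpow_comm,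
      zpow_natCast, hx2, one_zpow]
  have h5 := rank4 _ hE
  have hlt : center P0 < center P0 ⊔ zpowers x :=
    lt_of_le_of_ne le_sup_left fun h => hxZ (h ▸ mem_sup_right (mem_zpowers x))
  have h6 : Nat.card (center P0) < Nat.card ↥(center P0 ⊔ zpowers x) :=
    lt_of_le_of_ne (card_le_of_le hlt.le) fun h => hlt.ne (eq_of_le_of_card_ge hlt.le h.ge)
  omega

end Cfsg.Agent.Grp.RankTwoFPF
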