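import Mathlib
import Cfsg.Prelude.Def_Transfer
import Cfsg.Agent.Lib.Grp.Cores
import Cfsg.Agent.Lib.Grp.Frattini
import Cfsg.Agent.Lib.Grp.PSolvable
import Cfsg.Agent.Lib.Grp.Signalizer
import Cfsg.Agent.Lib.Block.TISylow

/-!
A p-subgroup with Frattini subgroup in the p-core generates, with a suitable conjugate, a subgroup covering a commutator in the next p'-layer.
-/

set_option autoImplicit false

namespace Cfsg.Agent.Grp.ResidualPair

open Subgroup
open scoped commutatorElement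

variable {M : Type*} [Group M] [Finite M] {p : ℕ} [hp : Fact p.Prime]

theorem exists_pprime_lift {G H : Type*} [Group G] [Finite G] [Group H] (f : G →* H) {g : G}
    (h : (orderOf (f g)).Coprime p) : ∃ e : ℕ, (orderOf (g ^ e)).Coprime p ∧ f (g ^ e) = f g := by
  have hn : orderOf g ≠ 0 := (orderOf_pos g).ne'
  set n := orderOf g with hndef
  set a := p ^ n.factorization p with ha
  set m := n / a with hm
  have hsplit : a * m = n := Nat.mul_div_cancel' (Nat.ordProj_dvd n p)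
  have hcop : m.Coprime p := (Nat.coprime_ordCompl hp.out hn).symm
  have ham : a.Coprime m := hcop.symm.pow_left _
  obtain ⟨e, he0, he1⟩ := Nat.chineseRemainder ham 0 1
  refine ⟨e, ?_, ?_⟩
  · refine Nat.Coprime.coprime_dvd_left (orderOf_dvd_of_pow_eq_one ?_) hcop
    rw [← pow_mul, ← orderOf_dvd_iff_pow_eq_one, ← hndef, ← hsplit]
    exact Nat.mul_dvd_mul_right (Nat.modEq_zero_iff_dvd.mp he0) m
  · rw [map_pow]
    have hd : orderOf (f g) ∣ m := by
      refine (h.pow_right (n.factorization p)).dvd_of_dvd_mul_left ?_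
      rw [show p ^ n.factorization p * m = n from hsplit, hndef]
      exact orderOf_map_dvd f g
    conv_rhs => rw [← pow_one (f g)]
    exact pow_eq_pow_iff_modEq.mpr (he1.of_dvd hd)

theorem exists_pair (hM : Cfsg.IsPSolvable p M) (A : Subgroup M) (hA : IsPGroup p A)
    (hΦ : (frattini ↥A).map A.subtype ≤ Cfsg.pCore p M) (hnot : ¬ A ≤ Cfsg.pCore p M) :
    ∃ x ∈ (Cfsg.pPrimeCore p (M ⧸ Cfsg.pCore p M)).comap (QuotientGroup.mk' (Cfsg.pCore p M)), x ∈ (Cfsg.pResidual p ↥(A ⊔ A.map (MulAut.conj x).toMonoidHom)).map (A ⊔ A.map (MulAut.conj x).toMonoidHom).subtype ∧ (Cfsg.pResidual p ↥(A ⊔ A.map (MulAut.conj x).toMonoidHom)).map (A ⊔ A.map (MulAut.conj x).toMonoidHom).subtype ≤ (Cfsg.pPrimeCore p (M ⧸ Cfsg.pCore p M)).comap (QuotientGroup.mk' (Cfsg.pCore p M)) ∧ ⁅(Cfsg.pResidual p ↥(A ⊔ A.map (MulAut.conj x).toMonoidHom)).map (A ⊔ A.map (MulAut.conj x).toMonoidHom).subtype, A⁆ = (Cfsg.pResidual p ↥(A ⊔ A.map (MulAut.conj x).toMonoidHom)).map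 (A ⊔ A.map (MulAut.conj x).toMonoidHom).subtype ∧ (A ⊓ (Cfsg.pCore p ↥(A ⊔ A.map (MulAut.conj x).toMonoidHom)).map (A ⊔ A.map (MulAut.conj x).toMonoidHom).subtype).relIndex A = p ∧ ⁅A ⊓ (Cfsg.pCore p ↥(A ⊔ A.map (MulAut.conj x).toMonoidHom)).map (A ⊔ A.map (MulAut.conj x).toMonoidHom).subtype, A ⊔ A.map (MulAut.conj x).toMonoidHom⁆ ≤ Cfsg.pCore p M := by
  classical
  haveI hOn : (Cfsg.pCore p M).Normal := pCore_isNormal
  set O := Cfsg.pCore p M with hO
  let π := QuotientGroup.mk' O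
  have hπ : ∀ y : M, π y = 1 ↔ y ∈ O := fun y => QuotientGroup.eq_one_iff y
  -- the image of `A`
  set Ab := A.map π with hAb
  have hΦ' : ∀ z : A, z ∈ frattini ↥A → π z = 1 := fun z hz => (hπ _).mpr (hΦ ⟨z, hz, rfl⟩)
  have hel : Cfsg.IsElementaryAbelian p Ab := by
    refine ⟨⟨⟨?_⟩⟩, ?_⟩
    · rintro ⟨_, a, ha, rfl⟩ ⟨_, b, hb, rfl⟩
      refine Subtype.ext ?_
      show π a * π b = π b * π a
      have h1 := hΦ' _ (pGroup_commutator_le_frattini hA
        (commutator_mem_commutator (mem_top (⟨a, ha⟩ : A)) (mem_top ⟨b, hb⟩)))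
      have h2 : ⁅π a, π b⁆ = 1 := by rw [← map_commutatorElement]; exact h1
      exact commutatorElement_eq_one_iff_mul_comm.mp h2
    · rintro _ ⟨a, ha, rfl⟩
      rw [← map_pow]
      exact hΦ' _ (pGroup_pow_mem_frattini hA ⟨a, ha⟩)
  have hAb1 : Ab ≠ ⊥ := fun h => hnot fun a ha =>
    (hπ a).mp ((Subgroup.mem_bot).mp (h ▸ ⟨a, ha, rfl⟩ : π a ∈ (⊥ : Subgroup (M ⧸ O))))
  have hAcomm : ∀ a ∈ Ab, ∀ b ∈ Ab, a * b = b * a := elemAb_comm hel
  set Q := Cfsg.pPrimeCore p (M ⧸ O) with hQ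
  haveI hQn : Q.Normal := pPrimeCore_isNormal
  have hQcop : (Nat.card Q).Coprime p := pPrimeCore_coprime
  have hQd : ¬ p ∣ Nat.card Q := pPrimeCore_not_dvd
  have hcore1 : Cfsg.pCore p (M ⧸ O) = ⊥ := by
    have hn : (Cfsg.pCore p (M ⧸ O)).Normal := pCore_isNormal
    have hle := Subgroup.map_mono (f := π) (le_pCore (hn.comap π)
      (pCore_isPGroup.comap_of_ker_isPGroup π (by rw [QuotientGroup.ker_mk']; exact pCore_isPGroup)))
    rw [Subgroup.map_comap_eq_self_of_surjective (QuotientGroup.mk'_surjective O)] at hle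
    refine le_bot_iff.mp (hle.trans ?_)
    rw [← hO, QuotientGroup.map_mk'_self]
  have hcent : centralizer (Q : Set (M ⧸ O)) ≤ Q := by
    intro y hy
    by_contra hyQ
    exact hyQ (Block.centralizer_pPrimeCore_le
      (isPSolvable_map hM π (QuotientGroup.mk'_surjective O)) hcore1 hy)
  -- a hyperplane
  obtain ⟨B, hBA, hBidx, hBnc⟩ : ∃ B : Subgroup (M ⧸ O), B ≤ Ab ∧ B.relIndex Ab = p ∧
      ¬ Q ⊓ centralizer (B : Set (M ⧸ O)) ≤ centralizer (Ab : Set (M ⧸ O)) := by
    by_contra hno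
    push Not at hno
    have hle : Q ≤ Q ⊓ centralizer (Ab : Set (M ⧸ O)) :=
      le_of_hyperplanes hel hAb1 Q hQd (by rw [Q.normalizer_eq_top]; exact le_top)
        fun D hD hDi => le_inf inf_le_left (hno D hD hDi)
    obtain ⟨y, hy, hy1⟩ : ∃ y ∈ Ab, y ≠ 1 := by
      by_contra hc; push Not at hc
      exact hAb1 ((Subgroup.eq_bot_iff_forall _).mpr hc)
    have hyQ : y ∈ Q := hcent (Subgroup.mem_centralizer_iff.mpr fun u hu =>
      (Subgroup.mem_centralizer_iff.mp (hle hu).2 y hy).symm)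
    have h1 : orderOf y ∣ p := orderOf_dvd_of_pow_eq_one (hel.2 y hy)
    have h2 : orderOf y ∣ Nat.card Q := by rw [← Nat.card_zpowers]; exact Subgroup.card_dvd_of_le (zpowers_le.mpr hyQ)
    have h3 := Nat.dvd_gcd h2 h1
    rw [hQcop.gcd_eq_one] at h3
    exact hy1 (orderOf_eq_one_iff.mp (Nat.dvd_one.mp h3))
  -- a minimal invariant subgroup
  obtain ⟨R, ⟨hRle, hAR, hRnc⟩, hRmin⟩ := Set.exists_min_image {R : Subgroup (M ⧸ O) |
      R ≤ Q ⊓ centralizer (B : Set (M ⧸ O)) ∧ Ab ≤ normalizer (R : Set (M ⧸ O)) ∧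
      ¬ R ≤ centralizer (Ab : Set (M ⧸ O))} (fun R => Nat.card R) (Set.toFinite _)
    ⟨_, le_rfl, le_normalizer_inf' (by rw [Q.normalizer_eq_top]; exact le_top)
      (le_normalizer_centralizer_of_commute fun a ha b hb => hAcomm a ha b (hBA hb)), hBnc⟩
  have hRQ : R ≤ Q := hRle.trans inf_le_left
  have hRcop : (Nat.card R).Coprime p := hQcop.coprime_dvd_left (Subgroup.card_dvd_of_le hRQ)
  obtain ⟨xb, hxR, hxnc⟩ := SetLike.not_le_iff_exists.mp hRnc
  obtain ⟨ab, hab, habx⟩ : ∃ ab ∈ Ab, ab * xb ≠ xb * ab := by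
    by_contra hc; push Not at hc
    exact hxnc (Subgroup.mem_centralizer_iff.mpr hc)
  set w := xb * ab * xb⁻¹ * ab⁻¹ with hw
  have hwR : w ∈ R := by
    rw [hw, show xb * ab * xb⁻¹ * ab⁻¹ = xb * (ab * xb⁻¹ * ab⁻¹) by group]
    exact mul_mem hxR ((mem_normalizer_iff.mp (hAR hab) _).mp (inv_mem hxR))
  set K := Subgroup.closure {y | ∃ b ∈ Ab, y = b * w * b⁻¹} with hK
  have hKR : K ≤ R := by
    rw [hK, closure_le]
    rintro _ ⟨b, hb, rfl⟩
    exact (mem_normalizer_iff.mp (hAR hb) _).mp hwR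
  have hwK : w ∈ K := subset_closure ⟨1, one_mem _, by group⟩
  have hAK : Ab ≤ normalizer (K : Set (M ⧸ O)) := by
    refine invariant_iff.mp fun b hb y hy => ?_
    have : K ≤ K.comap (MulAut.conj b).toMonoidHom := by
      rw [hK, closure_le]
      rintro _ ⟨c, hc, rfl⟩
      refine subset_closure ⟨b * c, mul_mem hb hc, ?_⟩
      simp only [MulEquiv.toMonoidHom_eq_coe, MonoidHom.coe_coe, MulAut.conj_apply]
      group
    exact this hy
  have hKnc : ¬ K ≤ centralizer (Ab : Set (M ⧸ O)) := by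
    intro hc
    have hfix : ab * w = w * ab := Subgroup.mem_centralizer_iff.mp (hc hwK) ab hab
    have hiter : ∀ i : ℕ, ab ^ i * xb⁻¹ * (ab ^ i)⁻¹ = xb⁻¹ * w ^ i := by
      intro i
      induction i with
      | zero => simp
      | succ i ihi =>
          calc ab ^ (i + 1) * xb⁻¹ * (ab ^ (i + 1))⁻¹ = ab * (ab ^ i * xb⁻¹ * (ab ^ i)⁻¹) * ab⁻¹ := by
                rw [pow_succ']; group
            _ = (ab * xb⁻¹ * ab⁻¹) * (ab * w ^ i * ab⁻¹) := by rw [ihi]; group
            _ = xb⁻¹ * w * w ^ i := by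
                rw [← conj_pow, hfix, mul_inv_cancel_right, show ab * xb⁻¹ * ab⁻¹ = xb⁻¹ * w by rw [hw]; group]
            _ = xb⁻¹ * w ^ (i + 1) := by rw [pow_succ', mul_assoc]
    have h := hiter p
    rw [hel.2 ab hab, one_mul, inv_one, mul_one, left_eq_mul] at h
    have h2 : orderOf w ∣ Nat.card R := by rw [← Nat.card_zpowers]; exact Subgroup.card_dvd_of_le (zpowers_le.mpr hwR)
    have h3 := Nat.dvd_gcd h2 (orderOf_dvd_of_pow_eq_one h)
    rw [hRcop.gcd_eq_one] at h3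
    have hw1 : w = 1 := orderOf_eq_one_iff.mp (Nat.dvd_one.mp h3)
    rw [hw, mul_inv_eq_one, mul_inv_eq_iff_eq_mul] at hw1
    exact habx hw1.symm
  have hKeq : K = R := Subgroup.eq_of_le_of_card_ge hKR
    (hRmin K ⟨hKR.trans hRle, hAK, hKnc⟩)
  -- choice of the lift
  let L : M → Subgroup M := fun x => A ⊔ A.map (MulAut.conj x).toMonoidHom
  have hmapL : ∀ x, π x = xb → (L x).map π = Ab ⊔ Ab.map (MulAut.conj xb).toMonoidHom := by
    intro x hx
    rw [Subgroup.map_sup, hAb, Subgroup.map_map, Subgroup.map_map]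
    congr 2
    refine MonoidHom.ext fun y => ?_
    show π (x * y * x⁻¹) = xb * π y * xb⁻¹
    rw [map_mul, map_mul, map_inv, hx]
  have hRL : ∀ x, π x = xb → R ≤ (L x).map π := by
    intro x hx
    rw [hmapL x hx, ← hKeq, hK, closure_le]
    rintro _ ⟨b, hb, rfl⟩
    exact mul_mem (mul_mem (mem_sup_left hb) (mul_mem (mem_sup_right ⟨ab, hab, rfl⟩)
      (inv_mem (mem_sup_left hab)))) (inv_mem (mem_sup_left hb))
  obtain ⟨x0, hx0⟩ := QuotientGroup.mk'_surjective O xb
  obtain ⟨x1, hx1, hxmin⟩ := Set.exists_min_image {x : M | π x = xb} (fun x => Nat.card (L x))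
    (Set.toFinite _) ⟨x0, hx0⟩
  obtain ⟨g, hgL, hgx⟩ := hRL x1 hx1 hxR
  have hxord : (orderOf (π g)).Coprime p := by
    rw [hgx]
    refine hRcop.coprime_dvd_left ?_
    rw [← Nat.card_zpowers]; exact Subgroup.card_dvd_of_le (zpowers_le.mpr hxR)
  obtain ⟨e, hecop, hepi⟩ := exists_pprime_lift π hxord
  set x := g ^ e with hxdef
  have hxπ : π x = xb := hepi.trans hgx
  have hxL1 : x ∈ L x1 := pow_mem hgL e
  have hLeq : L x = L x1 := by
    refine Subgroup.eq_of_le_of_card_ge (sup_le le_sup_left ?_) (hxmin x hxπ)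
    rintro _ ⟨a, ha, rfl⟩
    exact mul_mem (mul_mem hxL1 (mem_sup_left ha)) (inv_mem hxL1)
  set X := A ⊔ A.map (MulAut.conj x).toMonoidHom with hX
  have hxX : x ∈ X := by
    show x ∈ L x
    rw [hLeq]; exact hxL1
  have hxres : (⟨x, hxX⟩ : X) ∈ Cfsg.pResidual p X := subset_closure (by
    show (orderOf (⟨x, hxX⟩ : X)).Coprime p
    rw [Subgroup.orderOf_mk]; exact hecop)
  have hXle : X.map π ≤ Ab ⊔ R := by
    rw [show X = L x from rfl, hmapL x hxπ]
    refine sup_le le_sup_left ?_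
    rintro _ ⟨a, ha, rfl⟩
    exact mul_mem (mul_mem (mem_sup_right hxR) (mem_sup_left ha)) (inv_mem (mem_sup_right hxR))
  have hBcent : ∀ b ∈ B, ∀ y ∈ Ab ⊔ R, b * y = y * b := by
    intro b hb y hy
    have hle : Ab ⊔ R ≤ centralizer {b} := sup_le
      (fun a ha => Subgroup.mem_centralizer_singleton_iff.mpr (hAcomm a ha b (hBA hb)))
      (fun r hr => Subgroup.mem_centralizer_singleton_iff.mpr
        (Subgroup.mem_centralizer_iff.mp (hRle hr).2 b hb).symm)
    exact (Subgroup.mem_centralizer_singleton_iff.mp (hle hy)).symm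
  -- the p-core of X meets A in the preimage of B
  haveI hcXn : (Cfsg.pCore p X).Normal := pCore_isNormal
  have hAX : A ≤ X := le_sup_left
  have hinter : A ⊓ (Cfsg.pCore p X).map X.subtype = A ⊓ B.comap π := by
    apply le_antisymm
    · rintro a ⟨haA, ⟨⟨a', ha'X⟩, ha'c, rfl⟩⟩
      refine ⟨haA, ?_⟩
      show π a' ∈ B
      -- `π a'` centralizes R
      have hcR : ∀ r ∈ R, π a' * r = r * π a' := by
        intro r hr
        obtain ⟨l, hl, hlr⟩ := hRL x hxπ hr
        let f : X →* M ⧸ O := π.comp X.subtype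
        have h1 : ⁅π a', r⁆ ∈ (Cfsg.pCore p X).map f := by
          refine ⟨⁅(⟨a', ha'X⟩ : X), ⟨l, hl⟩⁆, ?_, by rw [map_commutatorElement, ← hlr]; rfl⟩
          rw [commutatorElement_def, mul_assoc, mul_assoc, ← mul_assoc (⟨l, hl⟩ : X)]
          exact mul_mem ha'c (hcXn.conj_mem _ (inv_mem ha'c) _)
        have h2 : ⁅π a', r⁆ ∈ R := by
          rw [commutatorElement_def]
          exact mul_mem ((mem_normalizer_iff.mp (hAR ⟨a', haA, rfl⟩) r).mp hr) (inv_mem hr)
        have h3 : orderOf ⁅π a', r⁆ ∣ Nat.card R := by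
          rw [← Nat.card_zpowers]; exact Subgroup.card_dvd_of_le (zpowers_le.mpr h2)
        obtain ⟨k, hk⟩ := (pCore_isPGroup (p := p) (G := X)).map f ⟨_, h1⟩
        have h4 := Nat.dvd_gcd h3 (orderOf_dvd_of_pow_eq_one (congrArg Subtype.val hk))
        rw [(hRcop.pow_right k).gcd_eq_one] at h4
        exact commutatorElement_eq_one_iff_mul_comm.mp (orderOf_eq_one_iff.mp (Nat.dvd_one.mp h4))
      by_contra hnB
      -- then all of Ab centralizes R
      let C := Ab ⊓ centralizer (R : Set (M ⧸ O))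
      have hBC : B ≤ C := le_inf hBA fun b hb => Subgroup.mem_centralizer_iff.mpr fun r hr =>
        (Subgroup.mem_centralizer_iff.mp (hRle hr).2 b hb).symm
      have haC : π a' ∈ C := ⟨⟨a', haA, rfl⟩, Subgroup.mem_centralizer_iff.mpr fun r hr => (hcR r hr).symm⟩
      have hmul := Subgroup.relIndex_mul_relIndex B C Ab hBC inf_le_left
      rw [hBidx] at hmul
      have hne : B.relIndex C ≠ 1 := fun h => hnB (Subgroup.relIndex_eq_one.mp h haC)
      have hCA : C.relIndex Ab = 1 := by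
        rcases hp.out.eq_one_or_self_of_dvd _ (Dvd.intro _ hmul) with h | h
        · exact absurd h hne
        · rw [h] at hmul
          exact Nat.eq_of_mul_eq_mul_left hp.out.pos (hmul.trans (mul_one p).symm)
      exact hRnc fun r hr => Subgroup.mem_centralizer_iff.mpr fun c hc =>
        ((Subgroup.mem_centralizer_iff.mp (Subgroup.relIndex_eq_one.mp hCA hc).2) r hr).symm
    · rintro a ⟨haA, haB⟩
      refine ⟨haA, ⟨⟨a, hAX haA⟩, ?_, rfl⟩⟩
      let f : X →* M ⧸ O := π.comp X.subtype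
      have hnor : (B.comap f).Normal := ⟨fun b hb l => by
        show f (l * b * l⁻¹) ∈ B
        rw [map_mul, map_mul, map_inv, ← hBcent _ hb (f l) (hXle ⟨l, l.2, rfl⟩), mul_inv_cancel_right]
        exact hb⟩
      refine le_pCore hnor ?_ haB
      refine (((elemAb_isPGroup hel).to_le hBA)).comap_of_ker_isPGroup f ?_
      refine (pCore_isPGroup (p := p) (G := M)).of_injective
        ((X.subtype.comp f.ker.subtype).codRestrict O fun z => (hπ _).mp (MonoidHom.mem_ker.mp z.2)) ?_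
      intro u v huv
      exact Subtype.ext (Subtype.ext (congrArg (fun z : O => (z : M)) huv))
  -- residual facts
  set P := Cfsg.pResidual p X with hP
  let A' := A.subgroupOf X
  have hgenX : A' ⊔ P = ⊤ := by
    rw [eq_top_iff]
    intro l _
    have : X ≤ (A' ⊔ P).map X.subtype := by
      have hAl : A ≤ (A' ⊔ P).map X.subtype := fun a ha => ⟨⟨a, hAX ha⟩, mem_sup_left ha, rfl⟩
      have hxl : x ∈ (A' ⊔ P).map X.subtype := ⟨⟨x, hxX⟩, mem_sup_right hxres, rfl⟩
      refine sup_le hAl ?_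
      rintro _ ⟨a, ha, rfl⟩
      exact mul_mem (mul_mem hxl (hAl ha)) (inv_mem hxl)
    obtain ⟨l', hl', he'⟩ := this l.2
    exact Subtype.ext he' ▸ hl'
  haveI hPn : P.Normal := ⟨fun n hn l => by
    have : P ≤ P.comap (MulAut.conj l).toMonoidHom := by
      rw [hP, Cfsg.pResidual, closure_le]
      intro y hy
      refine subset_closure ?_
      show (orderOf ((MulAut.conj l) y)).Coprime p
      rw [MulEquiv.orderOf_eq]; exact hy
    exact this hn⟩
  have hcomm : ⁅P, A'⁆ = P := by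
    refine le_antisymm (Subgroup.commutator_le_left P A') ?_
    haveI hDn : (⁅P, A'⁆).Normal := by
      rw [← normalizer_eq_top_iff, eq_top_iff, ← hgenX]
      refine sup_le ?_ (normalizer_commutator_ge_left P A')
      exact normalizer_commutator_ge_right P A'
    let q' := QuotientGroup.mk' ⁅P, A'⁆
    have hcom : ∀ o ∈ P, ∀ a ∈ A', q' o * q' a = q' a * q' o := fun o ho a ha => by
      refine commutatorElement_eq_one_iff_mul_comm.mp ?_
      rw [← map_commutatorElement]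
      exact (QuotientGroup.eq_one_iff _).mpr (commutator_mem_commutator ho ha)
    have hall : ∀ l : X, q' l ∈ A'.map q' := by
      intro l
      have hle : X ≤ ((A'.map q').comap q').map X.subtype := by
        have hAl : A ≤ ((A'.map q').comap q').map X.subtype := fun a ha =>
          ⟨⟨a, hAX ha⟩, ⟨⟨a, hAX ha⟩, ha, rfl⟩, rfl⟩
        refine sup_le hAl ?_
        rintro _ ⟨a, ha, rfl⟩
        refine ⟨⟨x * a * x⁻¹, mul_mem (mul_mem hxX (hAX ha)) (inv_mem hxX)⟩, ?_, rfl⟩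
        refine ⟨⟨a, hAX ha⟩, ha, ?_⟩
        have e : (⟨x * a * x⁻¹, mul_mem (mul_mem hxX (hAX ha)) (inv_mem hxX)⟩ : X) =
            ⟨x, hxX⟩ * ⟨a, hAX ha⟩ * (⟨x, hxX⟩)⁻¹ := rfl
        rw [e, map_mul, map_mul, map_inv, hcom _ hxres _ ha, mul_inv_cancel_right]
      obtain ⟨l', hl', he'⟩ := hle l.2
      rw [← show l' = l from Subtype.ext he']
      exact hl'
    rw [hP, Cfsg.pResidual, closure_le]
    intro y hy
    show y ∈ ⁅P, A'⁆
    refine (QuotientGroup.eq_one_iff y).mp ?_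
    obtain ⟨a, ha, hay⟩ := hall y
    obtain ⟨k, hk⟩ := hA ⟨a, ha⟩
    have hk' : a ^ p ^ k = 1 := Subtype.ext (congrArg (fun z : A => (z : M)) hk)
    have h1 : orderOf (q' y) ∣ p ^ k := by
      rw [← hay]
      exact (orderOf_map_dvd q' a).trans (orderOf_dvd_of_pow_eq_one hk')
    have h2 := Nat.dvd_gcd (orderOf_map_dvd q' y) h1
    rw [(Nat.Coprime.pow_right k (hy : (orderOf y).Coprime p)).gcd_eq_one] at h2
    exact orderOf_eq_one_iff.mp (Nat.dvd_one.mp h2)
  refine ⟨x, ?_, ⟨⟨x, hxX⟩, hxres, rfl⟩, ?_, ?_, ?_, ?_⟩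
  · show π x ∈ Q
    rw [hxπ]; exact hRQ hxR
  · rw [Subgroup.map_le_iff_le_comap, ← hP, hP, Cfsg.pResidual, closure_le]
    intro y hy
    show π (y : M) ∈ Q
    refine (QuotientGroup.eq_one_iff (π (y : M))).mp ?_
    let q' := (QuotientGroup.mk' Q).comp π
    obtain ⟨a, ha, hay⟩ : ∃ a ∈ A, q' a = q' y := by
      have hle : X ≤ (A.map q').comap q' := by
        refine sup_le (Subgroup.le_comap_map q' A) ?_
        rintro _ ⟨a, ha, rfl⟩
        refine ⟨a, ha, ?_⟩
        have hx1' : q' x = 1 := (QuotientGroup.eq_one_iff _).mpr (show π x ∈ Q from hxπ ▸ hRQ hxR)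
        show q' a = q' (x * a * x⁻¹)
        rw [map_mul, map_mul, map_inv, hx1', one_mul, inv_one, mul_one]
      exact hle y.2
    obtain ⟨k, hk⟩ := hA ⟨a, ha⟩
    have h1 : orderOf (q' y) ∣ p ^ k := by
      rw [← hay]
      exact (orderOf_map_dvd q' a).trans (orderOf_dvd_of_pow_eq_one (congrArg Subtype.val hk))
    have h2 : orderOf (q' y) ∣ orderOf y := by rw [← Subgroup.orderOf_coe]; exact orderOf_map_dvd q' _
    have h3 := Nat.dvd_gcd h2 h1
    rw [(Nat.Coprime.pow_right k (hy : (orderOf y).Coprime p)).gcd_eq_one] at h3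
    exact orderOf_eq_one_iff.mp (Nat.dvd_one.mp h3)
  · conv_rhs => rw [← hP, ← hcomm]
    rw [Subgroup.map_commutator, Subgroup.map_subgroupOf_eq_of_le hAX]
  · rw [hinter, Subgroup.inf_relIndex_left, Subgroup.relIndex_comap]
    exact hBidx
  · rw [hinter, Subgroup.commutator_le]
    rintro b ⟨-, hb⟩ l hl
    refine (hπ _).mp ?_
    rw [map_commutatorElement]
    exact commutatorElement_eq_one_iff_mul_comm.mpr (hBcent _ hb _ (hXle ⟨l, hl, rfl⟩))

end Cfsg.Agent.Grp.ResidualPair
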