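import Mathlib
import Cfsg.Agent.Lib.Grp.Basic
import Cfsg.Agent.Lib.Grp.SubnormalJoin

/-!
# A zipper lemma for residuals

If the proper subgroups generated by their own conjugates of `A` do not generate the whole group,
then `A` lies in a unique maximal subgroup.
-/

set_option autoImplicit false
set_option maxHeartbeats 400000

namespace Cfsg.Agent.Grp.Residual

universe u

variable {G : Type u} [Group G]

/-- A conjugate of a subgroup. -/
abbrev cj (g : G) (A : Subgroup G) : Subgroup G := A.map (MulAut.conj g).toMonoidHom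

/-- `H` is a proper subgroup generated by its conjugates of `A`. -/
def Memb (A H : Subgroup G) : Prop :=
  A ≤ H ∧ H ≠ ⊤ ∧ Subgroup.normalClosure ((A.subgroupOf H : Subgroup ↥H) : Set ↥H) = ⊤

theorem mem_cj {g x : G} {A : Subgroup G} : x ∈ cj g A ↔ g⁻¹ * x * g ∈ A := by
  constructor
  · rintro ⟨a, ha, rfl⟩
    simpa [mul_assoc] using ha
  · intro h
    exact ⟨_, h, by simp [mul_assoc]⟩

theorem cj_mul (g h : G) (A : Subgroup G) : cj g (cj h A) = cj (g * h) A := by
  ext x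
  rw [mem_cj, mem_cj, mem_cj, show (g * h)⁻¹ * x * (g * h) = h⁻¹ * (g⁻¹ * x * g) * h by group]

theorem cj_one (A : Subgroup G) : cj (1 : G) A = A := by
  ext x; rw [mem_cj]; simp

theorem cj_mono {g : G} {A B : Subgroup G} (h : A ≤ B) : cj g A ≤ cj g B := Subgroup.map_mono h

theorem card_cj (g : G) (A : Subgroup G) : Nat.card (cj g A) = Nat.card A :=
  Subgroup.card_map_of_injective (MulAut.conj g).injective

theorem le_cj_iff {g : G} {A B : Subgroup G} : A ≤ cj g B ↔ cj g⁻¹ A ≤ B := by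
  constructor
  · intro h
    have := cj_mono (g := g⁻¹) h
    rwa [cj_mul, inv_mul_cancel, cj_one] at this
  · intro h
    have := cj_mono (g := g) h
    rwa [cj_mul, mul_inv_cancel, cj_one] at this

theorem cj_self_of_mem {g : G} {A : Subgroup G} (h : g ∈ A) : cj g A = A := by
  ext x; rw [mem_cj]
  constructor
  · intro hx
    simpa [mul_assoc] using A.mul_mem (A.mul_mem h hx) (A.inv_mem h)
  · intro hx
    exact A.mul_mem (A.mul_mem (A.inv_mem h) hx) h

theorem isCoatom_cj {g : G} {M : Subgroup G} (h : IsCoatom M) : IsCoatom (cj g M) :=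
  ((MulAut.conj g).mapSubgroup.isCoatom_iff M).mpr h

theorem coatom_eq {M K : Subgroup G} (hM : IsCoatom M) (hK : IsCoatom K) (h : M ≤ K) : M = K :=
  ((hM.le_iff.mp h).resolve_left hK.1).symm

theorem mem_normalizer_of_cj {g : G} {A : Subgroup G} (h : cj g A = A) : g ∈ Subgroup.normalizer (A : Set G) :=
  mem_normalizer_of_map_eq.mpr h

theorem Memb.le_of_normalize {A H : Subgroup G} (h : Memb A H) {L : Subgroup G} (hAL : A ≤ L)
    (hL : H ≤ Subgroup.normalizer (L : Set G)) : H ≤ L := by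
  have : (L.subgroupOf H).Normal := ⟨fun x hx g => by
    show (g : G) * x * (g : G)⁻¹ ∈ L
    exact (Subgroup.mem_normalizer_iff.mp (hL g.2) _).mp hx⟩
  have h1 : Subgroup.normalClosure ((A.subgroupOf H : Subgroup ↥H) : Set ↥H) ≤ L.subgroupOf H :=
    Subgroup.normalClosure_le_normal fun x hx => hAL hx
  rw [h.2.2, top_le_iff] at h1
  exact fun x hx => (h1.ge (Subgroup.mem_top (⟨x, hx⟩ : H)) :)

theorem memb_mk {A H : Subgroup G} (hA : A ≤ H) (hH : H ≠ ⊤)
    (h : ∀ L : Subgroup G, A ≤ L → L ≤ H → H ≤ Subgroup.normalizer (L : Set G) → H ≤ L) : Memb A H := by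
  refine ⟨hA, hH, ?_⟩
  set N := Subgroup.normalClosure ((A.subgroupOf H : Subgroup ↥H) : Set ↥H)
  have hN : H ≤ Subgroup.normalizer ((N.map H.subtype : Subgroup G) : Set G) := fun g hg =>
    mem_normalizer_of_map_eq.mpr (by
      rw [Subgroup.map_map, show (MulAut.conj g).toMonoidHom.comp H.subtype =
        H.subtype.comp (MulAut.conj (⟨g, hg⟩ : H)).toMonoidHom from rfl, ← Subgroup.map_map]
      congr 1
      exact mem_normalizer_of_map_eq.mp ((Subgroup.normalizer_eq_top (H := N)).ge (Subgroup.mem_top _)))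
  have h1 := h (N.map H.subtype) (fun a ha => ⟨⟨a, hA ha⟩, Subgroup.subset_normalClosure ha, rfl⟩)
    (Subgroup.map_subtype_le _) hN
  rw [eq_top_iff]
  intro x _
  obtain ⟨y, hy, hyx⟩ := h1 x.2
  rwa [Subtype.ext hyx] at hy

theorem Memb.eq_of_subnormal {A T K : Subgroup G} (h : Memb A K) (hAT : A ≤ T) (hTK : T ≤ K)
    (hsn : (T.subgroupOf K).IsSubnormal) : T = K := by
  rcases hsn.lt_normal with e | ⟨N, hN, hle, hlt⟩
  · exact le_antisymm hTK (Subgroup.subgroupOf_eq_top.mp e)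
  · have : Subgroup.normalClosure ((A.subgroupOf K : Subgroup ↥K) : Set ↥K) ≤ N :=
      Subgroup.normalClosure_le_normal fun x hx => hle (hAT hx)
    rw [h.2.2, top_le_iff] at this
    exact absurd this hlt.ne

theorem sn_restrict {A K K' : Subgroup G} (hK : K' ≤ K) (h : (A.subgroupOf K).IsSubnormal) :
    (A.subgroupOf K').IsSubnormal := h.comap (Subgroup.inclusion hK)

/-- Leaving a subgroup along a subnormal chain. -/
theorem exists_step {B D M : Subgroup G} (hsn : (B.subgroupOf M).IsSubnormal) (hBM : B ≤ M) (hBD : B ≤ D)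
    (hMD : ¬ M ≤ D) : ∃ (C : Subgroup G) (x : G), B ≤ C ∧ C ≤ D ∧ x ∈ M ∧ x ∉ D ∧
      (∀ c ∈ C, x * c * x⁻¹ ∈ C) := by
  classical
  obtain ⟨f, g, hmono, hstep, h0, hn⟩ := Subgroup.IsSubnormal.isSubnormal_iff.1 hsn
  have hex : ∃ i, ¬ (g i).map M.subtype ≤ D :=
    ⟨f, by rw [hn, ← MonoidHom.range_eq_map, Subgroup.range_subtype]; exact hMD⟩
  set i := Nat.find hex with hi
  have hspec := Nat.find_spec hex
  rw [← hi] at hspec
  have hi0 : i ≠ 0 := fun h => by
    rw [h, h0, Subgroup.map_subgroupOf_eq_of_le hBM] at hspec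
    exact hspec hBD
  obtain ⟨j, hj⟩ := Nat.exists_eq_succ_of_ne_zero hi0
  obtain ⟨_, ⟨x, hx, rfl⟩, hxD⟩ := SetLike.not_le_iff_exists.1 hspec
  refine ⟨(g j).map M.subtype, x, ?_, not_not.1 (Nat.find_min hex (show j < i by omega)), x.2, hxD, ?_⟩
  · rw [← Subgroup.map_subgroupOf_eq_of_le hBM, ← h0]
    exact Subgroup.map_mono (hmono (Nat.zero_le j))
  · rintro _ ⟨c, hc, rfl⟩
    rw [hj] at hx
    exact ⟨x * c * x⁻¹, (hstep j).conj_mem ⟨c, hmono (Nat.le_succ j) hc⟩ hc ⟨x, hx⟩, by simp⟩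

variable [Finite G]

/-- A proper overgroup of `A` contains a member subnormally. -/
theorem exists_residual {A : Subgroup G} : ∀ (n : ℕ) (K : Subgroup G), Nat.card K = n → A ≤ K → K ≠ ⊤ →
    ∃ R, Memb A R ∧ R ≤ K ∧ (R.subgroupOf K).IsSubnormal := by
  intro n
  induction n using Nat.strong_induction_on with
  | _ n ih =>
  intro K hn hAK hK
  by_cases hm : Memb A K
  · exact ⟨K, hm, le_rfl, by rw [Subgroup.subgroupOf_self]; exact Subgroup.IsSubnormal.top⟩
  set N := Subgroup.normalClosure ((A.subgroupOf K : Subgroup ↥K) : Set ↥K)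
  set L := N.map K.subtype
  have hLK : L ≤ K := Subgroup.map_subtype_le _
  have hne : N ≠ ⊤ := fun e => hm ⟨hAK, hK, e⟩
  have hAL : A ≤ L := fun a ha => ⟨⟨a, hAK ha⟩, Subgroup.subset_normalClosure ha, rfl⟩
  have hlt : Nat.card L < n := by
    rw [← hn]
    by_contra hge
    have e := Subgroup.eq_of_le_of_card_ge hLK (not_lt.mp hge)
    refine hne (eq_top_iff.mpr fun x _ => ?_)
    obtain ⟨y, hy, hyx⟩ := e.ge x.2
    rwa [Subtype.ext hyx] at hy
  obtain ⟨R, hR, hRL, hsn⟩ := ih _ hlt L rfl hAL (fun e => hK (top_le_iff.mp (e ▸ hLK)))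
  refine ⟨R, hR, hRL.trans hLK, ?_⟩
  have hLn : (L.subgroupOf K).Normal := by
    have : L.subgroupOf K = N := Subgroup.comap_map_eq_self_of_injective (Subgroup.subtype_injective K) N
    rw [this]; infer_instance
  exact Subgroup.IsSubnormal.trans (Subgroup.comap_mono hRL)
    (hsn.comap (Subgroup.subgroupOfEquivOfLe hLK).toMonoidHom) hLn.isSubnormal

theorem memb_le_sSup {A H : Subgroup G} (h : Memb A H) : H ≤ sSup {H : Subgroup G | Memb A H} := le_sSup h

/-- The main statement. -/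
theorem unique_maximal : ∀ (k : ℕ) (A : Subgroup G), A.index = k → Subgroup.normalClosure (A : Set G) = ⊤ →
    A ≠ ⊤ → sSup {H : Subgroup G | Memb A H} ≠ ⊤ →
    ∀ M K : Subgroup G, IsCoatom M → IsCoatom K → A ≤ M → A ≤ K → M = K := by
  classical
  intro k
  induction k using Nat.strong_induction_on with
  | _ k ih =>
  intro A hk hcl hAtop hY
  set Y := sSup {H : Subgroup G | Memb A H}
  have hle : ∀ B : Subgroup G, A ≤ B → A ≠ B → B.index < k := fun B hB hne =>
    hk ▸ Subgroup.index_strictAnti (lt_of_le_of_ne hB hne)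
  have hclB : ∀ B : Subgroup G, A ≤ B → Subgroup.normalClosure (B : Set G) = ⊤ := fun B hB =>
    top_le_iff.mp (hcl ▸ Subgroup.normalClosure_mono hB)
  have hnorm : ∀ B : Subgroup G, A ≤ B → B ≠ ⊤ → Subgroup.normalizer (B : Set G) ≠ ⊤ := fun B hB hBt e => by
    have := Subgroup.normalizer_eq_top_iff.mp e
    refine hBt (top_le_iff.mp (hcl ▸ Subgroup.normalClosure_le_normal hB))
  obtain ⟨RA, hRA, hRAA, -⟩ := exists_residual _ A rfl le_rfl hAtop
  have hAm : Memb A A := le_antisymm hRAA hRA.1 ▸ hRA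
  have hAY : A ≤ Y := memb_le_sSup hAm
  have hYm : Memb A Y := memb_mk hAY hY fun L hAL _ hL => sSup_le fun H hH =>
    hH.le_of_normalize hAL ((memb_le_sSup hH).trans hL)
  obtain ⟨N₀, hN₀, hN₀le⟩ :=
    (eq_top_or_exists_le_coatom (Subgroup.normalizer (Y : Set G))).resolve_left (hnorm Y hAY hY)
  have hYN₀ : Y ≤ N₀ := Subgroup.le_normalizer.trans hN₀le
  have hAN₀ : A ≤ N₀ := hAY.trans hYN₀
  -- larger members lie in one maximal subgroup
  have hbig : ∀ R, Memb A R → A ≠ R → ∀ M, IsCoatom M → R ≤ M → M = N₀ := by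
    intro R hR hne M hM hRM
    refine ih _ (hle R hR.1 hne) R rfl (hclB R hR.1) hR.2.1 (fun e => hY (top_le_iff.mp (e.ge.trans (sSup_le fun H hH => ?_))))
      M N₀ hM hN₀ hRM ((memb_le_sSup hR).trans hYN₀)
    exact memb_le_sSup (memb_mk (hR.1.trans hH.1) hH.2.1 fun L hAL _ hL =>
      hH.le_of_normalize (hR.le_of_normalize hAL (hH.1.trans hL)) hL)
  -- subnormality away from `N₀`
  have hsn : ∀ K : Subgroup G, K ≠ ⊤ → A ≤ K → ¬ K ≤ N₀ → (A.subgroupOf K).IsSubnormal := by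
    intro K hK hAK hKN
    obtain ⟨R, hR, hRK, hRsn⟩ := exists_residual _ K rfl hAK hK
    by_cases e : A = R
    · rwa [e]
    · obtain ⟨M, hM, hKM⟩ := (eq_top_or_exists_le_coatom K).resolve_left hK
      exact absurd (hKM.trans (hbig R hR e M hM (hRK.trans hKM)).le) hKN
  have hsnc : ∀ (g : G) (K : Subgroup G), K ≠ ⊤ → cj g A ≤ K → ¬ K ≤ cj g N₀ → ((cj g A).subgroupOf K).IsSubnormal := by
    intro g K hK hgK hKN
    have htop : cj g⁻¹ K ≠ ⊤ := fun e => hK (by
      rw [← cj_one K, ← mul_inv_cancel g, ← cj_mul, e]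
      exact Subgroup.map_top_of_surjective _ (MulAut.conj g).surjective)
    have h1 := hsn (cj g⁻¹ K) htop
      (by have := cj_mono (g := g⁻¹) hgK; rwa [cj_mul, inv_mul_cancel, cj_one] at this)
      (fun h => hKN (le_cj_iff.mpr h))
    let φ : K →* (cj g⁻¹ K : Subgroup G) :=
      ((MulAut.conj g⁻¹).toMonoidHom.comp K.subtype).codRestrict _ fun x => ⟨x, x.2, rfl⟩
    have h2 := h1.comap φ
    convert h2 using 1
    ext x
    rw [Subgroup.mem_subgroupOf, Subgroup.mem_comap, Subgroup.mem_subgroupOf, mem_cj]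
    show g⁻¹ * (x : G) * g ∈ A ↔ g⁻¹ * (x : G) * g⁻¹⁻¹ ∈ A
    rw [inv_inv]
  have hnA : Subgroup.normalizer (A : Set G) ≤ N₀ := by
    intro g hg
    refine hN₀le (mem_normalizer_of_cj (le_antisymm ?_ ?_))
    · refine memb_le_sSup (memb_mk ?_ ?_ fun L hAL _ hL => ?_)
      · rw [← mem_normalizer_of_map_eq.mp hg]; exact cj_mono hAY
      · intro e
        apply hY
        rw [← cj_one Y, ← inv_mul_cancel g, ← cj_mul, e]
        exact Subgroup.map_top_of_surjective _ (MulAut.conj g⁻¹).surjective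
      · have h1 : A ≤ cj g⁻¹ L := by
          rw [le_cj_iff, inv_inv, show cj g A = A from mem_normalizer_of_map_eq.mp hg]; exact hAL
        have h2 : Y ≤ Subgroup.normalizer ((cj g⁻¹ L : Subgroup G) : Set G) := by
          intro y hy
          refine mem_normalizer_of_cj ?_
          have h3 := mem_normalizer_of_map_eq.mp (hL ⟨y, hy, rfl⟩)
          rw [cj_mul, show y * g⁻¹ = g⁻¹ * (MulAut.conj g y) by simp [mul_assoc], ← cj_mul]
          exact congrArg (cj g⁻¹) h3
        have := cj_mono (g := g) (hYm.le_of_normalize h1 h2)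
        rwa [cj_mul, mul_inv_cancel, cj_one] at this
    · refine le_cj_iff.mpr ?_
      refine memb_le_sSup (memb_mk ?_ ?_ fun L hAL _ hL => ?_)
      · rw [show A = cj g⁻¹ A from (mem_normalizer_of_map_eq.mp (inv_mem hg)).symm]; exact cj_mono hAY
      · intro e
        apply hY
        rw [← cj_one Y, ← mul_inv_cancel g, ← cj_mul, e]
        exact Subgroup.map_top_of_surjective _ (MulAut.conj g).surjective
      · have h1 : A ≤ cj g L := by
          rw [le_cj_iff, show cj g⁻¹ A = A from mem_normalizer_of_map_eq.mp (inv_mem hg)]; exact hAL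
        have h2 : Y ≤ Subgroup.normalizer ((cj g L : Subgroup G) : Set G) := by
          intro y hy
          refine mem_normalizer_of_cj ?_
          have h3 := mem_normalizer_of_map_eq.mp (hL ⟨y, hy, rfl⟩)
          rw [cj_mul, show y * g = g * (MulAut.conj g⁻¹ y) by simp [mul_assoc], ← cj_mul]
          exact congrArg (cj g) h3
        have := cj_mono (g := g⁻¹) (hYm.le_of_normalize h1 h2)
        rwa [cj_mul, inv_mul_cancel, cj_one] at this
  -- two conjugates in an intersection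
  have hkey : ∀ (g : G) (M : Subgroup G), IsCoatom M → M ≠ N₀ → A ≤ M → cj g A ≤ M → cj g A ≤ N₀ →
      (cj g N₀ = N₀ ∨ ¬ A ≤ cj g N₀) → cj g A = A := by
    intro g M hM hne hAM hgM hgN hor
    by_contra hgA
    set T := A ⊔ cj g A with hT
    have hTN : T ≤ N₀ := sup_le hAN₀ hgN
    have hTA : A ≠ T := fun e => hgA (Subgroup.eq_of_le_of_card_ge ((le_sup_right : cj g A ≤ T).trans e.ge) (card_cj g A).ge)
    refine hne (ih _ (hle T le_sup_left hTA) T rfl (hclB T le_sup_left) (fun e => hN₀.1 (top_le_iff.mp (e.ge.trans hTN)))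
      (fun e => hN₀.1 (top_le_iff.mp (e.ge.trans (sSup_le fun K hK => ?_)))) M N₀ hM hN₀ (sup_le hAM hgM) hTN)
    by_contra hKN
    have hTK : T ≤ K := hK.1
    have hAK : A ≤ K := (le_sup_left : A ≤ T).trans hTK
    have hgK : cj g A ≤ K := (le_sup_right : cj g A ≤ T).trans hTK
    have h1 := hsn K hK.2.1 hAK hKN
    have h2 := hsnc g K hK.2.1 hgK (fun h => hor.elim (fun e => hKN (h.trans e.le)) fun hn => hn (hAK.trans h))
    have h3 := SnJoin.isSubnormal_sup _ K rfl _ _ h1 h2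
    rw [← Subgroup.subgroupOf_sup hAK hgK] at h3
    exact hKN ((hK.eq_of_subnormal le_rfl hTK h3).ge.trans hTN)
  have hjoin : ∀ (K : Subgroup G) (S : Finset G), (∀ g ∈ S, cj g A ≤ K ∧ ((cj g A).subgroupOf K).IsSubnormal) →
      ((S.sup fun g => cj g A).subgroupOf K).IsSubnormal := by
    intro K S
    induction S using Finset.induction_on with
    | empty => intro _; rw [Finset.sup_empty, Subgroup.bot_subgroupOf]; exact Subgroup.IsSubnormal.bot
    | insert a s _ ihs =>
      intro h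
      rw [Finset.sup_insert, Subgroup.subgroupOf_sup (h a (Finset.mem_insert_self _ _)).1
        (Finset.sup_le fun g hg => (h g (Finset.mem_insert_of_mem hg)).1)]
      exact SnJoin.isSubnormal_sup _ K rfl _ _ (h a (Finset.mem_insert_self _ _)).2
        (ihs fun g hg => h g (Finset.mem_insert_of_mem hg))
  have := Fintype.ofFinite G
  suffices ∀ M, IsCoatom M → A ≤ M → M = N₀ from fun M K hM hK hAM hAK => (this M hM hAM).trans (this K hK hAK).symm
  by_contra hno
  push Not at hno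
  obtain ⟨M₁, hM₁⟩ := hno
  have : Nonempty {M : Subgroup G // IsCoatom M ∧ A ≤ M ∧ M ≠ N₀} := ⟨⟨M₁, hM₁⟩⟩
  obtain ⟨⟨M, hM, hAM, hMN⟩, hmax⟩ := Finite.exists_max
    (fun M : {M : Subgroup G // IsCoatom M ∧ A ≤ M ∧ M ≠ N₀} => Nat.card (M.1 ⊓ N₀ : Subgroup G))
  -- the step inside `N₀`
  have hside : ∀ M, IsCoatom M → A ≤ M → M ≠ N₀ →
      ∃ n ∈ N₀, n ∉ M ∧ ∀ g, cj g A ≤ M ⊓ N₀ → cj (n * g) A ≤ M ⊓ N₀ := by
    intro M hM hAM hMN
    set D := M ⊓ N₀
    have hMD : ¬ M ≤ D := fun h => hMN (coatom_eq hM hN₀ (h.trans inf_le_right))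
    have hND : ¬ N₀ ≤ D := fun h => hMN (coatom_eq hN₀ hM (h.trans inf_le_left)).symm
    have hAD : A ≤ D := le_inf hAM hAN₀
    obtain ⟨C, x, hAC, hCD, hxM, hxD, hxC⟩ := exists_step
      (hsn M hM.1 hAM fun h => hMN (coatom_eq hM hN₀ h)) hAM hAD hMD
    set S₀ : Finset G := Finset.univ.filter fun g => cj g A ≤ D ∧ cj g N₀ ≠ N₀
    have hself : ∀ g, cj g N₀ = N₀ → g ∈ N₀ := fun g hg => by
      have h1 := mem_normalizer_of_cj hg
      rcases hN₀.le_iff.mp (Subgroup.le_normalizer (H := N₀)) with e | e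
      · exact absurd e (hnorm N₀ hAN₀ hN₀.1)
      · rwa [e] at h1
    have hxS : x ∈ S₀ := by
      refine Finset.mem_filter.mpr ⟨Finset.mem_univ _, ?_, fun e => hxD ⟨hxM, hself x e⟩⟩
      rintro _ ⟨a, ha, rfl⟩
      exact hCD (hxC a (hAC ha))
    set B := S₀.sup fun g => cj g A
    have hBD : B ≤ D := Finset.sup_le fun g hg => (Finset.mem_filter.mp hg).2.1
    have hBsn : (B.subgroupOf N₀).IsSubnormal := hjoin N₀ S₀ fun g hg =>
      ⟨(Finset.mem_filter.mp hg).2.1.trans inf_le_right, hsnc g N₀ hN₀.1 ((Finset.mem_filter.mp hg).2.1.trans inf_le_right)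
        fun h => (Finset.mem_filter.mp hg).2.2 (coatom_eq hN₀ (isCoatom_cj hN₀) h).symm⟩
    obtain ⟨C', n, hBC, hC'D, hnN, hnD, hnC⟩ := exists_step hBsn (hBD.trans inf_le_right) hBD hND
    have hS₀n : ∀ g ∈ S₀, n * g ∈ S₀ := by
      intro g hg
      refine Finset.mem_filter.mpr ⟨Finset.mem_univ _, ?_, fun e => (Finset.mem_filter.mp hg).2.2 ?_⟩
      · rw [← cj_mul]
        rintro _ ⟨a, ha, rfl⟩
        exact hC'D (hnC a (hBC (Finset.le_sup (f := fun g => cj g A) hg ha)))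
      · have := congrArg (cj n⁻¹) e
        rw [cj_mul, inv_mul_cancel_left] at this
        rw [this, cj_self_of_mem (N₀.inv_mem hnN)]
    have hAS : ∀ g ∈ S₀, A ≤ cj g N₀ := by
      intro g hg
      obtain ⟨h1, h2⟩ := (Finset.mem_filter.mp hg).2
      by_contra hA
      have h3 := hkey g M hM hMN hAM (h1.trans inf_le_left) (h1.trans inf_le_right) (Or.inr hA)
      exact h2 (cj_self_of_mem (hnA (mem_normalizer_of_cj h3)))
    have hnA' : cj n A = A := by
      have h1 := hAS x hxS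
      have h2 := hAS (n * x) (hS₀n x hxS)
      rw [← cj_mul, le_cj_iff] at h2
      have h3 := hkey n⁻¹ (cj x N₀) (isCoatom_cj hN₀) (Finset.mem_filter.mp hxS).2.2 h1 h2
        ((cj_mono hAN₀).trans (cj_self_of_mem (N₀.inv_mem hnN)).le) (Or.inl (cj_self_of_mem (N₀.inv_mem hnN)))
      have := congrArg (cj n) h3
      rwa [cj_mul, mul_inv_cancel, cj_one, eq_comm] at this
    refine ⟨n, hnN, fun h => hnD ⟨h, hnN⟩, fun g hg => ?_⟩
    by_cases hgS : cj g N₀ = N₀
    · have h1 := hkey g M hM hMN hAM (hg.trans inf_le_left) (hg.trans inf_le_right) (Or.inl hgS)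
      rw [← cj_mul, h1, hnA']
      exact hAD
    · exact (Finset.mem_filter.mp (hS₀n g (Finset.mem_filter.mpr ⟨Finset.mem_univ _, hg, hgS⟩))).2.1
  set D := M ⊓ N₀
  have hMD : ¬ M ≤ D := fun h => hMN (coatom_eq hM hN₀ (h.trans inf_le_right))
  have hAD : A ≤ D := le_inf hAM hAN₀
  obtain ⟨n, hnN, hnM, hnS⟩ := hside M hM hAM hMN
  -- the step inside `M`
  obtain ⟨y, hyM, hyD, hyS⟩ : ∃ y ∈ M, y ∉ D ∧ ∀ g, cj g A ≤ D → cj (y * g) A ≤ D := by
    by_cases hbad : ∃ g, cj g A ≤ D ∧ cj g N₀ = M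
    · obtain ⟨g₁, hg₁, hg₁M⟩ := hbad
      have hA' : A ≤ cj g₁⁻¹ N₀ := by
        rw [le_cj_iff, inv_inv]; exact hg₁.trans inf_le_right
      have hne' : cj g₁⁻¹ N₀ ≠ N₀ := fun e => hMN (by
        rw [← hg₁M]
        conv_lhs => rw [← e]
        rw [cj_mul, mul_inv_cancel, cj_one])
      obtain ⟨n', hn'N, hn'M, hn'S⟩ := hside (cj g₁⁻¹ N₀) (isCoatom_cj hN₀) hA' hne'
      have hD' : cj g₁ (cj g₁⁻¹ N₀ ⊓ N₀) = D := by
        rw [cj, Subgroup.map_inf _ _ _ (MulAut.conj g₁).injective]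
        show cj g₁ (cj g₁⁻¹ N₀) ⊓ cj g₁ N₀ = D
        rw [cj_mul, mul_inv_cancel, cj_one, hg₁M, inf_comm]
      refine ⟨g₁ * n' * g₁⁻¹, ?_, fun h => hn'M ?_, fun g hg => ?_⟩
      · rw [← hg₁M, mem_cj]; simpa [mul_assoc] using hn'N
      · rw [← hD', mem_cj] at h
        have : n' ∈ cj g₁⁻¹ N₀ ⊓ N₀ := by simpa [mul_assoc] using h
        exact this.1
      · have h1 : cj (g₁⁻¹ * g) A ≤ cj g₁⁻¹ N₀ ⊓ N₀ := by
          have := cj_mono (g := g₁⁻¹) hg
          rwa [cj_mul, ← hD', cj_mul g₁⁻¹ g₁, inv_mul_cancel, cj_one] at this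
        have h2 := cj_mono (g := g₁) (hn'S _ h1)
        rwa [cj_mul, hD', show g₁ * (n' * (g₁⁻¹ * g)) = g₁ * n' * g₁⁻¹ * g by group] at h2
    · push Not at hbad
      set S : Finset G := Finset.univ.filter fun g => cj g A ≤ D
      set B := S.sup fun g => cj g A
      have hBD : B ≤ D := Finset.sup_le fun g hg => (Finset.mem_filter.mp hg).2
      have hBsn : (B.subgroupOf M).IsSubnormal := hjoin M S fun g hg =>
        ⟨(Finset.mem_filter.mp hg).2.trans inf_le_left, hsnc g M hM.1 ((Finset.mem_filter.mp hg).2.trans inf_le_left)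
          fun h => hbad g (Finset.mem_filter.mp hg).2 (coatom_eq hM (isCoatom_cj hN₀) h).symm⟩
      obtain ⟨C, y, hBC, hCD, hyM, hyD, hyC⟩ := exists_step hBsn (hBD.trans inf_le_left) hBD hMD
      refine ⟨y, hyM, hyD, fun g hg => ?_⟩
      rw [← cj_mul]
      rintro _ ⟨a, ha, rfl⟩
      exact hCD (hyC a (hBC (Finset.le_sup (f := fun g => cj g A) (Finset.mem_filter.mpr ⟨Finset.mem_univ g, hg⟩) ha)))
  -- the stabiliser of the set of conjugates
  set B := (Finset.univ.filter fun g => cj g A ≤ D).sup fun g => cj g A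
  have hBD : B ≤ D := Finset.sup_le fun g hg => (Finset.mem_filter.mp hg).2
  have hAB : A ≤ B := by
    have h1 : cj (1 : G) A ≤ B := Finset.le_sup (f := fun g => cj g A)
      (Finset.mem_filter.mpr ⟨Finset.mem_univ _, by rw [cj_one]; exact hAD⟩)
    rwa [cj_one] at h1
  have hnormB : ∀ u, (∀ g, cj g A ≤ D → cj (u * g) A ≤ D) → u ∈ Subgroup.normalizer (B : Set G) := by
    intro u hu
    refine mem_normalizer_of_cj (Subgroup.eq_of_le_of_card_ge ?_ (card_cj u B).ge)
    rw [Subgroup.map_le_iff_le_comap]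
    refine Finset.sup_le fun g hg => ?_
    rw [← Subgroup.map_le_iff_le_comap]
    show cj u (cj g A) ≤ B
    rw [cj_mul]
    exact Finset.le_sup (f := fun g => cj g A) (Finset.mem_filter.mpr ⟨Finset.mem_univ _, hu g (Finset.mem_filter.mp hg).2⟩)
  have hDB : D ≤ Subgroup.normalizer (B : Set G) := fun d hd => hnormB d fun g hg => by
    rw [← cj_mul]
    exact (cj_mono hg).trans (cj_self_of_mem hd).le
  obtain ⟨Q, hQ, hQle⟩ := (eq_top_or_exists_le_coatom (Subgroup.normalizer (B : Set G))).resolve_left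
    (hnorm B hAB fun e => hM.1 (top_le_iff.mp (e.ge.trans (hBD.trans inf_le_left))))
  by_cases hQN : Q = N₀
  · subst hQN
    exact hyD ⟨hyM, hQle (hnormB y hyS)⟩
  · have h1 := hmax ⟨Q, hQ, (hAD.trans hDB).trans hQle, hQN⟩
    have h2 : D ≤ Q ⊓ N₀ := le_inf (hDB.trans hQle) inf_le_right
    have h3 := Subgroup.eq_of_le_of_card_ge h2 h1
    exact hnM (h3.ge ⟨hQle (hnormB n hnS), hnN⟩).1

end Cfsg.Agent.Grp.Residual
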