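import Mathlib
import Cfsg.Agent.Lib.Grp.SL2Core
import Cfsg.Agent.Lib.Grp.SL2Minimal
import Cfsg.Agent.Lib.Grp.Frattini
import Cfsg.Agent.Lib.Grp.Coprime
import Cfsg.Agent.Lib.Grp.Signalizer
import Cfsg.Agent.Lib.Transfer.MaxClass

/-!
Subgroups of order prime to `p` of `SL(2, F)` normalized but not centralized by a `p`-element.
-/

set_option autoImplicit false

namespace Cfsg.Agent.Grp.SL2

open Subgroup
open scoped commutatorElement Pointwise

variable {F : Type*} [Field F] [Fintype F]

local notation "SL₂" => Matrix.SpecialLinearGroup (Fin 2) F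

variable {p : ℕ} [hp : Fact p.Prime] [CharP F p]

theorem commute_ucs_two_commutator {X : Type*} [Group X] {u v : X}
    (hu : u ∈ Subgroup.upperCentralSeries X 2) (hv : v ∈ commutator X) : u * v = v * u := by
  have hu' : ∀ y, ⁅u, y⁆ ∈ Subgroup.center X := fun y => by
    have h := Subgroup.mem_upperCentralSeries_succ_iff.mp hu y
    rwa [Subgroup.upperCentralSeries_one] at h
  have hle : commutator X ≤ (Subgroup.centralizer ({u} : Set X)) := by
    rw [commutator_def, Subgroup.commutator_le]
    intro y _ y' _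
    rw [Subgroup.mem_centralizer_singleton_iff]
    have hy : ∀ w, u * w * u⁻¹ = ⁅u, w⁆ * w := fun w => by rw [commutatorElement_def]; group
    have h1 := Subgroup.mem_center_iff.mp (hu' y)
    have h2 := Subgroup.mem_center_iff.mp (hu' y')
    have key : ∀ c d : X, (∀ g, g * c = c * g) → (∀ g, g * d = d * g) → ⁅c * y, d * y'⁆ = ⁅y, y'⁆ := by
      intro c d hc hd
      simp only [commutatorElement_def, mul_inv_rev]
      calc c * y * (d * y') * (y⁻¹ * c⁻¹) * (y'⁻¹ * d⁻¹)
          = c * (y * d) * y' * y⁻¹ * c⁻¹ * y'⁻¹ * d⁻¹ := by group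
        _ = c * (d * y) * y' * y⁻¹ * c⁻¹ * y'⁻¹ * d⁻¹ := by rw [hd y]
        _ = (c * d) * (y * y' * y⁻¹) * c⁻¹ * y'⁻¹ * d⁻¹ := by group
        _ = (d * c) * (y * y' * y⁻¹) * c⁻¹ * y'⁻¹ * d⁻¹ := by rw [hd c]
        _ = d * (c * (y * y' * y⁻¹)) * c⁻¹ * y'⁻¹ * d⁻¹ := by group
        _ = d * ((y * y' * y⁻¹) * c) * c⁻¹ * y'⁻¹ * d⁻¹ := by rw [hc (y * y' * y⁻¹)]
        _ = d * (y * y' * y⁻¹ * y'⁻¹) * d⁻¹ := by group
        _ = _ := by rw [← hd, mul_inv_cancel_right]
    have h3 : u * ⁅y, y'⁆ * u⁻¹ = ⁅y, y'⁆ := by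
      have e : u * ⁅y, y'⁆ * u⁻¹ = ⁅u * y * u⁻¹, u * y' * u⁻¹⁆ := by simp only [commutatorElement_def]; group
      rw [e, hy, hy, key _ _ h1 h2]
    exact (mul_inv_eq_iff_eq_mul.mp h3).symm
  exact (Subgroup.mem_centralizer_singleton_iff.mp (hle hv)).symm

theorem isScalar_of_commuting (hodd : p ≠ 2) {R : Subgroup (Matrix.SpecialLinearGroup (Fin 2) F)}
    (hR : (Nat.card R).Coprime p) {a : SL₂} (ha : tr a = 2) (ha1 : a ≠ 1) {x : SL₂} (hx : x ∈ R)
    (hc : Commute x (a * x * a⁻¹)) : IsScalar x := by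
  by_contra hns
  refine ha1 (IsSemi.not_normalize (p := p) hodd ha
    (isSemi_of_coprime (H := R) hodd (x := ⟨x, hx⟩) hns ?_) hc)
  exact Nat.Coprime.coprime_dvd_left (orderOf_dvd_natCard _) hR

/-- The structure of such a subgroup. -/
theorem normalized_structure (hodd : p ≠ 2) (R : Subgroup (Matrix.SpecialLinearGroup (Fin 2) F))
    (hR : (Nat.card R).Coprime p) {a : SL₂} (hak : ∃ k : ℕ, a ^ p ^ k = 1)
    (haR : a ∈ normalizer (R : Set SL₂)) (hnt : ⁅R, zpowers a⁆ ≠ ⊥) :
    p = 3 ∧ Nonempty (↥R ≃* QuaternionGroup 2) ∧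
      Nonempty (↥(R ⊔ zpowers a) ≃* Matrix.SpecialLinearGroup (Fin 2) (ZMod 3)) := by
  classical
  have h2 := two_ne_zero' (F := F) p hodd
  obtain ⟨k, hk⟩ := hak
  have ha : tr a = 2 := tr_eq_two_of_pPower p hodd hk
  have ha1 : a ≠ 1 := by
    rintro rfl
    exact hnt (by rw [Subgroup.zpowers_one_eq_bot, Subgroup.commutator_bot_right])
  have hap : orderOf a = p := orderOf_eq_prime (unipotent_pow p ha) ha1
  -- an invariant abelian subgroup consists of scalars
  have hab : ∀ A : Subgroup (Matrix.SpecialLinearGroup (Fin 2) F), A ≤ R →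
      (∀ x ∈ A, ∀ y ∈ A, Commute x y) → (∀ x ∈ A, a * x * a⁻¹ ∈ A) → ∀ x ∈ A, IsScalar x :=
    fun A hA hc hinv x hx => isScalar_of_commuting hodd hR ha ha1 (hA hx) (hc x hx _ (hinv x hx))
  have hone : ∀ x : SL₂, IsScalar x → x * x = 1 := by
    rintro x (rfl | rfl) <;> simp
  -- `R` is a `2`-group
  have han : zpowers a ≤ normalizer (R : Set SL₂) := zpowers_le.mpr haR
  have hcop : (Nat.card ↥(zpowers a)).Coprime (Nat.card R) := by
    rw [Nat.card_zpowers, hap]; exact hR.symm
  have hR2 : IsPGroup 2 R := by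
    have hall : ∀ {q : ℕ}, q.Prime → q ∣ Nat.card R → q = 2 := by
      intro q hq hqR
      by_contra hq2
      haveI := Fact.mk hq
      obtain ⟨X, hX, hXa⟩ := exists_invariant_sylow (zpowers a) R han hcop (Or.inl inferInstance) q
      have hXne : X ≠ ⊥ := fun e => by
        have h := hX.card
        rw [e, Subgroup.card_bot] at h
        exact absurd h.symm (Nat.one_lt_pow (hq.factorization_pos_of_dvd Nat.card_pos.ne' hqR).ne' hq.one_lt).ne'
      haveI : Nontrivial X := (Subgroup.nontrivial_iff_ne_bot X).mpr hXne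
      haveI := hX.2.1.center_nontrivial
      obtain ⟨z, hz⟩ := exists_ne (1 : Subgroup.center X)
      have hzs : IsScalar ((z : X) : SL₂) := by
        refine hab ((Subgroup.center X).map X.subtype) ((Subgroup.map_subtype_le _).trans hX.1) ?_ ?_ _
          ⟨_, z.2, rfl⟩
        · rintro _ ⟨u, hu, rfl⟩ _ ⟨v, -, rfl⟩
          exact (congrArg Subtype.val (Subgroup.mem_center_iff.mp hu v)).symm
        · rintro _ ⟨u, hu, rfl⟩
          refine ⟨⟨a * u * a⁻¹, mem_conj_normalizer (hXa (mem_zpowers a)) u.2⟩, ?_, rfl⟩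
          refine Subgroup.mem_center_iff.mpr fun v => Subtype.ext ?_
          have h := congrArg Subtype.val
            (Subgroup.mem_center_iff.mp hu ⟨a⁻¹ * v * a, mem_conj_normalizer' (hXa (mem_zpowers a)) v.2⟩)
          simp only [Subgroup.coe_mul] at h ⊢
          calc (v : SL₂) * (a * u * a⁻¹) = a * ((a⁻¹ * v * a) * u) * a⁻¹ := by group
            _ = a * ((u : SL₂) * (a⁻¹ * v * a)) * a⁻¹ := by rw [h]
            _ = _ := by group
      have hord : ((z : X) : X) * (z : X) = 1 := Subtype.ext (hone _ hzs)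
      obtain ⟨j, hj⟩ := hX.2.1 (z : X)
      have h1 : orderOf (z : X) = 1 := Nat.eq_one_of_dvd_coprimes
        (((Nat.coprime_primes hq Nat.prime_two).mpr hq2).pow_left j)
        (orderOf_dvd_of_pow_eq_one hj) (orderOf_dvd_of_pow_eq_one (by rw [pow_two]; exact hord))
      exact hz (Subtype.ext (orderOf_eq_one_iff.mp h1))
    exact IsPGroup.of_card (Nat.eq_prime_pow_of_unique_prime_dvd Nat.card_pos.ne' hall)
  haveI : Group.IsNilpotent R := hR2.isNilpotent
  -- the automorphism of `R` induced by `a`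
  set σ : MulAut R := R.normalizerMonoidHom ⟨a, haR⟩ with hσ
  have hσv : ∀ x : R, ((σ x : R) : SL₂) = a * x * a⁻¹ := fun x => rfl
  have hchar : ∀ D : Subgroup R, D.Characteristic → (∀ x ∈ D, ∀ y ∈ D, x * y = y * x) →
      ∀ x ∈ D, IsScalar ((x : R) : SL₂) := by
    intro D hD hc x hx
    refine hab (D.map R.subtype) (Subgroup.map_subtype_le _) ?_ ?_ _ ⟨x, hx, rfl⟩
    · rintro _ ⟨u, hu, rfl⟩ _ ⟨v, hv, rfl⟩
      exact congrArg Subtype.val (hc u hu v hv)
    · rintro _ ⟨u, hu, rfl⟩
      refine ⟨σ u, ?_, hσv u⟩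
      have h := (hD.fixed σ).ge hu
      exact h
  have hcent : ∀ x : R, IsScalar (x : SL₂) → x ∈ Subgroup.center R := fun x hx =>
    Subgroup.mem_center_iff.mpr fun y => Subtype.ext (hx.commute (y : SL₂)).eq.symm
  have hZs : ∀ x ∈ Subgroup.center R, IsScalar (x : SL₂) :=
    hchar _ inferInstance fun x _ y hy => Subgroup.mem_center_iff.mp hy x
  have hcl : ∀ x ∈ commutator R, x ∈ Subgroup.center R := by
    set U := Subgroup.upperCentralSeries R 2 with hU
    have hUc : U.Characteristic := inferInstance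
    set D := U ⊓ commutator R with hDdef
    have hD : ∀ x ∈ D, IsScalar (x : SL₂) := by
      refine hchar D ?_ fun u hu v hv => ?_
      · refine Subgroup.characteristic_iff_le_comap.mpr fun φ w hw => ⟨?_, ?_⟩
        · exact Subgroup.characteristic_iff_le_comap.mp hUc φ hw.1
        · exact Subgroup.characteristic_iff_le_comap.mp (inferInstance : (commutator R).Characteristic) φ hw.2
      · exact commute_ucs_two_commutator hu.1 hv.2
    by_contra hne
    push Not at hne
    obtain ⟨c₀, hc₀, hc₀'⟩ := hne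
    haveI : Group.IsNilpotent (↥R ⧸ Subgroup.center R) :=
      Group.nilpotent_of_surjective (QuotientGroup.mk' (Subgroup.center R)) (QuotientGroup.mk'_surjective _)
    haveI : ((commutator R).map (QuotientGroup.mk' (Subgroup.center R))).Normal :=
      (inferInstance : (commutator R).Normal).map _ (QuotientGroup.mk'_surjective _)
    refine inf_center_ne_bot ((commutator R).map (QuotientGroup.mk' (Subgroup.center R)))
      (fun e => hc₀' ?_) ((Subgroup.eq_bot_iff_forall _).mpr ?_)
    · have h : QuotientGroup.mk' (Subgroup.center R) c₀ ∈ (⊥ : Subgroup _) := e ▸ ⟨c₀, hc₀, rfl⟩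
      exact (QuotientGroup.eq_one_iff c₀).mp (Subgroup.mem_bot.mp h)
    · rintro _ ⟨⟨c, hc, rfl⟩, hcz⟩
      refine (QuotientGroup.eq_one_iff c).mpr (hcent c (hD c ⟨?_, hc⟩))
      show c ∈ Subgroup.upperCentralSeries (↥R) (1 + 1)
      rw [Subgroup.mem_upperCentralSeries_succ_iff]
      intro y
      rw [Subgroup.upperCentralSeries_one, ← QuotientGroup.eq_one_iff, ← QuotientGroup.mk'_apply,
        map_commutatorElement, commutatorElement_eq_one_iff_mul_comm]
      exact (Subgroup.mem_center_iff.mp hcz _).symm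
  have hcomm : ∀ x y : R, IsScalar ((⁅x, y⁆ : R) : SL₂) := fun x y =>
    hZs _ (hcl _ (Subgroup.commutator_mem_commutator (mem_top x) (mem_top y)))
  have hsq : ∀ x : R, ¬ IsScalar (x : SL₂) → (x : SL₂) * x = -1 := by
    intro x hx
    have hz : IsScalar ((x * x : R) : SL₂) := by
      refine hZs _ (Subgroup.mem_center_iff.mpr fun y => ?_)
      have hc := hcent _ (hcomm x y)
      have e : ⁅x * x, y⁆ = 1 := by
        have h2' : ⁅x, y⁆ * ⁅x, y⁆ = 1 := Subtype.ext (hone _ (hcomm x y))
        calc ⁅x * x, y⁆ = x * ⁅x, y⁆ * x⁻¹ * ⁅x, y⁆ := by simp only [commutatorElement_def]; group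
          _ = 1 := by rw [Subgroup.mem_center_iff.mp hc x, mul_inv_cancel_right, h2']
      exact (commutatorElement_eq_one_iff_mul_comm.mp e).symm
    rcases hz with h | h
    · exact absurd (mul_self_eq_one h2 h) hx
    · exact h
  -- `R` is not abelian
  obtain ⟨x, r, hxr⟩ : ∃ x r : R, x * r ≠ r * x := by
    by_contra hne
    push Not at hne
    refine hnt ((Subgroup.eq_bot_iff_forall _).mpr fun z hz => ?_)
    have hle : ⁅R, zpowers a⁆ ≤ ⊥ := by
      rw [Subgroup.commutator_le]
      intro u hu b hb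
      rw [Subgroup.mem_bot, commutatorElement_eq_one_iff_mul_comm]
      exact ((hab R le_rfl (fun s hs t ht => congrArg Subtype.val (hne ⟨s, hs⟩ ⟨t, ht⟩))
        (fun s hs => mem_conj_normalizer haR hs) u hu).commute b).eq
    exact hle hz
  have hxs : ¬ IsScalar (x : SL₂) := fun h => hxr (Subtype.ext (h.commute (r : SL₂)).eq)
  have hrs : ¬ IsScalar (r : SL₂) := fun h => hxr (Subtype.ext (h.commute (x : SL₂)).eq.symm)
  have hxx := hsq x hxs
  have hneg : ((x * x : R) : SL₂) = -1 := hxx
  set e : R := x * x with he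
  have hee : e * e = 1 := Subtype.ext (hone _ (Or.inr hneg))
  have hsc : ∀ y : R, IsScalar (y : SL₂) → y = 1 ∨ y = e := fun y hy => hy.imp
    (fun h => Subtype.ext h) (fun h => Subtype.ext (h.trans hneg.symm))
  let S : Finset R := {1, e, x, x * e}
  have hC : ∀ y : R, x * y = y * x → y ∈ S := by
    intro y hy
    by_cases hys : IsScalar (y : SL₂)
    · rcases hsc y hys with h | h <;> simp [S, h]
    · have hyy : y * y = e := Subtype.ext ((hsq y hys).trans hneg.symm)
      have hxy : IsScalar ((x * y : R) : SL₂) := mul_self_eq_one h2 (by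
        have h : (x * y) * (x * y) = 1 := by
          calc (x * y) * (x * y) = x * (y * x) * y := by group
            _ = (x * x) * (y * y) := by rw [← hy]; group
            _ = 1 := by rw [hyy]; exact hee
        exact congrArg Subtype.val h)
      rcases hsc _ hxy with h | h
      · have : y = x * e := by
          calc y = x⁻¹ * (x * y) := by group
            _ = x⁻¹ := by rw [h, mul_one]
            _ = x⁻¹ * (e * e) := by rw [hee, mul_one]
            _ = x * e := by rw [he]; group
        simp [S, this]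
      · have : y = x := mul_left_cancel h
        simp [S, this]
  have hcover : (Finset.univ : Finset R) ⊆ S ∪ S.image (fun s => r * s) := by
    intro y _
    rw [Finset.mem_union]
    by_cases hy : x * y = y * x
    · exact Or.inl (hC y hy)
    · right
      refine Finset.mem_image.mpr ⟨r⁻¹ * y, hC _ ?_, mul_inv_cancel_left r y⟩
      have hm : ∀ z : R, x * z ≠ z * x → z * x * z⁻¹ = e * x := by
        intro z hz
        have h1 : ⁅z, x⁆ = e := (hsc _ (hcomm z x)).resolve_left fun h =>
          hz (commutatorElement_eq_one_iff_mul_comm.mp h).symm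
        rw [← h1, commutatorElement_def]; group
      have h1 : r⁻¹ * y * x * (r⁻¹ * y)⁻¹ = x := by
        calc r⁻¹ * y * x * (r⁻¹ * y)⁻¹ = r⁻¹ * (y * x * y⁻¹) * r := by group
          _ = r⁻¹ * (r * x * r⁻¹) * r := by rw [hm y hy, hm r hxr]
          _ = x := by group
      exact (mul_inv_eq_iff_eq_mul.mp h1).symm
  have hle8 : Nat.card R ≤ 8 := by
    rw [Nat.card_eq_fintype_card, ← Finset.card_univ]
    refine (Finset.card_le_card hcover).trans ((Finset.card_union_le _ _).trans ?_)
    have h4 : S.card ≤ 4 := by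
      refine (Finset.card_insert_le _ _).trans (Nat.succ_le_succ ?_)
      refine (Finset.card_insert_le _ _).trans (Nat.succ_le_succ ?_)
      exact (Finset.card_insert_le _ _).trans (by simp)
    have := Finset.card_image_le (s := S) (f := fun s => r * s)
    omega
  have ho : orderOf x = 4 := by
    have h : orderOf x = 2 ^ 2 := orderOf_eq_prime_pow (fun h => hxs (mul_self_eq_one h2 (by
        rw [pow_one, pow_two] at h
        exact congrArg Subtype.val h))) (by
        rw [show (2 : ℕ) ^ (1 + 1) = 2 + 2 by norm_num, pow_add, pow_two, ← he]; exact hee)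
    simpa using h
  have hrx : r ∉ zpowers x := fun h => by
    obtain ⟨i, hi⟩ := Subgroup.mem_zpowers_iff.mp h
    exact hxr (by rw [← hi]; exact ((Commute.refl x).zpow_right i).eq)
  have hcard : Nat.card R = 8 := by
    obtain ⟨n, hn⟩ := IsPGroup.iff_card.mp hR2
    have h4 : 4 < Nat.card R := by
      by_contra h4
      push Not at h4
      have h5 : zpowers x = ⊤ := Subgroup.eq_top_of_le_card _ (by rw [Nat.card_zpowers, ho]; exact h4)
      exact hrx (h5 ▸ mem_top r)
    rw [hn] at h4 hle8 ⊢
    have hlo : 2 < n := (Nat.pow_lt_pow_iff_right one_lt_two).mp (show 2 ^ 2 < 2 ^ n by simpa using h4)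
    have hhi : n ≤ 3 := (Nat.pow_le_pow_iff_right one_lt_two).mp (show 2 ^ n ≤ 2 ^ 3 by simpa using hle8)
    obtain rfl : n = 3 := by omega
    norm_num
  have hQ : Nonempty (↥R ≃* QuaternionGroup 2) := by
    refine Transfer.MaxClass.nonempty_quaternion (m := 2) (by norm_num) (a := x) (x := r) ho ?_ hrx ?_ ?_
    · have h := (zpowers x).card_mul_index
      rw [Nat.card_zpowers, ho, hcard] at h
      omega
    · rw [pow_two]; exact Subtype.ext ((hsq r hrs).trans hxx.symm)
    · have h1 : ⁅r, x⁆ = e := (hsc _ (hcomm r x)).resolve_left fun h =>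
        hxr (commutatorElement_eq_one_iff_mul_comm.mp h).symm
      calc r * x * r⁻¹ = ⁅r, x⁆ * x := by rw [commutatorElement_def]; group
        _ = e * x := by rw [h1]
        _ = e⁻¹ * x := by rw [show e⁻¹ = e from inv_eq_of_mul_eq_one_left hee]
        _ = x⁻¹ := by rw [he]; group
  -- `p = 3`: `a` permutes the six non-scalar elements without fixed points
  have hp3 : p = 3 := by
    let N := {y : R // ¬ IsScalar (y : SL₂)}
    have hσN : ∀ y : R, ¬ IsScalar (y : SL₂) ↔ ¬ IsScalar ((σ y : R) : SL₂) := fun y => by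
      rw [hσv, IsScalar.conj_iff]
    let τ : Equiv.Perm N := σ.toEquiv.subtypeEquiv hσN
    have hτ : τ ^ p = 1 := by
      have hpow : ∀ (i : ℕ) (y : N), (((τ ^ i) y : N) : R) = (σ ^ i) (y : R) := by
        intro i
        induction i with
        | zero => intro y; rfl
        | succ i ih => intro y; rw [pow_succ', pow_succ']; show σ (((τ ^ i) y : N) : R) = _; rw [ih]; rfl
      have hσp : σ ^ p = 1 := by
        rw [hσ, ← map_pow, show (⟨a, haR⟩ : normalizer (R : Set SL₂)) ^ p = 1 from
          Subtype.ext (unipotent_pow p ha), map_one]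
      ext y
      rw [hpow, hσp]
      rfl
    have hfix : ∀ y : N, τ y ≠ y := by
      intro y hy
      have h : (σ (y : R) : R) = (y : R) := congrArg Subtype.val hy
      refine y.2 (isScalar_of_commuting hodd hR ha ha1 (y : R).2 ?_)
      have h' : a * ((y : R) : SL₂) * a⁻¹ = ((y : R) : SL₂) := (hσv _).symm.trans (congrArg Subtype.val h)
      rw [h']
    haveI := Fintype.ofFinite N
    have hdvd : p ∣ Fintype.card N := by
      by_contra hnd
      obtain ⟨y, hy⟩ := Equiv.Perm.exists_fixed_point_of_prime (n := 1) hnd (σ := τ) (by rw [pow_one]; exact hτ)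
      exact hfix y hy
    have h6 : Fintype.card N = 6 := by
      have h1 := Fintype.card_subtype_compl (fun y : R => IsScalar (y : SL₂))
      have h2' : Fintype.card {y : R // IsScalar (y : SL₂)} = 2 := by
        rw [Fintype.card_subtype]
        have hne : (1 : R) ≠ e := fun h => hxs (mul_self_eq_one h2 (congrArg Subtype.val (he ▸ h.symm)))
        rw [show Finset.univ.filter (fun y : R => IsScalar (y : SL₂)) = {1, e} from ?_]
        · exact Finset.card_pair hne
        · ext y
          simp only [Finset.mem_filter, Finset.mem_univ, true_and, Finset.mem_insert, Finset.mem_singleton]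
          refine ⟨hsc y, ?_⟩
          rintro (rfl | rfl)
          · exact Or.inl rfl
          · exact Or.inr hneg
      rw [h2', ← Nat.card_eq_fintype_card (α := R), hcard] at h1
      convert h1 using 1
    rw [h6] at hdvd
    have h36 : p ≤ 6 := Nat.le_of_dvd (by norm_num) hdvd
    have hp' := hp.out
    interval_cases p <;> first | omega | (revert hp' hdvd; norm_num)
  refine ⟨hp3, hQ, ?_⟩
  set L := R ⊔ zpowers a with hL
  have hLc : Nat.card L = 24 := by
    have h1 := card_sup_mul_card_inf han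
    have h3 : Nat.card ↥(zpowers a ⊓ R) = 1 := Nat.eq_one_of_dvd_coprimes hcop
      (Subgroup.card_dvd_of_le inf_le_left) (Subgroup.card_dvd_of_le inf_le_right)
    rw [sup_comm, inf_comm, inf_comm, h3, mul_one, Nat.card_zpowers, hap, hcard, hp3, ← hL] at h1
    exact h1
  obtain ⟨g, hg, hga⟩ : ∃ g ∈ R, ¬ Commute a (g * a * g⁻¹) := by
    by_contra hne
    push Not at hne
    refine hnt ((Subgroup.eq_bot_iff_forall _).mpr fun z hz => ?_)
    have hle : ⁅R, zpowers a⁆ ≤ ⊥ := by
      rw [Subgroup.commutator_le]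
      intro u hu b hb
      obtain ⟨i, rfl⟩ := Subgroup.mem_zpowers_iff.mp hb
      rw [Subgroup.mem_bot, commutatorElement_eq_one_iff_mul_comm]
      refine ((show Commute u a from ?_).zpow_right i).eq
      show u * a = a * u
      rw [← commutatorElement_eq_one_iff_mul_comm]
      have h1 : ⁅u, a⁆ ∈ R := by
        rw [commutatorElement_def, show u * a * u⁻¹ * a⁻¹ = u * (a * u⁻¹ * a⁻¹) by group]
        exact R.mul_mem hu (mem_conj_normalizer haR (R.inv_mem hu))
      have h3 : ⁅u, a⁆ ^ p = 1 := by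
        rw [commutatorElement_def, (show Commute (u * a * u⁻¹) a⁻¹ from (hne u hu).symm.inv_right).mul_pow,
          conj_pow, inv_pow, unipotent_pow p ha, mul_one, mul_inv_cancel, inv_one, one_mul]
      have h4 : orderOf ⁅u, a⁆ = 1 := Nat.eq_one_of_dvd_coprimes hR
        (by rw [← Subgroup.orderOf_mk _ h1]; exact orderOf_dvd_natCard _) (orderOf_dvd_of_pow_eq_one h3)
      exact orderOf_eq_one_iff.mp h4
    exact hle hz
  obtain ⟨K, hKL, ⟨φ⟩⟩ := exists_equiv_of_pair hodd L (a := a) (b := g * a * g⁻¹) (mem_sup_right (mem_zpowers a))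
    (L.mul_mem (L.mul_mem (mem_sup_left hg) (mem_sup_right (mem_zpowers a))) (L.inv_mem (mem_sup_left hg)))
    ha (by rw [tr_conj]; exact ha) hga
  subst hp3
  have hK : K = L := Subgroup.eq_of_le_of_card_ge hKL (by
    rw [hLc, Nat.card_congr φ.toEquiv, Nat.card_eq_fintype_card]
    decide)
  exact ⟨(MulEquiv.subgroupCongr hK.symm).trans φ⟩

end Cfsg.Agent.Grp.SL2
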