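import Cfsg.Agent.Lib.Grp.SLTwoUpperLower

/-! Finite subgroups of `SL(2)` over any field with two independent upper transvections and a lower
one contain the special linear group over a finite subfield. -/

set_option autoImplicit false

namespace Cfsg.Agent.Grp.UpperLower

open Matrix Cfsg.Agent.Grp.SL2 Cfsg.Agent.Fus.AdjoinSL

variable {K : Type*} [Field K] (p : ℕ) [hp : Fact p.Prime] [CharP K p]

include hp

/-- A finite group of matrices spans a finite ring. -/
theorem exists_finite_ring (D : Subgroup (Matrix.SpecialLinearGroup (Fin 2) K)) [Finite D] :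
    ∃ S : Subring (Matrix (Fin 2) (Fin 2) K), Finite S ∧ ∀ A ∈ D, (A : Matrix _ _ K) ∈ S := by
  letI : Algebra (ZMod p) K := ZMod.algebra K p
  set G : Set (Matrix (Fin 2) (Fin 2) K) := (fun A : Matrix.SpecialLinearGroup (Fin 2) K => (A : Matrix (Fin 2) (Fin 2) K)) '' (D : Set _)
    with hG
  set R := Algebra.adjoin (ZMod p) G
  have hfin : G.Finite := by rw [hG]; exact (Set.toFinite _).image _
  have hR : Subalgebra.toSubmodule R = Submodule.span (ZMod p) G := by
    rw [Algebra.adjoin_eq_span]
    congr 1
    let f : Matrix.SpecialLinearGroup (Fin 2) K →* Matrix (Fin 2) (Fin 2) K :=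
      { toFun := fun A => (A : Matrix (Fin 2) (Fin 2) K)
        map_one' := rfl
        map_mul' := fun _ _ => rfl }
    have : Submonoid.closure G = D.toSubmonoid.map f := by
      refine le_antisymm (Submonoid.closure_le.2 ?_) ?_
      · rintro _ ⟨A, hA, rfl⟩; exact ⟨A, hA, rfl⟩
      · rintro _ ⟨A, hA, rfl⟩; exact Submonoid.subset_closure ⟨A, hA, rfl⟩
    rw [this]; rfl
  haveI : Module.Finite (ZMod p) (Submodule.span (ZMod p) G) :=
    Module.Finite.span_of_finite (ZMod p) hfin
  haveI : Finite (Submodule.span (ZMod p) G) := Module.finite_of_finite (ZMod p)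
  refine ⟨R.toSubring, ?_, fun A hA => Algebra.subset_adjoin ⟨A, hA, rfl⟩⟩
  exact Finite.of_injective (fun x => (⟨x.1, hR ▸ x.2⟩ : Submodule.span (ZMod p) G))
    fun x y h => Subtype.ext (congrArg Subtype.val h :)

/-- The subfield spanned by the upper parameters. -/
theorem exists_subfield (D : Subgroup (Matrix.SpecialLinearGroup (Fin 2) K)) [Finite D] {μ k : K}
    (hk : k ≠ 0) (h1 : up (1 : K) ∈ D) (hμ : up μ ∈ D) (hμp : ∀ n : ℕ, μ ≠ n)
    (hlow : low k ∈ D) :
    ∃ L : Subfield K, Finite L ∧ (∀ s, up s ∈ D → s ∈ L) ∧ k ∈ L ∧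
      ∀ A : Matrix.SpecialLinearGroup (Fin 2) K, (∀ i j, A.1 i j ∈ L) → A ∈ D := by
  classical
  obtain ⟨S, hS, hDS⟩ := exists_finite_ring p D
  -- the corner of the ring
  let E : Matrix (Fin 2) (Fin 2) K := !![1, 0; 0, 0]
  have hup : ∀ s, up s ∈ D → (!![0, s; 0, 0] : Matrix (Fin 2) (Fin 2) K) ∈ S := fun s hs => by
    have := S.sub_mem (hDS _ hs) S.one_mem
    convert this using 1
    ext i j; fin_cases i <;> fin_cases j <;> simp [coe_up]
  have hlo : (!![0, 0; k, 0] : Matrix (Fin 2) (Fin 2) K) ∈ S := by
    have := S.sub_mem (hDS _ hlow) S.one_mem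
    convert this using 1
    ext i j; fin_cases i <;> fin_cases j <;> simp [coe_low]
  have hcorner : ∀ s, up s ∈ D → (s * k) • E ∈ S := fun s hs => by
    have := S.mul_mem (hup s hs) hlo
    convert this using 1
    ext i j; fin_cases i <;> fin_cases j <;> simp [E, Matrix.mul_apply]
  let C : NonUnitalSubring K :=
    { carrier := {x | x • E ∈ S}
      add_mem' := fun {x y} hx hy => by
        show (x + y) • E ∈ S
        rw [add_smul]; exact S.add_mem hx hy
      zero_mem' := by show (0 : K) • E ∈ S; rw [zero_smul]; exact S.zero_mem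
      neg_mem' := fun {x} hx => by show (-x) • E ∈ S; rw [neg_smul]; exact S.neg_mem hx
      mul_mem' := fun {x y} hx hy => by
        show (x * y) • E ∈ S
        have e : (x * y) • E = (x • E) * (y • E) := by
          ext i j; fin_cases i <;> fin_cases j <;> simp [E, Matrix.mul_apply]
        rw [e]; exact S.mul_mem hx hy }
  haveI : Finite C := Finite.of_injective (fun x => (⟨(x : K) • E, x.2⟩ : S)) fun x y h => by
    have := congrFun (congrFun (congrArg Subtype.val h) 0) 0
    exact Subtype.ext (by simpa [E] using this)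
  have hk1 : k ∈ C := by
    have := hcorner 1 h1
    rw [one_mul] at this
    exact this
  -- a finite field containing the corner
  have hpow : ∀ x ∈ C, x ≠ 0 → ∃ n : ℕ, x ^ (n + 1) = 1 := by
    intro x hx hx0
    obtain ⟨i, j, hij, e⟩ := Finite.exists_ne_map_eq_of_infinite
      (fun n : ℕ => (⟨x ^ (n + 1), by
        induction n with
        | zero => simpa using hx
        | succ n ih => rw [pow_succ]; exact C.mul_mem ih hx⟩ : C))
    have e' : x ^ (i + 1) = x ^ (j + 1) := congrArg Subtype.val e
    rcases hij.lt_or_gt with h | h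
    · refine ⟨j - i - 1, ?_⟩
      rw [show j + 1 = i + 1 + (j - i - 1 + 1) by omega,
        pow_add x (i + 1)] at e'
      exact (mul_eq_left₀ (pow_ne_zero (i + 1) hx0)).1 e'.symm
    · refine ⟨i - j - 1, ?_⟩
      rw [show i + 1 = j + 1 + (i - j - 1 + 1) by omega,
        pow_add x (j + 1)] at e'
      exact (mul_eq_left₀ (pow_ne_zero (j + 1) hx0)).1 e'
  let L0 : Subfield K :=
    { carrier := {x | x ∈ C}
      mul_mem' := fun hx hy => C.mul_mem hx hy
      one_mem' := by
        obtain ⟨n, hn⟩ := hpow k hk1 hk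
        show (1 : K) ∈ C
        rw [← hn]
        clear hn
        induction n with
        | zero => simpa using hk1
        | succ n ih => rw [pow_succ]; exact C.mul_mem ih hk1
      add_mem' := fun hx hy => C.add_mem hx hy
      zero_mem' := C.zero_mem
      neg_mem' := fun hx => C.neg_mem hx
      inv_mem' := fun x hx => by
        show x⁻¹ ∈ C
        by_cases hx0 : x = 0
        · rw [hx0, _root_.inv_zero]; exact C.zero_mem
        obtain ⟨n, hn⟩ := hpow x hx hx0
        have e : x⁻¹ = x ^ (n + n + 1) :=
          (eq_inv_of_mul_eq_one_left (by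
            rw [← pow_succ, show n + n + 1 + 1 = (n + 1) + (n + 1) by omega, pow_add, hn, one_mul])).symm
        rw [e]
        clear e hn
        induction (n + n) with
        | zero => simpa using hx
        | succ m ih => rw [pow_succ]; exact C.mul_mem ih hx }
  set L := Subfield.closure {x : K | ∃ s, up s ∈ D ∧ x = s * k} with hL
  have hle : L ≤ L0 := Subfield.closure_le.2 fun x ⟨s, hs, e⟩ => e ▸ hcorner s hs
  haveI : Finite L := Finite.of_injective (fun x => (⟨x.1, hle x.2⟩ : C))
    fun x y h => Subtype.ext (congrArg Subtype.val h :)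
  letI : Fintype L := Fintype.ofFinite L
  have hkL : k ∈ L := Subfield.subset_closure ⟨1, h1, (one_mul k).symm⟩
  have hsL : ∀ s, up s ∈ D → s ∈ L := fun s hs => by
    have := L.div_mem (Subfield.subset_closure ⟨s, hs, rfl⟩) hkL
    rwa [mul_div_cancel_right₀ _ hk] at this
  refine ⟨L, inferInstance, hsL, hkL, fun A hA => ?_⟩
  haveI : CharP L p := (algebraMap L K).charP Subtype.val_injective p
  let f := Matrix.SpecialLinearGroup.map (n := Fin 2) L.subtype
  have fup : ∀ s : L, f (up s) = up (s : K) := fun s => Subtype.ext (by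
    ext i j; fin_cases i <;> fin_cases j <;> simp [f, coe_up])
  have flow : ∀ s : L, f (low s) = low (s : K) := fun s => Subtype.ext (by
    ext i j; fin_cases i <;> fin_cases j <;> simp [f, coe_low])
  have htop := eq_top p (D.comap f) (μ := ⟨μ, hsL μ hμ⟩) (k := ⟨k, hkL⟩)
    (fun h => hk (congrArg Subtype.val h))
    (by rw [Subgroup.mem_comap, fup]; simpa using h1) (by rw [Subgroup.mem_comap, fup]; exact hμ)
    (fun n h => hμp n (by simpa using congrArg Subtype.val h))
    (by rw [Subgroup.mem_comap, flow]; exact hlow) fun M hM => by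
      have hall : L ≤ M.map L.subtype := Subfield.closure_le.2 fun x ⟨s, hs, e⟩ => by
        refine ⟨⟨s, hsL s hs⟩ * ⟨k, hkL⟩, hM _ ?_, by simp [e]⟩
        rw [Subgroup.mem_comap, fup]; exact hs
      refine eq_top_iff.2 fun x _ => ?_
      obtain ⟨y, hy, e⟩ := hall x.2
      rwa [Subtype.ext e] at hy
  let B : Matrix.SpecialLinearGroup (Fin 2) L :=
    ⟨Matrix.of fun i j => ⟨A.1 i j, hA i j⟩, Subtype.ext (by
      have := A.2
      simp only [Matrix.det_fin_two] at this ⊢
      simpa using this)⟩
  have hB : f B = A := Subtype.ext (by ext i j; rfl)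
  rw [← hB, ← Subgroup.mem_comap, htop]
  exact Subgroup.mem_top _

end Cfsg.Agent.Grp.UpperLower
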