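import Mathlib

/-!
# Equivariant quadratic maps of a regular module

A commutative group of odd exponent acting additively and transitively on the nonzero vectors of a finite elementary
abelian 2-group leaves no nonzero equivariant alternating biadditive map, so every equivariant quadratic map is scalar.
-/

set_option autoImplicit false

namespace Cfsg.Agent.Grp.ScalarQuad

universe u v

variable {K : Type u} {F : Type v} [CommGroup K] [AddCommGroup F] [DistribMulAction K F]

/-- An equivariant alternating biadditive map vanishes. -/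
theorem alternating_eq_zero [Finite K] (hodd : Odd (Nat.card K)) (h2 : ∀ x : F, x + x = 0)
    (htr : ∀ x y : F, x ≠ 0 → y ≠ 0 → ∃ k : K, k • x = y) (B : F →+ F →+ F)
    (halt : ∀ x, B x x = 0) (heq : ∀ (k : K) (x y : F), B (k • x) (k • y) = k • B x y) (x y : F) : B x y = 0 := by
  have hsymm : ∀ a b, B a b = B b a := fun a b => by
    have h := halt (a + b)
    simp only [map_add, AddMonoidHom.add_apply, halt, zero_add, add_zero] at h
    exact (eq_neg_of_add_eq_zero_left h).trans (neg_eq_of_add_eq_zero_left (h2 _)) |>.symm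
  rcases eq_or_ne x 0 with rfl | hx
  · simp
  rcases eq_or_ne y 0 with rfl | hy
  · simp
  obtain ⟨k, rfl⟩ := htr x y hx hy
  -- `z ↦ B z (c • z)` is additive, since it is determined by its value at `x`
  have hdiag : ∀ (c : K) (a b : F), B (a + b) (c • (a + b)) = B a (c • a) + B b (c • b) := by
    intro c a b
    rcases eq_or_ne a 0 with rfl | ha
    · simp
    rcases eq_or_ne b 0 with rfl | hb
    · simp
    set v := B x (c • x) with hv
    have hval : ∀ z : F, ∀ j : K, j • x = z → B z (c • z) = j • v := fun z j hj => by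
      rw [← hj, ← mul_smul, mul_comm, mul_smul, heq]
    obtain ⟨i, hi⟩ := htr x a hx ha
    obtain ⟨j, hj⟩ := htr x b hx hb
    rw [hval a i hi, hval b j hj]
    rcases eq_or_ne (a + b) 0 with h0 | h0
    · rw [h0, smul_zero, map_zero]
      have hab : a = b := (eq_neg_of_add_eq_zero_left h0).trans (neg_eq_of_add_eq_zero_left (h2 _))
      subst hab
      rw [← hval a i hi, ← hval a j hj, h2]
    obtain ⟨l, hl⟩ := htr x _ hx h0
    rw [hval _ l hl]
    rcases eq_or_ne v 0 with hv0 | hv0
    · simp [hv0]
    obtain ⟨m, hm⟩ := htr x v hx hv0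
    have : ∀ r : K, r • v = m • (r • x) := fun r => by rw [← hm, smul_comm]
    rw [this, this, this, hi, hj, hl, smul_add]
  have hcross : ∀ (c : K) (a b : F), B a (c • b) = B b (c • a) := fun c a b => by
    have h := hdiag c a b
    rw [smul_add] at h
    simp only [map_add, AddMonoidHom.add_apply] at h
    have h' : B a (c • b) + B b (c • a) = 0 := by
      have h'' := sub_eq_zero.2 h
      refine Eq.trans ?_ h''
      abel
    exact (eq_neg_of_add_eq_zero_left h').trans (neg_eq_of_add_eq_zero_left (h2 _))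
  obtain ⟨d, hd⟩ : ∃ d : K, d * d = k := by
    refine ⟨k ^ ((Nat.card K + 1) / 2), ?_⟩
    obtain ⟨m, hm⟩ := hodd
    rw [← pow_add, show (Nat.card K + 1) / 2 + (Nat.card K + 1) / 2 = Nat.card K + 1 by omega, pow_succ,
      pow_card_eq_one', one_mul]
  rw [← hd, mul_smul, hcross d x (d • x), halt]

/-- An additive map commuting with the action is zero or the action of an element. -/
theorem exists_scalar (htr : ∀ x y : F, x ≠ 0 → y ≠ 0 → ∃ k : K, k • x = y) (L : F →+ F)
    (heq : ∀ (k : K) (x : F), L (k • x) = k • L x) : L = 0 ∨ ∃ m : K, ∀ x, L x = m • x := by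
  by_cases h : ∃ x0, L x0 ≠ 0
  · obtain ⟨x0, hx0⟩ := h
    have h0 : x0 ≠ 0 := fun h' => hx0 (by rw [h', map_zero])
    obtain ⟨m, hm⟩ := htr x0 (L x0) h0 hx0
    refine Or.inr ⟨m, fun x => ?_⟩
    rcases eq_or_ne x 0 with rfl | hx
    · rw [map_zero, smul_zero]
    obtain ⟨k, rfl⟩ := htr x0 x h0 hx
    rw [heq, ← hm, smul_comm]
  · push Not at h
    exact Or.inl (AddMonoidHom.ext h)

/-- An equivariant quadratic map is scalar. -/
theorem quadratic_scalar [Finite K] (hodd : Odd (Nat.card K)) (h2 : ∀ x : F, x + x = 0)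
    (htr : ∀ x y : F, x ≠ 0 → y ≠ 0 → ∃ k : K, k • x = y) (Q : F → F) (B : F →+ F →+ F)
    (hpol : ∀ x y, Q (x + y) = Q x + Q y + B x y) (hQ : ∀ (k : K) (x : F), Q (k • x) = k • Q x) :
    (∀ x, Q x = 0) ∨ ∃ m : K, ∀ x, Q x = m • x := by
  have hQ0 : Q 0 = 0 := by
    have h := hpol 0 0
    simp only [add_zero, map_zero, AddMonoidHom.zero_apply, h2] at h
    exact h
  have halt : ∀ x, B x x = 0 := fun x => by
    have h := hpol x x
    rw [h2, hQ0, h2, zero_add] at h
    exact h.symm
  have hB : ∀ x y, B x y = 0 := alternating_eq_zero hodd h2 htr B halt fun k x y => by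
    have h := hpol (k • x) (k • y)
    rw [← smul_add, hQ, hQ, hQ, hpol, smul_add, smul_add] at h
    exact (add_left_cancel h).symm
  let L : F →+ F := { toFun := Q, map_zero' := hQ0, map_add' := fun x y => by rw [hpol, hB, add_zero] }
  rcases exists_scalar htr L hQ with h | ⟨m, hm⟩
  · exact Or.inl fun x => DFunLike.congr_fun h x
  · exact Or.inr ⟨m, hm⟩

end Cfsg.Agent.Grp.ScalarQuad
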