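import Cfsg.Agent.Lib.Grp.SectionAutomizer

/-! Sections isomorphic to alternating groups, against a bound on automizers of abelian Sylow-type
subgroups. -/

set_option autoImplicit false

namespace Cfsg.Agent.Grp.SectionAut

open Subgroup Equiv

variable {G H : Type*} [Group G] [Group H]

/-- A bound on the degree of an alternating section from one pair of elements. -/
theorem degree_lt [Finite G] {ℓ : ℕ} [Fact ℓ.Prime] {T : Subgroup G} (hT : ¬ ℓ ∣ T.index)
    {e : ℕ} (hW : ∀ (g : G) (R : Subgroup G), R ≤ T → (∀ h ∈ R, g * h * g⁻¹ ∈ R) →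
      ∀ h ∈ R, g ^ e * h * (g ^ e)⁻¹ = h)
    (j : H →* G) (hj : Function.Injective j) {r n : ℕ} {π : H →* alternatingGroup (Fin r)}
    (hπ : Function.Surjective π) {x y : Perm (Fin n)} (hxs : Perm.sign x = 1)
    (hys : Perm.sign y = 1) (hx : x ≠ 1) (hxℓ : x ^ ℓ = 1) {k : ℕ} (hy : y * x * y⁻¹ = x ^ k)
    (hne : y ^ e * x * (y ^ e)⁻¹ ≠ x) : r < n := by
  by_contra hr
  obtain ⟨f, hf⟩ := exists_hom_fin (show n ≤ r by omega)
  obtain ⟨x', hx'⟩ : ∃ x' : alternatingGroup (Fin n), x'.1 = x :=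
    ⟨⟨x, Perm.mem_alternatingGroup.2 hxs⟩, rfl⟩
  obtain ⟨y', hy'⟩ : ∃ y' : alternatingGroup (Fin n), y'.1 = y :=
    ⟨⟨y, Perm.mem_alternatingGroup.2 hys⟩, rfl⟩
  have hord : orderOf (f x') = ℓ := by
    rw [orderOf_injective f hf]
    exact orderOf_eq_prime (Subtype.ext (by simp [hx', hxℓ]))
      (fun h => hx (by rw [← hx', h]; rfl))
  have hconj : f y' * f x' * (f y')⁻¹ ∈ zpowers (f x') := by
    rw [← map_inv, ← map_mul, ← map_mul,
      show y' * x' * y'⁻¹ = x' ^ k from Subtype.ext (by simp [hx', hy', hy]), map_pow]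
    exact pow_mem (mem_zpowers _) k
  have h := section_fusion hT hW j hj hπ hord hconj
  rw [← map_pow, ← map_inv, ← map_mul, ← map_mul] at h
  refine hne ?_
  have := congrArg Subtype.val (hf h)
  simpa [hx', hy'] using this

/-- In degree seven: a cycle of length seven and a square of it. -/
theorem degree_lt_seven [Finite G] {T : Subgroup G} (hT : ¬ 7 ∣ T.index) {e : ℕ}
    (he : e % 3 ≠ 0) (hW : ∀ (g : G) (R : Subgroup G), R ≤ T → (∀ h ∈ R, g * h * g⁻¹ ∈ R) →
      ∀ h ∈ R, g ^ e * h * (g ^ e)⁻¹ = h)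
    (j : H →* G) (hj : Function.Injective j) {r : ℕ} {π : H →* alternatingGroup (Fin r)}
    (hπ : Function.Surjective π) : r < 7 := by
  have : Fact (Nat.Prime 7) := ⟨by norm_num⟩
  let x : Perm (Fin 7) := finRotate 7
  let y : Perm (Fin 7) := swap 1 2 * swap 2 4 * (swap 3 6 * swap 6 5)
  have hy3 : y ^ 3 = 1 := by decide
  refine degree_lt (ℓ := 7) hT hW j hj hπ (x := x) (y := y) (by decide) (by decide) (by decide)
    (by decide) (k := 2) (by decide) ?_
  rw [← Nat.div_add_mod e 3, pow_add, pow_mul, hy3, one_pow, one_mul]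
  rcases (show e % 3 = 1 ∨ e % 3 = 2 by omega) with h | h <;> rw [h] <;> decide

/-- In degree seven: a cycle of length five and a square of it. -/
theorem degree_lt_five [Finite G] {T : Subgroup G} (hT : ¬ 5 ∣ T.index)
    (hW : ∀ (g : G) (R : Subgroup G), R ≤ T → (∀ h ∈ R, g * h * g⁻¹ ∈ R) →
      ∀ h ∈ R, g ^ 6 * h * (g ^ 6)⁻¹ = h)
    (j : H →* G) (hj : Function.Injective j) {r : ℕ} {π : H →* alternatingGroup (Fin r)}
    (hπ : Function.Surjective π) : r < 7 := by
  have : Fact (Nat.Prime 5) := ⟨by norm_num⟩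
  let x : Perm (Fin 7) := swap 0 1 * swap 1 2 * swap 2 3 * swap 3 4
  let y : Perm (Fin 7) := swap 1 2 * swap 2 4 * swap 4 3 * swap 5 6
  refine degree_lt (ℓ := 5) hT hW j hj hπ (x := x) (y := y) (by decide +kernel) (by decide +kernel) (by decide +kernel)
    (by decide +kernel) (k := 2) (by decide +kernel) ?_
  rw [show y ^ 6 = y ^ 2 by decide +kernel]
  decide +kernel

/-- In degree eleven: a cycle of length eleven and a fourth power of it. -/
theorem degree_lt_eleven [Finite G] {T : Subgroup G} (hT : ¬ 11 ∣ T.index)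
    (hW : ∀ (g : G) (R : Subgroup G), R ≤ T → (∀ h ∈ R, g * h * g⁻¹ ∈ R) →
      ∀ h ∈ R, g ^ 24 * h * (g ^ 24)⁻¹ = h)
    (j : H →* G) (hj : Function.Injective j) {r : ℕ} {π : H →* alternatingGroup (Fin r)}
    (hπ : Function.Surjective π) : r < 11 := by
  have : Fact (Nat.Prime 11) := ⟨by norm_num⟩
  let x : Perm (Fin 11) := finRotate 11
  let y : Perm (Fin 11) := swap 1 4 * swap 4 5 * swap 5 9 * swap 9 3 *
    (swap 2 8 * swap 8 10 * swap 10 7 * swap 7 6)
  refine degree_lt (ℓ := 11) hT hW j hj hπ (x := x) (y := y) (by decide +kernel)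
    (by decide +kernel) (by decide +kernel) (by decide +kernel) (k := 4) (by decide +kernel) ?_
  rw [show y ^ 24 = y ^ 4 by decide +kernel]
  decide +kernel

end Cfsg.Agent.Grp.SectionAut
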