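import Cfsg.Agent.Lib.Grp.SectionAlternating

/-! Automizers of an abelian subgroup with two primes above a pair of commuting elements of a
section. -/

set_option autoImplicit false

namespace Cfsg.Agent.Grp.SectionAut

open Subgroup

variable {G H Q : Type*} [Group G] [Group H] [Group Q]

/-- A factor commuting with a cyclic subgroup does not change the action of the powers. -/
theorem pow_conj_mul {x a y : Q} (ha : ∀ z ∈ zpowers x, a * z * a⁻¹ = z)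
    (hy : y * x * y⁻¹ ∈ zpowers x) (m : ℕ) :
    (a * y) ^ m * x * ((a * y) ^ m)⁻¹ = y ^ m * x * (y ^ m)⁻¹ := by
  have hyz : ∀ z ∈ zpowers x, y * z * y⁻¹ ∈ zpowers x := by
    rintro z hz
    obtain ⟨k, rfl⟩ := mem_zpowers_iff.1 hz
    rw [← MulAut.conj_apply, map_zpow, MulAut.conj_apply]
    exact zpow_mem hy k
  refine (conj_pow_eq hyz (fun z hz => ?_) m x (mem_zpowers x)).2
  calc a * y * z * (a * y)⁻¹ = a * (y * z * y⁻¹) * a⁻¹ := by group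
    _ = _ := ha _ (hyz z hz)

theorem comm_zpowers {x a : Q} (h : a * x * a⁻¹ = x) : ∀ z ∈ zpowers x, a * z * a⁻¹ = z := by
  intro z hz
  obtain ⟨k, rfl⟩ := mem_zpowers_iff.1 hz
  rw [← MulAut.conj_apply, map_zpow, MulAut.conj_apply, h]

/-- Powers of elements over a section normalising two commuting subgroups of prime order act on
them as powers of elements normalising subgroups of `T`. -/
theorem two_prime_fusion [Finite G] {ℓ₁ ℓ₂ : ℕ} [Fact ℓ₁.Prime] [Fact ℓ₂.Prime] {T : Subgroup G}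
    (hcomm : ∀ a ∈ T, ∀ b ∈ T, a * b = b * a) (h1 : ¬ ℓ₁ ∣ T.index) (h2 : ¬ ℓ₂ ∣ T.index)
    {e : ℕ} (hW : ∀ (g : G) (R : Subgroup G), R ≤ T → (∀ h ∈ R, g * h * g⁻¹ ∈ R) →
      ∀ h ∈ R, g ^ e * h * (g ^ e)⁻¹ = h)
    (he : ¬ ℓ₂ ∣ e * ℓ₁) {S : List (ℕ × ℤ)}
    (hS : ∀ (g : G) (R : Subgroup G), R ≤ T → (∀ h ∈ R, g * h * g⁻¹ ∈ R) →
      ∃ p ∈ S, ∀ h ∈ R, g ^ p.1 * h * (g ^ p.1)⁻¹ = h ^ p.2)
    (j : H →* G) (hj : Function.Injective j) {π : H →* Q} (hπ : Function.Surjective π)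
    {x₁ x₂ y : Q} (hx₁ : orderOf x₁ = ℓ₁) (hx₂ : orderOf x₂ = ℓ₂)
    (hc : x₁ * x₂ * x₁⁻¹ = x₂) (hy₁ : y * x₁ * y⁻¹ ∈ zpowers x₁)
    (hy₂ : y * x₂ * y⁻¹ ∈ zpowers x₂) :
    ∃ p ∈ S, y ^ p.1 * x₁ * (y ^ p.1)⁻¹ = x₁ ^ p.2 ∧ y ^ p.1 * x₂ * (y ^ p.1)⁻¹ = x₂ ^ p.2 := by
  have : Finite H := Finite.of_injective j hj
  -- a subgroup over the first element, inside `T` after conjugation
  obtain ⟨R₁, -, hR₁, hx₁R, hπR₁, hconj₁⟩ :=
    exists_normalizing π (⊤ : Subgroup H) hx₁ ⟨(hπ x₁).choose, mem_top _, (hπ x₁).choose_spec⟩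
  obtain ⟨c, hc₁⟩ := exists_conj_le h1 (hR₁.map j)
  obtain ⟨j', hj', ej'⟩ := inj_conj hj c
  have hle : R₁.map j' ≤ T := by
    rintro _ ⟨s, hs, rfl⟩
    rw [ej']; exact hc₁ _ ⟨s, hs, rfl⟩
  -- a subgroup over the second element, commuting with the first one
  set N : Subgroup H := normalizer (R₁ : Set H)
  have hmemN : ∀ n : H, (∀ r ∈ R₁, n * r * n⁻¹ ∈ R₁) → n ∈ N := by
    intro n hn
    have h : R₁.map (MulAut.conj n).toMonoidHom = R₁ := Subgroup.eq_of_le_of_card_ge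
      (by rintro _ ⟨r, hr, rfl⟩; exact hn r hr)
      (by rw [Subgroup.card_map_of_injective (MulAut.conj n).injective])
    rw [mem_normalizer_iff]
    intro x
    refine ⟨hn x, fun hx => ?_⟩
    obtain ⟨r, hr, e⟩ : n * x * n⁻¹ ∈ R₁.map (MulAut.conj n).toMonoidHom := h.symm ▸ hx
    exact (MulAut.conj n).injective e ▸ hr
  set C : Subgroup N := (centralizer (R₁ : Set H)).subgroupOf N
  have : C.Normal := by
    refine ⟨fun a ha n => ?_⟩
    show ((n * a * n⁻¹ : N) : H) ∈ centralizer (R₁ : Set H)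
    rw [mem_centralizer_iff]
    intro r hr
    have hr' : (n : H)⁻¹ * r * n ∈ R₁ := by
      simpa using (mem_normalizer_iff.1 (inv_mem n.2) r).1 hr
    have := mem_centralizer_iff.1 ha _ hr'
    calc r * ((n : H) * (a : H) * (n : H)⁻¹)
        = (n : H) * ((n : H)⁻¹ * r * n * a) * (n : H)⁻¹ := by group
      _ = (n : H) * ((a : H) * ((n : H)⁻¹ * r * n)) * (n : H)⁻¹ := congrArg (fun w => (n : H) * w * (n : H)⁻¹) this
      _ = _ := by push_cast; group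
  let π' : N →* Q := π.comp N.subtype
  -- powers of elements of the normaliser centralise
  have hpowC : ∀ n : N, (n ^ e) ∈ C := by
    intro n
    show ((n ^ e : N) : H) ∈ centralizer (R₁ : Set H)
    rw [mem_centralizer_iff]
    intro r hr
    have hfix := hW (j' n) (R₁.map j') hle (by
      rintro _ ⟨s, hs, rfl⟩
      exact ⟨_, (mem_normalizer_iff.1 n.2 s).1 hs, by simp only [map_mul, map_inv]⟩)
      (j' r) ⟨r, hr, rfl⟩
    have h' : (n : H) ^ e * r * ((n : H) ^ e)⁻¹ = r := hj' (by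
      simpa only [map_mul, map_inv, map_pow] using hfix)
    rw [SubmonoidClass.coe_pow]
    exact (mul_inv_eq_iff_eq_mul.1 h').symm
  have hlift : ∀ z : Q, z * x₁ * z⁻¹ ∈ zpowers x₁ → ∃ n : N, ∃ a ∈ zpowers x₁, π' n = a * z := by
    intro z hz
    obtain ⟨h, rfl⟩ := hπ z
    obtain ⟨d, -, hdx, hd⟩ := hconj₁ h hz
    exact ⟨⟨d * h, hmemN _ hd⟩, π d, hdx, map_mul π d h⟩
  have hx₂C : x₂ ∈ C.map π' := by
    have hc' : x₂ * x₁ * x₂⁻¹ = x₁ := by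
      rw [mul_inv_eq_iff_eq_mul]; exact ((mul_inv_eq_iff_eq_mul.1 hc)).symm
    obtain ⟨n, a, ha, hn⟩ := hlift x₂ (hc'.symm ▸ mem_zpowers x₁)
    have hm : π' (n ^ (e * ℓ₁)) ∈ C.map π' := by
      refine ⟨_, ?_, rfl⟩
      rw [mul_comm, pow_mul]; exact hpowC _
    obtain ⟨k, rfl⟩ := mem_zpowers_iff.1 ha
    have hcom : Commute (x₁ ^ k) x₂ :=
      (show Commute x₁ x₂ from mul_inv_eq_iff_eq_mul.1 hc).zpow_left k
    have ha1 : (x₁ ^ k) ^ (e * ℓ₁) = 1 := by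
      rw [← zpow_natCast, ← zpow_mul, mul_comm, zpow_mul, zpow_natCast, pow_mul',
        ← hx₁, pow_orderOf_eq_one, one_pow, one_zpow]
    rw [map_pow, hn, hcom.mul_pow, ha1, one_mul] at hm
    have hgen : x₂ ∈ zpowers (x₂ ^ (e * ℓ₁)) := by
      rw [mem_zpowers_pow_iff]
      exact hx₂ ▸ (((Fact.out : ℓ₂.Prime).coprime_iff_not_dvd.2 he).symm)
    exact (zpowers_le.2 hm) hgen
  obtain ⟨R₂, hR₂C, hR₂, hx₂R, hπR₂, hconj₂⟩ := exists_normalizing π' C hx₂ hx₂C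
  -- an element normalising both
  obtain ⟨n₀, a₁, ha₁, hn₀⟩ := hlift y hy₁
  have ha₁x₂ : a₁ * x₂ * a₁⁻¹ = x₂ := by
    obtain ⟨k, rfl⟩ := mem_zpowers_iff.1 ha₁
    rw [mul_inv_eq_iff_eq_mul]
    exact ((show Commute x₁ x₂ from mul_inv_eq_iff_eq_mul.1 hc).zpow_left k).eq
  have hy₂' : a₁ * (y * x₂ * y⁻¹) * a₁⁻¹ = y * x₂ * y⁻¹ := comm_zpowers ha₁x₂ _ hy₂
  obtain ⟨d₂, hd₂C, hd₂x, hd₂⟩ := hconj₂ n₀ (by
    rw [hn₀, show a₁ * y * x₂ * (a₁ * y)⁻¹ = a₁ * (y * x₂ * y⁻¹) * a₁⁻¹ by group, hy₂']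
    exact hy₂)
  obtain ⟨n, hn⟩ : ∃ n : N, n = d₂ * n₀ := ⟨_, rfl⟩
  -- both subgroups inside `T`
  obtain ⟨Z, hZ⟩ : ∃ Z, Z = centralizer (R₁.map j' : Set G) := ⟨_, rfl⟩
  have hTZ : T ≤ Z := by
    intro t ht
    rw [hZ, mem_centralizer_iff]
    exact fun r hr => hcomm r (hle hr) t ht
  have hR₂Z : (R₂.map N.subtype).map j' ≤ Z := by
    rintro _ ⟨_, ⟨s, hs, rfl⟩, rfl⟩
    rw [hZ, mem_centralizer_iff]
    rintro _ ⟨r, hr, rfl⟩
    have hsr : r * (s : H) = s * r := mem_centralizer_iff.1 (hR₂C hs) r hr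
    rw [← map_mul, ← map_mul]
    exact congrArg j' hsr
  obtain ⟨c₂, hc₂⟩ := exists_conj_le (T := T.subgroupOf Z)
    (fun hd => h2 (hd.trans (relIndex_dvd_index_of_le hTZ)))
    (R := ((R₂.map N.subtype).map j').subgroupOf Z)
    (((hR₂.map N.subtype).map j').of_equiv (subgroupOfEquivOfLe hR₂Z).symm)
  obtain ⟨j'', hj'', ej''⟩ := inj_conj hj' (c₂ : G)
  obtain ⟨B, hB⟩ : ∃ B, B = R₁ ⊔ R₂.map N.subtype := ⟨_, rfl⟩
  have hBT : B.map j'' ≤ T := by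
    rw [map_le_iff_le_comap, hB, sup_le_iff]
    refine ⟨fun r hr => ?_, ?_⟩
    · show j'' r ∈ T
      rw [ej'']
      have hcz : (c₂ : G) ∈ centralizer (R₁.map j' : Set G) := hZ ▸ c₂.2
      rw [← mem_centralizer_iff.1 hcz (j' r) ⟨r, hr, rfl⟩, mul_inv_cancel_right]
      exact hle ⟨r, hr, rfl⟩
    · rintro _ ⟨s, hs, rfl⟩
      show j'' _ ∈ T
      rw [ej'']
      exact hc₂ ⟨j' (N.subtype s), hR₂Z ⟨_, ⟨s, hs, rfl⟩, rfl⟩⟩ ⟨_, ⟨s, hs, rfl⟩, rfl⟩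
  have hnB : ∀ b ∈ B, (n : H) * b * (n : H)⁻¹ ∈ B := by
    have hsub : B ≤ B.comap (MulAut.conj (n : H)).toMonoidHom := by
      rw [hB, sup_le_iff]
      refine ⟨fun r hr => mem_sup_left ((mem_normalizer_iff.1 n.2 r).1 hr), ?_⟩
      rintro _ ⟨s, hs, rfl⟩
      refine mem_sup_right ⟨_, hn ▸ hd₂ s hs, ?_⟩
      rfl
    exact fun b hb => hsub hb
  obtain ⟨p, hpS, hp⟩ := hS (j'' n) (B.map j'') hBT (by
    rintro _ ⟨s, hs, rfl⟩
    exact ⟨_, hnB s hs, by simp only [map_mul, map_inv]⟩)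
  refine ⟨p, hpS, ?_⟩
  have hdown : ∀ b ∈ B, π' n ^ p.1 * π b * (π' n ^ p.1)⁻¹ = π b ^ p.2 := by
    intro b hb
    have h := hj'' (a₁ := (n : H) ^ p.1 * b * ((n : H) ^ p.1)⁻¹) (a₂ := b ^ p.2) (by
      simpa only [map_mul, map_inv, map_pow, map_zpow] using hp (j'' b) ⟨b, hb, rfl⟩)
    have h' := congrArg π h
    show π (n : H) ^ p.1 * π b * (π (n : H) ^ p.1)⁻¹ = π b ^ p.2
    simpa only [map_mul, map_inv, map_pow, map_zpow] using h'
  have hnval : π' n = (π' d₂ * a₁) * y := by rw [hn, map_mul, hn₀, mul_assoc]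
  obtain ⟨k, hk⟩ := mem_zpowers_iff.1 hd₂x
  obtain ⟨l, hl⟩ := mem_zpowers_iff.1 ha₁
  have hx12 : Commute x₁ x₂ := mul_inv_eq_iff_eq_mul.1 hc
  have hfac : ∀ x : Q, x = x₁ ∨ x = x₂ → (π' d₂ * a₁) * x * (π' d₂ * a₁)⁻¹ = x := by
    intro x hx
    rw [mul_inv_eq_iff_eq_mul, ← hk, ← hl]
    rcases hx with rfl | rfl
    · exact ((hx12.symm.zpow_left k).mul_left ((Commute.refl _).zpow_left l)).eq
    · exact (((Commute.refl _).zpow_left k).mul_left (hx12.zpow_left l)).eq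
  constructor
  · obtain ⟨r, hr, rfl⟩ := hx₁R
    have h := hdown r (hB ▸ mem_sup_left hr)
    rwa [hnval, pow_conj_mul (comm_zpowers (hfac _ (Or.inl rfl))) hy₁] at h
  · obtain ⟨r, hr, rfl⟩ := hx₂R
    have h := hdown (r : H) (hB ▸ mem_sup_right ⟨r, hr, rfl⟩)
    change π' n ^ p.1 * π' r * (π' n ^ p.1)⁻¹ = π' r ^ p.2 at h
    rwa [hnval, pow_conj_mul (comm_zpowers (hfac _ (Or.inr rfl))) hy₂] at h

/-- No alternating section of degree twelve, when the eighth or sixth powers centralise, or the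
sixth powers invert, and the indices of the abelian subgroup are prime to five and seven. -/
theorem degree_lt_twelve [Finite G] {T : Subgroup G}
    (hcomm : ∀ a ∈ T, ∀ b ∈ T, a * b = b * a) (h7 : ¬ 7 ∣ T.index) (h5 : ¬ 5 ∣ T.index)
    (hW : ∀ (g : G) (R : Subgroup G), R ≤ T → (∀ h ∈ R, g * h * g⁻¹ ∈ R) →
      ∀ h ∈ R, g ^ 24 * h * (g ^ 24)⁻¹ = h)
    (hS : ∀ (g : G) (R : Subgroup G), R ≤ T → (∀ h ∈ R, g * h * g⁻¹ ∈ R) →
      ∃ p ∈ ([(8, 1), (6, 1), (6, -1)] : List (ℕ × ℤ)),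
        ∀ h ∈ R, g ^ p.1 * h * (g ^ p.1)⁻¹ = h ^ p.2)
    (j : H →* G) (hj : Function.Injective j) {r : ℕ} {π : H →* alternatingGroup (Fin r)}
    (hπ : Function.Surjective π) : r < 12 := by
  by_contra hr
  have : Fact (Nat.Prime 7) := ⟨by norm_num⟩
  have : Fact (Nat.Prime 5) := ⟨by norm_num⟩
  obtain ⟨f, hf⟩ := exists_hom_fin (show 12 ≤ r by omega)
  let c : Equiv.Perm (Fin 12) := Equiv.swap 0 1 * Equiv.swap 1 2 * Equiv.swap 2 3 *
    Equiv.swap 3 4 * Equiv.swap 4 5 * Equiv.swap 5 6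
  let d : Equiv.Perm (Fin 12) := Equiv.swap 7 8 * Equiv.swap 8 9 * Equiv.swap 9 10 *
    Equiv.swap 10 11
  let z : Equiv.Perm (Fin 12) := Equiv.swap 1 3 * Equiv.swap 3 2 * Equiv.swap 2 6 *
    Equiv.swap 6 4 * Equiv.swap 4 5 * (Equiv.swap 8 9 * Equiv.swap 9 11 * Equiv.swap 11 10)
  let X₁ : alternatingGroup (Fin 12) := ⟨c, Equiv.Perm.mem_alternatingGroup.2 (by decide +kernel)⟩
  let X₂ : alternatingGroup (Fin 12) := ⟨d, Equiv.Perm.mem_alternatingGroup.2 (by decide +kernel)⟩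
  let Y : alternatingGroup (Fin 12) := ⟨z, Equiv.Perm.mem_alternatingGroup.2 (by decide +kernel)⟩
  have e1 : orderOf X₁ = 7 := orderOf_eq_prime (by decide +kernel) (by decide +kernel)
  have e2 : orderOf X₂ = 5 := orderOf_eq_prime (by decide +kernel) (by decide +kernel)
  have c12 : X₁ * X₂ * X₁⁻¹ = X₂ := by decide +kernel
  have y1 : Y * X₁ * Y⁻¹ = X₁ ^ 3 := by decide +kernel
  have y2 : Y * X₂ * Y⁻¹ = X₂ ^ 2 := by decide +kernel
  obtain ⟨p, hp, q1, q2⟩ := two_prime_fusion hcomm h7 h5 hW (by norm_num) hS j hj hπ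
    (x₁ := f X₁) (x₂ := f X₂) (y := f Y) (by rw [orderOf_injective f hf, e1])
    (by rw [orderOf_injective f hf, e2])
    (by rw [← map_inv, ← map_mul, ← map_mul, c12])
    (by rw [← map_inv, ← map_mul, ← map_mul, y1, map_pow]; exact pow_mem (mem_zpowers _) _)
    (by rw [← map_inv, ← map_mul, ← map_mul, y2, map_pow]; exact pow_mem (mem_zpowers _) _)
  rw [← map_pow, ← map_inv, ← map_mul, ← map_mul, ← map_zpow] at q1 q2
  have q1' := hf q1
  have q2' := hf q2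
  simp only [List.mem_cons, List.not_mem_nil, or_false] at hp
  rcases hp with rfl | rfl | rfl
  · revert q1'; decide +kernel
  · revert q2'; decide +kernel
  · revert q1'; decide +kernel

end Cfsg.Agent.Grp.SectionAut
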