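import Mathlib
import Cfsg.Agent.Lib.Grp.Basic
import Cfsg.Agent.Lib.Grp.Solvable
import Cfsg.Agent.Lib.Grp.Frattini

/-!
Solvable groups in which every non-abelian subgroup is self-normalizing.
-/

set_option autoImplicit false

namespace Cfsg.Agent.Grp.SelfNorm

open scoped Pointwise

universe u

variable {G : Type u} [Group G] [Finite G]

theorem mem_iff_form {A : Subgroup G} [A.Normal] {x g : G} :
    g ∈ A ⊔ Subgroup.zpowers x ↔ ∃ a ∈ A, ∃ i : ℤ, g = a * x ^ i := by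
  rw [Subgroup.mem_sup_of_normal_left]
  constructor
  · rintro ⟨a, ha, b, ⟨i, rfl⟩, rfl⟩
    exact ⟨a, ha, i, rfl⟩
  · rintro ⟨a, ha, i, rfl⟩
    exact ⟨a, ha, x ^ i, ⟨i, rfl⟩, rfl⟩

/-- Powers of a `p`-element in a `p'`-subgroup are trivial. -/
theorem eq_one_of_mem {A : Subgroup G} {x : G} {p k : ℕ} (hp : p.Prime) (hk : orderOf x = p ^ k)
    (hA : ¬ p ∣ Nat.card A) {i : ℤ} (h : x ^ i ∈ A) : x ^ i = 1 := by
  have h1 : orderOf (x ^ i) ∣ p ^ k := by
    rw [← hk, ← Nat.card_zpowers x]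
    exact Subgroup.orderOf_dvd_natCard _ ⟨i, rfl⟩
  exact orderOf_eq_one_iff.mp (Nat.eq_one_of_dvd_coprimes
    (((hp.coprime_iff_not_dvd).mpr hA).pow_left k) h1 (Subgroup.orderOf_dvd_natCard _ h))

theorem forward [Group.IsSolvable G] (hnn : ¬ Group.IsNilpotent G)
    (hS : ∀ H : Subgroup G, ¬ IsMulCommutative H → Subgroup.normalizer (H : Set G) = H) :
    ∃ (x : G) (A : Subgroup G) (p : ℕ), p.Prime ∧ A.Normal ∧ IsMulCommutative A ∧
      (∃ k : ℕ, orderOf x = p ^ k) ∧ ¬ p ∣ Nat.card A ∧ (Subgroup.zpowers x).IsComplement' A ∧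
      x ^ p ∈ Subgroup.center G ∧ ∀ a : G, a ∈ A → a ≠ 1 → x * a * x⁻¹ ≠ a := by
  classical
  -- proper normal subgroups are abelian
  have habn : ∀ H : Subgroup G, H.Normal → H ≠ ⊤ → ∀ a ∈ H, ∀ b ∈ H, a * b = b * a := by
    intro H hH hne a ha b hb
    by_contra hc
    refine hne ?_
    rw [← hS H fun hab => hc (congrArg Subtype.val (hab.is_comm.comm (⟨a, ha⟩ : H) ⟨b, hb⟩))]
    haveI := hH
    exact Subgroup.normalizer_eq_top H
  rcases subsingleton_or_nontrivial G with hsub | hnt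
  · exact absurd (inferInstance : Group.IsNilpotent G) hnn
  -- a normal subgroup of prime index
  have hcl : commutator G < ⊤ := Group.IsSolvable.commutator_lt_top_of_nontrivial G
  obtain ⟨M, hM, hMle⟩ := (eq_top_or_exists_le_coatom (commutator G)).resolve_left hcl.ne
  haveI hMn : M.Normal := ⟨fun m hm g => by
    have := mul_mem (hMle (Subgroup.commutator_mem_commutator (Subgroup.mem_top g) (Subgroup.mem_top m))) hm
    rwa [commutatorElement_def, inv_mul_cancel_right] at this⟩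
  have hprime : M.index.Prime := Cfsg.Agent.Grp.normal_index_prime_of_coatom hM
  generalize hpM : M.index = p at hprime
  have hp : p.Prime := hprime
  haveI := Fact.mk hp
  have hMab := habn M hMn hM.1
  -- a `p`-element outside `M`
  obtain ⟨S⟩ : Nonempty (Sylow p G) := inferInstance
  obtain ⟨x, hxS, hxM⟩ : ∃ x ∈ (S : Subgroup G), x ∉ M := by
    by_contra hc
    push Not at hc
    exact S.not_dvd_index (hpM.symm.dvd.trans (Subgroup.index_dvd_of_le hc))
  obtain ⟨k, hk⟩ := IsPGroup.iff_orderOf.mp S.isPGroup' ⟨x, hxS⟩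
  rw [Subgroup.orderOf_mk] at hk
  -- the `p'`-part of `M`
  let A : Subgroup G :=
    { carrier := {m | m ∈ M ∧ (orderOf m).Coprime p}
      one_mem' := ⟨one_mem M, by simp⟩
      mul_mem' := fun {a b} ha hb => ⟨mul_mem ha.1 hb.1,
        (Nat.Coprime.mul_left ha.2 hb.2).coprime_dvd_left
          (show Commute a b from hMab a ha.1 b hb.1).orderOf_mul_dvd_mul_orderOf⟩
      inv_mem' := fun {a} ha => ⟨inv_mem ha.1, by rw [orderOf_inv]; exact ha.2⟩ }
  have hAM : A ≤ M := fun a ha => ha.1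
  haveI hAn : A.Normal := ⟨fun a ha g => ⟨hMn.conj_mem a ha.1 g, by
    rw [show orderOf (g * a * g⁻¹) = orderOf a from (MulAut.conj g).orderOf_eq a]; exact ha.2⟩⟩
  have hApp : ¬ p ∣ Nat.card A := fun hd => by
    obtain ⟨a, ha⟩ := exists_prime_orderOf_dvd_card' p hd
    have h1 := a.2.2
    rw [Subgroup.orderOf_coe, ha, hp.coprime_iff_not_dvd] at h1
    exact h1 dvd_rfl
  set L := A ⊔ Subgroup.zpowers x with hL
  -- `G` is generated by `M` and `x`
  have htop : M ⊔ Subgroup.zpowers x = ⊤ := hM.2 _ (lt_of_le_of_ne le_sup_left fun e =>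
    hxM (e.ge (Subgroup.mem_sup_right (Subgroup.mem_zpowers x))))
  have hxp : x ^ p ∈ M := by
    rw [← hpM, ← QuotientGroup.eq_one_iff, QuotientGroup.mk_pow, Subgroup.index_eq_card, pow_card_eq_one']
  have hcen : x ^ p ∈ Subgroup.center G := by
    rw [Subgroup.mem_center_iff]
    intro g
    obtain ⟨m, hm, i, rfl⟩ := mem_iff_form.mp (htop.ge (Subgroup.mem_top g) : g ∈ M ⊔ Subgroup.zpowers x)
    rw [mul_assoc, ((Commute.refl x).zpow_left i |>.pow_right p).eq, ← mul_assoc, hMab m hm _ hxp, mul_assoc]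
  -- every element of `M` is a product of a `p`-element and an element of `A`
  have hdec : ∀ m ∈ M, ∃ u ∈ M, ∃ a ∈ A, m = u * a ∧ ∃ j : ℕ, orderOf u = p ^ j := by
    intro m hm
    obtain ⟨j, n', hn', hn⟩ := Nat.exists_eq_pow_mul_and_not_dvd (orderOf_pos m).ne' p hp.ne_one
    have hcop : Nat.Coprime (p ^ j) n' := (hp.coprime_iff_not_dvd.mpr hn').pow_left j
    obtain ⟨s, t, hst⟩ := (Int.isCoprime_iff_nat_coprime.mpr (by simpa using hcop) : IsCoprime ((p : ℤ) ^ j) n')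
    refine ⟨m ^ (t * n'), zpow_mem hm _, m ^ (s * (p : ℤ) ^ j), ⟨zpow_mem hm _, ?_⟩,
      by rw [← zpow_add, add_comm, hst, zpow_one], ?_⟩
    · refine ((hp.coprime_iff_not_dvd.mpr hn').symm).coprime_dvd_left ?_
      refine orderOf_dvd_of_pow_eq_one ?_
      rw [← zpow_natCast, ← zpow_mul, mul_assoc, ← Nat.cast_pow, ← Nat.cast_mul, ← hn, mul_comm, zpow_mul,
        zpow_natCast, pow_orderOf_eq_one, one_zpow]
    · obtain ⟨j', -, hj'⟩ := (Nat.dvd_prime_pow hp).mp (orderOf_dvd_of_pow_eq_one (n := p ^ j) (x := m ^ (t * n')) (by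
        rw [← zpow_natCast, ← zpow_mul, mul_assoc, ← Nat.cast_mul, mul_comm n', ← hn, mul_comm, zpow_mul,
          zpow_natCast, pow_orderOf_eq_one, one_zpow]))
      exact ⟨j', hj'⟩
  have hAab : ∀ a ∈ A, ∀ b ∈ A, a * b = b * a := fun a ha b hb => hMab a ha.1 b hb.1
  -- `x` does not centralize `A`
  have hxA : ∃ a ∈ A, x * a ≠ a * x := by
    by_contra hc
    push Not at hc
    apply hnn
    -- then `A` is central and `G ⧸ A` is a `p`-group
    have hAc : A ≤ Subgroup.center G := fun a ha => Subgroup.mem_center_iff.mpr fun g => by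
      obtain ⟨m, hm, i, rfl⟩ := mem_iff_form.mp (htop.ge (Subgroup.mem_top g) : g ∈ M ⊔ Subgroup.zpowers x)
      rw [mul_assoc, ((show Commute x a from hc a ha).zpow_left i).eq, ← mul_assoc, hMab m hm a ha.1, mul_assoc]
    have hq : IsPGroup p (G ⧸ A) := by
      intro y
      obtain ⟨g, rfl⟩ := QuotientGroup.mk'_surjective A y
      have hgp : g ^ p ∈ M := by
        rw [← hpM, ← QuotientGroup.eq_one_iff, QuotientGroup.mk_pow, Subgroup.index_eq_card, pow_card_eq_one']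
      obtain ⟨u, -, a, ha, e, j, hj⟩ := hdec _ hgp
      refine ⟨j + 1, ?_⟩
      rw [pow_succ', pow_mul, ← map_pow, e, map_mul,
        show QuotientGroup.mk' A a = 1 from (QuotientGroup.eq_one_iff a).mpr ha, mul_one, ← map_pow,
        ← hj, pow_orderOf_eq_one, map_one]
    haveI := hq.isNilpotent
    exact Subgroup.isNilpotent_of_ker_le_center (QuotientGroup.mk' A) (by rwa [QuotientGroup.ker_mk'])
  have hLna : ¬ IsMulCommutative L := fun hc => by
    obtain ⟨a, ha, hne⟩ := hxA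
    exact hne (congrArg Subtype.val (hc.is_comm.comm (⟨x, Subgroup.mem_sup_right (Subgroup.mem_zpowers x)⟩ : L)
      ⟨a, Subgroup.mem_sup_left ha⟩))
  -- the Sylow subgroup is `⟨x⟩`
  have hSx : (S : Subgroup G) = Subgroup.zpowers x := by
    by_contra hne
    have hle : Subgroup.zpowers x ≤ S := Subgroup.zpowers_le.mpr hxS
    haveI : Group.IsNilpotent (S : Subgroup G) := S.isPGroup'.isNilpotent
    have hlt : (Subgroup.zpowers x).subgroupOf (S : Subgroup G) < ⊤ :=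
      lt_top_iff_ne_top.mpr fun e => hne (le_antisymm (Subgroup.subgroupOf_eq_top.mp e) hle)
    obtain ⟨y, hy, hyn⟩ := SetLike.exists_of_lt (Group.normalizerCondition_of_isNilpotent _ hlt)
    have hyx : (y : G) * x * (y : G)⁻¹ ∈ Subgroup.zpowers x :=
      Subgroup.mem_subgroupOf.mp
        ((Subgroup.mem_normalizer_iff.mp hy ⟨x, hxS⟩).mp (Subgroup.mem_subgroupOf.mpr (Subgroup.mem_zpowers x)))
    have hyL : (y : G) ∈ Subgroup.normalizer (L : Set G) := by
      rw [Subgroup.mem_normalizer_iff_map_conj_eq]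
      refine Subgroup.eq_of_le_of_card_ge ?_ (Subgroup.card_map_of_injective (MulAut.conj (y : G)).injective).ge
      rintro _ ⟨z, hz, rfl⟩
      obtain ⟨a, ha, i, rfl⟩ := mem_iff_form.mp hz
      show MulAut.conj (y : G) (a * x ^ i) ∈ L
      rw [map_mul, map_zpow]
      exact mul_mem (Subgroup.mem_sup_left (hAn.conj_mem a ha _))
        (zpow_mem (Subgroup.mem_sup_right hyx) i)
    rw [hS L hLna] at hyL
    obtain ⟨a, ha, i, e⟩ := mem_iff_form.mp hyL
    refine hyn (Subgroup.mem_subgroupOf.mpr ?_)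
    have haS : a ∈ (S : Subgroup G) := by
      rw [show a = (y : G) * (x ^ i)⁻¹ by rw [e]; group]
      exact mul_mem y.2 (inv_mem (zpow_mem hxS i))
    obtain ⟨j, hj⟩ := IsPGroup.iff_orderOf.mp S.isPGroup' ⟨a, haS⟩
    rw [Subgroup.orderOf_mk] at hj
    have ha1 : a = 1 := orderOf_eq_one_iff.mp (Nat.eq_one_of_dvd_coprimes (ha.2.pow_right j) dvd_rfl hj.dvd)
    rw [e, ha1, one_mul]
    exact zpow_mem (Subgroup.mem_zpowers x) i
  -- `G = A ⟨x⟩`
  have hLtop : L = ⊤ := by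
    refine eq_top_iff.mpr fun g _ => ?_
    obtain ⟨m, hm, i, rfl⟩ := mem_iff_form.mp (htop.ge (Subgroup.mem_top g) : g ∈ M ⊔ Subgroup.zpowers x)
    obtain ⟨u, huM, a, ha, rfl, j, hj⟩ := hdec m hm
    refine mul_mem (mul_mem ?_ (Subgroup.mem_sup_left ha))
      (zpow_mem (Subgroup.mem_sup_right (Subgroup.mem_zpowers x)) i)
    have hu : IsPGroup p (Subgroup.zpowers u) := IsPGroup.of_card (n := j) (by rw [Nat.card_zpowers, hj])
    obtain ⟨T, hT⟩ := hu.exists_le_sylow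
    obtain ⟨c, hc⟩ := MulAction.exists_smul_eq G S T
    have huc : u ∈ MulAut.conj c • (S : Subgroup G) := by
      rw [show MulAut.conj c • (S : Subgroup G) = T from congrArg Sylow.toSubgroup hc]
      exact hT (Subgroup.mem_zpowers u)
    rw [hSx, Subgroup.mem_pointwise_smul_iff_inv_smul_mem] at huc
    obtain ⟨t, ht⟩ := Subgroup.mem_zpowers_iff.mp huc
    have ht' : c * x ^ t * c⁻¹ = u := by
      rw [ht]; simp [MulAut.smul_def, mul_assoc]
    have htM : x ^ t ∈ M := by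
      have := hMn.conj_mem' u huM c
      rwa [← ht', show c⁻¹ * (c * x ^ t * c⁻¹) * c = x ^ t by group] at this
    have hpt : (p : ℤ) ∣ t := by
      by_contra hd
      obtain ⟨a', b', e⟩ := ((Nat.prime_iff_prime_int.mp hp).coprime_iff_not_dvd).mpr hd
      refine hxM ?_
      rw [show x = (x ^ p) ^ a' * (x ^ t) ^ b' by
        rw [← zpow_natCast, ← zpow_mul, ← zpow_mul, ← zpow_add, mul_comm (p : ℤ), mul_comm t, e, zpow_one]]
      exact mul_mem (zpow_mem hxp a') (zpow_mem htM b')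
    obtain ⟨t', rfl⟩ := hpt
    have hcz : x ^ ((p : ℤ) * t') ∈ Subgroup.center G := by
      rw [zpow_mul, zpow_natCast]; exact zpow_mem hcen t'
    rw [← ht', Subgroup.mem_center_iff.mp hcz c, mul_inv_cancel_right]
    exact zpow_mem (Subgroup.mem_sup_right (Subgroup.mem_zpowers x)) _
  have hdisj : Disjoint (Subgroup.zpowers x) A := by
    rw [disjoint_iff, eq_bot_iff]
    rintro g ⟨⟨i, rfl⟩, h⟩
    exact eq_one_of_mem hp hk hApp h
  have hcomp : (Subgroup.zpowers x).IsComplement' A := by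
    refine Subgroup.isComplement'_of_disjoint_and_mul_eq_univ hdisj ?_
    rw [← Subgroup.mul_normal, sup_comm]
    rw [show A ⊔ Subgroup.zpowers x = L from rfl, hLtop]; rfl
  refine ⟨x, A, p, hp, hAn, ⟨⟨fun a b => Subtype.ext (hAab a a.2 b b.2)⟩⟩, ⟨k, hk⟩, hApp, hcomp, hcen, ?_⟩
  -- `a ↦ [a, x]`
  let φ : A →* A :=
    { toFun := fun a => ⟨(a : G) * x * (a : G)⁻¹ * x⁻¹, by
        rw [show (a : G) * x * (a : G)⁻¹ * x⁻¹ = a * (x * (a : G)⁻¹ * x⁻¹) by group]
        exact mul_mem a.2 (hAn.conj_mem _ (inv_mem a.2) x)⟩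
      map_one' := Subtype.ext (by simp)
      map_mul' := fun a b => Subtype.ext (by
        have h := hAab (a : G) a.2 ((b : G) * x * (b : G)⁻¹ * x⁻¹) (by
          rw [show (b : G) * x * (b : G)⁻¹ * x⁻¹ = b * (x * (b : G)⁻¹ * x⁻¹) by group]
          exact mul_mem b.2 (hAn.conj_mem _ (inv_mem b.2) x))
        simp only [Subgroup.coe_mul]
        calc (a : G) * b * x * ((a : G) * b)⁻¹ * x⁻¹
            = (a : G) * ((b : G) * x * (b : G)⁻¹ * x⁻¹) * x * (a : G)⁻¹ * x⁻¹ := by group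
          _ = ((b : G) * x * (b : G)⁻¹ * x⁻¹) * ((a : G) * x * (a : G)⁻¹ * x⁻¹) := by rw [h]; group
          _ = _ := by
            refine hAab _ ?_ _ ?_
            · rw [show (b : G) * x * (b : G)⁻¹ * x⁻¹ = b * (x * (b : G)⁻¹ * x⁻¹) by group]
              exact mul_mem b.2 (hAn.conj_mem _ (inv_mem b.2) x)
            · rw [show (a : G) * x * (a : G)⁻¹ * x⁻¹ = a * (x * (a : G)⁻¹ * x⁻¹) by group]
              exact mul_mem a.2 (hAn.conj_mem _ (inv_mem a.2) x)) }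
  set B := φ.range.map A.subtype with hB
  have hBA : B ≤ A := Subgroup.map_subtype_le _
  set H := B ⊔ Subgroup.zpowers x with hH
  have hxH : x ∈ H := Subgroup.mem_sup_right (Subgroup.mem_zpowers x)
  have hHn : H.Normal := by
    have key : ∀ g : G, (∀ b ∈ B, g * b * g⁻¹ ∈ H) → g * x * g⁻¹ ∈ H → g ∈ Subgroup.normalizer (H : Set G) := by
      intro g h1 h2
      rw [Subgroup.mem_normalizer_iff_map_conj_eq]
      refine Subgroup.eq_of_le_of_card_ge ?_ (Subgroup.card_map_of_injective (MulAut.conj g).injective).ge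
      rw [Subgroup.map_sup, sup_le_iff]
      constructor
      · rintro _ ⟨b, hb, rfl⟩; exact h1 b hb
      · rw [MonoidHom.map_zpowers, Subgroup.zpowers_le]; exact h2
    rw [← Subgroup.normalizer_eq_top_iff, eq_top_iff, ← hLtop, hL, sup_le_iff]
    refine ⟨fun a ha => key a (fun b hb => ?_) ?_, Subgroup.zpowers_le.mpr (key x (fun b hb => ?_) ?_)⟩
    · rw [hAab a ha b (hBA hb), mul_inv_cancel_right]; exact Subgroup.mem_sup_left hb
    · have : a * x * a⁻¹ * x⁻¹ ∈ B := ⟨φ ⟨a, ha⟩, ⟨_, rfl⟩, rfl⟩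
      have h2 := mul_mem (Subgroup.mem_sup_left this : _ ∈ H) hxH
      rwa [inv_mul_cancel_right] at h2
    · exact mul_mem (mul_mem hxH (Subgroup.mem_sup_left hb)) (inv_mem hxH)
    · rwa [mul_inv_cancel_right]
  have hHtop : H = ⊤ := by
    haveI := hHn
    have hna : ¬ IsMulCommutative H := by
      intro hc
      obtain ⟨a, ha, hne⟩ := hxA
      set c := φ ⟨a, ha⟩ with hc'
      have hcx : Commute (c : G) x := congrArg Subtype.val (hc.is_comm.comm
        (⟨(c : G), Subgroup.mem_sup_left ⟨c, ⟨_, rfl⟩, rfl⟩⟩ : H) ⟨x, hxH⟩)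
      have hconj : a * x * a⁻¹ = (c : G) * x := by
        show a * x * a⁻¹ = a * x * a⁻¹ * x⁻¹ * x
        group
      have h2 : (c : G) ^ orderOf x = 1 := by
        have h1 : (a * x * a⁻¹) ^ orderOf x = 1 := by rw [conj_pow, pow_orderOf_eq_one]; group
        rwa [hconj, hcx.mul_pow, pow_orderOf_eq_one, mul_one] at h1
      have hc1 : (c : G) = 1 := orderOf_eq_one_iff.mp (Nat.eq_one_of_dvd_coprimes
        ((hp.coprime_iff_not_dvd.mpr hApp).pow_left k) (hk ▸ orderOf_dvd_of_pow_eq_one h2)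
        (Subgroup.orderOf_dvd_natCard A c.2))
      rw [hc1, one_mul, mul_inv_eq_iff_eq_mul] at hconj
      exact hne hconj.symm
    rw [← hS H hna]
    exact Subgroup.normalizer_eq_top H
  have hinj : Function.Injective φ := by
    refine Finite.injective_iff_surjective.mpr fun a => ?_
    have hBn : Subgroup.zpowers x ≤ Subgroup.normalizer (B : Set G) := by
      refine Subgroup.zpowers_le.mpr ?_
      rw [Subgroup.mem_normalizer_iff_map_conj_eq]
      refine Subgroup.eq_of_le_of_card_ge ?_ (Subgroup.card_map_of_injective (MulAut.conj x).injective).ge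
      rintro _ ⟨_, ⟨_, ⟨c, rfl⟩, rfl⟩, rfl⟩
      refine ⟨φ ⟨x * (c : G) * x⁻¹, hAn.conj_mem _ c.2 x⟩, ⟨_, rfl⟩, ?_⟩
      show x * (c : G) * x⁻¹ * x * (x * (c : G) * x⁻¹)⁻¹ * x⁻¹ = x * ((c : G) * x * (c : G)⁻¹ * x⁻¹) * x⁻¹
      group
    have ha : (a : G) ∈ (B : Set G) * (Subgroup.zpowers x : Set G) := by
      rw [← Subgroup.coe_mul_of_right_le_normalizer_left B (Subgroup.zpowers x) hBn, ← hH, hHtop]
      trivial
    obtain ⟨b', hb', y, hy, e'⟩ := ha
    obtain ⟨i', rfl⟩ := Subgroup.mem_zpowers_iff.mp hy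
    have h1 : x ^ i' = 1 := eq_one_of_mem hp hk hApp (by
      rw [show x ^ i' = b'⁻¹ * (a : G) by rw [← e']; simp]
      exact mul_mem (inv_mem (hBA hb')) a.2)
    rw [h1] at e'
    simp only [mul_one] at e'
    obtain ⟨c, ⟨d, hd⟩, hcb⟩ := hb'
    exact ⟨d, Subtype.ext (by rw [hd]; exact hcb.trans e')⟩
  intro a ha ha1 hfix
  refine ha1 (congrArg Subtype.val (hinj (a₁ := (⟨a, ha⟩ : A)) (a₂ := 1) (Subtype.ext ?_)))
  rw [map_one]
  show a * x * a⁻¹ * x⁻¹ = 1
  rw [show a * x * a⁻¹ * x⁻¹ = a * (x * a * x⁻¹)⁻¹ by group, hfix, mul_inv_cancel]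

theorem backward (x : G) (A : Subgroup G) (p : ℕ) (hp : p.Prime) [A.Normal] (hA : IsMulCommutative A)
    (hord : ∃ k : ℕ, orderOf x = p ^ k) (hcomp : (Subgroup.zpowers x).IsComplement' A)
    (hcen : x ^ p ∈ Subgroup.center G) (hfpf : ∀ a : G, a ∈ A → a ≠ 1 → x * a * x⁻¹ ≠ a)
    (H : Subgroup G) (hH : ¬ IsMulCommutative H) : Subgroup.normalizer (H : Set G) = H := by
  obtain ⟨k, hk⟩ := hord
  have hAc : ∀ a ∈ A, ∀ b ∈ A, a * b = b * a := fun a ha b hb =>
    congrArg Subtype.val (hA.is_comm.comm (⟨a, ha⟩ : A) ⟨b, hb⟩)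
  have hform : ∀ g : G, ∃ i : ℤ, ∃ a ∈ A, g = x ^ i * a := fun g => by
    obtain ⟨⟨⟨y, ⟨i, hi⟩⟩, a⟩, e, -⟩ := hcomp.existsUnique g
    exact ⟨i, a, a.2, by simpa [← hi] using e.symm⟩
  -- an element of `H` with exponent prime to `p`
  obtain ⟨i, a0, ha0, hmem, hip⟩ : ∃ i : ℤ, ∃ a ∈ A, x ^ i * a ∈ H ∧ ¬ (p : ℤ) ∣ i := by
    by_contra hc
    push Not at hc
    refine hH ⟨⟨fun g h => Subtype.ext ?_⟩⟩
    have key : ∀ g ∈ H, ∃ z ∈ Subgroup.center G, ∃ a ∈ A, g = z * a := by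
      intro g hg
      obtain ⟨i, a, ha, rfl⟩ := hform g
      obtain ⟨t, rfl⟩ := hc i a ha hg
      exact ⟨_, by rw [zpow_mul, zpow_natCast]; exact zpow_mem hcen t, a, ha, rfl⟩
    obtain ⟨z, hz, a, ha, e1⟩ := key g g.2
    obtain ⟨w, hw, b, hb, e2⟩ := key h h.2
    show (g : G) * h = h * g
    rw [e1, e2]
    have cz := fun y => (Subgroup.mem_center_iff.mp hz y)
    have cw := fun y => (Subgroup.mem_center_iff.mp hw y)
    calc z * a * (w * b) = z * (a * w) * b := by group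
      _ = z * (w * a) * b := by rw [cw a]
      _ = z * w * (b * a) := by rw [← hAc a ha b hb]; group
      _ = w * z * (b * a) := by rw [cw z]
      _ = w * (z * b) * a := by group
      _ = w * (b * z) * a := by rw [cz b]
      _ = _ := by group
  -- `⟨x ^ i⟩ = ⟨x⟩`
  obtain ⟨u, v, huv⟩ : IsCoprime ((p : ℤ) ^ k) i :=
    ((Nat.prime_iff_prime_int.mp hp).coprime_iff_not_dvd.mpr hip).pow_left
  have hxi : x = (x ^ i) ^ v := by
    rw [← zpow_mul, mul_comm]
    conv_lhs => rw [← zpow_one x, ← huv, zpow_add, mul_comm, zpow_mul,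
      show x ^ ((p : ℤ) ^ k) = 1 by rw [← Nat.cast_pow, zpow_natCast, ← hk, pow_orderOf_eq_one]]
    simp
  have hfpfi : ∀ b ∈ A, x ^ i * b = b * x ^ i → b = 1 := by
    intro b hb e
    by_contra hb1
    refine hfpf b hb hb1 (mul_inv_eq_iff_eq_mul.mpr ?_)
    have h2 := (show Commute (x ^ i) b from e).zpow_left v
    rwa [← hxi] at h2
  -- conjugate so that `x ∈ H`
  let θ : A → A := fun b => ⟨(x ^ i)⁻¹ * (b : G) * x ^ i * (b : G)⁻¹,
    mul_mem (Subgroup.Normal.conj_mem' inferInstance _ b.2 _) (inv_mem b.2)⟩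
  have hθ : Function.Injective θ := by
    intro b c e
    have e' : (x ^ i)⁻¹ * (b : G) * x ^ i * (b : G)⁻¹ = (x ^ i)⁻¹ * (c : G) * x ^ i * (c : G)⁻¹ :=
      congrArg Subtype.val e
    have h1 : x ^ i * ((c : G)⁻¹ * b) = (c : G)⁻¹ * b * x ^ i := by
      have h2 : (b : G) * x ^ i * (b : G)⁻¹ = c * x ^ i * (c : G)⁻¹ := by
        simpa [mul_assoc] using e'
      calc x ^ i * ((c : G)⁻¹ * b) = (c : G)⁻¹ * (c * x ^ i * (c : G)⁻¹) * b := by group
        _ = _ := by rw [← h2]; group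
    exact Subtype.ext (inv_mul_eq_one.mp (hfpfi _ (mul_mem (inv_mem c.2) b.2) h1)).symm
  obtain ⟨b, hb⟩ := Finite.injective_iff_surjective.mp hθ ⟨a0, ha0⟩
  have hb' : (x ^ i)⁻¹ * (b : G) * x ^ i * (b : G)⁻¹ = a0 := congrArg Subtype.val hb
  have hxconj : (b : G) * x ^ i * (b : G)⁻¹ ∈ H := by
    rw [show (b : G) * x ^ i * (b : G)⁻¹ = x ^ i * a0 by rw [← hb']; group]
    exact hmem
  have hxH : (b : G) * x * (b : G)⁻¹ ∈ H := by
    rw [hxi, ← conj_zpow]; exact zpow_mem hxconj v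
  set y := (b : G) * x * (b : G)⁻¹ with hy
  have hy_fpf : ∀ c ∈ A, y * c * y⁻¹ = c → c = 1 := by
    intro c hc e
    by_contra hc1
    refine hfpf c hc hc1 ?_
    have h1 : (b : G)⁻¹ * c * b = c := by
      rw [mul_assoc, ← hAc b b.2 c hc, inv_mul_cancel_left]
    calc x * c * x⁻¹ = x * ((b : G)⁻¹ * c * b) * x⁻¹ := by rw [h1]
      _ = (b : G)⁻¹ * (y * c * y⁻¹) * b := by rw [hy]; group
      _ = c := by rw [e, h1]
  have hyA : ∀ g : G, ∃ j : ℤ, ∃ c ∈ A, g = c * y ^ j := fun g => by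
    obtain ⟨j, c, hc, e⟩ := hform ((b : G)⁻¹ * g * b)
    refine ⟨j, (b : G) * (x ^ j * c * (x ^ j)⁻¹) * (b : G)⁻¹, ?_, ?_⟩
    · exact Subgroup.Normal.conj_mem inferInstance _ (Subgroup.Normal.conj_mem inferInstance _ hc _) _
    · rw [hy, conj_zpow]
      rw [show g = (b : G) * ((b : G)⁻¹ * g * b) * (b : G)⁻¹ by group, e]
      group
  refine le_antisymm (fun g hg => ?_) Subgroup.le_normalizer
  obtain ⟨j, c, hc, rfl⟩ := hyA g
  refine mul_mem ?_ (zpow_mem hxH j)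
  have hcN : c ∈ Subgroup.normalizer (H : Set G) := by
    have := mul_mem hg (inv_mem (zpow_mem (Subgroup.le_normalizer hxH) j))
    rwa [mul_inv_cancel_right] at this
  -- `c ↦ [c, y]` maps `A ⊓ H` onto itself
  let ψ : A → A := fun d => ⟨(d : G) * (y * (d : G)⁻¹ * y⁻¹),
    mul_mem d.2 (Subgroup.Normal.conj_mem inferInstance _ (inv_mem d.2) _)⟩
  have hψ : Function.Injective ψ := by
    intro d e h
    have h' : (d : G) * (y * (d : G)⁻¹ * y⁻¹) = (e : G) * (y * (e : G)⁻¹ * y⁻¹) := congrArg Subtype.val h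
    refine Subtype.ext (inv_mul_eq_one.mp (hy_fpf _ (mul_mem (inv_mem e.2) d.2) ?_)).symm
    have h2 : (d : G) * y * (d : G)⁻¹ = e * y * (e : G)⁻¹ := by
      rw [show (d : G) * y * (d : G)⁻¹ = (d : G) * (y * (d : G)⁻¹ * y⁻¹) * y by group, h']
      group
    calc y * ((e : G)⁻¹ * d) * y⁻¹ = (e : G)⁻¹ * (e * y * (e : G)⁻¹) * d * y⁻¹ := by group
      _ = (e : G)⁻¹ * (d * y * (d : G)⁻¹) * d * y⁻¹ := by rw [h2]
      _ = _ := by group
  have hmaps : ∀ d : A, (d : G) ∈ H → ((ψ d : A) : G) ∈ H := fun d hd =>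
    mul_mem hd (mul_mem (mul_mem hxH (inv_mem hd)) (inv_mem hxH))
  let ψH : {d : A // (d : G) ∈ H} → {d : A // (d : G) ∈ H} := fun d => ⟨ψ d, hmaps d d.2⟩
  have hψH : Function.Surjective ψH := Finite.injective_iff_surjective.mp
    fun d e h => Subtype.ext (hψ (congrArg Subtype.val h :))
  have hψc : ((ψ ⟨c, hc⟩ : A) : G) ∈ H := by
    show c * (y * c⁻¹ * y⁻¹) ∈ H
    rw [show c * (y * c⁻¹ * y⁻¹) = (c * y * c⁻¹) * y⁻¹ by group]
    exact mul_mem ((Subgroup.mem_normalizer_iff.mp hcN y).mp hxH) (inv_mem hxH)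
  obtain ⟨d, hd⟩ := hψH ⟨ψ ⟨c, hc⟩, hψc⟩
  have := hψ (congrArg Subtype.val hd :)
  rw [← show ((⟨c, hc⟩ : A) : G) = c from rfl, ← this]
  exact d.2

end Cfsg.Agent.Grp.SelfNorm
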