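import Mathlib
import Cfsg.Agent.Lib.Grp.Basic
import Cfsg.Agent.Lib.Grp.Frattini

/-!
Groups in which every non-abelian subgroup is self-normalizing are solvable or simple.
-/

set_option autoImplicit false

namespace Cfsg.Agent.Grp.SelfNorm

open scoped Pointwise commutatorElement

universe u

/-- Every non-commutative subgroup is self-normalizing. -/
def NaSelfNorm (G : Type u) [Group G] : Prop :=
  ∀ H : Subgroup G, ¬ IsMulCommutative H → Subgroup.normalizer (H : Set G) = H

variable {G : Type u} [Group G]

theorem isMulComm_iff {H : Subgroup G} : IsMulCommutative H ↔ ∀ a ∈ H, ∀ b ∈ H, a * b = b * a := by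
  refine ⟨fun h a ha b hb => congrArg Subtype.val (h.is_comm.comm (⟨a, ha⟩ : H) ⟨b, hb⟩),
    fun h => ⟨⟨fun a b => Subtype.ext (h a a.2 b b.2)⟩⟩⟩

theorem NaSelfNorm.quotient (h : NaSelfNorm G) (N : Subgroup G) [N.Normal] : NaSelfNorm (G ⧸ N) := by
  intro H hH
  have hne : ¬ IsMulCommutative (H.comap (QuotientGroup.mk' N)) := fun hc => hH (isMulComm_iff.mpr
    fun a ha b hb => by
      obtain ⟨x, rfl⟩ := QuotientGroup.mk'_surjective N a
      obtain ⟨y, rfl⟩ := QuotientGroup.mk'_surjective N b
      rw [← map_mul, isMulComm_iff.mp hc x ha y hb, map_mul])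
  refine le_antisymm (fun a ha => ?_) Subgroup.le_normalizer
  obtain ⟨x, rfl⟩ := QuotientGroup.mk'_surjective N a
  have hx : x ∈ Subgroup.normalizer ((H.comap (QuotientGroup.mk' N)) : Set G) := by
    refine Subgroup.mem_normalizer_iff.mpr fun y => ?_
    have := Subgroup.mem_normalizer_iff.mp ha (QuotientGroup.mk' N y)
    simpa using this
  rw [h _ hne] at hx
  exact hx

variable [Finite G]

/-- A central normal subgroup of order dividing the order of the derived group lies in `P'`. -/
theorem mem_commutator_sylow {p : ℕ} [Fact p.Prime] (P : Sylow p G) {z : G}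
    (hz : z ∈ Subgroup.center G) (hzG : z ∈ commutator G) (hzP : z ∈ (P : Subgroup G)) :
    (⟨z, hzP⟩ : (P : Subgroup G)) ∈ commutator (P : Subgroup G) := by
  let ϕ : (P : Subgroup G) →* Abelianization (P : Subgroup G) := Abelianization.of
  have key : ∀ (k : ℕ) (g₀ : G), g₀⁻¹ * z ^ k * g₀ ∈ (P : Subgroup G) → g₀⁻¹ * z ^ k * g₀ = z ^ k := by
    intro k g₀ _
    rw [Subgroup.mem_center_iff.mp (pow_mem hz k) g₀⁻¹, inv_mul_cancel_right]
  have h1 : MonoidHom.transfer ϕ z = 1 :=
    (Abelianization.commutator_subset_ker (MonoidHom.transfer ϕ) hzG : z ∈ (MonoidHom.transfer ϕ).ker)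
  rw [MonoidHom.transfer_eq_pow ϕ z key] at h1
  have h2 : (⟨z, hzP⟩ : (P : Subgroup G)) ^ (P : Subgroup G).index ∈ commutator (P : Subgroup G) := by
    rw [← Abelianization.ker_of, MonoidHom.mem_ker]
    exact h1
  obtain ⟨j, hj⟩ := IsPGroup.iff_orderOf.mp P.isPGroup' ⟨z, hzP⟩
  obtain ⟨u, v, huv⟩ : IsCoprime ((p : ℤ) ^ j) ((P : Subgroup G).index : ℤ) := by
    rw [← Nat.cast_pow, Int.isCoprime_iff_nat_coprime]
    simpa using (((Fact.out : p.Prime).coprime_iff_not_dvd).mpr P.not_dvd_index).pow_left j
  have h3 : (⟨z, hzP⟩ : (P : Subgroup G)) = ((⟨z, hzP⟩ : (P : Subgroup G)) ^ (P : Subgroup G).index) ^ v := by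
    conv_lhs => rw [← zpow_one (⟨z, hzP⟩ : (P : Subgroup G)), ← huv, zpow_add, mul_comm u, zpow_mul, ← Nat.cast_pow,
      zpow_natCast, ← hj, pow_orderOf_eq_one, one_zpow, one_mul, mul_comm, zpow_mul, zpow_natCast]
  rw [h3]
  exact zpow_mem h2 v

theorem step (hS : NaSelfNorm G) (hns : ¬ Group.IsSolvable G) (N : Subgroup G) [N.Normal] (hN : N ≠ ⊥)
    (hNmin : ∀ K : Subgroup G, K.Normal → K ≤ N → K = ⊥ ∨ K = N) (hNtop : N ≠ ⊤)
    (hQsimple : IsSimpleGroup (G ⧸ N)) (hQna : ¬ ∀ a b : G ⧸ N, a * b = b * a) : False := by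
  classical
  have habn : ∀ H : Subgroup G, H.Normal → H ≠ ⊤ → IsMulCommutative H := by
    intro H hH hne
    by_contra hc
    refine hne ?_
    rw [← hS H hc]
    haveI := hH
    exact Subgroup.normalizer_eq_top H
  have hNab := isMulComm_iff.mp (habn N inferInstance hNtop)
  haveI := hQsimple
  let π := QuotientGroup.mk' N
  have hπ : Function.Surjective π := QuotientGroup.mk'_surjective N
  -- the centralizer of `N`
  set C := Subgroup.centralizer (N : Set G)
  have hNC : N ≤ C := fun x hx => Subgroup.mem_centralizer_iff.mpr fun y hy => hNab y hy x hx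
  by_cases hC : C = ⊤
  · -- central case
    have hNc : N ≤ Subgroup.center G := fun x hx => Subgroup.mem_center_iff.mpr fun g =>
      (Subgroup.mem_centralizer_iff.mp (hC.ge (Subgroup.mem_top g)) x hx).symm
    have hperf : commutator G = ⊤ := by
      by_contra hne
      apply hns
      have hc := habn _ inferInstance hne
      exact (Group.isSolvable_iff_subgroup_quotient (commutator G)).mpr
        ⟨Group.isSolvable_of_comm fun a b => hc.is_comm.comm a b,
          Group.isSolvable_of_comm fun a b => ((Subgroup.Normal.quotient_commutative_iff_commutator_le).mpr le_rfl).is_comm.comm a b⟩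
    obtain ⟨p, hp, hpN⟩ := Nat.exists_prime_and_dvd (n := Nat.card N)
      (fun e => hN (Subgroup.eq_bot_of_card_eq N e))
    haveI := Fact.mk hp
    obtain ⟨z0, hz0⟩ := exists_prime_orderOf_dvd_card' p hpN
    have hNz : N = Subgroup.zpowers (z0 : G) := by
      have hzn : (Subgroup.zpowers (z0 : G)).Normal := ⟨fun a ha g => by
        have hac : a ∈ Subgroup.center G := Subgroup.zpowers_le.mpr (hNc z0.2) ha
        rwa [Subgroup.mem_center_iff.mp hac g, mul_inv_cancel_right]⟩
      refine ((hNmin _ hzn (Subgroup.zpowers_le.mpr z0.2)).resolve_left fun e => ?_).symm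
      rw [Subgroup.zpowers_eq_bot, OneMemClass.coe_eq_one] at e
      rw [e, orderOf_one] at hz0
      exact hp.one_lt.ne hz0
    have hNcard : Nat.card N = p := by rw [hNz, Nat.card_zpowers, Subgroup.orderOf_coe, hz0]
    obtain ⟨P⟩ : Nonempty (Sylow p G) := inferInstance
    have hNP : N ≤ P := by
      obtain ⟨T, hT⟩ := (IsPGroup.of_card (p := p) (n := 1) (by rw [hNcard, pow_one]) : IsPGroup p N).exists_le_sylow
      obtain ⟨g, hg⟩ := MulAction.exists_smul_eq G T P
      intro x hx
      rw [← hg]
      show x ∈ MulAut.conj g • (T : Subgroup G)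
      rw [Subgroup.mem_pointwise_smul_iff_inv_smul_mem]
      refine hT ?_
      simpa [MulAut.smul_def, mul_assoc] using (Subgroup.Normal.conj_mem' inferInstance x hx g)
    have hNP' : ∀ x (hx : x ∈ N), (⟨x, hNP hx⟩ : (P : Subgroup G)) ∈ commutator (P : Subgroup G) :=
      fun x hx => mem_commutator_sylow P (hNc hx) (hperf.ge (Subgroup.mem_top x)) (hNP hx)
    haveI : Group.IsNilpotent (P : Subgroup G) := P.isPGroup'.isNilpotent
    have hzP' := hNP' (z0 : G) z0.2
    have hPna : ∃ u v : (P : Subgroup G), u * v ≠ v * u := by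
      by_contra hc
      push Not at hc
      have hb : commutator (P : Subgroup G) = ⊥ := by
        rw [eq_bot_iff, commutator_def, Subgroup.commutator_le]
        intro u _ v _
        rw [Subgroup.mem_bot]
        exact commutatorElement_eq_one_iff_mul_comm.mpr (hc u v)
      rw [hb, Subgroup.mem_bot] at hzP'
      have : (z0 : G) = 1 := congrArg Subtype.val hzP'
      rw [OneMemClass.coe_eq_one] at this
      rw [this, orderOf_one] at hz0
      exact hp.one_lt.ne hz0
    -- maximal subgroups of `P` are abelian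
    have hmax : ∀ M : Subgroup (P : Subgroup G), IsCoatom M → ∀ a ∈ M, ∀ b ∈ M, a * b = b * a := by
      intro M hM a ha b hb
      by_contra hc
      have hna : ¬ IsMulCommutative (M.map (P : Subgroup G).subtype) := fun h => hc (Subtype.ext
        (isMulComm_iff.mp h _ ⟨a, ha, rfl⟩ _ ⟨b, hb, rfl⟩))
      have hMn := (coatom_index_eq_of_pGroup P.isPGroup' hM).1
      have hle : (P : Subgroup G) ≤ M.map (P : Subgroup G).subtype := by
        intro y hy
        rw [← hS _ hna]
        refine Subgroup.mem_normalizer_iff.mpr fun w => ⟨?_, ?_⟩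
        · rintro ⟨w, hw, rfl⟩
          exact ⟨_, hMn.conj_mem w hw ⟨y, hy⟩, rfl⟩
        · rintro ⟨w', hw, e⟩
          refine ⟨_, hMn.conj_mem' w' hw ⟨y, hy⟩, ?_⟩
          show y⁻¹ * (w' : G) * y = w
          rw [show (w' : G) = y * w * y⁻¹ from e]; group
      refine hM.1 (eq_top_iff.mpr fun y _ => ?_)
      obtain ⟨y', hy', e⟩ := hle y.2
      rw [← show y' = y from Subtype.ext e]; exact hy'
    -- the derived group of `P` has order `p`
    obtain ⟨u, v, huv⟩ := hPna
    obtain ⟨M1, hM1, -⟩ := (eq_top_or_exists_le_coatom (⊥ : Subgroup (P : Subgroup G))).resolve_left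
      (fun e => huv (by
        rw [show u = 1 from Subgroup.mem_bot.mp (e.ge (Subgroup.mem_top u))]; simp))
    obtain ⟨b, hbM⟩ : ∃ b, b ∉ M1 := by
      by_contra hc; push Not at hc; exact hM1.1 (eq_top_iff.mpr fun y _ => hc y)
    have hzb : Subgroup.zpowers b ≠ ⊤ := fun e => huv (by
      obtain ⟨i, rfl⟩ := Subgroup.mem_zpowers_iff.mp (e.ge (Subgroup.mem_top u))
      obtain ⟨j, rfl⟩ := Subgroup.mem_zpowers_iff.mp (e.ge (Subgroup.mem_top v))
      exact (((Commute.refl b).zpow_left i).zpow_right j).eq)
    obtain ⟨M2, hM2, hbM2⟩ := (eq_top_or_exists_le_coatom (Subgroup.zpowers b)).resolve_left hzb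
    have hbM2' : b ∈ M2 := hbM2 (Subgroup.mem_zpowers b)
    have h12 : M1 ⊔ M2 = ⊤ := hM1.2 _ (lt_of_le_of_ne le_sup_left fun e => hbM (e.ge (Subgroup.mem_sup_right hbM2')))
    obtain ⟨a, haM1, haM2⟩ : ∃ a ∈ M1, a ∉ M2 := by
      by_contra hc; push Not at hc
      exact hM2.1 (top_le_iff.mp (h12 ▸ sup_le hc le_rfl))
    have hcen : ∀ w ∈ M1 ⊓ M2, w ∈ Subgroup.center (P : Subgroup G) := by
      intro w hw
      rw [Subgroup.mem_center_iff]
      intro y
      have hle : M1 ⊔ M2 ≤ Subgroup.centralizer ({w} : Set (P : Subgroup G)) := sup_le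
        (fun m hm => Subgroup.mem_centralizer_singleton_iff.mpr (hmax M1 hM1 m hm w hw.1))
        (fun m hm => Subgroup.mem_centralizer_singleton_iff.mpr (hmax M2 hM2 m hm w hw.2))
      exact Subgroup.mem_centralizer_singleton_iff.mp (hle (h12.ge (Subgroup.mem_top y)))
    have hΦ : ∀ M : Subgroup (P : Subgroup G), IsCoatom M → ∀ y, y ^ p ∈ M ∧ ∀ y', ⁅y, y'⁆ ∈ M := by
      intro M hM y
      exact ⟨frattini_le_coatom hM (pGroup_pow_mem_frattini P.isPGroup' y), fun y' =>
        frattini_le_coatom hM (pGroup_commutator_le_frattini P.isPGroup'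
          (Subgroup.commutator_mem_commutator (Subgroup.mem_top _) (Subgroup.mem_top _)))⟩
    set c := ⁅a, b⁆ with hc
    have hcc : c ∈ Subgroup.center (P : Subgroup G) := hcen c ⟨(hΦ M1 hM1 a).2 b, (hΦ M2 hM2 a).2 b⟩
    have hcp : c ^ p = 1 := by
      have h1 : a * b * a⁻¹ = c * b := by rw [hc, commutatorElement_def]; group
      have h2 : a * b ^ p * a⁻¹ = c ^ p * b ^ p := by
        rw [← conj_pow, h1, (show Commute c b from (Subgroup.mem_center_iff.mp hcc b).symm).mul_pow]
      have h3 : b ^ p ∈ Subgroup.center (P : Subgroup G) := hcen _ ⟨(hΦ M1 hM1 b).1, (hΦ M2 hM2 b).1⟩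
      rw [Subgroup.mem_center_iff.mp h3 a, mul_inv_cancel_right] at h2
      exact right_eq_mul.mp h2
    haveI hCn : (Subgroup.zpowers c).Normal := ⟨fun y hy g => by
      have hyc : y ∈ Subgroup.center (P : Subgroup G) := Subgroup.zpowers_le.mpr hcc hy
      rwa [Subgroup.mem_center_iff.mp hyc g, mul_inv_cancel_right]⟩
    -- `P = ⟨a, b⟩ (M1 ⊓ M2)`
    have hP'c : commutator (P : Subgroup G) ≤ Subgroup.zpowers c := by
      let q := QuotientGroup.mk' (Subgroup.zpowers c)
      have hab : Commute (q a) (q b) := by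
        refine commutatorElement_eq_one_iff_mul_comm.mp ?_
        rw [← map_commutatorElement]
        exact (QuotientGroup.eq_one_iff _).mpr (Subgroup.mem_zpowers c)
      have hgen : Subgroup.closure ({a, b} ∪ ((M1 ⊓ M2 : Subgroup (P : Subgroup G)) : Set (P : Subgroup G))) = ⊤ := by
        set K := Subgroup.closure ({a, b} ∪ ((M1 ⊓ M2 : Subgroup (P : Subgroup G)) : Set (P : Subgroup G)))
        have hKa : a ∈ K := Subgroup.subset_closure (Or.inl (Set.mem_insert _ _))
        have hKb : b ∈ K := Subgroup.subset_closure (Or.inl (Set.mem_insert_of_mem _ rfl))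
        have hKi : M1 ⊓ M2 ≤ K := fun w hw => Subgroup.subset_closure (Or.inr hw)
        have hn1 := (coatom_index_eq_of_pGroup P.isPGroup' hM1)
        have hn2 := (coatom_index_eq_of_pGroup P.isPGroup' hM2)
        haveI := hn2.1
        haveI := hn1.1
        have h1 : M1 ≤ K := by
          have hlt : (M1 ⊓ M2) < M1 ⊓ K :=
            lt_of_le_of_ne (le_inf inf_le_left hKi) fun e => haM2 (e.ge (⟨haM1, hKa⟩ : a ∈ M1 ⊓ K)).2
          have e1 : (M1 ⊓ M2).relIndex M1 ∣ p := by
            rw [Subgroup.inf_relIndex_left]; exact (Subgroup.relIndex_dvd_index_of_normal _ _).trans hn2.2.dvd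
          have h2 := Subgroup.relIndex_mul_relIndex (M1 ⊓ M2) (M1 ⊓ K) M1 hlt.le inf_le_left
          rcases (Nat.dvd_prime hp).mp e1 with e | e
          · exact absurd (Subgroup.relIndex_eq_one.mp e) fun h => haM2 (h haM1).2
          · rw [e] at h2
            rcases (Nat.dvd_prime hp).mp (Dvd.intro _ h2) with e' | e'
            · exact absurd (Subgroup.relIndex_eq_one.mp e') hlt.not_ge
            · rw [e'] at h2
              exact fun w hw => (Subgroup.relIndex_eq_one.mp
                (mul_left_cancel₀ hp.ne_zero (h2.trans (mul_one p).symm)) hw).2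
        exact hM1.2 _ (lt_of_le_of_ne h1 fun e => hbM (e.ge hKb))
      have hcomm : ∀ y y' : (P : Subgroup G), Commute (q y) (q y') := by
        intro y y'
        have hs : ∀ s ∈ ({a, b} ∪ ((M1 ⊓ M2 : Subgroup (P : Subgroup G)) : Set (P : Subgroup G))),
            ∀ t ∈ ({a, b} ∪ ((M1 ⊓ M2 : Subgroup (P : Subgroup G)) : Set (P : Subgroup G))), Commute (q s) (q t) := by
          intro s hs t ht
          rcases hs with (rfl | rfl) | hs
          · rcases ht with (rfl | rfl) | ht
            · exact Commute.refl _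
            · exact hab
            · exact (show Commute s t from Subgroup.mem_center_iff.mp (hcen t ht) s).map q
          · rcases ht with (rfl | rfl) | ht
            · exact hab.symm
            · exact Commute.refl _
            · exact (show Commute s t from Subgroup.mem_center_iff.mp (hcen t ht) s).map q
          · exact (show Commute t s from Subgroup.mem_center_iff.mp (hcen s hs) t).symm.map q
        have hy := hgen.ge (Subgroup.mem_top y)
        have hy' := hgen.ge (Subgroup.mem_top y')
        induction hy using Subgroup.closure_induction with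
        | mem s hsm =>
          induction hy' using Subgroup.closure_induction with
          | mem t htm => exact hs s hsm t htm
          | one => rw [map_one]; exact Commute.one_right _
          | mul t t' _ _ h h' => rw [map_mul]; exact h.mul_right h'
          | inv t _ h => rw [map_inv]; exact h.inv_right
        | one => rw [map_one]; exact Commute.one_left _
        | mul s s' _ _ h h' => rw [map_mul]; exact h.mul_left h'
        | inv s _ h => rw [map_inv]; exact h.inv_left
      rw [commutator_def, Subgroup.commutator_le]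
      intro y _ y' _
      refine (QuotientGroup.eq_one_iff _).mp ?_
      show q ⁅y, y'⁆ = 1
      rw [map_commutatorElement]
      exact commutatorElement_eq_one_iff_mul_comm.mpr (hcomm y y').eq
    have hPN : (commutator (P : Subgroup G)).map (P : Subgroup G).subtype = N := by
      refine (Subgroup.eq_of_le_of_card_ge (H := N) (K := (commutator (P : Subgroup G)).map (P : Subgroup G).subtype)
        (fun x hx => Subgroup.mem_map.mpr ⟨⟨x, hNP hx⟩, hNP' x hx, rfl⟩) ?_).symm
      rw [Subgroup.card_map_of_injective (P : Subgroup G).subtype_injective, hNcard]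
      refine (Subgroup.card_le_of_le hP'c).trans ?_
      rw [Nat.card_zpowers]
      exact Nat.le_of_dvd hp.pos (orderOf_dvd_of_pow_eq_one hcp)
    -- Burnside in `G ⧸ N`
    let Pb : Sylow p (G ⧸ N) := P.mapSurjective hπ
    have hPb : (Pb : Subgroup (G ⧸ N)) = (P : Subgroup G).map π := rfl
    have hNn : Subgroup.normalizer ((P : Subgroup G) : Set G) = P := hS _ fun h => huv (Subtype.ext
      (isMulComm_iff.mp h u u.2 v v.2))
    have hle : Subgroup.normalizer ((Pb : Subgroup (G ⧸ N)) : Set (G ⧸ N)) ≤
        Subgroup.centralizer ((Pb : Subgroup (G ⧸ N)) : Set (G ⧸ N)) := by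
      intro y hy
      obtain ⟨x, rfl⟩ := hπ y
      have hx : x ∈ Subgroup.normalizer ((P : Subgroup G) : Set G) := by
        have hcm : (Pb : Subgroup (G ⧸ N)).comap π = (P : Subgroup G) := by
          rw [hPb, Subgroup.comap_map_eq, QuotientGroup.ker_mk']
          exact sup_eq_left.mpr hNP
        refine Subgroup.mem_normalizer_iff.mpr fun w => ?_
        rw [← hcm, Subgroup.mem_comap, Subgroup.mem_comap, map_mul, map_mul, map_inv]
        exact Subgroup.mem_normalizer_iff.mp hy (π w)
      rw [hNn] at hx
      refine Subgroup.mem_centralizer_iff.mpr ?_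
      rintro _ ⟨w, hw, rfl⟩
      refine commutatorElement_eq_one_iff_mul_comm.mp ?_
      rw [← map_commutatorElement]
      refine (QuotientGroup.eq_one_iff _).mpr (hPN.le ⟨⁅(⟨w, hw⟩ : (P : Subgroup G)), ⟨x, hx⟩⁆, ?_, rfl⟩)
      exact Subgroup.commutator_mem_commutator (Subgroup.mem_top _) (Subgroup.mem_top _)
    have hcompl := MonoidHom.ker_transferSylow_isComplement' Pb hle
    set K := (MonoidHom.transferSylow Pb hle).ker
    rcases (inferInstance : K.Normal).eq_bot_or_eq_top with e | e
    · have hall : (Pb : Subgroup (G ⧸ N)) = ⊤ := by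
        rw [e] at hcompl
        exact Subgroup.isComplement'_bot_left.mp hcompl
      refine hQna fun y y' => ?_
      have hy : y ∈ Subgroup.centralizer ((Pb : Subgroup (G ⧸ N)) : Set (G ⧸ N)) := hle
        (Subgroup.le_normalizer (hall.ge (Subgroup.mem_top y)))
      exact (Subgroup.mem_centralizer_iff.mp hy y' (hall.ge (Subgroup.mem_top y'))).symm
    · rw [e] at hcompl
      have hPbot := Subgroup.isComplement'_top_left.mp hcompl
      refine huv (Subtype.ext ?_)
      have hPN' : (P : Subgroup G) ≤ N := by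
        intro x hx
        refine (QuotientGroup.eq_one_iff x).mp (Subgroup.mem_bot.mp (hPbot.le ?_))
        rw [hPb]; exact ⟨x, hx, rfl⟩
      exact hNab u (hPN' u.2) v (hPN' v.2)
  · -- self-centralizing case
    have hCN : C = N := by
      haveI hn : (C.map π).Normal := Subgroup.Normal.map inferInstance π hπ
      rcases hn.eq_bot_or_eq_top with e | e
      · refine le_antisymm (fun x hx => (QuotientGroup.eq_one_iff x).mp ?_) hNC
        exact Subgroup.mem_bot.mp (e.le ⟨x, hx, rfl⟩)
      · exfalso
        apply hC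
        have := congrArg (Subgroup.comap π) e
        rwa [Subgroup.comap_map_eq, QuotientGroup.ker_mk', sup_eq_left.mpr hNC, Subgroup.comap_top] at this
    have hself : ∀ T : Subgroup (G ⧸ N), T ≠ ⊥ → Subgroup.normalizer (T : Set (G ⧸ N)) = T := by
      intro T hT
      have hna : ¬ IsMulCommutative (T.comap π) := fun hc => hT (eq_bot_iff.mpr fun y hy => by
        obtain ⟨x, rfl⟩ := hπ y
        refine (QuotientGroup.eq_one_iff x).mpr (hCN.le (Subgroup.mem_centralizer_iff.mpr fun n hn => ?_))
        refine isMulComm_iff.mp hc n ?_ x hy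
        show π n ∈ T
        rw [show π n = 1 from (QuotientGroup.eq_one_iff n).mpr hn]; exact one_mem T)
      refine le_antisymm (fun y hy => ?_) Subgroup.le_normalizer
      obtain ⟨x, rfl⟩ := hπ y
      have hx : x ∈ Subgroup.normalizer ((T.comap π) : Set G) := by
        refine Subgroup.mem_normalizer_iff.mpr fun w => ?_
        rw [Subgroup.mem_comap, Subgroup.mem_comap, map_mul, map_mul, map_inv]
        exact Subgroup.mem_normalizer_iff.mp hy (π w)
      rw [hS _ hna] at hx
      exact hx
    haveI : IsZGroup (G ⧸ N) := ⟨fun q hq S => by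
      haveI := Fact.mk hq
      by_contra hcyc
      haveI : Nontrivial S := by
        by_contra h
        rw [not_nontrivial_iff_subsingleton] at h
        exact hcyc isCyclic_of_subsingleton
      haveI := S.isPGroup'.center_nontrivial
      obtain ⟨⟨w, hw⟩, hw1⟩ := exists_ne (1 : Subgroup.center S)
      have hw1' : w ≠ 1 := fun e => hw1 (Subtype.ext e)
      have hT := hself (Subgroup.zpowers (w : G ⧸ N)) (fun e => hw1' (Subtype.ext (Subgroup.zpowers_eq_bot.mp e)))
      have hle : (S : Subgroup (G ⧸ N)) ≤ Subgroup.zpowers (w : G ⧸ N) := by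
        intro s hs
        rw [← hT, Subgroup.mem_normalizer_iff_map_conj_eq]
        refine Subgroup.eq_of_le_of_card_ge ?_ (Subgroup.card_map_of_injective (MulAut.conj s).injective).ge
        rw [MonoidHom.map_zpowers, Subgroup.zpowers_le]
        show s * (w : G ⧸ N) * s⁻¹ ∈ _
        have hcm : s * (w : G ⧸ N) = w * s :=
          congrArg Subtype.val (Subgroup.mem_center_iff.mp hw ⟨s, hs⟩)
        rw [hcm, mul_inv_cancel_right]
        exact Subgroup.mem_zpowers _
      exact hcyc (isCyclic_of_injective (Subgroup.inclusion hle) (Subgroup.inclusion_injective hle))⟩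
    have hsol : Group.IsSolvable (G ⧸ N) := inferInstance
    exact hns ((Group.isSolvable_iff_subgroup_quotient N).mpr
      ⟨Group.isSolvable_of_comm fun a b => Subtype.ext (hNab a a.2 b b.2), hsol⟩)

theorem solvable_or_simple : ∀ (n : ℕ) (G : Type u) [Group G] [Finite G], Nat.card G = n → NaSelfNorm G →
    Group.IsSolvable G ∨ IsSimpleGroup G := by
  intro n
  induction n using Nat.strong_induction_on with
  | _ n ih =>
    intro G _ _ hn hS
    by_cases hsol : Group.IsSolvable G
    · exact Or.inl hsol
    by_cases hsimple : IsSimpleGroup G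
    · exact Or.inr hsimple
    exfalso
    have hnt : (⊤ : Subgroup G) ≠ ⊥ := fun e => hsol (Group.isSolvable_of_comm fun a b => by
      rw [Subgroup.mem_bot.mp (e.le (Subgroup.mem_top a))]; simp)
    obtain ⟨N, hNn, hN, -, hNmin⟩ := exists_minimal_normal_le hnt
    haveI := hNn
    have hNtop : N ≠ ⊤ := fun e => by
      haveI : Nontrivial G := by
        by_contra h
        rw [not_nontrivial_iff_subsingleton] at h
        exact hnt (Subsingleton.elim _ _)
      exact hsimple ⟨fun K hK => (hNmin K hK (e ▸ le_top)).imp id fun h => h.trans e⟩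
    have hNab : IsMulCommutative N := by
      by_contra hc
      apply hNtop
      rw [← hS N hc]
      exact Subgroup.normalizer_eq_top N
    have hNs : Group.IsSolvable N := Group.isSolvable_of_comm fun a b => hNab.is_comm.comm a b
    rcases ih _ (hn ▸ card_quotient_lt hN) (G ⧸ N) rfl (hS.quotient N) with h | h
    · exact hsol ((Group.isSolvable_iff_subgroup_quotient N).mpr ⟨hNs, h⟩)
    · refine step hS hsol N hN hNmin hNtop h fun hc => hsol ?_
      exact (Group.isSolvable_iff_subgroup_quotient N).mpr ⟨hNs, Group.isSolvable_of_comm hc⟩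

end Cfsg.Agent.Grp.SelfNorm
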