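import Mathlib
import Cfsg.Agent.S3736
import Cfsg.Agent.S0094
import Cfsg.Agent.Lib.Grp.RankTwoFPF
import Cfsg.Agent.Lib.Grp.Cores

/-!
An element of order six and a fixed-point-free 3-element force an elementary abelian group of order 8.
-/

set_option autoImplicit false
set_option linter.style.haveILetI false
set_option linter.unusedSectionVars false
set_option linter.unusedSimpArgs false

namespace Cfsg.Agent.Grp.SixElement

open Subgroup
open scoped commutatorElement

universe u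

variable {G : Type u} [Group G] [Finite G]

theorem exists_ne_one_of_ne_bot {H : Type*} [Group H] {K : Subgroup H} (h : K ≠ ⊥) :
    ∃ x, x ∈ K ∧ x ≠ 1 := by
  simpa using (Subgroup.bot_or_exists_ne_one K).resolve_left h

/-- Elements squaring to `1` commute. -/
theorem comm_of_sq {A : Subgroup G} (h : ∀ x ∈ A, x ^ 2 = 1) : IsMulCommutative A :=
  ⟨⟨fun a b => by
    have ha : a * a = 1 := Subtype.ext (by simpa [pow_two] using h a a.2)
    have hb : b * b = 1 := Subtype.ext (by simpa [pow_two] using h b b.2)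
    have hab : (a * b) * (a * b) = 1 := Subtype.ext (by simpa [pow_two] using h _ (a * b).2)
    rw [eq_inv_of_mul_eq_one_left hab, mul_inv_rev, ← eq_inv_of_mul_eq_one_left ha,
      ← eq_inv_of_mul_eq_one_left hb]⟩⟩

/-- Without an elementary abelian subgroup of order 8, elementary abelian subgroups have order at most 4. -/
theorem card_le_four (hno : ¬ ∃ E : Subgroup G, Cfsg.IsElementaryAbelian 2 E ∧ Nat.card E = 8)
    {A : Subgroup G} (h : ∀ x ∈ A, x ^ 2 = 1) : Nat.card A ≤ 4 := by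
  by_contra hA
  haveI : Fact (Nat.Prime 2) := ⟨Nat.prime_two⟩
  have hAp : IsPGroup 2 A := fun a => ⟨1, Subtype.ext (by simpa using h a a.2)⟩
  obtain ⟨k, hk⟩ := IsPGroup.iff_card.mp hAp
  have hk3 : 3 ≤ k := by
    by_contra h3
    interval_cases k <;> omega
  obtain ⟨E, hE⟩ := Sylow.exists_subgroup_card_pow_prime 2
    (show 2 ^ 3 ∣ Nat.card A by rw [hk]; exact pow_dvd_pow 2 hk3)
  refine hno ⟨E.map A.subtype, ?_, by rw [card_map_of_injective A.subtype_injective, hE]; rfl⟩
  have hsq : ∀ x ∈ E.map A.subtype, x ^ 2 = 1 := fun x hx => h x (map_subtype_le E hx)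
  exact ⟨comm_of_sq hsq, hsq⟩

/-- The only nontrivial subgroup of a four-group invariant under a fixed-point-free element is itself. -/
theorem eq_of_invariant {W K : Subgroup G} {d : G} (hW4 : Nat.card W = 4)
    (hfpf : W ⊓ centralizer {d} = ⊥) (hKW : K ≤ W) (hdK : d ∈ normalizer (K : Set G))
    (hK : K ≠ ⊥) : K = W := by
  classical
  refine eq_of_le_of_card_ge hKW ?_
  rw [hW4]
  obtain ⟨i, hi, hKc⟩ := (Nat.dvd_prime_pow (m := 2) Nat.prime_two).mp
    (show Nat.card K ∣ 2 ^ 2 by rw [show 2 ^ 2 = Nat.card W from hW4.symm]; exact card_dvd_of_le hKW)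
  interval_cases i
  · exact absurd (card_eq_one.mp hKc) hK
  · exfalso
    obtain ⟨k, hk, hk1⟩ := exists_ne_one_of_ne_bot hK
    have hk' : d * k * d⁻¹ ∈ K := (mem_normalizer_iff.mp hdK k).mp hk
    have hfix : d * k * d⁻¹ = k := by
      by_contra hne
      haveI := Fintype.ofFinite K
      have h3 : ({1, ⟨k, hk⟩, ⟨_, hk'⟩} : Finset K).card = 3 := by
        have : d * k * d⁻¹ ≠ 1 := fun h => hk1 (conj_eq_one_iff.mp h)
        simp [Subtype.ext_iff, hk1, Ne.symm hk1, Ne.symm hne, this, Ne.symm this]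
      have := Finset.card_le_univ ({1, ⟨k, hk⟩, ⟨_, hk'⟩} : Finset K)
      rw [h3, ← Nat.card_eq_fintype_card, hKc] at this
      norm_num at this
    have : k ∈ W ⊓ centralizer {d} := ⟨hKW hk, mem_centralizer_iff.mpr fun g hg => by
      rw [Set.mem_singleton_iff] at hg
      subst hg
      exact mul_inv_eq_iff_eq_mul.mp hfix⟩
    rw [hfpf, mem_bot] at this
    exact hk1 this
  · simp [hKc]

/-- `S3739`. -/
theorem main (hchar : centralizer (Cfsg.pCore 2 G : Set G) ≤ Cfsg.pCore 2 G)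
    (hsix : ∃ g : G, orderOf g = 6) (d : G) (hd : IsPGroup 3 ↥(zpowers d))
    (W : Subgroup G) (hW : Cfsg.IsElementaryAbelian 2 W) (hW1 : W ≠ ⊥)
    (hdW : d ∈ normalizer (W : Set G)) (hfpf : W ⊓ centralizer {d} = ⊥) :
    ∃ E : Subgroup G, Cfsg.IsElementaryAbelian 2 E ∧ Nat.card E = 8 := by
  classical
  by_contra hno
  haveI : Fact (Nat.Prime 2) := ⟨Nat.prime_two⟩
  haveI : Fact (Nat.Prime 3) := ⟨by norm_num⟩
  have hWp : IsPGroup 2 W := fun a => ⟨1, Subtype.ext (by simpa using hW.2 a a.2)⟩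
  obtain ⟨w, hwc⟩ := IsPGroup.iff_card.mp hWp
  have hfixd : ∀ k ∈ W, k ≠ 1 → d * k * d⁻¹ ≠ k := by
    intro k hk hk1 hfix
    have : k ∈ W ⊓ centralizer {d} := ⟨hk, mem_centralizer_iff.mpr fun g hg => by
      rw [Set.mem_singleton_iff] at hg
      subst hg
      exact mul_inv_eq_iff_eq_mul.mp hfix⟩
    rw [hfpf, mem_bot] at this
    exact hk1 this
  have hW4 : Nat.card W = 4 := by
    have h4 := card_le_four hno hW.2
    have hw3 : w < 3 := by
      by_contra h
      have := Nat.pow_le_pow_right two_pos (not_lt.mp h)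
      omega
    interval_cases w
    · exact absurd (card_eq_one.mp hwc) hW1
    · exfalso
      obtain ⟨k, hk, hk1⟩ := exists_ne_one_of_ne_bot hW1
      have hk' : d * k * d⁻¹ ∈ W := (mem_normalizer_iff.mp hdW k).mp hk
      haveI := Fintype.ofFinite W
      have h3 : ({1, ⟨k, hk⟩, ⟨_, hk'⟩} : Finset W).card = 3 := by
        have : d * k * d⁻¹ ≠ 1 := fun h => hk1 (conj_eq_one_iff.mp h)
        simp [Subtype.ext_iff, hk1, Ne.symm hk1, Ne.symm (hfixd k hk hk1), this, Ne.symm this]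
      have := Finset.card_le_univ ({1, ⟨k, hk⟩, ⟨_, hk'⟩} : Finset W)
      rw [h3, ← Nat.card_eq_fintype_card, hwc] at this
      norm_num at this
    · simpa using hwc
  set Q := Cfsg.pCore 2 G with hQdef
  have hQp : IsPGroup 2 Q := Cfsg.Agent.Grp.pCore_isPGroup
  haveI hQn : Q.Normal := Subgroup.sSup_normal _ (fun N hN => hN.1)
  -- `W` is the group of involutions of the centre of `Q`
  have hcenQ : ∀ x ∈ Q ⊓ centralizer (Q : Set G), ∀ y ∈ Q, y * x = x * y :=
    fun x hx y hy => mem_centralizer_iff.mp hx.2 y hy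
  let Z : Subgroup G :=
    { carrier := {z | z ∈ Q ⊓ centralizer (Q : Set G) ∧ z ^ 2 = 1}
      mul_mem' := fun {a b} ha hb => ⟨mul_mem ha.1 hb.1, by
        rw [Commute.mul_pow (hcenQ b hb.1 a ha.1.1), ha.2, hb.2, one_mul]⟩
      one_mem' := ⟨one_mem _, one_pow _⟩
      inv_mem' := fun {a} ha => ⟨inv_mem ha.1, by rw [inv_pow, ha.2, inv_one]⟩ }
  haveI hZn : Z.Normal := ⟨fun z hz g =>
    ⟨(inferInstance : (Q ⊓ centralizer (Q : Set G)).Normal).conj_mem z hz.1 g, by
      rw [conj_pow, hz.2, mul_one, mul_inv_cancel]⟩⟩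
  have hQne : Q ≠ ⊥ := fun h => by
    obtain ⟨g, hg⟩ := hsix
    have : g ∈ centralizer (Q : Set G) := mem_centralizer_iff.mpr fun y hy => by
      rw [h] at hy
      simp [mem_bot.mp hy]
    have hg1 := hchar this
    rw [h, mem_bot] at hg1
    rw [hg1, orderOf_one] at hg
    norm_num at hg
  have hZne : Z ≠ ⊥ := by
    haveI : Nontrivial Q := (nontrivial_iff_ne_bot Q).mpr hQne
    haveI := hQp.center_nontrivial
    obtain ⟨i, hi⟩ := IsPGroup.iff_card.mp (hQp.to_subgroup (center Q))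
    have h2 : 2 ∣ Nat.card (center Q) := by
      rw [hi]
      exact dvd_pow_self 2 fun i0 => (nontrivial_iff_ne_bot _).mp inferInstance
        (card_eq_one.mp (by rw [hi, i0, pow_zero]))
    obtain ⟨z, hz⟩ := exists_prime_orderOf_dvd_card' 2 h2
    intro hbot
    have hz1 : ((z : Q) : G) ∈ Z := by
      refine ⟨⟨(z : Q).2, mem_centralizer_iff.mpr fun y hy =>
        congrArg Subtype.val (mem_center_iff.mp z.2 ⟨y, hy⟩)⟩, ?_⟩
      have := pow_orderOf_eq_one z
      rw [hz] at this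
      simpa using congrArg (fun t : center Q => ((t : Q) : G)) this
    rw [hbot, mem_bot] at hz1
    have : z = 1 := Subtype.ext (Subtype.ext hz1)
    rw [this, orderOf_one] at hz
    norm_num at hz
  have hWZ : W ≤ Z := by
    set T := Q ⊔ W
    have hT : IsPGroup 2 T := hQp.to_sup_of_normal_left hWp
    haveI := hT.isNilpotent
    have hZT : Z ≤ T := fun z hz => mem_sup_left hz.1.1
    have hne : Z.subgroupOf T ≠ ⊥ := fun h => hZne (by
      rw [subgroupOf_eq_bot, disjoint_iff, inf_eq_left.mpr hZT] at h; exact h)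
    obtain ⟨⟨z, hzT⟩, hz, hz1⟩ := exists_ne_one_of_ne_bot
      (Cfsg.Agent.Grp.inf_center_ne_bot (Z.subgroupOf T) hne)
    have hzZ : z ∈ Z := hz.1
    have hE : ∀ x ∈ W ⊔ zpowers z, x ^ 2 = 1 := by
      have hc : W ≤ centralizer ((zpowers z : Subgroup G) : Set G) := by
        intro x hx
        refine mem_centralizer_iff.mpr fun y hy => ?_
        obtain ⟨i, rfl⟩ := mem_zpowers_iff.mp hy
        exact (Commute.zpow_left (congrArg Subtype.val
          (mem_center_iff.mp hz.2 ⟨x, mem_sup_right hx⟩)).symm i).eq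
      have hn : zpowers z ≤ normalizer (W : Set G) :=
        (le_centralizer_iff.mp hc).trans (centralizer_le_normalizer _)
      intro x hx
      rw [← SetLike.mem_coe, sup_comm, coe_mul_of_left_le_normalizer_right _ _ hn] at hx
      obtain ⟨a, ha, b, hb, rfl⟩ := hx
      have hab : Commute a b := mem_centralizer_iff.mp (hc hb) a ha
      obtain ⟨i, rfl⟩ := mem_zpowers_iff.mp ha
      rw [hab.mul_pow, hW.2 b hb, ← zpow_natCast, zpow_comm, zpow_natCast, hzZ.2, one_zpow, one_mul]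
    have h4 := card_le_four hno hE
    have heq : W = W ⊔ zpowers z := eq_of_le_of_card_ge le_sup_left (hW4 ▸ h4)
    have hzW : z ∈ W := heq ▸ mem_sup_right (mem_zpowers z)
    have hWZne : W ⊓ Z ≠ ⊥ := fun h => by
      have : z ∈ W ⊓ Z := ⟨hzW, hzZ⟩
      rw [h, mem_bot] at this
      exact hz1 (Subtype.ext this)
    have hdWZ : d ∈ normalizer ((W ⊓ Z : Subgroup G) : Set G) := mem_normalizer_iff.mpr fun x =>
      ⟨fun hx => ⟨(mem_normalizer_iff.mp hdW x).mp hx.1, hZn.conj_mem x hx.2 d⟩,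
        fun hx => ⟨(mem_normalizer_iff.mp hdW x).mpr hx.1, by
          simpa [mul_assoc] using hZn.conj_mem _ hx.2 d⁻¹⟩⟩
    exact inf_eq_left.mp (eq_of_invariant hW4 hfpf inf_le_left hdWZ hWZne)
  have hWeq : W = Z := eq_of_le_of_card_ge hWZ (hW4 ▸ card_le_four hno (fun x hx => hx.2))
  haveI hWn : W.Normal := hWeq ▸ hZn
  set C := centralizer (W : Set G) with hCdef
  have hQC : Q ≤ C := fun x hx => mem_centralizer_iff.mpr fun y hy =>
    (hcenQ y (hWZ hy).1 x hx).symm
  -- all involutions centralizing `W` lie in `W`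
  have hinv : ∀ x ∈ C, x ^ 2 = 1 → x ∈ W := by
    intro x hx hx2
    have hE : ∀ y ∈ W ⊔ zpowers x, y ^ 2 = 1 := by
      intro y hy
      obtain ⟨a, ha, b, hb, rfl⟩ := mem_sup_of_normal_left.mp hy
      obtain ⟨i, rfl⟩ := mem_zpowers_iff.mp hb
      have hab : Commute a (x ^ i) := (Commute.zpow_right (mem_centralizer_iff.mp hx a ha) i)
      rw [hab.mul_pow, hW.2 a ha, ← zpow_natCast, zpow_comm, zpow_natCast, hx2, one_zpow, one_mul]
    have heq : W = W ⊔ zpowers x := eq_of_le_of_card_ge le_sup_left (hW4 ▸ card_le_four hno hE)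
    exact heq ▸ mem_sup_right (mem_zpowers x)
  -- an element of order 3 centralizing `W`
  obtain ⟨g, hg⟩ := hsix
  set t := g ^ 3 with ht
  set s := g ^ 2 with hs
  have ht2 : t ^ 2 = 1 := by rw [ht, ← pow_mul, show 3 * 2 = orderOf g by omega, pow_orderOf_eq_one]
  have hs3 : s ^ 3 = 1 := by rw [hs, ← pow_mul, show 2 * 3 = orderOf g by omega, pow_orderOf_eq_one]
  have hs1 : s ≠ 1 := fun h => by
    have := orderOf_dvd_of_pow_eq_one (x := g) (n := 2) h
    rw [hg] at this
    exact absurd (Nat.le_of_dvd two_pos this) (by norm_num)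
  have ht1 : t ≠ 1 := fun h => by
    have := orderOf_dvd_of_pow_eq_one (x := g) (n := 3) h
    rw [hg] at this
    exact absurd (Nat.le_of_dvd three_pos this) (by norm_num)
  have hts : Commute t s := Commute.pow_pow_self g 3 2
  have htC : t ∈ C → s ∈ C := by
    intro htC
    by_contra hsC
    -- `s` fixes the involution `t` of `W`, and acts on the three involutions
    have htW := hinv t htC ht2
    apply hsC
    refine mem_centralizer_iff.mpr fun y hy => ?_
    by_contra hne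
    have hne' : s * y * s⁻¹ ≠ y := fun h => hne (mul_inv_eq_iff_eq_mul.mp h).symm
    have hy1 : y ≠ 1 := fun h => hne (by simp [h])
    have hyt : y ≠ t := fun h => hne (by rw [h]; exact hts.eq)
    have hsy := hWn.conj_mem y hy s
    have hssy := hWn.conj_mem _ hsy s
    haveI := Fintype.ofFinite W
    have hst : s * t * s⁻¹ = t := mul_inv_eq_iff_eq_mul.mpr hts.eq.symm
    have e1 : s * (s * (s * y * s⁻¹) * s⁻¹) * s⁻¹ = y := by
      calc _ = s ^ 3 * y * (s ^ 3)⁻¹ := by simp [pow_succ, mul_assoc]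
        _ = y := by rw [hs3]; simp
    have n1 : s * y * s⁻¹ ≠ 1 := fun h => hy1 (conj_eq_one_iff.mp h)
    have n2 : s * (s * y * s⁻¹) * s⁻¹ ≠ 1 := fun h => n1 (conj_eq_one_iff.mp h)
    have n3 : s * y * s⁻¹ ≠ t := fun h => hyt (by
      have := h.trans hst.symm; simpa using this)
    have n4 : s * (s * y * s⁻¹) * s⁻¹ ≠ t := fun h => n3 (by
      have := h.trans hst.symm; simpa using this)
    have n5 : s * (s * y * s⁻¹) * s⁻¹ ≠ s * y * s⁻¹ := fun h => hne' (by simpa using h)
    have n6 : s * (s * y * s⁻¹) * s⁻¹ ≠ y := fun h => hne' (by rw [h] at e1; exact e1)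
    have h5 : ({1, ⟨t, htW⟩, ⟨y, hy⟩, ⟨_, hsy⟩, ⟨_, hssy⟩} : Finset W).card = 5 := by
      simp [Subtype.ext_iff, ht1, Ne.symm ht1, hy1, Ne.symm hy1, hyt, Ne.symm hyt, n1, Ne.symm n1, n2,
        Ne.symm n2, n3, Ne.symm n3, n4, Ne.symm n4, n5, Ne.symm n5, n6, Ne.symm n6, hne', Ne.symm hne']
    have := Finset.card_le_univ ({1, ⟨t, htW⟩, ⟨y, hy⟩, ⟨_, hsy⟩, ⟨_, hssy⟩} : Finset W)
    rw [h5, ← Nat.card_eq_fintype_card, hW4] at this
    norm_num at this
  have hsC : s ∈ C := by
    by_contra hsC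
    have htC' : t ∉ C := fun h => hsC (htC h)
    -- `t` fixes an involution `a` and hence, with `s`, all of them
    apply htC'
    have hW2 : 2 ∣ Nat.card W := ⟨2, hW4⟩
    obtain ⟨a, ha, ha1, hta⟩ : ∃ a ∈ W, a ≠ 1 ∧ t * a = a * t := by
      obtain ⟨y, hy, hy1⟩ := exists_ne_one_of_ne_bot hW1
      by_cases hyt : t * y = y * t
      · exact ⟨y, hy, hy1, hyt⟩
      have hy' := hWn.conj_mem y hy t
      have hcomm : y * (t * y * t⁻¹) = (t * y * t⁻¹) * y :=
        congrArg Subtype.val (hW.1.is_comm.comm ⟨y, hy⟩ ⟨_, hy'⟩)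
      refine ⟨y * (t * y * t⁻¹), mul_mem hy hy', fun h => hyt ?_, ?_⟩
      · have hyi : y⁻¹ = y := inv_eq_of_mul_eq_one_right (by rw [← pow_two]; exact hW.2 y hy)
        rw [← eq_inv_of_mul_eq_one_right h] at hyi
        exact mul_inv_eq_iff_eq_mul.mp hyi
      · have hti : t⁻¹ = t := inv_eq_of_mul_eq_one_right (by rw [← pow_two]; exact ht2)
        have htt : t * t = 1 := by rw [← pow_two]; exact ht2
        rw [hti] at hcomm ⊢
        calc t * (y * (t * y * t)) = ((t * y * t) * y) * t := by simp [mul_assoc]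
          _ = (y * (t * y * t)) * t := by rw [hcomm]
    have hsa : s * a * s⁻¹ ≠ a := fun h => by
      apply hsC
      refine mem_centralizer_iff.mpr fun y hy => ?_
      by_contra hne
      have hne' : s * y * s⁻¹ ≠ y := fun h => hne (mul_inv_eq_iff_eq_mul.mp h).symm
      have hy1 : y ≠ 1 := fun h => hne (by simp [h])
      have hya : y ≠ a := fun e => hne' (e ▸ h)
      have hsy := hWn.conj_mem y hy s
      have hssy := hWn.conj_mem _ hsy s
      haveI := Fintype.ofFinite W
      have e1 : s * (s * (s * y * s⁻¹) * s⁻¹) * s⁻¹ = y := by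
        calc _ = s ^ 3 * y * (s ^ 3)⁻¹ := by simp [pow_succ, mul_assoc]
          _ = y := by rw [hs3]; simp
      have n1 : s * y * s⁻¹ ≠ 1 := fun h => hy1 (conj_eq_one_iff.mp h)
      have n2 : s * (s * y * s⁻¹) * s⁻¹ ≠ 1 := fun h => n1 (conj_eq_one_iff.mp h)
      have n3 : s * y * s⁻¹ ≠ a := fun e => hya (by have := e.trans h.symm; simpa using this)
      have n4 : s * (s * y * s⁻¹) * s⁻¹ ≠ a := fun e => n3 (by
        have := e.trans h.symm; simpa using this)
      have n5 : s * (s * y * s⁻¹) * s⁻¹ ≠ s * y * s⁻¹ := fun h => hne' (by simpa using h)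
      have n6 : s * (s * y * s⁻¹) * s⁻¹ ≠ y := fun h => hne' (by rw [h] at e1; exact e1)
      have h5 : ({1, ⟨a, ha⟩, ⟨y, hy⟩, ⟨_, hsy⟩, ⟨_, hssy⟩} : Finset W).card = 5 := by
        simp [Subtype.ext_iff, ha1, Ne.symm ha1, hy1, Ne.symm hy1, hya, Ne.symm hya, n1, Ne.symm n1, n2,
          Ne.symm n2, n3, Ne.symm n3, n4, Ne.symm n4, n5, Ne.symm n5, n6, Ne.symm n6, hne', Ne.symm hne']
      have := Finset.card_le_univ ({1, ⟨a, ha⟩, ⟨y, hy⟩, ⟨_, hsy⟩, ⟨_, hssy⟩} : Finset W)
      rw [h5, ← Nat.card_eq_fintype_card, hW4] at this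
      norm_num at this
    -- `W` is generated by `a` and its conjugate under `s`
    have hsa' := hWn.conj_mem a ha s
    have hsub : zpowers a ⊔ zpowers (s * a * s⁻¹) ≤ W :=
      sup_le (zpowers_le.mpr ha) (zpowers_le.mpr hsa')
    have hall : W = zpowers a ⊔ zpowers (s * a * s⁻¹) := by
      refine (eq_of_le_of_card_ge hsub ?_).symm
      haveI := Fintype.ofFinite ↥(zpowers a ⊔ zpowers (s * a * s⁻¹))
      have h1 : s * a * s⁻¹ ≠ 1 := fun h => ha1 (conj_eq_one_iff.mp h)
      have h3 : ({1, ⟨a, mem_sup_left (mem_zpowers _)⟩, ⟨_, mem_sup_right (mem_zpowers _)⟩} :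
          Finset ↥(zpowers a ⊔ zpowers (s * a * s⁻¹))).card = 3 := by
        simp [Subtype.ext_iff, ha1, Ne.symm ha1, h1, Ne.symm h1, hsa, Ne.symm hsa]
      have h4 := Finset.card_le_univ ({1, ⟨a, mem_sup_left (mem_zpowers _)⟩,
        ⟨_, mem_sup_right (mem_zpowers _)⟩} : Finset ↥(zpowers a ⊔ zpowers (s * a * s⁻¹)))
      rw [h3, ← Nat.card_eq_fintype_card] at h4
      have hd4 := card_dvd_of_le hsub
      rw [hW4] at hd4
      rw [hW4]
      have := Nat.le_of_dvd (by norm_num) hd4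
      interval_cases Nat.card ↥(zpowers a ⊔ zpowers (s * a * s⁻¹)) <;> omega
    rw [mem_centralizer_iff]
    have hle : zpowers a ⊔ zpowers (s * a * s⁻¹) ≤ centralizer {t} := by
      refine sup_le (zpowers_le.mpr ?_) (zpowers_le.mpr ?_)
      · exact mem_centralizer_singleton_iff.mpr hta.symm
      · refine mem_centralizer_singleton_iff.mpr ?_
        show Commute (s * a * s⁻¹) t
        exact ((hts.symm.mul_left (show Commute a t from hta.symm)).mul_left hts.symm.inv_left)
    intro y hy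
    rw [hall] at hy
    exact mem_centralizer_singleton_iff.mp (hle hy)
  -- a central element of order 3 of a Sylow 3-subgroup containing `d`, inside `C`
  obtain ⟨S, hdS⟩ := hd.exists_le_sylow
  haveI hCn : C.Normal := inferInstance
  have hS0 : C.subgroupOf (S : Subgroup G) ≠ ⊥ := by
    intro h
    have hso : orderOf s = 3 := orderOf_eq_prime hs3 hs1
    obtain ⟨S', hsS'⟩ := (IsPGroup.of_card (p := 3) (n := 1)
      (show Nat.card (zpowers s) = 3 ^ 1 by rw [Nat.card_zpowers, hso, pow_one])).exists_le_sylow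
    obtain ⟨c, hc⟩ := MulAction.exists_smul_eq G S' S
    have hmem : c * s * c⁻¹ ∈ (S : Subgroup G) := by
      rw [← hc]
      exact (mem_pointwise_smul_iff_inv_smul_mem).mpr (by
        simpa [mul_assoc] using hsS' (mem_zpowers s))
    have h1 : (⟨_, hmem⟩ : (S : Subgroup G)) ∈ C.subgroupOf (S : Subgroup G) := hCn.conj_mem s hsC c
    rw [h, mem_bot] at h1
    exact hs1 (conj_eq_one_iff.mp (congrArg Subtype.val h1))
  haveI := S.2.isNilpotent
  obtain ⟨z0, hz0, hz01⟩ := exists_ne_one_of_ne_bot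
    (Cfsg.Agent.Grp.inf_center_ne_bot (C.subgroupOf (S : Subgroup G)) hS0)
  obtain ⟨j, hj⟩ := IsPGroup.iff_card.mp
    (S.2.to_subgroup (zpowers z0 : Subgroup (S : Subgroup G)))
  have h3z : 3 ∣ Nat.card (zpowers z0) := by
    rw [hj]
    refine dvd_pow_self 3 fun j0 => hz01 ?_
    rw [j0, pow_zero, Nat.card_zpowers, orderOf_eq_one_iff] at hj
    exact hj
  obtain ⟨z1, hz1⟩ := exists_prime_orderOf_dvd_card' 3 h3z
  have hz1mem : (z1 : (S : Subgroup G)) ∈ C.subgroupOf (S : Subgroup G) ⊓ center _ :=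
    zpowers_le.mpr hz0 z1.2
  set z : G := ((z1 : (S : Subgroup G)) : G) with hzdef
  have hzC : z ∈ C := hz1mem.1
  have hzo : orderOf z = 3 := by rw [hzdef, orderOf_coe, orderOf_coe, hz1]
  have hzd : Commute d z :=
    congrArg Subtype.val (mem_center_iff.mp hz1mem.2 ⟨d, hdS (mem_zpowers d)⟩)
  set A := zpowers z with hAdef
  set B := zpowers d ⊔ zpowers z with hBdef
  have hzB : z ∈ B := mem_sup_right (mem_zpowers z)
  have hdB : d ∈ B := mem_sup_left (mem_zpowers d)
  have hB3 : IsPGroup 3 B := S.2.to_le (sup_le hdS (zpowers_le.mpr (z1 : (S : Subgroup G)).2))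
  have hBz : B ≤ centralizer {z} := sup_le (zpowers_le.mpr (mem_centralizer_singleton_iff.mpr hzd.eq))
    (zpowers_le.mpr (mem_centralizer_singleton_iff.mpr rfl))
  have hBd : B ≤ centralizer {d} := sup_le (zpowers_le.mpr (mem_centralizer_singleton_iff.mpr rfl))
    (zpowers_le.mpr (mem_centralizer_singleton_iff.mpr hzd.symm.eq))
  have hBcomm : ∀ b ∈ B, ∀ b' ∈ B, b * b' = b' * b := fun b hb b' hb' => by
    have : B ≤ centralizer {b} := sup_le
      (zpowers_le.mpr (mem_centralizer_singleton_iff.mpr (mem_centralizer_singleton_iff.mp (hBd hb)).symm))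
      (zpowers_le.mpr (mem_centralizer_singleton_iff.mpr (mem_centralizer_singleton_iff.mp (hBz hb)).symm))
    exact (mem_centralizer_singleton_iff.mp (this hb')).symm
  have hQA : ⁅Q, A⁆ ≠ ⊥ := fun h => by
    rw [commutator_comm, commutator_eq_bot_iff_le_centralizer] at h
    obtain ⟨i, hi⟩ := hQp ⟨z, hchar (h (mem_zpowers z))⟩
    have h3 := orderOf_dvd_of_pow_eq_one (show z ^ 2 ^ i = 1 by simpa using congrArg Subtype.val hi)
    rw [hzo] at h3
    have := Nat.le_of_dvd two_pos ((by norm_num : Nat.Prime 3).dvd_of_dvd_pow h3)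
    omega
  obtain ⟨P0, ⟨hP0Q, hBP0, hP0nt⟩, hP0min⟩ := (Set.toFinite
    {U : Subgroup G | U ≤ Q ∧ B ≤ normalizer (U : Set G) ∧ ⁅U, A⁆ ≠ ⊥}).exists_minimal
      ⟨Q, le_rfl, (le_top.trans (normalizer_eq_top (H := Q)).ge), hQA⟩
  have hP0 : IsPGroup 2 P0 := hQp.to_le hP0Q
  obtain ⟨hPA, hstruct, hirr, -⟩ := Cfsg.Agent.S3736.result (p := 2) B A P0 hP0 hBP0
    le_sup_right (fun b hb => by
      refine centralizer_le_normalizer _ (mem_centralizer_iff.mpr fun y hy => ?_)
      obtain ⟨i, rfl⟩ := mem_zpowers_iff.mp hy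
      exact (Commute.zpow_left (mem_centralizer_singleton_iff.mp (hBz hb) : Commute b z).symm i).eq)
    (by rw [hAdef, Nat.card_zpowers, hzo]; norm_num) hP0nt (fun U hU hB => by
      by_contra h
      exact hU.not_ge (hP0min ⟨hU.le.trans hP0Q, hB, h⟩ hU.le))
  have hzW : ∀ y ∈ W, y * z = z * y := fun y hy => mem_centralizer_iff.mp hzC y hy
  rcases hstruct with hel | hspec
  · refine hP0nt ?_
    rw [commutator_eq_bot_iff_le_centralizer]
    intro x hx
    refine mem_centralizer_iff.mpr fun y hy => ?_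
    obtain ⟨i, rfl⟩ := mem_zpowers_iff.mp hy
    exact (Commute.zpow_right (hzW x (hinv x (hQC (hP0Q hx)) (hel.2 x hx))) i).eq.symm
  haveI : Nontrivial P0 := by
    rw [nontrivial_iff_ne_bot]
    intro h; exact hP0nt (by rw [h, commutator_bot_left])
  set Φ := center P0 with hΦdef
  have hΦW : Φ.map P0.subtype = W := by
    refine eq_of_invariant hW4 hfpf ?_ ?_ ?_
    · rintro _ ⟨x, hx, rfl⟩
      exact hinv _ (hQC (hP0Q x.2)) (by simpa using congrArg Subtype.val (Cfsg.Agent.S0094.result hspec x hx))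
    · refine Cfsg.Agent.Grp.mem_normalizer_of_map_eq.mpr ?_
      let e : P0 ≃* P0 := ((MulAut.conj d).subgroupMap P0).trans
        (MulEquiv.subgroupCongr (Cfsg.Agent.Grp.mem_normalizer_of_map_eq.mp (hBP0 hdB)))
      have he : Φ.map e.toMonoidHom = Φ := Subgroup.characteristic_iff_map_eq.mp inferInstance e
      conv_rhs => rw [← he]
      rw [Subgroup.map_map, Subgroup.map_map]
      rfl
    · haveI := hP0.center_nontrivial
      rw [Ne, map_eq_bot_iff_of_injective _ P0.subtype_injective]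
      exact (nontrivial_iff_ne_bot _).mp inferInstance
  have hΦtop : Φ ≠ ⊤ := fun h => hP0nt (by
    rw [show P0 = W by rw [← hΦW, h, ← MonoidHom.range_eq_map, range_subtype],
      commutator_eq_bot_iff_le_centralizer]
    intro x hx
    refine mem_centralizer_iff.mpr fun y hy => ?_
    obtain ⟨i, rfl⟩ := mem_zpowers_iff.mp hy
    exact (Commute.zpow_right (hzW x hx) i).eq.symm)
  have hinvΦ : ∀ x : P0, x ^ 2 = 1 → x ∈ Φ := by
    intro x hx
    have h1 : (x : G) ∈ Φ.map P0.subtype :=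
      hΦW.ge (hinv _ (hQC (hP0Q x.2)) (by simpa using congrArg Subtype.val hx))
    obtain ⟨y, hy, hyx⟩ := h1
    rwa [P0.subtype_injective hyx] at hy
  obtain ⟨m, hm⟩ := IsPGroup.iff_card.mp (hP0.to_quotient Φ)
  have hm4 : m ≤ 4 := by
    by_contra h5
    obtain ⟨x, hx, hx2⟩ := Cfsg.Agent.Grp.RankTwoFPF.exists_involution Φ le_rfl
      (fun x => hspec.2.1.le (Cfsg.Agent.Grp.pGroup_pow_mem_frattini hP0 x)) hspec.2.2.le
      (fun z hz => Cfsg.Agent.S0094.result hspec z hz)
      (by rw [← hW4, ← hΦW, card_map_of_injective P0.subtype_injective])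
      (by rw [Subgroup.index_eq_card, hm]; exact (pow_dvd_pow 2 (by omega) : 2 ^ 5 ∣ 2 ^ m))
    exact hx (hinvΦ x hx2)
  -- the action of `B` on `P0 ⧸ Φ`
  set π := QuotientGroup.mk' Φ
  let bar : MulAut P0 →* MulAut (P0 ⧸ Φ) :=
    { toFun := fun f => QuotientGroup.congr Φ Φ f (characteristic_iff_map_eq.mp inferInstance f)
      map_one' := by
        apply MulEquiv.ext; intro v; obtain ⟨x, rfl⟩ := QuotientGroup.mk_surjective v; rfl
      map_mul' := fun f f' => by
        apply MulEquiv.ext; intro v; obtain ⟨x, rfl⟩ := QuotientGroup.mk_surjective v; rfl }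
  let act : B →* MulAut P0 := P0.normalizerMonoidHom.comp (Subgroup.inclusion hBP0)
  let ρ : B →* MulAut (P0 ⧸ Φ) := bar.comp act
  have hact : ∀ (b : B) (x : P0), (act b x : G) = b * x * (b : G)⁻¹ := fun b x => rfl
  have hρπ : ∀ (b : B) (x : P0), ρ b (π x) = π (act b x) := fun b x => rfl
  have hfree : ∀ (b : B) (v : P0 ⧸ Φ), v ≠ 1 → ρ b v = v → ρ b = 1 := by
    intro b v hv hfix
    let F : Subgroup (P0 ⧸ Φ) :=
      { carrier := {v | ρ b v = v}
        mul_mem' := fun {a c} (ha : ρ b a = a) (hc : ρ b c = c) => show ρ b (a * c) = a * c by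
          rw [map_mul, ha, hc]
        one_mem' := map_one _
        inv_mem' := fun {a} (ha : ρ b a = a) => show ρ b a⁻¹ = a⁻¹ by rw [map_inv, ha] }
    have hUn : B ≤ normalizer (((F.comap π).map P0.subtype : Subgroup G) : Set G) := by
      intro c hc
      refine Cfsg.Agent.Grp.mem_normalizer_of_map_eq.mpr ?_
      have hFinv : (F.comap π).map (act ⟨c, hc⟩).toMonoidHom = F.comap π := by
        refine eq_of_le_of_card_ge ?_ (card_map_of_injective (act ⟨c, hc⟩).injective).ge
        rintro _ ⟨x, hx, rfl⟩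
        show ρ b (π (act ⟨c, hc⟩ x)) = π (act ⟨c, hc⟩ x)
        have hcb : (⟨c, hc⟩ : B) * b = b * ⟨c, hc⟩ := Subtype.ext (hBcomm c hc b b.2)
        rw [← hρπ, ← MulAut.mul_apply, ← map_mul, ← hcb, map_mul, MulAut.mul_apply]
        exact congrArg (ρ ⟨c, hc⟩) hx
      conv_rhs => rw [← hFinv]
      rw [Subgroup.map_map, Subgroup.map_map]
      rfl
    have hΦF : (frattini P0).map P0.subtype ≤ (F.comap π).map P0.subtype := map_mono fun x hx => by
      have hx1 : π x = 1 := (QuotientGroup.eq_one_iff x).mpr (hspec.2.1.le hx)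
      show ρ b (π x) = π x
      rw [hx1, map_one]
    rcases hirr _ hΦF (map_subtype_le _) hUn with h | h
    · exfalso
      obtain ⟨x, rfl⟩ := QuotientGroup.mk_surjective v
      have := (map_injective P0.subtype_injective h).le (show x ∈ F.comap π from hfix)
      rw [hspec.2.1] at this
      exact hv ((QuotientGroup.eq_one_iff x).mpr this)
    · have hFtop : F.comap π = ⊤ := map_injective P0.subtype_injective
        (h.trans (by rw [← MonoidHom.range_eq_map, range_subtype]))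
      apply MulEquiv.ext
      intro u
      obtain ⟨x, rfl⟩ := QuotientGroup.mk_surjective u
      exact hFtop.ge (mem_top x)
  have hρz : ρ ⟨z, hzB⟩ ≠ 1 := by
    intro h1
    have hlt : Φ.map P0.subtype < P0 := by
      refine lt_of_le_of_ne (map_subtype_le _) fun h2 => hΦtop (map_injective P0.subtype_injective ?_)
      rw [h2, ← MonoidHom.range_eq_map, range_subtype]
    refine hlt.not_ge (hPA.ge.trans (Subgroup.commutator_le.mpr fun x hx a ha => ?_))
    obtain ⟨i, rfl⟩ := mem_zpowers_iff.mp ha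
    set zi : B := (⟨z, hzB⟩ : B) ^ i with hzi
    refine ⟨⟨x, hx⟩ * act zi ⟨x, hx⟩⁻¹, ?_, ?_⟩
    · apply (QuotientGroup.eq_one_iff _).mp
      show π _ = 1
      rw [map_mul]
      simp only [map_inv]
      rw [← hρπ, hzi, map_zpow, h1, one_zpow, MulAut.one_apply, mul_inv_cancel]
    · show ((⟨x, hx⟩ * act zi ⟨x, hx⟩⁻¹ : P0) : G) = _
      rw [coe_mul, hact, commutatorElement_def, hzi]
      simp [mul_assoc]
  set H := ρ.range
  let Y := {v : P0 ⧸ Φ // v ≠ 1}
  letI : MulAction H Y :=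
    { smul := fun f v => ⟨(f : MulAut (P0 ⧸ Φ)) v.1, fun h => v.2 ((map_eq_one_iff _ (f : MulAut (P0 ⧸ Φ)).injective).mp h)⟩
      one_smul := fun v => rfl
      mul_smul := fun f f' v => rfl }
  have hstab : ∀ v : Y, MulAction.stabilizer H v = ⊥ := by
    intro v
    rw [eq_bot_iff]
    rintro ⟨f, b, rfl⟩ hf
    exact mem_bot.mpr (Subtype.ext (hfree b v.1 v.2 (congrArg Subtype.val hf)))
  have hcardY : Nat.card H ∣ 2 ^ m - 1 := by
    haveI := Fintype.ofFinite (P0 ⧸ Φ)
    have hY : Nat.card Y = 2 ^ m - 1 := by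
      rw [← hm, Nat.card_eq_fintype_card, Nat.card_eq_fintype_card, Fintype.card_subtype_compl,
        Fintype.card_subtype_eq]
    rw [← hY, Nat.card_congr (MulAction.selfEquivOrbitsQuotientProd hstab), Nat.card_prod]
    exact dvd_mul_left _ _
  obtain ⟨i, hi⟩ := IsPGroup.iff_card.mp (show IsPGroup 3 H from
    hB3.of_surjective ρ.rangeRestrict ρ.rangeRestrict_surjective)
  have hH3 : Nat.card H ≤ 3 := by
    by_contra hH
    have h2i : 2 ≤ i := by
      by_contra h
      interval_cases i <;> omega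
    have h9 : 9 ∣ 2 ^ m - 1 :=
      (show 3 ^ 2 ∣ 2 ^ m - 1 from ((pow_dvd_pow 3 h2i).trans hi.symm.dvd).trans hcardY)
    have hm0 : m ≠ 0 := fun h0 => hΦtop (index_eq_one.mp (by rw [Subgroup.index_eq_card, hm, h0, pow_zero]))
    interval_cases m <;> omega
  have hgen : H = zpowers (ρ ⟨z, hzB⟩) := by
    refine (eq_of_le_of_card_ge (zpowers_le.mpr (MonoidHom.mem_range.mpr ⟨_, rfl⟩)) ?_).symm
    refine hH3.trans ?_
    rw [Nat.card_zpowers, orderOf_eq_prime (p := 3) ?_ hρz]
    rw [← map_pow]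
    have : (⟨z, hzB⟩ : B) ^ 3 = 1 := Subtype.ext (by
      rw [coe_pow, ← hzo]; exact pow_orderOf_eq_one z)
    rw [this, map_one]
  obtain ⟨k, hk⟩ := mem_zpowers_iff.mp (hgen.le ⟨⟨d, hdB⟩, rfl⟩)
  set b : B := ⟨d, hdB⟩ * ((⟨z, hzB⟩ : B) ^ k)⁻¹
  have hb : ρ b = 1 := by rw [map_mul, map_inv, map_zpow, hk, mul_inv_cancel]
  -- `b` centralizes `W = P0'`
  have hbW : commutator P0 ≤ (act b).toMonoidHom.eqLocus (MonoidHom.id P0) := by
    rw [_root_.commutator_def, Subgroup.commutator_le]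
    intro x _ y _
    show act b ⁅x, y⁆ = ⁅x, y⁆
    have hc : ∀ x : P0, ∃ c ∈ Φ, act b x = x * c := fun x => ⟨x⁻¹ * act b x, by
      apply (QuotientGroup.eq_one_iff _).mp
      show π _ = 1
      rw [map_mul, map_inv, ← hρπ, hb, MulAut.one_apply, inv_mul_cancel], by group⟩
    obtain ⟨c, hc1, hcx⟩ := hc x
    obtain ⟨c', hc1', hcy⟩ := hc y
    rw [map_commutatorElement, hcx, hcy]
    have hC := mem_center_iff.mp hc1
    have hC' := mem_center_iff.mp hc1'
    rw [commutatorElement_def, commutatorElement_def, mul_inv_rev, mul_inv_rev]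
    calc x * c * (y * c') * (c⁻¹ * x⁻¹) * (c'⁻¹ * y⁻¹)
        = x * (c * (y * c') * c⁻¹) * (x⁻¹ * c'⁻¹) * y⁻¹ := by simp [mul_assoc]
      _ = x * (y * c') * (c'⁻¹ * x⁻¹) * y⁻¹ := by
          rw [← hC (y * c'), mul_inv_cancel_right, mem_center_iff.mp (inv_mem hc1') x⁻¹]
      _ = _ := by simp [mul_assoc]
  obtain ⟨y, hy, hy1⟩ := exists_ne_one_of_ne_bot hW1
  obtain ⟨x, hx, rfl⟩ := hΦW.ge hy
  have hbx0 : act b x = x := hbW (hspec.2.2.ge hx)
  have hbx := congrArg Subtype.val hbx0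
  rw [hact] at hbx
  apply hfixd _ hy hy1
  show d * (x : G) * d⁻¹ = x
  have hzx : Commute (z ^ k)⁻¹ (x : G) := ((Commute.zpow_left (hzW _ hy : Commute (x : G) z).symm k)).inv_left
  calc d * (x : G) * d⁻¹ = d * ((z ^ k)⁻¹ * x * ((z ^ k)⁻¹)⁻¹) * d⁻¹ := by
        rw [hzx.eq, mul_inv_cancel_right]
    _ = x := by
        refine Eq.trans ?_ hbx
        simp [b, mul_assoc]

end Cfsg.Agent.Grp.SixElement
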