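import Mathlib

/-!
Héthelyi's soft subgroups: the normalizer tower of a self-centralizing abelian subgroup of
index `p` in its normalizer.
-/

set_option autoImplicit false
set_option linter.style.haveILetI false
set_option linter.unusedSectionVars false

namespace Cfsg.Agent.Grp.SoftTower

open Subgroup
open scoped commutatorElement

universe u

variable {P : Type u} [Group P] [Finite P] {p : ℕ} [hp : Fact p.Prime]

theorem class_eq_of_mulEquiv {A B : Type u} [Group A] [Group B] [Group.IsNilpotent A] (e : A ≃* B) :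
    Group.nilpotencyClass A = Group.nilpotencyClass B := by
  haveI : Group.IsNilpotent B := Group.nilpotent_of_surjective e.toMonoidHom e.surjective
  exact le_antisymm (Group.nilpotencyClass_le_of_surjective e.symm.toMonoidHom e.symm.surjective)
    (Group.nilpotencyClass_le_of_surjective e.toMonoidHom e.surjective)

theorem sup_eq_of_prime_relIndex {A B X : Subgroup P} (hAB : A ≤ B) (h : A.relIndex B = p)
    (hAX : A ≤ X) (hXB : X ≤ B) : X = A ∨ X = B := by
  have hm := relIndex_mul_relIndex A X B hAX hXB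
  rw [h] at hm
  rcases hp.out.eq_one_or_self_of_dvd _ (Dvd.intro _ hm) with h1 | h1
  · exact Or.inl (le_antisymm (relIndex_eq_one.mp h1) hAX)
  · refine Or.inr (le_antisymm hXB (relIndex_eq_one.mp ?_))
    rw [h1] at hm
    exact mul_left_cancel₀ hp.out.ne_zero (by rw [hm, mul_one])

theorem card_eq_mul_relIndex {A B : Subgroup P} (hAB : A ≤ B) :
    Nat.card B = A.relIndex B * Nat.card A := by
  rw [← relIndex_bot_left, ← relIndex_bot_left, ← relIndex_mul_relIndex ⊥ A B bot_le hAB, mul_comm]

/-- The normalizer of `E` has index `p` in its own normalizer. -/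
theorem relIndex_normalizer (hP : IsPGroup p P) (E : Subgroup P) (hEab : IsMulCommutative E)
    (hC : centralizer (E : Set P) ≤ E) (hN : E.relIndex (normalizer (E : Set P)) = p)
    (hN1 : normalizer (E : Set P) ≠ ⊤) :
    (normalizer (E : Set P)).relIndex (normalizer ((normalizer (E : Set P) : Subgroup P) : Set P)) = p := by
  classical
  set N1 := normalizer (E : Set P) with hN1def
  set N2 := normalizer (N1 : Set P) with hN2def
  haveI := hP.isNilpotent
  have hE1 : E ≤ N1 := le_normalizer
  have hlt : N1 < N2 := Group.normalizerCondition_of_isNilpotent N1 (lt_top_iff_ne_top.mpr hN1)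
  obtain ⟨g, hg, hg1⟩ := SetLike.exists_of_lt hlt
  set E' := E.map (MulAut.conj g).toMonoidHom with hE'def
  have hne : E' ≠ E := fun h => hg1 (mem_normalizer_iff.mpr fun x =>
    ⟨fun hx => h ▸ mem_map_of_mem _ hx, fun hx => by
      rw [← h] at hx
      obtain ⟨y, hy, hyx⟩ := hx
      rwa [(MulAut.conj g).injective hyx] at hy⟩)
  have hconj : ∀ h ∈ N2, E.map (MulAut.conj h).toMonoidHom ≤ N1 := by
    rintro h hh _ ⟨x, hx, rfl⟩
    exact (mem_normalizer_iff.mp hh x).mp (hE1 hx)
  set Z := centralizer (N1 : Set P) with hZdef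
  have hZE : Z ≤ E := (centralizer_le hE1).trans hC
  have hEC : E ≤ centralizer (E : Set P) := fun a ha => mem_centralizer_iff.mpr fun b hb =>
    congrArg Subtype.val (hEab.is_comm.comm ⟨b, hb⟩ ⟨a, ha⟩)
  have hcardE' : Nat.card E' = Nat.card E := card_map_of_injective (MulAut.conj g).injective
  -- `E ⊓ E'` centralizes `N1`
  have hgen : E ⊔ E' = N1 := by
    rcases sup_eq_of_prime_relIndex hE1 hN le_sup_left (sup_le hE1 (hconj g hg)) with h | h
    · exact absurd (eq_of_le_of_card_ge (sup_eq_left.mp h) hcardE'.ge) hne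
    · exact h
  have hinfZ : E ⊓ E' ≤ Z := by
    intro x hx
    refine mem_centralizer_iff.mpr fun y hy => ?_
    have : E ⊔ E' ≤ centralizer {x} := by
      refine sup_le (fun a ha => mem_centralizer_singleton_iff.mpr
        (mem_centralizer_iff.mp (hEC hx.1) a ha)) ?_
      rintro _ ⟨a, ha, rfl⟩
      obtain ⟨b, hb, hbx⟩ := hx.2
      refine mem_centralizer_singleton_iff.mpr ?_
      rw [← hbx, MulEquiv.coe_toMonoidHom, ← map_mul, ← map_mul, mem_centralizer_iff.mp (hEC hb) a ha]
    exact mem_centralizer_singleton_iff.mp (this (hgen.ge hy))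
  have hZlt : Z < E := lt_of_le_of_ne hZE fun h => by
    have h1 : N1 ≤ E := (le_centralizer_iff.mp (h.ge : E ≤ Z)).trans hC
    exact hp.out.ne_one (hN.symm.trans (relIndex_eq_one.mpr h1))
  have hcard : Nat.card E = p * Nat.card Z := by
    obtain ⟨a, ha⟩ := IsPGroup.iff_card.mp (hP.to_subgroup E)
    obtain ⟨b, hb⟩ := IsPGroup.iff_card.mp (hP.to_subgroup Z)
    have h1 : Nat.card Z < Nat.card E :=
      lt_of_le_of_ne (card_le_of_le hZlt.le) fun h => hZlt.ne (eq_of_le_of_card_ge hZlt.le h.ge)
    have h2 : Nat.card E ≤ p * Nat.card Z := by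
      rw [← hcardE', card_eq_mul_relIndex (inf_le_right : E ⊓ E' ≤ E'), inf_relIndex_right]
      refine Nat.mul_le_mul ?_ (card_le_of_le hinfZ)
      rw [← hN]
      exact relIndex_le_of_le_right (hconj g hg) (by rw [hN]; exact hp.out.ne_zero)
    rw [ha, hb] at h1
    rw [ha, hb, ← pow_succ'] at h2
    have := (Nat.pow_lt_pow_iff_right hp.out.one_lt).mp h1
    have := (Nat.pow_le_pow_iff_right hp.out.one_lt).mp h2
    rw [ha, hb, ← pow_succ']; congr 1; omega
  have hZconj : ∀ h ∈ N2, ∀ z ∈ Z, h * z * h⁻¹ ∈ Z := by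
    intro h hh z hz
    refine mem_centralizer_iff.mpr fun y hy => ?_
    have hy' : h⁻¹ * y * h ∈ N1 := by
      have := (mem_normalizer_iff.mp (inv_mem hh) y).mp hy
      rwa [inv_inv] at this
    have := mem_centralizer_iff.mp hz _ hy'
    calc y * (h * z * h⁻¹) = h * ((h⁻¹ * y * h) * z) * h⁻¹ := by group
      _ = h * (z * (h⁻¹ * y * h)) * h⁻¹ := by rw [this]
      _ = h * z * h⁻¹ * y := by group
  -- count the conjugates of `E` in `N1`
  let Q := N2 ⧸ N1.subgroupOf N2
  let F : Q → Subgroup P := fun q => E.map (MulAut.conj (q.out : P)).toMonoidHom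
  have hFZ : ∀ q, Z ≤ F q := by
    intro q z hz
    have hq : (q.out : P) ∈ N2 := q.out.2
    refine ⟨(q.out : P)⁻¹ * z * q.out, hZE ?_, by simp [mul_assoc]⟩
    have := hZconj _ (inv_mem hq) z hz
    rwa [inv_inv] at this
  have hFinj : Function.Injective F := by
    intro q q' h
    rw [← q.out_eq', ← q'.out_eq', QuotientGroup.eq, mem_subgroupOf, coe_mul, coe_inv]
    refine mem_normalizer_iff.mpr fun x => ⟨fun hx => ?_, fun hx => ?_⟩
    · obtain ⟨y, hy, hyx⟩ := h.ge (mem_map_of_mem (MulAut.conj (q'.out : P)).toMonoidHom hx)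
      simp only [MulEquiv.coe_toMonoidHom, MulAut.conj_apply] at hyx
      rw [show (q.out : P)⁻¹ * q'.out * x * ((q.out : P)⁻¹ * q'.out)⁻¹ =
        (q.out : P)⁻¹ * ((q'.out : P) * x * (q'.out : P)⁻¹) * q.out by group, ← hyx]
      simpa [mul_assoc] using hy
    · obtain ⟨y, hy, hyx⟩ := h.le (mem_map_of_mem (MulAut.conj (q.out : P)).toMonoidHom hx)
      simp only [MulEquiv.coe_toMonoidHom, MulAut.conj_apply] at hyx
      rw [show x = (q'.out : P)⁻¹ * ((q.out : P) * ((q.out : P)⁻¹ * q'.out * x *
            ((q.out : P)⁻¹ * q'.out)⁻¹) * (q.out : P)⁻¹) * q'.out by group, ← hyx]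
      simpa [mul_assoc] using hy
  have hFcard : ∀ q, Nat.card (F q) = Nat.card E := fun q =>
    card_map_of_injective (MulAut.conj (q.out : P)).injective
  haveI := Fintype.ofFinite Q
  let D : Q → Set P := fun q => (F q : Set P) \ (Z : Set P)
  have hdisj : ∀ q q' x, x ∈ D q → x ∈ D q' → q = q' := by
    intro q q' x hx hx'
    apply hFinj
    have key : ∀ q, x ∈ D q → F q = Z ⊔ zpowers x := by
      intro q hx
      refine (eq_of_le_of_card_ge (sup_le (hFZ q) (zpowers_le.mpr hx.1)) ?_).symm
      have hlt' : Z < Z ⊔ zpowers x :=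
        lt_of_le_of_ne le_sup_left fun h => hx.2 (h.symm.le (mem_sup_right (mem_zpowers x)))
      have hd := card_dvd_of_le hlt'.le
      obtain ⟨k, hk⟩ := hd
      obtain ⟨j, hj⟩ := IsPGroup.iff_card.mp (hP.to_subgroup (Z ⊔ zpowers x))
      obtain ⟨b, hb⟩ := IsPGroup.iff_card.mp (hP.to_subgroup Z)
      have h1 : Nat.card Z < Nat.card ↥(Z ⊔ zpowers x) :=
        lt_of_le_of_ne (card_le_of_le hlt'.le) fun h => hlt'.ne (eq_of_le_of_card_ge hlt'.le h.ge)
      rw [hj, hb] at h1
      rw [hFcard, hcard, hj, hb, ← pow_succ']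
      exact Nat.pow_le_pow_right hp.out.pos ((Nat.pow_lt_pow_iff_right hp.out.one_lt).mp h1)
    rw [key q hx, key q' hx']
  have hsum : Fintype.card Q * (Nat.card E - Nat.card Z) ≤ Nat.card N1 - Nat.card Z := by
    have h1 : ∀ q, (D q).ncard = Nat.card E - Nat.card Z := fun q => by
      show ((F q : Set P) \ (Z : Set P)).ncard = _
      rw [Set.ncard_diff (hFZ q), ← Nat.card_coe_set_eq, ← Nat.card_coe_set_eq]
      exact congrArg (· - _) (hFcard q)
    have h2 : ((N1 : Set P) \ (Z : Set P)).ncard = Nat.card N1 - Nat.card Z := by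
      rw [Set.ncard_diff (hZE.trans hE1), ← Nat.card_coe_set_eq, ← Nat.card_coe_set_eq]
      rfl
    rw [← h2]
    have h3 : (⋃ q, D q) ⊆ (N1 : Set P) \ (Z : Set P) :=
      Set.iUnion_subset fun q x hx => ⟨hconj _ q.out.2 hx.1, hx.2⟩
    refine le_trans (le_of_eq ?_) (Set.ncard_le_ncard h3 (Set.toFinite _))
    rw [Set.ncard_iUnion_of_finite (fun q => Set.toFinite _) (fun q q' hne => Set.disjoint_left.mpr
      fun x hx hx' => hne (hdisj q q' x hx hx')), finsum_eq_sum_of_fintype,
      Finset.sum_congr rfl fun q _ => h1 q, Finset.sum_const, Finset.card_univ, smul_eq_mul]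
  have hN1card : Nat.card N1 = p * (p * Nat.card Z) := by
    rw [card_eq_mul_relIndex hE1, hN, hcard]
  obtain ⟨t, ht⟩ := (hP.to_subgroup N2).index (N1.subgroupOf N2)
  have htQ : Fintype.card Q = p ^ t := by
    rw [← Nat.card_eq_fintype_card, ← ht, Subgroup.index_eq_card]
  rw [htQ, hN1card, hcard] at hsum
  have ht1 : t < 2 := by
    by_contra h2
    have h3 : p ^ 2 ≤ p ^ t := Nat.pow_le_pow_right hp.out.pos (not_lt.mp h2)
    have hz : 0 < Nat.card Z := Nat.card_pos
    have h4 : 1 ≤ p - 1 := Nat.le_sub_one_of_lt hp.out.one_lt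
    have e1 : p * Nat.card Z - Nat.card Z = (p - 1) * Nat.card Z := by rw [Nat.sub_mul, one_mul]
    have e2 : p * (p * Nat.card Z) - Nat.card Z = (p * p - 1) * Nat.card Z := by
      rw [Nat.sub_mul, one_mul, mul_assoc]
    rw [e1, e2, ← mul_assoc] at hsum
    have h5 := Nat.le_of_mul_le_mul_right hsum hz
    have h6 : p ^ 2 * 1 ≤ p ^ t * (p - 1) := Nat.mul_le_mul h3 h4
    have h7 : 1 ≤ p * p := Nat.mul_pos hp.out.pos hp.out.pos
    rw [pow_two] at h6
    omega
  have ht0 : t ≠ 0 := fun h => hlt.not_ge (by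
    rw [h, pow_zero, index_eq_one, subgroupOf_eq_top] at ht
    exact ht)
  show (N1.subgroupOf N2).index = p
  rw [ht, show t = 1 by omega, pow_one]

/-- The conclusions of Héthelyi's theorem. -/
def Tower (p : ℕ) (E : Subgroup P) : Prop :=
  (∀ K L : Subgroup P, E ≤ K → E ≤ L → K ≤ L ∨ L ≤ K) ∧
    (∀ K : Subgroup P, E ≤ K → K ≠ ⊤ → K.relIndex (normalizer (K : Set P)) = p) ∧
    ∀ (i : ℕ) (K : Subgroup P), E ≤ K → K ≠ ⊤ → Nat.card K = p ^ i * Nat.card E →
      Group.nilpotencyClass K = i + 1

theorem tower (n : ℕ) : ∀ {P : Type u} [Group P] [Finite P], Nat.card P ≤ n → IsPGroup p P →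
    ∀ (E : Subgroup P), IsMulCommutative E → centralizer (E : Set P) ≤ E →
      E.relIndex (normalizer (E : Set P)) = p → Tower p E := by
  induction n using Nat.strong_induction_on with
  | _ n ih =>
  intro P _ _ hn hP E hEab hC hN
  classical
  haveI hPn := hP.isNilpotent
  set N1 := normalizer (E : Set P) with hN1def
  have hE1 : E ≤ N1 := le_normalizer
  have hN1E : ¬ N1 ≤ E := fun h => hp.out.ne_one (hN.symm.trans (relIndex_eq_one.mpr h))
  have hEne : E ≠ ⊥ := fun h => hN1E fun x _ => hC (mem_centralizer_iff.mpr fun y hy => by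
    rw [h] at hy
    simp [mem_bot.mp hy])
  haveI : Nontrivial E := (nontrivial_iff_ne_bot E).mpr hEne
  haveI : IsMulCommutative E := hEab
  have hEclass : Group.nilpotencyClass E = 1 := by
    have h1 : Group.nilpotencyClass E ≤ 1 := Group.IsNilpotent.nilpotencyClass_le_one_iff.mpr hEab
    rcases Nat.le_one_iff_eq_zero_or_eq_one.mp h1 with h | h
    · haveI := Group.nilpotencyClass_zero_iff_subsingleton.mp h
      exact (false_of_nontrivial_of_subsingleton E).elim
    · exact h
  -- everything strictly above `E` contains `N1`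
  have habove : ∀ K : Subgroup P, E ≤ K → K = E ∨ N1 ≤ K := by
    intro K hEK
    rcases sup_eq_of_prime_relIndex hE1 hN (le_inf hE1 hEK) inf_le_left with h | h
    · refine Or.inl ?_
      by_contra hne
      haveI := (hP.to_subgroup K).isNilpotent
      have hlt : E.subgroupOf K < ⊤ := lt_top_iff_ne_top.mpr fun h' =>
        hne (le_antisymm (subgroupOf_eq_top.mp h') hEK)
      obtain ⟨⟨x, hxK⟩, hx, hxE⟩ := SetLike.exists_of_lt (Group.normalizerCondition_of_isNilpotent _ hlt)
      refine hxE (h.le ⟨mem_normalizer_iff.mpr fun y => ⟨fun hy => ?_, fun hy => ?_⟩, hxK⟩ : x ∈ E)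
      · exact (mem_normalizer_iff.mp hx ⟨y, hEK hy⟩).mp hy
      · have hyK : y ∈ K := by
          have := K.mul_mem (K.mul_mem (K.inv_mem hxK) (hEK hy)) hxK
          simpa [mul_assoc] using this
        exact (mem_normalizer_iff.mp hx ⟨y, hyK⟩).mpr hy
    · exact Or.inr (inf_eq_left.mp h)
  have hcardE : 0 < Nat.card E := Nat.card_pos
  have hi_of_E : ∀ i, Nat.card E = p ^ i * Nat.card E → i = 0 := by
    intro i h
    have : p ^ i = 1 := by
      have := Nat.eq_of_mul_eq_mul_right hcardE (h.symm.trans (one_mul _).symm)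
      exact this
    simpa [hp.out.ne_one] using this
  by_cases hN1top : N1 = ⊤
  · refine ⟨fun K L hK hL => ?_, fun K hK hKtop => ?_, fun i K hK hKtop hcard => ?_⟩
    · rcases habove K hK with rfl | hK'
      · exact Or.inl hL
      · exact Or.inr (le_trans le_top (hN1top ▸ hK'))
    all_goals rcases habove K hK with rfl | hK'
    · exact hN
    · exact absurd (top_le_iff.mp (hN1top ▸ hK')) hKtop
    · rw [hi_of_E i hcard]; exact hEclass
    · exact absurd (top_le_iff.mp (hN1top ▸ hK')) hKtop
  have hN2 := relIndex_normalizer hP E hEab hC hN hN1top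
  -- quotient by the core of `E`
  set C := E.normalCore with hCdef
  have hCE : C ≤ E := normalCore_le E
  haveI : Nontrivial P := (nontrivial_iff (G := P)).mp
    ⟨E, ⊥, hEne⟩
  set π := QuotientGroup.mk' C
  have hπ : Function.Surjective π := QuotientGroup.mk'_surjective C
  have hker : π.ker = C := QuotientGroup.ker_mk' C
  have hcomap : ∀ X : Subgroup P, C ≤ X → (X.map π).comap π = X := fun X hX => by
    rw [comap_map_eq, hker, sup_eq_left.mpr hX]
  have hQ : IsPGroup p (P ⧸ C) := hP.to_quotient C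
  -- the centralizer of the image of `E`
  have hcentE : ∀ g : P, π g ∈ centralizer ((E.map π : Subgroup (P ⧸ C)) : Set (P ⧸ C)) → g ∈ N1 := by
    intro g hg
    have key : ∀ x ∈ E, ∀ g : P, π g ∈ centralizer ((E.map π : Subgroup (P ⧸ C)) : Set (P ⧸ C)) →
        g * x * g⁻¹ ∈ E := by
      intro x hx g hg
      have h1 := mem_centralizer_iff.mp hg _ (mem_map_of_mem π hx)
      have h2 : π (g * x * g⁻¹ * x⁻¹) = 1 := by
        rw [map_mul, map_mul, map_mul, map_inv, map_inv, ← h1, mul_inv_cancel_right, mul_inv_cancel]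
      have h3 := hCE ((QuotientGroup.eq_one_iff _).mp h2)
      simpa using E.mul_mem h3 hx
    refine mem_normalizer_iff.mpr fun x => ⟨fun hx => key x hx g hg, fun hx => ?_⟩
    have := key _ hx g⁻¹ (by rw [map_inv]; exact inv_mem hg)
    simpa [mul_assoc] using this
  have hcen : ∀ g : P, π g ∈ center (P ⧸ C) → g ∈ N1 := fun g hg =>
    hcentE g (mem_centralizer_iff.mpr fun y _ => (mem_center_iff.mp hg y))
  have hinf : ∀ g ∈ E, π g ∈ center (P ⧸ C) → g ∈ C := by
    intro g hg hgc
    haveI hn : (E ⊓ (center (P ⧸ C)).comap π).Normal := by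
      refine ⟨fun x hx y => ?_⟩
      have hxc : π x ∈ center (P ⧸ C) := hx.2
      have hpi : π (y * x * y⁻¹) = π x := by
        rw [map_mul, map_mul, map_inv, mem_center_iff.mp hxc, mul_inv_cancel_right]
      refine ⟨?_, show π (y * x * y⁻¹) ∈ center (P ⧸ C) by rw [hpi]; exact hxc⟩
      have h3 : x⁻¹ * (y * x * y⁻¹) ∈ C := (QuotientGroup.eq_one_iff _).mp (by
        show π _ = 1
        rw [map_mul, map_inv, hpi, inv_mul_cancel])
      simpa using E.mul_mem hx.1 (hCE h3)
    exact normal_le_normalCore.mpr inf_le_left (show g ∈ E ⊓ (center (P ⧸ C)).comap π from ⟨hg, hgc⟩)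
  have hCtop : C ≠ ⊤ := fun h => hN1E (le_top.trans (h.ge.trans hCE))
  obtain ⟨g0, hg0, hg0E⟩ : ∃ g, π g ∈ center (P ⧸ C) ∧ g ∉ E := by
    haveI : Nontrivial (P ⧸ C) := QuotientGroup.nontrivial_iff.mpr hCtop
    haveI := hQ.center_nontrivial
    obtain ⟨⟨z, hz⟩, hz1⟩ := exists_ne (1 : center (P ⧸ C))
    obtain ⟨g, rfl⟩ := hπ z
    exact ⟨g, hz, fun hgE => hz1 (Subtype.ext ((QuotientGroup.eq_one_iff g).mpr (hinf g hgE hz)))⟩
  have hN1gen : E ⊔ zpowers g0 = N1 := by
    rcases sup_eq_of_prime_relIndex hE1 hN le_sup_left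
      (sup_le hE1 (zpowers_le.mpr (hcen g0 hg0))) with h | h
    · exact absurd (h ▸ mem_sup_right (mem_zpowers g0)) hg0E
    · exact h
  set E1 := N1.map π with hE1def
  have hE1comm : E1 ≤ centralizer (E1 : Set (P ⧸ C)) := by
    have h1 : E1 = E.map π ⊔ zpowers (π g0) := by
      rw [hE1def, ← hN1gen, Subgroup.map_sup, MonoidHom.map_zpowers]
    have hz : zpowers (π g0) ≤ centralizer (E1 : Set (P ⧸ C)) :=
      zpowers_le.mpr (center_le_centralizer _ hg0)
    have he : E.map π ≤ centralizer (E1 : Set (P ⧸ C)) := by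
      rw [le_centralizer_iff, h1]
      refine sup_le ?_ (zpowers_le.mpr (center_le_centralizer _ hg0))
      rintro _ ⟨a, ha, rfl⟩
      refine mem_centralizer_iff.mpr ?_
      rintro _ ⟨b, hb, rfl⟩
      rw [← map_mul, ← map_mul,
        show b * a = a * b from congrArg Subtype.val (hEab.is_comm.comm ⟨b, hb⟩ ⟨a, ha⟩)]
    calc E1 = E.map π ⊔ zpowers (π g0) := h1
      _ ≤ _ := sup_le he hz
  have hE1ab : IsMulCommutative E1 := ⟨⟨fun a b => Subtype.ext
    (mem_centralizer_iff.mp (hE1comm b.2) a a.2)⟩⟩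
  have hCE1 : centralizer (E1 : Set (P ⧸ C)) ≤ E1 := by
    intro y hy
    obtain ⟨g, rfl⟩ := hπ y
    exact mem_map_of_mem π (hcentE g (centralizer_le (map_mono hE1) hy))
  have hnormmap : ∀ X : Subgroup P, C ≤ X →
      (normalizer ((X.map π : Subgroup (P ⧸ C)) : Set (P ⧸ C))) = (normalizer (X : Set P)).map π := by
    intro X hX
    have := comap_normalizer_eq_of_surjective (X.map π) hπ
    rw [hcomap X hX] at this
    rw [← this, map_comap_eq_self_of_surjective hπ]
  have hrelmap : ∀ X Y : Subgroup P, C ≤ X → C ≤ Y → (X.map π).relIndex (Y.map π) = X.relIndex Y := by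
    intro X Y hX hY
    rw [relIndex_map_map, hker, sup_eq_left.mpr hX, sup_eq_left.mpr hY]
  have hC1 : C ≤ N1 := hCE.trans hE1
  have hN1' : E1.relIndex (normalizer (E1 : Set (P ⧸ C))) = p := by
    rw [hE1def, hnormmap N1 hC1, hrelmap _ _ hC1 (hC1.trans le_normalizer), hN2]
  have hCne : C ≠ ⊥ := by
    haveI := hP.center_nontrivial
    intro h
    have : center P ≤ C := normal_le_normalCore.mpr ((center_le_centralizer _).trans hC)
    rw [h, le_bot_iff] at this
    exact (nontrivial_iff_ne_bot _).mp inferInstance this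
  have hlt : Nat.card (P ⧸ C) < n := by
    refine lt_of_lt_of_le ?_ hn
    rw [← Subgroup.index_eq_card]
    have h1 : 1 < Nat.card C := (one_lt_card_iff_ne_bot C).mpr hCne
    have h2 : 0 < C.index := Nat.pos_of_ne_zero index_ne_zero_of_finite
    calc C.index = 1 * C.index := (one_mul _).symm
      _ < Nat.card C * C.index := Nat.mul_lt_mul_of_pos_right h1 h2
      _ = Nat.card P := C.card_mul_index
  obtain ⟨T1, T2, T3⟩ := ih _ hlt le_rfl hQ E1 hE1ab hCE1 hN1'
  have tot : ∀ K L : Subgroup P, E ≤ K → E ≤ L → K ≤ L ∨ L ≤ K := by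
    intro K L hK hL
    rcases habove K hK with rfl | hK'
    · exact Or.inl hL
    rcases habove L hL with rfl | hL'
    · exact Or.inr hK
    rw [← hcomap K (hC1.trans hK'), ← hcomap L (hC1.trans hL')]
    exact (T1 _ _ (map_mono hK') (map_mono hL')).imp comap_mono comap_mono
  have idx : ∀ K : Subgroup P, E ≤ K → K ≠ ⊤ → K.relIndex (normalizer (K : Set P)) = p := by
    intro K hK hKtop
    rcases habove K hK with rfl | hK'
    · exact hN
    have hCK := hC1.trans hK'
    have := T2 _ (map_mono hK') (fun h => hKtop (by rw [← hcomap K hCK, h, comap_top]))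
    rwa [hnormmap K hCK, hrelmap _ _ hCK (hCK.trans le_normalizer)] at this
  refine ⟨tot, idx, fun i K hK hKtop hcard => ?_⟩
  rcases habove K hK with rfl | hK'
  · rw [hi_of_E i hcard]; exact hEclass
  have hCK := hC1.trans hK'
  set L := normalizer (K : Set P) with hLdef
  have hKL : K ≤ L := le_normalizer
  by_cases hLtop : L = ⊤
  · -- `K` is the normal closure of `E`, with centre `C`
    haveI hKn : K.Normal := normalizer_eq_top_iff.mp hLtop
    have hKidx : K.index = p := by
      rw [← relIndex_top_right, ← hLtop]; exact idx K hK hKtop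
    have hclos : normalClosure (E : Set P) = K := by
      have h1 : normalClosure (E : Set P) ≤ K := normalClosure_le_normal hK
      have h2 := idx _ subset_normalClosure fun h => hKtop (top_le_iff.mp (h ▸ h1))
      rw [normalizer_eq_top, relIndex_top_right] at h2
      have h3 := relIndex_mul_index h1
      rw [hKidx, h2] at h3
      exact le_antisymm h1 (relIndex_eq_one.mp (mul_right_cancel₀ hp.out.ne_zero (h3.trans (one_mul p).symm)))
    have hKC : K ≤ centralizer (C : Set P) := by
      rw [← hclos]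
      exact normalClosure_le_normal fun e he => mem_centralizer_iff.mpr fun c hc =>
        congrArg Subtype.val (hEab.is_comm.comm ⟨c, hCE hc⟩ ⟨e, he⟩)
    have hcenK : center K = C.subgroupOf K := by
      apply le_antisymm
      · intro z hz
        haveI : ((center K).map K.subtype).Normal := inferInstance
        refine normal_le_normalCore.mpr ?_ (mem_map_of_mem K.subtype hz)
        rintro _ ⟨w, hw, rfl⟩
        exact hC (mem_centralizer_iff.mpr fun e he => congrArg Subtype.val (mem_center_iff.mp hw ⟨e, hK he⟩))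
      · intro z hz
        exact mem_center_iff.mpr fun y => Subtype.ext
          (mem_centralizer_iff.mp (hKC y.2) _ hz).symm
    haveI : Nontrivial K := (nontrivial_iff_ne_bot K).mpr fun h => hEne (le_bot_iff.mp (h ▸ hK))
    haveI := (hP.to_subgroup K).isNilpotent
    rw [Group.nilpotencyClass_eq_quotient_center_plus_one]
    have hker' : center K = (π.subgroupMap K).ker := by
      rw [hcenK]
      ext x
      rw [MonoidHom.mem_ker, mem_subgroupOf, Subtype.ext_iff]
      exact (QuotientGroup.eq_one_iff (x : P)).symm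
    rw [class_eq_of_mulEquiv ((QuotientGroup.quotientMulEquivOfEq hker').trans
      (QuotientGroup.quotientKerEquivOfSurjective _ (π.subgroupMap_surjective K)))]
    -- the orders
    have hcC : ∀ X : Subgroup P, C ≤ X → Nat.card X = Nat.card (X.map π) * Nat.card C := by
      intro X hX
      rw [card_eq_mul_relIndex hX]
      congr 1
      rw [← relIndex_bot_left, ← Subgroup.map_bot π, relIndex_map_map, hker, bot_sup_eq,
        sup_eq_left.mpr hX]
    have hN1card : Nat.card N1 = p * Nat.card E := by rw [card_eq_mul_relIndex hE1, hN]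
    have hi1 : i ≠ 0 := by
      intro h0
      have := card_le_of_le hK'
      rw [hcard, hN1card, h0, pow_zero] at this
      exact (Nat.mul_lt_mul_of_pos_right hp.out.one_lt hcardE).not_ge this
    have hcard' : Nat.card (K.map π) = p ^ (i - 1) * Nat.card E1 := by
      apply Nat.eq_of_mul_eq_mul_right (Nat.card_pos (α := C))
      rw [← hcC K hCK, mul_assoc, hE1def, ← hcC N1 hC1, hN1card, hcard, ← mul_assoc, ← pow_succ,
        show i - 1 + 1 = i by omega]
    rw [T3 (i - 1) _ (map_mono hK') (fun h => hKtop (by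
      rw [← hcomap K hCK, h, comap_top])) hcard']
    omega
  · -- induction inside the normalizer
    have hEL : E ≤ L := hK.trans hKL
    have hN1L : N1 ≤ L := hK'.trans hKL
    set E2 := E.subgroupOf L with hE2
    have hnorm : normalizer (E2 : Set L) = N1.subgroupOf L := by
      ext ⟨x, hx⟩
      rw [mem_subgroupOf, mem_normalizer_iff, mem_normalizer_iff]
      constructor
      · intro h y
        refine ⟨fun hy => (h ⟨y, hEL hy⟩).mp hy, fun hy => ?_⟩
        have hyL : y ∈ L := by
          have := L.mul_mem (L.mul_mem (L.inv_mem hx) (hEL hy)) hx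
          simpa [mul_assoc] using this
        exact (h ⟨y, hyL⟩).mpr hy
      · exact fun h y => h y
    have hC2 : centralizer (E2 : Set L) ≤ E2 := fun x hx => hC (mem_centralizer_iff.mpr fun e he =>
      congrArg Subtype.val (mem_centralizer_iff.mp hx ⟨e, hEL he⟩ he))
    have hE2ab : IsMulCommutative E2 := ⟨⟨fun a b => Subtype.ext (Subtype.ext (congrArg
      (fun t : E => (t : P)) (hEab.is_comm.comm ⟨_, a.2⟩ ⟨_, b.2⟩)))⟩⟩
    have hN' : E2.relIndex (normalizer (E2 : Set L)) = p := by
      rw [hnorm, hE2, relIndex_subgroupOf hN1L, hN]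
    have hlt' : Nat.card L < n :=
      lt_of_lt_of_le (lt_of_le_of_ne (card_le_card_group L) fun h => hLtop ((card_eq_iff_eq_top L).mp h)) hn
    obtain ⟨-, -, T3'⟩ := ih _ hlt' le_rfl (hP.to_subgroup L) E2 hE2ab hC2 hN'
    have hKne : K.subgroupOf L ≠ ⊤ := fun h => by
      have hidx := idx K hK hKtop
      rw [← hLdef, relIndex, h, index_top] at hidx
      exact hp.out.ne_one hidx.symm
    haveI := (hP.to_subgroup K).isNilpotent
    rw [class_eq_of_mulEquiv (subgroupOfEquivOfLe hKL).symm]
    refine T3' i _ (comap_mono hK) hKne ?_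
    rw [Nat.card_congr (subgroupOfEquivOfLe hKL).toEquiv, hE2,
      Nat.card_congr (subgroupOfEquivOfLe hEL).toEquiv, hcard]

/-- `S3811`. -/
theorem main (hP : IsPGroup p P) (E : Subgroup P) (hEab : IsMulCommutative E)
    (hC : centralizer (E : Set P) ≤ E)
    (hN : (E.subgroupOf (normalizer (E : Set P))).index = p) :
    (∀ K L : Subgroup P, E ≤ K → E ≤ L → K ≤ L ∨ L ≤ K) ∧
      (∀ K : Subgroup P, E ≤ K → K ≠ ⊤ → (K.subgroupOf (normalizer (K : Set P))).index = p) ∧
      ∀ (i : ℕ) (K : Subgroup P) [Group.IsNilpotent K], E ≤ K → K ≠ ⊤ → K.index * p ^ i = E.index →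
        Group.nilpotencyClass K = i + 1 := by
  obtain ⟨h1, h2, h3⟩ := tower (p := p) (Nat.card P) le_rfl hP E hEab hC hN
  refine ⟨h1, h2, fun i K _ hK hKtop hidx => h3 i K hK hKtop ?_⟩
  have e1 := K.card_mul_index
  have e2 := E.card_mul_index
  apply Nat.eq_of_mul_eq_mul_right (Nat.pos_of_ne_zero (index_ne_zero_of_finite (H := K)))
  calc Nat.card K * K.index = Nat.card E * E.index := e1.trans e2.symm
    _ = _ := by rw [← hidx]; ring

end Cfsg.Agent.Grp.SoftTower
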