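import Mathlib
import Cfsg.Agent.Lib.Transfer.Abelian
import Cfsg.Agent.Lib.Transfer.NormalComplement

/-!
A group whose Sylow subgroups for all but the largest prime are abelian of rank at most two and whose order is not divisible by twelve is solvable.
-/

set_option autoImplicit false

namespace Cfsg.Agent.Grp.SolvableRankTwo

open Subgroup

universe u

variable {G : Type u} [Group G] [Finite G]

theorem centralizes {p q : ℕ} [hp : Fact p.Prime] [hq : Fact q.Prime] (P : Sylow p G)
    (hab : IsMulCommutative (P : Subgroup G)) (hrk : Group.rank (P : Subgroup G) ≤ 2) (hpq : p < q)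
    (hqd : q ∣ Nat.card G) (h12 : ¬ 12 ∣ Nat.card G) {g : G}
    (hg : g ∈ normalizer ((P : Subgroup G) : Set G)) {k : ℕ} (hk : orderOf g = q ^ k) :
    ∀ x ∈ (P : Subgroup G), g * x * g⁻¹ = x := by
  have hc : ∀ a ∈ (P : Subgroup G), ∀ b ∈ (P : Subgroup G), a * b = b * a := fun a ha b hb =>
    congrArg Subtype.val (hab.is_comm.comm ⟨a, ha⟩ ⟨b, hb⟩)
  let Om : Subgroup G :=
    { carrier := {x | x ∈ (P : Subgroup G) ∧ x ^ p = 1}
      one_mem' := ⟨one_mem _, one_pow p⟩
      mul_mem' := fun {a b} ha hb => ⟨mul_mem ha.1 hb.1, by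
        rw [(Commute.mul_pow (hc a ha.1 b hb.1) p), ha.2, hb.2, one_mul]⟩
      inv_mem' := fun {a} ha => ⟨inv_mem ha.1, by rw [inv_pow, ha.2, inv_one]⟩ }
  have hgO : g ∈ normalizer (Om : Set G) := by
    rw [mem_normalizer_iff]
    intro x
    change x ∈ (P : Subgroup G) ∧ x ^ p = 1 ↔ g * x * g⁻¹ ∈ (P : Subgroup G) ∧ (g * x * g⁻¹) ^ p = 1
    rw [← mem_normalizer_iff.mp hg x, conj_pow]
    simp
  -- the order of `Om` is at most `p ^ 2`
  have hOm : ∀ n, Nat.card Om = p ^ n → n ≤ 2 := by
    intro n hn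
    obtain ⟨S, hS, hcl⟩ := Group.rank_spec (P : Subgroup G)
    letI : CommGroup (P : Subgroup G) :=
      { (inferInstance : Group (P : Subgroup G)) with mul_comm := fun a b => mul_comm' a b }
    let f : (P : Subgroup G) →* (P : Subgroup G) := powMonoidHom p
    have hker : Nat.card f.ker = Nat.card Om := Nat.card_congr
      { toFun := fun x => ⟨x.1.1, x.1.2, congrArg Subtype.val (MonoidHom.mem_ker.mp x.2)⟩
        invFun := fun x => ⟨⟨x.1, x.2.1⟩, MonoidHom.mem_ker.mpr (Subtype.ext x.2.2)⟩
        left_inv := fun _ => rfl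
        right_inv := fun _ => rfl }
    have hexp : ∀ x : (P : Subgroup G) ⧸ f.range, x ^ p = 1 := fun x => by
      obtain ⟨y, rfl⟩ := QuotientGroup.mk_surjective x
      rw [← QuotientGroup.mk_pow, QuotientGroup.eq_one_iff]
      exact ⟨y, rfl⟩
    have h1 : Nat.card f.ker = f.range.index := by
      have e1 := f.ker.card_mul_index
      have e2 := f.range.card_mul_index
      rw [Subgroup.index_ker] at e1
      rw [← e1, mul_comm] at e2
      exact (Nat.eq_of_mul_eq_mul_right Nat.card_pos e2).symm
    have hgen : Subgroup.closure ((QuotientGroup.mk' f.range) '' (S : Set (P : Subgroup G))) = ⊤ := by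
      rw [← MonoidHom.map_closure, hcl, Subgroup.map_top_of_surjective _ (QuotientGroup.mk'_surjective _)]
    classical
    have hcard : Nat.card ((P : Subgroup G) ⧸ f.range) ≤ p ^ S.card := by
      let φ : (S → Fin p) → (P : Subgroup G) ⧸ f.range :=
        fun v => ∏ s : S, (QuotientGroup.mk' f.range s.1) ^ (v s : ℕ)
      have hsur : Function.Surjective φ := by
        intro x
        have hx : x ∈ Subgroup.closure ((QuotientGroup.mk' f.range) '' (S : Set (P : Subgroup G))) := hgen ▸ mem_top x
        have key : ∀ x ∈ Subgroup.closure ((QuotientGroup.mk' f.range) '' (S : Set (P : Subgroup G))),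
            ∃ v : S → ℕ, x = ∏ s : S, (QuotientGroup.mk' f.range s.1) ^ v s := by
          intro x hx
          induction hx using Subgroup.closure_induction with
          | mem x hx =>
              obtain ⟨s, hs, rfl⟩ := hx
              exact ⟨fun t => if t = ⟨s, hs⟩ then 1 else 0, by simp [pow_ite, Finset.prod_ite_eq']⟩
          | one => exact ⟨fun _ => 0, by simp⟩
          | mul a b _ _ ha hb =>
              obtain ⟨v, rfl⟩ := ha; obtain ⟨w, rfl⟩ := hb
              exact ⟨v + w, by simp [pow_add, Finset.prod_mul_distrib]⟩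
          | inv a _ ha =>
              obtain ⟨v, rfl⟩ := ha
              refine ⟨fun s => v s * (p - 1), ?_⟩
              refine inv_eq_of_mul_eq_one_right ?_
              rw [← Finset.prod_mul_distrib]
              refine Finset.prod_eq_one fun s _ => ?_
              rw [← pow_add, show v s + v s * (p - 1) = p * v s by
                obtain ⟨r, hr⟩ : ∃ r, p = r + 1 := ⟨p - 1, by have := hp.out.pos; omega⟩
                subst hr; rw [Nat.add_sub_cancel]; ring, pow_mul, hexp, one_pow]
        obtain ⟨v, rfl⟩ := key x hx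
        refine ⟨fun s => ⟨v s % p, Nat.mod_lt _ hp.out.pos⟩, Finset.prod_congr rfl fun s _ => ?_⟩
        exact (pow_eq_pow_mod (v s) (hexp _)).symm
      have := Nat.card_le_card_of_surjective φ hsur
      simpa [Nat.card_fun] using this
    have h2 : p ^ n ≤ p ^ 2 := by
      rw [← hn, ← hker, h1]
      exact hcard.trans (Nat.pow_le_pow_right hp.out.pos (hS ▸ hrk))
    exact (Nat.pow_le_pow_iff_right hp.out.one_lt).mp h2
  obtain ⟨n, hn⟩ := IsPGroup.iff_card.mp (P.isPGroup'.to_le (show Om ≤ (P : Subgroup G) from fun x hx => hx.1))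
  have hn2 := hOm n hn
  have hdn : p ^ n ∣ Nat.card (P : Subgroup G) := hn ▸ Subgroup.card_dvd_of_le (show Om ≤ (P : Subgroup G) from fun x hx => hx.1)
  have hfix : ∀ x ∈ Om, g * x * g⁻¹ = x := by
    refine Transfer.conj_eq_self_of_counting Om hgO hk fun d hd hne hmod => ?_
    rw [hn] at hd hne hmod
    obtain ⟨i, hi, rfl⟩ := (Nat.dvd_prime_pow hp.out).mp hd
    have hin : i < n := lt_of_le_of_ne hi fun h => hne (by rw [h])
    have hqd' : q ∣ p ^ n - p ^ i := (Nat.modEq_iff_dvd' (Nat.pow_le_pow_right hp.out.pos hi)).mp hmod.symm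
    have e : p ^ n - p ^ i = p ^ i * (p ^ (n - i) - 1) := by
      rw [Nat.mul_sub_one, ← pow_add, Nat.add_sub_cancel' hi]
    rw [e] at hqd'
    have h1 : q ∣ p ^ (n - i) - 1 := (hq.out.dvd_mul.mp hqd').resolve_left fun h =>
      absurd ((Nat.prime_dvd_prime_iff_eq hq.out hp.out).mp (hq.out.dvd_of_dvd_pow h)) hpq.ne'
    have hp2 := hp.out.two_le
    rcases (show n - i = 1 ∨ n - i = 2 by omega) with h | h <;> rw [h] at h1
    · rw [pow_one] at h1
      exact absurd (Nat.le_of_dvd (by omega) h1) (by omega)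
    · obtain ⟨rfl, rfl⟩ : n = 2 ∧ i = 0 := by omega
      have h1' : q ∣ (p + 1) * (p - 1) := by
        rwa [show (p + 1) * (p - 1) = p ^ 2 - 1 by rw [Nat.mul_sub_one, pow_two, Nat.add_mul, one_mul]; omega]
      rcases hq.out.dvd_mul.mp h1' with h2 | h2
      · have hq1 : q = p + 1 := le_antisymm (Nat.le_of_dvd (by omega) h2) hpq
        have hp' : p = 2 := by
          by_contra hne2
          have hodd := hp.out.odd_of_ne_two hne2
          have hev : Even q := by rw [hq1]; exact hodd.add_one
          exact absurd ((hq.out.even_iff).mp hev) (by omega)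
        subst hp'
        subst hq1
        exact h12 (Nat.Coprime.mul_dvd_of_dvd_of_dvd (m := 4) (n := 3) (by norm_num)
          ((by simpa using hdn : 4 ∣ Nat.card (P : Subgroup G)).trans (Subgroup.card_subgroup_dvd_card _)) hqd)
      · exact absurd (Nat.le_of_dvd (by omega) h2) (by omega)
  -- from the socle to the whole group
  have key : ∀ j : ℕ, ∀ x ∈ (P : Subgroup G), x ^ p ^ j = 1 → g * x * g⁻¹ = x := by
    intro j
    induction j with
    | zero => intro x _ hx; rw [pow_zero, pow_one] at hx; simp [hx]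
    | succ j ihj =>
        intro x hx hxp
        have hgx : g * x * g⁻¹ ∈ (P : Subgroup G) := (mem_normalizer_iff.mp hg x).mp hx
        set z := x⁻¹ * (g * x * g⁻¹) with hz
        have hzP : z ∈ (P : Subgroup G) := mul_mem (inv_mem hx) hgx
        have hxp' := ihj (x ^ p) (pow_mem hx p) (by rw [← pow_mul, ← pow_succ']; exact hxp)
        have hzp : z ^ p = 1 := by
          rw [hz, (Commute.mul_pow (hc _ (inv_mem hx) _ hgx) p), conj_pow, hxp', inv_pow, inv_mul_cancel]
        have hzfix := hfix z ⟨hzP, hzp⟩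
        have hiter : ∀ i : ℕ, g ^ i * x * (g ^ i)⁻¹ = x * z ^ i := by
          intro i
          induction i with
          | zero => simp
          | succ i ihi =>
              calc g ^ (i + 1) * x * (g ^ (i + 1))⁻¹ = g * (g ^ i * x * (g ^ i)⁻¹) * g⁻¹ := by
                    rw [pow_succ']; group
                _ = (g * x * g⁻¹) * (g * z ^ i * g⁻¹) := by rw [ihi]; group
                _ = x * z ^ (i + 1) := by rw [← conj_pow, hzfix, pow_succ', ← mul_assoc x z, show x * z = g * x * g⁻¹ by rw [hz]; group]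
        have h := hiter (orderOf g)
        rw [pow_orderOf_eq_one, one_mul, inv_one, mul_one, left_eq_mul] at h
        have hz1 : z = 1 := by
          have hcop : Nat.Coprime (orderOf g) p := by
            rw [hk]; exact ((Nat.coprime_primes hq.out hp.out).mpr hpq.ne').pow_left k
          have h3 := Nat.dvd_gcd (orderOf_dvd_of_pow_eq_one h) (orderOf_dvd_of_pow_eq_one hzp)
          rw [hcop.gcd_eq_one] at h3
          exact orderOf_eq_one_iff.mp (Nat.dvd_one.mp h3)
        exact (inv_mul_eq_one.mp hz1).symm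
  intro x hx
  obtain ⟨j, hj⟩ := P.isPGroup' ⟨x, hx⟩
  exact key j x hx (congrArg Subtype.val hj)

theorem sylow_hyp_of_subgroup {p : ℕ} [hp : Fact p.Prime] (K : Subgroup G) {j : ℕ} (hp' : ¬ p ∣ j)
    (hindex : K.index = j)
    (h : ∀ P : Sylow p G, IsMulCommutative (P : Subgroup G) ∧ Group.rank (P : Subgroup G) ≤ 2)
    (P : Sylow p K) : IsMulCommutative (P : Subgroup K) ∧ Group.rank (P : Subgroup K) ≤ 2 := by
  obtain ⟨Q, hQ⟩ := (P.isPGroup'.map K.subtype).exists_le_sylow
  have heq : (P : Subgroup K).map K.subtype = (Q : Subgroup G) := by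
    refine Subgroup.eq_of_le_of_card_ge hQ ?_
    rw [Subgroup.card_map_of_injective K.subtype_injective, P.card_eq_multiplicity, Q.card_eq_multiplicity]
    refine Nat.pow_le_pow_right hp.out.pos ?_
    rw [← K.card_mul_index, Nat.factorization_mul Nat.card_pos.ne' Subgroup.index_ne_zero_of_finite,
      Finsupp.add_apply, hindex, Nat.factorization_eq_zero_of_not_dvd hp', add_zero]
  let e : (P : Subgroup K) ≃* (Q : Subgroup G) :=
    ((P : Subgroup K).equivMapOfInjective _ K.subtype_injective).trans (MulEquiv.subgroupCongr heq)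
  obtain ⟨h1, h2⟩ := h Q
  refine ⟨⟨⟨fun a b => e.injective (by rw [map_mul, map_mul]; exact h1.is_comm.comm _ _)⟩⟩, ?_⟩
  rwa [Group.rank_congr e]

theorem solvable_aux (n : ℕ) : ∀ (G : Type u) [Group G] [Finite G], Nat.card G = n →
    (∀ p : ℕ, p.Prime → p ∣ Nat.card G → (∃ q : ℕ, q.Prime ∧ q ∣ Nat.card G ∧ p < q) →
      ∀ P : Sylow p G, IsMulCommutative (P : Subgroup G) ∧ Group.rank (P : Subgroup G) ≤ 2) →
    ¬ 12 ∣ Nat.card G → Group.IsSolvable G := by
  induction n using Nat.strong_induction_on with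
  | _ n ih =>
  intro G _ _ hn h h12
  rcases Nat.lt_or_ge 1 (Nat.card G) with h1 | h1
  swap
  · haveI : Subsingleton G := Finite.card_le_one_iff_subsingleton.mp h1
    infer_instance
  set p := (Nat.card G).minFac with hpdef
  have hp : p.Prime := Nat.minFac_prime (by omega)
  haveI := Fact.mk hp
  have hpd : p ∣ Nat.card G := Nat.minFac_dvd _
  by_cases hpp : ∃ q : ℕ, q.Prime ∧ q ∣ Nat.card G ∧ p < q
  swap
  · push Not at hpp
    have : IsPGroup p G := by
      refine IsPGroup.of_card (n := (Nat.card G).primeFactorsList.length)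
        (Nat.eq_prime_pow_of_unique_prime_dvd Nat.card_pos.ne' fun {d} hd hdd => ?_)
      exact le_antisymm (hpp d hd hdd) (Nat.minFac_le_of_dvd hd.two_le hdd)
    exact @IsNilpotent.to_isSolvable _ _ this.isNilpotent
  obtain ⟨P⟩ : Nonempty (Sylow p G) := inferInstance
  obtain ⟨hab, hrk⟩ := h p hp hpd hpp P
  have hN : Cfsg.HasNormalPComplement p G := by
    refine Transfer.hasNormalPComplement_of_prime_elements P hab fun q hq hne g hg ⟨k, hk⟩ => ?_
    haveI := Fact.mk hq
    by_cases hk0 : k = 0
    · intro x _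
      rw [hk0, pow_zero, orderOf_eq_one_iff] at hk
      simp [hk]
    have hqd : q ∣ Nat.card G := dvd_trans (hk ▸ dvd_pow_self q hk0) (orderOf_dvd_natCard g)
    exact centralizes P hab hrk (lt_of_le_of_ne (Nat.minFac_le_of_dvd hq.two_le hqd) (Ne.symm hne)) hqd h12 hg hk
  obtain ⟨K, hKn, hKd, j, hj⟩ := Transfer.hasNormalPComplement_iff_exists.1 hN
  haveI := hKn
  have hlt : Nat.card K < n := by
    rw [← hn]
    refine lt_of_le_of_ne (Subgroup.card_le_card_group K) fun he => hKd ?_
    rw [he]; exact hpd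
  have hKs : Group.IsSolvable K := by
    refine ih _ hlt K rfl (fun r hr hrd ⟨q, hq, hqd, hrq⟩ R => ?_) (fun hd => h12 (hd.trans (Subgroup.card_subgroup_dvd_card K)))
    haveI := Fact.mk hr
    have hne : r ≠ p := fun e => hKd (e ▸ hrd)
    refine sylow_hyp_of_subgroup K (j := p ^ j) (fun hd => hne ((Nat.prime_dvd_prime_iff_eq hr hp).mp (hr.dvd_of_dvd_pow hd))) hj ?_ R
    exact h r hr (hrd.trans (Subgroup.card_subgroup_dvd_card K)) ⟨q, hq, hqd.trans (Subgroup.card_subgroup_dvd_card K), hrq⟩
  haveI := hKs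
  haveI : Group.IsSolvable (G ⧸ K) :=
    @IsNilpotent.to_isSolvable _ _ (IsPGroup.of_card (n := j) (p := p) (G := G ⧸ K) hj).isNilpotent
  exact solvable_of_ker_le_range K.subtype (QuotientGroup.mk' K) (by simp)

end Cfsg.Agent.Grp.SolvableRankTwo
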