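import Mathlib
import Cfsg.Agent.Lib.Grp.FpfPrime
import Cfsg.Agent.Lib.Grp.Frattini
import Cfsg.Agent.S0144

/-!
A finite group with a splitting automorphism of prime order is nilpotent (Hughes, Thompson, Kegel).
-/

set_option autoImplicit false

namespace Cfsg.Agent.Grp.Splitting

open scoped Pointwise commutatorElement
open Subgroup

universe u

variable {G : Type u} [Group G]

/-- `x · φ x ⋯ φ^(n-1) x`. -/
def nu (φ : MulAut G) (x : G) (n : ℕ) : G := ((List.range n).map fun i : ℕ => (φ ^ i) x).prod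

/-- `φ` is a splitting operator of order dividing `p`. -/
def Spl (p : ℕ) (φ : MulAut G) : Prop := φ ^ p = 1 ∧ ∀ x, nu φ x p = 1

theorem nu_zero (φ : MulAut G) (x : G) : nu φ x 0 = 1 := rfl

theorem nu_succ (φ : MulAut G) (x : G) (n : ℕ) : nu φ x (n + 1) = nu φ x n * (φ ^ n) x := by
  simp [nu, List.range_succ]

theorem nu_succ' (φ : MulAut G) (x : G) (n : ℕ) : nu φ x (n + 1) = x * φ (nu φ x n) := by
  induction n with
  | zero => simp [nu_zero, nu_succ]
  | succ n ih =>
    rw [nu_succ φ x (n + 1)]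
    conv_rhs => rw [nu_succ φ x n]
    rw [map_mul, ← mul_assoc, ← ih, pow_succ']
    rfl

theorem pow_comm_hom {H : Type*} [Group H] (φ : MulAut G) (ψ : MulAut H) (f : G →* H)
    (hf : ∀ y, f (φ y) = ψ (f y)) (n : ℕ) (y : G) : f ((φ ^ n) y) = (ψ ^ n) (f y) := by
  induction n generalizing y with
  | zero => simp
  | succ n ih => rw [pow_succ, pow_succ, MulAut.mul_apply, MulAut.mul_apply, ih, hf]

theorem map_nu {H : Type*} [Group H] (φ : MulAut G) (ψ : MulAut H) (f : G →* H)
    (hf : ∀ y, f (φ y) = ψ (f y)) (n : ℕ) (y : G) : f (nu φ y n) = nu ψ (f y) n := by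
  induction n with
  | zero => simp [nu_zero]
  | succ n ih => rw [nu_succ, nu_succ, map_mul, ih, pow_comm_hom φ ψ f hf]

theorem Spl.of_surjective {H : Type*} [Group H] {p : ℕ} {φ : MulAut G} {ψ : MulAut H}
    (h : Spl p φ) (f : G →* H) (hs : Function.Surjective f) (hf : ∀ y, f (φ y) = ψ (f y)) :
    Spl p ψ := by
  refine ⟨MulEquiv.ext fun y => ?_, fun y => ?_⟩
  · obtain ⟨x, rfl⟩ := hs y
    rw [← pow_comm_hom φ ψ f hf, h.1]; rfl
  · obtain ⟨x, rfl⟩ := hs y
    rw [← map_nu φ ψ f hf, h.2, map_one]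

theorem exists_restrict [Finite G] {p : ℕ} {φ : MulAut G} (h : Spl p φ) {H : Subgroup G}
    (hH : ∀ x ∈ H, φ x ∈ H) : ∃ ψ : MulAut H, Spl p ψ ∧ ∀ x : H, (ψ x : G) = φ x := by
  let f : H →* H := (φ.toMonoidHom.comp H.subtype).codRestrict H fun x => hH x x.2
  have hinj : Function.Injective f := fun a b hab =>
    Subtype.ext (φ.injective (congrArg Subtype.val hab))
  let ψ : MulAut H := MulEquiv.ofBijective f ⟨hinj, Finite.injective_iff_surjective.mp hinj⟩
  have hf : ∀ x : H, H.subtype (ψ x) = φ (H.subtype x) := fun _ => rfl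
  refine ⟨ψ, ⟨MulEquiv.ext fun y => H.subtype_injective ?_, fun y => H.subtype_injective ?_⟩,
    fun _ => rfl⟩
  · rw [pow_comm_hom ψ φ H.subtype hf, h.1]; rfl
  · rw [map_nu ψ φ H.subtype hf, h.2, map_one]

theorem exists_quotient [Finite G] {p : ℕ} {φ : MulAut G} (h : Spl p φ) {N : Subgroup G} [N.Normal]
    (hN : ∀ x ∈ N, φ x ∈ N) :
    ∃ ψ : MulAut (G ⧸ N), Spl p ψ ∧ ∀ x : G, ψ (x : G ⧸ N) = ((φ x : G) : G ⧸ N) := by
  let f : G ⧸ N →* G ⧸ N := QuotientGroup.map N N φ.toMonoidHom hN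
  have hsur : Function.Surjective f := fun y => by
    obtain ⟨x, rfl⟩ := QuotientGroup.mk_surjective y
    refine ⟨((φ.symm x : G) : G ⧸ N), ?_⟩
    show ((φ (φ.symm x) : G) : G ⧸ N) = _
    rw [MulEquiv.apply_symm_apply]
  let ψ : MulAut (G ⧸ N) :=
    MulEquiv.ofBijective f ⟨Finite.injective_iff_surjective.mpr hsur, hsur⟩
  exact ⟨ψ, h.of_surjective (QuotientGroup.mk' N) (QuotientGroup.mk'_surjective N) fun _ => rfl,
    fun _ => rfl⟩

theorem conj_pow_apply (φ : MulAut G) (g x : G) (n : ℕ) :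
    ((MulAut.conj g * φ) ^ n) x = nu φ g n * (φ ^ n) x * (nu φ g n)⁻¹ := by
  induction n with
  | zero => simp [nu_zero]
  | succ n ih =>
    rw [pow_succ', MulAut.mul_apply, ih, MulAut.mul_apply, MulAut.conj_apply, nu_succ', pow_succ',
      MulAut.mul_apply, map_mul, map_mul, map_inv]
    group

theorem nu_conj (φ : MulAut G) (g x : G) (n : ℕ) :
    nu (MulAut.conj g * φ) x n = nu φ (x * g) n * (nu φ g n)⁻¹ := by
  induction n with
  | zero => simp [nu_zero]
  | succ n ih =>
    rw [nu_succ, ih, conj_pow_apply, nu_succ φ (x * g), nu_succ φ g, map_mul]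
    group

theorem Spl.conj {p : ℕ} {φ : MulAut G} (h : Spl p φ) (g : G) : Spl p (MulAut.conj g * φ) := by
  refine ⟨MulEquiv.ext fun x => ?_, fun x => ?_⟩
  · rw [conj_pow_apply, h.1, h.2]; simp
  · rw [nu_conj, h.2, h.2]; simp

theorem nu_of_fixed {φ : MulAut G} {x : G} (hx : φ x = x) (n : ℕ) : nu φ x n = x ^ n := by
  induction n with
  | zero => simp [nu_zero]
  | succ n ih => rw [nu_succ', ih, map_pow, hx, pow_succ']

theorem symm_mem [Finite G] {φ : MulAut G} {H : Subgroup G} (hH : ∀ x ∈ H, φ x ∈ H) {y : G}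
    (hy : y ∈ H) : ∃ h ∈ H, φ h = y := by
  have e : H.map φ.toMonoidHom = H := by
    refine Subgroup.eq_of_le_of_card_ge (by rintro _ ⟨x, hx, rfl⟩; exact hH x hx) ?_
    rw [Subgroup.card_map_of_injective φ.injective]
  rw [← e] at hy
  exact hy

theorem centralizer_mem [Finite G] {φ : MulAut G} {H : Subgroup G} (hH : ∀ x ∈ H, φ x ∈ H) {x : G}
    (hx : x ∈ Subgroup.centralizer (H : Set G)) : φ x ∈ Subgroup.centralizer (H : Set G) := by
  refine Subgroup.mem_centralizer_iff.mpr fun y hy => ?_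
  obtain ⟨h, hh, rfl⟩ := symm_mem hH hy
  rw [← map_mul, ← map_mul, Subgroup.mem_centralizer_iff.mp hx h hh]

theorem normalizer_mem [Finite G] {φ : MulAut G} {H : Subgroup G} (hH : ∀ x ∈ H, φ x ∈ H) {x : G}
    (hx : x ∈ Subgroup.normalizer (H : Set G)) : φ x ∈ Subgroup.normalizer (H : Set G) := by
  refine Subgroup.mem_normalizer_iff.mpr fun y => ⟨fun hy => ?_, fun hy => ?_⟩
  · obtain ⟨h, hh, rfl⟩ := symm_mem hH hy
    rw [← map_inv, ← map_mul, ← map_mul]
    exact hH _ ((Subgroup.mem_normalizer_iff.mp hx h).mp hh)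
  · obtain ⟨h, hh, e⟩ := symm_mem hH hy
    have : y = φ (x⁻¹ * h * x) := by rw [map_mul, map_mul, map_inv, e]; group
    rw [this]
    refine hH _ ((Subgroup.mem_normalizer_iff.mp hx _).mpr ?_)
    convert hh using 1; group

/-- The induction hypothesis. -/
def IH (p n : ℕ) : Prop :=
  ∀ (Y : Type u) [Group Y] [Finite Y] (ψ : MulAut Y), Nat.card Y < n → Spl p ψ →
    Group.IsNilpotent Y

variable [Finite G] {p : ℕ}

theorem IH.sub (ih : IH.{u} p (Nat.card G)) {φ : MulAut G} (h : Spl p φ) {H : Subgroup G}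
    (hH : ∀ x ∈ H, φ x ∈ H) (hne : H ≠ ⊤) : Group.IsNilpotent H := by
  obtain ⟨ψ, hψ, -⟩ := exists_restrict h hH
  refine ih H ψ ?_ hψ
  refine lt_of_not_ge fun hle => hne (Subgroup.eq_top_of_card_eq H ?_)
  exact le_antisymm (Nat.card_le_card_of_injective _ H.subtype_injective) hle

theorem IH.quot (ih : IH.{u} p (Nat.card G)) {φ : MulAut G} (h : Spl p φ) {N : Subgroup G}
    [N.Normal] (hN : ∀ x ∈ N, φ x ∈ N) (hne : N ≠ ⊥) : Group.IsNilpotent (G ⧸ N) := by
  obtain ⟨ψ, hψ, -⟩ := exists_quotient h hN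
  exact ih _ ψ (card_quotient_lt hne) hψ

theorem isSolvable_of_ih (hp : p.Prime) {φ : MulAut G} (h : Spl p φ) (ih : IH.{u} p (Nat.card G)) :
    Group.IsSolvable G := by
  by_cases hodd : ∃ q, q.Prime ∧ q ≠ 2 ∧ q ≠ p ∧ q ∣ Nat.card G
  swap
  · push Not at hodd
    have key : ∀ n : ℕ, n ≠ 0 → (∀ r : ℕ, r.Prime → r ∣ n → r = 2 ∨ r = p) →
        ∃ a b : ℕ, n = 2 ^ a * p ^ b := by
      intro n hn hr
      induction n using Nat.recOnPrimePow with
      | zero => exact absurd rfl hn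
      | one => exact ⟨0, 0, by simp⟩
      | prime_pow_mul m r k hr' hrm hk ihm =>
        obtain ⟨a, b, hab⟩ := ihm (fun hm => hn (by simp [hm]))
          fun s hs hsd => hr s hs (hsd.mul_left _)
        rcases hr r hr' ((dvd_pow_self r hk.ne').mul_right m) with rfl | rfl
        · exact ⟨k + a, b, by rw [hab, pow_add, mul_assoc]⟩
        · exact ⟨a, k + b, by rw [hab, pow_add]; ring⟩
    obtain ⟨a, b, hab⟩ := key _ Nat.card_pos.ne' fun r hr hd => by
      by_contra hc; push Not at hc; exact hodd r hr hc.1 hc.2 hd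
    exact Cfsg.Agent.S0144.result 2 p a b Nat.prime_two hp hab
  obtain ⟨q, hq, hq2, -, hqd⟩ := hodd
  haveI := Fact.mk hq
  obtain ⟨T⟩ : Nonempty (Sylow q G) := inferInstance
  have hTne : (T : Subgroup G) ≠ ⊥ := fun e => by
    have := T.not_dvd_index
    rw [e, Subgroup.index_bot] at this
    exact this hqd
  obtain ⟨g, hg⟩ := MulAction.exists_smul_eq G
    (T.comapOfInjective φ.symm.toMonoidHom φ.symm.injective (by
      rw [MonoidHom.range_eq_top.mpr φ.symm.surjective]; exact le_top)) T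
  obtain ⟨ψ, hψ, hψT⟩ : ∃ ψ : MulAut G, Spl p ψ ∧ ∀ x ∈ (T : Subgroup G), ψ x ∈ (T : Subgroup G) := by
    refine ⟨MulAut.conj g * φ, h.conj g, fun x hx => ?_⟩
    show g * φ x * g⁻¹ ∈ (T : Subgroup G)
    have e : MulAut.conj g • ((T : Subgroup G).comap φ.symm.toMonoidHom) = (T : Subgroup G) :=
      congrArg Sylow.toSubgroup hg
    rw [← e]
    have hx' : φ x ∈ (T : Subgroup G).comap φ.symm.toMonoidHom := by
      show φ.symm (φ x) ∈ (T : Subgroup G)
      rw [MulEquiv.symm_apply_apply]; exact hx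
    have := Subgroup.smul_mem_pointwise_smul (φ x) (MulAut.conj g) _ hx'
    simpa using this
  have hTψ : (T : Subgroup G).map ψ.toMonoidHom = T := by
    refine Subgroup.eq_of_le_of_card_ge (by rintro _ ⟨x, hx, rfl⟩; exact hψT x hx) ?_
    rw [Subgroup.card_map_of_injective ψ.injective]
  have hA : ∀ i : Bool, ∀ x ∈ Cfsg.inducedFunctor (thompsonFamily.{u} q i) (T : Subgroup G),
      ψ x ∈ Cfsg.inducedFunctor (thompsonFamily.{u} q i) (T : Subgroup G) := by
    intro i x hx
    have e := Invol.inducedFunctor_map (thompsonFamily_isCharPFunctor i) T.isPGroup' ψ.toMonoidHom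
      (fun y _ hy => ψ.injective (hy.trans (map_one ψ).symm))
    rw [hTψ] at e
    rw [e]; exact ⟨x, hx, rfl⟩
  have hsolv : ∀ N : Subgroup G, N.Normal → Group.IsSolvable N → N ≠ ⊥ →
      (∀ x ∈ N, ψ x ∈ N) → Group.IsSolvable G := fun N hN hs hne hinv =>
    (Group.isSolvable_iff_subgroup_quotient N).mpr
      ⟨hs, @IsNilpotent.to_isSolvable _ _ (ih.quot hψ hinv hne)⟩
  by_cases hnor : ∃ i : Bool, Subgroup.normalizer
      (Cfsg.inducedFunctor (thompsonFamily.{u} q i) (T : Subgroup G) : Set G) = ⊤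
  · obtain ⟨i, hi⟩ := hnor
    refine hsolv _ (Subgroup.normalizer_eq_top_iff.mp hi) ?_
      (Invol.inducedFunctor_ne_bot (thompsonFamily_isCharPFunctor i) T.isPGroup' hTne) (hA i)
    exact @IsNilpotent.to_isSolvable _ _ (T.isPGroup'.to_le (Invol.inducedFunctor_le _ _)).isNilpotent
  push Not at hnor
  have hproper : ∀ i : Bool, Cfsg.HasNormalPComplement q ↥(Subgroup.normalizer
      (Cfsg.inducedFunctor (thompsonFamily.{u} q i) (T : Subgroup G) : Set G)) := fun i =>
    hasNormalPComplement_of_nilpotent (ih.sub hψ (fun x hx => normalizer_mem (hA i) hx) (hnor i))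
  obtain ⟨M, hMn, hMd, k, hMi⟩ := Transfer.hasNormalPComplement_iff_exists.mp
    (hasNormalPComplement_of_thompson hq2 T (hproper false) (hproper true))
  have hMchar : M.Characteristic := by
    rw [Transfer.eq_pResidual hMd hMi]; exact Transfer.pResidual_characteristic q G
  have hMs : Group.IsSolvable M := @IsNilpotent.to_isSolvable _ _
    (ih.sub hψ (fun x hx => Subgroup.characteristic_iff_le_comap.mp hMchar ψ hx)
      (fun e => hMd (by rw [e, Subgroup.card_top]; exact hqd)))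
  have hq' : IsPGroup q (G ⧸ M) := IsPGroup.of_card (n := k) (by rw [← Subgroup.index_eq_card, hMi])
  exact (Group.isSolvable_iff_subgroup_quotient M).mpr
    ⟨hMs, @IsNilpotent.to_isSolvable _ _ hq'.isNilpotent⟩

theorem core_step (hp : p.Prime) {φ : MulAut G} (h : Spl p φ) (ih : IH.{u} p (Nat.card G)) :
    Group.IsNilpotent G := by
  classical
  have hsG := isSolvable_of_ih hp h ih
  rcases subsingleton_or_nontrivial G with hG | hG
  · infer_instance
  obtain ⟨V, ⟨hVn, hVne, hVinv⟩, hVmin⟩ := (Set.toFinite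
      {V : Subgroup G | V.Normal ∧ V ≠ ⊥ ∧ ∀ x ∈ V, φ x ∈ V}).exists_minimal
    ⟨⊤, inferInstance, (bot_lt_top : (⊥ : Subgroup G) < ⊤).ne', fun x _ => Subgroup.mem_top _⟩
  have hmin : ∀ W : Subgroup G, W.Normal → W ≠ ⊥ → (∀ x ∈ W, φ x ∈ W) → W ≤ V → W = V :=
    fun W h1 h2 h3 h4 => le_antisymm h4 (hVmin ⟨h1, h2, h3⟩ h4)
  -- `V` is abelian
  have hVab : ∀ a ∈ V, ∀ b ∈ V, a * b = b * a := by
    by_contra hab
    have hlt := Group.IsSolvable.commutator_lt_of_ne_bot hVne
    refine hlt.ne (hmin _ (Subgroup.commutator_normal V V) (fun e => hab fun a ha b hb => ?_) ?_ hlt.le)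
    · rw [← commutatorElement_eq_one_iff_mul_comm, ← Subgroup.mem_bot, ← e]
      exact Subgroup.commutator_mem_commutator ha hb
    · intro x hx
      have e : (⁅V, V⁆).map φ.toMonoidHom ≤ ⁅V, V⁆ := by
        rw [Subgroup.map_commutator]
        exact Subgroup.commutator_mono (by rintro _ ⟨y, hy, rfl⟩; exact hVinv y hy)
          (by rintro _ ⟨y, hy, rfl⟩; exact hVinv y hy)
      exact e ⟨x, hx, rfl⟩
  -- `V` has prime exponent
  obtain ⟨r, hr, hrd⟩ := Nat.exists_prime_and_dvd (n := Nat.card V) (fun e => hVne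
    (Subgroup.eq_bot_of_card_eq V e))
  haveI := Fact.mk hr
  let Ω : Subgroup G :=
    { carrier := {x | x ∈ V ∧ x ^ r = 1}
      mul_mem' := fun {a b} ha hb => ⟨mul_mem ha.1 hb.1, by
        rw [(show Commute a b from hVab a ha.1 b hb.1).mul_pow, ha.2, hb.2, one_mul]⟩
      one_mem' := ⟨one_mem _, one_pow _⟩
      inv_mem' := fun {a} ha => ⟨inv_mem ha.1, by rw [inv_pow, ha.2, inv_one]⟩ }
  have hΩ : Ω = V := by
    refine hmin Ω ⟨fun x hx g => ⟨hVn.conj_mem x hx.1 g, by rw [conj_pow, hx.2]; simp⟩⟩ (fun e => ?_)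
      (fun x hx => ⟨hVinv x hx.1, by rw [← map_pow, hx.2, map_one]⟩) fun x hx => hx.1
    obtain ⟨y, hy⟩ := exists_prime_orderOf_dvd_card' r hrd
    have hm : (y : G) ∈ Ω := ⟨y.2, by rw [← Subgroup.coe_pow, ← hy, pow_orderOf_eq_one]; rfl⟩
    rw [e, Subgroup.mem_bot, OneMemClass.coe_eq_one] at hm
    rw [hm, orderOf_one] at hy
    exact hr.one_lt.ne hy
  have hVp : IsPGroup r V := fun y => ⟨1, Subtype.ext (by
    have hyΩ : (y : G) ∈ Ω := hΩ.ge y.2
    simpa using hyΩ.2)⟩
  have hGV := ih.quot h hVinv hVne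
  by_cases hVc : V ≤ Subgroup.center G
  · haveI := hGV
    exact Subgroup.isNilpotent_of_ker_le_center (QuotientGroup.mk' V)
      (by rwa [QuotientGroup.ker_mk'])
  exfalso
  set C := Subgroup.centralizer (V : Set G)
  have hVC : V ≤ C := fun x hx => Subgroup.mem_centralizer_iff.mpr fun y hy => hVab y hy x hx
  have hCinv : ∀ x ∈ C, φ x ∈ C := fun x hx => centralizer_mem hVinv hx
  let π : G →* G ⧸ C := QuotientGroup.mk' C
  have hπs : Function.Surjective π := QuotientGroup.mk'_surjective C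
  obtain ⟨μ, hμ, hμφ⟩ := exists_quotient h hCinv
  have hπφ : ∀ y, π (φ y) = μ (π y) := fun y => (hμφ y).symm
  have hMnil : Group.IsNilpotent (G ⧸ C) :=
    Group.nilpotent_of_surjective (h := hGV)
      (QuotientGroup.map V C (MonoidHom.id G) (fun x hx => hVC hx)) (fun y => by
        obtain ⟨x, rfl⟩ := QuotientGroup.mk_surjective y
        exact ⟨(x : G ⧸ V), rfl⟩)
  -- centralizers in `V` of normal invariant subgroups not centralizing `V`
  have hcent : ∀ R : Subgroup G, R.Normal → (∀ x ∈ R, φ x ∈ R) →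
      V ⊓ Subgroup.centralizer (R : Set G) ≠ ⊥ → R ≤ C := by
    intro R hR hRi hne x hx
    have e := hmin _ inferInstance hne
      (fun y hy => ⟨hVinv y hy.1, centralizer_mem hRi hy.2⟩) inf_le_left
    refine Subgroup.mem_centralizer_iff.mpr fun v hv => ?_
    exact (Subgroup.mem_centralizer_iff.mp (e.ge hv).2 x hx).symm
  -- `G ⧸ C` has order prime to `r`
  have hrM : ¬ r ∣ Nat.card (G ⧸ C) := by
    obtain ⟨S⟩ : Nonempty (Sylow r G) := inferInstance
    have hVS : V ≤ S := by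
      obtain ⟨T, hT⟩ := hVp.exists_le_sylow
      obtain ⟨g, hg⟩ := MulAction.exists_smul_eq G T S
      intro v hv
      rw [← hg]
      show v ∈ MulAut.conj g • (T : Subgroup G)
      have hv' : g⁻¹ * v * g ∈ (T : Subgroup G) := hT (by
        simpa using hVn.conj_mem v hv g⁻¹)
      have := Subgroup.smul_mem_pointwise_smul _ (MulAut.conj g) _ hv'
      simpa [mul_assoc] using this
    set R := (Sylow.mapSurjective hπs S : Sylow r (G ⧸ C))
    have hRn : (R : Subgroup (G ⧸ C)).Normal :=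
      isNilpotent_iff_sylow_normal.mp hMnil r inferInstance R
    have hRc : (R : Subgroup (G ⧸ C)).Characteristic := R.characteristic_of_normal hRn
    have hRt : (R : Subgroup (G ⧸ C)).comap π ≤ C := by
      refine hcent _ inferInstance (fun x hx => ?_) ?_
      · show π (φ x) ∈ (R : Subgroup (G ⧸ C))
        rw [hπφ]; exact Subgroup.characteristic_iff_le_comap.mp hRc μ hx
      haveI : Group.IsNilpotent (S : Subgroup G) := S.isPGroup'.isNilpotent
      have hne := inf_center_ne_bot (V.subgroupOf S) (fun e => hVne (by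
        rw [← Subgroup.map_subgroupOf_eq_of_le hVS, e, Subgroup.map_bot]))
      obtain ⟨y, hy, hy1⟩ := (Subgroup.bot_or_exists_ne_one _).resolve_left hne
      intro e
      apply hy1
      refine Subtype.ext (Subgroup.mem_bot.mp (e ▸ (⟨hy.1, ?_⟩ :
        (y : G) ∈ V ⊓ Subgroup.centralizer (((R : Subgroup (G ⧸ C)).comap π : Subgroup G) : Set G))))
      refine Subgroup.mem_centralizer_iff.mpr fun x hx => ?_
      have hx' : π x ∈ ((S : Subgroup G).map π) := hx
      obtain ⟨s, hs, es⟩ := hx'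
      have hc : s⁻¹ * x ∈ C := QuotientGroup.eq.mp es
      have h1 : s * (y : G) = (y : G) * s :=
        congrArg Subtype.val (Subgroup.mem_center_iff.mp hy.2 ⟨s, hs⟩)
      have h2 : (y : G) * (s⁻¹ * x) = s⁻¹ * x * y := Subgroup.mem_centralizer_iff.mp hc y hy.1
      calc x * (y : G) = s * ((s⁻¹ * x) * y) := by group
        _ = s * (y : G) * (s⁻¹ * x) := by rw [← h2, mul_assoc]
        _ = (y : G) * x := by rw [h1]; group
    intro hd
    have hbot : (R : Subgroup (G ⧸ C)) = ⊥ := by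
      refine le_bot_iff.mp fun y hy => ?_
      obtain ⟨x, rfl⟩ := hπs y
      exact (QuotientGroup.eq_one_iff x).mpr (hRt hy)
    have := R.not_dvd_index
    rw [hbot, Subgroup.index_bot] at this
    exact this hd
  -- the center of `G ⧸ C`
  have hMnt : Nontrivial (G ⧸ C) := by
    refine QuotientGroup.nontrivial_iff.mpr fun e => hVc fun v hv => Subgroup.mem_center_iff.mpr ?_
    intro g
    exact (Subgroup.mem_centralizer_iff.mp ((e ▸ Subgroup.mem_top g : g ∈ C)) v hv).symm
  set Z := Subgroup.center (G ⧸ C)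
  have hZne : Z ≠ ⊥ := by
    haveI := hMnil
    simpa using inf_center_ne_bot (⊤ : Subgroup (G ⧸ C)) (bot_lt_top).ne'
  have hZinv : ∀ z ∈ Z, μ z ∈ Z := fun z hz =>
    Subgroup.characteristic_iff_le_comap.mp (inferInstance : Z.Characteristic) μ hz
  have hnuZ : ∀ z ∈ Z, ∀ n, nu μ z n ∈ Z := by
    intro z hz n
    induction n with
    | zero => exact one_mem _
    | succ n hn => rw [nu_succ']; exact mul_mem hz (hZinv _ hn)
  have hcomm : ∀ z ∈ Z, ∀ w : G ⧸ C, Commute z w := fun z hz w =>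
    (Subgroup.mem_center_iff.mp hz w).symm
  have hnu_mul : ∀ a ∈ Z, ∀ b ∈ Z, ∀ n, nu μ (a * b) n = nu μ a n * nu μ b n := by
    intro a ha b hb n
    induction n with
    | zero => simp [nu_zero]
    | succ n hn =>
      rw [nu_succ', nu_succ', nu_succ', hn, map_mul]
      simp only [mul_assoc]
      rw [(hcomm _ (hZinv _ (hnuZ a ha n)) _).left_comm]
  have hnu1 : ∀ z ∈ Z, ∀ i, 0 < i → i < p → nu μ z i = 1 → z = 1 := by
    intro z hz i hi0 hip e
    have e1 : (μ ^ i) z = z := by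
      have := nu_succ' μ z i
      rw [nu_succ, e, one_mul, map_one, mul_one] at this
      exact this
    have hcop : Nat.Coprime i p := ((hp.coprime_iff_not_dvd.mpr (Nat.not_dvd_of_pos_of_lt hi0 hip))).symm
    have hfix : μ z = z := by
      have h1 : μ ^ i ∈ MulAction.stabilizer (MulAut (G ⧸ C)) z := e1
      obtain ⟨m, hm⟩ := exists_pow_eq_self_of_coprime (x := μ)
        (n := i) (hcop.coprime_dvd_right (orderOf_dvd_of_pow_eq_one hμ.1))
      have := pow_mem h1 m
      rw [hm] at this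
      exact this
    rw [nu_of_fixed hfix] at e
    have e2 : z ^ p = 1 := by rw [← nu_of_fixed hfix]; exact hμ.2 z
    exact orderOf_eq_one_iff.mp (Nat.eq_one_of_dvd_coprimes hcop (orderOf_dvd_of_pow_eq_one e)
      (orderOf_dvd_of_pow_eq_one e2))
  -- the action on `V`
  letI : CommGroup V := { (inferInstance : Group V) with
    mul_comm := fun a b => Subtype.ext (hVab a a.2 b b.2) }
  haveI : V.Normal := hVn
  let act : G ⧸ C →* MulAut V := QuotientGroup.lift C MulAut.conjNormal fun c hc => by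
    refine MonoidHom.mem_ker.mpr (MulEquiv.ext fun v => Subtype.ext ?_)
    rw [MulAut.conjNormal_apply]
    show c * (v : G) * c⁻¹ = v
    rw [← Subgroup.mem_centralizer_iff.mp hc v v.2, mul_inv_cancel_right]
  obtain ⟨ν, -, hνφ⟩ := exists_restrict h hVinv
  have hident : ∀ (z : G ⧸ C) (v : V),
      ∏ i ∈ Finset.range p, act (nu μ z i) ((ν ^ i) v) = 1 := by
    intro z v
    obtain ⟨g, rfl⟩ := hπs z
    have key : ∀ n, ((∏ i ∈ Finset.range n, act (nu μ (π g) i) ((ν ^ i) v) : V) : G) =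
        nu (MulAut.conj g * φ) (v : G) n := by
      intro n
      induction n with
      | zero => rfl
      | succ n hn =>
        rw [Finset.prod_range_succ, nu_succ, Subgroup.coe_mul, hn, conj_pow_apply,
          ← map_nu φ μ π hπφ]
        congr 1
        show ((MulAut.conjNormal (nu φ g n) ((ν ^ n) v) : V) : G) = _
        rw [MulAut.conjNormal_apply, show (((ν ^ n) v : V) : G) = (φ ^ n) v from
          pow_comm_hom ν φ V.subtype hνφ n v]
    exact Subtype.ext ((key p).trans ((h.conj g).2 v))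
  haveI := Fintype.ofFinite Z
  have hTfix : ∀ (u : V) (w : Z), act w (∏ z : Z, act z u) = ∏ z : Z, act z u := by
    intro u w
    rw [map_prod]
    refine Fintype.prod_equiv (Equiv.mulLeft w) _ _ fun z => ?_
    rw [← MulAut.mul_apply, ← map_mul]; rfl
  have hT1 : ∀ u : V, ∏ z : Z, act z u = 1 := by
    intro u
    by_contra hne
    refine hZne (le_bot_iff.mp fun y hy => ?_)
    obtain ⟨x, rfl⟩ := hπs y
    refine (QuotientGroup.eq_one_iff x).mpr ?_
    refine hcent (Z.comap π) inferInstance (fun x hx => ?_) (fun e => hne ?_) hy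
    · show π (φ x) ∈ Z
      rw [hπφ]; exact hZinv _ hx
    refine Subtype.ext (Subgroup.mem_bot.mp (e ▸ ⟨Subtype.coe_prop _, ?_⟩))
    refine Subgroup.mem_centralizer_iff.mpr fun x hx => ?_
    have h2 := congrArg Subtype.val (hTfix u ⟨π x, hx⟩)
    rw [show act ((⟨π x, hx⟩ : Z) : G ⧸ C) = MulAut.conjNormal x from rfl,
      MulAut.conjNormal_apply] at h2
    exact mul_inv_eq_iff_eq_mul.mp h2
  obtain ⟨v, hv, hv1⟩ := (Subgroup.bot_or_exists_ne_one V).resolve_left hVne
  apply hv1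
  have hsum : ∏ i ∈ Finset.range p, ∏ z : Z, act (nu μ (z : G ⧸ C) i) ((ν ^ i) ⟨v, hv⟩) = 1 := by
    rw [Finset.prod_comm]
    exact Finset.prod_eq_one fun z _ => hident _ _
  rw [Finset.prod_eq_single_of_mem 0 (Finset.mem_range.mpr hp.pos)] at hsum
  · simp only [nu_zero, map_one, MulAut.one_apply, pow_zero, Finset.prod_const,
      Finset.card_univ, ← Nat.card_eq_fintype_card] at hsum
    obtain ⟨k, hk⟩ := hVp ⟨v, hv⟩
    have hcop : Nat.Coprime (r ^ k) (Nat.card Z) := ((hr.coprime_iff_not_dvd.mpr fun hd =>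
      hrM (hd.trans (Subgroup.card_subgroup_dvd_card Z)))).pow_left k
    exact congrArg Subtype.val (orderOf_eq_one_iff.mp (Nat.eq_one_of_dvd_coprimes hcop
      (orderOf_dvd_of_pow_eq_one hk) (orderOf_dvd_of_pow_eq_one hsum)))
  · intro i hi hi0
    rw [← hT1 ((ν ^ i) ⟨v, hv⟩)]
    let f : Z → Z := fun z => ⟨nu μ (z : G ⧸ C) i, hnuZ _ z.2 i⟩
    have hfinj : Function.Injective f := by
      intro a b e
      have e' : nu μ (a : G ⧸ C) i = nu μ (b : G ⧸ C) i := congrArg Subtype.val e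
      have h3 : nu μ ((a : G ⧸ C) * (b : G ⧸ C)⁻¹) i * nu μ (b : G ⧸ C) i = nu μ (a : G ⧸ C) i := by
        rw [← hnu_mul _ (mul_mem a.2 (inv_mem b.2)) _ b.2, inv_mul_cancel_right]
      rw [e', mul_eq_right] at h3
      exact Subtype.ext (mul_inv_eq_one.mp (hnu1 _ (mul_mem a.2 (inv_mem b.2)) i
        (Nat.pos_of_ne_zero hi0) (Finset.mem_range.mp hi) h3))
    exact Fintype.prod_equiv (Equiv.ofBijective f ⟨hfinj, Finite.injective_iff_surjective.mp hfinj⟩)
      _ _ fun z => rfl

theorem isNilpotent_of_spl (hp : p.Prime) : ∀ (n : ℕ) (G : Type u) [Group G] [Finite G]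
    (φ : MulAut G), Nat.card G = n → Spl p φ → Group.IsNilpotent G := by
  intro n
  induction n using Nat.strong_induction_on with
  | _ n ih =>
    intro G _ _ φ hn h
    exact core_step hp h fun Y _ _ ψ hlt hψ => ih _ (hn ▸ hlt) Y ψ rfl hψ

end Cfsg.Agent.Grp.Splitting
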