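import Mathlib
import Cfsg.Prelude.Def_Balance
import Cfsg.Agent.Lib.Grp.Components
import Cfsg.Agent.Lib.Grp.Quasisimple
import Cfsg.Agent.Lib.Grp.ConjSylow
import Cfsg.Agent.Lib.Invol.BrauerSuzuki
import Cfsg.Agent.Lib.Block.QuaternionSylow

/-!
Terminal components of involution centralizers are standard, and give classical involutions when
they have 2-rank one.
-/

set_option autoImplicit false

namespace Cfsg.Agent.Grp

open Subgroup

universe u

variable {G : Type u} [Group G] [Finite G]

theorem map_conj_map_inv (L : Subgroup G) (g : G) :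
    (L.map (MulAut.conj g).toMonoidHom).map (MulAut.conj g⁻¹).toMonoidHom = L := by
  rw [Subgroup.map_map]
  convert Subgroup.map_id L using 2
  ext x; simp [mul_assoc]

theorem isStandard_of_terminal (x : G) (hx : orderOf x = 2) (L : Subgroup G)
    (hLx : L ≤ centralizer ({x} : Set G)) (hL : Cfsg.IsComponent (L.subgroupOf (centralizer ({x} : Set G))))
    (hne : ∀ y : G, orderOf y = 2 → y ∈ centralizer (L : Set G) →
      L ≤ centralizer ({y} : Set G) ∧ Cfsg.IsComponent (L.subgroupOf (centralizer ({y} : Set G))))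
    (hnc : ∀ g : G, L.map (MulAut.conj g).toMonoidHom ≠ L →
      ⁅L, L.map (MulAut.conj g).toMonoidHom⁆ ≠ ⊥) : Cfsg.IsStandardSubgroup L := by
  haveI : Fact (Nat.Prime 2) := ⟨Nat.prime_two⟩
  have hxL : x ∈ centralizer (L : Set G) := Subgroup.mem_centralizer_iff.mpr fun l hl =>
    Subgroup.mem_centralizer_singleton_iff.mp (hLx hl)
  -- an involution centralizing `L` and `L^g` forces `L^g = L`
  have key : ∀ g y : G, orderOf y = 2 → y ∈ centralizer (L : Set G) →
      g⁻¹ * y * g ∈ centralizer (L : Set G) → L.map (MulAut.conj g).toMonoidHom = L := by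
    intro g y hy hyL hyg
    by_contra hne'
    set C := centralizer ({y} : Set G) with hC
    obtain ⟨hLy, hLc⟩ := hne y hy hyL
    have hy' : orderOf (g⁻¹ * y * g) = 2 := by
      rw [← hy]; simpa using (MulEquiv.orderOf_eq (MulAut.conj g⁻¹) y)
    obtain ⟨hLy', hLc'⟩ := hne _ hy' hyg
    set C' := centralizer ({g⁻¹ * y * g} : Set G) with hC'
    have hCC : C'.map (MulAut.conj g).toMonoidHom = C := by
      ext z
      constructor
      · rintro ⟨w, hw, rfl⟩
        rw [SetLike.mem_coe, hC', Subgroup.mem_centralizer_singleton_iff] at hw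
        rw [hC, Subgroup.mem_centralizer_singleton_iff]
        simp only [MulEquiv.coe_toMonoidHom, MulAut.conj_apply]
        calc g * w * g⁻¹ * y = g * (w * (g⁻¹ * y * g)) * g⁻¹ := by group
          _ = g * ((g⁻¹ * y * g) * w) * g⁻¹ := by rw [hw]
          _ = y * (g * w * g⁻¹) := by group
      · intro hz
        refine ⟨g⁻¹ * z * g, ?_, by simp [mul_assoc]⟩
        rw [hC, Subgroup.mem_centralizer_singleton_iff] at hz
        rw [SetLike.mem_coe, hC', Subgroup.mem_centralizer_singleton_iff]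
        calc g⁻¹ * z * g * (g⁻¹ * y * g) = g⁻¹ * (z * y) * g := by group
          _ = g⁻¹ * (y * z) * g := by rw [hz]
          _ = g⁻¹ * y * g * (g⁻¹ * z * g) := by group
    let e : ↥C' ≃* ↥C := ((MulAut.conj g).subgroupMap C').trans (MulEquiv.subgroupCongr hCC)
    have hMle : L.map (MulAut.conj g).toMonoidHom ≤ C := (Subgroup.map_mono hLy').trans hCC.le
    have himg : (L.subgroupOf C').map e.toMonoidHom = (L.map (MulAut.conj g).toMonoidHom).subgroupOf C := by
      ext z
      constructor
      · rintro ⟨w, hw, rfl⟩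
        exact ⟨w, hw, rfl⟩
      · rintro ⟨w, hw, hwz⟩
        exact ⟨⟨w, hLy' hw⟩, hw, Subtype.ext hwz⟩
    have hMc : Cfsg.IsComponent ((L.map (MulAut.conj g).toMonoidHom).subgroupOf C) :=
      himg ▸ IsComponent.map_iso e hLc'
    have hdiff : L.subgroupOf C ≠ (L.map (MulAut.conj g).toMonoidHom).subgroupOf C := fun e' => by
      rw [Subgroup.subgroupOf_inj, inf_eq_left.mpr hLy, inf_eq_left.mpr hMle] at e'
      exact hne' e'.symm
    have hcomm := IsComponent.commute hLc hMc hdiff
    refine hnc g hne' (Subgroup.commutator_eq_bot_iff_le_centralizer.mpr fun l hl => ?_)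
    rw [Subgroup.mem_centralizer_iff]
    intro m hm
    exact congrArg Subtype.val (Subgroup.mem_centralizer_iff.mp
      (hcomm (show (⟨l, hLy hl⟩ : ↥C) ∈ L.subgroupOf C from mem_subgroupOf.mpr hl))
      ⟨m, hMle hm⟩ (mem_subgroupOf.mpr hm))
  have hmem : ∀ g : G, L.map (MulAut.conj g).toMonoidHom = L → g ∈ normalizer (L : Set G) := by
    intro g hg
    have hg' : L.map (MulAut.conj g⁻¹).toMonoidHom = L := by
      conv_lhs => rw [← hg]
      exact map_conj_map_inv L g
    rw [mem_normalizer_iff]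
    refine fun z => ⟨fun hz => hg.le ⟨z, hz, rfl⟩, fun hz => ?_⟩
    simpa [mul_assoc] using hg'.le ⟨_, hz, rfl⟩
  have hNC : normalizer (L : Set G) ≤ normalizer (centralizer (L : Set G) : Set G) := by
    have h : ∀ g ∈ normalizer (L : Set G), ∀ c ∈ centralizer (L : Set G), g * c * g⁻¹ ∈ centralizer (L : Set G) := by
      intro g hg c hc
      rw [Subgroup.mem_centralizer_iff]
      intro l hl
      have hl' : g⁻¹ * l * g ∈ L := by
        have := (mem_normalizer_iff.mp ((normalizer (L : Set G)).inv_mem hg) l).mp hl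
        simpa using this
      have h2 := Subgroup.mem_centralizer_iff.mp hc _ hl'
      calc l * (g * c * g⁻¹) = g * ((g⁻¹ * l * g) * c) * g⁻¹ := by group
        _ = g * (c * (g⁻¹ * l * g)) * g⁻¹ := by rw [h2]
        _ = g * c * g⁻¹ * l := by group
    intro g hg
    rw [mem_normalizer_iff]
    refine fun c => ⟨h g hg c, fun hc => ?_⟩
    have := h g⁻¹ ((normalizer (L : Set G)).inv_mem hg) _ hc
    simpa [mul_assoc] using this
  refine ⟨(isQuasisimple_subgroupOf_iff hLx).mp hL.2, ⟨?_, fun g hg => ?_⟩, hnc, le_antisymm hNC ?_⟩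
  · rw [even_iff_two_dvd, ← hx]
    exact Subgroup.orderOf_dvd_natCard _ hxL
  · rw [← Nat.not_even_iff_odd, even_iff_two_dvd]
    intro hdvd
    obtain ⟨⟨y, hy1, hy2⟩, hyo⟩ := exists_prime_orderOf_dvd_card' 2 hdvd
    rw [← Subgroup.orderOf_coe] at hyo
    obtain ⟨w, hw, hwy⟩ := hy2
    refine hg (hNC (hmem g (key g y hyo hy1 ?_)))
    rw [← hwy]
    simpa [mul_assoc] using hw
  · intro g hg
    refine hmem g (key g x hx hxL ?_)
    have := (mem_normalizer_iff.mp ((normalizer (centralizer (L : Set G) : Set G)).inv_mem hg) x).mp hxL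
    simpa using this

theorem classical_of_terminal_rank_one (x : G) (L : Subgroup G)
    (hLx : L ≤ centralizer ({x} : Set G)) (hL : Cfsg.IsComponent (L.subgroupOf (centralizer ({x} : Set G))))
    (heven : Even (Nat.card ↥L)) (hrk : Cfsg.PRankLE 2 1 ↥L)
    (hne : ∀ y : G, orderOf y = 2 → y ∈ centralizer (L : Set G) →
      L ≤ centralizer ({y} : Set G) ∧ Cfsg.IsComponent (L.subgroupOf (centralizer ({y} : Set G)))) :
    ∃ t ∈ L, Cfsg.IsClassicalInvolution t := by
  haveI : Fact (Nat.Prime 2) := ⟨Nat.prime_two⟩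
  have hq : Cfsg.IsQuasisimple ↥L := (isQuasisimple_subgroupOf_iff hLx).mp hL.2
  have hK4 : ∀ E : Subgroup ↥L, ¬ IsKleinFour E := by
    intro E hE
    have h1 := hrk E ⟨⟨ConjSylow.comm_of_exp_two fun a => by rw [← hE.exponent_two]; exact Monoid.pow_exponent_eq_one a⟩⟩ (fun a ha => by
      have h := Monoid.pow_exponent_eq_one (⟨a, ha⟩ : E)
      rw [hE.exponent_two] at h
      simpa using congrArg Subtype.val h)
    rw [hE.card_four] at h1
    omega
  have hT := Cfsg.Agent.BS.twoRankOne_of_no_klein hK4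
  obtain ⟨z, hz⟩ := exists_prime_orderOf_dvd_card' 2 (even_iff_two_dvd.mp heven)
  -- the involution is central
  obtain ⟨N, hN, hNodd, hzN⟩ := Cfsg.Agent.BS.exists_odd_normal hT hz
  have hNc : N ≤ Subgroup.center ↥L := by
    refine (IsQuasisimple.eq_top_or_le_center hq N).resolve_left fun h => ?_
    rw [h, Subgroup.card_top] at hNodd
    exact (Nat.not_even_iff_odd.mpr hNodd) heven
  have hzc : z ∈ Subgroup.center ↥L := by
    let f : ↥L →* ↥(Subgroup.center ↥L) :=
      { toFun := fun g => ⟨z * g * z⁻¹ * g⁻¹, hNc (hzN g)⟩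
        map_one' := Subtype.ext (by simp)
        map_mul' := fun g h => by
          refine Subtype.ext ?_
          have hc := Subgroup.mem_center_iff.mp (hNc (hzN h)) g
          calc z * (g * h) * z⁻¹ * (g * h)⁻¹ = z * g * z⁻¹ * ((z * h * z⁻¹ * h⁻¹) * g⁻¹) := by group
            _ = z * g * z⁻¹ * (g⁻¹ * (g * (z * h * z⁻¹ * h⁻¹)) * g⁻¹) := by group
            _ = (z * g * z⁻¹ * g⁻¹) * (z * h * z⁻¹ * h⁻¹) := by rw [hc]; group }
    have hker : f.ker = ⊤ := by
      refine top_le_iff.mp ?_
      rw [← hq.1.commutator_eq_top, commutator_def]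
      rw [Subgroup.commutator_le]
      intro a _ b _
      rw [MonoidHom.mem_ker, map_commutatorElement, commutatorElement_eq_one_iff_mul_comm]
      exact Subtype.ext (Subgroup.mem_center_iff.mp (f a).2 (f b : ↥L)).symm
    rw [Subgroup.mem_center_iff]
    intro g
    have hg : g ∈ f.ker := hker ▸ Subgroup.mem_top g
    have h1 : z * g * z⁻¹ * g⁻¹ = 1 := congrArg Subtype.val hg
    exact (mul_inv_eq_iff_eq_mul.mp (mul_inv_eq_one.mp h1)).symm
  have hzo : orderOf (z : G) = 2 := by rwa [Subgroup.orderOf_coe]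
  have hzL : (z : G) ∈ centralizer (L : Set G) := Subgroup.mem_centralizer_iff.mpr fun l hl =>
    congrArg Subtype.val (Subgroup.mem_center_iff.mp hzc ⟨l, hl⟩)
  obtain ⟨hLz, hLzc⟩ := hne _ hzo hzL
  refine ⟨z, z.2, hzo, L, hLz, z.2, hLzc.1, ?_⟩
  obtain ⟨S⟩ : Nonempty (Sylow 2 ↥L) := inferInstance
  by_cases hc : IsCyclic (S : Subgroup ↥L)
  · exfalso
    obtain ⟨K, hK, hKodd, hKi⟩ := Cfsg.Agent.Block.cyclic_two_complement S hc
    have hKc : K ≤ Subgroup.center ↥L := by
      refine (IsQuasisimple.eq_top_or_le_center hq K).resolve_left fun h => ?_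
      rw [h, Subgroup.card_top] at hKodd
      exact hKodd (even_iff_two_dvd.mp heven)
    refine IsQuasisimple.not_isSolvable hq ?_
    have h1 : Group.IsNilpotent (↥L ⧸ K) := by
      obtain ⟨m, hm⟩ := S.isPGroup'.exists_card_eq
      exact (IsPGroup.of_card (n := m) (by rw [← Subgroup.index_eq_card, hKi, hm])).isNilpotent
    have h2 : Group.IsNilpotent ↥L :=
      Subgroup.isNilpotent_of_ker_le_center (QuotientGroup.mk' K) (by rw [QuotientGroup.ker_mk']; exact hKc)
    infer_instance
  · rcases ConjSylow.exists_square S.isPGroup' hc with ⟨E, hE, hEc⟩ | ⟨-, n, hn⟩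
    · exfalso
      have h1 := hrk (E.map (S : Subgroup ↥L).subtype) (by
        have := hE.1; infer_instance) (by
        rintro _ ⟨a, ha, rfl⟩
        rw [← map_pow, hE.2 a ha, map_one])
      rw [Subgroup.card_map_of_injective (S : Subgroup ↥L).subtype_injective, hEc] at h1
      omega
    · exact ⟨S, n, hn⟩

end Cfsg.Agent.Grp
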