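import Mathlib
import Cfsg.Agent.Lib.Grp.Components
import Cfsg.Agent.Lib.Classical.SLGroup

/-!
The layer of the centralizer of an involution of `SL_{m+1}(q)`, `q` odd, is standard.
-/

set_option autoImplicit false

namespace Cfsg.Agent.Grp.StandardSL

open Matrix

variable {F : Type*} [Field F] [Fintype F] [DecidableEq F] {m : ℕ}

/-- Block matrices as matrices of size `m + 1`. -/
noncomputable def R : Matrix (Fin m ⊕ Fin 1) (Fin m ⊕ Fin 1) F ≃ₐ[F] Matrix (Fin (m + 1)) (Fin (m + 1)) F :=
  Matrix.reindexAlgEquiv F F finSumFinEquiv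

theorem det_R (X : Matrix (Fin m ⊕ Fin 1) (Fin m ⊕ Fin 1) F) : (R X).det = X.det :=
  Matrix.det_reindex_self _ X

theorem exists_blocks (g : (Matrix.SpecialLinearGroup (Fin (m + 1)) F)) : ∃ (a : Matrix (Fin m) (Fin m) F) (b : Matrix (Fin m) (Fin 1) F)
    (c : Matrix (Fin 1) (Fin m) F) (d : Matrix (Fin 1) (Fin 1) F),
    (g : Matrix (Fin (m + 1)) (Fin (m + 1)) F) = R (fromBlocks a b c d) :=
  ⟨_, _, _, _, by rw [fromBlocks_toBlocks (R.symm (g : Matrix (Fin (m + 1)) (Fin (m + 1)) F)),
    AlgEquiv.apply_symm_apply]⟩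

/-- The embedding of `SL_m`. -/
noncomputable def ε : (Matrix.SpecialLinearGroup (Fin m) F) →* (Matrix.SpecialLinearGroup (Fin (m + 1)) F) where
  toFun A := ⟨R (fromBlocks (A : Matrix (Fin m) (Fin m) F) 0 0 1), by
    rw [det_R, Matrix.det_fromBlocks_zero₂₁, A.2, Matrix.det_one, one_mul]⟩
  map_one' := Subtype.ext (by simp [fromBlocks_one])
  map_mul' A B := Subtype.ext (by
    show R (fromBlocks ((A : Matrix (Fin m) (Fin m) F) * (B : Matrix (Fin m) (Fin m) F)) 0 0 1) =
      R (fromBlocks (A : Matrix (Fin m) (Fin m) F) 0 0 1) *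
        R (fromBlocks (B : Matrix (Fin m) (Fin m) F) 0 0 1)
    rw [← map_mul, fromBlocks_multiply]
    simp)

theorem coe_ε (A : (Matrix.SpecialLinearGroup (Fin m) F)) : ((ε A : (Matrix.SpecialLinearGroup (Fin (m + 1)) F)) : Matrix (Fin (m + 1)) (Fin (m + 1)) F) =
    R (fromBlocks (A : Matrix (Fin m) (Fin m) F) 0 0 1) := rfl

theorem ε_injective : Function.Injective (ε (F := F) (m := m)) := fun A B h => by
  have h1 := R.injective (congrArg Subtype.val h : _)
  exact Subtype.ext (fromBlocks_inj.1 h1).1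

theorem mem_normalizer_map {X : Type*} [Group X] (H : Subgroup X) (N : Subgroup H) [N.Normal]
    {g : X} (hg : g ∈ H) : g ∈ Subgroup.normalizer ((N.map H.subtype : Subgroup X) : Set X) := by
  rw [Subgroup.mem_normalizer_iff]
  intro x
  constructor
  · rintro ⟨y, hy, rfl⟩
    exact ⟨⟨g, hg⟩ * y * ⟨g, hg⟩⁻¹, Subgroup.Normal.conj_mem inferInstance y hy _, rfl⟩
  · rintro ⟨y, hy, hyx⟩
    refine ⟨⟨g, hg⟩⁻¹ * y * ⟨g, hg⟩, by
      simpa using Subgroup.Normal.conj_mem inferInstance y hy (⟨g, hg⟩⁻¹ : H), ?_⟩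
    show g⁻¹ * (y : X) * g = x
    rw [show (y : X) = g * x * g⁻¹ from hyx]
    group

variable (t : (Matrix.SpecialLinearGroup (Fin (m + 1)) F)) (ht : (t : Matrix (Fin (m + 1)) (Fin (m + 1)) F) =
  R (fromBlocks (-1) 0 0 1)) (h2 : (2 : F) ≠ 0)

theorem isQuasisimple_range (hm : 3 ≤ m) : Cfsg.IsQuasisimple (ε (F := F) (m := m)).range := by
  rw [← isQuasisimple_congr (MonoidHom.ofInjective (ε_injective (F := F) (m := m)))]
  refine ⟨⟨Cfsg.Agent.Classical.SL_commutator_eq_top_of_three_le (by simpa using hm)⟩, ?_⟩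
  haveI : Nontrivial (Fin m) := Fin.nontrivial_iff_two_le.2 (by omega)
  exact Cfsg.Agent.Classical.PSL_simple_of_three_le (by simpa using hm)

include ht h2 in
theorem blocks_of_mem_centralizer {g : (Matrix.SpecialLinearGroup (Fin (m + 1)) F)} (hg : g ∈ Subgroup.centralizer ({t} : Set (Matrix.SpecialLinearGroup (Fin (m + 1)) F))) :
    ∃ (a : Matrix (Fin m) (Fin m) F) (d : F),
      (g : Matrix (Fin (m + 1)) (Fin (m + 1)) F) = R (fromBlocks a 0 0 (scalar (Fin 1) d)) := by
  obtain ⟨a, b, c, d, hgb⟩ := exists_blocks g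
  have h := congrArg Subtype.val (Subgroup.mem_centralizer_singleton_iff.1 hg : g * t = t * g)
  simp only [Matrix.SpecialLinearGroup.coe_mul, hgb, ht, ← map_mul, fromBlocks_multiply] at h
  have h' := fromBlocks_inj.1 (R.injective h)
  simp only [Matrix.mul_zero, zero_add, Matrix.mul_one, Matrix.zero_mul,
    add_zero, Matrix.mul_neg, Matrix.neg_mul, Matrix.one_mul] at h'
  have hb : b = 0 := by
    ext i j
    have := congrFun (congrFun h'.2.1 i) j
    rw [Matrix.neg_apply] at this
    have h3 : (2 : F) * b i j = 0 := by linear_combination this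
    simpa [h2] using h3
  have hc : c = 0 := by
    ext i j
    have := congrFun (congrFun h'.2.2.1 i) j
    rw [Matrix.neg_apply] at this
    have h3 : (2 : F) * c i j = 0 := by linear_combination -this
    simpa [h2] using h3
  refine ⟨a, d 0 0, ?_⟩
  rw [hgb, hb, hc]
  congr 2
  ext i j
  simp [Subsingleton.elim i 0, Subsingleton.elim j 0]

/-- The last diagonal entry. -/
noncomputable def δ : Subgroup.centralizer ({t} : Set (Matrix.SpecialLinearGroup (Fin (m + 1)) F)) → F :=
  fun g => R.symm ((g : (Matrix.SpecialLinearGroup (Fin (m + 1)) F)) : Matrix (Fin (m + 1)) (Fin (m + 1)) F) (Sum.inr 0) (Sum.inr 0)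

include ht h2 in
theorem δ_mul (g h : Subgroup.centralizer ({t} : Set (Matrix.SpecialLinearGroup (Fin (m + 1)) F))) : δ t (g * h) = δ t g * δ t h := by
  obtain ⟨a, d, hg⟩ := blocks_of_mem_centralizer t ht h2 g.2
  obtain ⟨a', d', hh⟩ := blocks_of_mem_centralizer t ht h2 h.2
  simp [δ, hg, hh, fromBlocks_multiply]

include ht h2 in
/-- The last diagonal entry as a homomorphism. -/
noncomputable def δHom : Subgroup.centralizer ({t} : Set (Matrix.SpecialLinearGroup (Fin (m + 1)) F)) →* F where
  toFun := δ t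
  map_one' := by simp [δ]
  map_mul' := δ_mul t ht h2

include ht h2 in
theorem ker_map : (δHom t ht h2).ker.map (Subgroup.centralizer ({t} : Set (Matrix.SpecialLinearGroup (Fin (m + 1)) F))).subtype =
    (ε (F := F) (m := m)).range := by
  apply le_antisymm
  · rintro _ ⟨g, hg, rfl⟩
    obtain ⟨a, d, hgb⟩ := blocks_of_mem_centralizer t ht h2 g.2
    have hd : d = 1 := by
      have h : δ t g = 1 := hg
      simpa [δ, hgb] using h
    have hdet : a.det = 1 := by
      have h := (g : (Matrix.SpecialLinearGroup (Fin (m + 1)) F)).2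
      rw [hgb, det_R, Matrix.det_fromBlocks_zero₂₁, hd, map_one, Matrix.det_one, mul_one] at h
      exact h
    refine ⟨⟨a, hdet⟩, Subtype.ext ?_⟩
    show R _ = ((g : (Matrix.SpecialLinearGroup (Fin (m + 1)) F)) : Matrix (Fin (m + 1)) (Fin (m + 1)) F)
    rw [hgb, hd, map_one]
  · rintro _ ⟨A, rfl⟩
    have hmem : ε A ∈ Subgroup.centralizer ({t} : Set (Matrix.SpecialLinearGroup (Fin (m + 1)) F)) :=
      Subgroup.mem_centralizer_singleton_iff.2 (Subtype.ext (by
        simp only [Matrix.SpecialLinearGroup.coe_mul, coe_ε, ht, ← map_mul, fromBlocks_multiply]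
        simp))
    refine ⟨⟨ε A, hmem⟩, ?_, rfl⟩
    show δ t _ = 1
    simp [δ, coe_ε]

include ht h2 in
theorem layer_eq (hm : 3 ≤ m) :
    (Cfsg.layer ↥(Subgroup.centralizer ({t} : Set (Matrix.SpecialLinearGroup (Fin (m + 1)) F)))).map
      (Subgroup.centralizer ({t} : Set (Matrix.SpecialLinearGroup (Fin (m + 1)) F))).subtype = (ε (F := F) (m := m)).range := by
  rw [← ker_map t ht h2]
  congr 1
  apply le_antisymm
  · refine sSup_le fun K hK x hx => ?_
    haveI hp : Group.IsPerfect K := hK.2.1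
    let f : K →* Fˣ := ((δHom t ht h2).comp K.subtype).toHomUnits
    have h1 : f ⟨x, hx⟩ = 1 := by
      have h3 : (⊤ : Subgroup K).map f = ⊥ := by
        rw [← Group.IsPerfect.commutator_eq_top (G := K), commutator_def, Subgroup.map_commutator]
        rw [eq_bot_iff, Subgroup.commutator_le]
        intro a _ b _
        rw [Subgroup.mem_bot, commutatorElement_eq_one_iff_mul_comm]
        exact mul_comm a b
      have h4 : f ⟨x, hx⟩ ∈ (⊤ : Subgroup K).map f := Subgroup.mem_map_of_mem f (Subgroup.mem_top _)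
      rwa [h3, Subgroup.mem_bot] at h4
    exact congrArg Units.val h1
  · refine le_sSup ⟨Subgroup.Normal.isSubnormal inferInstance, ?_⟩
    rw [isQuasisimple_congr (Subgroup.equivMapOfInjective _ _ (Subgroup.subtype_injective _)),
      ker_map t ht h2]
    exact isQuasisimple_range hm

include ht h2 in
theorem mem_range_t (heven : Even m) : t ∈ (ε (F := F) (m := m)).range := by
  refine ⟨⟨-1, ?_⟩, Subtype.ext ?_⟩
  · rw [Matrix.det_neg, Matrix.det_one, mul_one, Fintype.card_fin, heven.neg_one_pow]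
  · exact ht.symm

include ht h2 in
theorem scalar_of_mem_centralizer (hm : 3 ≤ m) (heven : Even m) {g : (Matrix.SpecialLinearGroup (Fin (m + 1)) F)}
    (hg : g ∈ Subgroup.centralizer ((ε (F := F) (m := m)).range : Set (Matrix.SpecialLinearGroup (Fin (m + 1)) F))) :
    ∃ l d : F, (g : Matrix (Fin (m + 1)) (Fin (m + 1)) F) =
      R (fromBlocks (scalar (Fin m) l) 0 0 (scalar (Fin 1) d)) ∧ l ^ m * d = 1 := by
  have hgt : g ∈ Subgroup.centralizer ({t} : Set (Matrix.SpecialLinearGroup (Fin (m + 1)) F)) := Subgroup.mem_centralizer_singleton_iff.2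
    ((Subgroup.mem_centralizer_iff.1 hg t (mem_range_t t ht h2 heven)).symm)
  obtain ⟨a, d, hgb⟩ := blocks_of_mem_centralizer t ht h2 hgt
  have hcomm : Pairwise fun i j => Commute (Matrix.single i j (1 : F)) a := by
    intro i j hij
    have h := congrArg Subtype.val (Subgroup.mem_centralizer_iff.1 hg _
      ⟨Matrix.SpecialLinearGroup.transvection hij 1, rfl⟩)
    simp only [Matrix.SpecialLinearGroup.coe_mul, coe_ε, hgb, ← map_mul, fromBlocks_multiply] at h
    have h' := (fromBlocks_inj.1 (R.injective h)).1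
    simp only [Matrix.SpecialLinearGroup.transvection_coe, Matrix.mul_zero, add_zero, add_mul,
      mul_add, one_mul, mul_one, add_right_inj] at h'
    exact h'
  obtain ⟨l, hl⟩ := Matrix.mem_range_scalar_of_commute_single hcomm
  refine ⟨l, d, by rw [hgb, hl], ?_⟩
  have h := g.2
  rw [hgb, det_R, Matrix.det_fromBlocks_zero₂₁, ← hl] at h
  simpa using h

include ht h2 in
theorem standard (hm : 3 ≤ m) (heven : Even m) :
    Cfsg.IsStandardSubgroup (ε (F := F) (m := m)).range := by
  set L := (ε (F := F) (m := m)).range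
  set C := Subgroup.centralizer (L : Set (Matrix.SpecialLinearGroup (Fin (m + 1)) F))
  have hq : Cfsg.IsQuasisimple L := isQuasisimple_range hm
  haveI : Nonempty (Fin m) := ⟨⟨0, by omega⟩⟩
  have hCcomm : ∀ x ∈ C, ∀ y ∈ C, x * y = y * x := by
    intro x hx y hy
    obtain ⟨l, d, hxb, -⟩ := scalar_of_mem_centralizer t ht h2 hm heven hx
    obtain ⟨l', d', hyb, -⟩ := scalar_of_mem_centralizer t ht h2 hm heven hy
    apply Subtype.ext
    simp only [Matrix.SpecialLinearGroup.coe_mul, hxb, hyb, ← map_mul, fromBlocks_multiply]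
    simp [mul_comm]
  have ht1 : t ≠ 1 := by
    intro e
    rw [e, Matrix.SpecialLinearGroup.coe_one, ← map_one (R (F := F) (m := m)),
      ← fromBlocks_one] at ht
    have h := congrFun (congrFun (fromBlocks_inj.1 (R.injective ht)).1 ⟨0, by omega⟩) ⟨0, by omega⟩
    simp only [Matrix.one_apply_eq, Matrix.neg_apply] at h
    exact h2 (by linear_combination h)
  have hinv : ∀ x ∈ C, orderOf x = 2 → x = t := by
    intro x hx hxo
    obtain ⟨l, d, hxb, hld⟩ := scalar_of_mem_centralizer t ht h2 hm heven hx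
    have hsq := congrArg Subtype.val (hxo ▸ pow_orderOf_eq_one x : x ^ 2 = 1)
    rw [sq, Matrix.SpecialLinearGroup.coe_mul, hxb, ← map_mul, fromBlocks_multiply,
      Matrix.SpecialLinearGroup.coe_one, ← map_one (R (F := F) (m := m)), ← fromBlocks_one] at hsq
    have h' := fromBlocks_inj.1 (R.injective hsq)
    have hl : l * l = 1 := by
      have := congrFun (congrFun h'.1 ⟨0, by omega⟩) ⟨0, by omega⟩
      simpa using this
    obtain ⟨k, hk⟩ := heven
    have hd : d = 1 := by
      rw [hk, pow_add, ← mul_pow, hl, one_pow, one_mul] at hld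
      exact hld
    rcases mul_self_eq_one_iff.1 hl with rfl | rfl
    · exfalso
      have : x = 1 := Subtype.ext (by rw [hxb, hd]; simp [fromBlocks_one])
      rw [this, orderOf_one] at hxo
      exact absurd hxo (by norm_num)
    · exact Subtype.ext (by rw [hxb, hd, ht, map_neg, map_one, map_one])
  have htC : t ∈ C := by
    rw [Subgroup.mem_centralizer_iff]
    rintro _ ⟨A, rfl⟩
    exact Subtype.ext (by
      simp only [Matrix.SpecialLinearGroup.coe_mul, coe_ε, ht, ← map_mul, fromBlocks_multiply]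
      simp)
  have hto : orderOf t = 2 := orderOf_eq_prime (Subtype.ext (by
    rw [sq, Matrix.SpecialLinearGroup.coe_mul, ht, ← map_mul, fromBlocks_multiply]
    simp [fromBlocks_one])) ht1
  have hnormL : ∀ g ∈ Subgroup.centralizer ({t} : Set (Matrix.SpecialLinearGroup (Fin (m + 1)) F)), g ∈ Subgroup.normalizer (L : Set (Matrix.SpecialLinearGroup (Fin (m + 1)) F)) := by
    intro g hg
    have hL : L = (δHom t ht h2).ker.map (Subgroup.centralizer ({t} : Set (Matrix.SpecialLinearGroup (Fin (m + 1)) F))).subtype :=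
      (ker_map t ht h2).symm
    rw [hL]
    exact mem_normalizer_map _ _ hg
  have hNN : Subgroup.normalizer (L : Set (Matrix.SpecialLinearGroup (Fin (m + 1)) F)) = Subgroup.normalizer (C : Set (Matrix.SpecialLinearGroup (Fin (m + 1)) F)) := by
    apply le_antisymm
    · intro g hg
      rw [Subgroup.mem_normalizer_iff] at hg ⊢
      intro x
      simp only [C, SetLike.mem_coe, Subgroup.mem_centralizer_iff]
      constructor
      · intro hx l hl
        have := hx (g⁻¹ * l * g) ((hg _).2 (by simpa [mul_assoc] using hl))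
        calc l * (g * x * g⁻¹) = g * ((g⁻¹ * l * g) * x) * g⁻¹ := by group
          _ = g * (x * (g⁻¹ * l * g)) * g⁻¹ := by rw [this]
          _ = g * x * g⁻¹ * l := by group
      · intro hx l hl
        have := hx (g * l * g⁻¹) ((hg _).1 hl)
        calc l * x = g⁻¹ * ((g * l * g⁻¹) * (g * x * g⁻¹)) * g := by group
          _ = g⁻¹ * ((g * x * g⁻¹) * (g * l * g⁻¹)) * g := by rw [this]
          _ = x * l := by group
    · intro g hg
      refine hnormL g (Subgroup.mem_centralizer_singleton_iff.2 ?_)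
      have h := hinv _ ((Subgroup.mem_normalizer_iff.1 hg t).1 htC)
        (by rw [← hto]; exact orderOf_injective (MulAut.conj g).toMonoidHom (MulAut.conj g).injective t)
      calc g * t = g * t * g⁻¹ * g := by group
        _ = t * g := by rw [h]
  refine ⟨hq, ⟨?_, fun g hg => ?_⟩, fun g hne hcomm => ?_, hNN⟩
  · rw [even_iff_two_dvd, ← hto, ← Subgroup.orderOf_mk t htC]
    exact orderOf_dvd_natCard _
  · by_contra hodd
    rw [Nat.not_odd_iff_even, even_iff_two_dvd] at hodd
    haveI : Fact (Nat.Prime 2) := ⟨Nat.prime_two⟩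
    obtain ⟨x, hx⟩ := exists_prime_orderOf_dvd_card' 2 hodd
    rw [← Subgroup.orderOf_coe] at hx
    have hxt := hinv _ x.2.1 hx
    obtain ⟨y, hy, hyx⟩ := x.2.2
    have hyt := hinv y hy (by
      rw [← hx, ← hyx]
      exact (orderOf_injective (MulAut.conj g).toMonoidHom (MulAut.conj g).injective y).symm)
    rw [hyt, hxt] at hyx
    refine hg (hNN ▸ hnormL g (Subgroup.mem_centralizer_singleton_iff.2 ?_))
    calc g * t = (MulAut.conj g).toMonoidHom t * g := by
          show g * t = g * t * g⁻¹ * g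
          group
      _ = t * g := by rw [hyx]
  · apply IsQuasisimple.center_ne_top hq
    rw [eq_top_iff]
    intro a _
    rw [Subgroup.mem_center_iff]
    intro b
    rw [Subgroup.commutator_eq_bot_iff_le_centralizer] at hcomm
    have hle : L.map (MulAut.conj g).toMonoidHom ≤ C := Subgroup.le_centralizer_iff.1 hcomm
    have := hCcomm _ (hle ⟨b, b.2, rfl⟩) _ (hle ⟨a, a.2, rfl⟩)
    rw [← map_mul, ← map_mul] at this
    exact Subtype.ext ((MulAut.conj g).injective this)

end Cfsg.Agent.Grp.StandardSL
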