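import Mathlib
import Cfsg.Prelude.Def_TwoFusion
import Cfsg.Agent.Lib.Grp.Coprime
import Cfsg.Agent.Lib.Grp.Signalizer
import Cfsg.Agent.Lib.Transfer.Frobenius

/-!
A normal `p`-complement criterion relative to a strongly closed subgroup.
-/

set_option autoImplicit false

namespace Cfsg.Agent.Grp

open Subgroup
open scoped Pointwise commutatorElement

variable {G : Type*} [Group G] [Finite G] {p : ℕ} [hp : Fact p.Prime]

/-- The conjugation action of the normalizer of `T` on `T` has the centralizer as kernel. -/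
theorem normalizerMonoidHom_eq_one_iff {T : Subgroup G} (y : normalizer (T : Set G)) :
    T.normalizerMonoidHom y = 1 ↔ ∀ t ∈ T, (y : G) * t * (y : G)⁻¹ = t := by
  constructor
  · intro h t ht
    exact congrArg Subtype.val (DFunLike.congr_fun h ⟨t, ht⟩)
  · intro h
    ext t
    exact h t t.2

/-- The Frobenius condition for a Sylow subgroup, from the normalizers of the centric subgroups of a
strongly closed subgroup. -/
theorem frobeniusCondition_of_stronglyClosed (S : Sylow p G) (D : Subgroup G)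
    (hD : Cfsg.IsStronglyClosed D (S : Subgroup G))
    (h : ∀ U : Subgroup G, U ≤ D → D ⊓ Subgroup.centralizer (U : Set G) ≤ U →
      Cfsg.HasNormalPComplement p ↥(Subgroup.normalizer (U : Set G))) :
    Transfer.FrobeniusCondition p (S : Subgroup G) := by
  classical
  suffices key : ∀ n (T : Subgroup G), IsPGroup p T → Nat.card G ≤ Nat.card T + n →
      ∀ g ∈ normalizer (T : Set G), (orderOf g).Coprime p → g ∈ centralizer (T : Set G) from
    fun Q hQ g hg hgc => key (Nat.card G) Q (S.isPGroup'.to_le hQ) (Nat.le_add_left _ _) g hg hgc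
  intro n
  induction n using Nat.strong_induction_on with
  | _ n ih =>
  intro T₀ hT₀ hn g₀ hg₀ hgc₀
  obtain ⟨S', hS'⟩ := hT₀.exists_le_sylow
  obtain ⟨a, ha⟩ := MulAction.exists_smul_eq G S' S
  set T := MulAut.conj a • T₀ with hTdef
  have hTS : T ≤ (S : Subgroup G) := by
    rw [← ha, Sylow.coe_subgroup_smul]
    exact Subgroup.pointwise_smul_le_pointwise_smul_iff.mpr hS'
  have hTcard : Nat.card T = Nat.card T₀ := Subgroup.card_map_of_injective (MulAut.conj a).injective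
  suffices hmain : ∀ g ∈ normalizer (T : Set G), (orderOf g).Coprime p → g ∈ centralizer (T : Set G) by
    have h1 : a * g₀ * a⁻¹ ∈ normalizer (T : Set G) := by
      rw [mem_normalizer_iff_smul, hTdef, conj_smul_conj_smul, show a * g₀ * a⁻¹ * a = a * g₀ by group,
        ← conj_smul_conj_smul, mem_normalizer_iff_smul.mp hg₀]
    have h2 := hmain _ h1 (by
      rw [show a * g₀ * a⁻¹ = MulAut.conj a g₀ from rfl, MulEquiv.orderOf_eq]; exact hgc₀)
    rw [Subgroup.mem_centralizer_iff] at h2 ⊢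
    intro t ht
    have h3 := h2 (a * t * a⁻¹) (by
      rw [hTdef, SetLike.mem_coe, mem_smul_conj]
      simpa [mul_assoc] using ht)
    calc t * g₀ = a⁻¹ * ((a * t * a⁻¹) * (a * g₀ * a⁻¹)) * a := by group
      _ = a⁻¹ * ((a * g₀ * a⁻¹) * (a * t * a⁻¹)) * a := by rw [h3]
      _ = g₀ * t := by group
  have hTp : IsPGroup p T := S.isPGroup'.to_le hTS
  set U := D ⊓ T with hU
  have hNU : normalizer (T : Set G) ≤ normalizer (U : Set G) :=
    invariant_iff.mp fun b hb x hx =>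
      ⟨hD.2 x hx.1 b (hTS (mem_conj_normalizer hb hx.2)), mem_conj_normalizer hb hx.2⟩
  intro g hg hgc
  by_cases hcen : D ⊓ centralizer (U : Set G) ≤ U
  · have hF := Transfer.frobeniusCondition_of_hasNormalPComplement (h U inf_le_left hcen)
      (P := T.subgroupOf (normalizer (U : Set G))) hTp.comap_subtype
    have h1 := hF _ le_rfl ⟨g, hNU hg⟩ (by
      refine (invariant_iff (A := Subgroup.zpowers (⟨g, hNU hg⟩ : normalizer (U : Set G)))).mp (fun b hb x hx => ?_) (mem_zpowers _)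
      obtain ⟨i, rfl⟩ := Subgroup.mem_zpowers_iff.mp hb
      exact mem_subgroupOf.mpr (mem_conj_normalizer (Subgroup.zpow_mem _ hg i) (mem_subgroupOf.mp hx)))
      (by rw [← Subgroup.orderOf_coe]; exact hgc)
    rw [Subgroup.mem_centralizer_iff] at h1 ⊢
    intro t ht
    exact congrArg Subtype.val (h1 ⟨t, hNU (Subgroup.le_normalizer ht)⟩ (mem_subgroupOf.mpr ht))
  -- an element of `C_D(U)` outside `T` normalizing `T`
  have hTD : T ≤ normalizer (D : Set G) := invariant_iff.mp fun b hb x hx =>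
    hD.2 x hx b ((S : Subgroup G).mul_mem ((S : Subgroup G).mul_mem (hTS hb) (hD.1 hx))
      ((S : Subgroup G).inv_mem (hTS hb)))
  set C := D ⊓ centralizer (U : Set G) with hC
  have hTC : T ≤ normalizer (C : Set G) := invariant_iff.mp fun b hb x hx => by
    refine ⟨mem_conj_normalizer (hTD hb) hx.1, Subgroup.mem_centralizer_iff.mpr fun u hu => ?_⟩
    have h1 := Subgroup.mem_centralizer_iff.mp hx.2 (b⁻¹ * u * b) (mem_conj_normalizer' (hNU (Subgroup.le_normalizer hb)) hu)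
    calc u * (b * x * b⁻¹) = b * ((b⁻¹ * u * b) * x) * b⁻¹ := by group
      _ = b * (x * (b⁻¹ * u * b)) * b⁻¹ := by rw [h1]
      _ = _ := by group
  have hCS : C ≤ (S : Subgroup G) := inf_le_left.trans hD.1
  have hlt : T < T ⊔ C := lt_of_le_not_ge le_sup_left fun hle => hcen fun x hx =>
    ⟨hx.1, hle (mem_sup_right hx)⟩
  obtain ⟨y, hy, hyn, hyT⟩ : ∃ y ∈ T ⊔ C, y ∈ normalizer (T : Set G) ∧ y ∉ T := by
    have hlt' : T.subgroupOf (T ⊔ C) < ⊤ := lt_top_iff_ne_top.2 fun he =>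
      hlt.not_ge (Subgroup.subgroupOf_eq_top.1 he)
    have h3 := Group.normalizerCondition_of_isNilpotent
      (h := (S.isPGroup'.to_le (sup_le hTS hCS)).isNilpotent) _ hlt'
    rw [← Subgroup.subgroupOf_normalizer_eq le_sup_left] at h3
    obtain ⟨z, hz, hzT⟩ := SetLike.exists_of_lt h3
    exact ⟨z, z.2, hz, hzT⟩
  rw [← SetLike.mem_coe, Subgroup.coe_mul_of_left_le_normalizer_right _ _ hTC] at hy
  obtain ⟨t₀, ht₀, c, hc, rfl⟩ := hy
  have hcn : c ∈ normalizer (T : Set G) := by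
    have h4 := (normalizer (T : Set G)).mul_mem
      ((normalizer (T : Set G)).inv_mem (Subgroup.le_normalizer ht₀)) hyn
    simpa using h4
  have hcT : c ∉ T := fun h => hyT (T.mul_mem ht₀ h)
  -- the stabilizer of the series `T ≥ U ≥ 1`
  set N := normalizer (T : Set G) with hN
  set φ := T.normalizerMonoidHom with hφ
  let E : Subgroup ↥N :=
    { carrier := {x | (∀ t ∈ T, (x : G) * t * (x : G)⁻¹ * t⁻¹ ∈ U) ∧ ∀ u ∈ U, (x : G) * u * (x : G)⁻¹ = u}
      one_mem' := ⟨fun t _ => by simp [Subgroup.one_mem], fun u _ => by simp⟩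
      mul_mem' := by
        rintro x y ⟨hx1, hx2⟩ ⟨hy1, hy2⟩
        refine ⟨fun t ht => ?_, fun u hu => ?_⟩
        · have e : ((x * y : ↥N) : G) * t * ((x * y : ↥N) : G)⁻¹ * t⁻¹
              = ((x : G) * ((y : G) * t * (y : G)⁻¹ * t⁻¹) * (x : G)⁻¹) * ((x : G) * t * (x : G)⁻¹ * t⁻¹) := by
            rw [Subgroup.coe_mul]; group
          rw [e, hx2 _ (hy1 t ht)]
          exact U.mul_mem (hy1 t ht) (hx1 t ht)
        · have e : ((x * y : ↥N) : G) * u * ((x * y : ↥N) : G)⁻¹ = (x : G) * ((y : G) * u * (y : G)⁻¹) * (x : G)⁻¹ := by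
            rw [Subgroup.coe_mul]; group
          rw [e, hy2 u hu, hx2 u hu]
      inv_mem' := by
        rintro x ⟨hx1, hx2⟩
        have h2 : ∀ u ∈ U, (x : G)⁻¹ * u * (x : G) = u := fun u hu => by
          conv_lhs => rw [← hx2 u hu]
          group
        refine ⟨fun t ht => ?_, fun u hu => by simpa using h2 u hu⟩
        have e : ((x⁻¹ : ↥N) : G) * t * ((x⁻¹ : ↥N) : G)⁻¹ * t⁻¹
            = (x : G)⁻¹ * ((x : G) * t * (x : G)⁻¹ * t⁻¹)⁻¹ * (x : G) := by
          rw [Subgroup.coe_inv]; group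
        rw [e, h2 _ (U.inv_mem (hx1 t ht))]
        exact U.inv_mem (hx1 t ht) }
  have hEn : E.Normal := by
    refine ⟨fun x hx b => ⟨fun t ht => ?_, fun u hu => ?_⟩⟩
    · have e : ((b * x * b⁻¹ : ↥N) : G) * t * ((b * x * b⁻¹ : ↥N) : G)⁻¹ * t⁻¹
          = (b : G) * ((x : G) * ((b : G)⁻¹ * t * b) * (x : G)⁻¹ * ((b : G)⁻¹ * t * b)⁻¹) * (b : G)⁻¹ := by
        simp only [Subgroup.coe_mul, Subgroup.coe_inv]; group
      rw [e]
      exact mem_conj_normalizer (hNU b.2) (hx.1 _ (mem_conj_normalizer' b.2 ht))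
    · have e : ((b * x * b⁻¹ : ↥N) : G) * u * ((b * x * b⁻¹ : ↥N) : G)⁻¹
          = (b : G) * ((x : G) * ((b : G)⁻¹ * u * b) * (x : G)⁻¹) * (b : G)⁻¹ := by
        simp only [Subgroup.coe_mul, Subgroup.coe_inv]; group
      rw [e, hx.2 _ (mem_conj_normalizer' (hNU b.2) hu)]
      group
  set T' := T.subgroupOf N with hT'
  haveI : T'.Normal := Subgroup.normal_in_normalizer
  have hcE : (⟨c, hcn⟩ : ↥N) ∈ E := by
    have hfix : ∀ u ∈ U, c * u * c⁻¹ = u := fun u hu => by
      rw [← Subgroup.mem_centralizer_iff.mp hc.2 u hu, mul_inv_cancel_right]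
    refine ⟨fun t ht => ⟨?_, T.mul_mem (mem_conj_normalizer hcn ht) (T.inv_mem ht)⟩, hfix⟩
    show c * t * c⁻¹ * t⁻¹ ∈ D
    rw [show c * t * c⁻¹ * t⁻¹ = c * (t * c⁻¹ * t⁻¹) by group]
    exact D.mul_mem hc.1 (mem_conj_normalizer (hTD ht) (D.inv_mem hc.1))
  set F := T' ⊔ E with hF
  haveI : F.Normal := inferInstance
  -- `E` and hence `F` induce a `p`-group of automorphisms
  obtain ⟨e, he⟩ := (hTp.to_le (inf_le_right : U ≤ T)).exists_card_eq
  have hEp : IsPGroup p ↥(E.map φ) := by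
    rintro ⟨_, x, hx, rfl⟩
    refine ⟨e, Subtype.ext ?_⟩
    show φ x ^ p ^ e = 1
    rw [← map_pow, hφ, normalizerMonoidHom_eq_one_iff]
    intro t ht
    set u := (x : G) * t * (x : G)⁻¹ * t⁻¹ with hu
    have hpow : ∀ i : ℕ, (x : G) ^ i * t * ((x : G) ^ i)⁻¹ = u ^ i * t := by
      intro i
      induction i with
      | zero => simp
      | succ i ih =>
        calc (x : G) ^ (i + 1) * t * ((x : G) ^ (i + 1))⁻¹
            = (x : G) * ((x : G) ^ i * t * ((x : G) ^ i)⁻¹) * (x : G)⁻¹ := by rw [pow_succ']; group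
          _ = ((x : G) * u ^ i * (x : G)⁻¹) * ((x : G) * t * (x : G)⁻¹) := by rw [ih]; group
          _ = u ^ i * (u * t) := by rw [hx.2 _ (U.pow_mem (hx.1 t ht) i), hu, inv_mul_cancel_right]
          _ = u ^ (i + 1) * t := by rw [pow_succ]; exact (mul_assoc _ _ _).symm
    rw [Subgroup.coe_pow, hpow, ← he]
    have h5 : u ^ Nat.card U = 1 := congrArg Subtype.val (pow_card_eq_one' (x := (⟨u, hx.1 t ht⟩ : ↥U)))
    rw [h5, one_mul]
  haveI : (E.map φ.rangeRestrict).Normal := hEn.map _ φ.rangeRestrict_surjective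
  have hFp : IsPGroup p ↥(F.map φ.rangeRestrict) := by
    rw [hF, Subgroup.map_sup]
    refine IsPGroup.to_sup_of_normal_right ((hTp.comap_subtype (K := N)).map _) ?_
    let ι : ↥(E.map φ.rangeRestrict) →* ↥(E.map φ) :=
      { toFun := fun z => ⟨((z : ↥φ.range) : MulAut ↥T), by
          obtain ⟨x, hx, e⟩ := z.2
          exact ⟨x, hx, congrArg Subtype.val e⟩⟩
        map_one' := rfl
        map_mul' := fun _ _ => rfl }
    exact hEp.of_injective ι fun a b hab =>
      Subtype.ext (Subtype.ext (congrArg (fun w : ↥(E.map φ) => (w : MulAut ↥T)) hab))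
  -- a Sylow subgroup of `F` is larger than `T`
  have hsup : IsPGroup p ↥(T' ⊔ Subgroup.zpowers (⟨c, hcn⟩ : ↥N)) := by
    refine IsPGroup.of_injective ((S.isPGroup'.comap_subtype (K := N)).to_le ?_) (MonoidHom.id _) (fun _ _ h => h)
    exact sup_le (fun x hx => mem_subgroupOf.mpr (hTS hx)) (Subgroup.zpowers_le.mpr (mem_subgroupOf.mpr (hCS hc)))
  have hle : T' ⊔ Subgroup.zpowers (⟨c, hcn⟩ : ↥N) ≤ F :=
    sup_le le_sup_left (Subgroup.zpowers_le.mpr (mem_sup_right hcE))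
  obtain ⟨Y, hY⟩ := (hsup.comap_subtype (K := F)).exists_le_sylow
  set X := (Y : Subgroup F).map F.subtype with hX
  set X₁ := X.map N.subtype with hX₁
  have hXp : IsPGroup p X₁ := (Y.isPGroup'.map _).map _
  have hTX : T < X₁ := by
    refine lt_of_le_not_ge (fun t ht => ?_) fun hle' => hcT (hle' ?_)
    · have h6 : (⟨t, Subgroup.le_normalizer ht⟩ : ↥N) ∈ T' ⊔ Subgroup.zpowers (⟨c, hcn⟩ : ↥N) :=
        mem_sup_left (mem_subgroupOf.mpr ht)
      exact ⟨_, ⟨⟨_, hle h6⟩, hY h6, rfl⟩, rfl⟩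
    · have h6 : (⟨c, hcn⟩ : ↥N) ∈ T' ⊔ Subgroup.zpowers (⟨c, hcn⟩ : ↥N) := mem_sup_right (mem_zpowers _)
      exact ⟨_, ⟨⟨_, hle h6⟩, hY h6, rfl⟩, rfl⟩
  have hcl : Nat.card T < Nat.card X₁ := Set.ncard_lt_ncard (s := (T : Set G)) (t := (X₁ : Set G)) hTX (Set.toFinite _)
  have hG := Subgroup.card_le_card_group X₁
  have hIH := ih (n - 1) (by omega) X₁ hXp (by omega)
  -- Frattini
  have hmem : (⟨g, hg⟩ : ↥N) ∈ normalizer (X : Set ↥N) ⊔ F := by
    rw [hX, Sylow.normalizer_sup_eq_top Y]; exact mem_top _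
  obtain ⟨m, hm, f, hf, hmf⟩ := Subgroup.mem_sup_of_normal_right.mp hmem
  obtain ⟨k, r, hr, hkr⟩ := Nat.exists_eq_pow_mul_and_not_dvd (orderOf_pos (m : G)).ne' p hp.out.ne_one
  have hmk : φ (m ^ p ^ k) = 1 := by
    rw [hφ, normalizerMonoidHom_eq_one_iff]
    intro t ht
    have hord : (orderOf ((m : G) ^ p ^ k)).Coprime p := by
      rw [orderOf_pow' _ (pow_ne_zero _ hp.out.ne_zero), hkr, Nat.gcd_eq_right (dvd_mul_right _ _),
        Nat.mul_div_cancel_left _ (pow_pos hp.out.pos _)]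
      exact (hp.out.coprime_iff_not_dvd.mpr hr).symm
    have hmX : (m : G) ∈ normalizer (X₁ : Set G) :=
      Subgroup.le_normalizer_map N.subtype ⟨m, hm, rfl⟩
    have h7 := Subgroup.mem_centralizer_iff.mp (hIH _ (Subgroup.pow_mem _ hmX _) hord) t (hTX.le ht)
    rw [Subgroup.coe_pow, ← h7, mul_inv_cancel_right]
  have hgq : φ.rangeRestrict ⟨g, hg⟩ ^ p ^ k ∈ F.map φ.rangeRestrict := by
    haveI : (F.map φ.rangeRestrict).Normal := (inferInstance : F.Normal).map _ φ.rangeRestrict_surjective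
    rw [← QuotientGroup.eq_one_iff, QuotientGroup.mk_pow, ← hmf, map_mul, QuotientGroup.mk_mul,
      (QuotientGroup.eq_one_iff (φ.rangeRestrict f)).mpr (Subgroup.mem_map_of_mem (φ.rangeRestrict) hf), mul_one, ← QuotientGroup.mk_pow,
      ← map_pow, QuotientGroup.eq_one_iff]
    exact ⟨1, Subgroup.one_mem _, Subtype.ext (by rw [map_one]; exact hmk.symm)⟩
  obtain ⟨l, hl⟩ := hFp ⟨_, hgq⟩
  have hl' : (φ ⟨g, hg⟩ ^ p ^ k) ^ p ^ l = 1 := congrArg (fun z : ↥(F.map φ.rangeRestrict) => ((z : ↥φ.range) : MulAut ↥T)) hl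
  have hd1 : orderOf (φ ⟨g, hg⟩) ∣ p ^ (k + l) := orderOf_dvd_of_pow_eq_one (by rw [pow_add, pow_mul]; exact hl')
  have hd2 : orderOf (φ ⟨g, hg⟩) ∣ orderOf g := by
    refine (orderOf_map_dvd φ _).trans ?_
    rw [← Subgroup.orderOf_coe]
  have hone : φ ⟨g, hg⟩ = 1 := orderOf_eq_one_iff.mp
    (Nat.eq_one_of_dvd_coprimes (hgc.pow_right (k + l)) hd2 hd1)
  rw [hφ, normalizerMonoidHom_eq_one_iff] at hone
  rw [Subgroup.mem_centralizer_iff]
  intro t ht
  conv_lhs => rw [← hone t ht]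
  group

end Cfsg.Agent.Grp
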