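import Mathlib

/-!
Frobenius: the number of subgroups of prime power order dividing the group order is `1` mod `p`.
-/

namespace Cfsg.Agent.Grp.SubCount

open scoped Pointwise

theorem choose_modEq_one {p : ℕ} (hp : p.Prime) :
    ∀ (β m : ℕ), 0 < m → (m * p ^ β - 1).choose (p ^ β - 1) ≡ 1 [MOD p] := by
  haveI := Fact.mk hp
  intro β
  induction β with
  | zero => intro m _; simp [Nat.ModEq.refl]
  | succ β ih =>
    intro m hm
    have h := Choose.choose_modEq_choose_mod_mul_choose_div_nat (p := p)
      (n := m * p ^ (β + 1) - 1) (k := p ^ (β + 1) - 1)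
    have key : ∀ a : ℕ, 0 < a → (a * p - 1) % p = p - 1 ∧ (a * p - 1) / p = a - 1 := by
      intro a ha
      obtain ⟨b, rfl⟩ := Nat.exists_eq_succ_of_ne_zero ha.ne'
      have e : b.succ * p - 1 = (p - 1) + p * b := by
        have := hp.one_le
        rw [Nat.succ_mul, mul_comm b p]
        omega
      rw [e, Nat.add_mul_mod_self_left, Nat.mod_eq_of_lt (Nat.sub_lt hp.pos one_pos),
        Nat.add_mul_div_left _ _ hp.pos, Nat.div_eq_of_lt (Nat.sub_lt hp.pos one_pos)]
      simp
    have e1 := key (m * p ^ β) (Nat.mul_pos hm (pow_pos hp.pos β))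
    have e2 := key (p ^ β) (pow_pos hp.pos β)
    rw [show m * p ^ β * p = m * p ^ (β + 1) by ring] at e1
    rw [← pow_succ] at e2
    rw [e1.1, e1.2, e2.1, e2.2, Nat.choose_self, one_mul] at h
    exact h.trans (ih m hm)

variable {G : Type*} [Group G] [Finite G]

theorem card_subgroups_modEq (p β : ℕ) (hp : p.Prime) (hdiv : p ^ β ∣ Nat.card G) :
    Nat.card {H : Subgroup G // Nat.card H = p ^ β} ≡ 1 [MOD p] := by
  classical
  haveI := Fintype.ofFinite G
  obtain ⟨m, hm⟩ := hdiv
  have hm0 : 0 < m := by
    rcases Nat.eq_zero_or_pos m with h | h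
    · rw [h, mul_zero] at hm
      exact absurd hm Nat.card_pos.ne'
    · exact h
  set k := p ^ β with hk
  have hk0 : 0 < k := pow_pos hp.pos β
  -- all `k`-subsets
  let X : Finset (Finset G) := Finset.univ.powersetCard k
  have hX : X.card = m * (m * k - 1).choose (k - 1) := by
    have hc : X.card = (m * k).choose k := by
      rw [Finset.card_powersetCard, Finset.card_univ, ← Nat.card_eq_fintype_card, hm, mul_comm]
    rw [hc]
    refine Nat.eq_of_mul_eq_mul_right hk0 ?_
    have h := Nat.add_one_mul_choose_eq (m * k - 1) (k - 1)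
    rw [Nat.sub_add_cancel (Nat.mul_pos hm0 hk0), Nat.sub_add_cancel (show 1 ≤ k from hk0)] at h
    rw [← h]; ring
  -- left cosets of subgroups of order `k`
  let good : Finset G → Prop := fun S =>
    ∃ (H : Subgroup G) (g : G), Nat.card H = k ∧ ∀ x, x ∈ S ↔ g⁻¹ * x ∈ H
  have hgood : Nat.card {S : Finset G // good S} =
      Nat.card {H : Subgroup G // Nat.card H = k} * m := by
    let f : (Σ H : {H : Subgroup G // Nat.card H = k}, G ⧸ H.1) → {S : Finset G // good S} :=
      fun w => ⟨Finset.univ.filter fun x => (QuotientGroup.mk x : G ⧸ w.1.1) = w.2,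
        w.1.1, w.2.out, w.1.2, fun x => by
          rw [Finset.mem_filter, ← QuotientGroup.eq, QuotientGroup.out_eq']
          simp [eq_comm]⟩
    have hf : Function.Bijective f := by
      constructor
      · rintro ⟨⟨H, hH⟩, q⟩ ⟨⟨H', hH'⟩, q'⟩ he
        have he' : ∀ x : G, (QuotientGroup.mk x : G ⧸ H) = q ↔ (QuotientGroup.mk x : G ⧸ H') = q' := by
          intro x
          have := Finset.ext_iff.mp (congrArg Subtype.val he) x
          simpa [f] using this
        obtain ⟨g, rfl⟩ := QuotientGroup.mk_surjective q
        have hg' := (he' g).mp rfl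
        subst hg'
        have : H = H' := by
          ext h
          have := he' (g * h)
          simpa [QuotientGroup.eq] using this
        subst this
        rfl
      · rintro ⟨S, H, g, hH, hS⟩
        refine ⟨⟨⟨H, hH⟩, QuotientGroup.mk g⟩, Subtype.ext ?_⟩
        ext x
        rw [hS x, Finset.mem_filter]
        simp [eq_comm, QuotientGroup.eq]
    have hq : ∀ H : {H : Subgroup G // Nat.card H = k}, Nat.card (G ⧸ H.1) = m := by
      intro H
      have := Subgroup.card_eq_card_quotient_mul_card_subgroup H.1
      rw [H.2, hm, mul_comm] at this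
      exact (Nat.eq_of_mul_eq_mul_right hk0 this).symm
    rw [← Nat.card_eq_of_bijective f hf, Nat.card_sigma, Finset.sum_congr rfl (fun H _ => hq H),
      Finset.sum_const, Finset.card_univ, smul_eq_mul, ← Nat.card_eq_fintype_card]
  -- the remaining subsets fall into orbits of size divisible by `p * m`
  let bad : Finset G → Prop := fun S => S.card = k ∧ ¬ good S
  have hsplit : X.card = Nat.card {S : Finset G // good S} + Nat.card {S : Finset G // bad S} := by
    rw [Nat.card_eq_fintype_card, Nat.card_eq_fintype_card, Fintype.card_subtype,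
      Fintype.card_subtype, ← Finset.card_union_of_disjoint (by
        rw [Finset.disjoint_filter]; exact fun S _ h h' => h'.2 h)]
    congr 1
    ext S
    simp only [X, Finset.mem_powersetCard, Finset.subset_univ, true_and, Finset.mem_union,
      Finset.mem_filter, Finset.mem_univ, bad]
    constructor
    · intro h
      by_cases hg : good S
      · exact Or.inl hg
      · exact Or.inr ⟨h, hg⟩
    · rintro (⟨H, g, hH, hS⟩ | ⟨h, -⟩)
      · have : S = (Finset.univ.filter fun h => h ∈ H).image (g * ·) := by
          ext x
          rw [hS x, Finset.mem_image]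
          constructor
          · intro hx; exact ⟨g⁻¹ * x, by simpa using hx, by group⟩
          · rintro ⟨h, hh, rfl⟩; simpa using hh
        rw [this, Finset.card_image_of_injective _ (mul_right_injective g), ← Fintype.card_subtype,
          ← Nat.card_eq_fintype_card]
        exact hH
      · exact h
  have hbad : p * m ∣ Nat.card {S : Finset G // bad S} := by
    have hinv : ∀ (a : G) (S : Finset G), bad S → bad (a • S) := by
      rintro a S ⟨h1, h2⟩
      refine ⟨by rw [Finset.card_smul_finset, h1], fun ⟨H, g, hH, hS⟩ => h2 ⟨H, a⁻¹ * g, hH, fun x => ?_⟩⟩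
      have := hS (a * x)
      rw [← smul_eq_mul a x, Finset.smul_mem_smul_finset_iff] at this
      rw [this, smul_eq_mul]
      group
    let Y : SubMulAction G (Finset G) := ⟨{S | bad S}, fun a S h => hinv a S h⟩
    have hY : Nat.card {S : Finset G // bad S} = Nat.card Y := rfl
    rw [hY, Nat.card_congr (MulAction.selfEquivSigmaOrbits G Y), Nat.card_sigma]
    refine Finset.dvd_sum fun ω _ => ?_
    rw [Nat.card_congr (MulAction.orbitEquivQuotientStabilizer G ω.out)]
    set y : Y := ω.out with hy
    show p * m ∣ (MulAction.stabilizer G y).index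
    set K := MulAction.stabilizer G y with hK
    have hKS : ∀ a : G, a ∈ K → a • (y.1 : Finset G) = y.1 := fun a ha =>
      congrArg Subtype.val (MulAction.mem_stabilizer_iff.mp ha)
    obtain ⟨hyk, hyg⟩ : bad y.1 := y.2
    let c : G → Finset G := fun x => Finset.univ.filter fun z => z * x⁻¹ ∈ K
    have hc : ∀ x, (c x).card = Nat.card K := by
      intro x
      rw [Nat.card_eq_fintype_card, Fintype.card_subtype]
      refine Finset.card_bij' (fun z _ => z * x⁻¹) (fun h _ => h * x) ?_ ?_ ?_ ?_
      · intro z hz; simpa [c] using hz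
      · intro h hh; simpa [c] using hh
      · intro z _; group
      · intro h _; group
    have hsub : ∀ x ∈ y.1, c x ⊆ y.1 := by
      intro x hx z hz
      have hz' : z * x⁻¹ ∈ K := by simpa [c] using hz
      rw [← hKS _ hz']
      exact Finset.mem_smul_finset.mpr ⟨x, hx, by simp⟩
    have hdk : Nat.card K ∣ k := by
      rw [← hyk, Finset.card_eq_sum_card_image c]
      refine Finset.dvd_sum fun C hC => ?_
      obtain ⟨x, hx, rfl⟩ := Finset.mem_image.mp hC
      have : (y.1.filter fun z => c z = c x) = c x := by
        ext z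
        rw [Finset.mem_filter]
        constructor
        · rintro ⟨-, hz⟩
          rw [← hz]
          simp [c]
        · intro hz
          refine ⟨hsub x hx hz, ?_⟩
          have hz' : z * x⁻¹ ∈ K := by simpa [c] using hz
          ext w
          simp only [c, Finset.mem_filter, Finset.mem_univ, true_and]
          rw [show w * x⁻¹ = (w * z⁻¹) * (z * x⁻¹) by group]
          exact ⟨fun h => mul_mem h hz', fun h => by
            simpa [mul_assoc] using mul_mem h (inv_mem hz')⟩
      rw [this, hc]
    obtain ⟨i, hi, hKi⟩ := (Nat.dvd_prime_pow hp).mp hdk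
    have hlt : i < β := by
      rcases hi.lt_or_eq with h | h
      · exact h
      exfalso
      obtain ⟨x, hx⟩ : y.1.Nonempty := Finset.card_pos.mp (hyk ▸ hk0)
      have hcx : c x = y.1 := Finset.eq_of_subset_of_card_le (hsub x hx)
        (by rw [hc, hyk, hKi, h])
      refine hyg ⟨K.map (MulAut.conj x⁻¹).toMonoidHom, x, ?_, fun z => ?_⟩
      · rw [Subgroup.card_map_of_injective (MulAut.conj x⁻¹).injective, hKi, h]
      · rw [← hcx]
        simp only [c, Finset.mem_filter, Finset.mem_univ, true_and, Subgroup.mem_map]
        constructor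
        · intro hz; exact ⟨z * x⁻¹, hz, by simp [mul_assoc]⟩
        · rintro ⟨h, hh, he⟩
          have : z * x⁻¹ = h := by
            simp at he
            have e : z = h * x := by
              have := congrArg (fun t => x * t) he
              simpa [mul_assoc] using this.symm
            rw [e]; group
          rw [this]; exact hh
    have hidx := K.card_mul_index
    rw [hKi, hm] at hidx
    refine ⟨p ^ (β - i - 1), Nat.eq_of_mul_eq_mul_left (pow_pos hp.pos i) (hidx.trans ?_)⟩
    have hpow : p ^ β = p ^ i * p * p ^ (β - i - 1) := by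
      rw [← pow_succ, ← pow_add]
      congr 1
      omega
    rw [hk, hpow]
    ring
  set N := Nat.card {H : Subgroup G // Nat.card H = k} with hN
  obtain ⟨c, hc⟩ := hbad
  rw [hX, hgood, hc] at hsplit
  have h2 : (m * k - 1).choose (k - 1) = N + p * c :=
    Nat.eq_of_mul_eq_mul_left hm0 (hsplit.trans (by ring))
  have h3 := choose_modEq_one hp β m hm0
  rw [← hk, h2] at h3
  unfold Nat.ModEq at h3 ⊢
  rwa [Nat.add_mul_mod_self_left] at h3

/-- Normal subgroups of a given order in a `p`-group. -/
theorem card_normal_modEq (p m s : ℕ) (hp : p.Prime) (hG : Nat.card G = p ^ m) (hs : s ≤ m) :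
    Nat.card {H : Subgroup G // H.Normal ∧ Nat.card H = p ^ s} ≡ 1 [MOD p] := by
  classical
  haveI := Fact.mk hp
  let T := {H : Subgroup G // Nat.card H = p ^ s}
  letI : MulAction G T :=
    { smul := fun g H => ⟨H.1.map (MulAut.conj g).toMonoidHom, by
        rw [Subgroup.card_map_of_injective (MulAut.conj g).injective]; exact H.2⟩
      one_smul := fun H => Subtype.ext (by
        show H.1.map (MulAut.conj (1 : G)).toMonoidHom = H.1
        ext x; simp)
      mul_smul := fun a b H => Subtype.ext (by
        show H.1.map (MulAut.conj (a * b)).toMonoidHom =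
          (H.1.map (MulAut.conj b).toMonoidHom).map (MulAut.conj a).toMonoidHom
        rw [Subgroup.map_map]
        congr 1
        ext x; simp [mul_assoc]) }
  have hpg : IsPGroup p G := IsPGroup.of_card hG
  have h1 := hpg.card_modEq_card_fixedPoints T
  have h2 := card_subgroups_modEq p s hp (hG ▸ pow_dvd_pow p hs)
  refine Nat.ModEq.trans ?_ h2
  refine Nat.ModEq.trans ?_ h1.symm
  rw [Nat.card_congr (Equiv.ofBijective
    (fun H : {H : Subgroup G // H.Normal ∧ Nat.card H = p ^ s} =>
      (⟨⟨H.1, H.2.2⟩, fun g => Subtype.ext (by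
        show H.1.map (MulAut.conj g).toMonoidHom = H.1
        haveI := H.2.1
        refine Subgroup.eq_of_le_of_card_ge ?_ ?_
        · rintro _ ⟨x, hx, rfl⟩
          simpa using H.2.1.conj_mem x hx g
        · rw [Subgroup.card_map_of_injective (MulAut.conj g).injective])⟩ :
          MulAction.fixedPoints G T))
    ⟨fun a b h => Subtype.ext (congrArg (fun w => w.1.1) h), fun H => by
      refine ⟨⟨H.1.1, ⟨fun x hx g => ?_⟩, H.1.2⟩, rfl⟩
      have := congrArg Subtype.val (H.2 g)
      change H.1.1.map (MulAut.conj g).toMonoidHom = H.1.1 at this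
      rw [← this]
      exact ⟨x, hx, by simp⟩⟩)]

end Cfsg.Agent.Grp.SubCount
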