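import Mathlib
import Cfsg.Prelude.Def_SolvableStructure
import Cfsg.Agent.Lib.Grp.Basic

/-!
Supersolvable groups as an inductive "reachability" predicate; normal cyclic subgroups.
-/

namespace Cfsg.Agent.Grp

open scoped commutatorElement
open Subgroup

variable {G H : Type*} [Group G] [Group H]

/-- Normal subgroups reached from `⊥` by adjoining one element at a time. -/
inductive SSReach : Subgroup G → Prop where
  | bot : SSReach ⊥
  | step {K : Subgroup G} (g : G) : SSReach K → (K ⊔ Subgroup.zpowers g).Normal →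
      SSReach (K ⊔ Subgroup.zpowers g)

theorem SSReach.normal {K : Subgroup G} (h : SSReach K) : K.Normal := by
  cases h with
  | bot => infer_instance
  | step g _ hn => exact hn

theorem isSupersolvable_iff : Cfsg.IsSupersolvable G ↔ SSReach (⊤ : Subgroup G) := by
  constructor
  · rintro ⟨n, H, h0, hlast, hn, hstep⟩
    have : ∀ i : Fin (n + 1), SSReach (H i) := by
      intro i
      induction i using Fin.induction with
      | zero => rw [h0]; exact SSReach.bot
      | succ i ih =>
        obtain ⟨g, hg⟩ := hstep i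
        rw [hg]
        exact SSReach.step g ih (hg ▸ hn _)
    exact hlast ▸ this _
  · intro h
    suffices ∀ K : Subgroup G, SSReach K → ∃ (n : ℕ) (H : Fin (n + 1) → Subgroup G),
        H 0 = ⊥ ∧ H (Fin.last n) = K ∧ (∀ i, (H i).Normal) ∧
        ∀ i : Fin n, ∃ g : G, H i.succ = H i.castSucc ⊔ Subgroup.zpowers g from this _ h
    intro K hK
    induction hK with
    | bot => exact ⟨0, fun _ => ⊥, rfl, rfl, fun _ => inferInstance, fun i => i.elim0⟩
    | @step K g hK hn ih =>
      obtain ⟨n, H, h0, hlast, hnorm, hstep⟩ := ih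
      refine ⟨n + 1, Fin.snoc H (K ⊔ Subgroup.zpowers g), ?_, Fin.snoc_last _ _, ?_, ?_⟩
      · rw [show (0 : Fin (n + 1 + 1)) = Fin.castSucc 0 from rfl, Fin.snoc_castSucc, h0]
      · intro i
        refine Fin.lastCases ?_ (fun j => ?_) i
        · rw [Fin.snoc_last]; exact hn
        · rw [Fin.snoc_castSucc]; exact hnorm j
      · intro i
        refine Fin.lastCases ⟨g, ?_⟩ (fun j => ?_) i
        · rw [Fin.succ_last, Fin.snoc_last, Fin.snoc_castSucc, hlast]
        · obtain ⟨g', hg'⟩ := hstep j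
          exact ⟨g', by rw [Fin.succ_castSucc, Fin.snoc_castSucc, Fin.snoc_castSucc]; exact hg'⟩

theorem SSReach.map {f : G →* H} (hf : Function.Surjective f) {K : Subgroup G} (h : SSReach K) :
    SSReach (K.map f) := by
  induction h with
  | bot => rw [Subgroup.map_bot]; exact SSReach.bot
  | @step K g _ hn ih =>
    have h' := hn.map f hf
    rw [Subgroup.map_sup, MonoidHom.map_zpowers] at h' ⊢
    exact SSReach.step _ ih h'

/-- Subgroups of a cyclic extension are cyclic extensions. -/
theorem exists_zpowers_sup_comap (f : H →* G) (K : Subgroup G) [K.Normal] (g : G) :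
    ∃ h : H, (K ⊔ Subgroup.zpowers g).comap f = K.comap f ⊔ Subgroup.zpowers h := by
  set φ := (QuotientGroup.mk' K).comp f
  set J := (K ⊔ Subgroup.zpowers g).comap f with hJ
  have hle : J.map φ ≤ Subgroup.zpowers (QuotientGroup.mk' K g) := by
    rintro _ ⟨j, hj, rfl⟩
    obtain ⟨k, hk, w, hw, he⟩ := Subgroup.mem_sup_of_normal_left.mp hj
    show QuotientGroup.mk' K (f j) ∈ _
    rw [← he, map_mul, show QuotientGroup.mk' K k = 1 from (QuotientGroup.eq_one_iff k).mpr hk,
      one_mul, ← MonoidHom.map_zpowers]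
    exact ⟨w, hw, rfl⟩
  have hcyc : IsCyclic (J.map φ) := isCyclic_of_injective (Subgroup.inclusion hle)
    (Subgroup.inclusion_injective hle)
  obtain ⟨⟨z, hzm⟩, hz⟩ := hcyc.exists_generator
  obtain ⟨h, hhJ, hh⟩ := hzm
  refine ⟨h, le_antisymm (fun j hj => ?_)
    (sup_le (Subgroup.comap_mono le_sup_left) (Subgroup.zpowers_le.mpr hhJ))⟩
  obtain ⟨m, hm⟩ := hz ⟨φ j, j, hj, rfl⟩
  replace hm := congrArg Subtype.val hm
  have hK : j * (h ^ m)⁻¹ ∈ K.comap f := by
    rw [Subgroup.mem_comap, ← QuotientGroup.eq_one_iff]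
    show φ (j * (h ^ m)⁻¹) = 1
    rw [map_mul, map_inv, map_zpow, hh]
    simp only [SubgroupClass.coe_zpow] at hm
    rw [← hm, mul_inv_cancel]
  have := Subgroup.mul_mem_sup (S := K.comap f) hK
    (Subgroup.zpow_mem (Subgroup.zpowers h) (Subgroup.mem_zpowers h) m)
  simpa using this

theorem SSReach.comap' (f : H →* G) {K : Subgroup G} (h : SSReach K)
    (hbot : SSReach ((⊥ : Subgroup G).comap f)) : SSReach (K.comap f) := by
  induction h with
  | bot => exact hbot
  | @step K g hK hn ih =>
    have := hK.normal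
    obtain ⟨x, hx⟩ := exists_zpowers_sup_comap f K g
    rw [hx]
    exact SSReach.step x ih (hx ▸ hn.comap f)

theorem isSupersolvable_of_injective {f : H →* G} (hf : Function.Injective f)
    (h : Cfsg.IsSupersolvable G) : Cfsg.IsSupersolvable H := by
  rw [isSupersolvable_iff] at h ⊢
  have hb : (⊥ : Subgroup G).comap f = ⊥ := (MonoidHom.ker_eq_bot_iff f).mpr hf
  have := h.comap' f (hb ▸ SSReach.bot)
  rwa [Subgroup.comap_top] at this

theorem isSupersolvable_of_surjective {f : G →* H} (hf : Function.Surjective f)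
    (h : Cfsg.IsSupersolvable G) : Cfsg.IsSupersolvable H := by
  rw [isSupersolvable_iff] at h ⊢
  have := h.map hf
  rwa [Subgroup.map_top_of_surjective f hf] at this

theorem commutator_le_centralizer_of_zpowers_normal (c : G)
    (hn : (Subgroup.zpowers c).Normal) : commutator G ≤ Subgroup.centralizer {c} := by
  rw [commutator_def, Subgroup.commutator_le]
  intro x _ y _
  rw [Subgroup.mem_centralizer_singleton_iff]
  obtain ⟨n, hn'⟩ := hn.conj_mem c (Subgroup.mem_zpowers c) x
  obtain ⟨m, hm⟩ := hn.conj_mem c (Subgroup.mem_zpowers c) y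
  simp only at hn' hm
  have e1 : x * y * c * (x * y)⁻¹ = c ^ (n * m) := by
    rw [show x * y * c * (x * y)⁻¹ = x * (y * c * y⁻¹) * x⁻¹ by group, ← hm, ← conj_zpow, ← hn',
      ← zpow_mul]
  have e2 : y * x * c * (y * x)⁻¹ = c ^ (n * m) := by
    rw [show y * x * c * (y * x)⁻¹ = y * (x * c * x⁻¹) * y⁻¹ by group, ← hn', ← conj_zpow, ← hm,
      ← zpow_mul, mul_comm]
  have e3 : ⁅x, y⁆ * c * ⁅x, y⁆⁻¹ = c := by
    have e4 : ⁅x, y⁆ * c * ⁅x, y⁆⁻¹ =
        x * y * ((y * x)⁻¹ * c * (y * x)) * (x * y)⁻¹ := by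
      simp [commutatorElement_def, mul_assoc]
    obtain ⟨k, hk⟩ : (y * x)⁻¹ * c * (y * x) ∈ Subgroup.zpowers c := by
      simpa using hn.conj_mem c (Subgroup.mem_zpowers c) (y * x)⁻¹
    simp only at hk
    rw [e4, ← hk, ← conj_zpow, e1, ← e2, conj_zpow, hk]
    simp [mul_assoc]
  exact mul_inv_eq_iff_eq_mul.mp e3

end Cfsg.Agent.Grp
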