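import Mathlib
import Cfsg.Prelude.Def_SolvableStructure
import Cfsg.Agent.Lib.Grp.Supersolvable
import Cfsg.Agent.Lib.Grp.Basic
import Cfsg.Agent.Lib.Grp.Frattini

/-!
Criteria for supersolvability: extensions by cyclic groups, and the criterion by a supersolvable
supplement of a normal `p`-subgroup.
-/

namespace Cfsg.Agent.Grp

open Subgroup

theorem isSupersolvable_of_cyclic_normal {G : Type*} [Group G] (N : Subgroup G) [N.Normal]
    [IsCyclic N] (h : Cfsg.IsSupersolvable (G ⧸ N)) : Cfsg.IsSupersolvable G := by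
  rw [isSupersolvable_iff] at h ⊢
  have hbot : SSReach ((⊥ : Subgroup (G ⧸ N)).comap (QuotientGroup.mk' N)) := by
    rw [MonoidHom.comap_bot, QuotientGroup.ker_mk']
    obtain ⟨⟨g, hg⟩, hgen⟩ := IsCyclic.exists_generator (α := N)
    have e : N = (⊥ : Subgroup G) ⊔ Subgroup.zpowers g := by
      rw [bot_sup_eq]
      refine le_antisymm (fun x hx => ?_) (Subgroup.zpowers_le.mpr hg)
      obtain ⟨m, hm⟩ := hgen ⟨x, hx⟩
      exact ⟨m, congrArg Subtype.val hm⟩
    have hn : ((⊥ : Subgroup G) ⊔ Subgroup.zpowers g).Normal := e ▸ inferInstance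
    rw [e]
    exact SSReach.step g SSReach.bot hn
  have := h.comap' _ hbot
  rwa [Subgroup.comap_top] at this

theorem exists_prime_normal_le {G : Type*} [Group G] [Finite G] (hG : Cfsg.IsSupersolvable G)
    (N : Subgroup G) [hN : N.Normal] (hne : N ≠ ⊥) :
    ∃ C : Subgroup G, C.Normal ∧ C ≤ N ∧ (Nat.card C).Prime := by
  have key : ∀ K : Subgroup G, SSReach K →
      N ⊓ K = ⊥ ∨ ∃ C : Subgroup G, C.Normal ∧ C ≤ N ∧ (Nat.card C).Prime := by
    intro K hK
    induction hK with
    | bot => exact Or.inl (inf_bot_eq N)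
    | @step K g hK hn ih =>
      rcases ih with hbot | h
      swap
      · exact Or.inr h
      by_cases hne' : N ⊓ (K ⊔ Subgroup.zpowers g) = ⊥
      · exact Or.inl hne'
      right
      haveI := hK.normal
      obtain ⟨x, hx⟩ := exists_zpowers_sup_comap N.subtype K g
      have e : N ⊓ (K ⊔ Subgroup.zpowers g) = Subgroup.zpowers (x : G) := by
        have h := congrArg (Subgroup.map N.subtype) hx
        rw [Subgroup.map_sup, Subgroup.map_comap_eq, Subgroup.map_comap_eq, Subgroup.range_subtype,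
          hbot, bot_sup_eq, MonoidHom.map_zpowers] at h
        exact h
      have hxn : (Subgroup.zpowers (x : G)).Normal := e ▸ inferInstance
      have hx1 : (x : G) ≠ 1 := fun h => hne' (by rw [e, h, Subgroup.zpowers_one_eq_bot])
      obtain ⟨r, hr, hdvd⟩ := Nat.exists_prime_and_dvd (n := orderOf (x : G)) (by simpa using hx1)
      refine ⟨Subgroup.zpowers ((x : G) ^ (orderOf (x : G) / r)), ⟨fun z hz y => ?_⟩, ?_, ?_⟩
      · obtain ⟨i, rfl⟩ := Subgroup.mem_zpowers_iff.mp hz
        obtain ⟨j, hj⟩ := hxn.conj_mem (x : G) (Subgroup.mem_zpowers _) y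
        simp only at hj
        refine Subgroup.mem_zpowers_iff.mpr ⟨j * i, ?_⟩
        rw [← conj_zpow, ← conj_pow, ← hj, ← zpow_natCast, ← zpow_natCast, ← zpow_mul,
          ← zpow_mul, ← zpow_mul]
        congr 1
        ring
      · exact Subgroup.zpowers_le.mpr (Subgroup.pow_mem _ x.2 _)
      · rw [Nat.card_zpowers, orderOf_pow_orderOf_div (orderOf_pos _).ne' hdvd]
        exact hr
  rcases key ⊤ (isSupersolvable_iff.mp hG) with h | h
  · exact absurd (by simpa using h) hne
  · exact h

universe u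

/-- If a normal `p`-subgroup `P` has a supersolvable supplement `M` meeting it in a normal
subgroup of index `p`, the group is supersolvable. -/
theorem isSupersolvable_of_supplement {p : ℕ} [hp : Fact p.Prime] :
    ∀ (n : ℕ) {G : Type u} [Group G] [Finite G] (P M : Subgroup G) [P.Normal],
      Nat.card G = n → IsPGroup p P → Cfsg.IsSupersolvable M → P ⊔ M = ⊤ → (M ⊓ P).Normal →
      (M ⊓ P).relIndex P = p → Cfsg.IsSupersolvable G := by
  intro n
  induction n using Nat.strong_induction_on with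
  | _ n IH =>
  intro G _ _ P M _ hcard hP hM hPM hn hidx
  have surj : ∀ (N : Subgroup G) [N.Normal], P ≤ N →
      Function.Surjective ((QuotientGroup.mk' N).comp M.subtype) := by
    intro N _ hle y
    obtain ⟨g, rfl⟩ := QuotientGroup.mk'_surjective N y
    obtain ⟨x, hx, m, hm, rfl⟩ := Subgroup.mem_sup_of_normal_left.mp
      (hPM ▸ Subgroup.mem_top g : g ∈ P ⊔ M)
    refine ⟨⟨m, hm⟩, ?_⟩
    show QuotientGroup.mk' N m = _
    rw [map_mul, show QuotientGroup.mk' N x = 1 from (QuotientGroup.eq_one_iff x).mpr (hle hx),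
      one_mul]
  by_cases h0 : M ⊓ P = ⊥
  · rw [h0, Subgroup.relIndex_bot_left] at hidx
    haveI : IsCyclic P := isCyclic_of_prime_card hidx
    exact isSupersolvable_of_cyclic_normal P
      (isSupersolvable_of_surjective (surj P le_rfl) hM)
  haveI := hn
  obtain ⟨N, hNn, hN0, hNle, hNmin⟩ := exists_minimal_normal_le h0
  haveI := hNn
  have hNP : N ≤ P := hNle.trans inf_le_right
  have hNM : N ≤ M := hNle.trans inf_le_left
  -- `N` is centralized by `P`
  have hcent : ∀ x ∈ P, ∀ z ∈ N, x * z = z * x := by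
    haveI : Group.IsNilpotent P := hP.isNilpotent
    have hne : N.subgroupOf P ≠ ⊥ := by
      intro h
      rw [Subgroup.subgroupOf_eq_bot, disjoint_iff, inf_eq_left.mpr hNP] at h
      exact hN0 h
    have hm := inf_center_ne_bot (N.subgroupOf P) hne
    let Z : Subgroup G := (Subgroup.center P).map P.subtype
    have hZn : Z.Normal := normal_of_characteristic_map (Subgroup.center P)
    have hle : N ≤ Z := by
      have : N ⊓ Z = N := by
        refine (hNmin _ inferInstance inf_le_left).resolve_left ?_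
        intro h
        obtain ⟨⟨z, hz⟩, hzne⟩ := (Subgroup.ne_bot_iff_exists_ne_one).mp hm
        have : (z : G) ∈ N ⊓ Z := ⟨hz.1, ⟨z, hz.2, rfl⟩⟩
        rw [h, Subgroup.mem_bot] at this
        exact hzne (Subtype.ext (Subtype.ext this))
      exact this ▸ inf_le_right
    intro x hx z hz
    obtain ⟨w, hw, rfl⟩ := hle hz
    exact congrArg Subtype.val (Subgroup.mem_center_iff.mp hw ⟨x, hx⟩)
  -- `N` has prime order
  obtain ⟨C, hCn, hCN, hCp⟩ := exists_prime_normal_le hM (N.subgroupOf M) (by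
    intro h
    rw [Subgroup.subgroupOf_eq_bot, disjoint_iff, inf_eq_left.mpr hNM] at h
    exact hN0 h)
  have hCGn : (C.map M.subtype).Normal := by
    refine ⟨fun z hz g => ?_⟩
    obtain ⟨c, hc, rfl⟩ := hz
    obtain ⟨x, hx, m, hm, rfl⟩ := Subgroup.mem_sup_of_normal_left.mp
      (hPM ▸ Subgroup.mem_top g : g ∈ P ⊔ M)
    have h1 : m * (c : G) * m⁻¹ ∈ C.map M.subtype :=
      ⟨⟨m, hm⟩ * c * ⟨m, hm⟩⁻¹, hCn.conj_mem c hc _, rfl⟩
    have h2 : m * (c : G) * m⁻¹ ∈ N := hNn.conj_mem _ (hCN hc) m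
    have h3 : x * (m * (c : G) * m⁻¹) * x⁻¹ = m * (c : G) * m⁻¹ := by
      rw [hcent x hx _ h2, mul_inv_cancel_right]
    have h4 : x * m * (M.subtype c) * (x * m)⁻¹ = x * (m * (c : G) * m⁻¹) * x⁻¹ := by
      simp [mul_assoc]
    rw [h4, h3]
    exact h1
  have hCN' : C.map M.subtype = N := by
    refine (hNmin _ hCGn ?_).resolve_left ?_
    swap
    · rw [Subgroup.map_eq_bot_iff_of_injective _ M.subtype_injective]
      intro h
      exact hCp.ne_one (by rw [h, Subgroup.card_bot])
    · rintro _ ⟨c, hc, rfl⟩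
      exact hCN hc
  haveI : Fact (Nat.card C).Prime := ⟨hCp⟩
  haveI : IsCyclic N := isCyclic_of_prime_card (p := Nat.card C) (by
    rw [← hCN', Subgroup.card_subtype])
  refine isSupersolvable_of_cyclic_normal N ?_
  set f := QuotientGroup.mk' N with hf
  have hfs : Function.Surjective f := QuotientGroup.mk'_surjective N
  haveI : (P.map f).Normal := Subgroup.Normal.map inferInstance f hfs
  have hinf : M.map f ⊓ P.map f = (M ⊓ P).map f := by
    refine le_antisymm ?_ (Subgroup.map_inf_le M P f)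
    rintro y ⟨⟨m, hm, rfl⟩, ⟨x, hx, he⟩⟩
    refine ⟨m, ⟨hm, ?_⟩, rfl⟩
    have : x⁻¹ * m ∈ N := by
      rw [← QuotientGroup.eq_one_iff (N := N)]
      show f (x⁻¹ * m) = 1
      rw [map_mul, map_inv, he, inv_mul_cancel]
    simpa using mul_mem hx (hNP this)
  refine IH _ (hcard ▸ card_quotient_lt hN0) (P.map f) (M.map f) rfl (hP.map f)
    (isSupersolvable_of_surjective (f.subgroupMap_surjective M) hM) ?_ ?_ ?_
  · rw [← Subgroup.map_sup, hPM, Subgroup.map_top_of_surjective f hfs]
  · rw [hinf]; exact hn.map f hfs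
  · rw [hinf, Subgroup.relIndex_map_map, hf, QuotientGroup.ker_mk', sup_eq_left.mpr hNle,
      sup_eq_left.mpr hNP]
    exact hidx

end Cfsg.Agent.Grp
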