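import Mathlib.GroupTheory.Sylow
import Mathlib.Data.Fintype.Perm
import Mathlib.LinearAlgebra.Matrix.Defs

/-! Two groups sharing a multiplication table of a Sylow subgroup. -/

set_option autoImplicit false

namespace Cfsg.Agent.SylModel

/-- A table with transitions, parents and letters. -/
structure Table (n m : ℕ) where
  T : Fin (n + 1) → Fin m → Fin (n + 1)
  reach : ∀ i : Fin (n + 1), i ≠ 0 → ∃ j k, j < i ∧ T j k = i

/-- A realisation of a table in a group. -/
structure Real {n m : ℕ} (t : Table n m) (G : Type*) [Group G] where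
  el : Fin (n + 1) → G
  one : el 0 = 1
  mul : ∀ i k, el i * el (t.T 0 k) = el (t.T i k)
  faithful : ∀ i, el i = 1 → i = 0

theorem model_iso {n m : ℕ} {t : Table n m} {G H : Type*} [Group G] [Group H] [Finite G] [Finite H]
    (a : Real t G) (b : Real t H) (ha : Function.Injective a.el) :
    ∃ (A : Subgroup G) (B : Subgroup H), Nat.card A = n + 1 ∧ Nat.card B = n + 1 ∧
      (∀ x ∈ A, x ∈ Set.range a.el) ∧ Nonempty (A ≃* B) := by
  classical
  let e : Fin (n + 1) → G × H := fun i => (a.el i, b.el i)
  let gens : Set (G × H) := Set.range fun k => e (t.T 0 k)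
  let D : Subgroup (G × H) := Subgroup.closure gens
  have h1 : ∀ i, e i ∈ D := by
    intro i
    induction hv : i.val using Nat.strong_induction_on generalizing i with
    | _ v ih =>
      by_cases hi : i = 0
      · subst hi
        show (a.el 0, b.el 0) ∈ D
        rw [a.one, b.one]; exact D.one_mem
      · obtain ⟨j, k, hji, hjk⟩ := t.reach i hi
        have : e j * e (t.T 0 k) = e i := by
          rw [← hjk]; exact Prod.ext (a.mul j k) (b.mul j k)
        rw [← this]
        exact D.mul_mem (ih j.val (hv ▸ hji) j rfl) (Subgroup.subset_closure ⟨k, rfl⟩)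
  have h2 : ∀ x ∈ D, ∃ i, e i = x := by
    have hD : (D : Set (G × H)) = Submonoid.closure gens := by
      rw [← Subgroup.coe_toSubmonoid, Subgroup.closure_toSubmonoid_of_finite]
    intro x hx
    rw [← SetLike.mem_coe, hD, SetLike.mem_coe] at hx
    induction hx using Submonoid.closure_induction_right with
    | one => exact ⟨0, Prod.ext a.one b.one⟩
    | mul_right x hx y hy ih =>
      obtain ⟨i, rfl⟩ := ih
      obtain ⟨k, rfl⟩ := hy
      exact ⟨t.T i k, Prod.ext (a.mul i k).symm (b.mul i k).symm⟩
  have hf : Function.Injective ((MonoidHom.fst G H).comp D.subtype) := by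
    rw [injective_iff_map_eq_one]
    rintro ⟨x, hx⟩ hx1
    obtain ⟨i, rfl⟩ := h2 x hx
    obtain rfl := a.faithful i hx1
    exact Subtype.ext (Prod.ext a.one b.one)
  have hs : Function.Injective ((MonoidHom.snd G H).comp D.subtype) := by
    rw [injective_iff_map_eq_one]
    rintro ⟨x, hx⟩ hx1
    obtain ⟨i, rfl⟩ := h2 x hx
    obtain rfl := b.faithful i hx1
    exact Subtype.ext (Prod.ext a.one b.one)
  have hinj : Function.Injective e := fun i j hij => ha (congrArg Prod.fst hij)
  have hcard : Nat.card D = n + 1 := by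
    rw [← Nat.card_congr (Equiv.ofBijective (fun i => (⟨e i, h1 i⟩ : D)) ⟨fun i j h => hinj (congrArg Subtype.val h),
      fun x => (h2 x x.2).imp fun i hi => Subtype.ext hi⟩), Nat.card_eq_fintype_card, Fintype.card_fin]
  let A := ((MonoidHom.fst G H).comp D.subtype).range
  let B := ((MonoidHom.snd G H).comp D.subtype).range
  refine ⟨A, B, ?_, ?_, ?_, ⟨(MonoidHom.ofInjective hf).symm.trans (MonoidHom.ofInjective hs)⟩⟩
  · rw [← Nat.card_congr (MonoidHom.ofInjective hf).toEquiv, hcard]
  · rw [← Nat.card_congr (MonoidHom.ofInjective hs).toEquiv, hcard]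
  · rintro _ ⟨⟨x, hx⟩, rfl⟩
    obtain ⟨i, rfl⟩ := h2 x hx
    exact ⟨i, rfl⟩

end Cfsg.Agent.SylModel
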