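import Mathlib

/-!
# Maximal subgroups containing the normalizer of a Sylow subgroup
-/

namespace Cfsg.Agent.Grp.SylMax

variable {G : Type*} [Group G] [Finite G] {p : ℕ} [Fact p.Prime]

/-- A subgroup containing a Sylow normalizer has index congruent to one. -/
theorem index_modEq_one (P : Sylow p G) {M : Subgroup G}
    (hM : Subgroup.normalizer ((P : Subgroup G) : Set G) ≤ M) : M.index ≡ 1 [MOD p] := by
  have h1 : Nat.card (Sylow p G) ≡ 1 [MOD p] := card_sylow_modEq_one p G
  set Q := P.subtype (Subgroup.le_normalizer.trans hM)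
  have h2 : Nat.card (Sylow p M) ≡ 1 [MOD p] := card_sylow_modEq_one p M
  rw [P.card_eq_index_normalizer] at h1
  change (Subgroup.normalizer ((P : Subgroup G) : Set G)).index ≡ 1 [MOD p] at h1
  rw [← Subgroup.relIndex_mul_index hM] at h1
  have he : Subgroup.normalizer ((Q : Subgroup M) : Set M) =
      (Subgroup.normalizer ((P : Subgroup G) : Set G)).subgroupOf M := by
    show Subgroup.normalizer (((P : Subgroup G).subgroupOf M : Subgroup M) : Set M) = _
    exact (Subgroup.subgroupOf_normalizer_eq (Subgroup.le_normalizer.trans hM)).symm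
  rw [Q.card_eq_index_normalizer] at h2
  change (Subgroup.normalizer ((Q : Subgroup M) : Set M)).index ≡ 1 [MOD p] at h2
  rw [he] at h2
  change Subgroup.relIndex _ M ≡ 1 [MOD p] at h2
  have h3 := (h2.mul_right M.index).symm.trans h1
  rwa [one_mul] at h3

/-- For the largest prime divisor, a Sylow subgroup is normal unless some maximal subgroup has
index congruent to one modulo it. -/
theorem normal_or_coatom (P : Sylow p G) : (P : Subgroup G).Normal ∨
    ∃ M : Subgroup G, IsCoatom M ∧ M.index ≡ 1 [MOD p] ∧ ¬ p ∣ M.index ∧ 1 < M.index := by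
  rcases eq_top_or_exists_le_coatom (Subgroup.normalizer ((P : Subgroup G) : Set G)) with h | ⟨M, hM, hle⟩
  · exact Or.inl (Subgroup.normalizer_eq_top_iff.1 h)
  · refine Or.inr ⟨M, hM, index_modEq_one P hle, fun hd => P.not_dvd_index
      (hd.trans (Subgroup.index_dvd_of_le (Subgroup.le_normalizer.trans hle))), ?_⟩
    have := mt Subgroup.index_eq_one.1 hM.1
    have := M.index_ne_zero_of_finite
    omega

universe u

/-- Solvability from a condition on maximal indices. -/
theorem isSolvable_of_coatom_index (Q : ℕ → Prop)
    (hQ : ∀ p i : ℕ, p.Prime → Q i → i ≡ 1 [MOD p] → ¬ p ∣ i → 1 < i →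
      (∀ q : ℕ, q.Prime → q ∣ i → q < p) → p = 3) :
    ∀ (n : ℕ) (X : Type u) [Group X] [Finite X], Nat.card X = n →
      (∀ M : Subgroup X, IsCoatom M → Q M.index) →
      (∀ (Y : Type u) [Group Y] [Finite Y] (a b : ℕ), Nat.card Y = 2 ^ a * 3 ^ b → Group.IsSolvable Y) →
      Group.IsSolvable X := by
  intro n
  induction n using Nat.strong_induction_on with
  | _ n ih =>
    intro X _ _ hn hmax hburn
    rcases subsingleton_or_nontrivial X with hss | hnt
    · exact Group.isSolvable_of_comm fun x y => Subsingleton.elim _ _
    have hne : (Nat.card X).primeFactors.Nonempty := Nat.nonempty_primeFactors.2 Finite.one_lt_card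
    set p := (Nat.card X).primeFactors.max' hne
    have hp := Nat.mem_primeFactors.1 ((Nat.card X).primeFactors.max'_mem hne)
    haveI : Fact p.Prime := ⟨hp.1⟩
    have hle : ∀ q : ℕ, q.Prime → q ∣ Nat.card X → q ≤ p := fun q hq hd =>
      Finset.le_max' _ q (Nat.mem_primeFactors.2 ⟨hq, hd, Nat.card_pos.ne'⟩)
    let P : Sylow p X := default
    rcases normal_or_coatom P with hP | ⟨M, hM, hmod, hnd, h1⟩
    · have hne' : (P : Subgroup X) ≠ ⊥ := P.ne_bot_of_dvd_card hp.2.1
      haveI := hP
      have hmul := (P : Subgroup X).index_mul_card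
      have h2 : 1 < Nat.card (P : Subgroup X) := (Subgroup.one_lt_card_iff_ne_bot _).2 hne'
      have hpos := Nat.pos_of_ne_zero (P : Subgroup X).index_ne_zero_of_finite
      haveI := ih (P : Subgroup X).index (by rw [← hn, ← hmul]; nlinarith) (X ⧸ (P : Subgroup X))
        (P : Subgroup X).index_eq_card.symm (fun M hM => by
          have hc := Subgroup.index_comap_of_surjective M (QuotientGroup.mk'_surjective (P : Subgroup X))
          rw [← hc]
          refine hmax _ ⟨fun ht => hM.1 ?_, fun K hK => ?_⟩
          · exact Subgroup.comap_injective (QuotientGroup.mk'_surjective _) (ht.trans (Subgroup.comap_top _).symm)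
          · have hPK : (QuotientGroup.mk' (P : Subgroup X)).ker ≤ K :=
              (Subgroup.ker_le_comap _ M).trans hK.le
            have hmap : M < K.map (QuotientGroup.mk' (P : Subgroup X)) := by
              refine lt_of_le_of_ne ?_ fun e => hK.ne ?_
              · calc M = (M.comap (QuotientGroup.mk' (P : Subgroup X))).map (QuotientGroup.mk' _) :=
                      (Subgroup.map_comap_eq_self_of_surjective (QuotientGroup.mk'_surjective _) M).symm
                  _ ≤ _ := Subgroup.map_mono hK.le
              · rw [e, Subgroup.comap_map_eq_self hPK]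
            rw [← Subgroup.comap_map_eq_self hPK, hM.2 _ hmap, Subgroup.comap_top]) hburn
      haveI : Group.IsNilpotent (P : Subgroup X) := P.isPGroup'.isNilpotent
      exact Group.isSolvable_of_ker_le_range (P : Subgroup X).subtype (QuotientGroup.mk' (P : Subgroup X))
        (le_of_eq (by simp))
    · have hlt : ∀ q : ℕ, q.Prime → q ∣ M.index → q < p := fun q hq hd =>
        lt_of_le_of_ne (hle q hq (hd.trans M.index_dvd_card)) fun e => hnd (e ▸ hd)
      have h3 := hQ p M.index hp.1 (hmax M hM) hmod hnd h1 hlt
      refine hburn X ((Nat.card X).factorization 2) ((Nat.card X).factorization 3) ?_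
      conv_lhs => rw [← Nat.prod_factorization_pow_eq_self (Nat.card_pos (α := X)).ne']
      rw [Finsupp.prod_of_support_subset _ (s := {2, 3}) (fun q hq => ?_) _ (fun i _ => pow_zero i),
        Finset.prod_pair (by norm_num)]
      rw [Nat.support_factorization, Nat.mem_primeFactors] at hq
      have h4 := hle q hq.1 hq.2.1
      have h5 := hq.1.two_le
      simp only [Finset.mem_insert, Finset.mem_singleton]
      omega

end Cfsg.Agent.Grp.SylMax
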