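import Mathlib
import Cfsg.Prelude.Def_Solvable
import Cfsg.Agent.Lib.Grp.ThreeCounts
import Cfsg.Agent.Lib.Grp.CountCyclic
import Cfsg.Agent.Lib.Grp.Cores
import Cfsg.Agent.Lib.Grp.Frattini

/-!
Groups of odd order with three count values and two prime divisors.
-/

set_option autoImplicit false
set_option linter.unusedSectionVars false

namespace Cfsg.Agent.Grp.ThreeCounts

open TwoCounts
open scoped Pointwise

universe u

theorem norm_ne_one {G : Type*} [Group G] [Finite G] {V Z : Subgroup G} {y : G} {q : ℕ} (hq : 0 < q)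
    (hVc : IsMulCommutative V) (hV : V ≠ ⊥) (hZc : IsMulCommutative Z) (hZV : ∀ z ∈ Z, ∀ v ∈ V, z * v * z⁻¹ ∈ V)
    (hyV : ∀ v ∈ V, y * v * y⁻¹ ∈ V) (hyZ : ∀ z ∈ Z, y * z * y⁻¹ ∈ Z) (hyq : y ^ q = 1)
    (hcop : (Nat.card Z).Coprime (Nat.card V))
    (hZfix : ∀ v ∈ V, (∀ z ∈ Z, z * v = v * z) → v = 1)
    (hyfix : ∀ j, 0 < j → j < q → ∀ z ∈ Z, y ^ j * z = z * y ^ j → z = 1) :
    ∃ v ∈ V, (v * y) ^ q ≠ 1 := by
  classical
  have := Fintype.ofFinite Z
  let M : CommGroup V := { (inferInstance : Group V) with mul_comm := fun a b => hVc.is_comm.comm a b }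
  by_contra hno
  push Not at hno
  have hpow : ∀ j z, z ∈ Z → y ^ j * z * (y ^ j)⁻¹ ∈ Z := by
    intro j
    induction j with
    | zero => intro z hz; simpa using hz
    | succ j ih =>
      intro z hz
      have := ih _ (hyZ z hz)
      rwa [pow_succ, mul_inv_rev, show y ^ j * y * z * (y⁻¹ * (y ^ j)⁻¹) = y ^ j * (y * z * y⁻¹) * (y ^ j)⁻¹ by group]
  have hpowV : ∀ j v, v ∈ V → y ^ j * v * (y ^ j)⁻¹ ∈ V := by
    intro j
    induction j with
    | zero => intro z hz; simpa using hz
    | succ j ih =>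
      intro z hz
      have := ih _ (hyV z hz)
      rwa [pow_succ, mul_inv_rev, show y ^ j * y * z * (y⁻¹ * (y ^ j)⁻¹) = y ^ j * (y * z * y⁻¹) * (y ^ j)⁻¹ by group]
  let cz : Z → V →* V := fun z =>
    { toFun := fun v => ⟨(z : G) * v * (z : G)⁻¹, hZV z z.2 v v.2⟩
      map_one' := Subtype.ext (by simp)
      map_mul' := fun a b => Subtype.ext (by simp [mul_assoc]) }
  let cy : ℕ → V →* V := fun j =>
    { toFun := fun v => ⟨y ^ j * v * (y ^ j)⁻¹, hpowV j v v.2⟩
      map_one' := Subtype.ext (by simp)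
      map_mul' := fun a b => Subtype.ext (by simp [mul_assoc]) }
  have hczmul : ∀ a b v, cz (a * b) v = cz a (cz b v) := fun a b v => Subtype.ext (by simp [cz, mul_assoc])
  have hS : ∀ v : V, ∏ a : Z, cz a v = 1 := by
    intro v
    refine Subtype.ext (hZfix _ (∏ a : Z, cz a v : V).2 fun z hz => ?_)
    have h1 : cz ⟨z, hz⟩ (∏ a : Z, cz a v) = ∏ a : Z, cz a v := by
      rw [map_prod]
      exact Fintype.prod_equiv (Equiv.mulLeft ⟨z, hz⟩) _ _ fun a => (hczmul _ _ _).symm
    exact mul_inv_eq_iff_eq_mul.mp (congrArg Subtype.val h1)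
  -- products over `⟨y⟩` are trivial
  have hexp : ∀ (v : V) (j : ℕ), ((v : G) * y) ^ j = ((∏ i ∈ Finset.range j, cy i v : V) : G) * y ^ j := by
    intro v j
    induction j with
    | zero => simp
    | succ j ih =>
      rw [pow_succ, ih, Finset.prod_range_succ, Subgroup.coe_mul]
      show _ = ((∏ i ∈ Finset.range j, cy i v : V) : G) * (y ^ j * (v : G) * (y ^ j)⁻¹) * y ^ (j + 1)
      rw [pow_succ]
      group
  have hT : ∀ v : V, ∏ j ∈ Finset.range q, cy j v = 1 := fun v => Subtype.ext (by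
    have h := hno v v.2
    rw [hexp, hyq, mul_one] at h
    exact h)
  obtain ⟨w, hw, hw1⟩ : ∃ w ∈ V, w ≠ 1 := by
    by_contra h
    push Not at h
    exact hV ((Subgroup.eq_bot_iff_forall _).mpr h)
  set v : V := ⟨w, hw⟩
  have h0 : ∏ a : Z, ∏ j ∈ Finset.range q, cz a (cy j (cz a⁻¹ v)) = 1 :=
    Finset.prod_eq_one fun a _ => by rw [← map_prod, hT, map_one]
  rw [Finset.prod_comm, Finset.prod_eq_single_of_mem 0 (Finset.mem_range.mpr hq)] at h0
  · have h1 : ∀ a : Z, cz a (cy 0 (cz a⁻¹ v)) = v := fun a => Subtype.ext (by simp [cz, cy, mul_assoc])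
    rw [Finset.prod_congr rfl fun a _ => h1 a, Finset.prod_const, Finset.card_univ, ← Nat.card_eq_fintype_card] at h0
    have h2 : orderOf v ∣ Nat.card Z := orderOf_dvd_of_pow_eq_one h0
    exact hw1 (congrArg Subtype.val (orderOf_eq_one_iff.mp
      (Nat.eq_one_of_dvd_coprimes hcop h2 (orderOf_dvd_natCard v))))
  · intro j hj hj0
    let α : Z → Z := fun a => ⟨y ^ j * (a : G) * (y ^ j)⁻¹, hpow j a a.2⟩
    have hαmul : ∀ a b, α (a * b) = α a * α b := fun a b => Subtype.ext (by simp [α, mul_assoc])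
    let δ : Z →* Z := MonoidHom.mk' (fun a => a * (α a)⁻¹) fun a b => by
      rw [hαmul, mul_inv_rev, hZc.is_comm.comm (α b)⁻¹ (α a)⁻¹]
      rw [mul_assoc, ← mul_assoc b, hZc.is_comm.comm b (α a)⁻¹]
      simp only [mul_assoc]
    have hδ : Function.Injective δ := (injective_iff_map_eq_one δ).mpr fun a ha => by
      have h1 : α a = a := (mul_inv_eq_one.mp ha).symm
      refine Subtype.ext (hyfix j (Nat.pos_of_ne_zero hj0) (Finset.mem_range.mp hj) a a.2 ?_)
      exact mul_inv_eq_iff_eq_mul.mp (congrArg Subtype.val h1)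
    have hval : ∀ a : Z, cz a (cy j (cz a⁻¹ v)) = cz (δ a) (cy j v) := fun a => Subtype.ext (by
      simp [cz, cy, δ, α, mul_assoc])
    rw [Finset.prod_congr rfl fun a _ => hval a,
      Fintype.prod_bijective δ (Finite.injective_iff_bijective.mp hδ) (fun a => cz (δ a) (cy j v)) (fun a => cz a (cy j v))
        fun a => rfl]
    exact hS _

theorem eq_of_card_cyclic {G : Type*} [Group G] [Finite G] {C D₁ D₂ : Subgroup G} (hC : IsCyclic C)
    (h1 : D₁ ≤ C) (h2 : D₂ ≤ C) (h : Nat.card D₁ = Nat.card D₂) : D₁ = D₂ := by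
  classical
  cases nonempty_fintype G
  set m := Nat.card D₁
  let U : Finset C := Finset.univ.filter fun x : C => x ^ m = 1
  have hU : U.card ≤ m := IsCyclic.card_pow_eq_one_le Nat.card_pos
  have key : ∀ D : Subgroup G, D ≤ C → Nat.card D = m → ∀ x : C, (x : G) ∈ D ↔ x ∈ U := by
    intro D hD hDm
    have hsub : (Finset.univ.filter fun x : C => (x : G) ∈ D) ⊆ U := fun x hx => by
      simp only [Finset.mem_filter, Finset.mem_univ, true_and, U] at hx ⊢
      refine Subtype.ext ?_
      have := pow_card_eq_one' (G := D) (x := ⟨x, hx⟩)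
      rw [hDm] at this
      exact (congrArg Subtype.val this :)
    have hcard : (Finset.univ.filter fun x : C => (x : G) ∈ D).card = m := by
      rw [← hDm, ← Fintype.card_subtype, ← Nat.card_eq_fintype_card]
      exact Nat.card_congr (Subgroup.subgroupOfEquivOfLe hD).toEquiv
    have e := Finset.eq_of_subset_of_card_le hsub (by omega)
    intro x
    rw [← e]
    simp
  ext x
  constructor
  · intro hx; exact (key D₂ h2 h.symm ⟨x, h1 hx⟩).mpr ((key D₁ h1 rfl ⟨x, h1 hx⟩).mp hx)
  · intro hx; exact (key D₁ h1 rfl ⟨x, h2 hx⟩).mpr ((key D₂ h2 h.symm ⟨x, h2 hx⟩).mp hx)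

variable {G : Type u} [Group G] [Finite G]

theorem card_eq_sum (s : Finset ℕ) (h : ∀ g : G, orderOf g ∈ s) : Nat.card G = ∑ m ∈ s, cnt G m := by
  classical
  cases nonempty_fintype G
  rw [Nat.card_eq_fintype_card, ← Finset.card_univ, Finset.card_eq_sum_card_fiberwise (f := orderOf) (t := s) (fun g _ => h g)]
  refine Finset.sum_congr rfl fun m _ => ?_
  rw [cnt, Nat.card_eq_fintype_card, Fintype.card_subtype]

variable {a b : ℕ} (hodd : Odd (Nat.card G)) (ha : 2 ≤ a) (hb : 2 ≤ b) (hab : a ≠ b)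
  (hV : ∀ g : G, g ≠ 1 → cnt G (orderOf g) = a ∨ cnt G (orderOf g) = b)

include hodd ha hb hab hV

theorem two_primes (h2 : (Nat.card G).primeFactors.card = 2) :
    (∀ (p : ℕ) [Fact p.Prime] (P : Sylow p G), p ∣ Nat.card G → Monoid.exponent ↥(P : Subgroup G) = p) ∧
      ∃ C : Subgroup G, Cfsg.IsFrobeniusComplement C ∧ (Nat.card ↥C).Prime := by
  classical
  obtain ⟨p₀, q₀, hne₀, heq⟩ := Finset.card_eq_two.mp h2
  have hpq₀ : p₀.Prime ∧ p₀ ∣ Nat.card G ∧ q₀.Prime ∧ q₀ ∣ Nat.card G := by
    have h1 : p₀ ∈ (Nat.card G).primeFactors := by rw [heq]; simp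
    have h3 : q₀ ∈ (Nat.card G).primeFactors := by rw [heq]; simp
    exact ⟨(Nat.mem_primeFactors.mp h1).1, (Nat.mem_primeFactors.mp h1).2.1,
      (Nat.mem_primeFactors.mp h3).1, (Nat.mem_primeFactors.mp h3).2.1⟩
  obtain ⟨hp₀, hp₀d, hq₀, hq₀d⟩ := hpq₀
  have htwo : ∀ x : ℕ, x.Prime → x ∣ Nat.card G → x = p₀ ∨ x = q₀ := by
    intro x hx hxd
    have : x ∈ (Nat.card G).primeFactors := Nat.mem_primeFactors.mpr ⟨hx, hxd, Nat.card_pos.ne'⟩
    rw [heq] at this
    simpa using this
  -- the solvable group has a normal `r`-subgroup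
  haveI hsol : Group.IsSolvable G := by
    by_contra hns
    obtain ⟨x, hx, hxd, h1, h3⟩ := EPPO.exists_third_prime hns hp₀ hq₀
    rcases htwo x hx hxd with e | e
    · exact h1 e
    · exact h3 e
  haveI : Nontrivial G := Finite.one_lt_card_iff_nontrivial.mp
    (lt_of_lt_of_le hp₀.one_lt (Nat.le_of_dvd Nat.card_pos hp₀d))
  obtain ⟨r, N₀, hr, hN₀n, hN₀p, hN₀1⟩ := Graph.exists_normal_pGroup (G := G)
  haveI hrf := Fact.mk hr
  have hrd : r ∣ Nat.card G := by
    obtain ⟨k, hk⟩ := IsPGroup.iff_card.mp hN₀p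
    have hk0 : k ≠ 0 := fun e => hN₀1 (Subgroup.card_eq_one.mp (by rw [hk, e, pow_zero]))
    exact (hk ▸ dvd_pow_self r hk0).trans N₀.card_subgroup_dvd_card
  obtain ⟨s, hs, hsd, hrs, htwo'⟩ : ∃ s, s.Prime ∧ s ∣ Nat.card G ∧ r ≠ s ∧
      ∀ x : ℕ, x.Prime → x ∣ Nat.card G → x = r ∨ x = s := by
    rcases htwo r hr hrd with rfl | rfl
    · exact ⟨q₀, hq₀, hq₀d, hne₀, htwo⟩
    · exact ⟨p₀, hp₀, hp₀d, hne₀.symm, fun x hx hxd => (htwo x hx hxd).symm⟩
  haveI hsf := Fact.mk hs
  -- counts differ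
  set v := cnt G r with hv
  set w := cnt G s with hw
  have hvw : (v = a ∧ w = b) ∨ (v = b ∧ w = a) := by
    rcases cnt_prime_mem hodd ha hb hab hV hr hrd with e1 | e1 <;>
      rcases cnt_prime_mem hodd ha hb hab hV hs hsd with e2 | e2
    · exfalso
      refine not_all_same hodd ha hb hab hV (Or.inl ⟨rfl, rfl⟩) (fun x hx hxd => ?_) hr hs hrs hrd hsd
      rcases htwo' x hx hxd with rfl | rfl <;> assumption
    · exact Or.inl ⟨e1, e2⟩
    · exact Or.inr ⟨e1, e2⟩
    · exfalso
      refine not_all_same hodd ha hb hab hV (Or.inr ⟨rfl, rfl⟩) (fun x hx hxd => ?_) hr hs hrs hrd hsd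
      rcases htwo' x hx hxd with rfl | rfl <;> assumption
  have hv2 : 2 ≤ v := by rcases hvw with ⟨e, -⟩ | ⟨e, -⟩ <;> rw [e] <;> assumption
  have hw2 : 2 ≤ w := by rcases hvw with ⟨-, e⟩ | ⟨-, e⟩ <;> rw [e] <;> assumption
  have hV' : ∀ g : G, g ≠ 1 → cnt G (orderOf g) = v ∨ cnt G (orderOf g) = w := by
    intro g hg
    rcases hvw with ⟨e1, e2⟩ | ⟨e1, e2⟩ <;> rcases hV g hg with e | e <;> simp [e, e1, e2]
  have hV'' : ∀ g : G, g ≠ 1 → cnt G (orderOf g) = w ∨ cnt G (orderOf g) = v := fun g hg => (hV' g hg).symm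
  have hrs1 : 1 < r * s := lt_of_lt_of_le (by norm_num) (Nat.mul_le_mul hr.two_le hs.two_le)
  have hmix0 : cnt G (r * s) = 0 := by
    by_contra hne
    obtain ⟨g, hg⟩ := cnt_ne_zero.mp hne
    have hg1 : g ≠ 1 := fun e => by rw [e, orderOf_one] at hg; omega
    rcases hV' g hg1 with e | e <;> rw [hg] at e
    · exact no_mixed hodd hv2 hw2 hV' hr hs hrs hrd hsd hv.symm hw.symm e
    · exact no_mixed hodd hw2 hv2 hV'' hs hr hrs.symm hsd hrd hw.symm hv.symm (by rw [mul_comm]; exact e)
  have hd : r * s ∣ Nat.card G := ((Nat.coprime_primes hr hs).mpr hrs).mul_dvd_of_dvd_of_dvd hrd hsd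
  have hwr : (w : ZMod r) = 0 := by
    have h := zmod_pair hr hs hrs hd (dvd_mul_right r s)
    have e := cnt_prime hodd hr hrd
    rw [hmix0] at h
    push_cast at h
    linear_combination h - e
  have hvs : (v : ZMod s) = 0 := by
    have h := zmod_pair hr hs hrs hd (dvd_mul_left s r)
    have e := cnt_prime hodd hs hsd
    rw [hmix0] at h
    push_cast at h
    linear_combination h - e
  have hvr : ¬ r ∣ v := by
    intro h
    have e := cnt_prime hodd hr hrd
    rw [← hv, (ZMod.natCast_eq_zero_iff v r).mpr h] at e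
    exact neg_ne_zero.mpr one_ne_zero e.symm
  -- no commuting elements of orders `r` and `s`
  have hno : ∀ x y : G, orderOf x = r → orderOf y = s → ¬ Commute x y := by
    intro x y hx hy hc
    refine cnt_ne_zero.mpr ⟨x * y, ?_⟩ hmix0
    rw [hc.orderOf_mul_eq_mul_orderOf_of_coprime (by rw [hx, hy]; exact (Nat.coprime_primes hr hs).mpr hrs), hx, hy]
  have hppow : ∀ g : G, (∃ i, orderOf g = r ^ i) ∨ ∃ i, orderOf g = s ^ i := by
    intro g
    by_cases h1 : s ∣ orderOf g
    · by_cases h3 : r ∣ orderOf g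
      · exfalso
        obtain ⟨x, hx⟩ := exists_order_dvd (((Nat.coprime_primes hr hs).mpr hrs).mul_dvd_of_dvd_of_dvd h3 h1)
        exact cnt_ne_zero.mpr ⟨x, hx⟩ hmix0
      · refine Or.inr ⟨_, Nat.eq_prime_pow_of_unique_prime_dvd (orderOf_pos g).ne' fun {d} hdp hdd => ?_⟩
        exact (htwo' d hdp (hdd.trans (orderOf_dvd_natCard g))).resolve_left (fun e => h3 (e ▸ hdd))
    · refine Or.inl ⟨_, Nat.eq_prime_pow_of_unique_prime_dvd (orderOf_pos g).ne' fun {d} hdp hdd => ?_⟩
      exact (htwo' d hdp (hdd.trans (orderOf_dvd_natCard g))).resolve_right (fun e => h1 (e ▸ hdd))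
  -- centralizers of elements of order `s`
  have hCs : ∀ z : G, orderOf z = s → IsPGroup s (Subgroup.centralizer ({z} : Set G)) := by
    intro z hz x
    rcases hppow (x : G) with ⟨i, hi⟩ | ⟨i, hi⟩
    · rcases Nat.eq_zero_or_pos i with rfl | hi0
      · exact ⟨0, Subtype.ext (by rw [pow_zero] at hi; simp [orderOf_eq_one_iff.mp hi])⟩
      · exfalso
        have hx : orderOf ((x : G) ^ (r ^ (i - 1))) = r := by
          rw [orderOf_pow_of_dvd (pow_ne_zero _ hr.ne_zero) (hi ▸ pow_dvd_pow r (Nat.sub_le i 1)), hi,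
            Nat.pow_div (Nat.sub_le i 1) hr.pos, show i - (i - 1) = 1 by omega, pow_one]
        exact hno _ z hx hz ((show Commute (x : G) z from Subgroup.mem_centralizer_singleton_iff.mp x.2).pow_left _)
    · exact ⟨i, Subtype.ext (by rw [SubmonoidClass.coe_pow, ← hi, pow_orderOf_eq_one]; rfl)⟩
  -- the Sylow `s`-subgroups are cyclic
  set V := Cfsg.pCore r G with hVdef
  haveI hVn : V.Normal := pCore_isNormal
  have hVp : IsPGroup r V := pCore_isPGroup
  have hV1 : V ≠ ⊥ := fun e => hN₀1 (le_bot_iff.mp (e ▸ le_pCore hN₀n hN₀p))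
  set A := (Subgroup.center V).map V.subtype with hA
  haveI hAn : A.Normal := by rw [hA]; infer_instance
  have hA1 : A ≠ ⊥ := by
    rw [hA, Ne, Subgroup.map_eq_bot_iff_of_injective _ V.subtype_injective]
    haveI := (Subgroup.nontrivial_iff_ne_bot V).mpr hV1
    exact (Subgroup.nontrivial_iff_ne_bot _).mp hVp.center_nontrivial
  have hAc : IsMulCommutative A := by rw [hA]; infer_instance
  have hAle : A ≤ V := Subgroup.map_subtype_le _
  have hscyc : ∀ Q : Sylow s G, IsCyclic (Q : Subgroup G) := by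
    intro Q
    by_contra hnc
    obtain ⟨E, -, -, hE, hEc⟩ := Cfsg.Agent.Transfer.exists_normal_elementary
      (fun e => absurd (three_le hodd hs hsd) (by omega)) Q.isPGroup' (⊤ : Subgroup (Q : Subgroup G))
      (fun h => hnc (Subgroup.topEquiv.isCyclic.mp h))
    set E' := E.map (Q : Subgroup G).subtype with hE'
    haveI : IsMulCommutative E' := by rw [hE']; haveI := hE.1; infer_instance
    haveI := hAc
    have hEnc : ¬ IsCyclic E' := by
      intro h
      haveI := h
      haveI : IsCyclic E := ((E.equivMapOfInjective _ (Q : Subgroup G).subtype_injective).isCyclic).mpr h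
      obtain ⟨g, hg⟩ := IsCyclic.exists_ofOrder_eq_natCard (α := E)
      have h3 : orderOf g ∣ s := orderOf_dvd_of_pow_eq_one (Subtype.ext (hE.2 g g.2))
      rw [hg, hEc, pow_two] at h3
      have := Nat.le_of_dvd hs.pos h3
      nlinarith [hs.two_le]
    obtain ⟨e, he, he1, heA⟩ := exists_centralizer_ne_bot E' A hEnc hA1
      (le_top.trans (Subgroup.normalizer_eq_top (H := A)).ge)
    obtain ⟨c, hc, hc1⟩ := (Subgroup.bot_or_exists_ne_one _).resolve_left heA
    have hes : orderOf e = s := by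
      obtain ⟨e', he', rfl⟩ := he
      refine orderOf_eq_prime ?_ he1
      rw [← map_pow, hE.2 e' he', map_one]
    obtain ⟨i, hi⟩ := (Nat.dvd_prime_pow hr).mp (orderOf_dvd_of_pow_eq_one (x := c) (congrArg Subtype.val
      (hVp ⟨c, hAle hc.1⟩).choose_spec) : orderOf c ∣ r ^ (hVp ⟨c, hAle hc.1⟩).choose)
    have hi0 : i ≠ 0 := fun e0 => hc1 (orderOf_eq_one_iff.mp (by rw [hi.2, e0, pow_zero]))
    have hx : orderOf (c ^ (r ^ (i - 1))) = r := by
      rw [orderOf_pow_of_dvd (pow_ne_zero _ hr.ne_zero) (hi.2 ▸ pow_dvd_pow r (Nat.sub_le i 1)), hi.2,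
        Nat.pow_div (Nat.sub_le i 1) hr.pos, show i - (i - 1) = 1 by omega, pow_one]
    exact hno _ e hx hes ((show Commute c e from (Subgroup.mem_centralizer_singleton_iff.mp hc.2)).pow_left _)
  -- the Sylow `s`-subgroups have order `s`
  have hScard : ∀ Q : Sylow s G, Nat.card Q = s := by
    intro Q
    obtain ⟨k, hk⟩ := IsPGroup.iff_card.mp Q.isPGroup'
    have hk1 : 1 ≤ k := by
      rcases Nat.eq_zero_or_pos k with rfl | h
      · exfalso
        apply Q.not_dvd_index
        have := (Q : Subgroup G).card_mul_index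
        rw [hk, pow_zero, one_mul] at this
        rw [this]; exact hsd
      · exact h
    by_contra hne
    have hk2 : 2 ≤ k := by
      rcases (show k = 1 ∨ 2 ≤ k by omega) with e | e
      · exact absurd (by rw [hk, e, pow_one]) hne
      · exact e
    -- `C(z)` is a Sylow subgroup
    have hCz : ∀ z : G, orderOf z = s → IsCyclic (Subgroup.centralizer ({z} : Set G)) ∧
        Nat.card (Subgroup.centralizer ({z} : Set G)) = s ^ k := by
      intro z hz
      obtain ⟨T, hT⟩ := (hCs z hz).exists_le_sylow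
      have hTz : (T : Subgroup G) ≤ Subgroup.centralizer ({z} : Set G) := fun t ht => by
        haveI := hscyc T
        exact Subgroup.mem_centralizer_singleton_iff.mpr (congrArg Subtype.val
          (IsCyclic.commGroup.mul_comm (⟨t, ht⟩ : (T : Subgroup G)) ⟨z, hT (Subgroup.mem_centralizer_singleton_iff.mpr rfl)⟩))
      rw [le_antisymm hT hTz]
      exact ⟨hscyc T, (Nat.card_congr (T.equiv Q).toEquiv).trans hk⟩
    -- powering gives a bijection of cyclic subgroups
    have hcntC : Nat.card {C : Subgroup G // IsCyclic C ∧ Nat.card C = s ^ 2} =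
        Nat.card {C : Subgroup G // IsCyclic C ∧ Nat.card C = s ^ 1} := by
      have hpowC : ∀ C : {C : Subgroup G // IsCyclic C ∧ Nat.card C = s ^ 2},
          ∃ D : {C : Subgroup G // IsCyclic C ∧ Nat.card C = s ^ 1}, (D : Subgroup G) ≤ C.1 := by
        rintro ⟨C, hC, hCc⟩
        obtain ⟨x, hx⟩ := exists_prime_orderOf_dvd_card' (G := C) s (by rw [hCc]; exact dvd_pow_self s (by norm_num))
        exact ⟨⟨Subgroup.zpowers (x : G), inferInstance, by rw [Nat.card_zpowers, Subgroup.orderOf_coe, hx, pow_one]⟩,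
          Subgroup.zpowers_le.mpr x.2⟩
      choose f hf using hpowC
      refine Nat.card_congr (Equiv.ofBijective f ⟨fun C C' e => Subtype.ext ?_, fun D => ?_⟩)
      · obtain ⟨z, hz⟩ := exists_prime_orderOf_dvd_card' (G := (f C).1) s (by rw [(f C).2.2]; exact dvd_pow_self s one_ne_zero)
        have hzo : orderOf (z : G) = s := by rw [Subgroup.orderOf_coe, hz]
        have hin : ∀ C : {C : Subgroup G // IsCyclic C ∧ Nat.card C = s ^ 2}, (z : G) ∈ C.1 →
            C.1 ≤ Subgroup.centralizer ({(z : G)} : Set G) := fun C hzC c hc => by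
          haveI := C.2.1
          exact Subgroup.mem_centralizer_singleton_iff.mpr (congrArg Subtype.val
            (IsCyclic.commGroup.mul_comm (⟨c, hc⟩ : C.1) ⟨z, hzC⟩))
        exact eq_of_card_cyclic (hCz _ hzo).1 (hin C (hf C z.2)) (hin C' (hf C' (e ▸ z.2))) (C.2.2.trans C'.2.2.symm)
      · obtain ⟨z, hz⟩ := exists_prime_orderOf_dvd_card' (G := D.1) s (by rw [D.2.2]; exact dvd_pow_self s one_ne_zero)
        have hzo : orderOf (z : G) = s := by rw [Subgroup.orderOf_coe, hz]
        obtain ⟨hc, hcc⟩ := hCz _ hzo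
        obtain ⟨C₀, hC₀⟩ := Sylow.exists_subgroup_card_pow_prime (G := Subgroup.centralizer ({(z : G)} : Set G)) s
          (n := 2) (hcc ▸ pow_dvd_pow s hk2)
        haveI := hc
        have hCi : IsCyclic (C₀.map (Subgroup.centralizer ({(z : G)} : Set G)).subtype) :=
          ((C₀.equivMapOfInjective _ (Subgroup.subtype_injective _)).isCyclic).mp inferInstance
        refine ⟨⟨_, hCi, by rw [Subgroup.card_map_of_injective (Subgroup.subtype_injective _), hC₀]⟩, Subtype.ext ?_⟩
        have hDle : D.1 ≤ Subgroup.centralizer ({(z : G)} : Set G) := fun d hd => by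
          haveI := D.2.1
          exact Subgroup.mem_centralizer_singleton_iff.mpr (congrArg Subtype.val
            (IsCyclic.commGroup.mul_comm (⟨d, hd⟩ : D.1) z))
        exact eq_of_card_cyclic hc ((hf _).trans (Subgroup.map_subtype_le _)) hDle ((f _).2.2.trans D.2.2.symm)
    have hw' : cnt G (s ^ 2) = s * w := by
      have h1 := CountCyclic.card_order_eq (p := s) (H := G) 2
      have h3 := CountCyclic.card_order_eq (p := s) (H := G) 1
      rw [Nat.totient_prime_pow hs (by norm_num)] at h1 h3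
      rw [pow_one s] at h3
      simp only [Nat.sub_self, pow_zero, one_mul, show (2 : ℕ) - 1 = 1 from rfl, pow_one] at h1 h3
      rw [show cnt G (s ^ 2) = Nat.card {x : G | orderOf x = s ^ 2} from rfl, h1,
        show w = Nat.card {x : G | orderOf x = s} from rfl, h3, hcntC, pow_one, mul_assoc]
    obtain ⟨g, hg⟩ := cnt_ne_zero.mp (show cnt G (s ^ 2) ≠ 0 by rw [hw']; exact Nat.mul_ne_zero hs.ne_zero (by omega))
    have hg1 : g ≠ 1 := fun e => by rw [e, orderOf_one] at hg; nlinarith [hs.two_le]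
    rcases hV' g hg1 with e | e <;> rw [hg, hw'] at e
    · exact hvr (e ▸ dvd_mul_of_dvd_right ((ZMod.natCast_eq_zero_iff w r).mp hwr) s)
    · nlinarith [hs.two_le]
  -- orders of `s`-elements
  have hsord : ∀ g : G, ∀ i, orderOf g = s ^ i → orderOf g = 1 ∨ orderOf g = s := by
    intro g i hi
    obtain ⟨Q, hQ⟩ := (IsPGroup.of_card (p := s) (n := i) (show Nat.card (Subgroup.zpowers g) = s ^ i by
      rw [Nat.card_zpowers, hi])).exists_le_sylow
    exact (Nat.dvd_prime hs).mp (hScard Q ▸ (Q : Subgroup G).orderOf_dvd_natCard (hQ (Subgroup.mem_zpowers g)))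
  -- the quotient by `V`
  obtain ⟨S⟩ := (inferInstance : Nonempty (Sylow s G))
  have hdisj : ∀ g : G, g ∈ V → orderOf g ≠ s := by
    intro g hg h
    obtain ⟨k, hk⟩ := hVp ⟨g, hg⟩
    have h1 := orderOf_dvd_of_pow_eq_one (congrArg Subtype.val hk : g ^ r ^ k = 1)
    rw [h] at h1
    exact hrs ((Nat.prime_dvd_prime_iff_eq hs hr).mp (hs.dvd_of_dvd_pow h1)).symm
  set π := QuotientGroup.mk' V with hπ
  have hVi : Nontrivial (G ⧸ V) := by
    rw [← not_subsingleton_iff_nontrivial, QuotientGroup.subsingleton_iff]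
    intro e
    obtain ⟨g, hg⟩ := exists_prime_orderOf_dvd_card' (G := G) s hsd
    exact hdisj g (e ▸ Subgroup.mem_top g) hg
  obtain ⟨t, T, ht, hTn, hTt, hT1⟩ := Graph.exists_normal_pGroup (G := G ⧸ V)
  haveI := Fact.mk ht
  haveI hWn : (T.comap π).Normal := hTn.comap π
  have hts : t = s := by
    have htd : t ∣ Nat.card G := by
      obtain ⟨k, hk⟩ := IsPGroup.iff_card.mp hTt
      have hk0 : k ≠ 0 := fun e => hT1 (Subgroup.card_eq_one.mp (by rw [hk, e, pow_zero]))
      exact ((hk ▸ dvd_pow_self t hk0).trans T.card_subgroup_dvd_card).trans (Subgroup.card_quotient_dvd_card V)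
    refine (htwo' t ht htd).resolve_left fun e => ?_
    subst e
    have h1 : T.comap π ≤ V := by
      refine le_pCore hWn ?_
      refine IsPGroup.comap_of_ker_isPGroup hTt π ?_
      rw [QuotientGroup.ker_mk']
      exact hVp
    apply hT1
    rw [← Subgroup.map_comap_eq_self_of_surjective (QuotientGroup.mk'_surjective V) T, Subgroup.map_eq_bot_iff,
      QuotientGroup.ker_mk']
    exact h1
  subst hts
  set W := T.comap π with hWdef
  have hTc : Nat.card T = t := by
    obtain ⟨k, hk⟩ := IsPGroup.iff_card.mp hTt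
    have hk0 : k ≠ 0 := fun e => hT1 (Subgroup.card_eq_one.mp (by rw [hk, e, pow_zero]))
    have h1 : Nat.card T ∣ Nat.card G := T.card_subgroup_dvd_card.trans (Subgroup.card_quotient_dvd_card V)
    obtain ⟨Q⟩ := (inferInstance : Nonempty (Sylow t G))
    have h3 := (Q.pow_dvd_card_of_pow_dvd_card (hk ▸ h1))
    rw [hScard] at h3
    rw [hk, show k = 1 from ?_, pow_one]
    rcases (Nat.dvd_prime hs).mp h3 with e | e
    · exact absurd ((Nat.pow_eq_one.mp e).resolve_right hk0) hs.ne_one
    · exact Nat.pow_right_injective hs.two_le (e.trans (pow_one t).symm)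
  have hVW : V ≤ W := fun g hg => by
    rw [hWdef, Subgroup.mem_comap, hπ, QuotientGroup.mk'_apply, (QuotientGroup.eq_one_iff g).mpr hg]
    exact one_mem T
  have hWcard : Nat.card W = Nat.card V * t := by
    rw [hWdef, hπ]
    rw [← hTc]
    rw [← (V.subgroupOf W).card_mul_index, Nat.card_congr (Subgroup.subgroupOfEquivOfLe hVW).toEquiv]
    congr 1
    show V.relIndex W = _
    rw [show V.relIndex W = (π).ker.relIndex W by rw [hπ, QuotientGroup.ker_mk'], Subgroup.relIndex_ker, hWdef,
      Subgroup.map_comap_eq_self_of_surjective (QuotientGroup.mk'_surjective V)]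
  -- the elements of order `s`
  have hsW : ∀ g : G, orderOf g = t → g ∈ W := by
    intro g hg
    rw [hWdef, Subgroup.mem_comap]
    obtain ⟨Q, hQ⟩ := ((show IsPGroup t (Subgroup.zpowers (π g)) from
      IsPGroup.of_card (n := (Nat.card (Subgroup.zpowers (π g))).factorization t) (by
        rcases (Nat.dvd_prime hs).mp (hg ▸ orderOf_map_dvd π g) with e | e <;> rw [Nat.card_zpowers, e] <;>
          simp [hs.factorization_self])).to_sup_of_normal_right' hTt
        (le_top.trans (Subgroup.normalizer_eq_top (H := T)).ge)).exists_le_sylow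
    have h1 := (Q : Subgroup (G ⧸ V)).card_subgroup_dvd_card.trans (Subgroup.card_quotient_dvd_card V)
    obtain ⟨k, hk⟩ := IsPGroup.iff_card.mp Q.isPGroup'
    obtain ⟨Q'⟩ := (inferInstance : Nonempty (Sylow t G))
    have h3 := (Q'.pow_dvd_card_of_pow_dvd_card (hk ▸ h1))
    rw [hScard, ← hk] at h3
    have h4 : T = (Q : Subgroup (G ⧸ V)) := Subgroup.eq_of_le_of_card_ge (le_sup_right.trans hQ)
      (by rw [hTc]; exact Nat.le_of_dvd hs.pos h3)
    rw [h4]
    exact hQ (Subgroup.mem_sup_left (Subgroup.mem_zpowers _))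
  have hwval : w + Nat.card V = Nat.card V * t := by
    rw [← hWcard, hw, cnt]
    have h1 : Nat.card W = Nat.card {g : G // g ∈ V} + Nat.card {g : G // orderOf g = t} := by
      rw [← Nat.card_sum]
      refine Nat.card_congr ((Equiv.ofBijective
        (Sum.elim (fun g => (⟨g.1, hVW g.2⟩ : W)) (fun g => ⟨g.1, hsW g.1 g.2⟩)) ⟨?_, ?_⟩).symm)
      · rintro (⟨x, hx⟩ | ⟨x, hx⟩) (⟨y, hy⟩ | ⟨y, hy⟩) e <;> have e' : x = y := congrArg Subtype.val e
        · subst e'; rfl
        · subst e'; exact absurd hy (hdisj x hx)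
        · subst e'; exact absurd hx (hdisj x hy)
        · subst e'; rfl
      · rintro ⟨x, hx⟩
        by_cases hxV : x ∈ V
        · exact ⟨Sum.inl ⟨x, hxV⟩, rfl⟩
        · refine ⟨Sum.inr ⟨x, ?_⟩, rfl⟩
          have h3 : orderOf (π x) = t := by
            refine orderOf_eq_prime ?_ (fun e => hxV ((QuotientGroup.eq_one_iff x).mp e))
            have := pow_card_eq_one' (G := T) (x := ⟨π x, hx⟩)
            rw [hTc] at this
            exact (congrArg Subtype.val this :)
          have h4 := orderOf_map_dvd π x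
          rw [h3] at h4
          rcases hppow x with ⟨i, hi⟩ | ⟨i, hi⟩
          · rw [hi] at h4
            exact absurd ((Nat.prime_dvd_prime_iff_eq hs hr).mp (hs.dvd_of_dvd_pow h4)) hrs.symm
          · refine (hsord x i hi).resolve_left fun e => hs.ne_one ?_
            rw [e] at h4
            exact Nat.dvd_one.mp h4
    rw [h1]
    exact add_comm _ _
  -- the normalizer of a Sylow `s`-subgroup
  set N := Subgroup.normalizer ((S : Subgroup G) : Set G) with hN
  have hScyc := hscyc S
  have hSC : Subgroup.centralizer ((S : Subgroup G) : Set G) ≤ S := by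
    obtain ⟨z, hz⟩ := exists_prime_orderOf_dvd_card' (G := (S : Subgroup G)) t (by rw [hScard S])
    have hzo : orderOf (z : G) = t := by rw [Subgroup.orderOf_coe, hz]
    have h1 : Subgroup.centralizer ({(z : G)} : Set G) = S := by
      symm
      refine Subgroup.eq_of_le_of_card_ge (fun x hx => Subgroup.mem_centralizer_singleton_iff.mpr
        (congrArg Subtype.val (IsCyclic.commGroup.mul_comm (⟨x, hx⟩ : (S : Subgroup G)) z))) ?_
      obtain ⟨Q, hQ⟩ := (hCs _ hzo).exists_le_sylow
      exact (Subgroup.card_le_of_le hQ).trans (by rw [hScard Q, hScard S])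
    conv_rhs => rw [← h1]
    exact Subgroup.centralizer_le (Set.singleton_subset_iff.mpr z.2)
  have hNcard : Nat.card N ≤ t * (t - 1) := by
    have h1 := (Subgroup.normalizerMonoidHom (S : Subgroup G)).ker.card_mul_index
    rw [Subgroup.index_ker] at h1
    rw [← h1]
    refine Nat.mul_le_mul ?_ ?_
    · rw [Subgroup.normalizerMonoidHom_ker]
      refine (Nat.card_le_card_of_injective (fun x : ↥((Subgroup.centralizer ((S : Subgroup G) : Set G)).subgroupOf N) => (⟨((x : N) : G), hSC (Subgroup.mem_subgroupOf.mp x.2)⟩ : (S : Subgroup G))) ?_).trans (hScard S).le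
      exact fun x y e => Subtype.ext (Subtype.ext (congrArg Subtype.val e :))
    · refine (Subgroup.card_le_card_group _).trans ?_
      rw [IsCyclic.card_mulAut, hScard S, Nat.totient_prime hs]
  have hVN : V ⊓ N = ⊥ := by
    rw [Subgroup.eq_bot_iff_forall]
    rintro x ⟨hxV, hxN⟩
    by_contra hx1
    obtain ⟨k, hk⟩ := hVp ⟨x, hxV⟩
    obtain ⟨i, -, hi⟩ := (Nat.dvd_prime_pow hr).mp (orderOf_dvd_of_pow_eq_one (congrArg Subtype.val hk : x ^ r ^ k = 1))
    obtain ⟨z, hz⟩ := exists_prime_orderOf_dvd_card' (G := (S : Subgroup G)) t (by rw [hScard S])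
    have hc : x * z * x⁻¹ * (z : G)⁻¹ ∈ V ⊓ (S : Subgroup G) := by
      refine ⟨?_, (S : Subgroup G).mul_mem ((Subgroup.mem_normalizer_iff.mp hxN z).mp z.2) ((S : Subgroup G).inv_mem z.2)⟩
      rw [show x * z * x⁻¹ * (z : G)⁻¹ = x * ((z : G) * x⁻¹ * (z : G)⁻¹) by group]
      exact V.mul_mem hxV (hVn.conj_mem _ (V.inv_mem hxV) _)
    rw [inf_eq_bot_of_coprime (by
      obtain ⟨m, hm⟩ := IsPGroup.iff_card.mp hVp
      rw [hm, hScard S]
      exact ((Nat.coprime_primes hr hs).mpr hrs).pow_left m), Subgroup.mem_bot, mul_inv_eq_one,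
      mul_inv_eq_iff_eq_mul] at hc
    have hi0 : i ≠ 0 := fun e0 => hx1 (orderOf_eq_one_iff.mp (by rw [hi, e0, pow_zero]))
    refine hno (x ^ (r ^ (i - 1))) z ?_ (by rw [Subgroup.orderOf_coe, hz]) ((show Commute x (z : G) from hc).pow_left _)
    rw [orderOf_pow_of_dvd (pow_ne_zero _ hr.ne_zero) (hi ▸ pow_dvd_pow r (Nat.sub_le i 1)), hi,
      Nat.pow_div (Nat.sub_le i 1) hr.pos, show i - (i - 1) = 1 by omega, pow_one]
  have hSW : (S : Subgroup G) ≤ W := fun x hx => by
    by_cases h1 : x = 1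
    · rw [h1]; exact one_mem W
    · exact hsW x (((Nat.dvd_prime hs).mp (hScard S ▸ (S : Subgroup G).orderOf_dvd_natCard hx)).resolve_left
        fun e => h1 (orderOf_eq_one_iff.mp e))
  have hGcard : Nat.card G = Nat.card V * Nat.card N := by
    have hfr : N ⊔ W = ⊤ := by
      have := Sylow.normalizer_sup_eq_top (N := W) (S.subtype hSW)
      rwa [show ((S.subtype hSW : Sylow t W) : Subgroup W).map W.subtype = (S : Subgroup G) from
        Subgroup.map_subgroupOf_eq_of_le hSW] at this
    have hWle : W ≤ V ⊔ N := by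
      have hVS : V ⊔ (S : Subgroup G) = W := by
        refine Subgroup.eq_of_le_of_card_ge (sup_le hVW hSW) ?_
        have h1 := card_sup_mul_card_inf_normal (H := (S : Subgroup G)) (N := V)
        rw [inf_eq_bot_of_coprime (H := (S : Subgroup G)) (K := V) (by
          obtain ⟨m, hm⟩ := IsPGroup.iff_card.mp hVp
          rw [hm, hScard S]
          exact (((Nat.coprime_primes hr hs).mpr hrs).pow_left m).symm), Subgroup.card_bot, mul_one, hScard S,
          sup_comm] at h1
        rw [h1, hWcard, mul_comm]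
      rw [← hVS]
      exact sup_le_sup_left Subgroup.le_normalizer _
    have htop : N ⊔ V = ⊤ := top_le_iff.mp (hfr ▸ sup_le le_sup_left (hWle.trans (le_of_eq (sup_comm _ _))))
    have h1 := card_sup_mul_card_inf_normal (H := N) (N := V)
    rw [htop, Subgroup.card_top, inf_comm, hVN, Subgroup.card_bot, mul_one] at h1
    rw [h1, mul_comm]
  have ht3 : 3 ≤ t := three_le hodd hs hsd
  have hr3 : 3 ≤ r := three_le hodd hr hrd
  -- exponent `r`
  obtain ⟨g₀, hg₀r, hmax⟩ := ((Finset.univ : Finset (Fin ((Nat.card G) + 1))).filter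
      fun i : Fin (Nat.card G + 1) => ∃ g : G, orderOf g = r ^ (i : ℕ)).exists_max_image (fun i : Fin (Nat.card G + 1) => (i : ℕ)) ⟨0, by
        simp only [Finset.mem_filter, Finset.mem_univ, true_and]
        exact ⟨1, by simp⟩⟩
  simp only [Finset.mem_filter, Finset.mem_univ, true_and] at hg₀r hmax
  set E := (g₀ : ℕ) with hE
  obtain ⟨gE, hgE⟩ := hg₀r
  have hbound : ∀ (g : G) (i : ℕ), orderOf g = r ^ i → i ≤ E := by
    intro g i hi
    have h1 : i < Nat.card G + 1 := by
      have := Nat.le_of_dvd Nat.card_pos (hi ▸ orderOf_dvd_natCard g)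
      have := Nat.lt_pow_self hr.one_lt (n := i)
      omega
    exact hmax ⟨i, h1⟩ ⟨g, hi⟩
  have hE1 : 1 ≤ E := by
    obtain ⟨g, hg⟩ := exists_prime_orderOf_dvd_card' r hrd
    exact hbound g 1 (by rw [hg, pow_one])
  have hcntE : ∀ i ∈ Finset.Ico 2 (E + 1), cnt G (r ^ i) = w := by
    intro i hi
    rw [Finset.mem_Ico] at hi
    obtain ⟨x, hx⟩ := exists_order_dvd (g := gE) (d := r ^ i) (hgE ▸ pow_dvd_pow r (by omega))
    have h1 : r ∣ cnt G (r ^ i) := by
      refine dvd_trans ?_ (totient_dvd_cnt _)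
      rw [Nat.totient_prime_pow hr (by omega)]
      exact dvd_mul_of_dvd_left (dvd_pow_self r (by omega)) _
    have hx1 : x ≠ 1 := fun e => by
      rw [e, orderOf_one] at hx
      exact (Nat.one_lt_pow (by omega : i ≠ 0) hr.one_lt).ne hx
    rcases hV' x hx1 with e | e <;> rw [hx] at e
    · exact absurd (e ▸ h1) hvr
    · exact e
  have hsum : Nat.card G = 1 + v + (E - 1) * w + w := by
    rw [card_eq_sum (insert t ((Finset.range (E + 1)).image (r ^ ·))) (fun g => by
      rcases hppow g with ⟨i, hi⟩ | ⟨i, hi⟩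
      · exact Finset.mem_insert_of_mem (Finset.mem_image.mpr ⟨i, Finset.mem_range.mpr (Nat.lt_succ_of_le (hbound g i hi)), hi.symm⟩)
      · rcases hsord g i hi with e | e
        · exact Finset.mem_insert_of_mem (Finset.mem_image.mpr ⟨0, by simp, by rw [e, pow_zero]⟩)
        · exact Finset.mem_insert.mpr (Or.inl e)),
      Finset.sum_insert (by
        simp only [Finset.mem_image, Finset.mem_range, not_exists, not_and]
        intro i _ e
        rcases Nat.eq_zero_or_pos i with rfl | h
        · exact hs.ne_one (by rw [← e, pow_zero])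
        · exact hrs ((Nat.prime_dvd_prime_iff_eq hr hs).mp (e ▸ dvd_pow_self r h.ne'))),
      Finset.sum_image (fun i _ j _ e => Nat.pow_right_injective hr.two_le e),
      ← Finset.sum_range_add_sum_Ico _ (show 2 ≤ E + 1 by omega), Finset.sum_congr rfl hcntE,
      Finset.sum_range_succ, Finset.sum_range_one, pow_zero, pow_one, cnt_one, ← hv, ← hw, Finset.sum_const,
      Nat.card_Ico, smul_eq_mul, show E + 1 - 2 = E - 1 by omega]
    ring
  have hE' : E = 1 := by
    have h1 : ((E - 1 : ℕ) : ZMod t) = 0 := by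
      have h := congrArg (Nat.cast : ℕ → ZMod t) hsum
      rw [(ZMod.natCast_eq_zero_iff _ t).mpr hsd] at h
      have e := cnt_prime hodd hs hsd
      rw [← hw] at e
      push_cast at h
      linear_combination h + hvs + (((E - 1 : ℕ) : ZMod t) + 1) * e
    rw [ZMod.natCast_eq_zero_iff] at h1
    have h3 : (E - 1) * w < Nat.card V * (t * (t - 1)) := by
      have := Nat.mul_le_mul_left (Nat.card V) hNcard
      rw [← hGcard] at this
      omega
    have h4 : w = Nat.card V * (t - 1) := by rw [Nat.mul_sub, mul_one]; omega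
    rw [h4, show Nat.card V * (t * (t - 1)) = t * (Nat.card V * (t - 1)) by ring] at h3
    have h5 : E - 1 < t := Nat.lt_of_mul_lt_mul_right h3
    have := Nat.eq_zero_of_dvd_of_lt h1 h5
    omega
  have hrexp : ∀ g : G, ∀ i, orderOf g = r ^ i → g ^ r = 1 := fun g i hi => by
    have := hbound g i hi
    rw [← orderOf_dvd_iff_pow_eq_one, hi]
    exact (pow_dvd_pow r (hE' ▸ this)).trans (pow_one r).dvd
  -- `N = S`
  have hNS : N = S := by
    refine le_antisymm (fun x hx => ?_) Subgroup.le_normalizer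
    by_contra hxS
    rcases hppow x with ⟨i, hi⟩ | ⟨i, hi⟩
    · have hxr : x ^ r = 1 := hrexp x i hi
      have hxV : x ∉ V := fun h => hxS (by
        have : x ∈ V ⊓ N := ⟨h, hx⟩
        rw [hVN, Subgroup.mem_bot] at this
        rw [this]; exact one_mem _)
      have hxo : orderOf x = r := orderOf_eq_prime hxr (fun e => hxV (e ▸ one_mem V))
      haveI := hScyc
      obtain ⟨c, hc, hne⟩ := norm_ne_one (V := A) (Z := (S : Subgroup G)) (y := x) (q := r) hr.pos hAc hA1
        (IsCyclic.isMulCommutative) (fun z _ c hc => hAn.conj_mem c hc z) (fun c hc => hAn.conj_mem c hc x)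
        (fun z hz => (Subgroup.mem_normalizer_iff.mp hx z).mp hz) hxr (by
          obtain ⟨m, hm⟩ := IsPGroup.iff_card.mp (hVp.to_le hAle)
          rw [hm, hScard S]
          exact ((Nat.coprime_primes hs hr).mpr hrs.symm).pow_right m)
        (fun c hc h => by
          by_contra hc1
          obtain ⟨z, hz⟩ := exists_prime_orderOf_dvd_card' (G := (S : Subgroup G)) t (by rw [hScard S])
          have hco : orderOf c = r := by
            obtain ⟨k, hk⟩ := hVp ⟨c, hAle hc⟩
            obtain ⟨j, -, hj⟩ := (Nat.dvd_prime_pow hr).mp (orderOf_dvd_of_pow_eq_one (congrArg Subtype.val hk : c ^ r ^ k = 1))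
            exact orderOf_eq_prime (hrexp c j hj) hc1
          exact hno c z hco (by rw [Subgroup.orderOf_coe, hz]) (h z z.2).symm)
        (fun j hj hjr z hz h => by
          by_contra hz1
          refine hno (x ^ j) z ?_ ?_ h
          · rw [Nat.Coprime.orderOf_pow, hxo]
            rw [hxo]
            exact hr.coprime_iff_not_dvd.mpr (Nat.not_dvd_of_pos_of_lt hj hjr)
          · exact ((Nat.dvd_prime hs).mp (hScard S ▸ (S : Subgroup G).orderOf_dvd_natCard hz)).resolve_left
              fun e => hz1 (orderOf_eq_one_iff.mp e))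
      apply hne
      rcases hppow (c * x) with ⟨j, hj⟩ | ⟨j, hj⟩
      · exact hrexp _ j hj
      · exfalso
        rcases hsord _ j hj with e | e
        · rw [orderOf_eq_one_iff] at e
          exact hxV (eq_inv_of_mul_eq_one_right e ▸ inv_mem (hAle hc))
        · have hxW : x ∈ W := by
            have := W.mul_mem (W.inv_mem (hVW (hAle hc))) (hsW _ e)
            simpa using this
          have hπx : (π x) ^ t = 1 := by
            have := pow_card_eq_one' (G := T) (x := ⟨π x, hxW⟩)
            rw [hTc] at this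
            exact (congrArg Subtype.val this :)
          apply hxV
          rw [← QuotientGroup.eq_one_iff, ← orderOf_eq_one_iff]
          exact Nat.eq_one_of_dvd_coprimes ((Nat.coprime_primes hs hr).mpr hrs.symm)
            (orderOf_dvd_of_pow_eq_one hπx) (hxo ▸ orderOf_map_dvd π x)
    · rcases hsord x i hi with e | e
      · exact hxS (orderOf_eq_one_iff.mp e ▸ one_mem _)
      · -- a Sylow subgroup normalizes itself
        haveI : ((S : Subgroup G).subgroupOf N).Normal := Subgroup.normal_in_normalizer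
        have hzp : IsPGroup t (Subgroup.zpowers x) := IsPGroup.of_card (n := 1) (by rw [Nat.card_zpowers, e, pow_one])
        have hsup : IsPGroup t ↥(Subgroup.zpowers x ⊔ (S : Subgroup G)) :=
          hzp.to_sup_of_normal_right' S.isPGroup' (Subgroup.zpowers_le.mpr hx)
        exact hxS (S.is_maximal' hsup le_sup_right ▸ Subgroup.mem_sup_left (Subgroup.mem_zpowers x))
  refine ⟨?_, ⟨S, ?_, by rw [hScard S]; exact hs⟩⟩
  · intro p hpf P hpd
    have hp := hpf.out
    refine Nat.dvd_antisymm (Monoid.exponent_dvd_of_forall_pow_eq_one fun x => Subtype.ext ?_) ?_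
    · obtain ⟨k, hk⟩ := P.isPGroup' x
      obtain ⟨j, -, hj⟩ := (Nat.dvd_prime_pow hp).mp (orderOf_dvd_of_pow_eq_one (congrArg Subtype.val hk : (x : G) ^ p ^ k = 1))
      rw [SubmonoidClass.coe_pow, OneMemClass.coe_one]
      rcases htwo' p hp hpd with rfl | rfl
      · exact hrexp _ j hj
      · rw [← orderOf_dvd_iff_pow_eq_one]
        rcases hsord _ j hj with e | e
        · rw [e]; exact one_dvd _
        · rw [e]
    · obtain ⟨x, hx⟩ := exists_prime_orderOf_dvd_card' (G := (P : Subgroup G)) p (P.dvd_card_of_dvd_card hpd)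
      exact Eq.subst (motive := fun n => n ∣ Monoid.exponent (P : Subgroup G)) hx (Monoid.order_dvd_exponent x)
  · have hc : Subgroup.IsComplement' V (S : Subgroup G) := by
      refine Subgroup.isComplement'_of_coprime ?_ ?_
      · rw [hGcard, hNS]
      · obtain ⟨m, hm⟩ := IsPGroup.iff_card.mp hVp
        rw [hm, hScard S]
        exact ((Nat.coprime_primes hr hs).mpr hrs).pow_left m
    refine (Graph.frobenius (π := {r}) ?_ ?_ ?_ hV1 ?_ hc).1
    · intro x y hx hy hxr hyr g hg
      have hxe : x = r := hxr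
      subst hxe
      have hye : y = t := (htwo' y hy ((dvd_mul_left y x).trans (hg ▸ orderOf_dvd_natCard g))).resolve_left hyr
      subst hye
      exact cnt_ne_zero.mpr ⟨g, hg⟩ hmix0
    · intro x hx hxd
      obtain ⟨m, hm⟩ := IsPGroup.iff_card.mp hVp
      exact (Nat.prime_dvd_prime_iff_eq hx hr).mp (hx.dvd_of_dvd_pow (hm ▸ hxd))
    · intro x hx hxd
      rw [hScard S, Nat.prime_dvd_prime_iff_eq hx hs] at hxd
      exact fun e => hrs ((hxd ▸ e : t = r)).symm
    · exact fun e => hs.ne_one (by rw [← hScard S, e, Subgroup.card_bot])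

end Cfsg.Agent.Grp.ThreeCounts
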