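import Mathlib
import Cfsg.Agent.S0122
import Cfsg.Agent.S1337
import Cfsg.Prelude.Def_Balance

/-!
3-groups of rank at least 4 are 2-connected.
-/

set_option autoImplicit false
set_option linter.style.haveILetI false
set_option linter.unusedSectionVars false

namespace Cfsg.Agent.Grp.ThreeRankConnected

open Subgroup

universe u

variable {P : Type u} [Group P] [Finite P]

/-- An element of order 3 with at most 3 fixed points on an elementary abelian 3-group. -/
theorem card_le_27 (N : Subgroup P) [N.Normal] (hN : Cfsg.IsElementaryAbelian 3 N) (x : P)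
    (hx : x ^ 3 = 1) (hC : Nat.card ↥(N ⊓ centralizer {x}) ≤ 3) : Nat.card N ≤ 27 := by
  letI : CommGroup N := { (inferInstance : Group N) with mul_comm := hN.1.is_comm.comm }
  let τ : N →* N := (MulAut.conjNormal x : MulAut N).toMonoidHom
  have hτ : ∀ n, τ (τ (τ n)) = n := by
    intro n
    apply Subtype.ext
    simp only [τ, MulEquiv.coe_toMonoidHom, MulAut.conjNormal_apply]
    calc _ = x ^ 3 * (n : P) * (x ^ 3)⁻¹ := by simp [pow_succ, mul_assoc]
      _ = _ := by rw [hx]; simp
  let f : N →* N := τ / MonoidHom.id N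
  have hf : ∀ n, f n = τ n / n := fun n => rfl
  have hf3 : ∀ n, f (f (f n)) = 1 := by
    intro n
    have h3 : ∀ m : N, m ^ 3 = 1 := fun m => Subtype.ext (hN.2 m m.2)
    simp only [hf, map_div, hτ]
    have e : n / τ (τ n) / (τ (τ n) / τ n) / (τ (τ n) / τ n / (τ n / n)) =
        (τ n / τ (τ n)) ^ 3 := by
      apply Additive.ofMul.injective
      simp only [ofMul_div, ofMul_pow]
      abel
    rw [e, h3]
  have hker : Nat.card f.ker ≤ 3 := by
    refine le_trans ?_ hC
    refine Nat.card_le_card_of_injective (fun k => ⟨((k : N) : P), (k : N).2, ?_⟩) ?_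
    · refine mem_centralizer_singleton_iff.mpr ?_
      have h := k.2
      rw [MonoidHom.mem_ker, hf, div_eq_one] at h
      have := congrArg Subtype.val h
      simp only [τ, MulEquiv.coe_toMonoidHom, MulAut.conjNormal_apply] at this
      exact (mul_inv_eq_iff_eq_mul.mp this).symm
    · intro a b h
      exact Subtype.ext (Subtype.ext (congrArg (fun t : ↥(N ⊓ centralizer {x}) => (t : P)) h))
  have step : ∀ (H : Subgroup N), Nat.card H ≤ 3 * Nat.card (H.map f) := by
    intro H
    have h1 := (f.comp H.subtype).ker.index_mul_card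
    rw [Subgroup.index_ker, MonoidHom.range_comp, range_subtype] at h1
    rw [← h1, mul_comm]
    refine Nat.mul_le_mul_right _ (le_trans ?_ hker)
    exact Nat.card_le_card_of_injective (fun k => ⟨(k : H), k.2⟩)
      fun a b h => Subtype.ext (Subtype.ext (congrArg (fun t : f.ker => (t : N)) h))
  have h1 := step ⊤
  have h2 := step ((⊤ : Subgroup N).map f)
  have h3 := step (((⊤ : Subgroup N).map f).map f)
  have h4 : (((⊤ : Subgroup N).map f).map f).map f = ⊥ := by
    rw [eq_bot_iff]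
    rintro _ ⟨_, ⟨_, ⟨n, -, rfl⟩, rfl⟩, rfl⟩
    exact mem_bot.mpr (hf3 n)
  rw [h4, card_bot] at h3
  rw [card_top] at h1
  omega

/-- Centralizers of elementary abelian subgroups of order at least 9 have rank at least 3. -/
theorem not_rank_le_two (hP : IsPGroup 3 P) (hrk : ¬ Cfsg.PRankLE 3 3 P) (X : Subgroup P)
    (hX : Cfsg.IsElementaryAbelian 3 X) (hXc : 3 ^ 2 ≤ Nat.card X) :
    ¬ Cfsg.PRankLE 3 2 ↥(centralizer (X : Set P)) := by
  classical
  haveI : Fact (Nat.Prime 3) := ⟨by norm_num⟩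
  intro hr
  unfold Cfsg.PRankLE at hrk
  push Not at hrk
  obtain ⟨E₀, hE₀c, hE₀p, hE₀⟩ := hrk
  obtain ⟨j, hj⟩ := IsPGroup.iff_card.mp (hP.to_subgroup E₀)
  have hj4 : 4 ≤ j := by
    rw [hj] at hE₀
    exact (Nat.pow_lt_pow_iff_right (by norm_num)).mp hE₀
  obtain ⟨E1, hE1⟩ := Sylow.exists_subgroup_card_pow_prime 3
    (show 3 ^ 4 ∣ Nat.card E₀ by rw [hj]; exact pow_dvd_pow 3 hj4)
  have hE1e : Cfsg.IsElementaryAbelian 3 (E1.map E₀.subtype) := by
    refine ⟨⟨⟨fun u v => Subtype.ext ?_⟩⟩, fun u hu => hE₀p u (map_subtype_le E1 hu)⟩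
    have := congrArg Subtype.val
      (hE₀c.is_comm.comm ⟨_, map_subtype_le E1 u.2⟩ ⟨_, map_subtype_le E1 v.2⟩)
    exact this
  obtain ⟨N, hNn, hNe, hNc⟩ := Cfsg.Agent.S0122.result (p := 3) (by norm_num) hP (E1.map E₀.subtype) hE1e
    (by rw [card_map_of_injective E₀.subtype_injective, hE1])
  -- any elementary abelian subgroup centralizing `X` has order at most 9
  have hbound : ∀ A : Subgroup P, A ≤ centralizer (X : Set P) → Cfsg.IsElementaryAbelian 3 A →
      Nat.card A ≤ 9 := by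
    intro A hA hAe
    have h1 := hr (A.subgroupOf (centralizer (X : Set P)))
      ⟨⟨fun u v => Subtype.ext (Subtype.ext (congrArg (fun t : A => (t : P))
        (hAe.1.is_comm.comm ⟨_, u.2⟩ ⟨_, v.2⟩)))⟩⟩
      (fun u hu => Subtype.ext (hAe.2 _ hu))
    rwa [Nat.card_congr (subgroupOfEquivOfLe hA).toEquiv] at h1
  have hXC : X ≤ centralizer (X : Set P) := fun a ha => mem_centralizer_iff.mpr fun b hb =>
    congrArg Subtype.val (hX.1.is_comm.comm ⟨b, hb⟩ ⟨a, ha⟩)
  have hX9 : Nat.card X = 9 := le_antisymm (hbound X hXC hX) hXc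
  -- adjoining an element of order 3 centralizing `X`
  have habs : ∀ g ∈ centralizer (X : Set P), g ^ 3 = 1 → g ∈ X := by
    intro g hg hg3
    have hn : ∀ a ∈ X, ∀ i : ℤ, Commute a (g ^ i) := fun a ha i =>
      Commute.zpow_right (mem_centralizer_iff.mp hg a ha) i
    have hsupC : X ⊔ zpowers g ≤ centralizer (X : Set P) := sup_le hXC (zpowers_le.mpr hg)
    have hmem : ∀ u ∈ X ⊔ zpowers g, ∃ a ∈ X, ∃ i : ℤ, u = a * g ^ i := by
      intro u hu
      rw [← SetLike.mem_coe, coe_mul_of_right_le_normalizer_left _ _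
        ((zpowers_le.mpr hg).trans (centralizer_le_normalizer _))] at hu
      obtain ⟨a, ha, b, hb, rfl⟩ := hu
      obtain ⟨i, rfl⟩ := mem_zpowers_iff.mp hb
      exact ⟨a, ha, i, rfl⟩
    have he : Cfsg.IsElementaryAbelian 3 (X ⊔ zpowers g : Subgroup P) := by
      refine ⟨⟨⟨fun u v => Subtype.ext ?_⟩⟩, fun u hu => ?_⟩
      · obtain ⟨a, ha, i, hai⟩ := hmem u u.2
        obtain ⟨b, hb, k, hbk⟩ := hmem v v.2
        show (u : P) * v = v * u
        rw [hai, hbk]
        exact (((show Commute a b from mem_centralizer_iff.mp (hXC hb) a ha).mul_right (hn a ha k)).mul_left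
          ((hn b hb i).symm.mul_right (Commute.zpow_zpow_self g i k))).eq
      · obtain ⟨a, ha, i, rfl⟩ := hmem u hu
        rw [(hn a ha i).mul_pow, hX.2 a ha, ← zpow_natCast, zpow_comm, zpow_natCast, hg3, one_zpow, one_mul]
    have := hbound _ hsupC he
    exact (eq_of_le_of_card_ge le_sup_left (hX9 ▸ this) : X = X ⊔ zpowers g) ▸ mem_sup_right (mem_zpowers g)
  haveI : Nontrivial P := by
    by_contra h
    rw [not_nontrivial_iff_subsingleton] at h
    have := Finite.card_le_one_iff_subsingleton.mpr (inferInstance : Subsingleton X)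
    omega
  haveI := hP.center_nontrivial
  obtain ⟨i, hi⟩ := IsPGroup.iff_card.mp (hP.to_subgroup (center P))
  obtain ⟨z, hz⟩ := exists_prime_orderOf_dvd_card' (G := center P) 3 (by
    rw [hi]
    exact dvd_pow_self 3 fun i0 => (nontrivial_iff_ne_bot _).mp inferInstance
      (card_eq_one.mp (by rw [hi, i0, pow_zero])))
  rw [← orderOf_coe] at hz
  have hzc : ∀ y : P, (z : P) * y = y * z := fun y => (mem_center_iff.mp z.2 y).symm
  have hzX : (z : P) ∈ X :=
    habs _ (mem_centralizer_iff.mpr fun y _ => (hzc y).symm) (by rw [← hz]; exact pow_orderOf_eq_one _)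
  have hzle : zpowers (z : P) ≤ X := zpowers_le.mpr hzX
  obtain ⟨x, hxX, hxz⟩ : ∃ x ∈ X, x ∉ zpowers (z : P) := by
    by_contra h
    push Not at h
    have := card_le_of_le (h : X ≤ zpowers (z : P))
    rw [Nat.card_zpowers, hz, hX9] at this
    omega
  have hx3 : x ^ 3 = 1 := hX.2 x hxX
  have hXgen : X = zpowers (z : P) ⊔ zpowers x := by
    refine (eq_of_le_of_card_ge (sup_le hzle (zpowers_le.mpr hxX)) ?_).symm
    have hd := card_dvd_of_le (sup_le hzle (zpowers_le.mpr hxX) : zpowers (z : P) ⊔ zpowers x ≤ X)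
    rw [hX9] at hd ⊢
    obtain ⟨k, hk, hkc⟩ := (Nat.dvd_prime_pow (m := 2) (by norm_num : Nat.Prime 3)).mp hd
    have hlt : zpowers (z : P) < zpowers (z : P) ⊔ zpowers x :=
      lt_of_le_of_ne le_sup_left fun h => hxz (h ▸ mem_sup_right (mem_zpowers x))
    have h3 : Nat.card (zpowers (z : P)) < Nat.card ↥(zpowers (z : P) ⊔ zpowers x) :=
      lt_of_le_of_ne (card_le_of_le hlt.le) fun h => hlt.ne (eq_of_le_of_card_ge hlt.le h.ge)
    rw [Nat.card_zpowers, hz, hkc] at h3
    rw [hkc]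
    interval_cases k <;> omega
  have hCx : centralizer {x} ≤ centralizer (X : Set P) := by
    intro g hg
    have hle : X ≤ centralizer {g} := hXgen ▸ sup_le
      (zpowers_le.mpr (mem_centralizer_singleton_iff.mpr (hzc g)))
      (zpowers_le.mpr (mem_centralizer_singleton_iff.mpr (mem_centralizer_singleton_iff.mp hg).symm))
    exact mem_centralizer_iff.mpr fun y hy => mem_centralizer_singleton_iff.mp (hle hy)
  by_cases hxN : x ∈ N
  · have : N ≤ centralizer (X : Set P) := fun n hn => hCx (mem_centralizer_singleton_iff.mpr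
      (congrArg Subtype.val (hNe.1.is_comm.comm ⟨n, hn⟩ ⟨x, hxN⟩)))
    have := hbound N this hNe
    omega
  have hinf : N ⊓ centralizer {x} < X := by
    refine lt_of_le_of_ne (fun n hn => habs n (hCx hn.2) (hNe.2 n hn.1)) fun h => hxN ?_
    exact (h ▸ hxX : x ∈ N ⊓ centralizer {x}).1
  have hd := card_dvd_of_le hinf.le
  rw [hX9] at hd
  obtain ⟨k, hk, hkc⟩ := (Nat.dvd_prime_pow (m := 2) (by norm_num : Nat.Prime 3)).mp hd
  have h3 : Nat.card ↥(N ⊓ centralizer {x}) < 9 := hX9 ▸ lt_of_le_of_ne (card_le_of_le hinf.le)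
    fun h => hinf.ne (eq_of_le_of_card_ge hinf.le h.ge)
  have := card_le_27 N hNe x hx3 (by rw [hkc] at h3 ⊢; interval_cases k <;> omega)
  omega

/-- `S1338`. -/
theorem main (hP : IsPGroup 3 P) (hrk : ¬ Cfsg.PRankLE 3 3 P) : Cfsg.IsKConnected 3 2 P := by
  haveI : Fact (Nat.Prime 3) := ⟨by norm_num⟩
  have hrk2 : ¬ Cfsg.PRankLE 3 2 P := fun h =>
    hrk fun A hA hA3 => (h A hA hA3).trans (Nat.pow_le_pow_right (by norm_num) (by norm_num))
  obtain ⟨U, -, -, -, hU⟩ := Cfsg.Agent.S1337.result.{u} 3 hP hrk2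
  intro E E' hE hEc hE' hEc'
  have h1 := (hU E hE hEc).mpr (not_rank_le_two hP hrk E hE hEc)
  have h2 := (hU E' hE' hEc').mpr (not_rank_le_two hP hrk E' hE' hEc')
  refine h1.trans ?_
  clear h1 hU hE' hEc'
  induction h2 with
  | refl => exact Relation.ReflTransGen.refl
  | tail _ h ih =>
    exact Relation.ReflTransGen.head
      ⟨h.2.2.1, h.2.2.2.1, h.1, h.2.1, fun b hb a ha => (h.2.2.2.2 a ha b hb).symm⟩ ih

end Cfsg.Agent.Grp.ThreeRankConnected
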