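import Mathlib.GroupTheory.Sylow
import Mathlib.GroupTheory.Nilpotent
import Mathlib.GroupTheory.SpecificGroups.KleinFour
import Mathlib.GroupTheory.Abelianization.Defs
import Mathlib.GroupTheory.Commutator.Finite
import Mathlib.Tactic.Group
import Mathlib.Tactic.DeriveFintype
import Mathlib.Data.Fintype.Sigma
import Mathlib.Data.Fintype.Prod
import Mathlib.Tactic.NormNum.Prime

/-! The group of order `320` with commutator subgroup of order `64` and Klein centre is unique. -/

set_option autoImplicit false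
set_option linter.style.haveILetI false

namespace Cfsg.Agent.TwoFive

variable {G : Type*} [Group G]

/-- Optional element. -/
def pw (g : G) (e : Bool) : G := if e then g else 1

theorem pw_true (g : G) : pw g true = g := rfl
theorem pw_false (g : G) : pw g false = 1 := rfl

/-- The hypothesis. -/
def Good (G : Type*) [Group G] : Prop :=
  Nat.card G = 320 ∧ Nat.card (commutator G) = 64 ∧ IsKleinFour (Subgroup.center (commutator G))

/-- Generators with their relations. -/
structure Rel (G : Type*) [Group G] where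
  b : Fin 5 → G
  σ : G
  c1 : G
  c2 : G
  z1 : ∀ g : G, c1 * g = g * c1
  z2 : ∀ g : G, c2 * g = g * c2
  o1 : c1 * c1 = 1
  o2 : c2 * c2 = 1
  sq : ∀ i, b i * b i = c1 * c2
  shift : ∀ i, σ * b i = b (i + 1) * σ
  s5 : σ ^ 5 = 1
  r10 : b 1 * b 0 = b 0 * b 1 * c1
  r20 : b 2 * b 0 = b 0 * b 2 * c2
  r30 : b 3 * b 0 = b 0 * b 3 * c2
  r21 : b 2 * b 1 = b 1 * b 2 * c1
  r31 : b 3 * b 1 = b 1 * b 3 * c2
  r32 : b 3 * b 2 = b 2 * b 3 * c1
  r4 : b 4 = b 0 * b 1 * b 2 * b 3 * (c1 * c2)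
  gen : Subgroup.closure ({b 0, σ} : Set G) = ⊤

/-- Normal forms. -/
structure NF where
  e0 : Bool
  e1 : Bool
  e2 : Bool
  e3 : Bool
  f1 : Bool
  f2 : Bool
  k : Fin 5
deriving DecidableEq

instance : Fintype NF :=
  Fintype.ofEquiv (Bool × Bool × Bool × Bool × Bool × Bool × Fin 5)
    { toFun := fun ⟨a, b, c, d, e, f, k⟩ => ⟨a, b, c, d, e, f, k⟩
      invFun := fun ⟨a, b, c, d, e, f, k⟩ => ⟨a, b, c, d, e, f, k⟩
      left_inv := fun _ => rfl
      right_inv := fun _ => rfl }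

theorem mod_five {K : Type*} [Finite K] (p : Equiv.Perm K) (hp : p ^ 5 = 1) :
    Nat.card K % 5 = Nat.card {k : K // p k = k} % 5 := by
  classical
  haveI : Fact (Nat.Prime 5) := ⟨by norm_num⟩
  haveI : Fintype K := Fintype.ofFinite K
  have h := Equiv.Perm.card_compl_support_modEq (p := 5) (n := 1) (σ := p) (by simpa using hp)
  rw [Nat.card_eq_fintype_card, Nat.card_eq_fintype_card, Fintype.card_subtype]
  rw [show p.supportᶜ = Finset.univ.filter fun k => p k = k by ext; simp] at h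
  exact h.symm

namespace Rel

variable (R : Rel G)

/-- The element of a normal form. -/
def el (x : NF) : G :=
  pw (R.b 0) x.e0 * pw (R.b 1) x.e1 * pw (R.b 2) x.e2 * pw (R.b 3) x.e3 * (pw R.c1 x.f1 * pw R.c2 x.f2) *
    R.σ ^ x.k.val

theorem pw_mul (g : G) (hg : g * g = 1) (d e : Bool) : pw g d * pw g e = pw g (d ^^ e) := by
  cases d <;> cases e <;> simp [pw, hg]

theorem pwc {g : G} (hg : ∀ x, g * x = x * g) (e : Bool) (x : G) : pw g e * x = x * pw g e := by
  cases e <;> simp [pw, hg]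

theorem move {u v c : G} (h : u * v = v * u * c) (e : Bool) : pw u e * v = v * pw u e * pw c e := by
  cases e <;> simp [pw, h]

theorem absorb {g s : G} (h : g * g = s) (e : Bool) : pw g e * g = pw g (!e) * pw s e := by
  cases e <;> simp [pw, h]

theorem pw_prod (u v : G) (hu : ∀ x, u * x = x * u) (e : Bool) : pw (u * v) e = pw u e * pw v e := by
  cases e <;> simp [pw]

/-- Right multiplication by `b j` on the abelian-normal part. -/
def step : Fin 4 → NF → NF
  | 0, x => { x with e0 := !x.e0, f1 := x.f1 ^^ x.e1 ^^ x.e0, f2 := x.f2 ^^ x.e2 ^^ x.e3 ^^ x.e0 }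
  | 1, x => { x with e1 := !x.e1, f1 := x.f1 ^^ x.e2 ^^ x.e1, f2 := x.f2 ^^ x.e3 ^^ x.e1 }
  | 2, x => { x with e2 := !x.e2, f1 := x.f1 ^^ x.e3 ^^ x.e2, f2 := x.f2 ^^ x.e2 }
  | 3, x => { x with e3 := !x.e3, f1 := x.f1 ^^ x.e3, f2 := x.f2 ^^ x.e3 }

/-- The central part. -/
def zz (f1 f2 : Bool) : G := pw R.c1 f1 * pw R.c2 f2

theorem zz_comm (f1 f2 : Bool) (g : G) : R.zz f1 f2 * g = g * R.zz f1 f2 := by
  rw [zz, mul_assoc, pwc R.z2, ← mul_assoc, pwc R.z1, mul_assoc]

theorem zz_mul (a b c d : Bool) : R.zz a b * R.zz c d = R.zz (a ^^ c) (b ^^ d) := by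
  rw [zz, zz, zz, mul_assoc, ← mul_assoc (pw R.c2 b), pwc R.z2 b (pw R.c1 c), mul_assoc, ← mul_assoc,
    pw_mul R.c1 R.o1, pw_mul R.c2 R.o2]

theorem sq_zz (e : Bool) : pw (R.c1 * R.c2) e = R.zz e e := pw_prod _ _ R.z1 e

theorem c1_zz (e : Bool) : pw R.c1 e = R.zz e false := by simp [zz, pw_false]

theorem c2_zz (e : Bool) : pw R.c2 e = R.zz false e := by simp [zz, pw_false]

/-- A word before the rotation part. -/
def base (x : NF) : G :=
  pw (R.b 0) x.e0 * pw (R.b 1) x.e1 * pw (R.b 2) x.e2 * pw (R.b 3) x.e3 * R.zz x.f1 x.f2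

theorem el_eq (x : NF) : R.el x = R.base x * R.σ ^ x.k.val := rfl

theorem pull (f1 f2 : Bool) (P Q : G) : P * R.zz f1 f2 * Q = P * Q * R.zz f1 f2 := by
  rw [mul_assoc, R.zz_comm, ← mul_assoc]

theorem zz_left (f1 f2 : Bool) (P : G) (a b : Bool) : P * R.zz f1 f2 * R.zz a b = P * R.zz (f1 ^^ a) (f2 ^^ b) := by
  rw [mul_assoc, zz_mul]

theorem pullpw (a b : Bool) (P g : G) (e : Bool) : P * R.zz a b * pw g e = P * pw g e * R.zz a b := R.pull a b P _

theorem ofn_val (k : Fin 5) : Fin.ofNat 5 k.val = k := Fin.ext (by simp [Nat.mod_eq_of_lt k.isLt])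

theorem ofn_succ (k : ℕ) : Fin.ofNat 5 k + 1 = Fin.ofNat 5 (k + 1) :=
  Fin.ext (by simp [Fin.val_add, Nat.add_mod])

theorem step_spec (j : Fin 4) (x : NF) : R.base x * R.b j.castSucc = R.base (step j x) := by
  obtain ⟨e0, e1, e2, e3, f1, f2, k⟩ := x
  unfold base
  rw [R.pull]
  fin_cases j
  · show pw (R.b 0) e0 * pw (R.b 1) e1 * pw (R.b 2) e2 * pw (R.b 3) e3 * R.b 0 * R.zz f1 f2 = _
    rw [mul_assoc _ (pw (R.b 3) e3) (R.b 0), move R.r30, c2_zz]
    simp only [← mul_assoc]
    rw [mul_assoc _ (pw (R.b 2) e2) (R.b 0), move R.r20, c2_zz]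
    simp only [← mul_assoc]
    rw [mul_assoc _ (pw (R.b 1) e1) (R.b 0), move R.r10, c1_zz]
    simp only [← mul_assoc]
    rw [absorb (R.sq 0), sq_zz]
    simp only [R.pullpw, zz_left]
    simp only [step]
    congr 2 <;> cases e0 <;> cases e1 <;> cases e2 <;> cases e3 <;> cases f1 <;> cases f2 <;> rfl
  · show pw (R.b 0) e0 * pw (R.b 1) e1 * pw (R.b 2) e2 * pw (R.b 3) e3 * R.b 1 * R.zz f1 f2 = _
    rw [mul_assoc _ (pw (R.b 3) e3) (R.b 1), move R.r31, c2_zz]
    simp only [← mul_assoc]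
    rw [mul_assoc _ (pw (R.b 2) e2) (R.b 1), move R.r21, c1_zz]
    simp only [← mul_assoc]
    rw [mul_assoc _ (pw (R.b 1) e1) (R.b 1), absorb (R.sq 1), sq_zz]
    simp only [← mul_assoc]
    simp only [R.pullpw, zz_left]
    simp only [step]
    congr 2 <;> cases e0 <;> cases e1 <;> cases e2 <;> cases e3 <;> cases f1 <;> cases f2 <;> rfl
  · show pw (R.b 0) e0 * pw (R.b 1) e1 * pw (R.b 2) e2 * pw (R.b 3) e3 * R.b 2 * R.zz f1 f2 = _
    rw [mul_assoc _ (pw (R.b 3) e3) (R.b 2), move R.r32, c1_zz]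
    simp only [← mul_assoc]
    rw [mul_assoc _ (pw (R.b 2) e2) (R.b 2), absorb (R.sq 2), sq_zz]
    simp only [← mul_assoc]
    simp only [R.pullpw, zz_left]
    simp only [step]
    congr 2 <;> cases e0 <;> cases e1 <;> cases e2 <;> cases e3 <;> cases f1 <;> cases f2 <;> rfl
  · show pw (R.b 0) e0 * pw (R.b 1) e1 * pw (R.b 2) e2 * pw (R.b 3) e3 * R.b 3 * R.zz f1 f2 = _
    rw [mul_assoc _ (pw (R.b 3) e3) (R.b 3), absorb (R.sq 3), sq_zz]
    simp only [← mul_assoc]
    simp only [R.pullpw, zz_left]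
    simp only [step]
    congr 2 <;> cases e0 <;> cases e1 <;> cases e2 <;> cases e3 <;> cases f1 <;> cases f2 <;> rfl

/-- Right multiplication by `b j`, all five. -/
def stepAll (j : Fin 5) (x : NF) : NF :=
  if h : j.val < 4 then step ⟨j.val, h⟩ x
  else
    let y := step 3 (step 2 (step 1 (step 0 x)))
    { y with f1 := !y.f1, f2 := !y.f2 }

theorem stepAll_spec (j : Fin 5) (x : NF) : R.base x * R.b j = R.base (stepAll j x) := by
  unfold stepAll
  split
  · next h => exact R.step_spec ⟨j.val, h⟩ x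
  · next h =>
    obtain rfl : j = 4 := Fin.ext (by have := j.isLt; omega)
    have h0 := R.step_spec 0 x
    have h1 := R.step_spec 1 (step 0 x)
    have h2 := R.step_spec 2 (step 1 (step 0 x))
    have h3 := R.step_spec 3 (step 2 (step 1 (step 0 x)))
    rw [show (Fin.castSucc (0 : Fin 4)) = (0 : Fin 5) from rfl] at h0
    rw [show (Fin.castSucc (1 : Fin 4)) = (1 : Fin 5) from rfl] at h1
    rw [show (Fin.castSucc (2 : Fin 4)) = (2 : Fin 5) from rfl] at h2
    rw [show (Fin.castSucc (3 : Fin 4)) = (3 : Fin 5) from rfl] at h3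
    rw [R.r4]
    simp only [← mul_assoc]
    rw [h0, h1, h2, h3, mul_assoc _ R.c1 R.c2, show R.c1 * R.c2 = R.zz true true from rfl]
    unfold base
    rw [zz_left]
    simp

theorem pow_b (k : ℕ) : R.σ ^ k * R.b 0 = R.b (Fin.ofNat 5 k) * R.σ ^ k := by
  induction k with
  | zero => simp
  | succ k ih =>
    rw [pow_succ', mul_assoc, ih, ← mul_assoc, R.shift, mul_assoc, ofn_succ]

/-- Right multiplication by the two generators. -/
def act : Bool → NF → NF
  | false, x => { stepAll x.k x with k := x.k }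
  | true, x => { x with k := x.k + 1 }

/-- The generators. -/
def gn : Bool → G
  | false => R.b 0
  | true => R.σ

theorem act_spec (d : Bool) (x : NF) : R.el x * R.gn d = R.el (act d x) := by
  cases d
  · show R.base x * R.σ ^ x.k.val * R.b 0 = R.base { stepAll x.k x with k := x.k } * R.σ ^ x.k.val
    rw [mul_assoc, pow_b, ofn_val, ← mul_assoc, R.stepAll_spec]
    rfl
  · show R.base x * R.σ ^ x.k.val * R.σ = R.base x * R.σ ^ (x.k + 1).val
    rw [mul_assoc, ← pow_succ, Fin.val_add, Fin.val_one, ← pow_eq_pow_mod _ R.s5]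

theorem el_zero : R.el ⟨false, false, false, false, false, false, 0⟩ = 1 := by simp [el, pw]

end Rel

theorem iso_of_rel {H : Type*} [Group H] [Finite G] [Finite H] (R : Rel G) (S : Rel H)
    (hG : Nat.card G = 320) (hH : Nat.card H = 320) : Nonempty (G ≃* H) := by
  classical
  let D : Subgroup (G × H) := Subgroup.closure (Set.range fun d => (R.gn d, S.gn d))
  have h2 : ∀ x ∈ D, ∃ i, (R.el i, S.el i) = x := by
    have hD : (D : Set (G × H)) = Submonoid.closure (Set.range fun d => (R.gn d, S.gn d)) := by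
      rw [← Subgroup.coe_toSubmonoid, Subgroup.closure_toSubmonoid_of_finite]
    intro x hx
    rw [← SetLike.mem_coe, hD, SetLike.mem_coe] at hx
    induction hx using Submonoid.closure_induction_right with
    | one => exact ⟨_, Prod.ext R.el_zero S.el_zero⟩
    | mul_right x hx y hy ih =>
      obtain ⟨i, rfl⟩ := ih
      obtain ⟨d, rfl⟩ := hy
      exact ⟨Rel.act d i, Prod.ext (R.act_spec d i).symm (S.act_spec d i).symm⟩
  have hNF : Nat.card NF = 320 := by
    rw [Nat.card_congr (show NF ≃ Bool × Bool × Bool × Bool × Bool × Bool × Fin 5 from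
      { toFun := fun ⟨a, b, c, d, e, f, k⟩ => ⟨a, b, c, d, e, f, k⟩
        invFun := fun ⟨a, b, c, d, e, f, k⟩ => ⟨a, b, c, d, e, f, k⟩
        left_inv := fun _ => rfl
        right_inv := fun _ => rfl }), Nat.card_eq_fintype_card]
    simp [Fintype.card_prod]
  have hf : Function.Surjective ((MonoidHom.fst G H).comp D.subtype) := by
    rw [← MonoidHom.range_eq_top, eq_top_iff, ← R.gen, Subgroup.closure_le]
    rintro y (rfl | rfl)
    · exact ⟨⟨_, Subgroup.subset_closure ⟨false, rfl⟩⟩, rfl⟩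
    · exact ⟨⟨_, Subgroup.subset_closure ⟨true, rfl⟩⟩, rfl⟩
  have hs : Function.Surjective ((MonoidHom.snd G H).comp D.subtype) := by
    rw [← MonoidHom.range_eq_top, eq_top_iff, ← S.gen, Subgroup.closure_le]
    rintro y (rfl | rfl)
    · exact ⟨⟨_, Subgroup.subset_closure ⟨false, rfl⟩⟩, rfl⟩
    · exact ⟨⟨_, Subgroup.subset_closure ⟨true, rfl⟩⟩, rfl⟩
  have hDle : Nat.card D ≤ 320 := by
    rw [← hNF]
    refine Nat.card_le_card_of_surjective (fun i => if h : (R.el i, S.el i) ∈ D then (⟨_, h⟩ : D) else 1) fun x => ?_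
    obtain ⟨i, hi⟩ := h2 x x.2
    exact ⟨i, by simp [hi]⟩
  have hD : Nat.card D = 320 := le_antisymm hDle (hG ▸ Nat.card_le_card_of_surjective _ hf)
  have bf := (Nat.bijective_iff_surjective_and_card _).2 ⟨hf, hD.trans hG.symm⟩
  have bs := (Nat.bijective_iff_surjective_and_card _).2 ⟨hs, hD.trans hH.symm⟩
  exact ⟨(MulEquiv.ofBijective _ bf).symm.trans (MulEquiv.ofBijective _ bs)⟩

open scoped commutatorElement in
theorem exists_rel [Finite G] (h : Good G) : Nonempty (Rel G) := by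
  classical
  obtain ⟨hG, hT, hK⟩ := h
  haveI : Fact (Nat.Prime 2) := ⟨Nat.prime_two⟩
  haveI : Fact (Nat.Prime 5) := ⟨by norm_num⟩
  obtain ⟨σ, hσ⟩ := exists_prime_orderOf_dvd_card' (G := G) 5 (by rw [hG]; norm_num)
  set T := commutator G with hTdef
  haveI hTn : T.Normal := inferInstance
  set Z := (Subgroup.center T).map T.subtype with hZdef
  haveI : (Subgroup.center T).Characteristic := inferInstance
  haveI hZn : Z.Normal := inferInstance
  have hZc : Nat.card Z = 4 := by
    rw [hZdef, Subgroup.card_map_of_injective T.subtype_injective]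
    exact hK.1
  have hZT : Z ≤ T := Subgroup.map_subtype_le _
  have hZ2 : ∀ z ∈ Z, z * z = 1 := by
    rintro _ ⟨z, hz, rfl⟩
    haveI := hK
    exact congrArg (fun w : Subgroup.center T => ((w : T) : G)) (IsKleinFour.mul_self (⟨z, hz⟩ : Subgroup.center T))
  have hZT' : ∀ z ∈ Z, ∀ t ∈ T, z * t = t * z := by
    rintro _ ⟨z, hz, rfl⟩ t ht
    exact congrArg Subtype.val (Subgroup.mem_center_iff.1 hz ⟨t, ht⟩).symm
  have hdec : Subgroup.closure ({σ} : Set G) ⊔ T = ⊤ := by
    refine Subgroup.eq_top_of_card_eq _ (Nat.dvd_antisymm (Subgroup.card_subgroup_dvd_card _) ?_)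
    have h1 : Nat.card T ∣ Nat.card ↥(Subgroup.closure ({σ} : Set G) ⊔ T) := Subgroup.card_dvd_of_le le_sup_right
    have h2 : orderOf σ ∣ Nat.card ↥(Subgroup.closure ({σ} : Set G) ⊔ T) := by
      rw [← Nat.card_zpowers, Subgroup.zpowers_eq_closure]
      exact Subgroup.card_dvd_of_le le_sup_left
    rw [hT] at h1
    rw [hσ] at h2
    rw [hG]
    exact Nat.Coprime.mul_dvd_of_dvd_of_dvd (by norm_num) h2 h1
  -- conjugation by the element of order five
  let φ : G →* G := (MulAut.conj σ).toMonoidHom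
  have hφ : ∀ g, φ g = σ * g * σ⁻¹ := fun g => rfl
  have hσ5 : σ ^ 5 = 1 := hσ ▸ pow_orderOf_eq_one σ
  have hper : ∀ (g : G) (n : ℕ), σ ^ n * g * (σ ^ n)⁻¹ = φ^[n] g := fun g n => by
    induction n with
    | zero => simp
    | succ n ih => rw [Function.iterate_succ_apply', ← ih, hφ, pow_succ']; group
  have hZfix : ∀ z ∈ Z, σ * z = z * σ := by
    intro z hz
    let α : MulAut Z := MulAut.conjNormal σ
    have hα : α ^ 5 = 1 := by rw [← map_pow, hσ5, map_one]
    by_contra hne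
    have hne' : α ⟨z, hz⟩ ≠ ⟨z, hz⟩ := fun e => hne (by
      have e' : σ * z * σ⁻¹ = z := congrArg Subtype.val e
      exact mul_inv_eq_iff_eq_mul.1 e')
    let pα : Equiv.Perm Z := α.toEquiv
    have hp5 : pα ^ 5 = 1 := by
      have : MulAut.toPerm Z α ^ 5 = 1 := by rw [← map_pow, hα, map_one]
      exact this
    haveI : Fintype Z := Fintype.ofFinite Z
    have hc : Fintype.card Z = 4 := by rw [← Nat.card_eq_fintype_card, hZc]
    have ho : orderOf pα ∣ Fintype.card (Equiv.Perm Z) := orderOf_dvd_card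
    have ho5 : orderOf pα = 5 := orderOf_eq_prime hp5 fun e => hne' (congrFun (congrArg DFunLike.coe e) _)
    rw [ho5, Fintype.card_perm, hc] at ho
    exact absurd ho (by decide)
  have hZcen : ∀ z ∈ Z, ∀ g : G, z * g = g * z := by
    intro z hz g
    have hle : Subgroup.closure ({σ} : Set G) ⊔ T ≤ Subgroup.centralizer ({z} : Set G) := by
      refine sup_le ((Subgroup.closure_le _).2 ?_) fun t ht => Subgroup.mem_centralizer_singleton_iff.2 (hZT' z hz t ht).symm
      rintro _ rfl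
      exact Subgroup.mem_centralizer_singleton_iff.2 (hZfix z hz)
    rw [hdec] at hle
    exact (Subgroup.mem_centralizer_singleton_iff.1 (hle (Subgroup.mem_top g))).symm
  -- quotient
  let π := QuotientGroup.mk' Z
  let V := T.map π
  have hVn : V.Normal := hTn.map π (QuotientGroup.mk'_surjective Z)
  have hV : Nat.card V = 16 := by
    have h1 := Subgroup.relIndex_map_map π (⊥ : Subgroup G) T
    rw [Subgroup.map_bot, Subgroup.relIndex_bot_left] at h1
    rw [h1, bot_sup_eq, QuotientGroup.ker_mk', sup_of_le_left hZT]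
    have h2 := Subgroup.relIndex_mul_relIndex (⊥ : Subgroup G) Z T bot_le hZT
    rw [Subgroup.relIndex_bot_left, Subgroup.relIndex_bot_left, hZc, hT] at h2
    omega
  have hcommq : commutator (G ⧸ Z) = V := by
    rw [commutator_def, ← Subgroup.map_top_of_surjective π (QuotientGroup.mk'_surjective Z), ← Subgroup.map_commutator]
    rfl
  have hπσ : π σ ^ 5 = 1 := by rw [← map_pow, hσ5, map_one]
  let α : MulAut V := MulAut.conjNormal (π σ)
  have hαv : ∀ v : V, ((α v : V) : G ⧸ Z) = π σ * v * (π σ)⁻¹ := fun v => MulAut.conjNormal_apply _ v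
  have hα5 : MulAut.toPerm V α ^ 5 = 1 := by rw [← map_pow, ← map_pow, hπσ, map_one, map_one]
  have hpd : ∀ W : Subgroup V, Nat.card W = 1 ∨ Nat.card W = 16 ∨ Nat.card W % 5 ≠ 1 := fun W => by
    have hd : Nat.card W ∣ 2 ^ 4 := by
      have := Subgroup.card_subgroup_dvd_card W
      rw [hV] at this; exact this
    obtain ⟨j, hj, hjc⟩ := (Nat.dvd_prime_pow Nat.prime_two).1 hd
    rw [hjc]
    interval_cases j <;> norm_num
  have hVfix : ∀ w : V, α w = w → w = 1 := by
    let F0 : Subgroup V := MonoidHom.eqLocus α.toMonoidHom (MonoidHom.id V)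
    have hm := mod_five (MulAut.toPerm V α) hα5
    have hF : Nat.card {v : V // MulAut.toPerm V α v = v} = Nat.card F0 := Nat.card_congr (Equiv.refl _)
    rw [hF, hV] at hm
    rcases hpd F0 with h | h | h
    · intro w hw
      rw [Subgroup.card_eq_one] at h
      exact Subgroup.mem_bot.1 (h ▸ (show w ∈ F0 from hw))
    · exfalso
      have htop : F0 = ⊤ := Subgroup.eq_top_of_card_eq _ (by rw [h, hV])
      have hcen : ∀ v ∈ V, π σ * v = v * π σ := fun v hv => by
        have h' : (⟨v, hv⟩ : V) ∈ F0 := htop ▸ Subgroup.mem_top _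
        have := congrArg Subtype.val (show α ⟨v, hv⟩ = ⟨v, hv⟩ from h')
        rw [hαv] at this
        exact mul_inv_eq_iff_eq_mul.1 this
      -- then the commutator subgroup of the quotient is inside that of `V`
      have hsup : Subgroup.closure ({π σ} : Set (G ⧸ Z)) ⊔ V = ⊤ := by
        have := congrArg (Subgroup.map π) hdec
        rwa [Subgroup.map_sup, MonoidHom.map_closure, Set.image_singleton,
          Subgroup.map_top_of_surjective π (QuotientGroup.mk'_surjective Z)] at this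
      have hle : commutator (G ⧸ Z) ≤ (commutator V).map V.subtype := by
        have hn : ((commutator V).map V.subtype).Normal := inferInstance
        rw [commutator_def, ← hsup, Subgroup.commutator_le]
        intro x hx y hy
        rw [sup_comm, Subgroup.mem_sup_of_normal_left] at hx hy
        obtain ⟨v, hv, c, hc, rfl⟩ := hx
        obtain ⟨v', hv', c', hc', rfl⟩ := hy
        rw [← Subgroup.zpowers_eq_closure] at hc hc'
        obtain ⟨n, rfl⟩ := hc
        obtain ⟨n', rfl⟩ := hc'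
        have e1 : ∀ u ∈ V, ∀ m : ℤ, Commute (π σ ^ m) u := fun u hu m => Commute.zpow_left (hcen u hu) m
        have : ⁅v * π σ ^ n, v' * π σ ^ n'⁆ = ⁅v, v'⁆ := by
          simp only [commutatorElement_def, _root_.mul_inv_rev]
          have a1 := (e1 v' hv' n).eq
          have a2 := (e1 v hv n').eq
          have a3 := (Commute.zpow_zpow_self (π σ) n n').eq
          calc v * π σ ^ n * (v' * π σ ^ n') * ((π σ ^ n)⁻¹ * v⁻¹) * ((π σ ^ n')⁻¹ * v'⁻¹)
              = v * (π σ ^ n * v') * π σ ^ n' * (π σ ^ n)⁻¹ * v⁻¹ * (π σ ^ n')⁻¹ * v'⁻¹ := by group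
            _ = v * v' * (π σ ^ n * π σ ^ n') * (π σ ^ n)⁻¹ * v⁻¹ * (π σ ^ n')⁻¹ * v'⁻¹ := by rw [a1]; group
            _ = v * v' * π σ ^ n' * v⁻¹ * (π σ ^ n')⁻¹ * v'⁻¹ := by rw [a3]; group
            _ = v * v' * (v⁻¹ * π σ ^ n') * (π σ ^ n')⁻¹ * v'⁻¹ := by
              rw [← ((e1 v⁻¹ (inv_mem hv) n').eq)]; group
            _ = v * v' * v⁻¹ * v'⁻¹ := by group
        rw [this]
        exact ⟨_, Subgroup.commutator_mem_commutator (Subgroup.mem_top (⟨v, hv⟩ : V)) (Subgroup.mem_top ⟨v', hv'⟩), rfl⟩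
      rw [hcommq] at hle
      have hVp : IsPGroup 2 V := IsPGroup.of_card (n := 4) (by rw [hV]; norm_num)
      haveI : Nontrivial V := Finite.one_lt_card_iff_nontrivial.1 (by rw [hV]; norm_num)
      haveI := hVp.isNilpotent
      have hlt : commutator V < ⊤ := Group.IsSolvable.commutator_lt_top_of_nontrivial V
      refine hlt.ne (eq_top_iff.2 fun v _ => ?_)
      obtain ⟨u, hu, e⟩ := hle v.2
      exact Subtype.ext e ▸ hu
    · exact absurd (by omega) h
  have inv_card : ∀ W : Subgroup V, (∀ w ∈ W, α w ∈ W) → W = ⊥ ∨ W = ⊤ := by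
    intro W hinv
    let f : W → W := fun w => ⟨α w, hinv _ w.2⟩
    let p : Equiv.Perm W := Equiv.ofBijective f
      (Finite.injective_iff_bijective.1 fun a b e => Subtype.ext (α.injective (congrArg Subtype.val e)))
    have hpn : ∀ (n : ℕ) (w : W), ((p ^ n) w : V) = (MulAut.toPerm V α ^ n) w := by
      intro n
      induction n with
      | zero => simp
      | succ n ih =>
        intro w
        rw [pow_succ', Equiv.Perm.mul_apply, pow_succ', Equiv.Perm.mul_apply, ← ih]
        rfl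
    have hm := mod_five p (Equiv.ext fun w => Subtype.ext (by rw [hpn, hα5]; rfl))
    have h1 : Nat.card {w : W // p w = w} = 1 := by
      rw [Nat.card_eq_one_iff_unique]
      refine ⟨⟨fun a b => Subtype.ext (Subtype.ext ?_)⟩, ⟨⟨1, Subtype.ext (map_one α)⟩⟩⟩
      rw [hVfix _ (congrArg Subtype.val a.2), hVfix _ (congrArg Subtype.val b.2)]
    rw [h1] at hm
    rcases hpd W with h | h | h
    · exact Or.inl (Subgroup.card_eq_one.1 h)
    · exact Or.inr (Subgroup.eq_top_of_card_eq _ (by rw [h, hV]))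
    · exact absurd hm h
  have hVcomm : ∀ x y : V, x * y = y * x := by
    have hVp : IsPGroup 2 V := IsPGroup.of_card (n := 4) (by rw [hV]; norm_num)
    haveI : Nontrivial V := Finite.one_lt_card_iff_nontrivial.1 (by rw [hV]; norm_num)
    haveI := hVp.center_nontrivial
    rcases inv_card (Subgroup.center V) (fun w hw => Subgroup.mem_center_iff.2 fun g => by
      obtain ⟨g, rfl⟩ := α.surjective g
      rw [← map_mul, ← map_mul, Subgroup.mem_center_iff.1 hw g]) with h | h
    · exact absurd h ((Subgroup.nontrivial_iff_ne_bot _).1 inferInstance)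
    · exact fun x y => (Subgroup.mem_center_iff.1 (h ▸ Subgroup.mem_top x) y).symm
  have hVsq : ∀ x : V, x * x = 1 := by
    let W : Subgroup V :=
      { carrier := {x | x * x = 1}
        one_mem' := one_mul 1
        mul_mem' := fun {x y} hx hy => by
          simp only [Set.mem_setOf_eq] at hx hy ⊢
          rw [mul_assoc, ← mul_assoc y, hVcomm y x, mul_assoc x y, hy, mul_one, hx]
        inv_mem' := fun {x} hx => by
          simp only [Set.mem_setOf_eq] at hx ⊢
          rw [← _root_.mul_inv_rev, hx, inv_one] }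
    obtain ⟨x, hx⟩ := exists_prime_orderOf_dvd_card' (G := V) 2 (by rw [hV]; norm_num)
    rcases inv_card W (fun w hw => by
      show α w * α w = 1
      rw [← map_mul, show w * w = 1 from hw, map_one]) with h | h
    · have hxW : x ∈ W := by
        show x * x = 1
        rw [← pow_two, ← hx, pow_orderOf_eq_one]
      rw [h, Subgroup.mem_bot] at hxW
      rw [hxW, orderOf_one] at hx
      omega
    · exact fun x => show x ∈ W from h ▸ Subgroup.mem_top x
  have hmk : ∀ g : G, π g = 1 ↔ g ∈ Z := fun g => by rw [← MonoidHom.mem_ker, QuotientGroup.ker_mk']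
  have sqZ : ∀ t ∈ T, t * t ∈ Z := fun t ht => (hmk _).1 (by
    rw [map_mul]
    exact congrArg Subtype.val (hVsq ⟨π t, Subgroup.mem_map_of_mem π ht⟩))
  let cm : G → G → G := fun x y => x⁻¹ * y⁻¹ * x * y
  have cmZ : ∀ x ∈ T, ∀ y ∈ T, cm x y ∈ Z := fun x hx y hy => (hmk _).1 (by
    have := congrArg Subtype.val (hVcomm ⟨π x, Subgroup.mem_map_of_mem π hx⟩ ⟨π y, Subgroup.mem_map_of_mem π hy⟩)
    simp only [Subgroup.coe_mul] at this
    show π (x⁻¹ * y⁻¹ * x * y) = 1
    rw [map_mul, map_mul, map_mul, map_inv, map_inv, mul_assoc ((π x)⁻¹ * (π y)⁻¹), this]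
    group)
  obtain ⟨a, haT, haZ⟩ : ∃ a ∈ T, a ∉ Z := by
    by_contra hc
    push Not at hc
    have := Subgroup.card_le_of_le (show T ≤ Z from hc)
    rw [hT, hZc] at this
    omega
  have hφT : ∀ n, ∀ t ∈ T, φ^[n] t ∈ T := fun n t ht => hper t n ▸ hTn.conj_mem t ht _
  have hφZ : ∀ n, ∀ z ∈ Z, φ^[n] z = z := fun n z hz => by rw [← hper, ← hZcen z hz]; group
  have hφmul : ∀ n x y, φ^[n] (x * y) = φ^[n] x * φ^[n] y := fun n x y => by rw [← hper, ← hper, ← hper]; group
  have hφ5 : ∀ x, φ^[5] x = x := fun x => by rw [← hper, hσ5]; group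
  -- normalise the product of the conjugates
  set p := φ^[0] a * φ^[1] a * φ^[2] a * φ^[3] a * φ^[4] a with hpdef
  have hpT : p ∈ T := mul_mem (mul_mem (mul_mem (mul_mem (hφT 0 a haT) (hφT 1 a haT)) (hφT 2 a haT)) (hφT 3 a haT)) (hφT 4 a haT)
  have hpZ : p ∈ Z := by
    refine (hmk p).1 ?_
    have hfix : α ⟨π p, Subgroup.mem_map_of_mem π hpT⟩ = ⟨π p, Subgroup.mem_map_of_mem π hpT⟩ := by
      refine Subtype.ext ?_
      rw [hαv]
      show π σ * π p * (π σ)⁻¹ = π p
      rw [← map_inv, ← map_mul, ← map_mul]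
      show π (φ p) = π p
      have e : φ p = φ^[1] a * φ^[2] a * φ^[3] a * φ^[4] a * φ^[0] a := by
        rw [hpdef, map_mul, map_mul, map_mul, map_mul]
        simp only [← Function.iterate_succ_apply']
        rw [hφ5]
        rfl
      rw [e, map_mul, hpdef]
      simp only [map_mul]
      have := congrArg Subtype.val (hVcomm ⟨π (φ^[1] a * φ^[2] a * φ^[3] a * φ^[4] a), Subgroup.mem_map_of_mem π
        (mul_mem (mul_mem (mul_mem (hφT 1 a haT) (hφT 2 a haT)) (hφT 3 a haT)) (hφT 4 a haT))⟩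
        ⟨π (φ^[0] a), Subgroup.mem_map_of_mem π (hφT 0 a haT)⟩)
      simp only [Subgroup.coe_mul, map_mul] at this
      rw [this]
      simp only [mul_assoc]
    exact congrArg Subtype.val (hVfix _ hfix)
  let b : Fin 5 → G := fun i => φ^[i.val] a * p
  have hbT : ∀ i, b i ∈ T := fun i => mul_mem (hφT _ a haT) (hZT hpZ)
  have hshift : ∀ i, σ * b i = b (i + 1) * σ := fun i => by
    have e : φ (b i) = b (i + 1) := by
      show φ (φ^[i.val] a * p) = φ^[(i + 1).val] a * p
      rw [map_mul, show φ p = p from hφZ 1 p hpZ, ← Function.iterate_succ_apply' φ]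
      congr 1
      fin_cases i <;> first | rfl | exact hφ5 a
    rw [← e, hφ]; group
  have hbφ : ∀ i, φ (b i) = b (i + 1) := fun i => by rw [hφ, hshift]; group
  have hprod : b 0 * b 1 * b 2 * b 3 * b 4 = 1 := by
    show φ^[0] a * p * (φ^[1] a * p) * (φ^[2] a * p) * (φ^[3] a * p) * (φ^[4] a * p) = 1
    have key : ∀ q ∈ Z, ∀ x y, x * q * (y * q) = x * y := fun q hq x y => by
      calc x * q * (y * q) = x * (q * y) * q := by group
        _ = x * (y * q) * q := by rw [hZcen q hq y]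
        _ = x * y * (q * q) := by group
        _ = x * y := by rw [hZ2 q hq, mul_one]
    rw [key p hpZ, ← mul_assoc (φ^[0] a * φ^[1] a) (φ^[2] a) p, key p hpZ, ← mul_assoc _ (φ^[4] a) p, ← hpdef]
    exact hZ2 p hpZ
  let c : Fin 5 → Fin 5 → G := fun i j => cm (b i) (b j)
  have hcZ : ∀ i j, c i j ∈ Z := fun i j => cmZ _ (hbT i) _ (hbT j)
  have hsw : ∀ i j, b i * b j = b j * b i * c i j := fun i j => by simp only [c, cm]; group
  have hcs : ∀ i j, c (i + 1) (j + 1) = c i j := fun i j => by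
    show cm (b (i + 1)) (b (j + 1)) = c i j
    rw [← hbφ, ← hbφ, ← hφZ 1 (c i j) (hcZ i j), Function.iterate_one]
    simp only [c, cm, map_mul, map_inv]
  have hcsym : ∀ i j, c i j = c j i := fun i j => by
    have e : c i j * c j i = 1 := by simp only [c, cm]; group
    calc c i j = c i j * (c j i * c j i) := by rw [hZ2 _ (hcZ j i), mul_one]
      _ = c j i := by rw [← mul_assoc, e, one_mul]
  have e20 : c 3 0 = c 2 0 := by rw [hcsym 3 0, ← hcs 0 3, ← hcs (0 + 1) (3 + 1)]; rfl
  have hs : ∀ i : Fin 5, b i * b i = b 0 * b 0 := by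
    have key : ∀ n : ℕ, φ^[n] (b 0) = b (Fin.ofNat 5 n) := fun n => by
      induction n with
      | zero => rfl
      | succ n ih => rw [Function.iterate_succ_apply', ih, hbφ, Rel.ofn_succ]
    intro i
    rw [← Rel.ofn_val i, ← key, ← hφmul, hφZ _ _ (sqZ _ (hbT 0))]
  have hsZ := sqZ _ (hbT 0)
  -- the common square
  have hsc : b 0 * b 0 = c 1 0 * c 2 0 := by
    set s := b 0 * b 0 with hsdef
    have z1 := hZcen _ (hcZ 1 0)
    have z2 := hZcen _ (hcZ 2 0)
    have zs := hZcen _ hsZ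
    have r21 : c 2 1 = c 1 0 := hcs 1 0
    have r31 : c 3 1 = c 2 0 := hcs 2 0
    have r32 : c 3 2 = c 1 0 := (hcs 2 1).trans r21
    have h4 : b 4 = (b 0 * b 1 * b 2 * b 3)⁻¹ := eq_inv_of_mul_eq_one_right hprod
    have hu : (b 0 * b 1 * b 2 * b 3) * (b 0 * b 1 * b 2 * b 3) = s := by
      have := hs 4
      rw [h4, ← _root_.mul_inv_rev] at this
      have h' := congrArg (·⁻¹) this
      simp only [inv_inv] at h'
      rw [h', inv_eq_of_mul_eq_one_right (hZ2 _ hsZ)]
    have hcomp : (b 0 * b 1 * b 2 * b 3) * (b 0 * b 1 * b 2 * b 3) = c 1 0 * c 2 0 := by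
      have m30 : b 3 * b 0 = b 0 * b 3 * c 2 0 := by rw [hsw 3 0, e20]
      have m20 : b 2 * b 0 = b 0 * b 2 * c 2 0 := hsw 2 0
      have m10 : b 1 * b 0 = b 0 * b 1 * c 1 0 := hsw 1 0
      have m31 : b 3 * b 1 = b 1 * b 3 * c 2 0 := by rw [hsw 3 1, r31]
      have m21 : b 2 * b 1 = b 1 * b 2 * c 1 0 := by rw [hsw 2 1, r21]
      have m32 : b 3 * b 2 = b 2 * b 3 * c 1 0 := by rw [hsw 3 2, r32]
      have w1 : b 2 * b 3 * (b 2 * b 3) = c 1 0 := by
        calc b 2 * b 3 * (b 2 * b 3) = b 2 * (b 3 * b 2) * b 3 := by group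
          _ = b 2 * b 2 * b 3 * (c 1 0 * b 3) := by rw [m32]; group
          _ = (b 2 * b 2) * (b 3 * b 3) * c 1 0 := by rw [z1 (b 3)]; group
          _ = c 1 0 := by rw [hs 2, hs 3, hZ2 s hsZ, one_mul]
      have w2 : b 1 * b 2 * b 3 * (b 1 * b 2 * b 3) = s * c 2 0 := by
        calc b 1 * b 2 * b 3 * (b 1 * b 2 * b 3) = b 1 * b 2 * (b 3 * b 1) * b 2 * b 3 := by group
          _ = b 1 * (b 2 * b 1) * b 3 * (c 2 0 * (b 2 * b 3)) := by rw [m31]; group
          _ = b 1 * b 1 * b 2 * (c 1 0 * b 3) * (b 2 * b 3 * c 2 0) := by rw [z2 (b 2 * b 3), m21]; group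
          _ = b 1 * b 1 * (b 2 * b 3 * (c 1 0 * (b 2 * b 3))) * c 2 0 := by rw [z1 (b 3)]; group
          _ = b 1 * b 1 * (b 2 * b 3 * (b 2 * b 3)) * c 1 0 * c 2 0 := by rw [z1 (b 2 * b 3)]; group
          _ = s * c 2 0 := by rw [w1, hs 1, mul_assoc s, hZ2 _ (hcZ 1 0), mul_one]
      calc (b 0 * b 1 * b 2 * b 3) * (b 0 * b 1 * b 2 * b 3)
          = b 0 * b 1 * b 2 * (b 3 * b 0) * (b 1 * b 2 * b 3) := by group
        _ = b 0 * b 1 * (b 2 * b 0) * b 3 * (c 2 0 * (b 1 * b 2 * b 3)) := by rw [m30]; group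
        _ = b 0 * (b 1 * b 0) * b 2 * (c 2 0 * b 3) * (b 1 * b 2 * b 3 * c 2 0) := by rw [m20, z2 (b 1 * b 2 * b 3)]; group
        _ = b 0 * b 0 * b 1 * (c 1 0 * (b 2 * b 3)) * (c 2 0 * (b 1 * b 2 * b 3 * c 2 0)) := by
          rw [m10, z2 (b 3)]; group
        _ = s * (b 1 * b 2 * b 3 * (c 1 0 * (b 1 * b 2 * b 3))) * (c 2 0 * c 2 0) := by
          rw [z1 (b 2 * b 3), z2 (b 1 * b 2 * b 3 * c 2 0), hsdef]; group
        _ = s * (b 1 * b 2 * b 3 * (b 1 * b 2 * b 3)) * c 1 0 := by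
          rw [z1 (b 1 * b 2 * b 3), hZ2 _ (hcZ 2 0)]; group
        _ = c 1 0 * c 2 0 := by
          rw [w2, ← mul_assoc s s, hZ2 s hsZ, one_mul]; exact z2 _
    exact hu.symm.trans hcomp
  refine ⟨{
    b := b
    σ := σ
    c1 := c 1 0
    c2 := c 2 0
    z1 := hZcen _ (hcZ 1 0)
    z2 := hZcen _ (hcZ 2 0)
    o1 := hZ2 _ (hcZ 1 0)
    o2 := hZ2 _ (hcZ 2 0)
    sq := fun i => (hs i).trans hsc
    shift := hshift
    s5 := hσ5
    r10 := hsw 1 0
    r20 := hsw 2 0
    r30 := by rw [hsw 3 0, e20]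
    r21 := by rw [hsw 2 1, show c 2 1 = c 1 0 from hcs 1 0]
    r31 := by rw [hsw 3 1, show c 3 1 = c 2 0 from hcs 2 0]
    r32 := by rw [hsw 3 2, show c 3 2 = c 1 0 from (hcs 2 1).trans (hcs 1 0)]
    r4 := ?_
    gen := ?_ }⟩
  · rw [eq_inv_of_mul_eq_one_right hprod]
    have hu := hs 4
    rw [eq_inv_of_mul_eq_one_right hprod, hsc, ← _root_.mul_inv_rev] at hu
    refine inv_eq_of_mul_eq_one_right ?_
    rw [← mul_assoc, ← hu, mul_inv_cancel]
  · set K := Subgroup.closure ({b 0, σ} : Set G) with hKdef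
    have hb0 : b 0 ∈ K := Subgroup.subset_closure (Or.inl rfl)
    have hσK : σ ∈ K := Subgroup.subset_closure (Or.inr rfl)
    let W : Subgroup V := (K.map π).subgroupOf V
    have hW : W = ⊤ := by
      rcases inv_card W (fun w hw => by
        rw [Subgroup.mem_subgroupOf] at hw ⊢
        rw [hαv]
        exact mul_mem (mul_mem (Subgroup.mem_map_of_mem π hσK) hw) (inv_mem (Subgroup.mem_map_of_mem π hσK))) with h | h
      · exfalso
        have hbW : (⟨π (b 0), Subgroup.mem_map_of_mem π (hbT 0)⟩ : V) ∈ W := Subgroup.mem_map_of_mem π hb0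
        rw [h, Subgroup.mem_bot] at hbW
        have := (hmk _).1 (congrArg Subtype.val hbW)
        refine haZ ?_
        have e : a = b 0 * p⁻¹ := by show a = a * p * p⁻¹; group
        rw [e]; exact mul_mem this (inv_mem hpZ)
      · exact h
    have hTK : T ≤ K ⊔ Z := fun t ht => by
      have : (⟨π t, Subgroup.mem_map_of_mem π ht⟩ : V) ∈ W := hW ▸ Subgroup.mem_top _
      obtain ⟨k, hk, e⟩ := Subgroup.mem_subgroupOf.1 this
      rw [Subgroup.mem_sup_of_normal_right]
      exact ⟨k, hk, k⁻¹ * t, (hmk _).1 (by rw [map_mul, map_inv, show π k = π t from e, inv_mul_cancel]), by group⟩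
    have hKZ : K ⊔ Z = ⊤ := by
      rw [eq_top_iff, ← hdec]
      refine sup_le ((Subgroup.closure_le _).2 ?_) hTK
      rintro _ rfl
      exact Subgroup.mem_sup_left hσK
    have hTK' : T ≤ K := by
      rw [hTdef, commutator_def, ← hKZ, Subgroup.commutator_le]
      intro x hx y hy
      rw [Subgroup.mem_sup_of_normal_right] at hx hy
      obtain ⟨k, hk, z, hz, rfl⟩ := hx
      obtain ⟨k', hk', z', hz', rfl⟩ := hy
      have e : ⁅k * z, k' * z'⁆ = ⁅k, k'⁆ := by
        simp only [commutatorElement_def, _root_.mul_inv_rev]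
        have c1 := hZcen z hz
        have c2 := hZcen z' hz'
        calc k * z * (k' * z') * (z⁻¹ * k⁻¹) * (z'⁻¹ * k'⁻¹)
            = k * (z * (k' * z')) * z⁻¹ * k⁻¹ * z'⁻¹ * k'⁻¹ := by group
          _ = k * k' * (z' * k⁻¹) * z'⁻¹ * k'⁻¹ := by rw [c1]; group
          _ = k * k' * k⁻¹ * k'⁻¹ := by rw [c2]; group
      rw [e]
      exact mul_mem (mul_mem (mul_mem hk hk') (inv_mem hk)) (inv_mem hk')
    rw [eq_top_iff, ← hdec]
    refine sup_le ((Subgroup.closure_le _).2 ?_) hTK'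
    rintro _ rfl
    exact hσK

/-- Uniqueness. -/
theorem iso_of_good {H : Type*} [Group H] [Finite G] [Finite H] (hG : Good G) (hH : Good H) : Nonempty (G ≃* H) := by
  obtain ⟨R⟩ := exists_rel hG
  obtain ⟨S⟩ := exists_rel hH
  exact iso_of_rel R S hG.1 hH.1

end Cfsg.Agent.TwoFive
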