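import Cfsg.Agent.Lib.Grp.ZasOdd
import Cfsg.Agent.Lib.Char.Perm

/-!
# Zassenhaus groups with inverted odd two-point stabilizer: classes avoiding the kernel

Counting pairs of involutions by their products shows that at least as many classes avoid the
kernel as the order of the two-point stabilizer.
-/

set_option autoImplicit false

namespace Cfsg.Agent.Grp.ZasS

open MulAction Cfsg.Agent.Block.Zas

universe u v

variable {G : Type u} {Ω : Type v} [Group G] [MulAction G Ω] [Finite G]

omit [Finite G] in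
/-- An element commuting with a nontrivial element of `F` lies in `F`. -/
theorem centralizer_le_F [Finite G] (D : Frame G Ω) {u : G} (hu : u ∈ D.F) (hu1 : u ≠ 1) :
    Subgroup.centralizer ({u} : Set G) ≤ D.F := by
  intro g hg
  have hc : g * u = u * g := Subgroup.mem_centralizer_singleton_iff.mp hg
  have huniq : ∀ y : Ω, u • y = y → y = D.a := fun y hy => by
    by_contra hya
    exact hu1 (D.F_inj hu D.F.one_mem hya (by rw [hy, one_smul]))
  have hga : g • D.a = D.a := huniq _ (by rw [← mul_smul, ← hc, mul_smul, D.F_fix u hu])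
  by_contra hgF
  obtain ⟨c, hca, hgc⟩ := exists_fixed_of_not_mem D hga hgF
  have huc : u • c ≠ c := fun e => hca (huniq c e)
  have hguc : g • u • c = u • c := by rw [← mul_smul, hc, mul_smul, hgc]
  exact hgF (D.free3 g D.a c (u • c) hca.symm huc.symm (D.F_ne hu hca).symm hga hgc hguc ▸ D.F.one_mem)

/-- Products of two involutions in the kernel come from involutions of the kernel. -/
theorem real_mem_F (D : Frame G Ω) (hodd : Odd (Nat.card D.H)) {u : G} (hu : u ∈ D.F) (hu1 : u ≠ 1)
    {x : G} (hx : orderOf x = 2) (hinv : x * u * x = u⁻¹) : x ∈ D.F := by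
  have hx2 : x * x = 1 := by rw [← sq, ← hx, pow_orderOf_eq_one]
  have hfix : u • x • D.a = x • D.a := by
    have e : u * x = x * u⁻¹ := by
      rw [← hinv]
      calc u * x = (x * x) * u * x := by rw [hx2, one_mul]
        _ = _ := by group
    rw [← mul_smul, e, mul_smul, inv_smul_eq_iff.2 (D.F_fix u hu).symm]
  have huniq : ∀ y : Ω, u • y = y → y = D.a := fun y hy => by
    by_contra hya
    exact hu1 (D.F_inj hu D.F.one_mem hya (by rw [hy, one_smul]))
  refine mem_F_of_coprime D (huniq _ hfix) ?_
  rw [hx]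
  exact Nat.coprime_two_left.mpr hodd

/-- The involutions of `F` are conjugate under the two-point stabilizer. -/
theorem card_involutions_F (D : Frame G Ω) (hn : 2 ≤ Nat.card D.F) (hs : Swaps D)
    (hodd : Odd (Nat.card D.H)) :
    Nat.card {x : G // orderOf x = 2 ∧ x ∈ D.F} ≤ Nat.card D.H := by
  rcases isEmpty_or_nonempty {x : G // orderOf x = 2 ∧ x ∈ D.F} with h | ⟨x, hx, hxF⟩
  · simp
  refine Nat.card_le_card_of_surjective (fun h : D.H => (⟨(h : G) * x * (h : G)⁻¹,
    ((SemiconjBy.conj_mk (h : G) x).orderOf_eq _).symm.trans hx, D.H_conj h.2 hxF⟩ :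
      {x : G // orderOf x = 2 ∧ x ∈ D.F})) ?_
  rintro ⟨y, hy, hyF⟩
  obtain ⟨g, hg⟩ := involutions_conj D hn hs hodd hx hy
  have hga : g • D.a = D.a := by
    refine involution_fix D hodd hy ?_ (D.F_fix y hyF)
    rw [← hg, mul_smul, mul_smul, inv_smul_smul, D.F_fix x hxF]
  obtain ⟨u, hu, k, hk, e⟩ := D.decomp hga
  refine ⟨⟨k, hk⟩, Subtype.ext ?_⟩
  have hkx : k * x * k⁻¹ ∈ D.F := D.H_conj hk hxF
  have hc : (k * x * k⁻¹) * u = u * (k * x * k⁻¹) := involution_central D hn hs hodd hkx
    (((SemiconjBy.conj_mk k x).orderOf_eq k).symm.trans hx) u hu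
  show k * x * k⁻¹ = y
  rw [← hg, e]
  calc k * x * k⁻¹ = u * (k * x * k⁻¹) * u⁻¹ := by rw [← hc, mul_inv_cancel_right]
    _ = _ := by group

/-- At least `|H|` classes contain no element of `F`. -/
theorem classes_avoiding (D : Frame G Ω) (hn : 2 ≤ Nat.card D.F) (hH : D.H ≠ ⊥) (hs : Swaps D)
    (hodd : Odd (Nat.card D.H)) (hlt : Nat.card D.H < Nat.card D.F) :
    Nat.card D.H ≤ Nat.card {C : ConjClasses G // ∀ g : G, ConjClasses.mk g = C → g ∉ D.F} := by
  classical
  haveI := Fintype.ofFinite G
  haveI := Fintype.ofFinite (ConjClasses G)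
  set M := Nat.card {C : ConjClasses G // ∀ g : G, ConjClasses.mk g = C → g ∉ D.F} with hM
  set I := Finset.univ.filter fun x : G => orderOf x = 2 with hI
  have hmemI : ∀ {x : G}, x ∈ I ↔ orderOf x = 2 := fun {x} => by simp [hI]
  have hsq : ∀ {x : G}, x ∈ I → x * x = 1 := fun {x} hx => by
    rw [← sq, ← hmemI.mp hx, pow_orderOf_eq_one]
  set r : G → ℕ := fun z => (I.filter fun x => x * z ∈ I).card with hr
  have htotal : I.card * I.card = ∑ z : G, r z := by
    have h1 : ∀ x ∈ I, ∑ z : G, (if x * z ∈ I then 1 else 0) = I.card := by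
      intro x _
      rw [← Finset.card_filter]
      exact Finset.card_equiv (Equiv.mulLeft x) fun z => by simp
    simp only [hr, Finset.card_filter]
    rw [Finset.sum_comm, Finset.sum_congr rfl h1, Finset.sum_const, smul_eq_mul]
  have hinvz : ∀ x z : G, x ∈ I → x * z ∈ I → x * z * x = z⁻¹ := by
    intro x z hx hxz
    have h1 := hsq hxz
    calc x * z * x = (x * z * (x * z)) * z⁻¹ := by group
      _ = z⁻¹ := by rw [h1, one_mul]
  have hbound : ∀ z : G, r z ≤ Nat.card (Subgroup.centralizer ({z} : Set G)) := by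
    intro z
    rcases (I.filter fun x => x * z ∈ I).eq_empty_or_nonempty with h | ⟨x₀, hx₀⟩
    · simp [hr, h]
    rw [Finset.mem_filter] at hx₀
    have h0 := hinvz x₀ z hx₀.1 hx₀.2
    rw [Nat.card_eq_fintype_card]
    refine Finset.card_le_card_of_injOn
      (t := (Finset.univ : Finset (Subgroup.centralizer ({z} : Set G))))
      (fun x => if hx : x₀ * x ∈ Subgroup.centralizer ({z} : Set G) then ⟨x₀ * x, hx⟩ else 1)
      (fun _ _ => Finset.mem_univ _) ?_
    have hmem : ∀ x ∈ I.filter (fun x => x * z ∈ I),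
        x₀ * x ∈ Subgroup.centralizer ({z} : Set G) := by
      intro x hx
      rw [Finset.mem_filter] at hx
      have h1 := hinvz x z hx.1 hx.2
      rw [Subgroup.mem_centralizer_singleton_iff]
      have hxi : x⁻¹ = x := inv_eq_of_mul_eq_one_right (hsq hx.1)
      have hx0i : x₀⁻¹ = x₀ := inv_eq_of_mul_eq_one_right (hsq hx₀.1)
      calc x₀ * x * z = x₀ * (x * z * x) * x⁻¹ := by group
        _ = x₀ * z⁻¹ * x := by rw [h1, hxi]
        _ = (x₀ * z * x₀)⁻¹ * (x₀ * x) := by
          rw [h0, inv_inv]
          calc x₀ * z⁻¹ * x = x₀ * (x₀ * z * x₀) * x := by rw [h0]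
            _ = (x₀ * x₀) * z * (x₀ * x) := by group
            _ = _ := by rw [hsq hx₀.1, one_mul]
        _ = z * (x₀ * x) := by rw [h0, inv_inv]
    intro x hx y hy e
    simp only [dif_pos (hmem x hx), dif_pos (hmem y hy)] at e
    exact mul_left_cancel (congrArg Subtype.val e)
  set P : ConjClasses G → Prop := fun C => ∀ g : G, ConjClasses.mk g = C → g ∉ D.F with hP
  have hout : ∑ z ∈ Finset.univ.filter (fun z : G => P (ConjClasses.mk z)), r z ≤ Nat.card G * M := by
    refine le_trans (Finset.sum_le_sum fun z _ => hbound z) (le_of_eq ?_)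
    have h := Cfsg.Agent.Char.sum_centralizer_card (G := G) P
    rw [← Finset.sum_filter, ← Nat.cast_sum, ← Nat.cast_mul, Nat.cast_inj] at h
    exact h
  set nI := (Finset.univ.filter fun z : G => orderOf z = 2 ∧ z ∈ D.F).card with hnI
  have hnI' : nI ≤ Nat.card D.H := by
    refine le_trans (le_of_eq ?_) (card_involutions_F D hn hs hodd)
    rw [hnI, Nat.card_eq_fintype_card, Fintype.card_subtype]
  have hin : ∑ z ∈ Finset.univ.filter (fun z : G => ¬ P (ConjClasses.mk z)), r z ≤
      I.card + (if nI = 0 then 0 else I.card * (nI - 1)) := by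
    have hone : (1 : G) ∈ Finset.univ.filter (fun z : G => ¬ P (ConjClasses.mk z)) :=
      Finset.mem_filter.mpr ⟨Finset.mem_univ _, fun h => h 1 rfl D.F.one_mem⟩
    rw [← Finset.add_sum_erase _ _ hone]
    refine Nat.add_le_add (le_of_eq ?_) ?_
    · show (I.filter fun x => x * 1 ∈ I).card = I.card
      congr 1
      exact Finset.filter_true_of_mem fun x hx => by rwa [mul_one]
    have key : ∀ z ∈ (Finset.univ.filter (fun z : G => ¬ P (ConjClasses.mk z))).erase 1,
        r z ≤ if z ∈ I then nI - 1 else 0 := by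
      intro z hz
      obtain ⟨hz1, hz2⟩ := Finset.mem_erase.mp hz
      have hz3 := (Finset.mem_filter.mp hz2).2
      simp only [hP, not_forall, not_not] at hz3
      obtain ⟨u, hu, huF⟩ := hz3
      obtain ⟨g, hg⟩ := isConj_iff.mp (ConjClasses.mk_eq_mk_iff_isConj.mp hu)
      have hu1 : u ≠ 1 := fun e => hz1 (by rw [← hg, e]; group)
      -- involutions of a pair lie in the kernel after conjugation
      have hF : ∀ x ∈ I, x * z ∈ I → g⁻¹ * x * g ∈ D.F ∧ g⁻¹ * (x * z) * g ∈ D.F := by
        intro x hx hxz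
        have hcj : ∀ w : G, orderOf w = 2 → orderOf (g⁻¹ * w * g) = 2 := fun w hw => by
          have h := ((SemiconjBy.conj_mk g⁻¹ w).orderOf_eq g⁻¹).symm
          rw [inv_inv] at h
          exact h.trans hw
        have hinv' : g⁻¹ * x * g * u * (g⁻¹ * x * g) = u⁻¹ := by
          calc g⁻¹ * x * g * u * (g⁻¹ * x * g) = g⁻¹ * (x * (g * u * g⁻¹) * x) * g := by group
            _ = g⁻¹ * z⁻¹ * g := by rw [hg, hinvz x z hx hxz]
            _ = u⁻¹ := by rw [← hg]; group
        have hxF := real_mem_F D hodd huF hu1 (hcj x (hmemI.mp hx)) hinv'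
        refine ⟨hxF, ?_⟩
        rw [show g⁻¹ * (x * z) * g = (g⁻¹ * x * g) * u by rw [← hg]; group]
        exact mul_mem hxF huF
      split_ifs with hzI
      · have huI : orderOf u = 2 := by
          have h := (SemiconjBy.conj_mk g u).orderOf_eq g
          rw [hg] at h
          exact h.trans (hmemI.mp hzI)
        have hcard : ((Finset.univ.filter fun w : G => orderOf w = 2 ∧ w ∈ D.F).erase u).card = nI - 1 :=
          Finset.card_erase_of_mem (Finset.mem_filter.mpr ⟨Finset.mem_univ _, huI, huF⟩)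
        rw [← hcard]
        refine Finset.card_le_card_of_injOn (fun x => g⁻¹ * x * g) ?_
          (fun x _ y _ e => mul_left_cancel (mul_right_cancel e))
        intro x hx
        simp only [Finset.coe_filter, Set.mem_ofPred_eq] at hx
        refine Finset.mem_coe.mpr (Finset.mem_erase.mpr ⟨fun e => ?_, Finset.mem_filter.mpr
          ⟨Finset.mem_univ _, ?_, (hF x hx.1 hx.2).1⟩⟩)
        · have hxz : x = z := by
            calc x = g * (g⁻¹ * x * g) * g⁻¹ := by group
              _ = z := by rw [show g⁻¹ * x * g = u from e, hg]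
          have h2 := hmemI.mp hx.2
          rw [hxz, hsq hzI, orderOf_one] at h2
          omega
        · have h := ((SemiconjBy.conj_mk g⁻¹ x).orderOf_eq g⁻¹).symm
          rw [inv_inv] at h
          exact h.trans (hmemI.mp hx.1)
      · refine le_of_eq (Finset.card_eq_zero.mpr (Finset.filter_eq_empty_iff.mpr fun x hx hxz => hzI ?_))
        have hinvol : ∀ w ∈ I, g⁻¹ * w * g ∈ D.F → orderOf (g⁻¹ * w * g) = 2 := fun w hw _ => by
          have h := ((SemiconjBy.conj_mk g⁻¹ w).orderOf_eq g⁻¹).symm
          rw [inv_inv] at h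
          exact h.trans (hmemI.mp hw)
        obtain ⟨h1, h2⟩ := hF x hx hxz
        have hc := involution_central D hn hs hodd h1 (hinvol x hx h1) _ h2
        have hcomm : x * (x * z) = x * z * x := by
          calc x * (x * z) = g * ((g⁻¹ * x * g) * (g⁻¹ * (x * z) * g)) * g⁻¹ := by group
            _ = g * ((g⁻¹ * (x * z) * g) * (g⁻¹ * x * g)) * g⁻¹ := by rw [hc]
            _ = x * z * x := by group
        rw [← mul_assoc, hsq hx, one_mul, hinvz x z hx hxz] at hcomm
        refine hmemI.mpr (orderOf_eq_prime ?_ hz1)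
        rw [sq]; nth_rewrite 1 [hcomm]; exact inv_mul_cancel z
    refine le_trans (Finset.sum_le_sum key) ?_
    rw [← Finset.sum_filter, Finset.sum_const, smul_eq_mul]
    split_ifs with h0
    · simp [h0]
    · refine Nat.mul_le_mul_right _ (Finset.card_le_card fun z hz => ?_)
      exact (Finset.mem_filter.mp hz).2
  have hall := Finset.sum_filter_add_sum_filter_not (Finset.univ : Finset G)
    (fun z => P (ConjClasses.mk z)) r
  have hN : I.card = if Even (Nat.card D.F) then Nat.card D.H * (Nat.card D.F + 1)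
      else Nat.card D.H * Nat.card D.F := by
    rw [← card_involutions D hn hs hodd, Nat.card_eq_fintype_card, Fintype.card_subtype, hI]
  have hmain : I.card * I.card ≤ I.card + (if nI = 0 then 0 else I.card * (nI - 1)) +
      Nat.card G * M := by
    rw [htotal, ← hall]; omega
  rw [D.card_group] at hmain
  by_contra hcon
  push Not at hcon
  obtain ⟨e, he⟩ : ∃ e, Nat.card D.H = e + 1 := ⟨Nat.card D.H - 1, by omega⟩
  have hMe : M ≤ e := by omega
  by_cases hev : Even (Nat.card D.F)
  · rw [if_pos hev] at hN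
    have hb : I.card + (if nI = 0 then 0 else I.card * (nI - 1)) ≤ I.card * (e + 1) := by
      split_ifs
      · nlinarith
      · have := Nat.mul_le_mul_left I.card (show nI - 1 ≤ e by omega)
        rw [Nat.mul_succ]; omega
    rw [hN, he] at hmain hb
    have h2 : ((e + 1) * (Nat.card D.F + 1)) * ((e + 1) * (Nat.card D.F + 1)) ≤
        ((e + 1) * (Nat.card D.F + 1)) * (e + 1 + Nat.card D.F * e) := by
      have := Nat.mul_le_mul_left ((Nat.card D.F + 1) * (Nat.card D.F * (e + 1))) hMe
      nlinarith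
    have h3 := Nat.le_of_mul_le_mul_left h2 (Nat.mul_pos (Nat.succ_pos e) (Nat.succ_pos _))
    nlinarith
  · rw [if_neg hev] at hN
    have hnI0 : nI = 0 := by
      rw [hnI, Finset.card_eq_zero, Finset.filter_eq_empty_iff]
      rintro z - ⟨hz, hzF⟩
      exact hev (even_iff_two_dvd.mpr (hz ▸ Subgroup.orderOf_dvd_natCard D.F hzF))
    rw [if_pos hnI0, add_zero, hN, he] at hmain
    have h2 : ((e + 1) * Nat.card D.F) * ((e + 1) * Nat.card D.F) ≤
        ((e + 1) * Nat.card D.F) * (1 + (Nat.card D.F + 1) * e) := by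
      have := Nat.mul_le_mul_left ((Nat.card D.F + 1) * (Nat.card D.F * (e + 1))) hMe
      nlinarith
    have h3 := Nat.le_of_mul_le_mul_left h2 (Nat.mul_pos (Nat.succ_pos e) (by omega))
    nlinarith

end Cfsg.Agent.Grp.ZasS
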