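import Cfsg.Agent.Lib.Grp.ZasSimple
import Cfsg.Agent.Lib.Block.Zas.Chars

/-!
# Simple Zassenhaus groups with two-point stabilizers of odd order: counting

Involutions, their centralizers, and elements without fixed points.
-/

set_option autoImplicit false

namespace Cfsg.Agent.Grp.ZasS

open MulAction Cfsg.Agent.Block.Zas

universe u v

variable {G : Type u} {Ω : Type v} [Group G] [MulAction G Ω] [Finite G]

/-- Every element exchanging `a` and `b` is an involution inverting the two-point stabilizer. -/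
def Swaps (D : Frame G Ω) : Prop :=
  ∀ s : G, s • D.a = D.b → s • D.b = D.a → s * s = 1 ∧ ∀ h ∈ D.H, s * h * s⁻¹ = h⁻¹

omit [Finite G] in
/-- The conditions for conjugates to fix or exchange transported points. -/
theorem conj_smul {g x : G} {c d c' d' : Ω} (hc : g • c = c') (hd : g • d = d') :
    (g * x * g⁻¹) • c' = d' ↔ x • c = d := by
  rw [mul_smul, mul_smul, ← hc, inv_smul_smul, ← hd]
  exact ⟨fun h => smul_left_cancel g h, fun h => congrArg (g • ·) h⟩

theorem coprime_F_H (D : Frame G Ω) (hn : 2 ≤ Nat.card D.F) :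
    (Nat.card D.F).Coprime (Nat.card D.H) := by
  refine Nat.coprime_of_dvd fun p hp h1 h2 => ?_
  have := Nat.dvd_sub h1 (h2.trans D.card_H_dvd)
  rw [show Nat.card D.F - (Nat.card D.F - 1) = 1 by omega] at this
  exact hp.one_lt.ne' (Nat.dvd_one.mp this)

/-- An element of the point stabilizer whose order is prime to the two-point stabilizer is in `F`. -/
theorem mem_F_of_coprime (D : Frame G Ω) {g : G} (hg : g • D.a = D.a)
    (hcop : (orderOf g).Coprime (Nat.card D.H)) : g ∈ D.F := by
  obtain ⟨u, hu, h, hh, e⟩ := D.decomp hg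
  let g' : stabilizer G D.a := ⟨g, hg⟩
  have ht : D.toH g' = ⟨h, hh⟩ := D.toH_spec hu hh g' e
  have hd : orderOf (⟨h, hh⟩ : D.H) ∣ Nat.gcd (orderOf g) (Nat.card D.H) :=
    Nat.dvd_gcd (by rw [← ht]; exact (orderOf_map_dvd D.toH g').trans (dvd_of_eq (Subgroup.orderOf_coe g').symm))
      (orderOf_dvd_natCard _)
  rw [hcop, Nat.dvd_one, orderOf_eq_one_iff] at hd
  rw [e, show h = 1 from congrArg Subtype.val hd, mul_one]
  exact hu

/-- An element of the point stabilizer outside `F` fixes another point. -/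
theorem exists_fixed_of_not_mem (D : Frame G Ω) {g : G} (hg : g • D.a = D.a) (hF : g ∉ D.F) :
    ∃ c : Ω, c ≠ D.a ∧ g • c = c := by
  obtain ⟨u, hu, h, hh, rfl⟩ := D.decomp hg
  have hh1 : h ≠ 1 := fun e => hF (by rw [e, mul_one]; exact hu)
  let c : D.F → D.F := fun v =>
    v * ⟨h * (v : G)⁻¹ * h⁻¹, D.H_conj hh (inv_mem v.2)⟩
  have hinj : Function.Injective c := by
    intro v w e
    have e' : (v : G) * (h * (v : G)⁻¹ * h⁻¹) = w * (h * (w : G)⁻¹ * h⁻¹) := congrArg Subtype.val e
    have e2 : h * ((w : G)⁻¹ * v) * h⁻¹ = (w : G)⁻¹ * v := by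
      calc h * ((w : G)⁻¹ * v) * h⁻¹
          = (w : G)⁻¹ * (w * (h * (w : G)⁻¹ * h⁻¹)) * (h * (v : G) * h⁻¹) := by group
        _ = (w : G)⁻¹ * v := by rw [← e']; group
    rcases D.fpf hh (mul_mem (inv_mem w.2) v.2) e2 with e3 | e3
    · exact Subtype.ext (inv_mul_eq_one.mp e3).symm
    · exact absurd e3 hh1
  obtain ⟨v, hv⟩ := Finite.injective_iff_surjective.mp hinj ⟨u, hu⟩
  have e : (v : G) * (h * (v : G)⁻¹ * h⁻¹) = u := congrArg Subtype.val hv
  refine ⟨(v : G) • D.b, D.F_ne v.2 D.b_ne, ?_⟩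
  rw [← e, ← mul_smul, show (v : G) * (h * (v : G)⁻¹ * h⁻¹) * h * v = v * h by group, mul_smul,
    hh.2]

/-- A subgroup of the point stabilizer of the order of `F` fixing no further point is `F`. -/
theorem eq_F (D : Frame G Ω) (K : Subgroup G) (hKa : K ≤ stabilizer G D.a)
    (hcard : Nat.card D.F ≤ Nat.card K) (hfix : ∀ u ∈ K, u ≠ 1 → ∀ c : Ω, u • c = c → c = D.a) :
    K = D.F := by
  refine Subgroup.eq_of_le_of_card_ge (fun u hu => ?_) hcard
  by_contra hF
  obtain ⟨c, hca, hc⟩ := exists_fixed_of_not_mem D (hKa hu) hF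
  exact hca (hfix u hu (fun e => hF (e ▸ D.F.one_mem)) c hc)

/-- Elements exchanging `a` and `b` are conjugate under the two-point stabilizer. -/
theorem swap_conj (D : Frame G Ω) (hn : 2 ≤ Nat.card D.F) (hs : Swaps D)
    (hodd : Odd (Nat.card D.H)) {s t : G} (hsa : s • D.a = D.b) (hsb : s • D.b = D.a)
    (hta : t • D.a = D.b) (htb : t • D.b = D.a) : ∃ k ∈ D.H, k * s * k⁻¹ = t := by
  obtain ⟨hs2, hinv⟩ := hs s hsa hsb
  have hw : t * s⁻¹ ∈ D.H := D.swap_mul ⟨hsa, hsb⟩ ⟨hta, htb⟩
  obtain ⟨m, hm⟩ := exists_pow_eq_self_of_coprime (x := t * s⁻¹) (n := 2)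
    (Nat.Coprime.coprime_dvd_right (Subgroup.orderOf_dvd_natCard D.H hw)
      (Nat.coprime_two_left.mpr hodd))
  set k := (t * s⁻¹) ^ m with hk
  have hkH : k ∈ D.H := pow_mem hw m
  refine ⟨k, hkH, ?_⟩
  have h1 : s * k⁻¹ * s⁻¹ = k := by rw [hinv _ (inv_mem hkH), inv_inv]
  calc k * s * k⁻¹ = k * (s * k⁻¹ * s⁻¹) * s := by group
    _ = k * k * s := by rw [h1]
    _ = t := by rw [hk, ← pow_add, ← two_mul, pow_mul, hm, inv_mul_cancel_right]

/-- Elements exchanging two given points are involutions. -/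
theorem swap_involution (D : Frame G Ω) (hn : 2 ≤ Nat.card D.F) (hs : Swaps D)
    {x : G} {c d : Ω} (hcd : c ≠ d) (h1 : x • c = d) (h2 : x • d = c) : orderOf x = 2 := by
  obtain ⟨g, hgc, hgd⟩ := D.two hcd D.hab
  have e := (hs _ ((conj_smul hgc hgd).mpr h1) ((conj_smul hgd hgc).mpr h2)).1
  have : x * x = 1 := by
    calc x * x = g⁻¹ * ((g * x * g⁻¹) * (g * x * g⁻¹)) * g := by group
      _ = 1 := by rw [e]; group
  exact orderOf_eq_prime (by rw [sq]; exact this) fun e' => hcd (by rwa [e', one_smul] at h1)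

/-- An involution can be moved to exchange `a` and `b`. -/
theorem exists_to_swap (D : Frame G Ω) (hn : 2 ≤ Nat.card D.F) {x : G} (hx : orderOf x = 2) :
    ∃ g : G, (g * x * g⁻¹) • D.a = D.b ∧ (g * x * g⁻¹) • D.b = D.a := by
  have hx2 : x * x = 1 := by rw [← sq, ← hx, pow_orderOf_eq_one]
  obtain ⟨c, hc⟩ : ∃ c : Ω, x • c ≠ c := by
    by_contra h
    push Not at h
    rw [D.faithful hn h, orderOf_one] at hx
    omega
  obtain ⟨g, hgc, hgd⟩ := D.two hc.symm D.hab
  exact ⟨g, (conj_smul hgc hgd).mpr rfl,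
    (conj_smul hgd hgc).mpr (by rw [← mul_smul, hx2, one_smul])⟩

/-- All involutions are conjugate. -/
theorem involutions_conj (D : Frame G Ω) (hn : 2 ≤ Nat.card D.F) (hs : Swaps D)
    (hodd : Odd (Nat.card D.H)) {x y : G} (hx : orderOf x = 2) (hy : orderOf y = 2) :
    ∃ g : G, g * x * g⁻¹ = y := by
  obtain ⟨g, ga, gb⟩ := exists_to_swap D hn hx
  obtain ⟨g', ga', gb'⟩ := exists_to_swap D hn hy
  obtain ⟨k, -, hk⟩ := swap_conj D hn hs hodd ga gb ga' gb'
  refine ⟨g'⁻¹ * k * g, ?_⟩
  calc g'⁻¹ * k * g * x * (g'⁻¹ * k * g)⁻¹ = g'⁻¹ * (k * (g * x * g⁻¹) * k⁻¹) * g' := by group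
    _ = y := by rw [hk]; group

/-- An involution fixes at most one point. -/
theorem involution_fix (D : Frame G Ω) (hodd : Odd (Nat.card D.H)) {x : G} (hx : orderOf x = 2)
    {c d : Ω} (hc : x • c = c) (hd : x • d = d) : c = d := by
  by_contra hcd
  obtain ⟨g, hgc, hgd⟩ := D.two hcd D.hab
  have hmem : g * x * g⁻¹ ∈ D.H := ⟨(conj_smul hgc hgc).mpr hc, (conj_smul hgd hgd).mpr hd⟩
  have h2 : orderOf (g * x * g⁻¹) = 2 := ((SemiconjBy.conj_mk g x).orderOf_eq g).symm.trans hx
  exact (Nat.not_even_iff_odd.mpr hodd)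
    (even_iff_two_dvd.mpr (h2 ▸ Subgroup.orderOf_dvd_natCard D.H hmem))

theorem stab_card_mul (D : Frame G Ω) (c : Ω) :
    Nat.card Ω * Nat.card (stabilizer G c) = Nat.card G := by
  haveI : IsPretransitive G Ω := ⟨D.transitive⟩
  rw [← index_stabilizer_of_transitive G c, Subgroup.index_mul_card]

/-- The number of involutions, with the parity of the degree. -/
theorem card_involutions (D : Frame G Ω) (hn : 2 ≤ Nat.card D.F) (hs : Swaps D)
    (hodd : Odd (Nat.card D.H)) :
    Nat.card {x : G // orderOf x = 2} =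
      if Even (Nat.card D.F) then Nat.card D.H * (Nat.card D.F + 1)
      else Nat.card D.H * Nat.card D.F := by
  classical
  haveI := D.finite_points
  haveI := Fintype.ofFinite Ω
  haveI := Fintype.ofFinite G
  set I := Finset.univ.filter fun x : G => orderOf x = 2 with hI
  have hNI : Nat.card {x : G // orderOf x = 2} = I.card := by
    rw [Nat.card_eq_fintype_card, Fintype.card_subtype]
  have hΩ : Fintype.card Ω = Nat.card D.F + 1 := by rw [← Nat.card_eq_fintype_card, D.card_points]
  set f0 := if Even (Nat.card D.F) then 1 else 0 with hf0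
  have hfix : ∀ x ∈ I, (Finset.univ.filter fun c : Ω => x • c = c).card = f0 := by
    intro x hx
    have hx' := (Finset.mem_filter.mp hx).2
    have hle : (Finset.univ.filter fun c : Ω => x • c = c).card ≤ 1 :=
      Finset.card_le_one.mpr fun c hc d hd =>
        involution_fix D hodd hx' (Finset.mem_filter.mp hc).2 (Finset.mem_filter.mp hd).2
    haveI := Fact.mk Nat.prime_two
    have hP : IsPGroup 2 (Subgroup.zpowers x) :=
      IsPGroup.of_card (n := 1) (by rw [Nat.card_zpowers, hx', pow_one])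
    have h1 := hP.card_modEq_card_fixedPoints Ω
    have h4 : fixedPoints (Subgroup.zpowers x) Ω = {c : Ω | x • c = c} := by
      ext c
      constructor
      · exact fun hc => hc ⟨x, Subgroup.mem_zpowers _⟩
      · rintro hc ⟨u, hu⟩
        exact (Subgroup.zpowers_le.2 (show x ∈ stabilizer G c from hc)) hu
    rw [h4, Nat.card_eq_fintype_card, Nat.card_coe_set_eq, Set.ncard_eq_toFinset_card',
      Set.toFinset_ofPred, hΩ] at h1
    have h1' : (Nat.card D.F + 1) % 2 = (Finset.univ.filter fun c : Ω => x • c = c).card % 2 := h1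
    rw [hf0]
    split_ifs with he
    · obtain ⟨m, hm⟩ := he; omega
    · obtain ⟨m, hm⟩ := Nat.not_even_iff_odd.mp he; omega
  have hfib : ∀ c d : Ω, c ≠ d →
      (I.filter fun x => x • c = d).card = Nat.card D.H := by
    intro c d hcd
    obtain ⟨g, hgc, hgd⟩ := D.two hcd D.hab
    rw [← D.card_swap, Nat.card_eq_fintype_card, Fintype.card_subtype]
    refine Finset.card_equiv (MulAut.conj g).toEquiv fun x => ?_
    simp only [hI, Finset.mem_filter, Finset.mem_univ, true_and, MulEquiv.toEquiv_eq_coe,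
      MulEquiv.coe_toEquiv, MulAut.conj_apply]
    rw [conj_smul hgc hgd, conj_smul hgd hgc]
    refine ⟨fun ⟨h2, h1⟩ => ⟨h1, ?_⟩, fun ⟨h1, h2⟩ => ⟨swap_involution D hn hs hcd h1 h2, h1⟩⟩
    have hx2 : x * x = 1 := by rw [← sq, ← h2, pow_orderOf_eq_one]
    rw [← h1, ← mul_smul, hx2, one_smul]
  have hrow : ∀ c : Ω, (I.filter fun x => x • c ≠ c).card = Nat.card D.F * Nat.card D.H := by
    intro c
    rw [Finset.card_eq_sum_card_fiberwise (f := fun x => x • c) (t := Finset.univ.erase c)
      (fun x hx => Finset.mem_erase.mpr ⟨(Finset.mem_filter.mp hx).2, Finset.mem_univ _⟩)]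
    rw [Finset.sum_congr rfl (g := fun _ => Nat.card D.H) fun d hd => ?_, Finset.sum_const,
      Finset.card_erase_of_mem (Finset.mem_univ _), Finset.card_univ, hΩ, smul_eq_mul,
      Nat.add_sub_cancel]
    have hdc : d ≠ c := (Finset.mem_erase.mp hd).1
    rw [← hfib c d hdc.symm, Finset.filter_filter]
    congr 1
    refine Finset.filter_congr fun x _ => ⟨fun h => h.2, fun h => ⟨fun e => hdc (h.symm.trans e), h⟩⟩
  have hsum : I.card * (Nat.card D.F + 1 - f0) =
      (Nat.card D.F + 1) * (Nat.card D.F * Nat.card D.H) := by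
    have h1 : ∑ x ∈ I, (Finset.univ.filter fun c : Ω => x • c ≠ c).card =
        ∑ c : Ω, (I.filter fun x => x • c ≠ c).card := by
      simp only [Finset.card_filter]
      exact Finset.sum_comm
    rw [Finset.sum_congr rfl (fun c _ => hrow c), Finset.sum_const, Finset.card_univ, hΩ,
      smul_eq_mul] at h1
    rw [← h1, Finset.sum_congr rfl (g := fun _ => Nat.card D.F + 1 - f0), Finset.sum_const,
      smul_eq_mul]
    intro x hx
    have := Finset.card_filter_add_card_filter_not (s := (Finset.univ : Finset Ω))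
      (fun c : Ω => x • c = c)
    rw [hfix x hx, Finset.card_univ, hΩ] at this
    simp only [ne_eq]
    omega
  rw [hNI]
  rw [hf0] at hsum
  split_ifs with he
  · rw [if_pos he, Nat.add_sub_cancel] at hsum
    exact Nat.eq_of_mul_eq_mul_right (show 0 < Nat.card D.F by omega) (hsum.trans (by ring))
  · rw [if_neg he, Nat.sub_zero] at hsum
    exact Nat.eq_of_mul_eq_mul_right (show 0 < Nat.card D.F + 1 by omega) (hsum.trans (by ring))

/-- An involution of `F` is central in `F`. -/
theorem involution_central (D : Frame G Ω) (hn : 2 ≤ Nat.card D.F) (hs : Swaps D)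
    (hodd : Odd (Nat.card D.H)) {x : G} (hx : x ∈ D.F) (hx2 : orderOf x = 2) :
    ∀ u ∈ D.F, x * u = u * x := by
  classical
  haveI := Fintype.ofFinite G
  have heven : Even (Nat.card D.F) := even_iff_two_dvd.mpr (hx2 ▸ Subgroup.orderOf_dvd_natCard D.F hx)
  set C : Subgroup G := Subgroup.centralizer {x} with hC
  have hmem : ∀ g : G, g ∈ C ↔ g * x * g⁻¹ = x := fun g => by
    rw [hC, Subgroup.mem_centralizer_singleton_iff, mul_inv_eq_iff_eq_mul]
  have hcard : Nat.card C = Nat.card D.F := by
    have h := Nat.card_congr (orbitProdStabilizerEquivGroup (ConjAct G) x)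
    have e1 : Nat.card (orbit (ConjAct G) x) = Nat.card {y : G // orderOf y = 2} := by
      refine Nat.card_congr (Equiv.subtypeEquivRight fun y => ?_)
      constructor
      · rintro ⟨g, rfl⟩
        show orderOf (g • x) = 2
        rw [ConjAct.smul_def]
        exact ((SemiconjBy.conj_mk _ x).orderOf_eq _).symm.trans hx2
      · intro hy
        obtain ⟨g, hg⟩ := involutions_conj D hn hs hodd hx2 hy
        exact ⟨ConjAct.toConjAct g, by show ConjAct.toConjAct g • x = y; rw [ConjAct.toConjAct_smul]; exact hg⟩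
    have e2 : Nat.card (stabilizer (ConjAct G) x) = Nat.card C := by
      refine Nat.card_congr (Equiv.subtypeEquiv ConjAct.ofConjAct.toEquiv fun g => ?_)
      rw [hmem, mem_stabilizer_iff, ConjAct.smul_def]
      rfl
    rw [Nat.card_prod, e1, e2, card_involutions D hn hs hodd, if_pos heven,
      show Nat.card (ConjAct G) = Nat.card G from rfl, D.card_group] at h
    refine Nat.eq_of_mul_eq_mul_left (show 0 < Nat.card D.H * (Nat.card D.F + 1) from
      Nat.mul_pos Nat.card_pos (by omega)) (h.trans (by ring))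
  have hle : C ≤ D.F := fun g hg => by
    have hxga : x • g • D.a = g • D.a := by
      have e := (hmem g).mp hg
      rw [← mul_smul, ← mul_inv_eq_iff_eq_mul.mp e, mul_smul, D.F_fix x hx]
    refine mem_F_of_coprime D (involution_fix D hodd hx2 hxga (D.F_fix x hx)) ?_
    exact (coprime_F_H D hn).coprime_dvd_left (hcard ▸ Subgroup.orderOf_dvd_natCard C hg)
  have hCF := Subgroup.eq_of_le_of_card_ge hle hcard.ge
  intro u hu
  rw [← hCF, hC, Subgroup.mem_centralizer_singleton_iff] at hu
  exact hu.symm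

/-- Two times the number of elements without fixed points. -/
theorem card_derangements [Fintype G] [Fintype Ω] [DecidableEq Ω] (D : Frame G Ω) (hn : 2 ≤ Nat.card D.F) :
    2 * (Finset.univ.filter fun g : G => ∀ c : Ω, g • c ≠ c).card +
      Nat.card D.F * (Nat.card D.F - 1) = Nat.card G := by
  classical
  have hΩ : Fintype.card Ω = Nat.card D.F + 1 := by rw [← Nat.card_eq_fintype_card, D.card_points]
  set f : G → ℕ := fun g => (Finset.univ.filter fun c : Ω => g • c = c).card with hf
  have h1 : ∑ g : G, f g = Nat.card G := by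
    simp only [hf, Finset.card_filter]
    rw [Finset.sum_comm]
    have hc : ∀ c : Ω, ∑ g : G, (if g • c = c then 1 else 0) = Nat.card (stabilizer G c) := fun c => by
      rw [← Finset.card_filter, Nat.card_eq_fintype_card, ← Fintype.card_subtype]
      exact Fintype.card_congr (Equiv.subtypeEquivRight fun g => Iff.rfl)
    rw [Finset.sum_congr rfl fun c _ => hc c]
    refine Nat.eq_of_mul_eq_mul_left (show 0 < Nat.card Ω from by rw [D.card_points]; omega) ?_
    rw [Finset.mul_sum, Finset.sum_congr rfl fun c _ => stab_card_mul D c, Finset.sum_const,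
      Finset.card_univ, smul_eq_mul, Nat.card_eq_fintype_card (α := Ω)]
  have h2 : ∑ g : G, (f g * f g - f g) = Nat.card G := by
    have e : ∀ g : G, f g * f g - f g =
        ((Finset.univ : Finset Ω).offDiag.filter fun p => g • p.1 = p.1 ∧ g • p.2 = p.2).card := by
      intro g
      rw [hf, ← Finset.offDiag_card]
      congr 1
      ext ⟨c, d⟩
      simp only [Finset.mem_offDiag, Finset.mem_filter, Finset.mem_univ, true_and]
      tauto
    rw [Finset.sum_congr rfl fun g _ => e g]
    simp only [Finset.card_filter]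
    rw [Finset.sum_comm, Finset.sum_congr rfl (g := fun _ => Nat.card D.H), Finset.sum_const,
      Finset.offDiag_card, Finset.card_univ, hΩ, smul_eq_mul, D.card_group]
    · rw [← mul_assoc]
      congr 1
      rw [add_one_mul, Nat.add_sub_cancel_right, mul_comm]
    · intro p hp
      obtain ⟨g, hgc, hgd⟩ := D.two (Finset.mem_offDiag.mp hp).2.2 D.hab
      rw [← Finset.card_filter, Nat.card_eq_fintype_card, ← Fintype.card_subtype]
      refine Fintype.card_congr (Equiv.subtypeEquiv (MulAut.conj g).toEquiv fun x => ?_)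
      simp only [MulEquiv.toEquiv_eq_coe, MulEquiv.coe_toEquiv, MulAut.conj_apply]
      rw [D.mem_H, conj_smul hgc hgc, conj_smul hgd hgd]
  have hone : f 1 = Nat.card D.F + 1 := by simp [hf, hΩ]
  have key : ∀ g : G, f g * f g - f g + 2 =
      2 * f g + 2 * (if ∀ c : Ω, g • c ≠ c then 1 else 0) +
        (if g = 1 then Nat.card D.F * (Nat.card D.F - 1) else 0) := by
    intro g
    by_cases hg : g = 1
    · subst hg
      have hd : ¬ ∀ c : Ω, (1 : G) • c ≠ c := fun h => h D.a (one_smul _ _)
      rw [if_neg hd, if_pos rfl, hone]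
      obtain ⟨m, hm⟩ := Nat.exists_eq_add_of_le hn
      rw [hm, show 2 + m + 1 = m + 3 by omega, show (2 + m) - 1 = m + 1 by omega,
        show (m + 3) * (m + 3) - (m + 3) = m * m + 5 * m + 6 from
          Nat.sub_eq_of_eq_add (by ring)]
      ring
    rw [if_neg hg]
    have hle : f g ≤ 2 := by
      by_contra h
      push Not at h
      obtain ⟨x, hx, y, hy, z, hz, hxy, hxz, hyz⟩ := Finset.two_lt_card.mp h
      simp only [Finset.mem_filter, Finset.mem_univ, true_and] at hx hy hz
      exact hg (D.free3 g x y z hxy hyz hxz hx hy hz)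
    have h0 : (∀ c : Ω, g • c ≠ c) ↔ f g = 0 := by
      simp [hf, Finset.filter_eq_empty_iff]
    simp only [h0]
    interval_cases f g <;> simp
  have hs := Finset.sum_congr (rfl : (Finset.univ : Finset G) = _) fun g _ => key g
  rw [Finset.sum_add_distrib, Finset.sum_add_distrib, Finset.sum_add_distrib, h2,
    Finset.sum_ite_eq', ← Finset.mul_sum, ← Finset.mul_sum, h1, ← Finset.card_filter,
    Finset.sum_const, Finset.card_univ, smul_eq_mul, if_pos (Finset.mem_univ _),
    ← Nat.card_eq_fintype_card] at hs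
  omega

end Cfsg.Agent.Grp.ZasS
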