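import Cfsg.Agent.Lib.Grp.ZasClasses
import Cfsg.Agent.Lib.Char.Complete

/-!
# Zassenhaus groups: characters induced from linear characters of a point stabilizer
-/

set_option autoImplicit false

namespace Cfsg.Agent.Grp.ZasS

open MulAction Cfsg Cfsg.Agent.Block.Zas
open scoped ComplexConjugate

universe u v

variable {G : Type u} {Ω : Type v} [Group G] [MulAction G Ω] [Fintype G]

/-- A linear character of the two-point stabilizer, read on the point stabilizer and induced. -/
noncomputable def psi (D : Frame G Ω) (l : D.H →* ℂˣ) : G → ℂ :=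
  indFun (stabilizer G D.a) (fun g => (l (D.toH g) : ℂ))

theorem psi_classFun (D : Frame G Ω) (l : D.H →* ℂˣ) : IsClassFunction G (psi D l) :=
  Char.indFun_classFun _ _

theorem psi_isChar (D : Frame G Ω) (l : D.H →* ℂˣ) : IsCharacter G (psi D l) :=
  Char.isCharacter_indFun _ (Char.IsIrr.isCharacter (Char.isIrr_linear (l.comp D.toH)))

theorem psi_one (D : Frame G Ω) (l : D.H →* ℂˣ) : psi D l 1 = (Nat.card D.F : ℂ) + 1 := by
  rw [psi, Char.indFun_one_eq, D.index_stab, map_one, map_one, Units.val_one, mul_one, Nat.cast_succ]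

omit [Fintype G] in
theorem toH_F (D : Frame G Ω) (g : stabilizer G D.a) (hg : (g : G) ∈ D.F) : D.toH g = 1 :=
  D.toH_spec hg D.H.one_mem g (mul_one _).symm

omit [Fintype G] in
theorem toH_H (D : Frame G Ω) (g : stabilizer G D.a) (hg : (g : G) ∈ D.H) : D.toH g = ⟨g, hg⟩ :=
  D.toH_spec D.F.one_mem hg g (one_mul _).symm

theorem count_to (D : Frame G Ω) (c : Ω) [DecidablePred fun x : G => x • D.a = c] :
    ((Finset.univ.filter fun x : G => x • D.a = c).card : ℂ) = Nat.card (stabilizer G D.a) := by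
  classical
  obtain ⟨k, hk⟩ := D.transitive D.a c
  rw [Nat.card_eq_fintype_card, ← Fintype.card_subtype]
  congr 1
  refine Fintype.card_congr (Equiv.subtypeEquiv (Equiv.mulLeft k⁻¹) fun x => ?_)
  rw [Equiv.coe_mulLeft, mem_stabilizer_iff, mul_smul, inv_smul_eq_iff, hk]

theorem ext_zero (D : Frame G Ω) (θ : stabilizer G D.a → ℂ) (g x : G)
    (h : g • (x • D.a) ≠ x • D.a) : extendByZero (stabilizer G D.a) θ (x⁻¹ * g * x) = 0 := by
  refine Char.extendByZero_not_mem _ fun e => h ?_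
  have e' := mem_stabilizer_iff.mp e
  rwa [mul_smul, mul_smul, inv_smul_eq_iff] at e'

theorem ext_conj (D : Frame G Ω) (l : D.H →* ℂˣ) (g x : G) (hg : g ∈ stabilizer G D.a)
    (hx : x ∈ stabilizer G D.a) :
    extendByZero (stabilizer G D.a) (fun g => (l (D.toH g) : ℂ)) (x⁻¹ * g * x) =
      (l (D.toH ⟨g, hg⟩) : ℂ) := by
  have e : x⁻¹ * g * x =
      (((⟨x, hx⟩ : stabilizer G D.a)⁻¹ * ⟨g, hg⟩ * ⟨x, hx⟩ : stabilizer G D.a) : G) := rfl
  rw [e, Char.extendByZero_apply]
  simp only [map_mul, map_inv]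
  rw [mul_comm (l (D.toH ⟨x, hx⟩))⁻¹, inv_mul_cancel_right]

theorem psi_F (D : Frame G Ω) (l : D.H →* ℂˣ) {u : G} (hu : u ∈ D.F) (hu1 : u ≠ 1) :
    psi D l u = 1 := by
  classical
  have hterm : ∀ x : G, extendByZero (stabilizer G D.a) (fun g => (l (D.toH g) : ℂ)) (x⁻¹ * u * x) =
      if x • D.a = D.a then 1 else 0 := by
    intro x
    split_ifs with h
    · rw [ext_conj D l u x (D.F_fix u hu) h, toH_F D _ hu, map_one, Units.val_one]
    · exact ext_zero D _ u x fun e => hu1 (D.F_inj hu D.F.one_mem h (by rw [e, one_smul]))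
  rw [psi, indFun, Finset.sum_congr rfl fun x _ => hterm x, Finset.sum_boole, count_to D,
    inv_mul_cancel₀ (Nat.cast_ne_zero.mpr Nat.card_pos.ne')]

theorem psi_H (D : Frame G Ω) (hs : Swaps D) (l : D.H →* ℂˣ) (h : D.H) (hh : h ≠ 1) :
    psi D l h = (l h : ℂ) + ((l h)⁻¹ : ℂˣ) := by
  classical
  obtain ⟨s, hsa, hsb⟩ := D.two D.hab D.b_ne
  obtain ⟨hs2, hsinv⟩ := hs s hsa hsb
  have hh1 : (h : G) ≠ 1 := fun e => hh (Subtype.ext e)
  have hterm : ∀ x : G,
      extendByZero (stabilizer G D.a) (fun g => (l (D.toH g) : ℂ)) (x⁻¹ * (h : G) * x) =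
      (if x • D.a = D.a then (l h : ℂ) else 0) +
        (if x • D.a = D.b then (((l h)⁻¹ : ℂˣ) : ℂ) else 0) := by
    intro x
    by_cases h1 : x • D.a = D.a
    · rw [if_pos h1, if_neg (fun e => D.hab (h1.symm.trans e)), add_zero,
        ext_conj D l (h : G) x h.2.1 h1, toH_H D _ h.2]
    by_cases h2 : x • D.a = D.b
    · rw [if_neg h1, if_pos h2, zero_add]
      have hy : s * x ∈ stabilizer G D.a := by
        rw [mem_stabilizer_iff, mul_smul, h2, hsb]
      have e : x⁻¹ * (h : G) * x = (s * x)⁻¹ * (h : G)⁻¹ * (s * x) := by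
        rw [← hsinv (h : G) h.2]; group
      rw [e, ext_conj D l (h : G)⁻¹ (s * x) (inv_mem h.2.1) hy, toH_H D _ (inv_mem h.2), ← map_inv]
      rfl
    · rw [if_neg h1, if_neg h2, add_zero]
      refine ext_zero D _ _ x fun e => ?_
      rcases D.fix_only h.2 hh1 e with e' | e'
      exacts [h1 e', h2 e']
  rw [psi, indFun, Finset.sum_congr rfl fun x _ => hterm x, Finset.sum_add_distrib,
    ← Finset.sum_filter, ← Finset.sum_filter, Finset.sum_const, Finset.sum_const, nsmul_eq_mul,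
    nsmul_eq_mul, count_to D, count_to D, ← mul_add, ← mul_assoc,
    inv_mul_cancel₀ (Nat.cast_ne_zero.mpr Nat.card_pos.ne'), one_mul]

/-- The translates of a non-trivial element of the two-point stabilizer by `F` are its conjugates. -/
theorem exists_conj_eq_mul (D : Frame G Ω) {u h : G} (hu : u ∈ D.F) (hh : h ∈ D.H) (hh1 : h ≠ 1) :
    ∃ v ∈ D.F, v * h * v⁻¹ = u * h := by
  let c : D.F → D.F := fun v =>
    v * ⟨h * (v : G)⁻¹ * h⁻¹, D.H_conj hh (inv_mem v.2)⟩
  have hinj : Function.Injective c := by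
    intro v w e
    have e' : (v : G) * (h * (v : G)⁻¹ * h⁻¹) = w * (h * (w : G)⁻¹ * h⁻¹) := congrArg Subtype.val e
    have e2 : h * ((w : G)⁻¹ * v) * h⁻¹ = (w : G)⁻¹ * v := by
      calc h * ((w : G)⁻¹ * v) * h⁻¹
          = (w : G)⁻¹ * (w * (h * (w : G)⁻¹ * h⁻¹)) * (h * (v : G) * h⁻¹) := by group
        _ = (w : G)⁻¹ * v := by rw [← e']; group
    rcases D.fpf hh (mul_mem (inv_mem w.2) v.2) e2 with e3 | e3
    · exact Subtype.ext (inv_mul_eq_one.mp e3).symm
    · exact absurd e3 hh1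
  obtain ⟨v, hv⟩ := Finite.injective_iff_surjective.mp hinj ⟨u, hu⟩
  refine ⟨v, v.2, ?_⟩
  have e : (v : G) * (h * (v : G)⁻¹ * h⁻¹) = u := congrArg Subtype.val hv
  rw [← e]
  group

/-- The sum of a class function over a coset of `F`. -/
noncomputable def cosetSum (D : Frame G Ω) (χ : G → ℂ) (h : D.H) : ℂ :=
  haveI := Fintype.ofFinite D.F
  ∑ u : D.F, conj (χ ((u : G) * (h : G)))

theorem cosetSum_eq (D : Frame G Ω) [Fintype D.F] (χ : G → ℂ) (h : D.H) :
    cosetSum D χ h = ∑ u : D.F, conj (χ ((u : G) * (h : G))) := by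
  classical
  rw [cosetSum]
  congr!

theorem cosetSum_ne (D : Frame G Ω) {χ : G → ℂ} (hχ : IsClassFunction G χ) {h : D.H} (hh : h ≠ 1) :
    cosetSum D χ h = (Nat.card D.F : ℂ) * conj (χ (h : G)) := by
  classical
  rw [cosetSum_eq D, Finset.sum_congr rfl (g := fun _ => conj (χ (h : G))) fun u _ => ?_,
    Finset.sum_const, Finset.card_univ, nsmul_eq_mul, Nat.card_eq_fintype_card]
  obtain ⟨v, -, e⟩ := exists_conj_eq_mul D u.2 h.2 fun e => hh (Subtype.ext e)
  rw [← e, hχ]

/-- Inner products with the induced characters as sums over the two-point stabilizer. -/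
theorem inner_psi (D : Frame G Ω) [Fintype D.H] (l : D.H →* ℂˣ) {χ : G → ℂ}
    (hχ : IsClassFunction G χ) :
    classInner (psi D l) χ = ((Nat.card D.F : ℂ) * Nat.card D.H)⁻¹ *
      ∑ h : D.H, (l h : ℂ) * cosetSum D χ h := by
  classical
  haveI := Fintype.ofFinite D.F
  haveI := Fintype.ofFinite (stabilizer G D.a)
  rw [psi, Char.classInner_indFun _ _ hχ, classInner, D.card_stab, Nat.cast_mul]
  congr 1
  have hmem : ∀ x : D.F × D.H, (x.1 : G) * x.2 ∈ stabilizer G D.a := fun x =>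
    mem_stabilizer_iff.mpr (by rw [mul_smul, x.2.2.1, D.F_fix _ x.1.2])
  rw [← Fintype.sum_equiv (Equiv.ofBijective (fun x : D.F × D.H =>
      (⟨(x.1 : G) * x.2, hmem x⟩ : stabilizer G D.a)) ⟨fun x y e => by
        obtain ⟨e1, e2⟩ := D.decomp_unique x.1.2 y.1.2 x.2.2 y.2.2 (congrArg Subtype.val e)
        exact Prod.ext (Subtype.ext e1) (Subtype.ext e2), fun g =>
        ⟨(D.fPart g, ⟨_, D.fPart_inv_mul_mem g⟩), Subtype.ext (mul_inv_cancel_left _ _)⟩⟩)
      (fun x : D.F × D.H => (l x.2 : ℂ) * conj (χ ((x.1 : G) * x.2))) _ (fun x => ?_),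
    Fintype.sum_prod_type, Finset.sum_comm]
  · refine Finset.sum_congr rfl fun h _ => ?_
    rw [cosetSum_eq D, Finset.mul_sum]
  · show _ = (l (D.toH ⟨_, hmem x⟩) : ℂ) * conj (χ ((x.1 : G) * x.2))
    rw [D.toH_spec x.1.2 x.2.2 ⟨_, hmem x⟩ rfl]

theorem norm_psi (D : Frame G Ω) (hs : Swaps D) [Fintype D.H] (l : D.H →* ℂˣ) :
    classInner (psi D l) (psi D l) =
      1 + (Nat.card D.H : ℂ)⁻¹ * ∑ h : D.H, (((l * l) h : ℂˣ) : ℂ) := by
  classical
  haveI := Fintype.ofFinite D.F
  have hF0 : (Nat.card D.F : ℂ) ≠ 0 := Nat.cast_ne_zero.mpr Nat.card_pos.ne'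
  have hH0 : (Nat.card D.H : ℂ) ≠ 0 := Nat.cast_ne_zero.mpr Nat.card_pos.ne'
  have h1 : cosetSum D (psi D l) 1 = 2 * (Nat.card D.F : ℂ) := by
    have hu : ∀ u : D.F, conj (psi D l ((u : G) * ((1 : D.H) : G))) =
        if u = 1 then (Nat.card D.F : ℂ) + 1 else 1 := fun u => by
      rw [OneMemClass.coe_one, mul_one]
      split_ifs with h
      · subst h; rw [OneMemClass.coe_one, psi_one]; simp
      · rw [psi_F D l u.2 fun e => h (Subtype.ext e), map_one]
    rw [cosetSum_eq D, Finset.sum_congr rfl fun u _ => hu u,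
      ← Finset.add_sum_erase _ _ (Finset.mem_univ (1 : D.F)), if_pos rfl,
      Finset.sum_congr rfl fun u hu' => if_neg (Finset.mem_erase.mp hu').1, Finset.sum_const,
      Finset.card_erase_of_mem (Finset.mem_univ _), Finset.card_univ, ← Nat.card_eq_fintype_card,
      nsmul_eq_mul, mul_one, Nat.cast_sub Nat.card_pos]
    push_cast
    ring
  have hconj : ∀ h : D.H, conj (l h : ℂ) = (((l h)⁻¹ : ℂˣ) : ℂ) := fun h => by
    have := (Char.IsIrr.apply_inv (Char.isIrr_linear l) h).symm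
    simpa [map_inv] using this
  have hterm : ∀ h : D.H, (l h : ℂ) * cosetSum D (psi D l) h =
      (Nat.card D.F : ℂ) * (((l * l) h : ℂˣ) : ℂ) + Nat.card D.F := by
    intro h
    by_cases e : h = 1
    · subst e
      rw [h1, map_one, map_one, Units.val_one]
      ring
    · rw [cosetSum_ne D (psi_classFun D l) e, psi_H D hs l h e, map_add, hconj, ← hconj h,
        Complex.conj_conj, hconj h, MonoidHom.mul_apply, Units.val_mul, mul_add, mul_add,
        mul_left_comm (l h : ℂ), Units.mul_inv, mul_one]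
      ring
  rw [inner_psi D l (psi_classFun D l), Finset.sum_congr rfl fun h _ => hterm h,
    Finset.sum_add_distrib, ← Finset.mul_sum, Finset.sum_const, Finset.card_univ,
    ← Nat.card_eq_fintype_card, nsmul_eq_mul]
  field_simp
  ring

/-- An irreducible constituent of an induced character is `1` on `F` or the second constituent of
the permutation character. -/
theorem constituent (D : Frame G Ω) (hs : Swaps D) (hodd : Odd (Nat.card D.H)) (l : D.H →* ℂˣ)
    {χ : G → ℂ} (hχ : IsIrrCharacter G χ) (hne : classInner (psi D l) χ ≠ 0) :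
    (∀ u ∈ D.F, u ≠ 1 → χ u = 1) ∨
      ((∀ u ∈ D.F, u ≠ 1 → χ u = 0) ∧ χ = fun g => psi D 1 g - 1) := by
  classical
  haveI := Fintype.ofFinite D.H
  haveI := Fintype.ofFinite D.F
  have hH0 : (Nat.card D.H : ℂ) ≠ 0 := Nat.cast_ne_zero.mpr Nat.card_pos.ne'
  by_cases hl : l = 1
  swap
  · have hm : l * l ≠ 1 := by
      intro e
      refine hl (MonoidHom.ext fun x => ?_)
      have h2 : (l x) ^ 2 = 1 := by rw [sq]; exact DFunLike.congr_fun e x
      have hd := Nat.dvd_gcd ((orderOf_map_dvd l x).trans (orderOf_dvd_natCard x))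
        (orderOf_dvd_of_pow_eq_one h2)
      rw [(Nat.coprime_two_right.mpr hodd : Nat.gcd (Nat.card D.H) 2 = 1), Nat.dvd_one,
        orderOf_eq_one_iff] at hd
      exact hd
    have h0 := Cfsg.Agent.Block.Zas.linear_sum (l * l) (1 : D.H →* ℂˣ)
    simp only [if_neg hm, MonoidHom.one_apply, Units.val_one, map_one, mul_one] at h0
    have hn : classInner (psi D l) (psi D l) = 1 := by rw [norm_psi D hs l, h0, mul_zero, add_zero]
    have hirr := Char.IsChar.irr_of_norm_one (psi_isChar D l) hn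
    left
    intro u hu hu1
    have e : psi D l = χ := by_contra fun e => hne (Char.classInner_irr_ne hirr hχ e)
    rw [← e, psi_F D l hu hu1]
  subst hl
  have hn : classInner (psi D 1) (psi D 1) = 2 := by
    rw [norm_psi D hs 1]
    have h1 : ∀ x : D.H, ((((1 : D.H →* ℂˣ) * 1) x : ℂˣ) : ℂ) = 1 := fun x => by simp
    rw [Finset.sum_congr rfl fun x _ => h1 x, Finset.sum_const, Finset.card_univ,
      ← Nat.card_eq_fintype_card, nsmul_eq_mul, mul_one, inv_mul_cancel₀ hH0]
    norm_num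
  by_cases hχ1 : χ = fun _ => 1
  · left; intro u _ _; rw [hχ1]
  obtain ⟨a, ha⟩ := Char.IsChar.exists_decomp (psi_isChar D 1)
  let one : IrrCharacter G := ⟨fun _ => 1, Char.isIrr_one⟩
  let φ : IrrCharacter G := ⟨χ, hχ⟩
  have hcoef : ∀ θ : IrrCharacter G, classInner (psi D 1) θ = (a θ : ℂ) := fun θ => by
    conv_lhs => rw [ha]
    exact Char.classInner_sum_irr _ θ
  have ha1 : a one = 1 := by
    have h := hcoef one
    rw [inner_psi D 1 (χ := (one : G → ℂ)) (fun _ _ => rfl)] at h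
    simp only [one, cosetSum_eq, map_one, Finset.sum_const, Finset.card_univ, MonoidHom.one_apply,
      Units.val_one, nsmul_eq_mul, mul_one, one_mul, ← Nat.card_eq_fintype_card] at h
    rw [mul_comm (Nat.card D.F : ℂ) (Nat.card D.H : ℂ), inv_mul_cancel₀ (mul_ne_zero hH0
      (Nat.cast_ne_zero.mpr Nat.card_pos.ne'))] at h
    exact_mod_cast h.symm
  have haφ : a φ ≠ 0 := fun e => hne (by rw [show χ = (φ : G → ℂ) from rfl, hcoef, e, Nat.cast_zero])
  have hsum : ∑ θ : IrrCharacter G, a θ * a θ = 2 := by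
    have h := hn
    rw [ha, Char.classInner_sum_sum] at h
    simp only [map_natCast] at h
    exact_mod_cast h
  have hneq : φ ≠ one := fun e => hχ1 (congrArg Subtype.val e)
  rw [← Finset.add_sum_erase _ _ (Finset.mem_univ one),
    ← Finset.add_sum_erase _ _ (Finset.mem_erase.mpr ⟨hneq, Finset.mem_univ φ⟩), ha1] at hsum
  have hsq : 1 ≤ a φ * a φ := Nat.mul_pos (Nat.pos_of_ne_zero haφ) (Nat.pos_of_ne_zero haφ)
  have haφ1 : a φ = 1 := by
    have : a φ ≤ 1 := by
      by_contra hc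
      push Not at hc
      have := Nat.mul_le_mul hc hc
      omega
    omega
  have hrest : ∀ θ : IrrCharacter G, θ ≠ one → θ ≠ φ → a θ = 0 := fun θ h1 h2 => by
    have h : ∑ x ∈ ((Finset.univ : Finset (IrrCharacter G)).erase one).erase φ, a x * a x = 0 := by
      rw [haφ1] at hsum; omega
    exact mul_self_eq_zero.mp (Finset.sum_eq_zero_iff.mp h θ
      (Finset.mem_erase.mpr ⟨h2, Finset.mem_erase.mpr ⟨h1, Finset.mem_univ _⟩⟩))
  have heq : χ = fun g => psi D 1 g - 1 := by
    funext g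
    rw [ha, Finset.sum_apply, ← Finset.add_sum_erase _ _ (Finset.mem_univ one),
      ← Finset.add_sum_erase _ _ (Finset.mem_erase.mpr ⟨hneq, Finset.mem_univ φ⟩),
      Finset.sum_eq_zero fun θ hθ => by
        rw [hrest θ (Finset.mem_erase.mp (Finset.mem_erase.mp hθ).2).1 (Finset.mem_erase.mp hθ).1]
        simp]
    simp [ha1, haφ1, one, φ]
  exact Or.inr ⟨fun u hu hu1 => by rw [heq]; simp only [psi_F D 1 hu hu1, sub_self], heq⟩

/-- A character orthogonal to all induced linear characters sums to zero on `F` and vanishes on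
the non-trivial elements of the two-point stabilizer. -/
theorem orth_psi (D : Frame G Ω) [IsCyclic D.H] [Fintype D.F] {χ : G → ℂ}
    (hχ : IsClassFunction G χ) (h0 : ∀ l : D.H →* ℂˣ, classInner (psi D l) χ = 0) :
    ∑ u : D.F, χ u = 0 ∧ ∀ h : D.H, h ≠ 1 → χ h = 0 := by
  classical
  letI : CommGroup D.H := { (inferInstance : Group D.H) with
    mul_comm := fun x y => (IsCyclic.commGroup (α := D.H)).mul_comm x y }
  haveI := Fintype.ofFinite D.H
  haveI := Fintype.ofFinite (D.H →* ℂˣ)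
  have hF0 : (Nat.card D.F : ℂ) ≠ 0 := Nat.cast_ne_zero.mpr Nat.card_pos.ne'
  have hH0 : (Nat.card D.H : ℂ) ≠ 0 := Nat.cast_ne_zero.mpr Nat.card_pos.ne'
  have key : ∀ x₀ : D.H, cosetSum D χ x₀ = 0 := by
    intro x₀
    have hl : ∀ l : D.H →* ℂˣ, ∑ x : D.H, (l (x * x₀⁻¹) : ℂ) * cosetSum D χ x = 0 := by
      intro l
      have h := h0 l
      rw [inner_psi D l hχ, mul_eq_zero, inv_eq_zero, mul_eq_zero] at h
      have h' := h.resolve_left fun e => e.elim hF0 hH0
      calc ∑ x : D.H, (l (x * x₀⁻¹) : ℂ) * cosetSum D χ x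
          = (l x₀⁻¹ : ℂ) * ∑ x : D.H, (l x : ℂ) * cosetSum D χ x := by
            rw [Finset.mul_sum]
            exact Finset.sum_congr rfl fun x _ => by rw [map_mul, Units.val_mul]; ring
        _ = 0 := by rw [h', mul_zero]
    have h2 : ∑ x : D.H, (∑ l : D.H →* ℂˣ, (l (x * x₀⁻¹) : ℂ)) * cosetSum D χ x = 0 := by
      simp only [Finset.sum_mul]
      rw [Finset.sum_comm]
      exact Finset.sum_eq_zero fun l _ => hl l
    rw [Finset.sum_eq_single x₀, Cfsg.Agent.Block.Zas.dual_sum,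
      if_pos (mul_inv_cancel x₀)] at h2
    · exact (mul_eq_zero.mp h2).resolve_left hH0
    · intro x _ hx
      rw [Cfsg.Agent.Block.Zas.dual_sum, if_neg fun e => hx (mul_inv_eq_one.mp e), zero_mul]
    · exact fun h => absurd (Finset.mem_univ _) h
  refine ⟨?_, fun h hh => ?_⟩
  · have h := key 1
    rw [cosetSum_eq] at h
    simp only [OneMemClass.coe_one, mul_one, ← map_sum] at h
    exact (map_eq_zero _).mp h
  · have h1 := key h
    rw [cosetSum_ne D hχ hh] at h1
    exact (map_eq_zero _).mp ((mul_eq_zero.mp h1).resolve_left hF0)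

end Cfsg.Agent.Grp.ZasS
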