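import Cfsg.Agent.Lib.Grp.ZasPsi
import Cfsg.Agent.Lib.Char.Integral

/-!
# Zassenhaus groups of even degree minus one: no elements of order three in the two-point stabilizer

Counting solutions of `x * y = z`, with `x` and `y` in the class of an element of order three and
`z` an involution, in two ways bounds the two-point stabilizer from below.
-/

set_option autoImplicit false

namespace Cfsg.Agent.Grp.ZasS

open MulAction Cfsg Cfsg.Agent.Block.Zas
open scoped ComplexConjugate

universe u v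

attribute [local instance 10] Classical.propDecidable

variable {G : Type u} {Ω : Type v} [Group G] [MulAction G Ω] [Fintype G]

/-- An irreducible character summed over a translated conjugacy class. -/
theorem classSum_apply {χ : G → ℂ} (hχ : IsIrrCharacter G χ) (g y : G) :
    ∑ x ∈ (Finset.univ.filter fun x => IsConj g x), χ (x * y) =
      ((Subgroup.centralizer ({g} : Set G)).index : ℂ) * χ g / χ 1 * χ y := by
  obtain ⟨n, ρ, hρ, rfl⟩ := hχ
  have h0 := Char.classSum_eq_centralChar ρ g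
  rw [← Module.End.one_eq_id] at h0
  have h := congrArg (fun f : Module.End ℂ (Fin n → ℂ) => LinearMap.trace ℂ (Fin n → ℂ) (f * ρ y)) h0
  simp only [Finset.sum_mul, smul_mul_assoc, one_mul, map_smul, smul_eq_mul, map_sum] at h
  rw [Representation.char_one]
  refine Eq.trans ?_ h
  refine Finset.sum_congr (Finset.filter_congr fun x _ => Iff.rfl) fun x _ => ?_
  show LinearMap.trace ℂ (Fin n → ℂ) (ρ (x * y)) = _
  rw [map_mul]

/-- A non-principal linear character of an odd cyclic stabilizer induces an irreducible character. -/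
theorem psi_irr (D : Frame G Ω) (hs : Swaps D) (hodd : Odd (Nat.card D.H)) {l : D.H →* ℂˣ}
    (hl : l ≠ 1) : IsIrrCharacter G (psi D l) := by
  haveI := Fintype.ofFinite D.H
  have hm : l * l ≠ 1 := by
    intro e
    refine hl (MonoidHom.ext fun x => ?_)
    have h2 : (l x) ^ 2 = 1 := by rw [sq]; exact DFunLike.congr_fun e x
    have hd := Nat.dvd_gcd ((orderOf_map_dvd l x).trans (orderOf_dvd_natCard x))
      (orderOf_dvd_of_pow_eq_one h2)
    rw [(Nat.coprime_two_right.mpr hodd : Nat.gcd (Nat.card D.H) 2 = 1), Nat.dvd_one,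
      orderOf_eq_one_iff] at hd
    exact hd
  refine Char.IsChar.irr_of_norm_one (psi_isChar D l) ?_
  rw [norm_psi D hs l, Char.linear_sum (l * l) hm, mul_zero, add_zero]

/-- The non-principal constituent of the permutation character. -/
theorem phi_irr (D : Frame G Ω) (hs : Swaps D) :
    IsIrrCharacter G (psi D 1 - fun _ => (1 : ℂ)) := by
  haveI := Fintype.ofFinite D.H
  haveI := Fintype.ofFinite D.F
  have hH0 : (Nat.card D.H : ℂ) ≠ 0 := Nat.cast_ne_zero.mpr Nat.card_pos.ne'
  have hF0 : (Nat.card D.F : ℂ) ≠ 0 := Nat.cast_ne_zero.mpr Nat.card_pos.ne'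
  have h1 : classInner (psi D 1) (fun _ : G => (1 : ℂ)) = 1 := by
    rw [inner_psi D 1 (χ := fun _ : G => (1 : ℂ)) fun _ _ => rfl]
    simp only [cosetSum_eq, map_one, Finset.sum_const, Finset.card_univ, MonoidHom.one_apply,
      Units.val_one, nsmul_eq_mul, mul_one, one_mul, ← Nat.card_eq_fintype_card]
    field_simp
  have h1' : classInner (fun _ : G => (1 : ℂ)) (psi D 1) = 1 := by
    rw [← Char.classInner_conj_symm, h1, map_one]
  have hn : classInner (psi D 1) (psi D 1) = 2 := by
    rw [norm_psi D hs 1]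
    have h : ∀ x : D.H, ((((1 : D.H →* ℂˣ) * 1) x : ℂˣ) : ℂ) = 1 := fun x => by simp
    rw [Finset.sum_congr rfl fun x _ => h x, Finset.sum_const, Finset.card_univ,
      ← Nat.card_eq_fintype_card, nsmul_eq_mul, mul_one, inv_mul_cancel₀ hH0]
    norm_num
  rcases Char.IsGenChar.norm_one (α := psi D 1 - fun _ => (1 : ℂ))
      (Char.IsGenChar.sub (Char.IsGenChar.of_isCharacter (psi_isChar D 1))
      (Char.IsGenChar.of_isCharacter (Char.IsChar.one (G := G)))) (by
      rw [Char.classInner_sub_left, Char.classInner_sub_right, Char.classInner_sub_right, h1, h1', hn,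
        Char.classInner_self_irr (Char.isIrr_one (G := G))]
      norm_num) with h | h
  · exact h
  · exfalso
    obtain ⟨f, hf, hf'⟩ := Char.IsIrr.one_eq_pos h
    simp only [Pi.neg_apply, Pi.sub_apply, psi_one] at hf'
    have : ((f + Nat.card D.F : ℕ) : ℂ) = 0 := by push_cast; linear_combination -hf'
    rw [Nat.cast_eq_zero] at this
    omega

omit [Fintype G] in
theorem mem_H_of_commute [Finite G] (D : Frame G Ω) (hs : Swaps D) {x g : G} (hx : x ∈ D.H) (hx1 : x ≠ 1)
    (hx2 : x * x ≠ 1) (hg : g * x = x * g) : g ∈ D.H := by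
  have hfix : ∀ c : Ω, x • c = c → x • g • c = g • c := fun c hc => by
    rw [← mul_smul, ← hg, mul_smul, hc]
  rcases D.fix_only hx hx1 (hfix _ hx.1) with e | e <;>
    rcases D.fix_only hx hx1 (hfix _ hx.2) with e' | e'
  · exact absurd (smul_left_cancel g (e.trans e'.symm)) D.hab
  · exact ⟨e, e'⟩
  · refine absurd ?_ hx2
    have h := (hs g e e').2 x hx
    rw [hg, mul_inv_cancel_right] at h
    exact mul_eq_one_iff_eq_inv.mpr h
  · exact absurd (smul_left_cancel g (e.trans e'.symm)) D.hab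

/-- If the kernel is a `2`-group, large compared with the two-point stabilizer, then the two-point
stabilizer has no element of order three. -/
theorem not_three (D : Frame G Ω) [IsCyclic D.H] (hn : 2 ≤ Nat.card D.F) (hs : Swaps D)
    (hodd : Odd (Nat.card D.H)) (h2 : IsPGroup 2 D.F)
    (hlt : Nat.card D.H + 1 < Nat.card D.F) : ¬ 3 ∣ Nat.card D.H := by
  intro h3
  haveI := Fact.mk Nat.prime_three
  haveI := Fintype.ofFinite D.H
  haveI := Fintype.ofFinite D.F
  letI : CommGroup D.H := { (inferInstance : Group D.H) with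
    mul_comm := fun x y => (IsCyclic.commGroup (α := D.H)).mul_comm x y }
  haveI := Fintype.ofFinite (D.H →* ℂˣ)
  haveI : NeZero (Monoid.exponent D.H) := ⟨Monoid.exponent_ne_zero_of_finite⟩
  set e := Nat.card D.H with he
  set h := Nat.card D.F with hh
  have he0 : (e : ℂ) ≠ 0 := Nat.cast_ne_zero.mpr Nat.card_pos.ne'
  have hdual : Fintype.card (D.H →* ℂˣ) = e := by
    rw [← Nat.card_eq_fintype_card, CommGroup.card_monoidHom_of_hasEnoughRootsOfUnity D.H ℂ]
  obtain ⟨x, hx⟩ := exists_prime_orderOf_dvd_card' 3 h3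
  set x₀ : G := (x : G) with hx₀
  have hox : orderOf x₀ = 3 := by rw [hx₀, Subgroup.orderOf_coe, hx]
  have hx1 : x ≠ 1 := fun e' => by rw [e', orderOf_one] at hx; omega
  have hx01 : x₀ ≠ 1 := fun e' => hx1 (Subtype.ext e')
  have hx2 : x * x ≠ 1 := fun e' => by
    have := hx ▸ orderOf_dvd_of_pow_eq_one (by rw [sq]; exact e' : x ^ 2 = 1)
    omega
  have hx02 : x₀ * x₀ ≠ 1 := fun e' => hx2 (Subtype.ext e')
  -- the class of `x₀`
  have hcent : Subgroup.centralizer ({x₀} : Set G) = D.H := by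
    refine le_antisymm (fun g hg => mem_H_of_commute D hs x.2 hx01 hx02
      (Subgroup.mem_centralizer_singleton_iff.mp hg)) fun g hg => ?_
    rw [Subgroup.mem_centralizer_singleton_iff]
    exact congrArg Subtype.val (mul_comm (⟨g, hg⟩ : D.H) x)
  have hidx : (Subgroup.centralizer ({x₀} : Set G)).index = (h + 1) * h := by
    rw [hcent]
    refine Nat.eq_of_mul_eq_mul_left (show 0 < e from Nat.card_pos) ?_
    rw [he, D.H.card_mul_index, D.card_group]
    ring
  obtain ⟨w, hwa, hwb⟩ := D.two D.hab D.b_ne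
  have hwinv := (hs w hwa hwb).2
  have hinvC : IsConj x₀ x₀⁻¹ := isConj_iff.mpr ⟨w, hwinv _ x.2⟩
  -- the indicator of the class
  have hdelta : ∀ y : G, ∑ l : D.H →* ℂˣ, (l x⁻¹ : ℂ) * psi D l y =
      if IsConj x₀ y then (e : ℂ) else 0 := by
    have horder : ∀ y, IsConj x₀ y → orderOf y = 3 := fun y hy => by
      obtain ⟨g, hg⟩ := isConj_iff.mp hy
      rw [← hg, ← ((SemiconjBy.conj_mk g x₀).orderOf_eq g), hox]
    have hsum0 : ∀ k : ℂ, ∑ l : D.H →* ℂˣ, (l x⁻¹ : ℂ) * k = 0 := fun k => by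
      rw [← Finset.sum_mul, Cfsg.Agent.Block.Zas.dual_sum, if_neg (fun e' => hx1 (inv_eq_one.mp e')),
        zero_mul]
    have hstab : ∀ y : G, y • D.a = D.a → ∑ l : D.H →* ℂˣ, (l x⁻¹ : ℂ) * psi D l y =
        if IsConj x₀ y then (e : ℂ) else 0 := by
      intro y hy
      by_cases hyF : y ∈ D.F
      · rw [if_neg]
        · by_cases hy1 : y = 1
          · simp only [hy1, psi_one]; exact hsum0 _
          · simp only [psi_F D _ hyF hy1]; exact hsum0 _
        · intro hc
          obtain ⟨k, hk⟩ := IsPGroup.iff_orderOf.mp h2 ⟨y, hyF⟩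
          rw [← Subgroup.orderOf_coe, horder y hc] at hk
          exact absurd (Nat.prime_three.dvd_of_dvd_pow (hk ▸ dvd_rfl : 3 ∣ 2 ^ k)) (by norm_num)
      obtain ⟨u, hu, k, hk, rfl⟩ := D.decomp hy
      have hk1 : k ≠ 1 := fun e' => hyF (by rw [e', mul_one]; exact hu)
      obtain ⟨v, -, hv⟩ := exists_conj_eq_mul D hu hk hk1
      have hcj : IsConj k (u * k) := isConj_iff.mpr ⟨v, hv⟩
      have hval : ∀ l : D.H →* ℂˣ, psi D l (u * k) =
          (l ⟨k, hk⟩ : ℂ) + ((l ⟨k, hk⟩)⁻¹ : ℂˣ) := fun l => by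
        rw [← psi_H D hs l ⟨k, hk⟩ fun e' => hk1 (congrArg Subtype.val e'), ← hv]
        exact (psi_classFun D l k v)
      simp only [hval, mul_add, Finset.sum_add_distrib, ← map_inv, ← Units.val_mul, ← map_mul,
        Cfsg.Agent.Block.Zas.dual_sum]
      have hiff : IsConj x₀ (u * k) ↔ x₀ = k ∨ x₀ = k⁻¹ := by
        refine ⟨fun hc => ?_, ?_⟩
        · obtain ⟨g, hg⟩ := isConj_iff.mp (hc.trans hcj.symm)
          have hfix : ∀ c : Ω, x₀ • c = c → k • g • c = g • c := fun c hc' => by
            rw [← hg, mul_smul, mul_smul, inv_smul_smul, hc']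
          rcases D.fix_only hk hk1 (hfix _ x.2.1) with e1 | e1 <;>
            rcases D.fix_only hk hk1 (hfix _ x.2.2) with e2 | e2
          · exact absurd (smul_left_cancel g (e1.trans e2.symm)) D.hab
          · left
            have := congrArg Subtype.val (mul_comm (⟨g, ⟨e1, e2⟩⟩ : D.H) x)
            rw [← hg]
            simp only [Subgroup.coe_mul] at this
            rw [this, mul_inv_cancel_right]
          · right
            rw [← hg, (hs g e1 e2).2 _ x.2, inv_inv]
          · exact absurd (smul_left_cancel g (e1.trans e2.symm)) D.hab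
        · rintro (rfl | e')
          · exact hcj
          · exact hinvC.trans (by rw [e', inv_inv]; exact hcj)
      by_cases hc : IsConj x₀ (u * k)
      · rw [if_pos hc]
        rcases hiff.mp hc with e' | e'
        · have ek : (⟨k, hk⟩ : D.H) = x := Subtype.ext e'.symm
          rw [ek, if_pos (inv_mul_cancel x), if_neg (fun e2 => hx2 (by
            rw [← mul_inv_rev, inv_eq_one] at e2; exact e2)), add_zero]
        · have ek : (⟨k, hk⟩ : D.H) = x⁻¹ :=
            Subtype.ext (by rw [Subgroup.coe_inv, ← hx₀, e', inv_inv])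
          rw [ek, inv_inv, if_pos (inv_mul_cancel x), if_neg (fun e2 => hx2 (by
            rw [← mul_inv_rev, inv_eq_one] at e2; exact e2)), zero_add]
      · rw [if_neg hc, if_neg fun e' => hc (hiff.mpr (Or.inl ?_)),
          if_neg fun e' => hc (hiff.mpr (Or.inr ?_)), add_zero]
        · exact congrArg Subtype.val (inv_mul_eq_one.mp e')
        · exact congrArg Subtype.val (inv_mul_eq_one.mp e')
    intro y
    by_cases hy : ∃ c : Ω, y • c = c
    · obtain ⟨c, hc⟩ := hy
      obtain ⟨g, hg⟩ := D.transitive c D.a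
      have hy' : (g * y * g⁻¹) • D.a = D.a := (conj_smul hg hg).mpr hc
      have hcj : IsConj y (g * y * g⁻¹) := isConj_iff.mpr ⟨g, rfl⟩
      have hiff : IsConj x₀ (g * y * g⁻¹) ↔ IsConj x₀ y :=
        ⟨fun h' => h'.trans hcj.symm, fun h' => h'.trans hcj⟩
      rw [← if_congr hiff rfl rfl, ← hstab _ hy']
      simp only [psi_classFun D _ y g]
    · push Not at hy
      have hne : ¬ IsConj x₀ y := fun hc => by
        obtain ⟨g, hg⟩ := isConj_iff.mp hc
        exact hy (g • D.a) (by rw [← hg, mul_smul, mul_smul, inv_smul_smul, x.2.1])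
      rw [if_neg hne]
      refine Finset.sum_eq_zero fun l _ => ?_
      rw [psi, indFun, Finset.sum_eq_zero fun g _ => ext_zero D _ y g (hy _), mul_zero, mul_zero]
  -- an involution in the kernel
  obtain ⟨z, hz⟩ : ∃ z : D.F, orderOf z = 2 := by
    haveI := Fact.mk Nat.prime_two
    refine exists_prime_orderOf_dvd_card' 2 ?_
    obtain ⟨k, hk⟩ := IsPGroup.iff_card.mp h2
    rcases k with _ | k
    · rw [pow_zero] at hk; omega
    · exact ⟨2 ^ k, by rw [hk, pow_succ']⟩
  set z₀ : G := (z : G) with hz₀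
  have hzo : orderOf z₀ = 2 := by rw [hz₀, Subgroup.orderOf_coe, hz]
  have hz1 : z₀ ≠ 1 := fun e' => by rw [e', orderOf_one] at hzo; omega
  have hzz : z₀ * z₀ = 1 := by rw [← sq, ← hzo, pow_orderOf_eq_one]
  set C := Finset.univ.filter fun y => IsConj x₀ y with hC
  set A := C.filter fun g => IsConj x₀ (g * z₀) with hA
  have hF0 : (h : ℂ) + 1 ≠ 0 := by exact_mod_cast Nat.succ_ne_zero h
  -- the character count
  have hone : ∑ g ∈ C, psi D 1 (g * z₀) = ((h : ℂ) + 1) * h := by
    have hφ := classSum_apply (phi_irr D hs) x₀ z₀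
    simp only [Pi.sub_apply, psi_F D 1 (u := z₀) z.2 hz1, sub_self, mul_zero, Finset.sum_sub_distrib,
      Finset.sum_const, nsmul_eq_mul, mul_one, sub_eq_zero] at hφ
    rw [hφ, Char.card_conjClass_finset, hidx]
    push_cast; ring
  have hlin : ∀ l : D.H →* ℂˣ, l ≠ 1 →
      ∑ g ∈ C, psi D l (g * z₀) = (h : ℂ) * ((l x : ℂ) + ((l x)⁻¹ : ℂˣ)) := by
    intro l hl
    rw [classSum_apply (psi_irr D hs hodd hl) x₀ z₀, hidx, psi_one, psi_F D l (u := z₀) z.2 hz1,
      psi_H D hs l x hx1, ← hh]
    push_cast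
    field_simp
  have hcount : (A.card : ℂ) * e = (h : ℂ) * ((h : ℂ) + e - 1) := by
    have h1 : (A.card : ℂ) * e = ∑ g ∈ C, ∑ l : D.H →* ℂˣ, (l x⁻¹ : ℂ) * psi D l (g * z₀) := by
      rw [Finset.sum_congr rfl fun g _ => hdelta (g * z₀), ← Finset.sum_filter, Finset.sum_const,
        nsmul_eq_mul]
    rw [h1, Finset.sum_comm]
    simp only [← Finset.mul_sum]
    rw [← Finset.add_sum_erase _ _ (Finset.mem_univ (1 : D.H →* ℂˣ)), hone,
      Finset.sum_congr rfl (g := fun l => (h : ℂ) * (1 + (l (x⁻¹ * x⁻¹) : ℂ))) fun l hl => ?_,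
      ← Finset.mul_sum, Finset.sum_add_distrib, Finset.sum_const, Finset.card_erase_of_mem
      (Finset.mem_univ _), Finset.card_univ, hdual, nsmul_eq_mul, Finset.sum_erase_eq_sub
      (Finset.mem_univ _), Cfsg.Agent.Block.Zas.dual_sum, if_neg fun e' => hx2 (by
        rw [← mul_inv_rev, inv_eq_one] at e'; exact e')]
    · rw [Nat.cast_sub (show 1 ≤ e from Nat.card_pos)]
      simp
      ring
    · rw [hlin l (Finset.ne_of_mem_erase hl), map_mul, Units.val_mul, map_inv]
      have hu : (((l x)⁻¹ : ℂˣ) : ℂ) * (l x : ℂ) = 1 := Units.inv_mul _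
      linear_combination (h : ℂ) * hu
  -- the solutions fix `a`
  have hAle : A.card ≤ 2 * h := by
    haveI : DecidableEq D.H := Classical.decEq _
    set K := (Finset.univ : Finset D.H).filter fun k => k ^ 3 = 1 with hK
    have hK3 : K.card ≤ 3 := IsCyclic.card_pow_eq_one_le (by norm_num)
    have hK1 : (1 : D.H) ∈ K := by simp [hK]
    refine le_trans (Finset.card_le_card (t := ((Finset.univ : Finset D.F) ×ˢ K.erase 1).image
      fun p => (p.1 : G) * (p.2 : G) * (p.1 : G)⁻¹) ?_) (Finset.card_image_le.trans ?_)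
    swap
    · rw [Finset.card_product, Finset.card_univ, ← Nat.card_eq_fintype_card,
        Finset.card_erase_of_mem hK1, Nat.mul_comm]
      exact Nat.mul_le_mul_right _ (by omega)
    intro g hg
    simp only [hA, hC, Finset.mem_filter, Finset.mem_univ, true_and] at hg
    have horder : ∀ y, IsConj x₀ y → orderOf y = 3 := fun y hy => by
      obtain ⟨t, ht⟩ := isConj_iff.mp hy
      rw [← ht, ← ((SemiconjBy.conj_mk t x₀).orderOf_eq t), hox]
    have hg3 : g * g * g = 1 := by
      rw [← sq, ← pow_succ, show 2 + 1 = orderOf g from (horder g hg.1).symm, pow_orderOf_eq_one]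
    have hgz : g * z₀ * (g * z₀) * (g * z₀) = 1 := by
      rw [← sq, ← pow_succ, show 2 + 1 = orderOf (g * z₀) from (horder _ hg.2).symm, pow_orderOf_eq_one]
    set w₁ := g⁻¹ * z₀ * g with hw₁
    have hcomm : z₀ * w₁ = w₁ * z₀ := by
      have hgi : g⁻¹ = g * g := inv_eq_of_mul_eq_one_left hg3
      have e1 : z₀ * g * z₀ = g⁻¹ * z₀ * g⁻¹ := by
        calc z₀ * g * z₀ = g⁻¹ * (g * z₀ * (g * z₀) * (g * z₀)) * (z₀⁻¹ * g⁻¹) := by group
          _ = g⁻¹ * z₀⁻¹ * g⁻¹ := by rw [hgz]; group
          _ = _ := by rw [inv_eq_of_mul_eq_one_right hzz]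
      have e2 : z₀ * g⁻¹ * z₀ = g * z₀ * g := by
        have := congrArg (·⁻¹) e1
        simp only [mul_inv_rev, inv_inv, inv_eq_of_mul_eq_one_right hzz, ← mul_assoc] at this
        exact this
      calc z₀ * w₁ = z₀ * g⁻¹ * z₀ * g := by rw [hw₁]; group
        _ = g * z₀ * g * g := by rw [e2]
        _ = g * z₀ * g⁻¹ := by rw [hgi]; group
        _ = g * g * (g⁻¹ * z₀ * g⁻¹) := by group
        _ = g⁻¹ * (z₀ * g * z₀) := by rw [← e1, hgi]
        _ = w₁ * z₀ := by rw [hw₁]; group
    have hwo : orderOf w₁ = 2 := by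
      rw [hw₁, ← hzo]
      have := ((SemiconjBy.conj_mk g⁻¹ z₀).orderOf_eq g⁻¹)
      rw [inv_inv] at this
      exact this.symm
    have hwa' : w₁ • D.a = D.a := by
      refine involution_fix D hodd hzo ?_ (D.F_fix _ z.2)
      rw [← mul_smul, hcomm, mul_smul, D.F_fix _ z.2]
    have hgia : g⁻¹ • D.a = D.a := by
      refine involution_fix D hodd hwo ?_ hwa'
      rw [hw₁, mul_smul, mul_smul, smul_inv_smul, D.F_fix _ z.2]
    have hga : g • D.a = D.a := (inv_smul_eq_iff.mp hgia).symm
    obtain ⟨u, hu, k, hk, hguk⟩ := D.decomp hga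
    have hk1 : k ≠ 1 := by
      rintro rfl
      rw [mul_one] at hguk
      obtain ⟨j, hj⟩ := IsPGroup.iff_orderOf.mp h2 ⟨u, hu⟩
      rw [← Subgroup.orderOf_coe] at hj
      have hj' : orderOf g = 2 ^ j := hguk.symm ▸ hj
      rw [horder g hg.1] at hj'
      clear hj
      rename' hj' => hj
      exact absurd (Nat.prime_three.dvd_of_dvd_pow (hj ▸ dvd_rfl : 3 ∣ 2 ^ j)) (by norm_num)
    obtain ⟨v, hv, hvk⟩ := exists_conj_eq_mul D hu hk hk1
    refine Finset.mem_image.mpr ⟨(⟨v, hv⟩, ⟨k, hk⟩), Finset.mem_product.mpr ⟨Finset.mem_univ _,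
      Finset.mem_erase.mpr ⟨fun e' => hk1 (congrArg Subtype.val e'), Finset.mem_filter.mpr
        ⟨Finset.mem_univ _, Subtype.ext ?_⟩⟩⟩, hvk.trans hguk.symm⟩
    have : orderOf k = 3 := by
      rw [← horder g hg.1, hguk, ← hvk, ← ((SemiconjBy.conj_mk v k).orderOf_eq v)]
    show k ^ 3 = 1
    rw [← this, pow_orderOf_eq_one]
  have hnat : A.card * e + h = h * (h + e) := by
    have : ((A.card * e + h : ℕ) : ℂ) = ((h * (h + e) : ℕ) : ℂ) := by
      push_cast; linear_combination hcount
    exact_mod_cast this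
  have := Nat.mul_le_mul_right e hAle
  nlinarith

end Cfsg.Agent.Grp.ZasS
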